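import Cfsg.Prelude.Def_Solvable
import Cfsg.Prelude.Def_CaseTheorems
import Mathlib.GroupTheory.Sylow
import Mathlib.GroupTheory.Nilpotent
import Mathlib.GroupTheory.NoncommPiCoprod
import Mathlib.GroupTheory.Frattini

/-!
Basic facts on `Cfsg.pCore`, `Cfsg.pPrimeCore` and `Cfsg.fittingSubgroup`.
-/

set_option autoImplicit false

namespace CfsgLib

open Cfsg

universe u v
variable {G : Type u} [Group G] {H : Type v} [Group H]

/-- The supremum of a finite family of subgroups closed under binary joins. -/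
theorem sSup_prop_of_closed_sup [Finite G] (P : Subgroup G → Prop) (hbot : P ⊥)
    (hsup : ∀ A B, P A → P B → P (A ⊔ B)) {S : Set (Subgroup G)} (hS : ∀ A ∈ S, P A) :
    P (sSup S) := by
  have hfin : S.Finite := Set.toFinite S
  induction S, hfin using Set.Finite.induction_on with
  | empty => simpa using hbot
  | @insert A T _ _ ih =>
    rw [sSup_insert]
    exact hsup _ _ (hS A (Set.mem_insert _ _)) (ih fun B hB => hS B (Set.mem_insert_of_mem _ hB))

/-! ### `pCore` -/

theorem pCore_mem_sup (p : ℕ) {A B : Subgroup G} (hA : A.Normal ∧ IsPGroup p A)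
    (hB : B.Normal ∧ IsPGroup p B) : (A ⊔ B).Normal ∧ IsPGroup p (A ⊔ B : Subgroup G) := by
  have := hA.1; have := hB.1
  exact ⟨inferInstance, IsPGroup.to_sup_of_normal_right hA.2 hB.2⟩

theorem isPGroup_pCore [Finite G] (p : ℕ) : IsPGroup p (pCore p G) :=
  (sSup_prop_of_closed_sup (fun A : Subgroup G => A.Normal ∧ IsPGroup p A)
    ⟨inferInstance, IsPGroup.of_bot⟩ (fun _ _ h₁ h₂ => pCore_mem_sup p h₁ h₂)
    (S := {N : Subgroup G | N.Normal ∧ IsPGroup p N}) (fun _ h => h)).2

theorem le_pCore {p : ℕ} {N : Subgroup G} [hN : N.Normal] (h : IsPGroup p N) : N ≤ pCore p G :=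
  le_sSup ⟨hN, h⟩

theorem pCore_map_equiv (p : ℕ) (e : G ≃* H) : (pCore p G).map e.toMonoidHom = pCore p H := by
  have key : ∀ {A : Type u} {B : Type v} [Group A] [Group B] (f : A ≃* B),
      (pCore p A).map f.toMonoidHom ≤ pCore p B := by
    intro A B _ _ f
    rw [Subgroup.map_le_iff_le_comap]
    refine sSup_le ?_
    rintro N ⟨hN, hp⟩
    rw [← Subgroup.map_le_iff_le_comap]
    exact le_sSup ⟨hN.map f.toMonoidHom f.surjective, hp.map f.toMonoidHom⟩
  refine le_antisymm (key e) ?_
  refine sSup_le ?_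
  rintro N ⟨hN, hp⟩
  refine le_trans (le_of_eq ?_) (Subgroup.map_mono (le_sSup (a := N.map e.symm.toMonoidHom)
    ⟨hN.map e.symm.toMonoidHom e.symm.surjective, hp.map e.symm.toMonoidHom⟩))
  rw [Subgroup.map_map]
  ext x
  simp

instance pCore_characteristic (p : ℕ) : (pCore p G).Characteristic :=
  Subgroup.characteristic_iff_map_eq.mpr fun e => pCore_map_equiv p e

theorem pCore_le_sylow [Finite G] {p : ℕ} [Fact p.Prime] (P : Sylow p G) :
    pCore p G ≤ (P : Subgroup G) := by
  obtain ⟨Q, hQ⟩ := (isPGroup_pCore (G := G) p).exists_le_sylow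
  obtain ⟨g, rfl⟩ := MulAction.exists_smul_eq G Q P
  intro x hx
  have hx' : g⁻¹ * x * g ∈ pCore p G := by
    simpa using (inferInstance : (pCore p G).Normal).conj_mem x hx g⁻¹
  have : g⁻¹ * x * g ∈ (Q : Subgroup G) := hQ hx'
  rw [Sylow.coe_subgroup_smul]
  exact Subgroup.mem_pointwise_smul_iff_inv_smul_mem.mpr (by simpa [MulAut.conj_symm_apply] using this)

theorem sylow_eq_pCore_of_normal [Finite G] {p : ℕ} [Fact p.Prime] (P : Sylow p G)
    [(P : Subgroup G).Normal] : (P : Subgroup G) = pCore p G :=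
  le_antisymm (le_pCore P.isPGroup') (pCore_le_sylow P)

/-! ### `pPrimeCore` -/

theorem card_sup_dvd_mul [Finite G] (A B : Subgroup G) [B.Normal] :
    Nat.card (A ⊔ B : Subgroup G) ∣ Nat.card A * Nat.card B := by
  have h := Subgroup.relIndex_sup_right (K := B) (H := A)
  have h2 : Nat.card (B.subgroupOf (A ⊔ B)) * B.relIndex (A ⊔ B) = Nat.card (A ⊔ B : Subgroup G) :=
    Subgroup.card_mul_index _
  rw [h, Nat.card_congr (Subgroup.subgroupOfEquivOfLe (le_sup_right : B ≤ A ⊔ B)).toEquiv] at h2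
  rw [← h2, mul_comm]
  exact mul_dvd_mul_right (Subgroup.relIndex_dvd_card B A) _

theorem pPrimeCore_mem_sup [Finite G] (p : ℕ) {A B : Subgroup G}
    (hA : A.Normal ∧ (Nat.card A).Coprime p) (hB : B.Normal ∧ (Nat.card B).Coprime p) :
    (A ⊔ B).Normal ∧ (Nat.card (A ⊔ B : Subgroup G)).Coprime p := by
  have := hA.1; have := hB.1
  exact ⟨inferInstance, Nat.Coprime.coprime_dvd_left (card_sup_dvd_mul A B) (hA.2.mul_left hB.2)⟩

theorem card_pPrimeCore_coprime [Finite G] (p : ℕ) : (Nat.card (pPrimeCore p G)).Coprime p :=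
  (sSup_prop_of_closed_sup (fun A : Subgroup G => A.Normal ∧ (Nat.card A).Coprime p)
    ⟨inferInstance, by simp⟩ (fun _ _ h₁ h₂ => pPrimeCore_mem_sup p h₁ h₂)
    (S := {N : Subgroup G | N.Normal ∧ (Nat.card N).Coprime p}) (fun _ h => h)).2

theorem le_pPrimeCore {p : ℕ} {N : Subgroup G} [hN : N.Normal] (h : (Nat.card N).Coprime p) :
    N ≤ pPrimeCore p G :=
  le_sSup ⟨hN, h⟩

theorem not_dvd_card_pPrimeCore [Finite G] {p : ℕ} (hp : p.Prime) :
    ¬ p ∣ Nat.card (pPrimeCore p G) :=
  hp.coprime_iff_not_dvd.mp (card_pPrimeCore_coprime p).symm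

theorem odd_card_oddCore [Finite G] : Odd (Nat.card (oddCore G)) :=
  Nat.coprime_two_right.mp (card_pPrimeCore_coprime 2)

theorem le_oddCore {N : Subgroup G} [N.Normal] (h : Odd (Nat.card N)) : N ≤ oddCore G :=
  le_pPrimeCore (Nat.coprime_two_right.mpr h)

theorem pPrimeCore_map_equiv (p : ℕ) (e : G ≃* H) :
    (pPrimeCore p G).map e.toMonoidHom = pPrimeCore p H := by
  have key : ∀ {A : Type u} {B : Type v} [Group A] [Group B] (f : A ≃* B) (N : Subgroup A),
      Nat.card (N.map f.toMonoidHom) = Nat.card N := fun f N =>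
    Subgroup.card_map_of_injective f.injective
  refine le_antisymm ?_ ?_
  · rw [Subgroup.map_le_iff_le_comap]
    refine sSup_le ?_
    rintro N ⟨hN, hp⟩
    rw [← Subgroup.map_le_iff_le_comap]
    exact le_sSup ⟨hN.map e.toMonoidHom e.surjective, by rwa [key e]⟩
  · refine sSup_le ?_
    rintro N ⟨hN, hp⟩
    refine le_trans (le_of_eq ?_) (Subgroup.map_mono (le_sSup (a := N.map e.symm.toMonoidHom)
      ⟨hN.map e.symm.toMonoidHom e.symm.surjective, by
        rwa [Subgroup.card_map_of_injective e.symm.injective]⟩))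
    rw [Subgroup.map_map]
    ext x
    simp

instance pPrimeCore_characteristic (p : ℕ) : (pPrimeCore p G).Characteristic :=
  Subgroup.characteristic_iff_map_eq.mpr fun e => pPrimeCore_map_equiv p e

/-- A characteristic subgroup of a normal subgroup is normal, and so lies in the ambient core. -/
theorem map_pCore_le [Finite G] (p : ℕ) (N : Subgroup G) [N.Normal] :
    (pCore p N).map N.subtype ≤ pCore p G :=
  le_pCore ((isPGroup_pCore (G := N) p).map N.subtype)

theorem map_pPrimeCore_le [Finite G] (p : ℕ) (N : Subgroup G) [N.Normal] :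
    (pPrimeCore p N).map N.subtype ≤ pPrimeCore p G :=
  le_pPrimeCore (by
    rw [Subgroup.card_map_of_injective N.subtype_injective]
    exact card_pPrimeCore_coprime p)

/-! ### The Fitting subgroup -/

/-- The join of the cores `O_q(G)` over all primes `q`. -/
theorem nilpotent_le_iSup_pCore [Finite G] (N : Subgroup G) [N.Normal] (hN : Group.IsNilpotent N) :
    N ≤ ⨆ p : Nat.Primes, pCore (p : ℕ) G := by
  have h : ∀ (p : ℕ) (_ : Fact p.Prime) (P : Sylow p N), (P : Subgroup N).Normal :=
    ((Group.isNilpotent_of_finite_tfae (G := N)).out 0 3).mp hN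
  have e : (⨆ p : Nat.Primes, ⨆ P : Sylow (p : ℕ) N, (P : Subgroup N)) = ⊤ := by
    apply Subgroup.index_eq_one.mp
    by_contra hne
    obtain ⟨q, hq, hqd⟩ := Nat.exists_prime_and_dvd hne
    have := Fact.mk hq
    obtain ⟨P⟩ : Nonempty (Sylow q N) := inferInstance
    have hle : (P : Subgroup N) ≤ ⨆ p : Nat.Primes, ⨆ P : Sylow (p : ℕ) N, (P : Subgroup N) :=
      le_trans (le_iSup (fun P : Sylow q N => (P : Subgroup N)) P)
        (le_iSup (fun p : Nat.Primes => ⨆ P : Sylow (p : ℕ) N, (P : Subgroup N)) ⟨q, hq⟩)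
    exact P.not_dvd_index (hqd.trans (Subgroup.index_dvd_of_le hle))
  have : N = (⊤ : Subgroup N).map N.subtype := by
    rw [← MonoidHom.range_eq_map, Subgroup.range_subtype]
  rw [this, ← e]
  simp only [Subgroup.map_iSup]
  refine iSup_le fun p => iSup_le fun P => le_trans ?_ (le_iSup _ p)
  have := Fact.mk p.2
  have := h p inferInstance P
  rw [sylow_eq_pCore_of_normal P]
  exact map_pCore_le _ N

theorem fittingSubgroup_le_iSup_pCore [Finite G] :
    fittingSubgroup G ≤ ⨆ p : Nat.Primes, pCore (p : ℕ) G :=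
  sSup_le fun N hN => by
    have := hN.1
    exact nilpotent_le_iSup_pCore N hN.2

theorem pCore_le_fittingSubgroup [Finite G] {p : ℕ} (hp : p.Prime) :
    pCore p G ≤ fittingSubgroup G := by
  have := Fact.mk hp
  exact le_sSup ⟨inferInstance, (isPGroup_pCore (G := G) p).isNilpotent⟩

theorem fittingSubgroup_eq_iSup_pCore [Finite G] :
    fittingSubgroup G = ⨆ p : Nat.Primes, pCore (p : ℕ) G :=
  le_antisymm fittingSubgroup_le_iSup_pCore (iSup_le fun p => pCore_le_fittingSubgroup p.2)

theorem le_fittingSubgroup {N : Subgroup G} [hN : N.Normal] (h : Group.IsNilpotent N) :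
    N ≤ fittingSubgroup G :=
  le_sSup ⟨hN, h⟩

instance fittingSubgroup_normal : (fittingSubgroup G).Normal :=
  Subgroup.sSup_normal _ (fun _ h => h.1)

theorem isNilpotent_iSup_pCore [Finite G] :
    Group.IsNilpotent (⨆ p : Nat.Primes, pCore (p : ℕ) G : Subgroup G) := by
  classical
  let s := (Nat.card G).primeFactors
  have hs : ∀ p : s, (p : ℕ).Prime := fun p => Nat.prime_of_mem_primeFactors p.2
  let H : s → Subgroup G := fun p => pCore (p : ℕ) G
  have hcomm : Pairwise fun i j : s => ∀ x y : G, x ∈ H i → y ∈ H j → Commute x y := by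
    intro i j hij x y hx hy
    exact Subgroup.commute_of_normal_of_disjoint _ _ inferInstance inferInstance
      (IsPGroup.disjoint_of_coprime (isPGroup_pCore _) (isPGroup_pCore _)
        ((Nat.coprime_primes (hs i) (hs j)).mpr fun h => hij (Subtype.ext h))) x y hx hy
  have hr : (Subgroup.noncommPiCoprod hcomm).range = ⨆ p : Nat.Primes, pCore (p : ℕ) G := by
    rw [Subgroup.noncommPiCoprod_range]
    refine le_antisymm (iSup_le fun p => ?_) (iSup_le fun p => ?_)
    · exact le_iSup (fun q : Nat.Primes => pCore (q : ℕ) G) ⟨p, hs p⟩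
    · by_cases hp : (p : ℕ) ∈ s
      · exact le_iSup H ⟨p, hp⟩
      · have := Fact.mk p.2
        obtain ⟨n, hn⟩ := IsPGroup.iff_card.mp (isPGroup_pCore (G := G) (p : ℕ))
        rcases Nat.eq_zero_or_pos n with rfl | hpos
        · exact le_of_eq_of_le (Subgroup.eq_bot_of_card_le _ (by rw [hn]; simp)) bot_le
        · exfalso
          refine hp (Nat.mem_primeFactors.mpr ⟨p.2, ?_, Nat.card_pos.ne'⟩)
          exact (dvd_pow_self _ hpos.ne').trans (hn ▸ Subgroup.card_subgroup_dvd_card _)
  have : ∀ p : s, Group.IsNilpotent (H p) := fun p => by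
    have := Fact.mk (hs p)
    exact (isPGroup_pCore (G := G) (p : ℕ)).isNilpotent
  rw [← hr]
  exact Group.nilpotent_of_surjective (Subgroup.noncommPiCoprod hcomm).rangeRestrict
    (MonoidHom.rangeRestrict_surjective _)

theorem isNilpotent_fittingSubgroup [Finite G] : Group.IsNilpotent (fittingSubgroup G) := by
  rw [fittingSubgroup_eq_iSup_pCore]
  exact isNilpotent_iSup_pCore

end CfsgLib
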