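import Cfsg.Agent.Lib.Coprime
import Mathlib.GroupTheory.SpecificGroups.ZGroup
import Mathlib.GroupTheory.Frattini
import Mathlib.GroupTheory.GroupAction.Quotient

/-!
Further coprime action: trivial action modulo the Frattini subgroup, factorisations, fixed points of
transitive actions, and generation by centralisers of a noncyclic abelian group.
-/

set_option autoImplicit false

namespace CfsgLib

open Subgroup
open scoped Pointwise commutatorElement IsMulCommutative

universe u
variable {G : Type u} [Group G]

theorem le_normalizer_map_characteristic {A K : Subgroup G} (hAK : A ≤ Subgroup.normalizer (K : Set G))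
    (C : Subgroup K) [hC : C.Characteristic] :
    A ≤ Subgroup.normalizer ((C.map K.subtype : Subgroup G) : Set G) ∧
      K ≤ Subgroup.normalizer ((C.map K.subtype : Subgroup G) : Set G) := by
  have key : Subgroup.normalizer (K : Set G) ≤
      Subgroup.normalizer ((C.map K.subtype : Subgroup G) : Set G) := by
    intro g hg
    rw [Subgroup.mem_normalizer_iff]
    suffices ∀ h ∈ Subgroup.normalizer (K : Set G), ∀ x ∈ C.map K.subtype,
        h * x * h⁻¹ ∈ C.map K.subtype by
      intro x
      refine ⟨this g hg x, fun hx => ?_⟩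
      have := this g⁻¹ (inv_mem hg) _ hx
      simpa [mul_assoc] using this
    rintro h hh _ ⟨y, hy, rfl⟩
    let φ : K ≃* K :=
      { toFun := fun z => ⟨h * z * h⁻¹, (Subgroup.mem_normalizer_iff.mp hh _).mp z.2⟩
        invFun := fun z => ⟨h⁻¹ * z * h, (Subgroup.mem_normalizer_iff''.mp hh _).mp z.2⟩
        left_inv := fun z => by ext; simp [mul_assoc]
        right_inv := fun z => by ext; simp [mul_assoc]
        map_mul' := fun z w => by ext; simp [mul_assoc] }
    refine ⟨φ y, ?_, rfl⟩
    have := Subgroup.characteristic_iff_map_eq.mp hC φ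
    rw [← this]
    exact ⟨y, hy, rfl⟩
  exact ⟨hAK.trans key, Subgroup.le_normalizer.trans key⟩

/-- An operator group acting trivially modulo `Φ(K)`, of order prime to `|Φ(K)|`, acts trivially. -/
theorem centralize_of_trivial_mod_frattini [Finite G] {A K : Subgroup G}
    (hAK : A ≤ Subgroup.normalizer (K : Set G))
    (hcop : (Nat.card A).Coprime (Nat.card (frattini K)))
    (htriv : ∀ a ∈ A, ∀ k ∈ K, a * k * a⁻¹ * k⁻¹ ∈ (frattini K).map K.subtype) :
    A ≤ Subgroup.centralizer (K : Set G) := by
  set W := (frattini K).map K.subtype with hW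
  obtain ⟨hAW, hKW⟩ := le_normalizer_map_characteristic hAK (frattini K)
  have hWK : W ≤ K := Subgroup.map_subtype_le _
  have hWn : Group.IsNilpotent W := by
    have := frattini_nilpotent (G := K)
    exact Group.nilpotent_of_mulEquiv
      (Subgroup.equivMapOfInjective (frattini K) K.subtype K.subtype_injective)
  have hcopW : (Nat.card A).Coprime (Nat.card W) := by
    rwa [hW, Subgroup.card_map_of_injective K.subtype_injective]
  have key : ((K ⊓ Subgroup.centralizer (A : Set G)).subgroupOf K) ⊔ frattini K = ⊤ := by
    rw [eq_top_iff]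
    rintro ⟨k, hk⟩ -
    obtain ⟨w, hw, hn⟩ := coprime_key_normalize hcopW (Or.inr inferInstance) hAW (k := k) (fun a ha => by
      have h1 := (Subgroup.mem_normalizer_iff.mp (hKW (K.inv_mem hk)) _).mp (htriv a ha k hk)
      have h2 := Subgroup.mul_mem_sup h1 ha
      simpa [mul_assoc] using h2)
    have hcK : k * w ∈ K := K.mul_mem hk (hWK hw)
    have hc : k * w ∈ Subgroup.centralizer (A : Set G) := by
      intro a ha
      have h1 : k * w * a * (k * w)⁻¹ * a⁻¹ ∈ W := by
        have hb : k * w * (a * (k * w)⁻¹ * a⁻¹ * ((k * w)⁻¹)⁻¹) * (k * w)⁻¹ ∈ W :=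
          (Subgroup.mem_normalizer_iff.mp (hKW hcK) _).mp (htriv a ha _ (K.inv_mem hcK))
        simpa [mul_assoc] using hb
      have h2 := Subgroup.disjoint_def.mp (Subgroup.disjoint_of_coprime_natCard hcopW)
        (A.mul_mem (hn a ha) (A.inv_mem ha)) h1
      rw [mul_inv_eq_one, mul_inv_eq_iff_eq_mul] at h2
      exact h2.symm
    obtain ⟨f, hf, hfw⟩ := hw
    have h3 : (⟨k * w, hcK⟩ : K) * f⁻¹ ∈ ((K ⊓ Subgroup.centralizer (A : Set G)).subgroupOf K) ⊔ frattini K :=
      Subgroup.mul_mem_sup ⟨hcK, hc⟩ ((frattini K).inv_mem hf)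
    convert h3 using 1
    refine Subtype.ext ?_
    simp [← hfw]
  have htop := frattini_nongenerating key
  rw [Subgroup.le_centralizer_iff]
  exact fun k hk => (Subgroup.subgroupOf_eq_top.mp htop hk).2

/-- If `K = X Y` with `X`, `Y` invariant, then `C_K(A) = C_X(A) C_Y(A)`. -/
theorem coprime_factorisation [Finite G] {A K X Y : Subgroup G}
    (hcop : (Nat.card A).Coprime (Nat.card K)) (hsolv : Group.IsSolvable A ∨ Group.IsSolvable K)
    (hX : X ≤ K) (hXA : A ≤ Subgroup.normalizer (X : Set G))
    (hYA : A ≤ Subgroup.normalizer (Y : Set G)) {x y : G} (hx : x ∈ X) (hy : y ∈ Y)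
    (hk : x * y ∈ Subgroup.centralizer (A : Set G)) :
    ∃ x' ∈ X ⊓ Subgroup.centralizer (A : Set G), ∃ y' ∈ Y ⊓ Subgroup.centralizer (A : Set G),
      x * y = x' * y' := by
  have hAD : A ≤ Subgroup.normalizer ((X ⊓ Y : Subgroup G) : Set G) := by
    intro a ha
    rw [Subgroup.mem_normalizer_iff]
    intro z
    simp only [Subgroup.mem_inf]
    rw [Subgroup.mem_normalizer_iff.mp (hXA ha) z, Subgroup.mem_normalizer_iff.mp (hYA ha) z]
  have hsX : Group.IsSolvable A ∨ Group.IsSolvable X := by
    rcases hsolv with h | h
    · exact Or.inl h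
    · exact Or.inr (Group.isSolvable_of_isSolvable_injective
        (f := Subgroup.inclusion hX) (Subgroup.inclusion_injective _))
  obtain ⟨w, hw, hc⟩ := coprime_key hXA (hcop.coprime_dvd_right (Subgroup.card_dvd_of_le hX)) hsX
    inf_le_left hAD hx (fun a ha => by
      have e : x⁻¹ * (a * x * a⁻¹) = y * (a * y * a⁻¹)⁻¹ := by
        have h' : a * (x * y) = x * y * a := hk a ha
        rw [eq_mul_inv_iff_mul_eq]
        calc x⁻¹ * (a * x * a⁻¹) * (a * y * a⁻¹) = x⁻¹ * (a * (x * y)) * a⁻¹ := by group
          _ = y := by rw [h']; group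
      have hd : x⁻¹ * (a * x * a⁻¹) ∈ X ⊓ Y :=
        ⟨X.mul_mem (X.inv_mem hx) ((Subgroup.mem_normalizer_iff.mp (hXA ha) _).mp hx),
          e ▸ Y.mul_mem hy (Y.inv_mem ((Subgroup.mem_normalizer_iff.mp (hYA ha) _).mp hy))⟩
      have := Subgroup.mul_mem_sup hd ha
      simpa [mul_assoc] using this)
  refine ⟨x * w, ⟨X.mul_mem hx hw.1, hc⟩, w⁻¹ * y, ⟨Y.mul_mem (Y.inv_mem hw.2) hy, ?_⟩, by group⟩
  have : w⁻¹ * y = (x * w)⁻¹ * (x * y) := by group
  rw [this]
  exact (Subgroup.centralizer (A : Set G)).mul_mem ((Subgroup.centralizer (A : Set G)).inv_mem hc) hk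

/-- A noncyclic abelian group contains an elementary abelian subgroup of order `q²`. -/
theorem exists_two_generators_of_not_cyclic {A : Type u} [Group A] [Finite A] [IsMulCommutative A]
    (hA : ¬ IsCyclic A) :
    ∃ q : ℕ, q.Prime ∧ ∃ a b : A, orderOf a = q ∧ orderOf b = q ∧ b ∉ Subgroup.zpowers a := by
  classical
  have hn : Group.IsNilpotent A := inferInstance
  have hz : ¬ IsZGroup A := fun h => hA inferInstance
  rw [isZGroup_iff] at hz
  push Not at hz
  obtain ⟨q, hq, P, hP⟩ := hz
  have := Fact.mk hq
  have := Fintype.ofFinite P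
  obtain ⟨n, hn0, hnlt⟩ : ∃ n, 0 < n ∧ n < (Finset.univ.filter fun x : P => x ^ n = 1).card := by
    by_contra h
    push Not at h
    exact hP (isCyclic_of_card_pow_eq_one_le h)
  -- the elements of order dividing `q` of `P` are more than `q`
  have hone : ¬ ∀ x y : A, orderOf x = q → orderOf y = q → y ∈ Subgroup.zpowers x := by
    intro hall
    -- then each element is determined by a power, and the counting bound holds
    have hbound : ∀ k : ℕ, (Finset.univ.filter fun x : P => x ^ q ^ k = 1).card ≤ q ^ k := by
      intro k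
      induction k with
      | zero =>
        refine (Finset.card_le_one.mpr fun a ha b hb => ?_).trans (by simp)
        simp only [pow_zero, pow_one, Finset.mem_filter, Finset.mem_univ, true_and] at ha hb
        rw [ha, hb]
      | succ k ih =>
        refine (Finset.card_le_mul_card_image (f := fun x : P => x ^ q) _ q ?_).trans ?_
        · intro z hz
          obtain ⟨x₀, hx₀, rfl⟩ := Finset.mem_image.mp hz
          calc ((Finset.univ.filter fun x : P => x ^ q ^ (k + 1) = 1).filter fun x => x ^ q = x₀ ^ q).card
              ≤ (Finset.univ.filter fun x : P => x ^ q = 1).card := by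
                refine Finset.card_le_card_of_injOn (fun x => x₀⁻¹ * x) ?_ ?_
                · intro x hx
                  simp only [Finset.coe_filter, Finset.mem_filter, Finset.mem_univ, true_and,
                    Set.mem_setOf_eq] at hx ⊢
                  rw [mul_pow, inv_pow, hx.2, inv_mul_cancel]
                · intro x _ y _ hxy
                  exact mul_left_cancel hxy
            _ ≤ q := by
                by_cases he : ∃ x : P, orderOf x = q
                · obtain ⟨x, hx⟩ := he
                  have hsub : (Finset.univ.filter fun y : P => y ^ q = 1) ⊆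
                      (Finset.range q).image fun i => x ^ i := by
                    intro y hy
                    simp only [Finset.mem_filter, Finset.mem_univ, true_and] at hy
                    rcases (Nat.dvd_prime hq).mp (orderOf_dvd_of_pow_eq_one hy) with h1 | h1
                    · exact Finset.mem_image.mpr ⟨0, Finset.mem_range.mpr hq.pos, by
                        rw [orderOf_eq_one_iff.mp h1, pow_zero]⟩
                    · have h2 := hall (x : A) y (by rwa [Subgroup.orderOf_coe]) (by rwa [Subgroup.orderOf_coe])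
                      rw [← mem_powers_iff_mem_zpowers,
                        mem_powers_iff_mem_range_orderOf] at h2
                      obtain ⟨i, hi, hiy⟩ := Finset.mem_image.mp h2
                      rw [Subgroup.orderOf_coe, hx] at hi
                      exact Finset.mem_image.mpr ⟨i, hi, Subtype.ext (by simpa using hiy)⟩
                  exact (Finset.card_le_card hsub).trans
                    (Finset.card_image_le.trans (by simp))
                · refine le_trans (Finset.card_le_one.mpr fun a ha b hb => ?_) hq.one_le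
                  simp only [Finset.mem_filter, Finset.mem_univ, true_and] at ha hb
                  have h1 : ∀ y : P, y ^ q = 1 → y = 1 := fun y hy => by
                    rcases (Nat.dvd_prime hq).mp (orderOf_dvd_of_pow_eq_one hy) with h | h
                    · exact orderOf_eq_one_iff.mp h
                    · exact absurd ⟨y, h⟩ he
                  rw [h1 a ha, h1 b hb]
        · rw [pow_succ']
          refine Nat.mul_le_mul_left _ ((Finset.card_le_card ?_).trans ih)
          intro z hz
          obtain ⟨x, hx, rfl⟩ := Finset.mem_image.mp hz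
          simp only [Finset.mem_filter, Finset.mem_univ, true_and] at hx ⊢
          rw [← pow_mul]
          exact hx
    obtain ⟨m, hm⟩ := IsPGroup.iff_card.mp P.isPGroup'
    -- reduce `n` to its `q`-part
    have hg : Nat.gcd n (q ^ m) ∣ q ^ m := Nat.gcd_dvd_right _ _
    obtain ⟨k, -, hk⟩ := (Nat.dvd_prime_pow hq).mp hg
    have heq : (Finset.univ.filter fun x : P => x ^ n = 1) =
        Finset.univ.filter fun x : P => x ^ q ^ k = 1 := by
      ext x
      simp only [Finset.mem_filter, Finset.mem_univ, true_and]
      rw [← hk, pow_gcd_eq_one]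
      refine ⟨fun h => ⟨h, ?_⟩, And.left⟩
      rw [← hm]
      exact pow_card_eq_one'
    rw [heq] at hnlt
    have h2 : q ^ k ≤ n := hk ▸ Nat.le_of_dvd hn0 (Nat.gcd_dvd_left _ _)
    exact absurd (hbound k) (by omega)
  push Not at hone
  obtain ⟨a, b, ha, hb, hab⟩ := hone
  exact ⟨q, hq, a, b, ha, hb, hab⟩

/-- An abelian group with an action of an elementary abelian group of order `q²` prime to it is
generated by fixed points of nontrivial elements. -/
theorem mem_of_fixed_le {V : Type u} [CommGroup V] [Finite V] {q : ℕ} (hq : q.Prime)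
    (hcop : q.Coprime (Nat.card V)) (φ : ZMod q × ZMod q → (V →* V))
    (hadd : ∀ i j v, φ (i + j) v = φ i (φ j v)) (hzero : ∀ v, φ 0 v = v)
    (D : Subgroup V) (hD : ∀ i : ZMod q × ZMod q, i ≠ 0 → ∀ v, φ i v = v → v ∈ D)
    (v : V) : v ∈ D := by
  classical
  have := Fact.mk hq
  -- norms along lines
  have hline : ∀ i : ZMod q × ZMod q, i ≠ 0 → (∏ t : ZMod q, φ (t • i) v) ∈ D := by
    intro i hi
    refine hD i hi _ ?_
    rw [map_prod]
    refine Fintype.prod_equiv (Equiv.addRight (1 : ZMod q)) _ _ fun t => ?_
    rw [← hadd]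
    simp [add_smul, add_comm]
  have hE : (∏ x : ZMod q × ZMod q, φ x v) ∈ D := by
    refine hD (1, 0) (by simp [Prod.ext_iff]) _ ?_
    rw [map_prod]
    refine Fintype.prod_equiv (Equiv.addLeft ((1 : ZMod q), (0 : ZMod q))) _ _ fun t => ?_
    rw [← hadd]
    rfl
  have key : (∏ t : ZMod q, φ (t • ((1 : ZMod q), (0 : ZMod q))) v) *
      ∏ j : ZMod q, ∏ t : ZMod q, φ (t • (j, (1 : ZMod q))) v =
      v ^ q * ∏ x : ZMod q × ZMod q, φ x v := by
    rw [Finset.prod_comm, Fintype.prod_prod_type_right,
      ← Finset.mul_prod_erase (Finset.univ : Finset (ZMod q))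
        (fun t => ∏ j : ZMod q, φ (t • (j, (1 : ZMod q))) v) (Finset.mem_univ 0),
      ← Finset.mul_prod_erase (Finset.univ : Finset (ZMod q))
        (fun y => ∏ x : ZMod q, φ (x, y) v) (Finset.mem_univ 0)]
    have h0 : (∏ j : ZMod q, φ ((0 : ZMod q) • (j, (1 : ZMod q))) v) = v ^ q := by
      simp [hzero, ZMod.card]
    have h1 : (∏ t : ZMod q, φ (t • ((1 : ZMod q), (0 : ZMod q))) v) = ∏ x : ZMod q, φ (x, 0) v :=
      Finset.prod_congr rfl fun t _ => by simp
    have h2 : ∀ t ∈ (Finset.univ : Finset (ZMod q)).erase 0,
        (∏ j : ZMod q, φ (t • (j, (1 : ZMod q))) v) = ∏ x : ZMod q, φ (x, t) v := by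
      intro t ht
      refine Fintype.prod_equiv (Equiv.mulLeft₀ t (Finset.ne_of_mem_erase ht)) _ _ fun j => ?_
      simp
    rw [h0, h1, Finset.prod_congr rfl h2]
    ac_rfl
  have hL : ((∏ t : ZMod q, φ (t • ((1 : ZMod q), (0 : ZMod q))) v) *
      ∏ j : ZMod q, ∏ t : ZMod q, φ (t • (j, (1 : ZMod q))) v) ∈ D :=
    D.mul_mem (hline _ (by simp [Prod.ext_iff])) (D.prod_mem fun j _ => hline _ (by simp [Prod.ext_iff]))
  rw [key] at hL
  have hvq : v ^ q ∈ D := by
    have := D.mul_mem hL (D.inv_mem hE)
    rwa [mul_inv_cancel_right] at this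
  obtain ⟨k, hk⟩ := exists_pow_eq_self_of_coprime (hcop.coprime_dvd_right (orderOf_dvd_natCard v))
  rw [← hk]
  exact D.pow_mem hvq k

/-- A noncyclic abelian group acting coprimely: `K` is generated by the centralisers of its
nontrivial elements. -/
theorem coprime_generated_by_centralizers [Finite G] {A K : Subgroup G} [IsMulCommutative A]
    (hA : ¬ IsCyclic A) (hAK : A ≤ Subgroup.normalizer (K : Set G))
    (hcop : (Nat.card A).Coprime (Nat.card K)) :
    (⨆ a ∈ {a : G | a ∈ A ∧ a ≠ 1}, K ⊓ Subgroup.centralizer {a}) = K := by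
  refine le_antisymm (iSup₂_le fun a _ => inf_le_left) ?_
  set D := ⨆ a ∈ {a : G | a ∈ A ∧ a ≠ 1}, K ⊓ Subgroup.centralizer {a} with hD
  have hDK : D ≤ K := iSup₂_le fun a _ => inf_le_left
  have hmem : ∀ a ∈ A, a ≠ 1 → ∀ x ∈ K, a * x = x * a → x ∈ D := by
    intro a ha ha1 x hx hax
    refine le_iSup₂ (f := fun a (_ : a ∈ {a : G | a ∈ A ∧ a ≠ 1}) => K ⊓ Subgroup.centralizer {a})
      a ⟨ha, ha1⟩ ⟨hx, ?_⟩
    exact Subgroup.mem_centralizer_singleton_iff.mpr hax.symm
  obtain ⟨q, hq, a₀, b₀, ha₀, hb₀, hab⟩ := exists_two_generators_of_not_cyclic hA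
  have hAs : Group.IsSolvable A := inferInstance
  -- every Sylow subgroup normalised by `A` lies in `D`
  have main : ∀ (p : ℕ) [Fact p.Prime] (P : Sylow p K),
      A ≤ Subgroup.normalizer ((P : Subgroup K).map K.subtype : Set G) →
      (P : Subgroup K).map K.subtype ≤ D := by
    intro p hp P hP
    set P' := (P : Subgroup K).map K.subtype with hP'
    have hPK : P' ≤ K := Subgroup.map_subtype_le _
    have hPp : IsPGroup p P' := P.isPGroup'.map _
    set W := (frattini P').map P'.subtype with hW
    obtain ⟨hAW, hPW⟩ := le_normalizer_map_characteristic hP (frattini P')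
    have htop : (D.subgroupOf P') ⊔ frattini P' = ⊤ := by
      rw [eq_top_iff]
      intro x _
      -- the quotient `P'/Φ(P')` with the action of `⟨a₀⟩ × ⟨b₀⟩`
      have hcomm : ∀ u v : P' ⧸ frattini P', u * v = v * u := by
        intro u v
        obtain ⟨u, rfl⟩ := QuotientGroup.mk'_surjective _ u
        obtain ⟨v, rfl⟩ := QuotientGroup.mk'_surjective _ v
        rw [← commutatorElement_eq_one_iff_mul_comm, ← map_commutatorElement,
          QuotientGroup.mk'_apply, QuotientGroup.eq_one_iff]
        exact commutator_le_frattini_pGroup hPp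
          (Subgroup.commutator_mem_commutator (Subgroup.mem_top u) (Subgroup.mem_top v))
      let _ : CommGroup (P' ⧸ frattini P') :=
        { (inferInstance : Group (P' ⧸ frattini P')) with mul_comm := hcomm }
      let c : A → (P' →* P') := fun a =>
        { toFun := fun z => ⟨(a : G) * z * (a : G)⁻¹, (Subgroup.mem_normalizer_iff.mp (hP a.2) _).mp z.2⟩
          map_one' := by ext; simp
          map_mul' := fun z w => by ext; simp [mul_assoc] }
      have hcW : ∀ a : A, frattini P' ≤ (frattini P').comap (c a) := by
        intro a z hz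
        have h1 : (z : G) ∈ W := ⟨z, hz, rfl⟩
        obtain ⟨z', hz', he⟩ := (Subgroup.mem_normalizer_iff.mp (hAW a.2) _).mp h1
        have : c a z = z' := Subtype.ext he.symm
        rw [Subgroup.mem_comap, this]
        exact hz'
      let ψ : A → ((P' ⧸ frattini P') →* (P' ⧸ frattini P')) := fun a =>
        QuotientGroup.map (frattini P') (frattini P') (c a) (hcW a)
      have hψmul : ∀ a b z, ψ (a * b) z = ψ a (ψ b z) := by
        intro a b z
        obtain ⟨z, rfl⟩ := QuotientGroup.mk'_surjective _ z
        refine congrArg (QuotientGroup.mk' (frattini P')) ?_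
        exact Subtype.ext (by simp [c, mul_assoc])
      let e : ZMod q × ZMod q → A := fun i => a₀ ^ i.1.val * b₀ ^ i.2.val
      have := Fact.mk hq
      have hpow : ∀ (g : A), orderOf g = q → ∀ i j : ZMod q, g ^ (i + j).val = g ^ i.val * g ^ j.val := by
        intro g hg i j
        rw [← pow_add, ZMod.val_add]
        conv_rhs => rw [← pow_mod_orderOf, hg]
      have headd : ∀ i j, e (i + j) = e i * e j := by
        intro i j
        simp only [e, Prod.fst_add, Prod.snd_add, hpow a₀ ha₀, hpow b₀ hb₀]
        ac_rfl
      have hene : ∀ i, i ≠ 0 → e i ≠ 1 := by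
        intro i hi h1
        simp only [e] at h1
        by_cases h2 : i.2 = 0
        · rw [h2, ZMod.val_zero, pow_zero, mul_one, ← orderOf_dvd_iff_pow_eq_one, ha₀] at h1
          have h3 : i.1 = 0 := by
            rw [← ZMod.val_eq_zero]
            exact Nat.eq_zero_of_dvd_of_lt h1 (ZMod.val_lt _)
          exact hi (Prod.ext h3 h2)
        · have hb : b₀ ^ i.2.val ∈ Subgroup.zpowers a₀ := by
            rw [eq_inv_of_mul_eq_one_right h1]
            exact inv_mem (pow_mem (Subgroup.mem_zpowers _) _)
          have hco : i.2.val.Coprime (orderOf b₀) := by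
            rw [hb₀, Nat.coprime_comm, hq.coprime_iff_not_dvd]
            intro hd
            exact h2 ((ZMod.val_eq_zero _).mp (Nat.eq_zero_of_dvd_of_lt hd (ZMod.val_lt _)))
          obtain ⟨k, hk⟩ := exists_pow_eq_self_of_coprime hco
          exact hab (hk ▸ pow_mem hb k)
      have hcopq : q.Coprime (Nat.card (P' ⧸ frattini P')) := by
        refine Nat.Coprime.coprime_dvd_right ((Subgroup.card_quotient_dvd_card _).trans
          (Subgroup.card_dvd_of_le hPK)) ?_
        refine hcop.coprime_dvd_left ?_
        rw [← ha₀]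
        exact orderOf_dvd_natCard a₀
      have := mem_of_fixed_le hq hcopq (fun i => ψ (e i))
        (fun i j v => by rw [headd, hψmul])
        (fun v => by
          obtain ⟨v, rfl⟩ := QuotientGroup.mk'_surjective _ v
          refine congrArg (QuotientGroup.mk' (frattini P')) ?_
          exact Subtype.ext (by simp [e, c]))
        ((D.subgroupOf P').map (QuotientGroup.mk' (frattini P')))
        (fun i hi v hv => by
          obtain ⟨z, rfl⟩ := QuotientGroup.mk'_surjective _ v
          set a := e i with hadef
          -- lift the fixed point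
          have hzW : ∀ b ∈ Subgroup.zpowers (a : G), b * (z : G) * b⁻¹ * (z : G)⁻¹ ∈ W := by
            intro b hb
            obtain ⟨n, rfl⟩ := Subgroup.mem_zpowers_iff.mp hb
            clear hb
            have hfix : ψ (a ^ n) (QuotientGroup.mk' _ z) = QuotientGroup.mk' _ z := by
              induction n using Int.induction_on with
              | zero =>
                refine congrArg (QuotientGroup.mk' (frattini P')) ?_
                exact Subtype.ext (by simp [c])
              | succ n ih => rw [zpow_add_one, hψmul, hv, ih]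
              | pred n ih =>
                have h2 : ψ (a ^ (-(n : ℤ) - 1)) (ψ a (QuotientGroup.mk' _ z)) = ψ (a ^ (-(n : ℤ))) (QuotientGroup.mk' _ z) := by
                  rw [← hψmul, zpow_sub_one, inv_mul_cancel_right]
                rw [hv, ih] at h2
                exact h2
            have h3 : c (a ^ n) z * z⁻¹ ∈ frattini P' := by
              rw [← QuotientGroup.eq_one_iff, QuotientGroup.mk_mul, QuotientGroup.mk_inv, mul_inv_eq_one]
              exact hfix
            exact ⟨_, h3, by simp [c]⟩
          have haA : Subgroup.zpowers (a : G) ≤ A := Subgroup.zpowers_le.mpr a.2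
          obtain ⟨w, hw, hzw⟩ := coprime_fixed_quotient (A := Subgroup.zpowers (a : G)) (K := P') (N := W)
            (haA.trans hP)
            ((hcop.coprime_dvd_left (Subgroup.card_dvd_of_le haA)).coprime_dvd_right
              (Subgroup.card_dvd_of_le hPK))
            (Or.inl inferInstance) (Subgroup.map_subtype_le _) hPW (haA.trans hAW) z.2 hzW
          refine ⟨⟨w, hw.1⟩, ?_, ?_⟩
          · refine hmem a a.2 (fun h => hene i hi (Subtype.ext h)) w (hPK hw.1) ?_
            exact hw.2 a (Subgroup.mem_zpowers _)
          · obtain ⟨t, ht, htw⟩ := hzw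
            rw [QuotientGroup.mk'_apply, QuotientGroup.mk'_apply, eq_comm, QuotientGroup.eq]
            have : z⁻¹ * (⟨w, hw.1⟩ : P') = t := Subtype.ext htw.symm
            rw [this]
            exact ht)
        (QuotientGroup.mk' (frattini P') x)
      obtain ⟨y, hy, hyx⟩ := this
      have hd : y⁻¹ * x ∈ frattini P' := by
        rw [← QuotientGroup.eq]
        exact hyx
      simpa using Subgroup.mul_mem_sup hy hd
    have h := frattini_nongenerating htop
    exact Subgroup.subgroupOf_eq_top.mp h
  -- the index of `D` in `K` is `1`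
  rw [← Subgroup.subgroupOf_eq_top, ← Subgroup.index_eq_one]
  by_contra hne
  obtain ⟨p, hp, hpd⟩ := Nat.exists_prime_and_dvd hne
  have := Fact.mk hp
  obtain ⟨P, hP⟩ := coprime_exists_invariant_sylow hAK hcop (Or.inl hAs) p
  have hle : (P : Subgroup K) ≤ D.subgroupOf K := fun x hx => main p P hP ⟨x, hx, rfl⟩
  exact P.not_dvd_index (hpd.trans (Subgroup.index_dvd_of_le hle))

end CfsgLib
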