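import Mathlib.GroupTheory.Subgroup.Centralizer
import Mathlib.GroupTheory.Commutator.Basic
import Mathlib.GroupTheory.Index
import Mathlib.GroupTheory.OrderOfElement
import Mathlib.GroupTheory.Perm.Cycle.Type

/-!
Coprime action on an abelian subgroup: `V = C_V(A) × [V, A]`.
-/

set_option autoImplicit false

namespace CfsgLib

open Subgroup
open scoped commutatorElement IsMulCommutative

universe u
variable {G : Type u} [Group G]

/-- The product of all `A`-conjugates of an element of an abelian subgroup, as an endomorphism. -/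
noncomputable def abelianNorm [Finite G] (A V : Subgroup G) [IsMulCommutative V]
    (hAV : A ≤ Subgroup.normalizer (V : Set G)) : V →* V :=
  letI := Fintype.ofFinite A
  { toFun := fun v => ∏ a : A, (⟨a * v * (a : G)⁻¹,
      (Subgroup.mem_normalizer_iff.mp (hAV a.2) v).mp v.2⟩ : V)
    map_one' := Finset.prod_eq_one fun a _ => Subtype.ext (by simp)
    map_mul' := fun v w => by
      rw [← Finset.prod_mul_distrib]
      refine Finset.prod_congr rfl fun a _ => Subtype.ext ?_
      simp [mul_assoc] }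

theorem abelianNorm_apply [Finite G] (A V : Subgroup G) [IsMulCommutative V] [Fintype A]
    (hAV : A ≤ Subgroup.normalizer (V : Set G)) (v : V) :
    abelianNorm A V hAV v = ∏ a : A, (⟨a * v * (a : G)⁻¹,
      (Subgroup.mem_normalizer_iff.mp (hAV a.2) v).mp v.2⟩ : V) := by
  simp only [abelianNorm, MonoidHom.coe_mk, OneHom.coe_mk]
  congr 1
  exact Finset.ext fun a => by simp

theorem abelianNorm_conj [Finite G] (A V : Subgroup G) [IsMulCommutative V]
    (hAV : A ≤ Subgroup.normalizer (V : Set G)) (b : A) (v : V) :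
    abelianNorm A V hAV ⟨b * v * (b : G)⁻¹, (Subgroup.mem_normalizer_iff.mp (hAV b.2) v).mp v.2⟩
      = abelianNorm A V hAV v := by
  have := Fintype.ofFinite A
  rw [abelianNorm_apply, abelianNorm_apply]
  refine Fintype.prod_equiv (Equiv.mulRight b) _ _ fun a => Subtype.ext ?_
  simp [mul_assoc]

theorem abelianNorm_fixed [Finite G] (A V : Subgroup G) [IsMulCommutative V]
    (hAV : A ≤ Subgroup.normalizer (V : Set G)) (v : V) :
    ((abelianNorm A V hAV v : V) : G) ∈ Subgroup.centralizer (A : Set G) := by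
  have := Fintype.ofFinite A
  intro b hb
  let c : V →* V :=
    { toFun := fun w => ⟨b * w * b⁻¹, (Subgroup.mem_normalizer_iff.mp (hAV hb) w).mp w.2⟩
      map_one' := Subtype.ext (by simp)
      map_mul' := fun w w' => Subtype.ext (by simp [mul_assoc]) }
  have h : c (abelianNorm A V hAV v) = abelianNorm A V hAV v := by
    rw [abelianNorm_apply, map_prod]
    refine Fintype.prod_equiv (Equiv.mulLeft (⟨b, hb⟩ : A)) _ _ fun a => Subtype.ext ?_
    simp [c, mul_assoc]
  have := congrArg Subtype.val h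
  exact mul_inv_eq_iff_eq_mul.mp this

theorem commutator_abelian_le [Finite G] (A V : Subgroup G) [IsMulCommutative V]
    (hAV : A ≤ Subgroup.normalizer (V : Set G)) :
    ⁅V, A⁆ ≤ (abelianNorm A V hAV).ker.map V.subtype := by
  rw [Subgroup.commutator_le]
  intro v hv a ha
  have h2 : a * v⁻¹ * a⁻¹ ∈ V := (Subgroup.mem_normalizer_iff.mp (hAV ha) _).mp (V.inv_mem hv)
  refine ⟨(⟨v, hv⟩ : V) * ⟨a * v⁻¹ * a⁻¹, h2⟩, ?_, ?_⟩
  · rw [SetLike.mem_coe, MonoidHom.mem_ker, map_mul]
    have h3 := abelianNorm_conj A V hAV ⟨a, ha⟩ ⟨v⁻¹, V.inv_mem hv⟩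
    rw [h3, ← map_mul]
    have : (⟨v, hv⟩ : V) * ⟨v⁻¹, V.inv_mem hv⟩ = 1 := Subtype.ext (mul_inv_cancel v)
    rw [this, map_one]
  · simp [commutatorElement_def, mul_assoc]

theorem abelianNorm_eq_pow [Finite G] (A V : Subgroup G) [IsMulCommutative V]
    (hAV : A ≤ Subgroup.normalizer (V : Set G)) (v : V)
    (hv : (v : G) ∈ Subgroup.centralizer (A : Set G)) :
    abelianNorm A V hAV v = v ^ Nat.card A := by
  have := Fintype.ofFinite A
  rw [abelianNorm_apply, Finset.prod_eq_pow_card (b := v), Finset.card_univ, Nat.card_eq_fintype_card]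
  intro a _
  exact Subtype.ext (show (a : G) * v * (a : G)⁻¹ = v by rw [hv a a.2, mul_inv_cancel_right])

theorem coprime_abelian_disjoint [Finite G] (A V : Subgroup G) [IsMulCommutative V]
    (hAV : A ≤ Subgroup.normalizer (V : Set G)) (hcop : (Nat.card A).Coprime (Nat.card V)) :
    (V ⊓ Subgroup.centralizer (A : Set G)) ⊓ ⁅V, A⁆ = ⊥ := by
  rw [eq_bot_iff]
  rintro x ⟨⟨hxV, hxC⟩, hx⟩
  obtain ⟨w, hw, rfl⟩ := commutator_abelian_le A V hAV hx
  rw [SetLike.mem_coe, MonoidHom.mem_ker, abelianNorm_eq_pow A V hAV w hxC] at hw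
  have : w = 1 := by
    rw [← orderOf_eq_one_iff]
    exact Nat.eq_one_of_dvd_coprimes hcop (orderOf_dvd_of_pow_eq_one hw) (orderOf_dvd_natCard w)
  simp [this]

theorem coprime_abelian_sup [Finite G] (A V : Subgroup G) [IsMulCommutative V]
    (hAV : A ≤ Subgroup.normalizer (V : Set G)) (hcop : (Nat.card A).Coprime (Nat.card V)) :
    (V ⊓ Subgroup.centralizer (A : Set G)) ⊔ ⁅V, A⁆ = V := by
  have := Fintype.ofFinite A
  have hcom : ⁅V, A⁆ ≤ V := by
    rw [Subgroup.commutator_le]
    intro v hv a ha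
    rw [commutatorElement_def, mul_assoc, mul_assoc, ← mul_assoc a]
    exact V.mul_mem hv ((Subgroup.mem_normalizer_iff.mp (hAV ha) _).mp (V.inv_mem hv))
  refine le_antisymm (sup_le inf_le_left hcom) fun x hx => ?_
  set S := (V ⊓ Subgroup.centralizer (A : Set G)) ⊔ ⁅V, A⁆ with hS
  have key : (x : G) ^ Nat.card A ∈ S := by
    let v : V := ⟨x, hx⟩
    have h1 : v ^ Nat.card A = (∏ a : A, (v * (⟨a * (v : G)⁻¹ * (a : G)⁻¹,
        (Subgroup.mem_normalizer_iff.mp (hAV a.2) _).mp (V.inv_mem v.2)⟩ : V))) *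
          abelianNorm A V hAV v := by
      rw [abelianNorm_apply, ← Finset.prod_mul_distrib, Finset.prod_eq_pow_card (b := v),
        Finset.card_univ, Nat.card_eq_fintype_card]
      intro a _
      rw [mul_assoc]
      have : (⟨a * (v : G)⁻¹ * (a : G)⁻¹,
        (Subgroup.mem_normalizer_iff.mp (hAV a.2) _).mp (V.inv_mem v.2)⟩ : V) *
        ⟨a * v * (a : G)⁻¹, (Subgroup.mem_normalizer_iff.mp (hAV a.2) v).mp v.2⟩ = 1 :=
        Subtype.ext (by simp [mul_assoc])
      rw [this, mul_one]
    have h2 : x ^ Nat.card A = ((v ^ Nat.card A : V) : G) := by simp [v]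
    rw [h2, h1, Subgroup.coe_mul]
    refine S.mul_mem ?_ (Subgroup.mem_sup_left ⟨(abelianNorm A V hAV v).2, abelianNorm_fixed A V hAV v⟩)
    refine Finset.prod_induction _ (fun z : V => (z : G) ∈ S) (fun z w hz hw => S.mul_mem hz hw) S.one_mem fun a _ => Subgroup.mem_sup_right ?_
    have := Subgroup.commutator_mem_commutator hx a.2
    simpa [v, commutatorElement_def, mul_assoc] using this
  have hcx : (Nat.card A).Coprime (orderOf x) := by
    refine hcop.coprime_dvd_right ?_
    have := orderOf_dvd_natCard (⟨x, hx⟩ : V)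
    rwa [Subgroup.orderOf_mk] at this
  obtain ⟨k, hk⟩ := exists_pow_eq_self_of_coprime hcx
  rw [← hk]
  exact S.pow_mem key k

/-- If `A` centralises every element of prime order of `V`, it centralises `V`. -/
theorem coprime_abelian_centralize [Finite G] (A V : Subgroup G) [IsMulCommutative V]
    (hAV : A ≤ Subgroup.normalizer (V : Set G)) (hcop : (Nat.card A).Coprime (Nat.card V))
    (hΩ : ∀ v ∈ V, (orderOf v).Prime → ∀ a ∈ A, a * v = v * a) :
    A ≤ Subgroup.centralizer (V : Set G) := by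
  have hbot : ⁅V, A⁆ = ⊥ := by
    by_contra hne
    have := (Subgroup.nontrivial_iff_ne_bot _).mpr hne
    obtain ⟨q, hq, hqd⟩ := Nat.exists_prime_and_dvd (n := Nat.card (⁅V, A⁆ : Subgroup G))
      (by have := Finite.one_lt_card (α := (⁅V, A⁆ : Subgroup G)); omega)
    have := Fact.mk hq
    obtain ⟨⟨w, hw⟩, hwq⟩ := exists_prime_orderOf_dvd_card' q hqd
    rw [Subgroup.orderOf_mk] at hwq
    have hwV : w ∈ V := (coprime_abelian_sup A V hAV hcop) ▸ Subgroup.mem_sup_right hw
    have hwC : w ∈ Subgroup.centralizer (A : Set G) :=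
      fun a ha => hΩ w hwV (hwq ▸ hq) a ha
    have : w ∈ (V ⊓ Subgroup.centralizer (A : Set G)) ⊓ ⁅V, A⁆ := ⟨⟨hwV, hwC⟩, hw⟩
    rw [coprime_abelian_disjoint A V hAV hcop, Subgroup.mem_bot] at this
    rw [this, orderOf_one] at hwq
    exact hq.ne_one hwq.symm
  rw [← Subgroup.commutator_eq_bot_iff_le_centralizer, Subgroup.commutator_comm]
  exact hbot

end CfsgLib
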