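import Cfsg.Agent.Lib.Elementary
import Cfsg.Agent.Lib.CoprimeAbelian
import Mathlib.GroupTheory.SchurZassenhaus
import Mathlib.GroupTheory.Sylow
import Mathlib.Tactic.Group

/-!
The conjugacy half of the Schur–Zassenhaus theorem and coprime action.
-/

set_option autoImplicit false

namespace CfsgLib

open Subgroup
open scoped Pointwise commutatorElement

universe u
variable {G : Type u} [Group G]

theorem card_conj_smul (g : G) (H : Subgroup G) :
    Nat.card (MulAut.conj g • H : Subgroup G) = Nat.card H := by
  rw [Subgroup.pointwise_smul_def]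
  exact Subgroup.card_map_of_injective (MulAut.conj g).injective

theorem mem_conj_smul_iff {g x : G} {H : Subgroup G} :
    x ∈ MulAut.conj g • H ↔ g⁻¹ * x * g ∈ H := by
  rw [Subgroup.mem_pointwise_smul_iff_inv_smul_mem]
  simp

theorem conj_smul_mul (g h : G) (H : Subgroup G) :
    MulAut.conj g • MulAut.conj h • H = MulAut.conj (g * h) • H := by
  rw [smul_smul, ← map_mul]

theorem conj_smul_complement [Finite G] {N H : Subgroup G} [hN : N.Normal] (g : G)
    (hH : IsComplement' N H) : IsComplement' N (MulAut.conj g • H) := by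
  refine isComplement'_of_disjoint_and_mul_eq_univ ?_ ?_
  · rw [Subgroup.disjoint_def]
    intro x hx hx'
    rw [mem_conj_smul_iff] at hx'
    have h1 : g⁻¹ * x * g ∈ N := by simpa using hN.conj_mem x hx g⁻¹
    have := Subgroup.disjoint_def.mp hH.disjoint h1 hx'
    calc x = g * (g⁻¹ * x * g) * g⁻¹ := by group
      _ = 1 := by rw [this]; group
  · refine Set.eq_univ_of_forall fun x => ?_
    obtain ⟨⟨n, h⟩, hnh⟩ := (show Function.Surjective fun z : N × H => (z.1 : G) * z.2 from hH.2) (g⁻¹ * x * g)
    refine Set.mem_mul.mpr ⟨g * n * g⁻¹, hN.conj_mem _ n.2 g, g * h * g⁻¹, ?_, ?_⟩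
    · rw [SetLike.mem_coe, mem_conj_smul_iff]
      simpa [mul_assoc] using h.2
    · have : (n : G) * h = g⁻¹ * x * g := hnh
      calc g * n * g⁻¹ * (g * h * g⁻¹) = g * ((n : G) * h) * g⁻¹ := by group
        _ = x := by rw [this]; group

/-- Two complements of an abelian normal Hall subgroup are conjugate by an element of it. -/
theorem complements_conj_of_abelian [Finite G] {N : Subgroup G} [N.Normal] [IsMulCommutative N]
    (hN : (Nat.card N).Coprime N.index) {H K : Subgroup G} (hH : IsComplement' N H)
    (hK : IsComplement' N K) : ∃ n ∈ N, MulAut.conj n • H = K := by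
  classical
  let T : ∀ L : Subgroup G, IsComplement' N L → N.LeftTransversal := fun L hL =>
    ⟨(L : Set G), hL.symm⟩
  let q : ∀ L : Subgroup G, IsComplement' N L → N.QuotientDiff := fun L hL => Quotient.mk'' (T L hL)
  have hstab : ∀ (L : Subgroup G) (hL : IsComplement' N L),
      MulAction.stabilizer G (q L hL) = L := by
    intro L hL
    have hle : L ≤ MulAction.stabilizer G (q L hL) := by
      intro l hl
      refine congr_arg Quotient.mk'' (Subtype.ext ?_)
      change MulOpposite.op l⁻¹ • (L : Set G) = L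
      ext x
      rw [Set.mem_smul_set_iff_inv_smul_mem]
      simp [L.mul_mem_cancel_right hl]
    refine (Subgroup.eq_of_le_of_card_ge hle (le_of_eq ?_)).symm
    have h1 := (isComplement'_stabilizer_of_coprime (α := q L hL) hN).symm.index_eq_card
    have h2 := hL.symm.index_eq_card
    rw [← h1, h2]
  obtain ⟨n, hn⟩ := exists_smul_eq hN (q H hH) (q K hK)
  refine ⟨n, n.2, ?_⟩
  have hn' : (n : G) • q H hH = q K hK := hn
  rw [← hstab H hH, ← hstab K hK, ← hn', MulAction.stabilizer_smul_eq_stabilizer_map_conj,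
    Subgroup.pointwise_smul_def]
  rfl

theorem isComplement'_of_card [Finite G] {N H : Subgroup G} (hN : (Nat.card N).Coprime N.index)
    (h : Nat.card H = N.index) : IsComplement' N H :=
  isComplement'_of_coprime (by rw [h, N.card_mul_index]) (h ▸ hN)

/-- Images of complements in a quotient by a subgroup of `N`. -/
theorem complement_map_quotient [Finite G] {N H M : Subgroup G} [M.Normal] (hMN : M ≤ N)
    (hN : (Nat.card N).Coprime N.index) (hH : IsComplement' N H) :
    IsComplement' (N.map (QuotientGroup.mk' M)) (H.map (QuotientGroup.mk' M)) ∧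
      (Nat.card (N.map (QuotientGroup.mk' M))).Coprime (N.map (QuotientGroup.mk' M)).index := by
  have hidx : (N.map (QuotientGroup.mk' M)).index = N.index :=
    N.index_map_eq (QuotientGroup.mk'_surjective M) (by rwa [QuotientGroup.ker_mk'])
  have hcd : Nat.card (N.map (QuotientGroup.mk' M)) ∣ Nat.card N := Subgroup.card_map_dvd _ _
  have hcop : (Nat.card (N.map (QuotientGroup.mk' M))).Coprime (N.map (QuotientGroup.mk' M)).index := by
    rw [hidx]
    exact hN.coprime_dvd_left hcd
  refine ⟨isComplement'_of_card hcop ?_, hcop⟩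
  rw [hidx]
  rw [hH.symm.index_eq_card]
  have hinj : Function.Injective ((QuotientGroup.mk' M).comp H.subtype) := by
    rw [injective_iff_map_eq_one]
    intro x hx
    exact Subtype.ext (Subgroup.disjoint_def.mp hH.disjoint
      (hMN ((QuotientGroup.eq_one_iff _).mp hx)) x.2)
  rw [show H.map (QuotientGroup.mk' M) = ((QuotientGroup.mk' M).comp H.subtype).range by
    rw [MonoidHom.range_comp, Subgroup.range_subtype]]
  exact (Nat.card_congr (MonoidHom.ofInjective hinj).toEquiv).symm

/-- A complement of `N` in a subgroup `U` containing it. -/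
theorem complement_inf [Finite G] {N H U : Subgroup G} [N.Normal] (hN : (Nat.card N).Coprime N.index)
    (hH : IsComplement' N H) (hHU : H ≤ U) :
    IsComplement' (N.subgroupOf U) (H.subgroupOf U) ∧
      (Nat.card (N.subgroupOf U)).Coprime (N.subgroupOf U).index := by
  have hcd : Nat.card (N.subgroupOf U) ∣ Nat.card N :=
    card_comap_dvd_of_injective N U.subtype U.subtype_injective
  have hc : IsComplement' (N.subgroupOf U) (H.subgroupOf U) := by
    refine isComplement'_of_disjoint_and_mul_eq_univ ?_ ?_
    · rw [Subgroup.disjoint_def]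
      intro x hx hx'
      exact Subtype.ext (Subgroup.disjoint_def.mp hH.disjoint hx hx')
    · refine Set.eq_univ_of_forall fun x => ?_
      obtain ⟨⟨n, h⟩, hnh⟩ := (show Function.Surjective fun z : N × H => (z.1 : G) * z.2 from hH.2) (x : G)
      have hn : (n : G) ∈ U := by
        have : (n : G) = (x : G) * (h : G)⁻¹ := by rw [← hnh]; simp
        rw [this]
        exact U.mul_mem x.2 (U.inv_mem (hHU h.2))
      exact Set.mem_mul.mpr ⟨⟨n, hn⟩, n.2, ⟨h, hHU h.2⟩, h.2, Subtype.ext hnh⟩
  refine ⟨hc, ?_⟩
  rw [hc.symm.index_eq_card, Nat.card_congr (Subgroup.subgroupOfEquivOfLe hHU).toEquiv,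
    ← hH.symm.index_eq_card]
  exact hN.coprime_dvd_left hcd

theorem conj_subgroupOf {U H K : Subgroup G} (hH : H ≤ U) (hK : K ≤ U) {u : U}
    (h : MulAut.conj u • H.subgroupOf U = K.subgroupOf U) : MulAut.conj (u : G) • H = K := by
  ext x
  rw [mem_conj_smul_iff]
  constructor
  · intro hx
    have hxU : x ∈ U := by
      have := U.mul_mem (U.mul_mem u.2 (hH hx)) (U.inv_mem u.2)
      simpa [mul_assoc] using this
    have : (⟨x, hxU⟩ : U) ∈ MulAut.conj u • H.subgroupOf U := mem_conj_smul_iff.mpr hx
    rwa [h] at this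
  · intro hx
    have : (⟨x, hK hx⟩ : U) ∈ K.subgroupOf U := hx
    rw [← h, mem_conj_smul_iff] at this
    exact this

/-- **Schur–Zassenhaus**, conjugacy part. -/
theorem complements_conj [Finite G] {N : Subgroup G} [N.Normal]
    (hN : (Nat.card N).Coprime N.index) (hsolv : Group.IsSolvable N ∨ Group.IsSolvable (G ⧸ N))
    {H K : Subgroup G} (hH : IsComplement' N H) (hK : IsComplement' N K) :
    ∃ g : G, MulAut.conj g • H = K := by
  induction hn : Nat.card G using Nat.strong_induction_on generalizing G with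
  | h n ih =>
    subst hn
    rcases eq_or_ne N ⊥ with rfl | hNne
    · refine ⟨1, ?_⟩
      rw [map_one, one_smul, (isComplement'_bot_left.mp hH : H = ⊤), (isComplement'_bot_left.mp hK : K = ⊤)]
    rcases hsolv with hs | hs
    · -- `N` is solvable
      obtain ⟨M, hMn, hMN, hM0, hMmin⟩ := exists_minimal_normal hNne
      have hMs : Group.IsSolvable M :=
        Group.isSolvable_of_isSolvable_injective (f := Subgroup.inclusion hMN)
          (Subgroup.inclusion_injective hMN)
      obtain ⟨hMc, -⟩ := minimal_normal_elementary hM0 hMs hMmin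
      by_cases hMeq : M = N
      · subst hMeq
        obtain ⟨m, -, hm⟩ := complements_conj_of_abelian hN hH hK
        exact ⟨m, hm⟩
      have hlt : Nat.card (G ⧸ M) < Nat.card G := by
        rw [← index_eq_card, ← M.index_mul_card]
        exact lt_mul_of_one_lt_right (Nat.pos_of_ne_zero index_ne_zero_of_finite)
          (M.one_lt_card_iff_ne_bot.mpr hM0)
      obtain ⟨hH', hcop⟩ := complement_map_quotient hMN hN hH
      have : (N.map (QuotientGroup.mk' M)).Normal :=
        Subgroup.Normal.map inferInstance _ (QuotientGroup.mk'_surjective M)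
      obtain ⟨g, hg⟩ := ih _ hlt hcop (Or.inl (Group.isSolvable_of_surjective
        (f := (QuotientGroup.mk' M).subgroupMap N) ((QuotientGroup.mk' M).subgroupMap_surjective N)))
        hH' (complement_map_quotient hMN hN hK).1 rfl
      obtain ⟨g, rfl⟩ := QuotientGroup.mk'_surjective M g
      have hle : MulAut.conj g • H ≤ K ⊔ M := by
        intro x hx
        rw [mem_conj_smul_iff] at hx
        have h1 : QuotientGroup.mk' M x ∈ K.map (QuotientGroup.mk' M) := by
          rw [← hg, mem_conj_smul_iff, ← map_inv, ← map_mul, ← map_mul]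
          exact Subgroup.mem_map_of_mem _ hx
        rw [sup_comm]
        obtain ⟨k, hk, hkx⟩ := h1
        have h2 : x * k⁻¹ ∈ M := by
          rw [← QuotientGroup.eq_one_iff, QuotientGroup.mk_mul, QuotientGroup.mk_inv,
            mul_inv_eq_one]
          exact hkx.symm
        simpa using Subgroup.mul_mem_sup h2 hk
      have hH1 := conj_smul_complement g hH
      obtain ⟨hcH, -⟩ := complement_inf hN hH1 hle
      obtain ⟨hcK, -⟩ := complement_inf hN hK (le_sup_left : K ≤ K ⊔ M)
      have hNU : N.subgroupOf (K ⊔ M) = M.subgroupOf (K ⊔ M) := by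
        ext x
        refine ⟨fun hx => ?_, fun hx => hMN hx⟩
        obtain ⟨k, hk, m, hm, hkm⟩ := Subgroup.mem_sup_of_normal_right.mp x.2
        have hkN : k ∈ N := by
          have := N.mul_mem (show (x : G) ∈ N from hx) (N.inv_mem (hMN hm))
          rwa [← hkm, mul_inv_cancel_right] at this
        have hk1 : k = 1 := Subgroup.disjoint_def.mp hK.disjoint hkN hk
        rw [hk1, one_mul] at hkm
        exact (hkm ▸ hm : (x : G) ∈ M)
      rw [hNU] at hcH hcK
      have hcop2 : (Nat.card (M.subgroupOf (K ⊔ M))).Coprime (M.subgroupOf (K ⊔ M)).index := by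
        rw [← hNU]
        exact (complement_inf hN hK (le_sup_left : K ≤ K ⊔ M)).2
      obtain ⟨m, -, hm⟩ := complements_conj_of_abelian hcop2 hcH hcK
      exact ⟨m * g, by rw [← conj_smul_mul]; exact conj_subgroupOf hle le_sup_left hm⟩
    · -- `G ⧸ N` is solvable
      have hHs : Group.IsSolvable H :=
        Group.isSolvable_of_isSolvable_injective
          (f := (QuotientGroup.mk' N).comp H.subtype) (by
            rw [injective_iff_map_eq_one]
            intro x hx
            exact Subtype.ext (Subgroup.disjoint_def.mp hH.disjoint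
              ((QuotientGroup.eq_one_iff _).mp hx) x.2))
      rcases eq_or_ne H ⊥ with rfl | hHne
      · refine ⟨1, ?_⟩
        have h1 := hH.symm.index_eq_card
        rw [Subgroup.card_bot, hK.symm.index_eq_card] at h1
        rw [map_one, one_smul, Subgroup.eq_bot_of_card_eq K h1]
      have : Nontrivial H := (Subgroup.nontrivial_iff_ne_bot H).mpr hHne
      obtain ⟨L₀, hLn, -, hL0, hLmin⟩ :=
        exists_minimal_normal (N := (⊤ : Subgroup H)) top_ne_bot
      obtain ⟨-, p, hp, hexp⟩ := minimal_normal_elementary hL0 inferInstance hLmin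
      have := Fact.mk hp
      set L := L₀.map H.subtype with hL
      have hLH : L ≤ H := Subgroup.map_subtype_le L₀
      have hLp : IsPGroup p L := by
        refine IsPGroup.map ?_ H.subtype
        exact fun x => ⟨1, Subtype.ext (by simpa using hexp x x.2)⟩
      have hLne : L ≠ ⊥ := by
        rwa [hL, Ne, Subgroup.map_eq_bot_iff_of_injective _ H.subtype_injective]
      have hHL : H ≤ Subgroup.normalizer (L : Set G) := by
        have := (Subgroup.normal_subgroupOf_iff_le_normalizer hLH).mp (by
          rw [hL, Subgroup.subgroupOf, Subgroup.comap_map_eq_self_of_injective H.subtype_injective]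
          exact hLn)
        exact this
      set X := N ⊔ L with hX
      have hpN : ¬ p ∣ Nat.card N := by
        intro hd
        obtain ⟨k, hk⟩ := IsPGroup.iff_card.mp hLp
        have hk0 : k ≠ 0 := by
          rintro rfl
          exact hLne (Subgroup.eq_bot_of_card_eq L (by simpa using hk))
        have hdi : p ∣ N.index := by
          rw [hH.symm.index_eq_card]
          exact (dvd_pow_self p hk0).trans (hk ▸ Subgroup.card_dvd_of_le hLH)
        exact hp.not_dvd_one (hN ▸ Nat.dvd_gcd hd hdi)
      have hLX : L ≤ X := le_sup_right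
      -- complements of `N` in `X`
      have hcomp : ∀ C : Subgroup G, IsComplement' N C →
          IsComplement' (N.subgroupOf X) ((C ⊓ X).subgroupOf X) := by
        intro C hC
        refine isComplement'_of_disjoint_and_mul_eq_univ ?_ ?_
        · rw [Subgroup.disjoint_def]
          intro x hx hx'
          exact Subtype.ext (Subgroup.disjoint_def.mp hC.disjoint hx hx'.1)
        · refine Set.eq_univ_of_forall fun x => ?_
          obtain ⟨⟨n, c⟩, hnc⟩ := (show Function.Surjective fun z : N × C => (z.1 : G) * z.2 from hC.2) (x : G)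
          have hn : (n : G) ∈ X := Subgroup.mem_sup_left n.2
          have hc : (c : G) ∈ X := by
            have : (c : G) = (n : G)⁻¹ * x := by rw [← hnc]; simp
            rw [this]
            exact X.mul_mem (X.inv_mem hn) x.2
          exact Set.mem_mul.mpr ⟨⟨n, hn⟩, n.2, ⟨c, hc⟩, ⟨c.2, hc⟩, Subtype.ext hnc⟩
      have hHX : (H ⊓ X).subgroupOf X = L.subgroupOf X := by
        ext x
        refine ⟨fun hx => ?_, fun hx => ⟨hLH hx, x.2⟩⟩
        obtain ⟨n, hn, l, hl, hnl⟩ := Subgroup.mem_sup_of_normal_left.mp x.2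
        have hnH : n ∈ H := by
          have := H.mul_mem (show (x : G) ∈ H from hx.1) (H.inv_mem (hLH hl))
          rwa [← hnl, mul_inv_cancel_right] at this
        have hn1 : n = 1 := Subgroup.disjoint_def.mp hH.disjoint hn hnH
        rw [hn1, one_mul] at hnl
        exact (hnl ▸ hl : (x : G) ∈ L)
      have hcL := hcomp H hH
      rw [hHX] at hcL
      have hcK := hcomp K hK
      have hLp' : IsPGroup p (L.subgroupOf X) :=
        hLp.of_equiv (Subgroup.subgroupOfEquivOfLe hLX).symm
      have hnd : ¬ p ∣ (L.subgroupOf X).index := by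
        rw [hcL.index_eq_card, Nat.card_congr (Subgroup.subgroupOfEquivOfLe (le_sup_left : N ≤ X)).toEquiv]
        exact hpN
      have hKp : IsPGroup p ((K ⊓ X).subgroupOf X) := by
        obtain ⟨k, hk⟩ := IsPGroup.iff_card.mp hLp'
        refine IsPGroup.of_card (n := k) ?_
        rw [← hk, ← hcK.symm.index_eq_card, hcL.symm.index_eq_card]
      have hndK : ¬ p ∣ ((K ⊓ X).subgroupOf X).index := by
        rw [hcK.index_eq_card, ← hcL.index_eq_card]
        exact hnd
      obtain ⟨x, hx⟩ := MulAction.exists_smul_eq X (hLp'.toSylow hnd) (hKp.toSylow hndK)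
      have hx' : MulAut.conj (x : G) • L = K ⊓ X :=
        conj_subgroupOf hLX inf_le_right (congrArg Sylow.toSubgroup hx)
      set H' := MulAut.conj (x : G) • H with hH'
      set L' := K ⊓ X with hL'
      have hH'c : IsComplement' N H' := conj_smul_complement _ hH
      have hXn : X.Normal := by
        have hNX : N ≤ Subgroup.normalizer (X : Set G) :=
          (le_sup_left : N ≤ X).trans Subgroup.le_normalizer
        have hHX' : H ≤ Subgroup.normalizer (X : Set G) := by
          intro h hh
          rw [Subgroup.mem_normalizer_iff_map_conj_eq, Subgroup.map_sup]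
          rw [Subgroup.mem_normalizer_iff_map_conj_eq.mp (hHL hh),
            Subgroup.mem_normalizer_iff_map_conj_eq.mp
              (show h ∈ Subgroup.normalizer (N : Set G) by
                rw [Subgroup.normalizer_eq_top]; exact Subgroup.mem_top h)]
        rw [← Subgroup.normalizer_eq_top_iff, eq_top_iff, ← hH.sup_eq_top]
        exact sup_le hNX hHX'
      have hK' : K ≤ Subgroup.normalizer (L' : Set G) := by
        have : (L'.subgroupOf K).Normal := by
          rw [hL', Subgroup.inf_subgroupOf_left]
          exact hXn.comap K.subtype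
        exact (Subgroup.normal_subgroupOf_iff_le_normalizer inf_le_left).mp this
      have hH'L : H' ≤ Subgroup.normalizer (L' : Set G) := by
        intro y hy
        rw [hH', mem_conj_smul_iff] at hy
        have := Subgroup.mem_normalizer_iff.mp (hHL hy)
        rw [Subgroup.mem_normalizer_iff]
        intro z
        rw [← hx', mem_conj_smul_iff, mem_conj_smul_iff, this]
        simp [mul_assoc]
      have hL'ne : L' ≠ ⊥ := by
        intro h
        rw [h] at hx'
        exact hLne ((Subgroup.eq_bot_of_card_eq L) (by rw [← card_conj_smul (x : G) L, hx', Subgroup.card_bot]))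
      set M := Subgroup.normalizer (L' : Set G) with hM
      obtain ⟨g, hg⟩ : ∃ g : G, MulAut.conj g • H' = K := by
        by_cases hMtop : M = ⊤
        · have hL'n : L'.Normal := Subgroup.normalizer_eq_top_iff.mp hMtop
          have hlt : Nat.card (G ⧸ L') < Nat.card G := by
            rw [← index_eq_card, ← L'.index_mul_card]
            exact lt_mul_of_one_lt_right (Nat.pos_of_ne_zero index_ne_zero_of_finite)
              (L'.one_lt_card_iff_ne_bot.mpr hL'ne)
          have hL'H : L' ≤ H' := by
            rw [← hx', hH']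
            exact Subgroup.pointwise_smul_le_pointwise_smul_iff.mpr hLH
          have hNn : (N.map (QuotientGroup.mk' L')).Normal :=
            Subgroup.Normal.map inferInstance _ (QuotientGroup.mk'_surjective L')
          have hmap : ∀ C : Subgroup G, IsComplement' N C → L' ≤ C →
              IsComplement' (N.map (QuotientGroup.mk' L')) (C.map (QuotientGroup.mk' L')) := by
            intro C hC hLC
            refine isComplement'_of_disjoint_and_mul_eq_univ ?_ ?_
            · rw [Subgroup.disjoint_def]
              rintro _ ⟨a, ha, rfl⟩ ⟨b, hb, hab⟩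
              have h1 : a * b⁻¹ ∈ L' := by
                rw [← QuotientGroup.eq_one_iff, QuotientGroup.mk_mul, QuotientGroup.mk_inv,
                  mul_inv_eq_one]
                exact hab.symm
              have haC : a ∈ C := by
                have := C.mul_mem (hLC h1) hb
                rwa [inv_mul_cancel_right] at this
              rw [Subgroup.disjoint_def.mp hC.disjoint ha haC, map_one]
            · refine Set.eq_univ_of_forall fun y => ?_
              obtain ⟨y, rfl⟩ := QuotientGroup.mk'_surjective L' y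
              obtain ⟨⟨a, b⟩, hab⟩ := (show Function.Surjective fun z : N × C => (z.1 : G) * z.2 from hC.2) y
              exact Set.mem_mul.mpr ⟨_, Subgroup.mem_map_of_mem _ a.2, _,
                Subgroup.mem_map_of_mem _ b.2, by rw [← map_mul]; exact congrArg _ hab⟩
          have h1 := hmap H' hH'c hL'H
          have h2 := hmap K hK inf_le_left
          have hcop : (Nat.card (N.map (QuotientGroup.mk' L'))).Coprime
              (N.map (QuotientGroup.mk' L')).index := by
            refine (hN.coprime_dvd_left (Subgroup.card_map_dvd _ _)).coprime_dvd_right ?_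
            exact Subgroup.index_map_dvd _ (QuotientGroup.mk'_surjective L')
          have hs' : Group.IsSolvable ((G ⧸ L') ⧸ N.map (QuotientGroup.mk' L')) := by
            refine Group.isSolvable_of_surjective (f := QuotientGroup.map N (N.map (QuotientGroup.mk' L'))
              (QuotientGroup.mk' L') (Subgroup.le_comap_map _ _)) ?_
            intro y
            obtain ⟨y, rfl⟩ := QuotientGroup.mk'_surjective _ y
            obtain ⟨y, rfl⟩ := QuotientGroup.mk'_surjective _ y
            exact ⟨QuotientGroup.mk y, rfl⟩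
          obtain ⟨g, hg⟩ := ih _ hlt hcop (Or.inr hs') h1 h2 rfl
          obtain ⟨g, rfl⟩ := QuotientGroup.mk'_surjective L' g
          refine ⟨g, Subgroup.eq_of_le_of_card_ge ?_ (le_of_eq ?_)⟩
          · intro y hy
            rw [mem_conj_smul_iff] at hy
            have h3 : QuotientGroup.mk' L' y ∈ K.map (QuotientGroup.mk' L') := by
              rw [← hg, mem_conj_smul_iff, ← map_inv, ← map_mul, ← map_mul]
              exact Subgroup.mem_map_of_mem _ hy
            obtain ⟨k, hk, hky⟩ := h3
            have h4 : y * k⁻¹ ∈ L' := by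
              rw [← QuotientGroup.eq_one_iff, QuotientGroup.mk_mul, QuotientGroup.mk_inv,
                mul_inv_eq_one]
              exact hky.symm
            have := K.mul_mem h4.1 hk
            rwa [inv_mul_cancel_right] at this
          · rw [card_conj_smul, ← hH'c.symm.index_eq_card, ← hK.symm.index_eq_card]
        · have hlt : Nat.card M < Nat.card G :=
            lt_of_le_of_ne (Subgroup.card_le_card_group M) fun h => hMtop (Subgroup.eq_top_of_card_eq M h)
          obtain ⟨h1, hcop⟩ := complement_inf hN hH'c hH'L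
          obtain ⟨h2, -⟩ := complement_inf hN hK hK'
          have hs' : Group.IsSolvable (M ⧸ N.subgroupOf M) := by
            refine Group.isSolvable_of_isSolvable_injective
              (f := QuotientGroup.map (N.subgroupOf M) N M.subtype le_rfl) ?_
            rw [injective_iff_map_eq_one]
            intro y hy
            obtain ⟨y, rfl⟩ := QuotientGroup.mk'_surjective _ y
            exact (QuotientGroup.eq_one_iff _).mpr
              ((QuotientGroup.eq_one_iff (N := N) (y : G)).mp hy)
          obtain ⟨m, hm⟩ := ih _ hlt hcop (Or.inr hs') h1 h2 rfl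
          exact ⟨m, conj_subgroupOf hH'L hK' hm⟩
      exact ⟨g * x, by rw [← conj_smul_mul]; exact hg⟩

/-- The conjugating element may be chosen in `N`. -/
theorem complements_conj_mem [Finite G] {N : Subgroup G} [N.Normal]
    (hN : (Nat.card N).Coprime N.index) (hsolv : Group.IsSolvable N ∨ Group.IsSolvable (G ⧸ N))
    {H K : Subgroup G} (hH : IsComplement' N H) (hK : IsComplement' N K) :
    ∃ n ∈ N, MulAut.conj n • H = K := by
  obtain ⟨g, hg⟩ := complements_conj hN hsolv hH hK
  obtain ⟨⟨n, h⟩, hnh⟩ := (show Function.Surjective fun z : N × H => (z.1 : G) * z.2 from hH.2) g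
  refine ⟨n, n.2, ?_⟩
  rw [← hg, ← hnh, ← conj_smul_mul, Subgroup.conj_smul_eq_self_of_mem h.2]

/-! ### Coprime action -/

theorem mem_sup_of_le_normalizer {A W : Subgroup G} (hAW : A ≤ Subgroup.normalizer (W : Set G))
    {x : G} (hx : x ∈ W ⊔ A) : ∃ w ∈ W, ∃ a ∈ A, w * a = x := by
  rw [← SetLike.mem_coe, Subgroup.coe_mul_of_right_le_normalizer_left W A hAW] at hx
  obtain ⟨w, hw, a, ha, rfl⟩ := hx
  exact ⟨w, hw, a, ha, rfl⟩

/-- If `k` conjugates `A` into `W A`, then some element of `k W` normalises `A`. -/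
theorem coprime_key_normalize [Finite G] {A W : Subgroup G}
    (hcop : (Nat.card A).Coprime (Nat.card W)) (hsolv : Group.IsSolvable A ∨ Group.IsSolvable W)
    (hAW : A ≤ Subgroup.normalizer (W : Set G)) {k : G}
    (hka : ∀ a ∈ A, k⁻¹ * a * k ∈ W ⊔ A) :
    ∃ w ∈ W, ∀ a ∈ A, k * w * a * (k * w)⁻¹ ∈ A := by
  have hdisj : ∀ x ∈ A, x ∈ W → x = 1 := fun x hxA hxK =>
    Subgroup.disjoint_def.mp (Subgroup.disjoint_of_coprime_natCard hcop) hxA hxK
  set U := W ⊔ A with hU
  have hWn : (W.subgroupOf U).Normal :=
    (Subgroup.normal_subgroupOf_iff_le_normalizer le_sup_left).mpr (sup_le Subgroup.le_normalizer hAW)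
  have hcA : IsComplement' (W.subgroupOf U) (A.subgroupOf U) := by
    refine isComplement'_of_disjoint_and_mul_eq_univ ?_ ?_
    · rw [Subgroup.disjoint_def]
      intro x hx hx'
      exact Subtype.ext (hdisj x hx' hx)
    · refine Set.eq_univ_of_forall fun x => ?_
      obtain ⟨w, hw, a, ha, hwa⟩ := mem_sup_of_le_normalizer hAW x.2
      exact Set.mem_mul.mpr ⟨⟨w, Subgroup.mem_sup_left hw⟩, hw, ⟨a, Subgroup.mem_sup_right ha⟩, ha,
        Subtype.ext hwa⟩
  have hcop' : (Nat.card (W.subgroupOf U)).Coprime (W.subgroupOf U).index := by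
    rw [hcA.symm.index_eq_card, Nat.card_congr (Subgroup.subgroupOfEquivOfLe (le_sup_left : W ≤ U)).toEquiv,
      Nat.card_congr (Subgroup.subgroupOfEquivOfLe (le_sup_right : A ≤ U)).toEquiv]
    exact hcop.symm
  have hsolv' : Group.IsSolvable (W.subgroupOf U) ∨ Group.IsSolvable (U ⧸ W.subgroupOf U) := by
    rcases hsolv with hs | hs
    · right
      refine Group.isSolvable_of_surjective
        (f := (QuotientGroup.mk' (W.subgroupOf U)).comp (Subgroup.inclusion (le_sup_right : A ≤ U))) ?_
      intro y
      obtain ⟨y, rfl⟩ := QuotientGroup.mk'_surjective _ y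
      obtain ⟨w, hw, a, ha, hwa⟩ := mem_sup_of_le_normalizer hAW y.2
      refine ⟨⟨a, ha⟩, ?_⟩
      change QuotientGroup.mk' _ _ = QuotientGroup.mk' _ _
      rw [QuotientGroup.mk'_eq_mk']
      refine ⟨⟨a⁻¹ * w * a, ?_⟩, ?_, ?_⟩
      · exact U.mul_mem (U.mul_mem (U.inv_mem (Subgroup.mem_sup_right ha)) (Subgroup.mem_sup_left hw))
          (Subgroup.mem_sup_right ha)
      · have := (Subgroup.mem_normalizer_iff.mp (hAW (A.inv_mem ha)) w).mp hw
        simpa [Subgroup.mem_subgroupOf] using this
      · refine Subtype.ext ?_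
        simp [← hwa, mul_assoc]
    · left
      exact Group.isSolvable_of_isSolvable_injective
        (f := (Subgroup.subgroupOfEquivOfLe (le_sup_left : W ≤ U)).toMonoidHom)
        (Subgroup.subgroupOfEquivOfLe _).injective
  set A' := MulAut.conj k⁻¹ • A with hA'
  have hA'U : A' ≤ U := by
    intro x hx
    rw [hA', mem_conj_smul_iff, inv_inv] at hx
    simpa [mul_assoc] using hka _ hx
  have hcA' : IsComplement' (W.subgroupOf U) (A'.subgroupOf U) := by
    refine isComplement'_of_card hcop' ?_
    rw [Nat.card_congr (Subgroup.subgroupOfEquivOfLe hA'U).toEquiv, hA', card_conj_smul,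
      hcA.symm.index_eq_card, Nat.card_congr (Subgroup.subgroupOfEquivOfLe (le_sup_right : A ≤ U)).toEquiv]
  obtain ⟨w, hw, hwA⟩ := complements_conj_mem hcop' hsolv' hcA hcA'
  refine ⟨w, hw, ?_⟩
  have h := conj_subgroupOf le_sup_right hA'U hwA
  intro a ha
  have h1 : (w : G) * a * (w : G)⁻¹ ∈ A' := by
    rw [← h, mem_conj_smul_iff]
    simpa [mul_assoc] using ha
  rw [hA', mem_conj_smul_iff, inv_inv] at h1
  simpa [mul_assoc] using h1

/-- The basic lemma of coprime action: if `k ∈ K` conjugates `A` into `W A`, then `k W` meets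
`C_K(A)`. -/
theorem coprime_key [Finite G] {A K W : Subgroup G} (hAK : A ≤ Subgroup.normalizer (K : Set G))
    (hcop : (Nat.card A).Coprime (Nat.card K)) (hsolv : Group.IsSolvable A ∨ Group.IsSolvable K)
    (hWK : W ≤ K) (hAW : A ≤ Subgroup.normalizer (W : Set G)) {k : G} (hk : k ∈ K)
    (hka : ∀ a ∈ A, k⁻¹ * a * k ∈ W ⊔ A) :
    ∃ w ∈ W, k * w ∈ Subgroup.centralizer (A : Set G) := by
  have hs : Group.IsSolvable A ∨ Group.IsSolvable W := by
    rcases hsolv with h | h
    · exact Or.inl h
    · exact Or.inr (Group.isSolvable_of_isSolvable_injective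
        (f := Subgroup.inclusion hWK) (Subgroup.inclusion_injective _))
  obtain ⟨w, hw, h⟩ := coprime_key_normalize (hcop.coprime_dvd_right (Subgroup.card_dvd_of_le hWK))
    hs hAW hka
  refine ⟨w, hw, fun a ha => ?_⟩
  set c := k * w with hc
  have hcK : c ∈ K := K.mul_mem hk (hWK hw)
  have h2 : c * a * c⁻¹ * a⁻¹ = 1 := by
    refine Subgroup.disjoint_def.mp (Subgroup.disjoint_of_coprime_natCard hcop)
      (A.mul_mem (h a ha) (A.inv_mem ha)) ?_
    have := K.mul_mem hcK ((Subgroup.mem_normalizer_iff.mp (hAK ha) _).mp (K.inv_mem hcK))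
    simpa [mul_assoc] using this
  rw [mul_inv_eq_one, mul_inv_eq_iff_eq_mul] at h2
  exact h2.symm

/-- Fixed points in a quotient lift to fixed points. -/
theorem coprime_fixed_quotient [Finite G] {A K N : Subgroup G}
    (hAK : A ≤ Subgroup.normalizer (K : Set G)) (hcop : (Nat.card A).Coprime (Nat.card K))
    (hsolv : Group.IsSolvable A ∨ Group.IsSolvable K) (hNK : N ≤ K)
    (hKN : K ≤ Subgroup.normalizer (N : Set G)) (hNA : A ≤ Subgroup.normalizer (N : Set G))
    {k : G} (hk : k ∈ K) (hfix : ∀ a ∈ A, a * k * a⁻¹ * k⁻¹ ∈ N) :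
    ∃ c ∈ K ⊓ Subgroup.centralizer (A : Set G), k⁻¹ * c ∈ N := by
  obtain ⟨w, hw, hc⟩ := coprime_key hAK hcop hsolv hNK hNA hk (fun a ha => by
    have h1 := (Subgroup.mem_normalizer_iff.mp (hKN (K.inv_mem hk)) _).mp (hfix a ha)
    have h2 := Subgroup.mul_mem_sup h1 ha
    simpa [mul_assoc] using h2)
  exact ⟨k * w, ⟨K.mul_mem hk (hNK hw), hc⟩, by simpa using hw⟩

/-- The `A`-invariance, inside `G`, of a Sylow subgroup of `K`. -/
theorem coprime_exists_invariant_sylow [Finite G] {A K : Subgroup G}
    (hAK : A ≤ Subgroup.normalizer (K : Set G)) (hcop : (Nat.card A).Coprime (Nat.card K))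
    (hsolv : Group.IsSolvable A ∨ Group.IsSolvable K) (p : ℕ) [Fact p.Prime] :
    ∃ P : Sylow p K, A ≤ Subgroup.normalizer ((P : Subgroup K).map K.subtype : Set G) := by
  set L := K ⊔ A with hL
  have hKn : (K.subgroupOf L).Normal :=
    (Subgroup.normal_subgroupOf_iff_le_normalizer le_sup_left).mpr (sup_le Subgroup.le_normalizer hAK)
  have hcA : IsComplement' (K.subgroupOf L) (A.subgroupOf L) := by
    refine isComplement'_of_disjoint_and_mul_eq_univ ?_ ?_
    · rw [Subgroup.disjoint_def]
      intro x hx hx'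
      exact Subtype.ext (Subgroup.disjoint_def.mp (Subgroup.disjoint_of_coprime_natCard hcop) hx' hx)
    · refine Set.eq_univ_of_forall fun x => ?_
      obtain ⟨w, hw, a, ha, hwa⟩ := mem_sup_of_le_normalizer hAK x.2
      exact Set.mem_mul.mpr ⟨⟨w, Subgroup.mem_sup_left hw⟩, hw, ⟨a, Subgroup.mem_sup_right ha⟩, ha,
        Subtype.ext hwa⟩
  have hcopL : (Nat.card (K.subgroupOf L)).Coprime (K.subgroupOf L).index := by
    rw [hcA.symm.index_eq_card, Nat.card_congr (Subgroup.subgroupOfEquivOfLe (le_sup_left : K ≤ L)).toEquiv,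
      Nat.card_congr (Subgroup.subgroupOfEquivOfLe (le_sup_right : A ≤ L)).toEquiv]
    exact hcop.symm
  have hsL : Group.IsSolvable (K.subgroupOf L) ∨ Group.IsSolvable (L ⧸ K.subgroupOf L) := by
    rcases hsolv with hs | hs
    · right
      have := hcA.symm.QuotientMulEquiv
      refine Group.isSolvable_of_surjective
        (f := this.symm.toMonoidHom.comp (Subgroup.subgroupOfEquivOfLe (le_sup_right : A ≤ L)).symm.toMonoidHom) ?_
      exact this.symm.surjective.comp (Subgroup.subgroupOfEquivOfLe _).symm.surjective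
    · left
      exact Group.isSolvable_of_isSolvable_injective
        (f := (Subgroup.subgroupOfEquivOfLe (le_sup_left : K ≤ L)).toMonoidHom)
        (Subgroup.subgroupOfEquivOfLe _).injective
  obtain ⟨P⟩ : Nonempty (Sylow p (K.subgroupOf L)) := inferInstance
  set M := Subgroup.normalizer ((P : Subgroup (K.subgroupOf L)).map (K.subgroupOf L).subtype : Set L)
  have hsup : M ⊔ K.subgroupOf L = ⊤ := P.normalizer_sup_eq_top
  have hidx : ((K.subgroupOf L).subgroupOf M).index = (K.subgroupOf L).index := by
    have h1 := Subgroup.relIndex_sup_right (K := K.subgroupOf L) (H := M)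
    rw [hsup, Subgroup.relIndex_top_right] at h1
    exact h1.symm
  obtain ⟨A₁, hA₁⟩ := Subgroup.exists_right_complement'_of_coprime
    (N := (K.subgroupOf L).subgroupOf M) (by
      rw [hidx]
      exact hcopL.coprime_dvd_left (card_comap_dvd_of_injective _ M.subtype M.subtype_injective))
  have hA₁c : IsComplement' (K.subgroupOf L) (A₁.map M.subtype) := by
    refine isComplement'_of_card hcopL ?_
    rw [Subgroup.card_map_of_injective M.subtype_injective, ← hA₁.symm.index_eq_card, hidx]
  obtain ⟨l, hl, hlA⟩ := complements_conj_mem hcopL hsL hcA hA₁c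
  -- `A` normalises the conjugate of `P` by `l⁻¹`
  let Q : Sylow p K := Sylow.mapSurjective (f := (Subgroup.subgroupOfEquivOfLe (le_sup_left : K ≤ L)).toMonoidHom)
    (Subgroup.subgroupOfEquivOfLe _).surjective ((⟨l, hl⟩ : K.subgroupOf L)⁻¹ • P)
  refine ⟨Q, fun a ha => ?_⟩
  let a' : L := ⟨a, Subgroup.mem_sup_right ha⟩
  have h1 : l * a' * l⁻¹ ∈ M := by
    have : l * a' * l⁻¹ ∈ A₁.map M.subtype := by
      rw [← hlA, mem_conj_smul_iff]
      simpa [mul_assoc, Subgroup.mem_subgroupOf, a'] using ha
    exact Subgroup.map_subtype_le A₁ this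
  have hQ : ((Q : Subgroup K).map K.subtype) =
      (MulAut.conj l⁻¹ • (P : Subgroup (K.subgroupOf L)).map (K.subgroupOf L).subtype).map L.subtype := by
    ext z
    constructor
    · rintro ⟨y, hy, rfl⟩
      obtain ⟨w, hw, rfl⟩ := hy
      rw [Sylow.coe_subgroup_smul, SetLike.mem_coe, mem_conj_smul_iff] at hw
      refine ⟨(w : L), ?_, rfl⟩
      rw [SetLike.mem_coe, mem_conj_smul_iff]
      exact ⟨_, hw, rfl⟩
    · rintro ⟨y, hy, rfl⟩
      rw [SetLike.mem_coe, mem_conj_smul_iff] at hy
      obtain ⟨w, hw, hwy⟩ := hy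
      have hyK : y ∈ K.subgroupOf L := by
        have : y = l⁻¹ * (w : L) * l := by
          have h' : (w : L) = (l⁻¹)⁻¹ * y * l⁻¹ := hwy
          rw [h']; group
        rw [this]
        exact mul_mem (mul_mem (inv_mem hl) w.2) hl
      refine ⟨⟨(y : G), hyK⟩, ?_, rfl⟩
      refine ⟨⟨y, hyK⟩, ?_, rfl⟩
      rw [Sylow.coe_subgroup_smul, SetLike.mem_coe, mem_conj_smul_iff]
      have : (⟨l, hl⟩⁻¹ : K.subgroupOf L)⁻¹ * ⟨y, hyK⟩ * (⟨l, hl⟩ : K.subgroupOf L)⁻¹ = w :=
        Subtype.ext hwy.symm
      rw [this]
      exact hw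
  rw [hQ, Subgroup.mem_normalizer_iff]
  have h2 := Subgroup.mem_normalizer_iff.mp h1
  intro x
  constructor
  · rintro ⟨y, hy, rfl⟩
    refine ⟨a' * y * a'⁻¹, ?_, rfl⟩
    rw [SetLike.mem_coe, mem_conj_smul_iff] at hy ⊢
    have := (h2 _).mp hy
    simpa [mul_assoc] using this
  · rintro ⟨y, hy, hyx⟩
    refine ⟨a'⁻¹ * y * a', ?_, ?_⟩
    · rw [SetLike.mem_coe, mem_conj_smul_iff] at hy ⊢
      refine (h2 _).mpr ?_
      simpa [mul_assoc] using hy
    · simp only [Subgroup.coe_subtype] at hyx
      simp [hyx, a', mul_assoc]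

/-- Two `A`-invariant Sylow subgroups are conjugate under `C_K(A)`. -/
theorem coprime_invariant_sylow_conj [Finite G] {A K : Subgroup G}
    (hAK : A ≤ Subgroup.normalizer (K : Set G)) (hcop : (Nat.card A).Coprime (Nat.card K))
    (hsolv : Group.IsSolvable A ∨ Group.IsSolvable K) {p : ℕ} [Fact p.Prime] (P Q : Sylow p K)
    (hP : A ≤ Subgroup.normalizer ((P : Subgroup K).map K.subtype : Set G))
    (hQ : A ≤ Subgroup.normalizer ((Q : Subgroup K).map K.subtype : Set G)) :
    ∃ c : K, (c : G) ∈ Subgroup.centralizer (A : Set G) ∧ MulAut.conj c • P = Q := by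
  obtain ⟨k, hk⟩ := MulAction.exists_smul_eq K P Q
  set P' := (P : Subgroup K).map K.subtype with hP'
  set W := K ⊓ Subgroup.normalizer (P' : Set G) with hW
  have hPQ : (Q : Subgroup K).map K.subtype = MulAut.conj (k : G) • P' := by
    ext x
    rw [mem_conj_smul_iff]
    constructor
    · rintro ⟨y, hy, rfl⟩
      rw [← hk, Sylow.coe_subgroup_smul, SetLike.mem_coe, mem_conj_smul_iff] at hy
      exact ⟨_, hy, rfl⟩
    · rintro ⟨y, hy, hyx⟩
      refine ⟨k * y * k⁻¹, ?_, ?_⟩
      · rw [← hk, Sylow.coe_subgroup_smul, SetLike.mem_coe, mem_conj_smul_iff]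
        rw [show k⁻¹ * (k * y * k⁻¹) * k = y by group]
        exact hy
      · simp only [Subgroup.coe_subtype] at hyx
        simp [hyx, mul_assoc]
  have hAW : A ≤ Subgroup.normalizer (W : Set G) := by
    intro a ha
    rw [Subgroup.mem_normalizer_iff]
    intro x
    have h1 := Subgroup.mem_normalizer_iff.mp (hAK ha) x
    have h2 : x ∈ Subgroup.normalizer (P' : Set G) ↔ a * x * a⁻¹ ∈ Subgroup.normalizer (P' : Set G) := by
      constructor
      · intro hx; exact mul_mem (mul_mem (hP ha) hx) (inv_mem (hP ha))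
      · intro hx
        have := mul_mem (mul_mem (inv_mem (hP ha)) hx) (hP ha)
        simpa [mul_assoc] using this
    simp only [hW, Subgroup.mem_inf]
    rw [h1, h2]
  obtain ⟨w, hw, hc⟩ := coprime_key hAK hcop hsolv inf_le_left hAW k.2 (fun a ha => by
    have hn : (k : G)⁻¹ * a * k ∈ Subgroup.normalizer (P' : Set G) := by
      have h1 := Subgroup.mem_normalizer_iff.mp (hQ ha)
      rw [Subgroup.mem_normalizer_iff]
      intro x
      have h2 := h1 (k * x * (k : G)⁻¹)
      rw [hPQ, mem_conj_smul_iff, mem_conj_smul_iff] at h2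
      simpa [mul_assoc] using h2
    have hwK : (k : G)⁻¹ * a * k * a⁻¹ ∈ W := by
      refine ⟨?_, (Subgroup.normalizer (P' : Set G)).mul_mem hn
        ((Subgroup.normalizer (P' : Set G)).inv_mem (hP ha))⟩
      have := K.mul_mem (K.inv_mem k.2) ((Subgroup.mem_normalizer_iff.mp (hAK ha) _).mp k.2)
      simpa [mul_assoc] using this
    simpa using Subgroup.mul_mem_sup hwK ha)
  refine ⟨k * ⟨w, hw.1⟩, hc, ?_⟩
  rw [← hk, map_mul, mul_smul]
  change MulAut.conj k • MulAut.conj (⟨w, hw.1⟩ : K) • P = k • P
  have : MulAut.conj (⟨w, hw.1⟩ : K) • P = P := by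
    refine Sylow.smul_eq_iff_mem_normalizer.mpr ?_
    refine Subgroup.mem_normalizer_iff.mpr fun x => ?_
    have := Subgroup.mem_normalizer_iff.mp hw.2 (x : G)
    rw [hP', show w * (x : G) * w⁻¹ = K.subtype (⟨w, hw.1⟩ * x * (⟨w, hw.1⟩ : K)⁻¹) from rfl,
      show (x : G) = K.subtype x from rfl, Subgroup.mem_map_iff_mem K.subtype_injective,
      Subgroup.mem_map_iff_mem K.subtype_injective] at this
    exact this
  rw [this]
  rfl

theorem commutator_le_of_le_normalizer {A K : Subgroup G}
    (hAK : A ≤ Subgroup.normalizer (K : Set G)) : ⁅K, A⁆ ≤ K := by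
  rw [Subgroup.commutator_le]
  intro k hk a ha
  have := K.mul_mem hk ((Subgroup.mem_normalizer_iff.mp (hAK ha) _).mp (K.inv_mem hk))
  simpa [commutatorElement_def, mul_assoc] using this

theorem left_le_normalizer_commutator (A K : Subgroup G) :
    K ≤ Subgroup.normalizer ((⁅K, A⁆ : Subgroup G) : Set G) := by
  intro k hk
  rw [Subgroup.mem_normalizer_iff]
  suffices ∀ k ∈ K, ∀ x ∈ ⁅K, A⁆, k * x * k⁻¹ ∈ ⁅K, A⁆ by
    intro x
    refine ⟨this k hk x, fun h => ?_⟩
    have := this k⁻¹ (K.inv_mem hk) _ h
    simpa [mul_assoc] using this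
  intro k hk x hx
  have hle : ⁅K, A⁆ ≤ (⁅K, A⁆ : Subgroup G).comap (MulAut.conj k).toMonoidHom := by
    rw [Subgroup.commutator_le]
    intro k' hk' a ha
    rw [Subgroup.mem_comap, MulEquiv.coe_toMonoidHom, MulAut.conj_apply,
      show k * ⁅k', a⁆ * k⁻¹ = ⁅k * k', a⁆ * ⁅k, a⁆⁻¹ by simp only [commutatorElement_def]; group]
    exact mul_mem (Subgroup.commutator_mem_commutator (K.mul_mem hk hk') ha)
      (inv_mem (Subgroup.commutator_mem_commutator hk ha))
  exact hle hx

theorem right_le_normalizer_commutator (A K : Subgroup G) :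
    A ≤ Subgroup.normalizer ((⁅K, A⁆ : Subgroup G) : Set G) := by
  rw [Subgroup.commutator_comm]
  exact left_le_normalizer_commutator K A

/-- `K = [K, A] C_K(A)` elementwise. -/
theorem coprime_decomp [Finite G] {A K : Subgroup G} (hAK : A ≤ Subgroup.normalizer (K : Set G))
    (hcop : (Nat.card A).Coprime (Nat.card K)) (hsolv : Group.IsSolvable A ∨ Group.IsSolvable K)
    {k : G} (hk : k ∈ K) :
    ∃ x ∈ ⁅K, A⁆, ∃ c ∈ K ⊓ Subgroup.centralizer (A : Set G), k = x * c := by
  obtain ⟨c, hc, hkc⟩ := coprime_fixed_quotient hAK hcop hsolv (commutator_le_of_le_normalizer hAK)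
    (left_le_normalizer_commutator A K) (right_le_normalizer_commutator A K) hk (fun a ha => by
      have h := inv_mem (Subgroup.commutator_mem_commutator hk ha)
      simpa [commutatorElement_def, mul_assoc] using h)
  refine ⟨k * c⁻¹, ?_, c, hc, by simp⟩
  have := (Subgroup.mem_normalizer_iff.mp (left_le_normalizer_commutator A K hk) _).mp (inv_mem hkc)
  simpa [mul_assoc] using this

theorem coprime_commutator_sup [Finite G] {A K : Subgroup G} (hAK : A ≤ Subgroup.normalizer (K : Set G))
    (hcop : (Nat.card A).Coprime (Nat.card K)) (hsolv : Group.IsSolvable A ∨ Group.IsSolvable K) :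
    ⁅K, A⁆ ⊔ (K ⊓ Subgroup.centralizer (A : Set G)) = K := by
  refine le_antisymm (sup_le (commutator_le_of_le_normalizer hAK) inf_le_left) fun k hk => ?_
  obtain ⟨x, hx, c, hc, rfl⟩ := coprime_decomp hAK hcop hsolv hk
  exact Subgroup.mul_mem_sup hx hc

theorem coprime_commutator_commutator [Finite G] {A K : Subgroup G}
    (hAK : A ≤ Subgroup.normalizer (K : Set G)) (hcop : (Nat.card A).Coprime (Nat.card K))
    (hsolv : Group.IsSolvable A ∨ Group.IsSolvable K) : ⁅⁅K, A⁆, A⁆ = ⁅K, A⁆ := by
  refine le_antisymm (Subgroup.commutator_mono (commutator_le_of_le_normalizer hAK) le_rfl) ?_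
  rw [Subgroup.commutator_le]
  intro k hk a ha
  obtain ⟨x, hx, c, hc, rfl⟩ := coprime_decomp hAK hcop hsolv hk
  have hca : c * a * c⁻¹ = a := by rw [← hc.2 a ha, mul_inv_cancel_right]
  have : ⁅x * c, a⁆ = ⁅x, a⁆ := by
    rw [commutatorElement_def, commutatorElement_def]
    calc x * c * a * (x * c)⁻¹ * a⁻¹ = x * (c * a * c⁻¹) * x⁻¹ * a⁻¹ := by group
      _ = x * a * x⁻¹ * a⁻¹ := by rw [hca]
  rw [this]
  exact Subgroup.commutator_mem_commutator hx ha

/-- An `A`-invariant `p`-subgroup lies in an `A`-invariant Sylow `p`-subgroup. -/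
theorem coprime_le_invariant_sylow [Finite G] {A K : Subgroup G}
    (hAK : A ≤ Subgroup.normalizer (K : Set G)) (hcop : (Nat.card A).Coprime (Nat.card K))
    (hsolv : Group.IsSolvable A ∨ Group.IsSolvable K) {p : ℕ} [Fact p.Prime] {U : Subgroup G}
    (hUK : U ≤ K) (hU : IsPGroup p U) (hUA : A ≤ Subgroup.normalizer (U : Set G)) :
    ∃ P : Sylow p K, U ≤ (P : Subgroup K).map K.subtype ∧
      A ≤ Subgroup.normalizer ((P : Subgroup K).map K.subtype : Set G) := by
  obtain ⟨V, ⟨hVK, hV, hVA, hUV⟩, hmax⟩ := (Set.toFinite {V : Subgroup G |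
    V ≤ K ∧ IsPGroup p V ∧ A ≤ Subgroup.normalizer (V : Set G) ∧ U ≤ V}).exists_maximal
      ⟨U, hUK, hU, hUA, le_rfl⟩
  set W := K ⊓ Subgroup.normalizer (V : Set G) with hW
  have hAW : A ≤ Subgroup.normalizer (W : Set G) := by
    intro a ha
    rw [Subgroup.mem_normalizer_iff]
    intro x
    have h1 := Subgroup.mem_normalizer_iff.mp (hAK ha) x
    have h2 : x ∈ Subgroup.normalizer (V : Set G) ↔ a * x * a⁻¹ ∈ Subgroup.normalizer (V : Set G) := by
      constructor
      · intro hx; exact mul_mem (mul_mem (hVA ha) hx) (inv_mem (hVA ha))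
      · intro hx
        have := mul_mem (mul_mem (inv_mem (hVA ha)) hx) (hVA ha)
        simpa [mul_assoc] using this
    simp only [hW, Subgroup.mem_inf]
    rw [h1, h2]
  have hs : Group.IsSolvable A ∨ Group.IsSolvable W := by
    rcases hsolv with h | h
    · exact Or.inl h
    · exact Or.inr (Group.isSolvable_of_isSolvable_injective
        (f := Subgroup.inclusion (inf_le_left : W ≤ K)) (Subgroup.inclusion_injective _))
  obtain ⟨S, hS⟩ := coprime_exists_invariant_sylow hAW
    (hcop.coprime_dvd_right (Subgroup.card_dvd_of_le inf_le_left)) hs p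
  set S' := (S : Subgroup W).map W.subtype with hS'
  have hS'W : S' ≤ W := Subgroup.map_subtype_le _
  have hVW : V ≤ W := le_inf hVK Subgroup.le_normalizer
  have hVS : V ≤ S' := by
    have hn : (V.subgroupOf W).Normal :=
      (Subgroup.normal_subgroupOf_iff_le_normalizer hVW).mpr inf_le_right
    have : V.subgroupOf W ≤ S :=
      (hV.of_equiv (Subgroup.subgroupOfEquivOfLe hVW).symm).le_sylow_of_normal S
    have := Subgroup.map_mono (f := W.subtype) this
    rwa [Subgroup.map_subgroupOf_eq_of_le hVW] at this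
  have hS'V : S' ≤ V := hmax ⟨hS'W.trans inf_le_left, S.isPGroup'.map W.subtype, hS, hUV.trans hVS⟩ hVS
  -- `V` is Sylow in `K`
  obtain ⟨P, hP⟩ := (hV.of_equiv (Subgroup.subgroupOfEquivOfLe hVK).symm).exists_le_sylow
  have hPV : (P : Subgroup K).map K.subtype = V := by
    have hle : V ≤ (P : Subgroup K).map K.subtype := by
      have := Subgroup.map_mono (f := K.subtype) hP
      rwa [Subgroup.map_subgroupOf_eq_of_le hVK] at this
    refine le_antisymm ?_ hle
    by_contra hne
    have hlt : V.subgroupOf ((P : Subgroup K).map K.subtype) < ⊤ := by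
      rw [lt_top_iff_ne_top, Ne, Subgroup.subgroupOf_eq_top]
      exact hne
    have hPp : IsPGroup p ((P : Subgroup K).map K.subtype) := P.isPGroup'.map K.subtype
    obtain ⟨y, hy, hyV⟩ := SetLike.exists_of_lt
      (Group.normalizerCondition_of_isNilpotent (h := hPp.isNilpotent) _ hlt)
    have hyn : (y : G) ∈ Subgroup.normalizer (V : Set G) := by
      rw [Subgroup.mem_normalizer_iff]
      intro z
      have key := Subgroup.mem_normalizer_iff.mp hy
      constructor
      · intro hz
        exact (key ⟨z, hle hz⟩).mp hz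
      · intro hz
        have h1 : (y : G)⁻¹ * ((y : G) * z * (y : G)⁻¹) * y ∈ (P : Subgroup K).map K.subtype :=
          mul_mem (mul_mem (inv_mem y.2) (hle hz)) y.2
        have h1' : z ∈ (P : Subgroup K).map K.subtype := by simpa [mul_assoc] using h1
        exact (key ⟨z, h1'⟩).mpr hz
    -- the `p`-subgroup generated by `V` and `y` lies in a Sylow subgroup of `W`
    have hyK : (y : G) ∈ K := Subgroup.map_subtype_le _ y.2
    have hT : IsPGroup p (V ⊔ Subgroup.zpowers (y : G) : Subgroup G) :=
      hPp.to_le (sup_le hle (Subgroup.zpowers_le.mpr y.2))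
    have hTW : V ⊔ Subgroup.zpowers (y : G) ≤ W := sup_le hVW (Subgroup.zpowers_le.mpr ⟨hyK, hyn⟩)
    have hcard : Nat.card (V ⊔ Subgroup.zpowers (y : G) : Subgroup G) ≤ Nat.card V := by
      obtain ⟨S₁, hS₁⟩ := (hT.of_equiv (Subgroup.subgroupOfEquivOfLe hTW).symm).exists_le_sylow
      have h1 := Subgroup.card_le_of_le hS₁
      rw [Nat.card_congr (Subgroup.subgroupOfEquivOfLe hTW).toEquiv,
        Nat.card_congr (S₁.equiv S).toEquiv] at h1
      refine h1.trans ?_
      rw [← Subgroup.card_map_of_injective W.subtype_injective]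
      exact Subgroup.card_le_of_le hS'V
    have := Subgroup.eq_of_le_of_card_ge (le_sup_left : V ≤ V ⊔ Subgroup.zpowers (y : G)) hcard
    exact hyV (show (y : G) ∈ V from this ▸ Subgroup.mem_sup_right (Subgroup.mem_zpowers (y : G)))
  exact ⟨P, hPV.symm ▸ hUV, hPV.symm ▸ hVA⟩

/-- Thompson's `P × Q` lemma. -/
theorem thompson_PxQ [Finite G] {p : ℕ} [Fact p.Prime] {P Q : Subgroup G} (hP : IsPGroup p P)
    (hQ : (Nat.card Q).Coprime p) (hPQ : P ≤ Subgroup.centralizer (Q : Set G)) :
    ∀ U : Subgroup G, IsPGroup p U → P ≤ Subgroup.normalizer (U : Set G) →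
      Q ≤ Subgroup.normalizer (U : Set G) →
      U ⊓ Subgroup.centralizer (P : Set G) ≤ Subgroup.centralizer (Q : Set G) →
      Q ≤ Subgroup.centralizer (U : Set G) := by
  intro U
  induction hn : Nat.card U using Nat.strong_induction_on generalizing U with
  | _ n ih =>
    intro hU hPU hQU hC
    subst hn
    have hcop : (Nat.card Q).Coprime (Nat.card U) := by
      obtain ⟨k, hk⟩ := IsPGroup.iff_card.mp hU
      rw [hk]
      exact hQ.pow_right k
    rcases eq_or_ne U ⊥ with rfl | hU0
    · intro q _ u hu
      simp [Subgroup.mem_bot.mp hu]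
    set U₁ := ⁅U, P⁆ with hU₁
    have hle : U₁ ≤ U := commutator_le_of_le_normalizer hPU
    have hne : U₁ ≠ U := by
      intro heq
      set X := U ⊔ P with hX
      have hXp : IsPGroup p X := IsPGroup.to_sup_of_normal_left' hU hP hPU
      have hXn : Group.IsNilpotent X := hXp.isNilpotent
      set D := U.subgroupOf X with hD
      have hDn : D.Normal :=
        (Subgroup.normal_subgroupOf_iff_le_normalizer le_sup_left).mpr (sup_le Subgroup.le_normalizer hPU)
      have h1 : D ≤ ⁅D, (⊤ : Subgroup X)⁆ := by
        have h2 : D.map X.subtype = U := Subgroup.map_subgroupOf_eq_of_le le_sup_left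
        rw [← Subgroup.map_subtype_le_map_subtype, Subgroup.map_commutator, h2,
          ← MonoidHom.range_eq_map, Subgroup.range_subtype]
        calc U = ⁅U, P⁆ := heq.symm
          _ ≤ ⁅U, X⁆ := Subgroup.commutator_mono le_rfl le_sup_right
      obtain ⟨m, f, ⟨hf0, hfstep⟩, hfm⟩ :=
        (Subgroup.nilpotent_iff_finite_descending_central_series X).mp hXn
      have hall : ∀ i, D ≤ f i := by
        intro i
        induction i with
        | zero => rw [hf0]; exact le_top
        | succ i hi =>
          refine h1.trans ?_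
          rw [Subgroup.commutator_le]
          intro a ha b _
          rw [commutatorElement_def]
          exact hfstep a i (hi ha) b
      have hbot : D = ⊥ := le_bot_iff.mp (hfm ▸ hall m)
      rw [hD, Subgroup.subgroupOf_eq_bot, disjoint_iff, inf_eq_left.mpr (le_sup_left : U ≤ X)] at hbot
      exact hU0 hbot
    have hlt : Nat.card U₁ < Nat.card U := by
      rcases lt_or_eq_of_le (Subgroup.card_le_of_le hle) with h | h
      · exact h
      · exact absurd (Subgroup.eq_of_le_of_card_ge hle h.ge) hne
    have hQU₁ : Q ≤ Subgroup.normalizer (U₁ : Set G) := by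
      intro q hq
      rw [Subgroup.mem_normalizer_iff_map_conj_eq, hU₁, Subgroup.map_commutator]
      congr 1
      · exact Subgroup.mem_normalizer_iff_map_conj_eq.mp (hQU hq)
      · exact Subgroup.mem_normalizer_iff_map_conj_eq.mp ((show Q ≤ Subgroup.normalizer (P : Set G) from
          (Subgroup.le_centralizer_iff.mp hPQ).trans (Subgroup.centralizer_le_normalizer _)) hq)
    have hQ1 := ih _ hlt U₁ rfl (hU.to_le hle) (right_le_normalizer_commutator P U) hQU₁
      ((inf_le_inf_right _ hle).trans hC)
    have h1 : ⁅⁅U, P⁆, Q⁆ = ⊥ := by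
      rw [Subgroup.commutator_comm]
      exact Subgroup.commutator_eq_bot_iff_le_centralizer.mpr hQ1
    have h2 : ⁅⁅P, Q⁆, U⁆ = ⊥ := by
      rw [Subgroup.commutator_eq_bot_iff_le_centralizer.mpr hPQ, Subgroup.commutator_bot_left]
    have h3 : ⁅⁅Q, U⁆, P⁆ = ⊥ := Subgroup.commutator_commutator_eq_bot_of_rotate h1 h2
    rw [Subgroup.commutator_comm Q U, Subgroup.commutator_eq_bot_iff_le_centralizer] at h3
    have h4 : ⁅⁅U, Q⁆, Q⁆ = ⊥ := Subgroup.commutator_eq_bot_iff_le_centralizer.mpr
      ((le_inf (commutator_le_of_le_normalizer hQU) h3).trans hC)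
    rw [coprime_commutator_commutator hQU hcop (Or.inr (by
      have := hU.isNilpotent
      infer_instance))] at h4
    rw [← Subgroup.commutator_eq_bot_iff_le_centralizer, Subgroup.commutator_comm]
    exact h4

end CfsgLib
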