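import Cfsg.Agent.Lib.PSolvable
import Cfsg.Agent.Lib.Coprime
import Cfsg.Prelude.Def_Transfer
import Mathlib.GroupTheory.Focal

/-!
`O^p(G)`, normal `p`-complements, and Frobenius' criterion.
-/

set_option autoImplicit false
set_option maxHeartbeats 400000

namespace CfsgLib

open Cfsg Subgroup
open scoped Pointwise commutatorElement

universe u v
variable {G : Type u} [Group G] {p : ℕ}

/-! ### The `p`-residual -/

theorem mem_pResidual {g : G} (h : (orderOf g).Coprime p) : g ∈ pResidual p G :=
  Subgroup.subset_closure h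

theorem pResidual_le {H : Subgroup G} (h : ∀ g : G, (orderOf g).Coprime p → g ∈ H) :
    pResidual p G ≤ H :=
  (Subgroup.closure_le H).mpr h

theorem pResidual_map_equiv {H : Type v} [Group H] (e : G ≃* H) :
    (pResidual p G).map e.toMonoidHom = pResidual p H := by
  rw [pResidual, MonoidHom.map_closure, pResidual]
  congr 1
  ext y
  constructor
  · rintro ⟨x, hx, rfl⟩
    simpa [MulEquiv.orderOf_eq] using hx
  · intro hy
    exact ⟨e.symm y, by simpa [MulEquiv.orderOf_eq] using hy, by simp⟩

instance pResidual_characteristic : (pResidual p G).Characteristic :=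
  Subgroup.characteristic_iff_map_eq.mpr fun e => pResidual_map_equiv e

theorem exists_pow_mem_pResidual [Finite G] [Fact p.Prime] (g : G) :
    ∃ k, g ^ p ^ k ∈ pResidual p G := by
  refine ⟨(orderOf g).factorization p, mem_pResidual ?_⟩
  have ho : 0 < orderOf g := orderOf_pos g
  rw [orderOf_pow_of_dvd (pow_ne_zero _ (Fact.out : p.Prime).ne_zero) (Nat.ordProj_dvd _ p)]
  exact (Nat.coprime_ordCompl Fact.out ho.ne').symm

theorem isPGroup_quotient_of_pResidual_le [Finite G] [Fact p.Prime] {N : Subgroup G} [N.Normal]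
    (h : pResidual p G ≤ N) : IsPGroup p (G ⧸ N) := by
  intro x
  obtain ⟨g, rfl⟩ := QuotientGroup.mk'_surjective N x
  obtain ⟨k, hk⟩ := exists_pow_mem_pResidual (p := p) g
  exact ⟨k, by rw [← map_pow, QuotientGroup.mk'_apply, QuotientGroup.eq_one_iff]; exact h hk⟩

theorem pResidual_le_of_isPGroup_quotient [Finite G] [Fact p.Prime] {N : Subgroup G} [N.Normal]
    (h : IsPGroup p (G ⧸ N)) : pResidual p G ≤ N := by
  refine pResidual_le fun g hg => ?_
  obtain ⟨k, hk⟩ := h (g : G ⧸ N)
  have h1 : orderOf (g : G ⧸ N) ∣ p ^ k := orderOf_dvd_of_pow_eq_one hk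
  have h2 : orderOf (g : G ⧸ N) ∣ orderOf g := orderOf_map_dvd (QuotientGroup.mk' N) g
  rw [← QuotientGroup.eq_one_iff]
  exact orderOf_eq_one_iff.mp (Nat.eq_one_of_dvd_coprimes (hg.pow_right k) h2 h1)

theorem sylow_sup_eq_top_of_pResidual_le [Finite G] [Fact p.Prime] (P : Sylow p G) {N : Subgroup G}
    [N.Normal] (h : pResidual p G ≤ N) : N ⊔ (P : Subgroup G) = ⊤ := by
  have hs := QuotientGroup.mk'_surjective N
  have htop : (P.mapSurjective hs : Subgroup (G ⧸ N)) = ⊤ :=
    ((P.mapSurjective hs).3 ((isPGroup_quotient_of_pResidual_le h).to_subgroup ⊤) le_top).symm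
  have h2 : ((P : Subgroup G).map (QuotientGroup.mk' N)).comap (QuotientGroup.mk' N) = ⊤ := by
    rw [show (P : Subgroup G).map (QuotientGroup.mk' N) = ⊤ from htop, Subgroup.comap_top]
  rwa [Subgroup.comap_map_eq, QuotientGroup.ker_mk', sup_comm] at h2

theorem pResidual_idem : pResidual p (pResidual p G) = ⊤ := by
  rw [eq_top_iff]
  rintro ⟨x, hx⟩ -
  refine Subgroup.closure_induction
    (p := fun y hy => (⟨y, hy⟩ : pResidual p G) ∈ pResidual p (pResidual p G))
    (fun y hy => mem_pResidual ?_) (one_mem _) (fun a b _ _ ha hb => mul_mem ha hb)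
    (fun a _ ha => inv_mem ha) hx
  rw [← Subgroup.orderOf_coe]
  exact hy

/-! ### Normal `p`-complements -/

theorem isPGroup_quotient_of_hasNormalPComplement [Finite G] [Fact p.Prime]
    (h : HasNormalPComplement p G) : IsPGroup p (G ⧸ pPrimeCore p G) := by
  obtain ⟨P, N, hN, hc⟩ := h
  have hle : N ≤ pPrimeCore p G := by
    refine le_pPrimeCore ?_
    rw [← hc.index_eq_card]
    exact ((Fact.out : p.Prime).coprime_iff_not_dvd.mpr P.not_dvd_index).symm
  have hq : IsPGroup p (G ⧸ N) := by
    obtain ⟨k, hk⟩ := P.2.exists_card_eq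
    refine IsPGroup.of_card (n := k) ?_
    rw [← Subgroup.index_eq_card, hc.symm.index_eq_card, hk]
  exact isPGroup_quotient_of_pResidual_le ((pResidual_le_of_isPGroup_quotient hq).trans hle)

theorem pPrimeCore_isComplement'_sylow [Finite G] [Fact p.Prime] (h : IsPGroup p (G ⧸ pPrimeCore p G))
    (P : Sylow p G) : IsComplement' (pPrimeCore p G) (P : Subgroup G) := by
  have htop := sylow_sup_eq_top_of_pResidual_le P (pResidual_le_of_isPGroup_quotient h)
  refine isComplement'_of_disjoint_and_mul_eq_univ ?_ ?_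
  · refine Subgroup.disjoint_of_coprime_natCard ?_
    obtain ⟨k, hk⟩ := P.2.exists_card_eq
    rw [hk]
    exact (card_pPrimeCore_coprime p).pow_right k
  · rw [← Subgroup.normal_mul, htop, Subgroup.coe_top]

theorem hasNormalPComplement_iff [Finite G] [Fact p.Prime] :
    HasNormalPComplement p G ↔ IsPGroup p (G ⧸ pPrimeCore p G) :=
  ⟨isPGroup_quotient_of_hasNormalPComplement, fun h =>
    ⟨Classical.arbitrary (Sylow p G), pPrimeCore p G, inferInstance,
      pPrimeCore_isComplement'_sylow h _⟩⟩

theorem hasNormalPComplement_of_normal [Finite G] [Fact p.Prime] {N : Subgroup G} [N.Normal]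
    (hN : (Nat.card N).Coprime p) (hq : IsPGroup p (G ⧸ N)) : HasNormalPComplement p G :=
  hasNormalPComplement_iff.mpr (isPGroup_quotient_of_pResidual_le
    ((pResidual_le_of_isPGroup_quotient hq).trans (le_pPrimeCore hN)))

theorem hasNormalPComplement_iff_pResidual [Finite G] [Fact p.Prime] :
    HasNormalPComplement p G ↔ (Nat.card (pResidual p G)).Coprime p := by
  constructor
  · intro h
    exact (card_pPrimeCore_coprime p).coprime_dvd_left (Subgroup.card_dvd_of_le
      (pResidual_le_of_isPGroup_quotient (isPGroup_quotient_of_hasNormalPComplement h)))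
  · exact fun h => hasNormalPComplement_of_normal h (isPGroup_quotient_of_pResidual_le le_rfl)

theorem pPrimeCore_eq_pResidual_of_hasNormalPComplement [Finite G] [Fact p.Prime]
    (h : HasNormalPComplement p G) : pPrimeCore p G = pResidual p G := by
  refine le_antisymm (fun x hx => mem_pResidual ?_)
    (pResidual_le_of_isPGroup_quotient (isPGroup_quotient_of_hasNormalPComplement h))
  exact (card_pPrimeCore_coprime p).coprime_dvd_left (Subgroup.orderOf_dvd_natCard _ hx)

theorem mem_pPrimeCore_of_hasNormalPComplement [Finite G] [Fact p.Prime]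
    (h : HasNormalPComplement p G) {g : G} (hg : (orderOf g).Coprime p) : g ∈ pPrimeCore p G := by
  rw [pPrimeCore_eq_pResidual_of_hasNormalPComplement h]
  exact mem_pResidual hg

theorem hasNormalPComplement_subgroup [Finite G] [Fact p.Prime] (h : HasNormalPComplement p G)
    (H : Subgroup G) : HasNormalPComplement p H := by
  rw [hasNormalPComplement_iff_pResidual] at h ⊢
  have hle : (pResidual p H).map H.subtype ≤ pResidual p G := by
    rw [Subgroup.map_le_iff_le_comap]
    exact pResidual_le fun g hg => mem_pResidual (by simpa [Subgroup.orderOf_coe] using hg)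
  rw [← Subgroup.card_map_of_injective (K := pResidual p H) (f := H.subtype) H.subtype_injective]
  exact h.coprime_dvd_left (Subgroup.card_dvd_of_le hle)

theorem hasNormalPComplement_of_equiv {H : Type v} [Group H] [Finite G] [Finite H] [Fact p.Prime]
    (e : G ≃* H) (h : HasNormalPComplement p G) : HasNormalPComplement p H := by
  rw [hasNormalPComplement_iff_pResidual] at h ⊢
  rwa [← pResidual_map_equiv e, Subgroup.card_map_of_injective e.injective]

theorem hasNormalPComplement_of_surjective {H : Type v} [Group H] [Finite G] [Finite H] [Fact p.Prime]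
    {f : G →* H} (hf : Function.Surjective f) (h : HasNormalPComplement p G) :
    HasNormalPComplement p H := by
  rw [hasNormalPComplement_iff_pResidual] at h
  have : ((pResidual p G).map f).Normal := Subgroup.Normal.map inferInstance f hf
  refine hasNormalPComplement_of_normal (N := (pResidual p G).map f)
    (h.coprime_dvd_left (Subgroup.card_map_dvd _ _)) ?_
  intro x
  obtain ⟨x, rfl⟩ := QuotientGroup.mk'_surjective _ x
  obtain ⟨g, rfl⟩ := hf x
  obtain ⟨k, hk⟩ := exists_pow_mem_pResidual (p := p) g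
  exact ⟨k, by
    rw [← map_pow, ← map_pow, QuotientGroup.mk'_apply, QuotientGroup.eq_one_iff]
    exact Subgroup.mem_map_of_mem f hk⟩

theorem hasNormalPComplement_of_isPGroup [Finite G] [Fact p.Prime] (h : IsPGroup p G) :
    HasNormalPComplement p G :=
  hasNormalPComplement_of_normal (N := ⊥) (by simp) (h.to_quotient _)

theorem hasNormalPComplement_of_coprime [Finite G] [Fact p.Prime] (h : (Nat.card G).Coprime p) :
    HasNormalPComplement p G :=
  hasNormalPComplement_iff_pResidual.mpr (h.coprime_dvd_left (Subgroup.card_subgroup_dvd_card _))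

/-- Burnside's transfer theorem. -/
theorem hasNormalPComplement_of_normalizer_le_centralizer [Finite G] [Fact p.Prime] (P : Sylow p G)
    (h : Subgroup.normalizer ((P : Subgroup G) : Set G) ≤ Subgroup.centralizer ((P : Subgroup G) : Set G)) :
    HasNormalPComplement p G :=
  ⟨P, _, inferInstance, MonoidHom.ker_transferSylow_isComplement' P h⟩

/-! ### Frobenius' criterion -/

/-- Every `p'`-element normalising a `p`-subgroup centralises it. -/
def FrobeniusCond (p : ℕ) (G : Type u) [Group G] : Prop :=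
  ∀ Q : Subgroup G, IsPGroup p Q → ∀ g ∈ Subgroup.normalizer (Q : Set G),
    (orderOf g).Coprime p → g ∈ Subgroup.centralizer (Q : Set G)

theorem frobeniusCond_subgroup (h : FrobeniusCond p G) (H : Subgroup G) : FrobeniusCond p H := by
  intro Q hQ g hg hgp
  have h1 := h (Q.map H.subtype) (hQ.map _) g
    (Subgroup.le_normalizer_map H.subtype ⟨g, hg, rfl⟩) (by simpa [Subgroup.orderOf_coe] using hgp)
  intro x hx
  exact Subtype.ext (h1 x ⟨x, hx, rfl⟩)

theorem frobeniusCond_of_sylow [Finite G] [Fact p.Prime] (P : Sylow p G)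
    (h : ∀ Q : Subgroup G, Q ≤ (P : Subgroup G) → ∀ g ∈ Subgroup.normalizer (Q : Set G),
      (orderOf g).Coprime p → g ∈ Subgroup.centralizer (Q : Set G)) : FrobeniusCond p G := by
  intro Q hQ g hg hgp
  obtain ⟨T, hT⟩ := hQ.exists_le_sylow
  obtain ⟨x, hx⟩ := MulAction.exists_smul_eq G T P
  have hle : MulAut.conj x • Q ≤ (P : Subgroup G) := by
    rw [← hx, Sylow.coe_subgroup_smul, Subgroup.pointwise_smul_le_pointwise_smul_iff]
    exact hT
  have hn : x * g * x⁻¹ ∈ Subgroup.normalizer ((MulAut.conj x • Q : Subgroup G) : Set G) := by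
    rw [Subgroup.mem_normalizer_iff]
    intro z
    rw [mem_conj_smul_iff, mem_conj_smul_iff]
    have h2 := Subgroup.mem_normalizer_iff.mp hg (x⁻¹ * z * x)
    simpa [mul_assoc] using h2
  have h1 := h _ hle _ hn (by
    have : orderOf (x * g * x⁻¹) = orderOf g := MulEquiv.orderOf_eq (MulAut.conj x) g
    rwa [this])
  intro q hq
  have h3 := h1 (x * q * x⁻¹) (mem_conj_smul_iff.mpr (by simpa [mul_assoc] using hq))
  calc q * g = x⁻¹ * ((x * q * x⁻¹) * (x * g * x⁻¹)) * x := by group
    _ = x⁻¹ * ((x * g * x⁻¹) * (x * q * x⁻¹)) * x := by rw [h3]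
    _ = g * q := by group

theorem frobeniusCond_of_hasNormalPComplement [Finite G] [Fact p.Prime]
    (h : HasNormalPComplement p G) : FrobeniusCond p G := by
  intro Q hQ g hg hgp q hq
  have hK := mem_pPrimeCore_of_hasNormalPComplement h hgp
  have h1 : q * g * q⁻¹ * g⁻¹ ∈ Q := by
    have h2 := (Subgroup.mem_normalizer_iff.mp hg q⁻¹).mp (Q.inv_mem hq)
    have h3 := Q.mul_mem hq h2
    simpa [mul_assoc] using h3
  have h4 : q * g * q⁻¹ * g⁻¹ ∈ pPrimeCore p G :=
    (pPrimeCore p G).mul_mem ((inferInstance : (pPrimeCore p G).Normal).conj_mem g hK q)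
      ((pPrimeCore p G).inv_mem hK)
  obtain ⟨k, hk⟩ := hQ.exists_card_eq
  have hd : Disjoint Q (pPrimeCore p G) := Subgroup.disjoint_of_coprime_natCard (by
    rw [hk]; exact ((card_pPrimeCore_coprime p).pow_right k).symm)
  have h5 := Subgroup.disjoint_def.mp hd h1 h4
  calc q * g = q * g * q⁻¹ * g⁻¹ * (g * q) := by group
    _ = g * q := by rw [h5, one_mul]

theorem pResidual_normalizer_le [Finite G] (h : FrobeniusCond p G) {D : Subgroup G} (hD : IsPGroup p D) :
    pResidual p (Subgroup.normalizer (D : Set G)) ≤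
      (Subgroup.centralizer (D : Set G)).subgroupOf (Subgroup.normalizer (D : Set G)) :=
  pResidual_le fun g hg => h D hD g g.2 (by simpa [Subgroup.orderOf_coe] using hg)

theorem centralizer_subgroupOf_normalizer_normal (D : Subgroup G) :
    ((Subgroup.centralizer (D : Set G)).subgroupOf (Subgroup.normalizer (D : Set G))).Normal := by
  rw [← Subgroup.normalizerMonoidHom_ker]
  infer_instance

theorem inf_normalizer_lt [Finite G] [Fact p.Prime] {D : Subgroup G} (U : Sylow p G)
    (hle : D ≤ (U : Subgroup G)) (hne : D ≠ (U : Subgroup G)) :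
    D < (U : Subgroup G) ⊓ Subgroup.normalizer (D : Set G) := by
  refine lt_of_le_of_ne (le_inf hle Subgroup.le_normalizer) fun e => hne ?_
  haveI : Group.IsNilpotent (U : Subgroup G) := U.2.isNilpotent
  have h1 : D.subgroupOf (U : Subgroup G) = ⊤ := by
    by_contra hlt
    have h2 := Group.normalizerCondition_of_isNilpotent _ (lt_top_iff_ne_top.mpr hlt)
    rw [← Subgroup.subgroupOf_normalizer_eq hle] at h2
    refine (lt_iff_le_and_ne.mp h2).2 (SetLike.ext fun z => ?_)
    rw [Subgroup.mem_subgroupOf, Subgroup.mem_subgroupOf]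
    exact ⟨fun hz => Subgroup.le_normalizer hz, fun hz => e.symm.le ⟨z.2, hz⟩⟩
  exact le_antisymm hle (Subgroup.subgroupOf_eq_top.mp h1)

/-- Under Frobenius' condition any two Sylow subgroups are conjugate by an element centralising
their intersection. -/
theorem exists_centralizer_conj_sylow [Finite G] [Fact p.Prime] (h : FrobeniusCond p G)
    (S T : Sylow p G) :
    ∃ c ∈ Subgroup.centralizer (((S : Subgroup G) ⊓ T : Subgroup G) : Set G),
      MulAut.conj c • (S : Subgroup G) = T := by
  suffices key : ∀ D : Subgroup G, ∀ S T : Sylow p G, D = (S : Subgroup G) ⊓ T →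
      ∃ c ∈ Subgroup.centralizer (D : Set G), MulAut.conj c • (S : Subgroup G) = T from key _ S T rfl
  intro D
  induction D using WellFoundedGT.induction with
  | ind D ih =>
    intro S T hD
    by_cases hST : (S : Subgroup G) = T
    · exact ⟨1, one_mem _, by rw [map_one, one_smul, hST]⟩
    have hDS : D ≤ S := hD ▸ inf_le_left
    have hDT : D ≤ T := hD ▸ inf_le_right
    have hDp : IsPGroup p D := S.2.to_le hDS
    have hDS' : D ≠ (S : Subgroup G) := fun e => hST (S.3 T.2 (e ▸ hDT)).symm
    have hDT' : D ≠ (T : Subgroup G) := fun e => hST (T.3 S.2 (e ▸ hDS))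
    have hmono : ∀ {E : Subgroup G}, D ≤ E →
        Subgroup.centralizer (E : Set G) ≤ Subgroup.centralizer (D : Set G) := fun hE =>
      Subgroup.centralizer_le hE
    set N := Subgroup.normalizer (D : Set G) with hN
    obtain ⟨SN, hSN⟩ := (S.2.comap_subtype (K := N)).exists_le_sylow
    obtain ⟨TN, hTN⟩ := (T.2.comap_subtype (K := N)).exists_le_sylow
    haveI := centralizer_subgroupOf_normalizer_normal (G := G) D
    have hsup := sylow_sup_eq_top_of_pResidual_le SN (pResidual_normalizer_le h hDp)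
    obtain ⟨n, hn⟩ := MulAction.exists_smul_eq N SN TN
    obtain ⟨c, hc, s, hs, hcs⟩ : ∃ c ∈ (Subgroup.centralizer (D : Set G)).subgroupOf N,
        ∃ s ∈ (SN : Subgroup N), c * s = n := by
      have h1 : n ∈ (Subgroup.centralizer (D : Set G)).subgroupOf N ⊔ (SN : Subgroup N) :=
        hsup ▸ Subgroup.mem_top n
      exact Subgroup.mem_sup_of_normal_left.mp h1
    have hTN' : MulAut.conj c • (SN : Subgroup N) = TN := by
      rw [← hn, Sylow.coe_subgroup_smul, ← hcs, ← conj_smul_mul,
        Subgroup.conj_smul_eq_self_of_mem hs]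
    obtain ⟨U, hU⟩ := (SN.2.map N.subtype).exists_le_sylow
    have h1 : D < (S : Subgroup G) ⊓ U := by
      refine lt_of_lt_of_le (inf_normalizer_lt S hDS hDS') (le_inf inf_le_left ?_)
      intro z hz
      exact hU ⟨⟨z, hz.2⟩, hSN hz.1, rfl⟩
    obtain ⟨c₁, hc₁, hU₁⟩ := ih _ h1 S U rfl
    set V : Sylow p G := (c : G) • U with hV
    have hVc : (V : Subgroup G) = MulAut.conj (c : G) • (U : Subgroup G) := Sylow.coe_subgroup_smul
    have h2 : D < (V : Subgroup G) ⊓ T := by
      refine lt_of_lt_of_le (inf_normalizer_lt T hDT hDT') (le_inf ?_ inf_le_left)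
      intro z hz
      have hzT : (⟨z, hz.2⟩ : N) ∈ (TN : Subgroup N) := hTN hz.1
      rw [← hTN', mem_conj_smul_iff] at hzT
      rw [hVc, mem_conj_smul_iff]
      exact hU ⟨_, hzT, rfl⟩
    obtain ⟨c₂, hc₂, hT₂⟩ := ih _ h2 V T rfl
    refine ⟨c₂ * ((c : G) * c₁), ?_, ?_⟩
    · exact mul_mem (hmono h2.le hc₂) (mul_mem hc (hmono h1.le hc₁))
    · rw [← conj_smul_mul, ← conj_smul_mul, hU₁, ← hVc, hT₂]

/-- Under Frobenius' condition a Sylow `p`-subgroup controls its own fusion. -/
theorem exists_conj_in_sylow [Finite G] [Fact p.Prime] (h : FrobeniusCond p G) (P : Sylow p G)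
    {x g : G} (hx : x ∈ P) (hgx : g * x * g⁻¹ ∈ P) : ∃ u ∈ P, u * x * u⁻¹ = g * x * g⁻¹ := by
  obtain ⟨c, hc, hcT⟩ := exists_centralizer_conj_sylow h P (g • P)
  rw [Sylow.coe_subgroup_smul] at hcT hc
  set n := c⁻¹ * g with hn
  have hnN : n ∈ Subgroup.normalizer ((P : Subgroup G) : Set G) := by
    rw [Subgroup.mem_normalizer_iff]
    intro z
    have h1 := SetLike.ext_iff.mp hcT (g * z * g⁻¹)
    rw [mem_conj_smul_iff, mem_conj_smul_iff] at h1
    simp only [hn]
    simpa [mul_assoc] using h1.symm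
  have hnx : n * x * n⁻¹ = g * x * g⁻¹ := by
    have hx' : g⁻¹ * (g * x * g⁻¹) * g ∈ (P : Subgroup G) := by
      rw [show g⁻¹ * (g * x * g⁻¹) * g = x by group]
      exact hx
    have h1 := hc (g * x * g⁻¹) ⟨hgx, mem_conj_smul_iff.mpr hx'⟩
    calc n * x * n⁻¹ = c⁻¹ * ((g * x * g⁻¹) * c) := by rw [hn]; group
      _ = c⁻¹ * (c * (g * x * g⁻¹)) := by rw [h1]
      _ = g * x * g⁻¹ := by group
  set N := Subgroup.normalizer ((P : Subgroup G) : Set G) with hN
  haveI := centralizer_subgroupOf_normalizer_normal (G := G) (P : Subgroup G)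
  have hsup := sylow_sup_eq_top_of_pResidual_le (P.subtype (Subgroup.le_normalizer (H := (P : Subgroup G))))
    (pResidual_normalizer_le h P.2)
  have h1 : (⟨n, hnN⟩ : N) ∈ (Subgroup.centralizer ((P : Subgroup G) : Set G)).subgroupOf N ⊔
      ((P.subtype Subgroup.le_normalizer : Sylow p N) : Subgroup N) := hsup ▸ Subgroup.mem_top _
  obtain ⟨z, hz, u, hu, hzu⟩ := Subgroup.mem_sup_of_normal_left.mp h1
  refine ⟨u, hu, ?_⟩
  have huP : (u : G) ∈ P := hu
  have h2 : ((u : G) * x * (u : G)⁻¹) * z = z * ((u : G) * x * (u : G)⁻¹) :=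
    hz _ (mul_mem (mul_mem huP hx) (inv_mem huP))
  have h3 : n = (z : G) * u := (congrArg Subtype.val hzu).symm
  rw [← hnx, h3]
  calc (u : G) * x * (u : G)⁻¹ = (u * x * (u : G)⁻¹) * z * (z : G)⁻¹ := by group
    _ = z * ((u : G) * x * (u : G)⁻¹) * (z : G)⁻¹ := by rw [h2]
    _ = _ := by group

theorem commutator_inf_sylow_of_fusion [Finite G] [Fact p.Prime] (P : Sylow p G)
    (h : ∀ x g : G, x ∈ P → g * x * g⁻¹ ∈ P → ∃ u ∈ P, u * x * u⁻¹ = g * x * g⁻¹) :
    _root_.commutator G ⊓ (P : Subgroup G) = ⁅(P : Subgroup G), (P : Subgroup G)⁆ := by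
  rw [Subgroup.commutator_inf_eq_focalSubgroup]
  refine le_antisymm ?_ (Subgroup.commutator_le_focalSubgroup _)
  rw [Subgroup.focalSubgroup_def, Subgroup.closure_le]
  rintro _ ⟨hm, x, hx, g, rfl⟩
  have h1 : g * x⁻¹ * g⁻¹ ∈ P := by
    show g * x⁻¹ * g⁻¹ ∈ (P : Subgroup G)
    rw [show g * x⁻¹ * g⁻¹ = x⁻¹ * ⁅x, g⁆ by rw [commutatorElement_def]; group]
    exact mul_mem (inv_mem hx) hm
  obtain ⟨u, hu, he⟩ := h x⁻¹ g (inv_mem hx) h1
  have h3 : ⁅x, g⁆ = ⁅x, u⁆ := by
    rw [commutatorElement_def, commutatorElement_def, mul_assoc x g x⁻¹, mul_assoc x (g * x⁻¹) g⁻¹, ← he]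
    group
  rw [h3]
  exact Subgroup.commutator_mem_commutator hx hu

theorem inf_sylow_le_commutator_of_pResidual_eq_top [Finite G] [Fact p.Prime]
    (h : pResidual p G = ⊤) (P : Sylow p G) : (P : Subgroup G) ≤ _root_.commutator G := by
  intro x hx
  let f := Abelianization.of (G := G)
  let T : Subgroup G :=
    { carrier := {g | (orderOf (f g)).Coprime p}
      one_mem' := by simp
      mul_mem' := fun {a b} ha hb => by
        simp only [Set.mem_setOf_eq, map_mul] at ha hb ⊢
        exact (Nat.Coprime.mul_left ha hb).coprime_dvd_left (Commute.all (f a) (f b)).orderOf_mul_dvd_mul_orderOf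
      inv_mem' := fun {a} ha => by simpa using ha }
  have hT : pResidual p G ≤ T := pResidual_le fun g hg =>
    hg.coprime_dvd_left (orderOf_map_dvd f g)
  have h1 : (orderOf (f x)).Coprime p := hT (h ▸ Subgroup.mem_top x)
  obtain ⟨k, hk⟩ := P.2 ⟨x, hx⟩
  have h2 : orderOf (f x) ∣ p ^ k := by
    refine (orderOf_map_dvd f x).trans (orderOf_dvd_of_pow_eq_one ?_)
    simpa using congrArg Subtype.val hk
  have h3 : f x = 1 := orderOf_eq_one_iff.mp (Nat.eq_one_of_dvd_coprimes (h1.pow_right k) dvd_rfl h2)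
  exact (QuotientGroup.eq_one_iff x).mp h3

/-- **Frobenius' normal `p`-complement theorem.** -/
theorem hasNormalPComplement_of_frobeniusCond [Finite G] [Fact p.Prime] (h : FrobeniusCond p G) :
    HasNormalPComplement p G := by
  set K := pResidual p G with hK
  have hKc := frobeniusCond_subgroup h K
  obtain ⟨P⟩ := (inferInstance : Nonempty (Sylow p K))
  have h1 := inf_sylow_le_commutator_of_pResidual_eq_top (pResidual_idem (p := p) (G := G)) P
  have h2 := commutator_inf_sylow_of_fusion P fun x g hx hgx => exists_conj_in_sylow hKc P hx hgx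
  rw [inf_eq_right.mpr h1] at h2
  have hP : (P : Subgroup K) = ⊥ := by
    by_contra hne
    haveI : Nontrivial (P : Subgroup K) := (Subgroup.nontrivial_iff_ne_bot _).mpr hne
    haveI : Group.IsNilpotent (P : Subgroup K) := P.2.isNilpotent
    refine (Group.IsSolvable.commutator_lt_top_of_nontrivial (P : Subgroup K)).ne ?_
    refine Subgroup.map_injective (P : Subgroup K).subtype_injective ?_
    rw [Subgroup.map_subtype_commutator, ← h2, ← MonoidHom.range_eq_map, Subgroup.range_subtype]
  rw [hasNormalPComplement_iff_pResidual]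
  have h3 := P.not_dvd_index
  rw [hP, Subgroup.index_bot] at h3
  exact ((Fact.out : p.Prime).coprime_iff_not_dvd.mpr h3).symm

theorem hasNormalPComplement_iff_frobeniusCond [Finite G] [Fact p.Prime] :
    HasNormalPComplement p G ↔ FrobeniusCond p G :=
  ⟨frobeniusCond_of_hasNormalPComplement, hasNormalPComplement_of_frobeniusCond⟩

/-- Local form of Frobenius' criterion. -/
theorem hasNormalPComplement_of_local [Finite G] [Fact p.Prime]
    (h : ∀ Q : Subgroup G, IsPGroup p Q → Q ≠ ⊥ →
      HasNormalPComplement p (Subgroup.normalizer (Q : Set G))) : HasNormalPComplement p G := by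
  refine hasNormalPComplement_of_frobeniusCond fun Q hQ g hg hgp => ?_
  rcases eq_or_ne Q ⊥ with rfl | hne
  · intro q hq
    rw [Subgroup.coe_bot, Set.mem_singleton_iff] at hq
    rw [hq, one_mul, mul_one]
  · have h1 := frobeniusCond_of_hasNormalPComplement (h Q hQ hne)
      (Q.subgroupOf (Subgroup.normalizer (Q : Set G)))
      (hQ.comap_subtype) ⟨g, hg⟩ (by
        rw [← Subgroup.subgroupOf_normalizer_eq Subgroup.le_normalizer]
        exact hg) (by simpa [← Subgroup.orderOf_coe] using hgp)
    intro q hq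
    exact congrArg Subtype.val (h1 ⟨q, Subgroup.le_normalizer hq⟩ hq)

end CfsgLib
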