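import Cfsg.Agent.Lib.PComplement
import Mathlib

/-!
Elements of coprime order in a finite nilpotent group commute.
-/

set_option autoImplicit false

namespace CfsgLib

open scoped commutatorElement

universe w

theorem commute_of_nilpotent {H : Type w} [Group H] [Finite H] [Group.IsNilpotent H] :
    ∀ a b : H, (orderOf a).Coprime (orderOf b) → Commute a b := by
  refine Group.nilpotent_center_quotient_ind
    (P := fun K _ _ => Finite K → ∀ a b : K, (orderOf a).Coprime (orderOf b) → Commute a b) H ?_ ?_
    inferInstance
  · intro K _ _ _ a b _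
    exact Subsingleton.elim _ _
  · intro K _ _ ih hK a b hab
    have hcop : (orderOf (QuotientGroup.mk' (Subgroup.center K) a)).Coprime
        (orderOf (QuotientGroup.mk' (Subgroup.center K) b)) :=
      (hab.coprime_dvd_left (orderOf_map_dvd _ a)).coprime_dvd_right (orderOf_map_dvd _ b)
    have h1 := ih inferInstance _ _ hcop
    set z := ⁅a, b⁆ with hz
    have hzc : z ∈ Subgroup.center K := by
      rw [← QuotientGroup.eq_one_iff, ← QuotientGroup.mk'_apply, map_commutatorElement,
        commutatorElement_eq_one_iff_commute]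
      exact h1
    have hzcomm : ∀ y, Commute z y := fun y => (Subgroup.mem_center_iff.mp hzc y).symm
    have hab' : a * b * a⁻¹ = z * b := by rw [hz, commutatorElement_def, inv_mul_cancel_right]
    have hba : b * a * b⁻¹ = z⁻¹ * a := by
      rw [hz, commutatorElement_def]; group
    have e1 : z ^ orderOf b = 1 := by
      have h2 : (a * b * a⁻¹) ^ orderOf b = 1 := by
        rw [conj_pow, pow_orderOf_eq_one, mul_one, mul_inv_cancel]
      rwa [hab', (hzcomm b).mul_pow, pow_orderOf_eq_one, mul_one] at h2
    have e2 : z ^ orderOf a = 1 := by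
      have h2 : (b * a * b⁻¹) ^ orderOf a = 1 := by
        rw [conj_pow, pow_orderOf_eq_one, mul_one, mul_inv_cancel]
      rw [hba, (hzcomm a).inv_left.mul_pow, pow_orderOf_eq_one, mul_one, inv_pow, inv_eq_one] at h2
      exact h2
    have h3 : orderOf z = 1 := Nat.eq_one_of_dvd_coprimes hab (orderOf_dvd_of_pow_eq_one e2)
      (orderOf_dvd_of_pow_eq_one e1)
    exact commutatorElement_eq_one_iff_commute.mp (orderOf_eq_one_iff.mp h3)

theorem hasNormalPComplement_of_isNilpotent {H : Type w} [Group H] [Finite H] {p : ℕ} [Fact p.Prime]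
    (h : Group.IsNilpotent H) : Cfsg.HasNormalPComplement p H := by
  refine hasNormalPComplement_of_frobeniusCond fun Q hQ g _ hg => Subgroup.mem_centralizer_iff.mpr
    fun x hx => ?_
  obtain ⟨k, hk⟩ := hQ ⟨x, hx⟩
  have hk' : x ^ p ^ k = 1 := congrArg Subtype.val hk
  exact (commute_of_nilpotent x g
    ((hg.pow_right k).symm.coprime_dvd_left (orderOf_dvd_of_pow_eq_one hk'))).eq

end CfsgLib
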