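import Cfsg.Agent.Lib.Basic
import Cfsg.Prelude.Def_Local

/-!
Solvable radical, quasisimple groups, components, the layer and the generalised Fitting subgroup.
-/

set_option autoImplicit false

namespace CfsgLib

open Cfsg Subgroup
open scoped commutatorElement

universe u v
variable {G : Type u} [Group G] {H : Type v} [Group H]

/-! ### Solvable radical -/

/-- The join of all solvable normal subgroups. -/
def solvableRadical (G : Type*) [Group G] : Subgroup G :=
  sSup {N : Subgroup G | N.Normal ∧ Group.IsSolvable N}

theorem isSolvable_sup_of_normal {A B : Subgroup G} [B.Normal] (hA : Group.IsSolvable A)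
    (hB : Group.IsSolvable B) : Group.IsSolvable (A ⊔ B : Subgroup G) := by
  have : Group.IsSolvable (B.subgroupOf (A ⊔ B)) :=
    Group.isSolvable_of_isSolvable_injective
      (f := (Subgroup.subgroupOfEquivOfLe (le_sup_right : B ≤ A ⊔ B)).toMonoidHom)
      (Subgroup.subgroupOfEquivOfLe (le_sup_right : B ≤ A ⊔ B)).injective
  refine (Group.isSolvable_iff_subgroup_quotient (B.subgroupOf (A ⊔ B))).mpr ⟨this, ?_⟩
  let f : A →* (A ⊔ B : Subgroup G) ⧸ B.subgroupOf (A ⊔ B) :=
    (QuotientGroup.mk' _).comp (Subgroup.inclusion le_sup_left)
  refine Group.isSolvable_of_surjective (f := f) ?_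
  intro y
  obtain ⟨⟨x, hx⟩, rfl⟩ := QuotientGroup.mk'_surjective _ y
  obtain ⟨a, ha, b, hb, rfl⟩ := Subgroup.mem_sup_of_normal_right.mp hx
  refine ⟨⟨a, ha⟩, ?_⟩
  change QuotientGroup.mk' _ _ = QuotientGroup.mk' _ _
  rw [QuotientGroup.mk'_eq_mk']
  exact ⟨⟨b, mem_sup_right hb⟩, hb, rfl⟩

instance solvableRadical_normal : (solvableRadical G).Normal :=
  Subgroup.sSup_normal _ (fun _ h => h.1)

theorem isSolvable_solvableRadical [Finite G] : Group.IsSolvable (solvableRadical G) :=
  (sSup_prop_of_closed_sup (fun A : Subgroup G => A.Normal ∧ Group.IsSolvable A)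
    ⟨inferInstance, inferInstance⟩
    (fun A B h₁ h₂ => by
      have := h₁.1; have := h₂.1
      exact ⟨inferInstance, isSolvable_sup_of_normal h₁.2 h₂.2⟩)
    (S := {N : Subgroup G | N.Normal ∧ Group.IsSolvable N}) (fun _ h => h)).2

theorem le_solvableRadical {N : Subgroup G} [hN : N.Normal] (h : Group.IsSolvable N) :
    N ≤ solvableRadical G :=
  le_sSup ⟨hN, h⟩

theorem map_solvableRadical_le_of_equiv (e : G ≃* H) :
    (solvableRadical G).map e.toMonoidHom ≤ solvableRadical H := by
  rw [map_le_iff_le_comap]
  refine sSup_le ?_
  rintro N ⟨hN, hs⟩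
  rw [← map_le_iff_le_comap]
  refine le_sSup ⟨hN.map e.toMonoidHom e.surjective, ?_⟩
  exact Group.isSolvable_of_surjective (f := e.toMonoidHom.subgroupMap N)
    (e.toMonoidHom.subgroupMap_surjective N)

instance solvableRadical_characteristic : (solvableRadical G).Characteristic := by
  refine Subgroup.characteristic_iff_map_le.mpr fun e => ?_
  exact map_solvableRadical_le_of_equiv e

/-- Downward induction along a subnormal chain, for a property of subgroups of arbitrary groups. -/
theorem isSubnormal_solvable_le_radical [Finite G] {S : Subgroup G} (hS : S.IsSubnormal)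
    (hs : Group.IsSolvable S) : S ≤ solvableRadical G := by
  induction hn : Nat.card G using Nat.strong_induction_on generalizing G with
  | h n ih =>
    subst hn
    rcases hS.lt_normal with rfl | ⟨M, hM, hSM, hMlt⟩
    · exact le_solvableRadical hs
    · have hlt : Nat.card M < Nat.card G := by
        rcases lt_or_eq_of_le (Subgroup.card_le_card_group M) with h | h
        · exact h
        · exact absurd (Subgroup.eq_top_of_card_eq M h) hMlt.ne
      have hs' : Group.IsSolvable (S.subgroupOf M) :=
        Group.isSolvable_of_isSolvable_injective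
          (f := (Subgroup.subgroupOfEquivOfLe hSM).toMonoidHom)
          (Subgroup.subgroupOfEquivOfLe hSM).injective
      have := ih _ hlt (hS.subgroupOf (K := M)) hs' rfl
      have h2 : (solvableRadical M).map M.subtype ≤ solvableRadical G := by
        refine le_solvableRadical ?_
        have := isSolvable_solvableRadical (G := M)
        exact Group.isSolvable_of_surjective (f := M.subtype.subgroupMap (solvableRadical M))
          (M.subtype.subgroupMap_surjective _)
      refine le_trans ?_ h2
      rw [← Subgroup.map_subgroupOf_eq_of_le hSM]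
      exact Subgroup.map_mono this

/-- A subnormal `p`-subgroup lies in `O_p(G)`. -/
theorem isSubnormal_isPGroup_le_pCore [Finite G] {p : ℕ} {S : Subgroup G} (hS : S.IsSubnormal)
    (hs : IsPGroup p S) : S ≤ pCore p G := by
  induction hn : Nat.card G using Nat.strong_induction_on generalizing G with
  | h n ih =>
    subst hn
    rcases hS.lt_normal with rfl | ⟨M, hM, hSM, hMlt⟩
    · exact le_pCore hs
    · have hlt : Nat.card M < Nat.card G := by
        rcases lt_or_eq_of_le (Subgroup.card_le_card_group M) with h | h
        · exact h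
        · exact absurd (Subgroup.eq_top_of_card_eq M h) hMlt.ne
      have := ih _ hlt (hS.subgroupOf (K := M))
        (hs.of_equiv (Subgroup.subgroupOfEquivOfLe hSM).symm) rfl
      refine le_trans ?_ (map_pCore_le p M)
      rw [← Subgroup.map_subgroupOf_eq_of_le hSM]
      exact Subgroup.map_mono this

theorem map_fittingSubgroup_le [Finite G] (M : Subgroup G) [M.Normal] :
    (fittingSubgroup M).map M.subtype ≤ fittingSubgroup G := by
  rw [fittingSubgroup_eq_iSup_pCore, fittingSubgroup_eq_iSup_pCore, Subgroup.map_iSup]
  exact iSup_mono fun p => map_pCore_le _ M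

/-- A subnormal nilpotent subgroup lies in the Fitting subgroup. -/
theorem isSubnormal_nilpotent_le_fitting [Finite G] {S : Subgroup G} (hS : S.IsSubnormal)
    (hs : Group.IsNilpotent S) : S ≤ fittingSubgroup G := by
  induction hn : Nat.card G using Nat.strong_induction_on generalizing G with
  | h n ih =>
    subst hn
    rcases hS.lt_normal with rfl | ⟨M, hM, hSM, hMlt⟩
    · exact le_fittingSubgroup hs
    · have hlt : Nat.card M < Nat.card G := by
        rcases lt_or_eq_of_le (Subgroup.card_le_card_group M) with h | h
        · exact h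
        · exact absurd (Subgroup.eq_top_of_card_eq M h) hMlt.ne
      have := ih _ hlt (hS.subgroupOf (K := M))
        (Group.nilpotent_of_mulEquiv (Subgroup.subgroupOfEquivOfLe hSM).symm) rfl
      refine le_trans ?_ (map_fittingSubgroup_le M)
      rw [← Subgroup.map_subgroupOf_eq_of_le hSM]
      exact Subgroup.map_mono this

/-! ### Quasisimple groups -/

theorem isQuasisimple_nontrivial (h : IsQuasisimple G) : Nontrivial G := by
  have := h.2
  exact (QuotientGroup.mk'_surjective (center G)).nontrivial

theorem isQuasisimple_not_isSolvable (h : IsQuasisimple G) : ¬ Group.IsSolvable G := by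
  have := isQuasisimple_nontrivial h
  have := h.1
  exact Group.IsPerfect.not_isSolvable G

theorem quasisimple_normal_le_center_or_eq_top (h : IsQuasisimple G) (N : Subgroup G) [hN : N.Normal] :
    N ≤ center G ∨ N = ⊤ := by
  have := h.2
  rcases (hN.map (QuotientGroup.mk' (center G)) (QuotientGroup.mk'_surjective _)).eq_bot_or_eq_top
    with h1 | h1
  · left
    rwa [Subgroup.map_eq_bot_iff, QuotientGroup.ker_mk'] at h1
  · right
    rw [eq_top_iff]
    intro x _
    have hx : x ∈ commutator G := h.1.mem_commutator
    have hsup : N ⊔ center G = ⊤ := by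
      rw [← QuotientGroup.ker_mk' (center G), ← comap_map_eq, h1, comap_top]
    rw [_root_.commutator_def] at hx
    refine (Subgroup.commutator_le.mpr ?_) hx
    intro a _ b _
    obtain ⟨a₁, ha₁, a₂, ha₂, rfl⟩ :=
      Subgroup.mem_sup_of_normal_left.mp (hsup.symm ▸ Subgroup.mem_top a)
    have hz := Subgroup.mem_center_iff.mp ha₂ b
    have h2 : ⁅a₁ * a₂, b⁆ = a₁ * (b * a₁⁻¹ * b⁻¹) := by
      rw [commutatorElement_def]
      calc a₁ * a₂ * b * (a₁ * a₂)⁻¹ * b⁻¹ = a₁ * (a₂ * b) * a₂⁻¹ * a₁⁻¹ * b⁻¹ := by group
        _ = a₁ * (b * a₂) * a₂⁻¹ * a₁⁻¹ * b⁻¹ := by rw [hz]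
        _ = a₁ * (b * a₁⁻¹ * b⁻¹) := by group
    rw [h2]
    exact N.mul_mem ha₁ (hN.conj_mem _ (N.inv_mem ha₁) b)

theorem isQuasisimple_of_equiv (e : G ≃* H) (h : IsQuasisimple G) : IsQuasisimple H := by
  have := h.1
  refine ⟨Group.IsPerfect.ofSurjective (f := e.toMonoidHom) e.surjective, ?_⟩
  have := h.2
  have hmap : (center G).map (e : G →* H) = center H := by
    ext x
    simp only [Subgroup.mem_map, Subgroup.mem_center_iff, MonoidHom.coe_coe]
    constructor
    · rintro ⟨y, hy, rfl⟩ z
      obtain ⟨w, rfl⟩ := e.surjective z
      rw [← map_mul, hy w, map_mul]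
    · intro hx
      refine ⟨e.symm x, fun w => e.injective ?_, e.apply_symm_apply x⟩
      simp [hx (e w)]
  exact (QuotientGroup.congr (center G) (center H) e hmap).isSimpleGroup_congr.mp this

/-! ### Components -/

theorem isComponent_map_equiv (e : G ≃* H) {K : Subgroup G} (h : IsComponent K) :
    IsComponent (K.map e.toMonoidHom) :=
  ⟨h.1.map e.surjective, isQuasisimple_of_equiv (e.subgroupMap K) h.2⟩

theorem isComponent_subgroupOf {K M : Subgroup G} (h : IsComponent K) (hKM : K ≤ M) :
    IsComponent (K.subgroupOf M) :=
  ⟨h.1.subgroupOf, isQuasisimple_of_equiv (Subgroup.subgroupOfEquivOfLe hKM).symm h.2⟩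

theorem isComponent_map_subtype {M : Subgroup G} (hM : M.IsSubnormal) {K : Subgroup M}
    (h : IsComponent K) : IsComponent (K.map M.subtype) :=
  ⟨h.1.trans' hM, isQuasisimple_of_equiv
    (Subgroup.equivMapOfInjective K M.subtype M.subtype_injective) h.2⟩

theorem isComponent_commutator_self {K : Subgroup G} (h : IsComponent K) : ⁅K, K⁆ = K := by
  have := h.2.1
  exact Subgroup.commutator_eq_self

theorem isComponent_ne_bot {K : Subgroup G} (h : IsComponent K) : K ≠ ⊥ := by
  rintro rfl
  have := isQuasisimple_nontrivial h.2
  exact not_nontrivial (⊥ : Subgroup G) this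

theorem card_lt_of_lt_top [Finite G] {M : Subgroup G} (h : M < ⊤) : Nat.card M < Nat.card G := by
  rcases lt_or_eq_of_le (Subgroup.card_le_card_group M) with h' | h'
  · exact h'
  · exact absurd (Subgroup.eq_top_of_card_eq M h') h.ne

theorem commutator_subgroupOf_eq_bot {A B M : Subgroup G} (hA : A ≤ M) (hB : B ≤ M)
    (h : ⁅A.subgroupOf M, B.subgroupOf M⁆ = ⊥) : ⁅A, B⁆ = ⊥ := by
  have := congrArg (Subgroup.map M.subtype) h
  rwa [Subgroup.map_commutator, Subgroup.map_subgroupOf_eq_of_le hA,
    Subgroup.map_subgroupOf_eq_of_le hB, Subgroup.map_bot] at this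

/-- A component lies in a normal subgroup or centralises it. -/
theorem component_le_or_commutator_eq_bot [Finite G] {K : Subgroup G} (hK : IsComponent K)
    (N : Subgroup G) [hN : N.Normal] : K ≤ N ∨ ⁅K, N⁆ = ⊥ := by
  induction hn : Nat.card G using Nat.strong_induction_on generalizing G with
  | h n ih =>
    subst hn
    rcases hK.1.lt_normal with rfl | ⟨M, hM, hKM, hMlt⟩
    · have hq : IsQuasisimple G := isQuasisimple_of_equiv Subgroup.topEquiv hK.2
      rcases quasisimple_normal_le_center_or_eq_top hq N with h | h
      · right
        rw [Subgroup.commutator_eq_bot_iff_le_centralizer]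
        intro a _ b hb
        exact ((Subgroup.mem_center_iff.mp (h hb)) a).symm
      · exact Or.inl (h ▸ le_rfl)
    · rcases ih _ (card_lt_of_lt_top hMlt) (isComponent_subgroupOf hK hKM) ((N ⊓ M).subgroupOf M)
        rfl with h | h
      · left
        have := Subgroup.map_mono (f := M.subtype) h
        rw [Subgroup.map_subgroupOf_eq_of_le hKM,
          Subgroup.map_subgroupOf_eq_of_le inf_le_right] at this
        exact this.trans inf_le_left
      · right
        have h1 : ⁅K, N ⊓ M⁆ = ⊥ := commutator_subgroupOf_eq_bot hKM inf_le_right h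
        have hle : ⁅N, K⁆ ≤ N ⊓ M :=
          le_trans (Subgroup.commutator_mono le_rfl hKM)
            (le_inf (Subgroup.commutator_le_left N M) (Subgroup.commutator_le_right N M))
        have h2 : ⁅⁅N, K⁆, K⁆ = ⊥ := by
          rw [eq_bot_iff, ← h1, Subgroup.commutator_comm K]
          exact Subgroup.commutator_mono hle le_rfl
        have h3 : ⁅⁅K, N⁆, K⁆ = ⊥ := by rwa [Subgroup.commutator_comm K N]
        have := Subgroup.commutator_commutator_eq_bot_of_rotate (H₁ := K) (H₂ := K) (H₃ := N) h3 h2
        rwa [isComponent_commutator_self hK] at this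

/-- Two distinct components commute elementwise. -/
theorem components_eq_or_commute [Finite G] {K L : Subgroup G} (hK : IsComponent K)
    (hL : IsComponent L) : K = L ∨ ⁅K, L⁆ = ⊥ := by
  induction hn : Nat.card G using Nat.strong_induction_on generalizing G with
  | h n ih =>
    subst hn
    have aux : ∀ X : Subgroup G, IsComponent X → IsQuasisimple G → X = ⊤ := by
      intro X hX hq
      rcases hX.1.lt_normal with h | ⟨M, hM, hXM, hMlt⟩
      · exact h
      · exfalso
        rcases quasisimple_normal_le_center_or_eq_top hq M with h | h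
        · refine isQuasisimple_not_isSolvable hX.2 (Group.isSolvable_of_comm ?_)
          rintro ⟨a, ha⟩ ⟨b, hb⟩
          exact Subtype.ext ((Subgroup.mem_center_iff.mp (h (hXM ha))) b).symm
        · exact hMlt.ne h
    rcases hK.1.lt_normal with rfl | ⟨M, hM, hKM, hMlt⟩
    · exact Or.inl (aux L hL (isQuasisimple_of_equiv Subgroup.topEquiv hK.2)).symm
    · rcases component_le_or_commutator_eq_bot hL M with hLM | hLM
      · rcases ih _ (card_lt_of_lt_top hMlt) (isComponent_subgroupOf hK hKM)
          (isComponent_subgroupOf hL hLM) rfl with h | h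
        · left
          have := congrArg (Subgroup.map M.subtype) h
          rwa [Subgroup.map_subgroupOf_eq_of_le hKM, Subgroup.map_subgroupOf_eq_of_le hLM] at this
        · exact Or.inr (commutator_subgroupOf_eq_bot hKM hLM h)
      · right
        rw [eq_bot_iff, ← hLM, Subgroup.commutator_comm K]
        exact Subgroup.commutator_mono le_rfl hKM

theorem component_not_le_of_isSolvable {K N : Subgroup G} (hK : IsComponent K)
    (hN : Group.IsSolvable N) : ¬ K ≤ N := fun h =>
  isQuasisimple_not_isSolvable hK.2
    (Group.isSolvable_of_isSolvable_injective (f := Subgroup.inclusion h)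
      (Subgroup.inclusion_injective h))

theorem component_commutator_radical [Finite G] {K : Subgroup G} (hK : IsComponent K) :
    ⁅K, solvableRadical G⁆ = ⊥ :=
  (component_le_or_commutator_eq_bot hK _).resolve_left
    (component_not_le_of_isSolvable hK isSolvable_solvableRadical)

theorem fittingSubgroup_le_solvableRadical [Finite G] : fittingSubgroup G ≤ solvableRadical G :=
  le_solvableRadical (by
    have := isNilpotent_fittingSubgroup (G := G)
    infer_instance)

theorem component_commutator_fitting [Finite G] {K : Subgroup G} (hK : IsComponent K) :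
    ⁅K, fittingSubgroup G⁆ = ⊥ := by
  rw [eq_bot_iff, ← component_commutator_radical hK]
  exact Subgroup.commutator_mono le_rfl fittingSubgroup_le_solvableRadical

/-! ### The layer -/

theorem le_layer {K : Subgroup G} (h : IsComponent K) : K ≤ layer G := le_sSup h

theorem map_layer_equiv (e : G ≃* H) : (layer G).map e.toMonoidHom = layer H := by
  refine le_antisymm ?_ ?_
  · rw [map_le_iff_le_comap]
    refine sSup_le fun K hK => ?_
    rw [← map_le_iff_le_comap]
    exact le_layer (isComponent_map_equiv e hK)
  · refine sSup_le fun K hK => ?_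
    refine le_trans (le_of_eq ?_) (Subgroup.map_mono (le_layer (isComponent_map_equiv e.symm hK)))
    rw [Subgroup.map_map]
    ext x
    simp

instance layer_characteristic : (layer G).Characteristic :=
  Subgroup.characteristic_iff_map_eq.mpr fun e => map_layer_equiv e

theorem layer_commutator_self : ⁅layer G, layer G⁆ = layer G := by
  refine le_antisymm ?_ (sSup_le fun K hK => ?_)
  · exact Subgroup.commutator_le.mpr fun a ha b hb => by
      rw [commutatorElement_def]
      exact mul_mem (mul_mem (mul_mem ha hb) (inv_mem ha)) (inv_mem hb)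
  · rw [← isComponent_commutator_self hK]
    exact Subgroup.commutator_mono (le_layer hK) (le_layer hK)

theorem layer_le_centralizer_fitting [Finite G] :
    layer G ≤ Subgroup.centralizer (fittingSubgroup G : Set G) :=
  sSup_le fun _ hK =>
    Subgroup.commutator_eq_bot_iff_le_centralizer.mp (component_commutator_fitting hK)

theorem map_layer_le (M : Subgroup G) [hM : M.Normal] : (layer M).map M.subtype ≤ layer G := by
  rw [map_le_iff_le_comap]
  refine sSup_le fun K hK => ?_
  rw [← map_le_iff_le_comap]
  exact le_layer (isComponent_map_subtype hM.isSubnormal hK)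

/-! ### The generalised Fitting subgroup -/

theorem map_generalizedFittingSubgroup_equiv [Finite G] [Finite H] (e : G ≃* H) :
    (generalizedFittingSubgroup G).map e.toMonoidHom = generalizedFittingSubgroup H := by
  rw [generalizedFittingSubgroup, generalizedFittingSubgroup, Subgroup.map_sup, map_layer_equiv,
    fittingSubgroup_eq_iSup_pCore, fittingSubgroup_eq_iSup_pCore, Subgroup.map_iSup]
  simp_rw [pCore_map_equiv]

instance generalizedFittingSubgroup_normal : (generalizedFittingSubgroup G).Normal :=
  inferInstanceAs (layer G ⊔ fittingSubgroup G).Normal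

theorem fittingSubgroup_le_generalized : fittingSubgroup G ≤ generalizedFittingSubgroup G :=
  le_sup_right

theorem layer_le_generalized : layer G ≤ generalizedFittingSubgroup G := le_sup_left

/-- `C_G(F*(G)) ≤ F*(G)`. -/
theorem centralizer_generalizedFitting_le [Finite G] :
    Subgroup.centralizer (generalizedFittingSubgroup G : Set G) ≤ generalizedFittingSubgroup G := by
  set F := generalizedFittingSubgroup G with hF
  set C := Subgroup.centralizer (F : Set G) with hC
  have hCn : C.Normal := Subgroup.normal_centralizer
  have hcomm : ∀ x ∈ F, ∀ y ∈ C, x * y = y * x := fun x hx y hy => hy x hx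
  -- every solvable normal subgroup inside `C` lies in `F`
  have hsol : ∀ n : ℕ, ∀ D : Subgroup G, D.Normal → Group.IsSolvable D → D ≤ C →
      Nat.card D = n → D ≤ F := by
    intro n
    induction n using Nat.strong_induction_on with
    | _ n ih =>
      intro D hD hs hDC hn
      rcases eq_or_ne D ⊥ with rfl | hne
      · exact bot_le
      have : Nontrivial D := (Subgroup.nontrivial_iff_ne_bot D).mpr hne
      have hlt : ⁅D, D⁆ < D := by
        refine lt_of_le_of_ne (Subgroup.commutator_le_self D) fun h => ?_
        refine (Group.IsSolvable.commutator_lt_top_of_nontrivial D).ne ?_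
        refine Subgroup.map_injective D.subtype_injective ?_
        rw [Subgroup.map_subtype_commutator, h, ← MonoidHom.range_eq_map, Subgroup.range_subtype]
      have hcard : Nat.card (⁅D, D⁆ : Subgroup G) < n := by
        subst hn
        rcases lt_or_eq_of_le (Subgroup.card_le_of_le hlt.le) with h | h
        · exact h
        · exact absurd (Subgroup.eq_of_le_of_card_ge hlt.le h.ge) hlt.ne
      have hD' : ⁅D, D⁆ ≤ F := ih _ hcard _ inferInstance
        (Group.isSolvable_of_isSolvable_injective (f := Subgroup.inclusion hlt.le)
          (Subgroup.inclusion_injective _)) (hlt.le.trans hDC) rfl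
      refine le_trans (le_fittingSubgroup ?_) fittingSubgroup_le_generalized
      have hker : (QuotientGroup.mk' (center D)).ker ≤ center D := by rw [QuotientGroup.ker_mk']
      have hcq : ∀ a b : D ⧸ center D, a * b = b * a := by
        intro a b
        obtain ⟨a, rfl⟩ := QuotientGroup.mk'_surjective _ a
        obtain ⟨b, rfl⟩ := QuotientGroup.mk'_surjective _ b
        rw [← commutatorElement_eq_one_iff_mul_comm, ← map_commutatorElement,
          QuotientGroup.mk'_apply, QuotientGroup.eq_one_iff, Subgroup.mem_center_iff]
        intro z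
        refine Subtype.ext ?_
        exact ((hcomm _ (hD' (Subgroup.commutator_mem_commutator a.2 b.2)) _ (hDC z.2))).symm
      let _ : CommGroup (D ⧸ center D) := { (inferInstance : Group (D ⧸ center D)) with mul_comm := hcq }
      exact Group.of_quotient_center_nilpotent (inferInstanceAs (Group.IsNilpotent (D ⧸ center D)))
  -- the solvable radical meets `C` inside `F`
  have hrad : solvableRadical G ⊓ C ≤ F := by
    have : (solvableRadical G ⊓ C).Normal := inferInstance
    have := isSolvable_solvableRadical (G := G)
    exact hsol _ _ inferInstance (Group.isSolvable_of_isSolvable_injective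
      (f := Subgroup.inclusion (inf_le_left : solvableRadical G ⊓ C ≤ solvableRadical G))
      (Subgroup.inclusion_injective _)) inf_le_right rfl
  by_contra hCF
  have hCns : ¬ Group.IsSolvable C := fun h => hCF (hsol _ C hCn h le_rfl rfl)
  obtain ⟨S, ⟨hSsn, hSC, hSns⟩, hSmin⟩ := (Set.toFinite
    {S : Subgroup G | S.IsSubnormal ∧ S ≤ C ∧ ¬ Group.IsSolvable S}).exists_minimal
      ⟨C, hCn.isSubnormal, le_rfl, hCns⟩
  have hlow : ∀ T : Subgroup G, T.IsSubnormal → T < S → Group.IsSolvable T := by
    intro T hT hTS
    by_contra hns
    exact hTS.not_ge (hSmin ⟨hT, hTS.le.trans hSC, hns⟩ hTS.le)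
  -- inside `S`, all proper subnormal subgroups are central, since they lie in `F`
  have hN : ∀ N : Subgroup S, N.IsSubnormal → N ≠ ⊤ → N ≤ center S := by
    intro N hN hne
    have h1 : (N.map S.subtype).IsSubnormal := hN.trans' hSsn
    have h2 : N.map S.subtype < S := by
      refine lt_of_le_of_ne (Subgroup.map_subtype_le N) fun h => hne ?_
      refine Subgroup.map_injective S.subtype_injective ?_
      rw [h, ← MonoidHom.range_eq_map, Subgroup.range_subtype]
    have h3 : N.map S.subtype ≤ F := (le_inf (isSubnormal_solvable_le_radical h1 (hlow _ h1 h2))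
      ((Subgroup.map_subtype_le N).trans hSC)).trans hrad
    intro x hx
    rw [Subgroup.mem_center_iff]
    intro y
    exact Subtype.ext (hcomm _ (h3 (Subgroup.mem_map_of_mem S.subtype hx)) _ (hSC y.2)).symm
  have hSq : IsQuasisimple S := by
    have hperf : Group.IsPerfect S := by
      rw [Group.isPerfect_def]
      by_contra hne
      apply hSns
      have : Group.IsSolvable (commutator S) := Group.isSolvable_of_comm fun a b => Subtype.ext
        (Subgroup.mem_center_iff.mp (hN _ (Subgroup.Normal.isSubnormal inferInstance) hne a.2) b).symm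
      exact (Group.isSolvable_iff_subgroup_quotient (commutator S)).mpr
        ⟨this, inferInstanceAs (Group.IsSolvable (Abelianization S))⟩
    refine ⟨hperf, ?_⟩
    have hcne : center S ≠ ⊤ := fun h => hSns (Group.isSolvable_of_comm fun a b =>
      (Subgroup.mem_center_iff.mp (h ▸ Subgroup.mem_top a) b).symm)
    have : Nontrivial (S ⧸ center S) := QuotientGroup.nontrivial_iff.mpr hcne
    refine ⟨fun K hK => ?_⟩
    by_cases hc : K.comap (QuotientGroup.mk' (center S)) = ⊤
    · right
      have := congrArg (Subgroup.map (QuotientGroup.mk' (center S))) hc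
      rwa [Subgroup.map_comap_eq_self_of_surjective (QuotientGroup.mk'_surjective _),
        Subgroup.map_top_of_surjective _ (QuotientGroup.mk'_surjective _)] at this
    · left
      have := Subgroup.map_mono (f := QuotientGroup.mk' (center S))
        (hN _ (Subgroup.Normal.isSubnormal inferInstance) hc)
      rw [Subgroup.map_comap_eq_self_of_surjective (QuotientGroup.mk'_surjective _),
        QuotientGroup.map_mk'_self, le_bot_iff] at this
      exact this
  have hSF : S ≤ F := (le_layer ⟨hSsn, hSq⟩).trans layer_le_generalized
  exact hSns (Group.isSolvable_of_comm fun a b => Subtype.ext (hcomm _ (hSF a.2) _ (hSC b.2)))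

end CfsgLib
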