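import Mathlib.GroupTheory.SpecificGroups.Dihedral
import Mathlib.GroupTheory.OrderOfElement
import Mathlib.Data.ZMod.QuotientGroup

/-!
Two involutions generate a dihedral group.
-/

set_option autoImplicit false

namespace CfsgLib.Involutions

variable {G : Type*} [Group G]

theorem mul_self_eq_one_of_orderOf {x : G} (hx : orderOf x = 2) : x * x = 1 := by
  rw [← sq, ← hx, pow_orderOf_eq_one]

theorem inv_eq_self_of_orderOf {x : G} (hx : orderOf x = 2) : x⁻¹ = x :=
  inv_eq_of_mul_eq_one_right (mul_self_eq_one_of_orderOf hx)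

theorem orderOf_eq_two_iff' {x : G} : orderOf x = 2 ↔ x * x = 1 ∧ x ≠ 1 := by
  constructor
  · intro h
    exact ⟨mul_self_eq_one_of_orderOf h, fun e => by simp [e] at h⟩
  · rintro ⟨h1, h2⟩
    exact orderOf_eq_prime (by rw [sq, h1]) h2

variable {x y : G}

theorem conj_mul_eq_inv (hx : x * x = 1) (hy : y * y = 1) : x * (x * y) * x⁻¹ = (x * y)⁻¹ := by
  rw [mul_inv_rev, ← mul_assoc, hx, one_mul, inv_eq_of_mul_eq_one_right hy,
    inv_eq_of_mul_eq_one_right hx]

theorem conj_zpow_eq_inv (hx : x * x = 1) (hy : y * y = 1) (k : ℤ) :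
    x * (x * y) ^ k * x⁻¹ = (x * y) ^ (-k) := by
  rw [← conj_zpow, conj_mul_eq_inv hx hy, inv_zpow']

theorem zpow_mul_eq (hx : x * x = 1) (hy : y * y = 1) (k : ℤ) :
    (x * y) ^ k * x = x * (x * y) ^ (-k) := by
  rw [← conj_zpow_eq_inv hx hy k, inv_eq_of_mul_eq_one_right hx]
  rw [← mul_assoc, ← mul_assoc, hx, one_mul]

/-- The power map `ZMod n → G` of the product of two involutions. -/
noncomputable def rot (x y : G) (i : ZMod (orderOf (x * y))) : G := (x * y) ^ (i.cast : ℤ)

theorem rot_intCast (k : ℤ) : rot x y (k : ZMod (orderOf (x * y))) = (x * y) ^ k := by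
  rw [rot, zpow_eq_zpow_iff_modEq, ← ZMod.intCast_eq_intCast_iff, ZMod.intCast_zmod_cast]

theorem rot_add (i j : ZMod (orderOf (x * y))) : rot x y (i + j) = rot x y i * rot x y j := by
  conv_lhs => rw [← ZMod.intCast_zmod_cast i, ← ZMod.intCast_zmod_cast j, ← Int.cast_add, rot_intCast]
  rw [zpow_add]
  rfl

theorem rot_neg (i : ZMod (orderOf (x * y))) : rot x y (-i) = (rot x y i)⁻¹ := by
  conv_lhs => rw [← ZMod.intCast_zmod_cast i, ← Int.cast_neg, rot_intCast]
  rw [zpow_neg]
  rfl

theorem rot_mul_left (hx : x * x = 1) (hy : y * y = 1) (i : ZMod (orderOf (x * y))) :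
    rot x y i * x = x * rot x y (-i) := by
  rw [rot, zpow_mul_eq hx hy, zpow_neg, rot_neg]
  rfl

/-- The surjection of the dihedral group onto `⟨x, y⟩`. -/
noncomputable def toClosure (x y : G) (hx : x * x = 1) (hy : y * y = 1) :
    DihedralGroup (orderOf (x * y)) →* G where
  toFun d := match d with
    | DihedralGroup.r i => rot x y i
    | DihedralGroup.sr i => x * rot x y i
  map_one' := by
    show rot x y 0 = 1
    rw [← Int.cast_zero, rot_intCast, zpow_zero]
  map_mul' := by
    rintro (i | i) (j | j)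
    · exact rot_add i j
    · show x * rot x y (j - i) = rot x y i * (x * rot x y j)
      rw [← mul_assoc, rot_mul_left hx hy, mul_assoc, ← rot_add, neg_add_eq_sub]
    · show x * rot x y (i + j) = x * rot x y i * rot x y j
      rw [rot_add, mul_assoc]
    · show rot x y (j - i) = x * rot x y i * (x * rot x y j)
      rw [← mul_assoc, mul_assoc x _ x, rot_mul_left hx hy, ← mul_assoc x x, hx, one_mul, ← rot_add,
        neg_add_eq_sub]

theorem toClosure_range (hx : x * x = 1) (hy : y * y = 1) :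
    (toClosure x y hx hy).range = Subgroup.closure {x, y} := by
  apply le_antisymm
  · have h0 : x ∈ Subgroup.closure ({x, y} : Set G) := Subgroup.subset_closure (Or.inl rfl)
    have h1 : y ∈ Subgroup.closure ({x, y} : Set G) := Subgroup.subset_closure (Or.inr rfl)
    rintro _ ⟨i | i, rfl⟩
    · exact zpow_mem (mul_mem h0 h1) _
    · exact mul_mem h0 (zpow_mem (mul_mem h0 h1) _)
  · rw [Subgroup.closure_le]
    have e0 : x = toClosure x y hx hy (DihedralGroup.sr 0) := by
      show x = x * rot x y 0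
      rw [← Int.cast_zero, rot_intCast, zpow_zero, mul_one]
    rintro z (rfl | rfl)
    · exact ⟨_, e0.symm⟩
    · refine ⟨DihedralGroup.sr ((1 : ℤ) : ZMod (orderOf (x * z))), ?_⟩
      show x * rot x z _ = z
      rw [rot_intCast, zpow_one, ← mul_assoc, hx, one_mul]

theorem mem_closure_pair (hx : x * x = 1) (hy : y * y = 1) {d : G}
    (hd : d ∈ Subgroup.closure ({x, y} : Set G)) :
    ∃ k : ℤ, d = (x * y) ^ k ∨ d = x * (x * y) ^ k := by
  rw [← toClosure_range hx hy] at hd
  obtain ⟨i | i, rfl⟩ := hd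
  · exact ⟨_, Or.inl rfl⟩
  · exact ⟨_, Or.inr rfl⟩

theorem not_mem_zpowers_left (hx : orderOf x = 2) (hy : orderOf y = 2) (hxy : x ≠ y) :
    x ∉ Subgroup.zpowers (x * y) := by
  rintro ⟨k, hk⟩
  have hx' := mul_self_eq_one_of_orderOf hx
  have hy' := mul_self_eq_one_of_orderOf hy
  have hc : Commute x (x * y) := by
    nth_rewrite 1 [← hk]
    exact (Commute.refl (x * y)).zpow_left k
  have h2 : (x * y) * (x * y) = 1 := by
    have := conj_mul_eq_inv hx' hy'
    rw [hc.eq, mul_inv_cancel_right] at this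
    exact eq_inv_iff_mul_eq_one.mp this
  obtain ⟨j, rfl | rfl⟩ := Int.even_or_odd' k
  · have h1 : (x * y) ^ (2 * j) = 1 := by rw [zpow_mul, zpow_two, h2, one_zpow]
    rw [show (fun i : ℤ => (x * y) ^ i) (2 * j) = 1 from h1] at hk
    rw [← hk] at hx
    simp at hx
  · have h1 : (x * y) ^ (2 * j + 1) = x * y := by rw [zpow_add_one, zpow_mul, zpow_two, h2, one_zpow, one_mul]
    rw [show (fun i : ℤ => (x * y) ^ i) (2 * j + 1) = x * y from h1] at hk
    have : y = 1 := mul_eq_left.mp hk
    rw [this] at hy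
    simp at hy

theorem toClosure_injective (hx : orderOf x = 2) (hy : orderOf y = 2) (hxy : x ≠ y) :
    Function.Injective (toClosure x y (mul_self_eq_one_of_orderOf hx) (mul_self_eq_one_of_orderOf hy)) := by
  rw [injective_iff_map_eq_one]
  rintro (i | i) h
  · replace h : (x * y) ^ (i.cast : ℤ) = 1 := h
    rw [← orderOf_dvd_iff_zpow_eq_one, ← ZMod.intCast_zmod_eq_zero_iff_dvd, ZMod.intCast_zmod_cast] at h
    rw [h]
    rfl
  · exfalso
    replace h : x * (x * y) ^ (i.cast : ℤ) = 1 := h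
    refine not_mem_zpowers_left hx hy hxy ⟨-(i.cast : ℤ), ?_⟩
    show (x * y) ^ (-(i.cast : ℤ)) = x
    rw [zpow_neg, ← eq_inv_of_mul_eq_one_left h]

/-- Two involutions with product of odd order are conjugate in the group they generate. -/
theorem exists_conj_eq_of_odd (hx : x * x = 1) (hy : y * y = 1) (hodd : Odd (orderOf (x * y))) :
    ∃ d ∈ Subgroup.closure ({x, y} : Set G), d * x * d⁻¹ = y := by
  obtain ⟨m, hm⟩ := hodd
  have h0 : x ∈ Subgroup.closure ({x, y} : Set G) := Subgroup.subset_closure (Or.inl rfl)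
  have h1 : y ∈ Subgroup.closure ({x, y} : Set G) := Subgroup.subset_closure (Or.inr rfl)
  refine ⟨(x * y) ^ (m : ℤ), zpow_mem (mul_mem h0 h1) _, ?_⟩
  rw [zpow_mul_eq hx hy, mul_assoc, ← zpow_neg, ← zpow_add]
  have : (x * y) ^ (-(m : ℤ) + -(m : ℤ)) = x * y := by
    rw [show (-(m : ℤ) + -(m : ℤ)) = 1 + -((2 * m + 1 : ℕ) : ℤ) by push_cast; ring, zpow_add, zpow_one,
      zpow_neg, zpow_natCast, ← hm, pow_orderOf_eq_one, inv_one, mul_one]
  rw [this, ← mul_assoc, hx, one_mul]

theorem central_half (hx : x * x = 1) (hy : y * y = 1) (heven : Even (orderOf (x * y))) :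
    Commute ((x * y) ^ (orderOf (x * y) / 2)) x ∧ Commute ((x * y) ^ (orderOf (x * y) / 2)) y := by
  obtain ⟨m, hm⟩ := heven
  have hm' : orderOf (x * y) / 2 = m := by omega
  rw [hm']
  have h1 : Commute ((x * y) ^ m) x := by
    show _ = _
    rw [← zpow_natCast, zpow_mul_eq hx hy]
    congr 1
    rw [zpow_neg, zpow_natCast, inv_eq_iff_mul_eq_one, ← pow_add, ← hm, pow_orderOf_eq_one]
  refine ⟨h1, ?_⟩
  have h2 : Commute ((x * y) ^ m) (x * y) := (Commute.refl _).pow_left m
  have h3 := h1.mul_right h2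
  rwa [← mul_assoc, hx, one_mul] at h3

theorem orderOf_half [Finite G] (heven : Even (orderOf (x * y))) :
    orderOf ((x * y) ^ (orderOf (x * y) / 2)) = 2 := by
  obtain ⟨m, hm⟩ := heven
  have h0 := orderOf_pos (x * y)
  rw [orderOf_pow, Nat.gcd_eq_right ⟨2, by omega⟩]
  rw [show orderOf (x * y) / 2 = m by omega, hm, ← two_mul, Nat.mul_div_cancel _ (by omega)]

end CfsgLib.Involutions

namespace CfsgLib.Involutions

variable {G : Type*} [Group G]

/-- If `z` is isolated then every product with a conjugate has odd order. -/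
theorem odd_of_isolated [Finite G] {z : G} (hz : orderOf z = 2)
    (h : ∀ g : G, Commute z (g * z * g⁻¹) → g * z * g⁻¹ = z) (g : G) :
    Odd (orderOf (z * (g * z * g⁻¹))) := by
  set w := g * z * g⁻¹ with hwdef
  have hz' := mul_self_eq_one_of_orderOf hz
  have hw' : w * w = 1 := by
    show g * z * g⁻¹ * (g * z * g⁻¹) = 1
    rw [conj_mul, hz', mul_one, mul_inv_cancel]
  rw [← Nat.not_even_iff_odd]
  intro heven
  have hm := (central_half hz' hw' heven).1
  have ho := orderOf_half (x := z) (y := w) heven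
  generalize orderOf (z * w) / 2 = m at hm ho
  have hconj : ∃ k : G, k * z * k⁻¹ = z * (z * w) ^ (m : ℤ) := by
    obtain ⟨j, hj | hj⟩ := Int.even_or_odd' (m : ℤ)
    · refine ⟨(z * w) ^ (-j), ?_⟩
      rw [hj, ← zpow_neg, neg_neg, zpow_mul_eq hz' hw', neg_neg, mul_assoc, ← zpow_add, ← two_mul]
    · refine ⟨(z * w) ^ (-j) * g, ?_⟩
      calc (z * w) ^ (-j) * g * z * ((z * w) ^ (-j) * g)⁻¹
          = (z * w) ^ (-j) * w * (z * w) ^ j := by
            rw [hwdef, mul_inv_rev, ← zpow_neg, neg_neg]; simp [mul_assoc]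
        _ = (z * w) ^ (-j) * (z * (z * w)) * (z * w) ^ j := by
            rw [← mul_assoc z z w, hz', one_mul]
        _ = (z * w) ^ (-j) * z * (z * w) ^ (1 + j) := by
            rw [zpow_one_add]; simp [mul_assoc]
        _ = z * (z * w) ^ (m : ℤ) := by
            rw [zpow_mul_eq hz' hw', neg_neg, mul_assoc, ← zpow_add, hj]; ring_nf
  obtain ⟨k, hk⟩ := hconj
  have hcm : Commute z ((z * w) ^ (m : ℤ)) := by
    rw [zpow_natCast]; exact hm.symm
  have h2 := h k (hk ▸ (Commute.refl z).mul_right hcm)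
  rw [hk, mul_eq_left, zpow_natCast] at h2
  rw [h2] at ho
  simp at ho

end CfsgLib.Involutions

namespace CfsgLib.Involutions

variable {G : Type*} [Group G] {x y : G}

/-- The conjugates of `x` inside the dihedral group are `x (xy)^(2j)`. -/
theorem conj_left_eq (hx : x * x = 1) (hy : y * y = 1) {d : G}
    (hd : d ∈ Subgroup.closure ({x, y} : Set G)) :
    ∃ j : ℤ, d * x * d⁻¹ = x * (x * y) ^ (2 * j) := by
  obtain ⟨k, rfl | rfl⟩ := mem_closure_pair hx hy hd
  · refine ⟨-k, ?_⟩
    rw [zpow_mul_eq hx hy, mul_assoc, ← zpow_neg, ← zpow_add]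
    ring_nf
  · refine ⟨k, ?_⟩
    rw [mul_inv_rev, inv_eq_of_mul_eq_one_right hx, ← zpow_neg,
      show x * (x * y) ^ k * x * ((x * y) ^ (-k) * x) = x * ((x * y) ^ k * x) * ((x * y) ^ (-k) * x) by
        simp [mul_assoc],
      zpow_mul_eq hx hy, zpow_mul_eq hx hy (-k), neg_neg, ← mul_assoc x x, hx, one_mul, ← mul_assoc,
      zpow_mul_eq hx hy, neg_neg, mul_assoc, ← zpow_add, ← two_mul]

theorem orderOf_conj (g x : G) : orderOf (g * x * g⁻¹) = orderOf x :=
  MulEquiv.orderOf_eq (MulAut.conj g) x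

/-- For an odd order element, the power which squares to it. -/
theorem exists_sqrt {u : G} (h : Odd (orderOf u)) :
    ∃ m : ℕ, (u ^ m) * (u ^ m) = u := by
  obtain ⟨k, hk⟩ := h
  refine ⟨k + 1, ?_⟩
  rw [← pow_add, show k + 1 + (k + 1) = orderOf u + 1 by omega, pow_succ, pow_orderOf_eq_one, one_mul]

end CfsgLib.Involutions
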