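import Mathlib.GroupTheory.Sylow
import Mathlib.GroupTheory.Nilpotent
import Mathlib.GroupTheory.Solvable
import Mathlib.GroupTheory.Frattini

/-!
Elementary facts about finite nilpotent groups, finite `p`-groups and minimal normal subgroups.
-/

set_option autoImplicit false

namespace CfsgLib

open Subgroup
open scoped commutatorElement

universe u
variable {G : Type u} [Group G]

theorem index_coatom_pGroup [Finite G] {p : ℕ} [Fact p.Prime] (hG : IsPGroup p G) {M : Subgroup G}
    (hM : IsCoatom M) : M.Normal ∧ M.index = p := by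
  obtain ⟨n, hn⟩ := IsPGroup.iff_card.mp hG
  obtain ⟨m, hm⟩ := IsPGroup.iff_card.mp (hG.to_subgroup M)
  have hmn : m < n := by
    by_contra hle
    refine hM.1 (Subgroup.eq_top_of_card_eq M (le_antisymm (Subgroup.card_le_card_group M) ?_))
    rw [hm, hn]
    exact Nat.pow_le_pow_right (Fact.out : p.Prime).pos (not_lt.mp hle)
  obtain ⟨K, hK, hMK⟩ := Sylow.exists_subgroup_card_pow_succ
    (hn ▸ pow_dvd_pow p (Nat.succ_le_of_lt hmn)) hm
  have hlt : M < K := lt_of_le_of_ne hMK fun h => by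
    have : p ^ m = p ^ (m + 1) := by rw [← hm, ← hK, h]
    exact absurd (Nat.pow_right_injective (Fact.out : p.Prime).two_le this) (by omega)
  have hKtop : K = ⊤ := hM.2 K hlt
  have hidx : M.index = p := by
    have h1 := M.card_mul_index
    rw [hm, ← Subgroup.card_top (G := G), ← hKtop, hK, pow_succ] at h1
    exact Nat.eq_of_mul_eq_mul_left (pow_pos (Fact.out : p.Prime).pos m) h1
  refine ⟨?_, hidx⟩
  have : Group.IsNilpotent G := hG.isNilpotent
  exact NormalizerCondition.normal_of_coatom M normalizerCondition_of_isNilpotent hM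

theorem commutator_le_frattini_pGroup [Finite G] {p : ℕ} [Fact p.Prime] (hG : IsPGroup p G) :
    commutator G ≤ frattini G := by
  refine le_iInf₂ fun M hM => ?_
  obtain ⟨hN, hidx⟩ := index_coatom_pGroup hG hM
  refine Subgroup.Normal.quotient_commutative_iff_commutator_le.mp ?_
  have hc : Nat.card (G ⧸ M) = p := hidx
  have := isCyclic_of_prime_card hc
  exact ⟨⟨IsCyclic.commGroup.mul_comm⟩⟩

theorem pow_mem_frattini_pGroup [Finite G] {p : ℕ} [Fact p.Prime] (hG : IsPGroup p G) (x : G) :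
    x ^ p ∈ frattini G := by
  simp only [frattini, Order.radical, Subgroup.mem_iInf, Set.mem_setOf_eq]
  intro M hM
  obtain ⟨hN, hidx⟩ := index_coatom_pGroup hG hM
  rw [← hidx]
  exact Subgroup.pow_index_mem M x

/-- In a nilpotent group a non-trivial normal subgroup meets the centre. -/
theorem inf_center_ne_bot_of_nilpotent [Group.IsNilpotent G] {N : Subgroup G} [hN : N.Normal]
    (h : N ≠ ⊥) : N ⊓ center G ≠ ⊥ := by
  classical
  obtain ⟨n, hn⟩ := (Subgroup.nilpotent_iff_finite_descending_central_series G).mp (inferInstanceAs (Group.IsNilpotent G))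
  obtain ⟨f, ⟨h0, hstep⟩, hfn⟩ := hn
  have hex : ∃ k, N ⊓ f k = ⊥ := ⟨n, by rw [hfn, inf_bot_eq]⟩
  have hpos : Nat.find hex ≠ 0 := by
    intro h0'
    have := Nat.find_spec hex
    rw [h0', h0, inf_top_eq] at this
    exact h this
  obtain ⟨k, hk⟩ := Nat.exists_eq_succ_of_ne_zero hpos
  have hne : N ⊓ f k ≠ ⊥ := Nat.find_min hex (by omega)
  intro hbot
  apply hne
  rw [eq_bot_iff, ← hbot]
  refine le_inf inf_le_left ?_
  rintro x ⟨hxN, hxf⟩
  rw [Subgroup.mem_center_iff]
  intro g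
  have h1 : x * g * x⁻¹ * g⁻¹ ∈ N ⊓ f (k + 1) := by
    refine ⟨?_, hstep x k hxf g⟩
    have := N.mul_mem hxN (hN.conj_mem _ (N.inv_mem hxN) g)
    simpa [mul_assoc] using this
  rw [← Nat.succ_eq_add_one, ← hk, Nat.find_spec hex, Subgroup.mem_bot, mul_inv_eq_one,
    mul_inv_eq_iff_eq_mul] at h1
  exact h1.symm

/-- A minimal normal subgroup which is solvable is elementary abelian. -/
theorem minimal_normal_elementary [Finite G] {N : Subgroup G} [N.Normal] (hN : N ≠ ⊥)
    (hs : Group.IsSolvable N)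
    (hmin : ∀ M : Subgroup G, M.Normal → M ≤ N → M = ⊥ ∨ M = N) :
    IsMulCommutative N ∧ ∃ p : ℕ, p.Prime ∧ ∀ x ∈ N, x ^ p = 1 := by
  have : Nontrivial N := (Subgroup.nontrivial_iff_ne_bot N).mpr hN
  have hlt := Group.IsSolvable.commutator_lt_top_of_nontrivial N
  have hc : commutator N = ⊥ := by
    rcases hmin ((commutator N).map N.subtype) inferInstance (Subgroup.map_subtype_le _) with h | h
    · rwa [Subgroup.map_eq_bot_iff_of_injective _ N.subtype_injective] at h
    · exfalso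
      refine hlt.ne (Subgroup.map_injective N.subtype_injective ?_)
      rw [h, ← MonoidHom.range_eq_map, Subgroup.range_subtype]
  have hcomm : IsMulCommutative N := (commutator_eq_bot_iff N).mp hc
  refine ⟨hcomm, ?_⟩
  obtain ⟨p, hp, hpd⟩ := Nat.exists_prime_and_dvd (n := Nat.card N)
    (by have := Finite.one_lt_card (α := N); omega)
  have := Fact.mk hp
  refine ⟨p, hp, ?_⟩
  have hmc : ∀ a b : N, a * b = b * a := fun a b => hcomm.is_comm.comm a b
  let T : Subgroup G :=
    { carrier := {x | x ∈ N ∧ x ^ p = 1}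
      one_mem' := ⟨N.one_mem, one_pow p⟩
      mul_mem' := fun {a b} ha hb => ⟨N.mul_mem ha.1 hb.1, by
        have h : Commute a b := congrArg Subtype.val (hmc ⟨a, ha.1⟩ ⟨b, hb.1⟩)
        rw [h.mul_pow, ha.2, hb.2, one_mul]⟩
      inv_mem' := fun {a} ha => ⟨N.inv_mem ha.1, by rw [inv_pow, ha.2, inv_one]⟩ }
  have hT : T.Normal := ⟨fun x hx g => ⟨(inferInstance : N.Normal).conj_mem x hx.1 g, by
    rw [conj_pow, hx.2, mul_one, mul_inv_cancel]⟩⟩
  rcases hmin T hT (fun x hx => hx.1) with h | h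
  · exfalso
    obtain ⟨x, hx⟩ := exists_prime_orderOf_dvd_card' p hpd
    have hx1 : (x : G) ∈ T := ⟨x.2, by
      rw [← Subgroup.coe_pow, ← hx, pow_orderOf_eq_one, Subgroup.coe_one]⟩
    rw [h, Subgroup.mem_bot, OneMemClass.coe_eq_one] at hx1
    rw [hx1, orderOf_one] at hx
    exact hp.ne_one hx.symm
  · intro x hx
    rw [← h] at hx
    exact hx.2

/-- Every non-trivial normal subgroup contains a minimal one. -/
theorem exists_minimal_normal [Finite G] {N : Subgroup G} [hn : N.Normal] (hN : N ≠ ⊥) :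
    ∃ M : Subgroup G, M.Normal ∧ M ≤ N ∧ M ≠ ⊥ ∧
      ∀ K : Subgroup G, K.Normal → K ≤ M → K = ⊥ ∨ K = M := by
  obtain ⟨M, ⟨hMn, hMN, hM0⟩, hmin⟩ := (Set.toFinite
    {M : Subgroup G | M.Normal ∧ M ≤ N ∧ M ≠ ⊥}).exists_minimal ⟨N, hn, le_rfl, hN⟩
  refine ⟨M, hMn, hMN, hM0, fun K hK hKM => ?_⟩
  by_cases hK0 : K = ⊥
  · exact Or.inl hK0
  · exact Or.inr (le_antisymm hKM (hmin ⟨hK, hKM.trans hMN, hK0⟩ hKM))

end CfsgLib
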