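import Cfsg.Agent.Lib.Components
import Cfsg.Agent.Lib.Elementary
import Cfsg.Agent.Lib.Coprime

/-!
Subnormal subgroups: minimal normal subgroups normalise them, joins, Wielandt's zipper lemma.
-/

set_option autoImplicit false

namespace CfsgLib

open Cfsg Subgroup
open scoped Pointwise

universe u
variable {G : Type u} [Group G]

theorem conj_smul_map_subtype {N : Subgroup G} (L : Subgroup N) (g : G) :
    MulAut.conj g • (L.map N.subtype) = (L.map N.subtype).map (MulAut.conj g).toMonoidHom := by
  rw [Subgroup.pointwise_smul_def]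
  rfl

/-- A minimal normal subgroup normalises every subnormal subgroup. -/
theorem minimal_normal_le_normalizer [Finite G] {M S : Subgroup G} [M.Normal]
    (hmin : ∀ K : Subgroup G, K.Normal → K ≤ M → K = ⊥ ∨ K = M) (hS : S.IsSubnormal) :
    M ≤ Subgroup.normalizer (S : Set G) := by
  induction hn : Nat.card G using Nat.strong_induction_on generalizing G with
  | h n ih =>
    subst hn
    rcases hS.lt_normal with rfl | ⟨N, hN, hSN, hNlt⟩
    · exact le_trans le_top Subgroup.le_normalizer
    rcases hmin (M ⊓ N) inferInstance inf_le_left with h | h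
    · intro x hx
      rw [Subgroup.mem_normalizer_iff]
      intro s
      have hc : ∀ t ∈ N, x * t = t * x := fun t ht =>
        Subgroup.commute_of_normal_of_disjoint M N inferInstance hN (disjoint_iff.mpr h) x t hx ht
      constructor
      · intro hs
        rwa [hc s (hSN hs), mul_inv_cancel_right]
      · intro hs
        have := hc _ (hSN hs)
        have h2 : s = x * s * x⁻¹ := by
          calc s = x⁻¹ * (x * s * x⁻¹ * x) := by group
            _ = x⁻¹ * (x * (x * s * x⁻¹)) := by rw [this]
            _ = x * s * x⁻¹ := by group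
        rwa [h2]
    · have hMN : M ≤ N := h ▸ inf_le_right
      rcases eq_or_ne M ⊥ with rfl | hM0
      · exact bot_le
      have hlt : Nat.card N < Nat.card G := card_lt_of_lt_top hNlt
      haveI : (M.subgroupOf N).Normal := Subgroup.normal_subgroupOf
      have hM0' : M.subgroupOf N ≠ ⊥ := by
        rw [ne_eq, Subgroup.subgroupOf_eq_bot]
        exact fun hd => hM0 (hd.eq_bot_of_le hMN)
      obtain ⟨L, hLn, hLM, hL0, hLmin⟩ := exists_minimal_normal (G := N) hM0'
      set L' := L.map N.subtype with hL'
      have hkey : ∀ g : G, ∀ l ∈ L', g * l * g⁻¹ ∈ Subgroup.normalizer (S : Set G) := by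
        intro g l hl
        obtain ⟨l', hl', rfl⟩ := hl
        set S' := MulAut.conj g⁻¹ • S with hS'
        have hS'N : S' ≤ N := fun x hx => by
          have h1 := hN.conj_mem _ (hSN (mem_conj_smul_iff.mp hx)) g⁻¹
          simpa [mul_assoc] using h1
        have hsn : (S'.subgroupOf N).IsSubnormal := (hS.smul (MulAut.conj g⁻¹)).subgroupOf
        have h2 := Subgroup.mem_normalizer_iff.mp (ih _ hlt hLmin hsn rfl hl')
        rw [Subgroup.mem_normalizer_iff]
        intro s
        have hS'mem : ∀ z : G, g⁻¹ * z * g ∈ S' ↔ z ∈ S := fun z => by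
          rw [hS', mem_conj_smul_iff]
          simp [mul_assoc]
        constructor
        · intro hs
          have hzN : g⁻¹ * s * g ∈ N := hS'N ((hS'mem s).mpr hs)
          have h3 : (l' : G) * (g⁻¹ * s * g) * (l' : G)⁻¹ ∈ S' := (h2 ⟨_, hzN⟩).mp ((hS'mem s).mpr hs)
          have h4 := mem_conj_smul_iff.mp h3
          simpa [mul_assoc] using h4
        · intro hs
          have hzN : g⁻¹ * s * g ∈ N := by
            have h5 : g⁻¹ * (g * (l' : G) * g⁻¹ * s * (g * (l' : G) * g⁻¹)⁻¹) * g ∈ N :=
              hS'N ((hS'mem _).mpr hs)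
            have h6 := N.mul_mem (N.mul_mem (N.inv_mem l'.2) h5) l'.2
            simpa [mul_assoc] using h6
          refine (hS'mem s).mp ((h2 ⟨_, hzN⟩).mpr ?_)
          have h7 := (hS'mem _).mpr hs
          show (l' : G) * (g⁻¹ * s * g) * (l' : G)⁻¹ ∈ S'
          simpa [mul_assoc] using h7
      have hcl : Subgroup.normalClosure (L' : Set G) = M := by
        refine (hmin _ inferInstance (Subgroup.normalClosure_le_normal ?_)).resolve_left ?_
        · rintro _ ⟨x, hx, rfl⟩
          exact hLM hx
        · intro hb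
          apply hL0
          rw [← Subgroup.map_eq_bot_iff_of_injective L N.subtype_injective, eq_bot_iff]
          exact fun x hx => hb ▸ Subgroup.subset_normalClosure hx
      rw [← hcl, Subgroup.normalClosure, Subgroup.closure_le]
      intro x hx
      obtain ⟨l, hl, hc⟩ := Group.mem_conjugatesOfSet_iff.mp hx
      obtain ⟨g, rfl⟩ := isConj_iff.mp hc
      exact hkey g l hl

/-- The join of two subnormal subgroups of a finite group is subnormal. -/
theorem isSubnormal_sup [Finite G] {A B : Subgroup G} (hA : A.IsSubnormal) (hB : B.IsSubnormal) :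
    (A ⊔ B).IsSubnormal := by
  induction hn : Nat.card G using Nat.strong_induction_on generalizing G with
  | h n ih =>
    subst hn
    rcases subsingleton_or_nontrivial G with hG | hG
    · exact Subgroup.IsSubnormal.of_subsingleton
    obtain ⟨M, hMn, -, hM0, hmin⟩ := exists_minimal_normal (N := (⊤ : Subgroup G)) top_ne_bot
    have hlt : Nat.card (G ⧸ M) < Nat.card G := by
      rw [Subgroup.card_eq_card_quotient_mul_card_subgroup M]
      haveI : Nontrivial M := (Subgroup.nontrivial_iff_ne_bot M).mpr hM0
      exact lt_mul_of_one_lt_right Nat.card_pos Finite.one_lt_card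
    have h1 := ih _ hlt (hA.quotient (K := M)) (hB.quotient (K := M)) rfl
    rw [← Subgroup.map_sup] at h1
    have h2 := h1.comap (QuotientGroup.mk' M)
    rw [Subgroup.comap_map_eq, QuotientGroup.ker_mk'] at h2
    refine Subgroup.IsSubnormal.step _ _ le_sup_left h2 ?_
    rw [Subgroup.normal_subgroupOf_iff_le_normalizer le_sup_left]
    refine sup_le Subgroup.le_normalizer (le_trans ?_ (Subgroup.normalizer_inf_normalizer_le_normalizer_sup A B))
    exact le_inf (minimal_normal_le_normalizer hmin hA) (minimal_normal_le_normalizer hmin hB)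

/-- A subnormal subgroup which is not normal has a conjugate different from it in its normalizer. -/
theorem exists_conj_ne_le_normalizer {S : Subgroup G} (hS : S.IsSubnormal) (hn : ¬ S.Normal) :
    ∃ x : G, MulAut.conj x • S ≠ S ∧ MulAut.conj x • S ≤ Subgroup.normalizer (S : Set G) := by
  suffices key : ∀ L : Subgroup G, L.IsSubnormal → S ≤ L → L ≤ Subgroup.normalizer (S : Set G) →
      ∃ x : G, MulAut.conj x • S ≠ S ∧ MulAut.conj x • S ≤ Subgroup.normalizer (S : Set G) from
    key S hS le_rfl Subgroup.le_normalizer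
  intro L hL
  induction hL with
  | top =>
    intro _ h
    exact absurd (Subgroup.normalizer_eq_top_iff.mp (top_le_iff.mp h)) hn
  | step A B hAB _ hAn ih =>
    intro hSA hAN
    by_cases hB : ∀ x ∈ B, MulAut.conj x • S = S
    · refine ih (hSA.trans hAB) fun x hx => ?_
      rw [Subgroup.mem_normalizer_iff]
      intro h
      conv_rhs => rw [← hB x hx, mem_conj_smul_iff]
      simp [mul_assoc]
    · push Not at hB
      obtain ⟨x, hx, hxS⟩ := hB
      refine ⟨x, hxS, fun y hy => hAN ?_⟩
      have h1 : x⁻¹ * y * x ∈ A := hSA (mem_conj_smul_iff.mp hy)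
      have h2 := hAn.conj_mem ⟨_, hAB h1⟩ h1 ⟨x, hx⟩
      simpa [Subgroup.mem_subgroupOf, mul_assoc] using h2

/-- **Wielandt's zipper lemma.** -/
theorem zipper [Finite G] (S : Subgroup G)
    (h : ∀ H : Subgroup G, H ≠ ⊤ → S ≤ H → (S.subgroupOf H).IsSubnormal) (hS : ¬ S.IsSubnormal) :
    ∃! M : Subgroup G, IsCoatom M ∧ S ≤ M := by
  induction S using WellFoundedGT.induction with
  | ind S ih =>
    have hN : Subgroup.normalizer (S : Set G) ≠ ⊤ := fun e =>
      hS (Subgroup.normalizer_eq_top_iff.mp e).isSubnormal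
    obtain ⟨M, hM, hNM⟩ := (eq_top_or_exists_le_coatom (Subgroup.normalizer (S : Set G))).resolve_left hN
    refine ⟨M, ⟨hM, Subgroup.le_normalizer.trans hNM⟩, ?_⟩
    rintro K ⟨hK, hSK⟩
    by_contra hne
    have hnn : ¬ (S.subgroupOf K).Normal := fun hn' => by
      have h1 : K ≤ M := ((Subgroup.normal_subgroupOf_iff_le_normalizer hSK).mp hn').trans hNM
      exact hne ((hK.le_iff.mp h1).resolve_left hM.1).symm
    obtain ⟨x, hxne, hxle⟩ := exists_conj_ne_le_normalizer (h K hK.1 hSK) hnn
    set S' := MulAut.conj (x : G) • S with hS'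
    have hS'K : S' ≤ K := fun y hy => by
      have h1 := K.mul_mem (K.mul_mem x.2 (hSK (mem_conj_smul_iff.mp hy))) (K.inv_mem x.2)
      simpa [mul_assoc] using h1
    have hS'N : S' ≤ Subgroup.normalizer (S : Set G) := by
      intro y hy
      have h1 := hxle (x := ⟨y, hS'K hy⟩) ((mem_conj_smul_iff (G := K)).mpr (mem_conj_smul_iff.mp hy :))
      rw [Subgroup.mem_normalizer_iff] at h1 ⊢
      intro s
      constructor
      · intro hs
        exact (h1 ⟨s, hSK hs⟩).mp hs
      · intro hs
        have hsK : s ∈ K := by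
          have h2 := K.mul_mem (K.mul_mem (K.inv_mem (hS'K hy)) (hSK hs)) (hS'K hy)
          simpa [mul_assoc] using h2
        exact (h1 ⟨s, hsK⟩).mpr hs
    have hS'ne : S' ≠ S := fun e => hxne (by
      ext z
      rw [mem_conj_smul_iff]
      show (x : G)⁻¹ * z * x ∈ S ↔ (z : G) ∈ S
      conv_rhs => rw [← e, hS', mem_conj_smul_iff])
    set T := S ⊔ S' with hT
    have hST : S < T := lt_of_le_of_ne le_sup_left fun e => hS'ne
      (Subgroup.eq_of_le_of_card_ge (le_sup_right.trans e.ge) (card_conj_smul _ S).ge)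
    have hTN : T ≤ Subgroup.normalizer (S : Set G) := sup_le Subgroup.le_normalizer hS'N
    have hTsn : ¬ T.IsSubnormal := fun ht =>
      hS (Subgroup.IsSubnormal.step _ _ le_sup_left ht
        ((Subgroup.normal_subgroupOf_iff_le_normalizer le_sup_left).mpr hTN))
    have hTh : ∀ H : Subgroup G, H ≠ ⊤ → T ≤ H → (T.subgroupOf H).IsSubnormal := by
      intro H hH hTH
      rw [hT, Subgroup.subgroupOf_sup (le_sup_left.trans hTH) (le_sup_right.trans hTH)]
      refine isSubnormal_sup (h H hH (le_sup_left.trans hTH)) ?_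
      set H' := MulAut.conj (x : G)⁻¹ • H with hH'
      have hH'top : H' ≠ ⊤ := fun e => hH (Subgroup.eq_top_of_card_eq H (by
        rw [← card_conj_smul (x : G)⁻¹ H, ← hH', e, Subgroup.card_top]))
      have hmem : ∀ z : G, z ∈ H' ↔ (x : G) * z * (x : G)⁻¹ ∈ H := fun z => by
        rw [hH', mem_conj_smul_iff, inv_inv]
      have hSH' : S ≤ H' := fun z hz => (hmem z).mpr ((le_sup_right.trans hTH) (mem_conj_smul_iff.mpr (by
        simpa [mul_assoc] using hz)))
      let f : H →* H' := MonoidHom.mk' (fun z => ⟨(x : G)⁻¹ * z * x, (hmem _).mpr (by simp [mul_assoc])⟩)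
        (fun a b => Subtype.ext (by simp [mul_assoc]))
      have := (h H' hH'top hSH').comap f
      have heq : (S.subgroupOf H').comap f = S'.subgroupOf H := by
        ext z
        simp [f, Subgroup.mem_subgroupOf, hS', mem_conj_smul_iff]
      rwa [heq] at this
    obtain ⟨M', -, hM'⟩ := ih T hST hTh hTsn
    exact hne ((hM' K ⟨hK, sup_le hSK hS'K⟩).trans (hM' M ⟨hM, hTN.trans hNM⟩).symm)

/-- In a finite nilpotent group every subgroup is subnormal. -/
theorem isSubnormal_of_nilpotent [Finite G] [Group.IsNilpotent G] (H : Subgroup G) : H.IsSubnormal := by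
  induction H using WellFoundedGT.induction with
  | ind H ih =>
    rcases eq_or_ne H ⊤ with rfl | hne
    · exact Subgroup.IsSubnormal.top
    · have hlt := Group.normalizerCondition_of_isNilpotent H hne.lt_top
      exact Subgroup.IsSubnormal.step _ _ Subgroup.le_normalizer (ih _ hlt) Subgroup.normal_in_normalizer

/-- Wielandt's subnormality criterion. -/
theorem isSubnormal_of_sup_conj [Finite G] (A : Subgroup G)
    (h : ∀ g : G, (A.subgroupOf (A ⊔ MulAut.conj g • A)).IsSubnormal) : A.IsSubnormal := by
  induction hn : Nat.card G using Nat.strong_induction_on generalizing G with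
  | h n ih =>
    subst hn
    by_contra hA
    have hsub : ∀ H : Subgroup G, H ≠ ⊤ → A ≤ H → (A.subgroupOf H).IsSubnormal := by
      intro H hH hAH
      refine ih _ (card_lt_of_lt_top hH.lt_top) (A.subgroupOf H) (fun g => ?_) rfl
      have heq : A.subgroupOf H ⊔ MulAut.conj g • A.subgroupOf H =
          (A ⊔ MulAut.conj (g : G) • A).subgroupOf H := by
        have hc : MulAut.conj (g : G) • A ≤ H := fun y hy => by
          have h1 := H.mul_mem (H.mul_mem g.2 (hAH (mem_conj_smul_iff.mp hy))) (H.inv_mem g.2)
          simpa [mul_assoc] using h1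
        rw [Subgroup.subgroupOf_sup hAH hc]
        congr 1
        ext z
        rw [mem_conj_smul_iff, Subgroup.mem_subgroupOf, Subgroup.mem_subgroupOf, mem_conj_smul_iff]
        simp
      rw [heq]
      let f : (A ⊔ MulAut.conj (g : G) • A).subgroupOf H →* (A ⊔ MulAut.conj (g : G) • A : Subgroup G) :=
        MonoidHom.mk' (fun z => ⟨((z : H) : G), z.2⟩) (fun a b => rfl)
      exact (h g).comap f
    obtain ⟨M, ⟨hM, hAM⟩, huniq⟩ := zipper A hsub hA
    have hle : ∀ g : G, MulAut.conj g • A ≤ M := by
      intro g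
      rcases eq_top_or_exists_le_coatom (A ⊔ MulAut.conj g • A) with e | ⟨K, hK, hle⟩
      · exfalso
        have h2 := (h g).map (f := (A ⊔ MulAut.conj g • A).subtype) (fun y => ⟨⟨y, e ▸ Subgroup.mem_top y⟩, rfl⟩)
        rw [Subgroup.map_subgroupOf_eq_of_le le_sup_left] at h2
        exact hA h2
      · rw [huniq K ⟨hK, le_sup_left.trans hle⟩] at hle
        exact le_sup_right.trans hle
    set C := Subgroup.normalClosure (A : Set G) with hC
    have hCM : C ≤ M := by
      rw [hC, Subgroup.normalClosure, Subgroup.closure_le]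
      intro y hy
      obtain ⟨a, ha, hc⟩ := Group.mem_conjugatesOfSet_iff.mp hy
      obtain ⟨g, rfl⟩ := isConj_iff.mp hc
      exact hle g (mem_conj_smul_iff.mpr (by simpa [mul_assoc] using ha))
    exact hA (Subgroup.IsSubnormal.trans Subgroup.le_normalClosure
      (hsub C (fun e => hM.1 (top_le_iff.mp (e ▸ hCM))) Subgroup.le_normalClosure)
      (inferInstance : C.Normal).isSubnormal)

/-- Baer's criterion. -/
theorem le_fitting_of_sup_conj_nilpotent [Finite G] (A : Subgroup G)
    (h : ∀ g : G, Group.IsNilpotent (A ⊔ MulAut.conj g • A : Subgroup G)) :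
    A.IsSubnormal ∧ A ≤ fittingSubgroup G := by
  have hsn := isSubnormal_of_sup_conj A fun g => by
    haveI := h g
    exact isSubnormal_of_nilpotent _
  refine ⟨hsn, isSubnormal_nilpotent_le_fitting hsn ?_⟩
  have h1 := h 1
  rwa [map_one, one_smul, sup_idem] at h1

end CfsgLib
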