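import Mathlib

/-!
Orders of SL, PGL, PSL over finite fields.
-/

set_option autoImplicit false

namespace CfsgLib.SLCard

open Matrix

variable {F : Type*} [Field F] [Fintype F] {n : ℕ}

theorem det_surjective (hn : 1 ≤ n) :
    Function.Surjective (Matrix.GeneralLinearGroup.det : GL (Fin n) F →* Fˣ) := by
  classical
  intro u
  haveI : Nonempty (Fin n) := ⟨⟨0, hn⟩⟩
  let d : Fin n → F := Function.update (fun _ => 1) ⟨0, hn⟩ (u : F)
  have hd : (Matrix.diagonal d).det = u := by
    rw [Matrix.det_diagonal, Finset.prod_update_of_mem (Finset.mem_univ _), Finset.prod_const_one, mul_one]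
  refine ⟨Matrix.GeneralLinearGroup.mkOfDetNeZero (Matrix.diagonal d) (by rw [hd]; exact u.ne_zero), ?_⟩
  apply Units.ext
  exact hd

theorem range_toGL : (SpecialLinearGroup.toGL : SpecialLinearGroup (Fin n) F →* GL (Fin n) F).range =
    (Matrix.GeneralLinearGroup.det : GL (Fin n) F →* Fˣ).ker := by
  ext g
  rw [MonoidHom.mem_ker]
  constructor
  · rintro ⟨A, rfl⟩
    apply Units.ext
    exact A.2
  · intro h
    refine ⟨⟨g.1, ?_⟩, Units.ext rfl⟩
    have := congrArg Units.val h
    simpa using this

theorem toGL_injective : Function.Injective (SpecialLinearGroup.toGL : SpecialLinearGroup (Fin n) F →* GL (Fin n) F) :=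
  fun A B h => Subtype.ext (congrArg Units.val h :)

theorem card_units_mul_card_SL (hn : 1 ≤ n) :
    (Fintype.card F - 1) * Nat.card (SpecialLinearGroup (Fin n) F) = Nat.card (GL (Fin n) F) := by
  rw [← (Matrix.GeneralLinearGroup.det : GL (Fin n) F →* Fˣ).ker.index_mul_card, Subgroup.index_ker,
    MonoidHom.range_eq_top.mpr (det_surjective hn), Subgroup.card_top, Nat.card_units,
    Nat.card_eq_fintype_card (α := F), ← range_toGL, Nat.card_congr (MonoidHom.ofInjective toGL_injective).toEquiv]

theorem card_GL_center (hn : 1 ≤ n) :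
    Nat.card (Subgroup.center (GL (Fin n) F)) = Fintype.card F - 1 := by
  haveI : Nonempty (Fin n) := ⟨⟨0, hn⟩⟩
  rw [Matrix.GeneralLinearGroup.center_eq_range_scalar, ← Nat.card_eq_fintype_card (α := F), ← Nat.card_units]
  refine (Nat.card_congr (MonoidHom.ofInjective (f := Matrix.GeneralLinearGroup.scalar (Fin n)) ?_).toEquiv).symm
  intro a b h
  have h1 := congrArg (fun g : GL (Fin n) F => (g : Matrix (Fin n) (Fin n) F) ⟨0, hn⟩ ⟨0, hn⟩) h
  simp only [Matrix.GeneralLinearGroup.coe_scalar, Matrix.scalar_apply, Matrix.diagonal_apply_eq] at h1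
  exact Units.ext h1

theorem card_PGL (n : ℕ) :
    Nat.card (Matrix.ProjGenLinGroup (Fin n) F) = Nat.card (SpecialLinearGroup (Fin n) F) := by
  rcases Nat.eq_zero_or_pos n with rfl | hn
  · haveI : Subsingleton (GL (Fin 0) F) := ⟨fun a b => Units.ext (Subsingleton.elim _ _)⟩
    haveI : Subsingleton (Matrix.ProjGenLinGroup (Fin 0) F) := Matrix.ProjGenLinGroup.mk_surjective.subsingleton
    haveI : Nonempty (Matrix.ProjGenLinGroup (Fin 0) F) := ⟨1⟩
    rw [Nat.card_unique, Nat.card_unique]
  · have h1 : Nat.card (Matrix.ProjGenLinGroup (Fin n) F) * (Fintype.card F - 1) = Nat.card (GL (Fin n) F) := by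
      rw [← card_GL_center hn]
      exact (Subgroup.center (GL (Fin n) F)).index_mul_card
    rw [← card_units_mul_card_SL hn, mul_comm] at h1
    exact Nat.eq_of_mul_eq_mul_left (by have := Fintype.one_lt_card (α := F); omega) h1

theorem card_SL_center (hn : 1 ≤ n) :
    Nat.card (Subgroup.center (SpecialLinearGroup (Fin n) F)) = Nat.gcd n (Fintype.card F - 1) := by
  rw [Nat.card_congr SpecialLinearGroup.center_equiv_rootsOfUnity.toEquiv, Fintype.card_fin,
    max_eq_left hn, show rootsOfUnity n F = (powMonoidHom n : Fˣ →* Fˣ).ker from rfl,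
    IsCyclic.card_powMonoidHom_ker, Nat.card_units, Nat.card_eq_fintype_card, Nat.gcd_comm]

theorem gcd_mul_card_PSL (hn : 1 ≤ n) :
    Nat.gcd n (Fintype.card F - 1) * Nat.card (ProjectiveSpecialLinearGroup (Fin n) F) =
      Nat.card (SpecialLinearGroup (Fin n) F) := by
  rw [← card_SL_center hn]
  exact (Subgroup.center (SpecialLinearGroup (Fin n) F)).card_mul_index

/-- `|SL(2,q)| = q (q^2 - 1)`. -/
theorem card_SL_two :
    Nat.card (SpecialLinearGroup (Fin 2) F) = Fintype.card F * (Fintype.card F ^ 2 - 1) := by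
  have h := card_units_mul_card_SL (F := F) (n := 2) (by norm_num)
  rw [Matrix.card_GL_field, Fin.prod_univ_two] at h
  have hq := Fintype.one_lt_card (α := F)
  simp only [Fin.val_zero, pow_zero, Fin.val_one, pow_one] at h
  have e : Fintype.card F ^ 2 - Fintype.card F = (Fintype.card F - 1) * Fintype.card F := by
    rw [sq, Nat.sub_mul, one_mul]
  rw [e] at h
  exact Nat.eq_of_mul_eq_mul_left (show 0 < Fintype.card F - 1 by omega) (by rw [h]; ring)

end CfsgLib.SLCard
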