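import Cfsg.Agent.Lib.SL2Orders
import Cfsg.Agent.Lib.SLCard

/-!
Split extensions of SL(2,2^n) by sums of natural modules have the prime graph of SL(2,2^n).
-/

set_option autoImplicit false

namespace CfsgLib.PrimeGraphExt

open Matrix

variable {F : Type*} [Field F]

local notation "SL2" => SpecialLinearGroup (Fin 2) F

/-- The module `k` copies of the natural module. -/
abbrev W (F : Type*) (k : ℕ) : Type _ := Multiplicative (Fin k → Fin 2 → F)

def actFun (k : ℕ) (g : SL2) : MulAut (W F k) :=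
  AddEquiv.toMultiplicative
    { toFun := fun w i => g.1 *ᵥ w i
      invFun := fun w i => (g⁻¹ : SL2).1 *ᵥ w i
      left_inv := fun w => funext fun i => by
        show (g⁻¹ : SL2).1 *ᵥ (g.1 *ᵥ w i) = w i
        rw [Matrix.mulVec_mulVec, show (g⁻¹ : SL2).1 * g.1 = 1 from congrArg Subtype.val (inv_mul_cancel g), Matrix.one_mulVec]
      right_inv := fun w => funext fun i => by
        show g.1 *ᵥ ((g⁻¹ : SL2).1 *ᵥ w i) = w i
        rw [Matrix.mulVec_mulVec, show g.1 * (g⁻¹ : SL2).1 = 1 from congrArg Subtype.val (mul_inv_cancel g), Matrix.one_mulVec]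
      map_add' := fun u v => funext fun i => Matrix.mulVec_add _ _ _ }

theorem actFun_apply (k : ℕ) (g : SL2) (w : W F k) :
    actFun k g w = Multiplicative.ofAdd (fun i => g.1 *ᵥ (Multiplicative.toAdd w) i) := rfl

def act (k : ℕ) : SL2 →* MulAut (W F k) where
  toFun := actFun k
  map_one' := MulEquiv.ext fun w => by
    simp [actFun_apply]
  map_mul' g h := MulEquiv.ext fun w => by
    rw [MulAut.mul_apply, actFun_apply, actFun_apply, actFun_apply]
    exact congrArg Multiplicative.ofAdd (funext fun i => (Matrix.mulVec_mulVec _ _ _).symm)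

abbrev Ext (F : Type*) [Field F] (k : ℕ) : Type _ :=
  SemidirectProduct (W F k) (SpecialLinearGroup (Fin 2) F) (act k)

variable [Fintype F]

instance (k : ℕ) : Finite (Ext F k) := Finite.of_equiv _ SemidirectProduct.equivProd.symm

theorem card_ext (k : ℕ) :
    Nat.card (Ext F k) = Fintype.card F ^ (2 * k) * Nat.card (SpecialLinearGroup (Fin 2) F) := by
  rw [Nat.card_congr SemidirectProduct.equivProd, Nat.card_prod]
  congr 1
  rw [show Nat.card (W F k) = Nat.card (Fin k → Fin 2 → F) from rfl, Nat.card_fun, Nat.card_fun,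
    Nat.card_fin, Nat.card_fin, Nat.card_eq_fintype_card, ← pow_mul]

variable [CharP F 2]

omit [Fintype F] in
theorem sq_eq_one_of_fix (g : SL2) (v : Fin 2 → F) (hv : v ≠ 0) (h : g.1 *ᵥ v = v) : g ^ 2 = 1 := by
  have h0 : (g.1 - 1).det = 0 :=
    Matrix.exists_mulVec_eq_zero_iff.mp ⟨v, hv, by rw [Matrix.sub_mulVec, h, Matrix.one_mulVec, sub_self]⟩
  have hd : g.1 0 0 * g.1 1 1 - g.1 0 1 * g.1 1 0 = 1 := by rw [← Matrix.det_fin_two]; exact g.2
  rw [Matrix.det_fin_two] at h0
  simp only [Matrix.sub_apply, Matrix.one_apply_eq, ne_eq, zero_ne_one, not_false_eq_true,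
    Matrix.one_apply_ne, one_ne_zero, sub_zero] at h0
  have ht : g.1.trace = 0 := by
    have h2 : (2 : F) = 0 := CharTwo.two_eq_zero
    rw [Matrix.trace_fin_two]; linear_combination -h0 + hd + h2
  apply Subtype.ext
  show g.1 ^ 2 = 1
  rw [sq, SL2Orders.sq_eq g, ht, zero_smul, zero_sub]
  ext i j
  simp [CharTwo.neg_eq]

omit [Fintype F] in
theorem sq_inl (k : ℕ) (w : W F k) : w ^ 2 = 1 := by
  have : Multiplicative.toAdd w + Multiplicative.toAdd w = 0 := funext fun i => funext fun j => CharTwo.add_self_eq_zero _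
  rw [sq]; exact Multiplicative.toAdd.injective this

theorem graph_iff (k : ℕ) (p q : ℕ) (hp : p.Prime) (hq : q.Prime) (hpq : p ≠ q) :
    (∃ g : SL2, orderOf g = p * q) ↔ ∃ g : Ext F k, orderOf g = p * q := by
  constructor
  · rintro ⟨g, hg⟩
    exact ⟨SemidirectProduct.inr g, by rw [orderOf_injective _ SemidirectProduct.inr_injective, hg]⟩
  · suffices key : ∀ p q : ℕ, p.Prime → q.Prime → p ≠ q → q ≠ 2 → (∃ g : Ext F k, orderOf g = p * q) → ∃ g : SL2, orderOf g = p * q by
      rintro h
      by_cases h2 : q = 2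
      · rw [mul_comm] at h ⊢
        exact key q p hq hp hpq.symm (fun e => hpq (e.trans h2.symm)) h
      · exact key p q hp hq hpq h2 h
    rintro p q hp hq hpq hq2 ⟨h, hh⟩
    set π : Ext F k →* SL2 := SemidirectProduct.rightHom
    set n := orderOf (π h) with hn
    have hnd : n ∣ p * q := hh ▸ orderOf_map_dvd π h
    have hker : ∀ x : Ext F k, π x = 1 → x ^ 2 = 1 := by
      intro x hx
      have : x = SemidirectProduct.inl x.left := SemidirectProduct.ext (by simp) (by simpa [π] using hx)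
      rw [this, ← map_pow, sq_inl, map_one]
    have h2n : p * q ∣ n * 2 := by
      rw [← hh, orderOf_dvd_iff_pow_eq_one, pow_mul]
      exact hker _ (by rw [map_pow, hn, pow_orderOf_eq_one])
    have hqn : q ∣ n := ((Nat.coprime_primes hq Nat.prime_two).mpr hq2).dvd_of_dvd_mul_right ((dvd_mul_left q p).trans h2n)
    by_cases hpn : p ∣ n
    · exact ⟨π h, Nat.dvd_antisymm hnd (Nat.Coprime.mul_dvd_of_dvd_of_dvd ((Nat.coprime_primes hp hq).mpr hpq) hpn hqn)⟩
    exfalso
    have hp2 : p = 2 := by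
      by_contra h2
      exact hpn (((Nat.coprime_primes hp Nat.prime_two).mpr h2).dvd_of_dvd_mul_right ((dvd_mul_right p q).trans h2n))
    have hn' : n = q := Nat.dvd_antisymm (((hp.coprime_iff_not_dvd.mpr hpn).symm).dvd_of_dvd_mul_left hnd) hqn
    set t := h ^ q with ht
    have ht1 : π t = 1 := by rw [ht, map_pow, ← hn', hn, pow_orderOf_eq_one]
    have htne : t ≠ 1 := by
      intro e
      have h1 := orderOf_dvd_of_pow_eq_one e
      rw [hh] at h1
      have h2 := Nat.le_of_dvd hq.pos h1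
      nlinarith [hp.two_le, hq.pos]
    have hcomm : h * t = t * h := (Commute.refl h).pow_right q
    have htl : t.left ≠ 1 := fun e => htne (SemidirectProduct.ext e (by simpa [π] using ht1))
    have hfix := congrArg SemidirectProduct.left hcomm
    rw [SemidirectProduct.mul_left, SemidirectProduct.mul_left, show t.right = 1 from ht1, map_one,
      MulAut.one_apply, mul_comm h.left, mul_right_cancel_iff] at hfix
    obtain ⟨i, hi⟩ : ∃ i, (Multiplicative.toAdd t.left) i ≠ 0 := by
      by_contra hcon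
      push Not at hcon
      exact htl (Multiplicative.toAdd.injective (funext hcon))
    have hfi : h.right.1 *ᵥ (Multiplicative.toAdd t.left) i = (Multiplicative.toAdd t.left) i := by
      have := congrArg (fun w : W F k => Multiplicative.toAdd w i) hfix
      exact this
    have hsq : (π h) ^ 2 = 1 := sq_eq_one_of_fix _ _ hi hfi
    have h1 := orderOf_dvd_of_pow_eq_one hsq
    rw [← hn, hn'] at h1
    exact hq2 ((Nat.prime_dvd_prime_iff_eq hq Nat.prime_two).mp h1)

theorem dvd_iff (k p : ℕ) (hp : p.Prime) :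
    p ∣ Nat.card (SpecialLinearGroup (Fin 2) F) ↔ p ∣ Nat.card (Ext F k) := by
  rw [card_ext]
  refine ⟨fun h => h.mul_left _, fun h => ?_⟩
  rcases hp.dvd_mul.mp h with h | h
  · rw [SLCard.card_SL_two]
    exact (hp.dvd_of_dvd_pow h).mul_right _
  · exact h

omit [Fintype F] in
theorem center_eq_bot : Subgroup.center SL2 = ⊥ := by
  rw [Subgroup.eq_bot_iff_forall]
  intro A hA
  obtain ⟨r, hr, hA'⟩ := Matrix.SpecialLinearGroup.mem_center_iff.mp hA
  rw [Fintype.card_fin] at hr
  have : r = 1 := by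
    rcases sq_eq_one_iff.mp hr with e | e
    · exact e
    · rwa [CharTwo.neg_eq] at e
  subst this
  apply Subtype.ext
  rw [← hA', map_one]; rfl

noncomputable def pslEquiv : ProjectiveSpecialLinearGroup (Fin 2) F ≃* SL2 :=
  (QuotientGroup.quotientMulEquivOfEq center_eq_bot).trans QuotientGroup.quotientBot

omit [CharP F 2] in
/-- The finite group `H` realised on a type in universe `0`. -/
theorem exists_small {H : Type*} [Group H] [Finite H] :
    ∃ (H₀ : Type) (_ : Group H₀) (_ : Finite H₀), Nonempty (H₀ ≃* H) := by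
  let e := (Finite.equivFin H).symm
  letI : Group (Fin (Nat.card H)) := e.group
  exact ⟨Fin (Nat.card H), inferInstance, inferInstance, ⟨e.mulEquiv⟩⟩

theorem exists_large (N : ℕ) :
    ∃ (H : Type) (_ : Group H) (_ : Finite H), N < Nat.card H ∧
      (∀ p : ℕ, p.Prime → (p ∣ Nat.card SL2 ↔ p ∣ Nat.card H)) ∧
      (∀ p q : ℕ, p.Prime → q.Prime → p ≠ q → ((∃ g : SL2, orderOf g = p * q) ↔ ∃ g : H, orderOf g = p * q)) := by
  obtain ⟨H, iG, iF, ⟨e⟩⟩ := exists_small (H := Ext F (N + 1))
  refine ⟨H, iG, iF, ?_, fun p hp => ?_, fun p q hp hq hpq => ?_⟩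
  · rw [Nat.card_congr e.toEquiv, card_ext]
    have hq := Fintype.one_lt_card (α := F)
    calc N < 2 ^ (2 * (N + 1)) := lt_of_lt_of_le (by omega : N < 2 * (N + 1)) Nat.lt_two_pow_self.le
      _ ≤ Fintype.card F ^ (2 * (N + 1)) := Nat.pow_le_pow_left hq _
      _ ≤ _ := Nat.le_mul_of_pos_right _ Nat.card_pos
  · rw [Nat.card_congr e.toEquiv]; exact dvd_iff _ p hp
  · rw [graph_iff (N + 1) p q hp hq hpq]
    exact ⟨fun ⟨g, hg⟩ => ⟨e.symm g, by rw [MulEquiv.orderOf_eq, hg]⟩, fun ⟨g, hg⟩ => ⟨e g, by rw [MulEquiv.orderOf_eq, hg]⟩⟩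

end CfsgLib.PrimeGraphExt
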