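import Mathlib
import Cfsg.Prelude.Def_LieClassical

/-! Monomial elements of `GU`, its determinant and its centre. -/

set_option autoImplicit false

namespace CfsgLib.UnitaryBasic

open Matrix

variable {F : Type*} [Field F] [Fintype F] {q n : ℕ}

theorem frob_exists (hF : Fintype.card F = q ^ 2) :
    1 < q ∧ ∃ σ : F →+* F, ∀ x, σ x = x ^ q := by
  obtain ⟨p, hp⟩ := CharP.exists F
  obtain ⟨d, hpp, hcard⟩ := FiniteField.card F p
  haveI := Fact.mk hpp
  obtain ⟨k, -, hk⟩ := (Nat.dvd_prime_pow hpp).mp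
    (show q ∣ p ^ (d : ℕ) from ⟨q, by rw [← hcard, hF, sq]⟩)
  refine ⟨?_, iterateFrobenius F p k, fun x => by rw [iterateFrobenius_def, hk]⟩
  have h1 := Fintype.one_lt_card (α := F)
  rw [hF] at h1
  by_contra h
  interval_cases q <;> simp at h1

theorem mem_GU (g : GL (Fin n) F) :
    g ∈ Cfsg.GU n F q ↔ ∀ u v, Cfsg.hermForm n F q (g.1 *ᵥ u) (g.1 *ᵥ v) = Cfsg.hermForm n F q u v :=
  Iff.rfl

theorem diag_preserves {d : Fin n → F} (hd : ∀ i, d i ^ (q + 1) = 1) (u v : Fin n → F) :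
    Cfsg.hermForm n F q (diagonal d *ᵥ u) (diagonal d *ᵥ v) = Cfsg.hermForm n F q u v := by
  refine Finset.sum_congr rfl fun i _ => ?_
  rw [mulVec_diagonal, mulVec_diagonal, mul_pow]
  calc d i * u i * (d i ^ q * v i ^ q) = d i ^ (q + 1) * (u i * v i ^ q) := by ring
    _ = u i * v i ^ q := by rw [hd, one_mul]

/-- The diagonal element of `GL` with unit entries. -/
def dgl (d : Fin n → Fˣ) : GL (Fin n) F :=
  ⟨diagonal fun i => (d i : F), diagonal fun i => ((d i)⁻¹ : Fˣ), by simp [diagonal_mul_diagonal],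
    by simp [diagonal_mul_diagonal]⟩

theorem dgl_mem (d : Fin n → Fˣ) (hd : ∀ i, d i ^ (q + 1) = 1) : dgl d ∈ Cfsg.GU n F q :=
  fun u v => diag_preserves (fun i => by rw [← Units.val_pow_eq_pow_val, hd, Units.val_one]) u v

theorem perm_preserves (π : Equiv.Perm (Fin n)) (u v : Fin n → F) :
    Cfsg.hermForm n F q (π.permMatrix F *ᵥ u) (π.permMatrix F *ᵥ v) = Cfsg.hermForm n F q u v := by
  rw [Matrix.permMatrix_mulVec, Matrix.permMatrix_mulVec]
  exact Equiv.sum_comp π (fun i => u i * v i ^ q)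

theorem det_pow (hF : Fintype.card F = q ^ 2) {g : GL (Fin n) F} (hg : g ∈ Cfsg.GU n F q) :
    GeneralLinearGroup.det g ^ (q + 1) = 1 := by
  obtain ⟨hq, σ, hσ⟩ := frob_exists hF
  have e : g.1ᵀ * g.1.map σ = 1 := by
    ext a b
    have h := hg (Pi.single a 1) (Pi.single b 1)
    change Cfsg.hermForm n F q (g.1 *ᵥ Pi.single a 1) (g.1 *ᵥ Pi.single b 1) = _ at h
    simp only [Cfsg.hermForm, Matrix.mulVec_single_one, Matrix.col_apply] at h
    rw [Matrix.mul_apply]
    simp only [Matrix.transpose_apply, Matrix.map_apply, hσ]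
    rw [h]
    simp [Pi.single_apply, Matrix.one_apply, ite_pow, zero_pow (show q ≠ 0 by omega), eq_comm]
  have h := congrArg Matrix.det e
  rw [Matrix.det_mul, Matrix.det_transpose, Matrix.det_one,
    show g.1.map σ = σ.mapMatrix g.1 from rfl, ← RingHom.map_det, hσ] at h
  apply Units.ext
  push_cast
  rw [pow_succ']
  simpa using h

theorem exists_zeta (hF : Fintype.card F = q ^ 2) : ∃ ζ : Fˣ, orderOf ζ = q + 1 := by
  have h : q + 1 ∣ Nat.card Fˣ := by
    rw [Nat.card_units, Nat.card_eq_fintype_card, hF]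
    obtain ⟨r, rfl⟩ := Nat.exists_eq_add_of_le (frob_exists hF).1.le
    refine ⟨r, ?_⟩
    have e : (1 + r) ^ 2 = (1 + r + 1) * r + 1 := by ring
    omega
  exact IsCyclic.exists_ofOrder_eq_natCard.elim fun u hu =>
    ⟨u ^ (Nat.card Fˣ / (q + 1)), by
      rw [orderOf_pow_of_dvd (Nat.div_pos (Nat.le_of_dvd Nat.card_pos h) (by omega)).ne'
        (by rw [hu]; exact Nat.div_dvd_of_dvd h), hu, Nat.div_div_self h Nat.card_pos.ne']⟩

/-- A matrix commuting with enough monomial matrices is scalar. -/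
theorem scalar_of_commute (hn : 0 < n) {A : Matrix (Fin n) (Fin n) F}
    (hdiag : ∀ i : Fin n, ∃ d : Fin n → F, (∀ j, j ≠ i → d j ≠ d i) ∧ A * diagonal d = diagonal d * A)
    (hperm : ∀ i j : Fin n, ∃ e : Fin n → F, ∃ π : Equiv.Perm (Fin n), π i = j ∧ (∀ k, e k ≠ 0) ∧
      A * (diagonal e * π.permMatrix F) = (diagonal e * π.permMatrix F) * A) :
    ∃ r : F, A = Matrix.scalar (Fin n) r := by
  have hoff : ∀ i j, i ≠ j → A i j = 0 := by
    intro i j hij
    obtain ⟨d, hd, hc⟩ := hdiag i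
    have h := congrFun (congrFun hc i) j
    rw [mul_diagonal, diagonal_mul, mul_comm] at h
    by_contra hne
    exact hd j (Ne.symm hij) (mul_right_cancel₀ hne h)
  refine ⟨A ⟨0, hn⟩ ⟨0, hn⟩, ?_⟩
  ext i j
  by_cases hij : i = j
  · subst hij
    rw [Matrix.scalar_apply, diagonal_apply_eq]
    obtain ⟨e, π, hπ, he, hc⟩ := hperm i ⟨0, hn⟩
    have hA : A = diagonal fun k => A k k := by
      ext a b
      rcases eq_or_ne a b with rfl | hab
      · rw [diagonal_apply_eq]
      · rw [diagonal_apply_ne _ hab, hoff a b hab]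
    have h := congrFun (congrFun hc i) ⟨0, hn⟩
    rw [hA, ← Matrix.mul_assoc, diagonal_mul_diagonal, diagonal_mul,
      Matrix.mul_assoc (diagonal e), diagonal_mul e, mul_diagonal] at h
    have hp : π.permMatrix F i ⟨0, hn⟩ = 1 := by
      simp [Equiv.Perm.permMatrix, PEquiv.toMatrix_apply, hπ]
    rw [hp, mul_one, one_mul] at h
    exact mul_right_cancel₀ (he i) (by rw [h, mul_comm])
  · rw [Matrix.scalar_apply, diagonal_apply_ne _ hij, hoff i j hij]

theorem center_GU_scalar (hF : Fintype.card F = q ^ 2) (hn : 0 < n) {z : Cfsg.GU n F q}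
    (hz : z ∈ Subgroup.center (Cfsg.GU n F q)) : ∃ r : F, z.1.1 = Matrix.scalar (Fin n) r := by
  obtain ⟨hq, -⟩ := frob_exists hF
  obtain ⟨ζ, hζ⟩ := exists_zeta hF
  have hζq : ζ ^ (q + 1) = 1 := by rw [← hζ]; exact pow_orderOf_eq_one ζ
  have hζ1 : ζ ≠ 1 := fun h => by rw [h, orderOf_one] at hζ; omega
  have hcomm : ∀ g : GL (Fin n) F, g ∈ Cfsg.GU n F q → z.1.1 * g.1 = g.1 * z.1.1 := fun g hg =>
    (congrArg (fun x : Cfsg.GU n F q => x.1.1) (Subgroup.mem_center_iff.mp hz ⟨g, hg⟩)).symm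
  refine scalar_of_commute hn (fun i => ?_) (fun i j => ?_)
  · refine ⟨fun k => ((Function.update (1 : Fin n → Fˣ) i ζ k : Fˣ) : F), fun k hk => ?_,
      hcomm (dgl (Function.update (1 : Fin n → Fˣ) i ζ)) (dgl_mem _ fun k => ?_)⟩
    · simp only [Function.update_self, Function.update_of_ne hk, Pi.one_apply, ne_eq, Units.val_inj]
      exact Ne.symm hζ1
    · rcases eq_or_ne k i with rfl | hk
      · rw [Function.update_self, hζq]
      · rw [Function.update_of_ne hk, Pi.one_apply, one_pow]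
  · refine ⟨fun _ => 1, Equiv.swap i j, Equiv.swap_apply_left i j, fun _ => one_ne_zero, ?_⟩
    rw [Matrix.diagonal_one, Matrix.one_mul]
    exact hcomm (GeneralLinearGroup.mkOfDetNeZero ((Equiv.swap i j).permMatrix F)
      (by rw [Matrix.det_permutation]; rcases Int.units_eq_one_or (Equiv.Perm.sign (Equiv.swap i j)) with h | h <;> simp [h])) (fun u v => perm_preserves _ u v)

end CfsgLib.UnitaryBasic
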