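import Mathlib
import Cfsg.Agent.Lib.UnitaryBasic

/-! Counting vectors of given norm for the standard Hermitian form. -/

set_option autoImplicit false

namespace CfsgLib.HermCount

variable {F : Type*} [Field F] [Fintype F] {q : ℕ}

theorem pow_sub_one_mul (hF : Fintype.card F = q ^ 2) :
    Nat.card Fˣ = (q - 1) * (q + 1) := by
  rw [Nat.card_units, Nat.card_eq_fintype_card, hF,
    show q ^ 2 - 1 = (q - 1) * (q + 1) by rw [mul_comm, ← Nat.sq_sub_sq, one_pow]]

theorem card_sub_one (hF : Fintype.card F = q ^ 2) : Nat.card Fˣ = (q + 1) * (q - 1) := by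
  rw [pow_sub_one_mul hF, mul_comm]

theorem herm_fixed (hF : Fintype.card F = q ^ 2) {n : ℕ} (v : Fin n → F) :
    Cfsg.hermForm n F q v v ^ q = Cfsg.hermForm n F q v v := by
  obtain ⟨-, σ, hσ⟩ := CfsgLib.UnitaryBasic.frob_exists hF
  rw [← hσ, Cfsg.hermForm, map_sum]
  refine Finset.sum_congr rfl fun i _ => ?_
  rw [hσ, mul_pow, ← pow_mul, ← sq, ← hF, FiniteField.pow_card, mul_comm]

/-- Norms cover the fixed field. -/
theorem exists_norm (hF : Fintype.card F = q ^ 2) {c : F} (hc0 : c ≠ 0) (hc : c ^ q = c) :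
    ∃ t : Fˣ, (t : F) ^ (q + 1) = c := by
  classical
  have hq := (CfsgLib.UnitaryBasic.frob_exists hF).1
  set R := (powMonoidHom (q + 1) : Fˣ →* Fˣ).range with hR
  set K := (powMonoidHom (q - 1) : Fˣ →* Fˣ).ker with hK
  have hle : R ≤ K := by
    rintro _ ⟨u, rfl⟩
    show (u ^ (q + 1)) ^ (q - 1) = 1
    rw [← pow_mul, ← card_sub_one hF]
    exact pow_card_eq_one'
  have hcard : Nat.card K ≤ Nat.card R := by
    rw [hR, hK, IsCyclic.card_powMonoidHom_range, IsCyclic.card_powMonoidHom_ker, card_sub_one hF,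
      Nat.gcd_eq_right (dvd_mul_left _ _), Nat.gcd_eq_right (dvd_mul_right _ _),
      Nat.mul_div_cancel_left _ (by omega)]
  have h := Subgroup.eq_of_le_of_card_ge hle hcard
  have hm : Units.mk0 c hc0 ∈ K := by
    show Units.mk0 c hc0 ^ (q - 1) = 1
    refine Units.ext ?_
    rw [Units.val_pow_eq_pow_val, Units.val_mk0, Units.val_one]
    refine mul_right_cancel₀ hc0 ?_
    rw [← pow_succ, Nat.sub_add_cancel hq.le, hc, one_mul]
  rw [← h] at hm
  obtain ⟨t, ht⟩ := hm
  exact ⟨t, by simpa using congrArg Units.val ht⟩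

/-- Norm fibres have size `q + 1`. -/
theorem card_fibre (hF : Fintype.card F = q ^ 2) {c : F} (hc0 : c ≠ 0) (hc : c ^ q = c) :
    Nat.card {x : F // x ^ (q + 1) = c} = q + 1 := by
  classical
  obtain ⟨t, ht⟩ := exists_norm hF hc0 hc
  let e : (powMonoidHom (q + 1) : Fˣ →* Fˣ).ker ≃ {x : F // x ^ (q + 1) = c} :=
    { toFun := fun u => ⟨(t : F) * (u.1 : F), by
        have hu : u.1 ^ (q + 1) = 1 := u.2
        rw [mul_pow, ht, ← Units.val_pow_eq_pow_val, hu, Units.val_one, mul_one]⟩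
      invFun := fun x => ⟨t⁻¹ * Units.mk0 x.1 (fun h => hc0 (by rw [← x.2, h, zero_pow (by omega)])), by
        rw [MonoidHom.mem_ker, powMonoidHom_apply]
        refine Units.ext ?_
        rw [Units.val_pow_eq_pow_val, Units.val_mul, Units.val_mk0, mul_pow, x.2,
          Units.val_inv_eq_inv_val, inv_pow, ht, inv_mul_cancel₀ hc0, Units.val_one]⟩
      left_inv := fun u => by apply Subtype.ext; apply Units.ext; simp
      right_inv := fun x => by apply Subtype.ext; simp }
  rw [← Nat.card_congr e, IsCyclic.card_powMonoidHom_ker, card_sub_one hF,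
    Nat.gcd_eq_right (dvd_mul_right _ _)]

/-- Number of isotropic vectors. -/
noncomputable abbrev A0 (F : Type*) [Field F] (q n : ℕ) : ℕ :=
  Nat.card {v : Fin n → F // Cfsg.hermForm n F q v v = 0}

/-- Number of vectors of norm one. -/
noncomputable abbrev A1 (F : Type*) [Field F] (q n : ℕ) : ℕ :=
  Nat.card {v : Fin n → F // Cfsg.hermForm n F q v v = 1}

theorem sum_if {W : Type*} [Fintype W] (p : W → Prop) [DecidablePred p] (a b : ℤ) :
    ∑ w, (if p w then a else b) =
      (Nat.card {w // p w} : ℤ) * a + ((Fintype.card W : ℤ) - Nat.card {w // p w}) * b := by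
  classical
  rw [Finset.sum_ite, Finset.sum_const, Finset.sum_const, Nat.card_eq_fintype_card,
    Fintype.card_subtype]
  have := Finset.card_filter_add_card_filter_not (s := (Finset.univ : Finset W)) (p := p)
  rw [Finset.card_univ] at this
  have hz : ((Finset.univ.filter p).card : ℤ) + ((Finset.univ.filter fun w => ¬ p w).card : ℤ) =
      Fintype.card W := by exact_mod_cast this
  rw [nsmul_eq_mul, nsmul_eq_mul]
  linear_combination b * hz

theorem A0_step (hF : Fintype.card F = q ^ 2) (n : ℕ) :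
    (A0 F q (n + 1) : ℤ) = A0 F q n + ((q : ℤ) ^ (2 * n) - A0 F q n) * (q + 1) := by
  classical
  have e : {v : Fin (n + 1) → F // Cfsg.hermForm (n + 1) F q v v = 0} ≃
      Σ w : Fin n → F, {x : F // x ^ (q + 1) = -Cfsg.hermForm n F q w w} :=
    { toFun := fun v => ⟨Fin.tail v.1, ⟨v.1 0, eq_neg_of_add_eq_zero_left (by
        have h := v.2
        rw [Cfsg.hermForm, Fin.sum_univ_succ] at h
        rw [pow_succ']
        exact h)⟩⟩
      invFun := fun p => ⟨Fin.cons p.2.1 p.1, by
        rw [Cfsg.hermForm, Fin.sum_univ_succ]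
        simp only [Fin.cons_zero, Fin.cons_succ]
        rw [← pow_succ', p.2.2]
        exact neg_add_cancel _⟩
      left_inv := fun v => Subtype.ext (Fin.cons_self_tail v.1)
      right_inv := fun p => by refine Sigma.subtype_ext ?_ ?_ <;> simp }
  rw [A0, Nat.card_congr e, Nat.card_sigma, Nat.cast_sum]
  have : ∀ w : Fin n → F, (Nat.card {x : F // x ^ (q + 1) = -Cfsg.hermForm n F q w w} : ℤ) =
      if Cfsg.hermForm n F q w w = 0 then 1 else (q : ℤ) + 1 := by
    intro w
    split_ifs with h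
    · rw [Nat.cast_eq_one, Nat.card_eq_one_iff_unique]
      refine ⟨⟨fun x y => Subtype.ext ?_⟩, ⟨⟨0, by simp [h]⟩⟩⟩
      have hx : (x : F) ^ (q + 1) = 0 := x.2.trans (by rw [h, neg_zero])
      have hy : (y : F) ^ (q + 1) = 0 := y.2.trans (by rw [h, neg_zero])
      rw [pow_eq_zero_iff (by omega)] at hx hy
      rw [hx, hy]
    · rw [card_fibre hF (neg_ne_zero.mpr h)]
      · push_cast; rfl
      · obtain ⟨-, σ, hσ⟩ := CfsgLib.UnitaryBasic.frob_exists hF
        rw [← hσ, map_neg, hσ, herm_fixed hF]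
  simp only [this]
  rw [sum_if, Fintype.card_fun, Fintype.card_fin, hF]
  push_cast
  ring

theorem A1_rel (hF : Fintype.card F = q ^ 2) (n : ℕ) :
    ((q : ℤ) ^ 2 - 1) * A1 F q n = ((q : ℤ) ^ (2 * n) - A0 F q n) * (q + 1) := by
  classical
  have hscale : ∀ (t : F) (v : Fin n → F),
      Cfsg.hermForm n F q (t • v) (t • v) = t ^ (q + 1) * Cfsg.hermForm n F q v v := by
    intro t v
    simp only [Cfsg.hermForm, Finset.mul_sum, Pi.smul_apply, smul_eq_mul]
    exact Finset.sum_congr rfl fun i _ => by ring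
  have e : Fˣ × {v : Fin n → F // Cfsg.hermForm n F q v v = 1} ≃
      Σ w : {w : Fin n → F // Cfsg.hermForm n F q w w ≠ 0},
        {x : F // x ^ (q + 1) = Cfsg.hermForm n F q w.1 w.1} :=
    { toFun := fun p => ⟨⟨(p.1 : F) • p.2.1, by
          rw [hscale, p.2.2, mul_one]; exact pow_ne_zero _ p.1.ne_zero⟩,
        ⟨p.1, by rw [hscale, p.2.2, mul_one]⟩⟩
      invFun := fun p =>
        (Units.mk0 p.2.1 (fun h => p.1.2 (by rw [← p.2.2, h, zero_pow (by omega)])),
          ⟨p.2.1⁻¹ • p.1.1, by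
            rw [hscale, inv_pow, p.2.2, inv_mul_cancel₀ p.1.2]⟩)
      left_inv := fun p => by
        obtain ⟨t, v, hv⟩ := p
        refine Prod.ext (Units.ext rfl) (Subtype.ext ?_)
        simp [smul_smul]
      right_inv := fun p => by
        obtain ⟨⟨w, hw⟩, x, hx⟩ := p
        have hx0 : x ≠ 0 := fun h => hw (by rw [← hx, h, zero_pow (by omega)])
        have hwx : x • x⁻¹ • w = w := by rw [smul_smul, mul_inv_cancel₀ hx0, one_smul]
        refine Sigma.subtype_ext (Subtype.ext ?_) rfl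
        simpa using hwx }
  have h := congrArg (fun k : ℕ => (k : ℤ)) (Nat.card_congr e)
  simp only [Nat.card_prod, Nat.card_sigma, Nat.cast_mul, Nat.cast_sum] at h
  have hc : ∀ w : {w : Fin n → F // Cfsg.hermForm n F q w w ≠ 0},
      (Nat.card {x : F // x ^ (q + 1) = Cfsg.hermForm n F q w.1 w.1} : ℤ) = (q : ℤ) + 1 := fun w => by
    rw [card_fibre hF w.2 (herm_fixed hF _)]; push_cast; rfl
  simp only [hc, Finset.sum_const, nsmul_eq_mul, Finset.card_univ, Fintype.card_subtype_compl,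
    Fintype.card_fun, Fintype.card_fin, hF] at h
  have hq := (CfsgLib.UnitaryBasic.frob_exists hF).1
  have hu : (Nat.card Fˣ : ℤ) = (q : ℤ) ^ 2 - 1 := by
    rw [pow_sub_one_mul hF]
    push_cast [Nat.cast_sub hq.le]
    ring
  rw [hu] at h
  refine h.trans ?_
  rw [Nat.cast_sub ((Fintype.card_subtype_le _).trans (le_of_eq (by rw [Fintype.card_fun, Fintype.card_fin, hF]))),
    A0, Nat.card_eq_fintype_card]
  push_cast
  rw [← pow_mul]

theorem q_mul_A0 (hF : Fintype.card F = q ^ 2) (n : ℕ) :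
    (q : ℤ) * A0 F q n = (q : ℤ) ^ (2 * n) + (-(q : ℤ)) ^ n * ((q : ℤ) - 1) := by
  induction n with
  | zero =>
    have : A0 F q 0 = 1 := Nat.card_eq_one_iff_unique.mpr
      ⟨⟨fun x y => Subtype.ext (funext fun i => i.elim0)⟩, ⟨⟨0, by simp [Cfsg.hermForm]⟩⟩⟩
    rw [this]
    simp
  | succ n ih =>
    rw [A0_step hF]
    linear_combination (-(q : ℤ)) * ih

theorem q_mul_A1 (hF : Fintype.card F = q ^ 2) (n : ℕ) :
    (q : ℤ) * A1 F q n = (q : ℤ) ^ (2 * n) - (-(q : ℤ)) ^ n := by
  have hq := (CfsgLib.UnitaryBasic.frob_exists hF).1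
  have h0 : (((q : ℤ) ^ 2 - 1)) ≠ 0 := by
    have : (2 : ℤ) ≤ q := by exact_mod_cast hq
    nlinarith
  refine mul_left_cancel₀ h0 ?_
  linear_combination (q : ℤ) * A1_rel hF n - ((q : ℤ) + 1) * q_mul_A0 hF n

end CfsgLib.HermCount
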