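import Mathlib

/-!
Witt's extension theorem, for quadratic forms with non-degenerate polar form and for Hermitian forms.
-/

set_option autoImplicit false

namespace CfsgLib.WittExtension

variable {F V : Type*} [Field F] [AddCommGroup V] [Module F V]

/-- Extension of admissible partial maps, from the one-step extension property. -/
theorem extend_of_move [FiniteDimensional F V] (G : Subgroup (V ≃ₗ[F] V))
    (Adm : ∀ X : Submodule F V, (X →ₗ[F] V) → Prop)
    (hinj : ∀ X φ, Adm X φ → Function.Injective φ)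
    (hres : ∀ (X X' : Submodule F V) (h : X' ≤ X) (φ : X →ₗ[F] V), Adm X φ →
      Adm X' (φ.comp (Submodule.inclusion h)))
    (hcomp : ∀ X φ, Adm X φ → ∀ g ∈ G, Adm X ((g : V →ₗ[F] V).comp φ))
    (move : ∀ (X : Submodule F V) (φ : X →ₗ[F] V), Adm X φ → ∀ X' : Submodule F V, X' ≤ X →
      (∀ z : X, (z : V) ∈ X' → φ z = z) → ∀ x : X, (x : V) ∉ X' → φ x ∉ X' →
      ∃ g ∈ G, (∀ z ∈ X', g z = z) ∧ g (x : V) = φ x)
    (X : Submodule F V) (φ : X →ₗ[F] V) (hφ : Adm X φ) : ∃ g ∈ G, ∀ x : X, g (x : V) = φ x := by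
  obtain ⟨n, hn⟩ : ∃ n, Module.finrank F X = n := ⟨_, rfl⟩
  induction n generalizing X with
  | zero =>
    refine ⟨1, one_mem _, fun x => ?_⟩
    have : X = ⊥ := Submodule.finrank_eq_zero.mp hn
    have hx : x = 0 := Subtype.ext ((Submodule.mem_bot F).mp (this ▸ x.2))
    simp [hx]
  | succ n ih =>
    let b := Module.finBasisOfFinrankEq F X hn
    set x₀ : X := b 0
    let X' : Submodule F V :=
      (Submodule.span F (Set.range fun i : Fin n => b i.succ)).map X.subtype
    have hle : X' ≤ X := Submodule.map_subtype_le _ _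
    have hX' : Module.finrank F X' = n := by
      rw [Submodule.finrank_map_subtype_eq, finrank_span_eq_card (b := fun i : Fin n => b i.succ)
        (b.linearIndependent.comp _ (Fin.succ_injective _)), Fintype.card_fin]
    have hx0 : (x₀ : V) ∉ X' := by
      intro h
      obtain ⟨w, hw, hwe⟩ := Submodule.mem_map.mp h
      have : w = x₀ := Subtype.ext hwe
      subst this
      rw [show (Set.range fun i : Fin n => b i.succ) = b '' Set.range Fin.succ by
        rw [← Set.range_comp]; rfl] at hw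
      exact b.linearIndependent.notMem_span_image (by simp [Fin.succ_ne_zero]) hw
    obtain ⟨g, hg, hgX⟩ := ih X' _ (hres X X' hle φ hφ) hX'
    set ψ : X →ₗ[F] V := ((g⁻¹ : V ≃ₗ[F] V) : V →ₗ[F] V).comp φ
    have hψ : Adm X ψ := hcomp X φ hφ _ (inv_mem hg)
    have hfix : ∀ z : X, (z : V) ∈ X' → ψ z = z := fun z hz => by
      have h := hgX ⟨z, hz⟩
      show g.symm (φ z) = z
      rw [LinearEquiv.symm_apply_eq, h]
      rfl
    have hψ0 : ψ x₀ ∉ X' := fun h => by
      have := hinj X ψ hψ (hfix ⟨ψ x₀, hle h⟩ h)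
      exact hx0 ((congrArg Subtype.val this) ▸ h)
    obtain ⟨t, ht, htX, htx⟩ := move X ψ hψ X' hle hfix x₀ hx0 hψ0
    refine ⟨g * t, mul_mem hg ht, ?_⟩
    have : ((g * t : V ≃ₗ[F] V) : V →ₗ[F] V).comp X.subtype = φ := by
      refine b.ext fun i => ?_
      refine Fin.cases ?_ (fun i => ?_) i
      · show g (t (x₀ : V)) = φ x₀
        rw [htx]
        exact g.apply_symm_apply _
      · have hm : (b i.succ : V) ∈ X' :=
          Submodule.mem_map_of_mem (Submodule.subset_span ⟨i, rfl⟩)
        show g (t (b i.succ : V)) = φ (b i.succ)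
        rw [htX _ hm, hgX ⟨_, hm⟩]
        rfl
    exact fun x => LinearMap.congr_fun this x

/-- The isometries of a quadratic form. -/
def quadIso (Q : QuadraticForm F V) : Subgroup (V ≃ₗ[F] V) where
  carrier := {g | ∀ v, Q (g v) = Q v}
  mul_mem' {a b} ha hb v := by show Q (a (b v)) = _; rw [ha, hb]
  one_mem' v := rfl
  inv_mem' {a} ha v := by rw [← ha (a⁻¹ v)]; exact congrArg Q (a.apply_symm_apply v)

theorem mem_of_annihilator [FiniteDimensional F V] {σ : F →+* F} (B : V →ₛₗ[σ] V →ₗ[F] F)
    (hsurj : Function.Surjective B) (hrefl : ∀ u v, B u v = 0 → B v u = 0)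
    (S : Submodule F V) (x : V) (h : ∀ w, (∀ s ∈ S, B w s = 0) → B w x = 0) : x ∈ S := by
  by_contra hx
  obtain ⟨f, hfx, hf⟩ := Submodule.exists_dual_map_eq_bot_of_notMem hx inferInstance
  obtain ⟨w, hw⟩ := hsurj f
  refine hfx ?_
  rw [← hw]
  refine h w fun s hs => ?_
  have := Submodule.mem_map_of_mem (f := f) hs
  rw [hf, Submodule.mem_bot] at this
  rw [hw, this]

open QuadraticMap in
theorem quad_move [FiniteDimensional F V] (Q : QuadraticForm F V)
    (hQ : (polarBilin Q).Nondegenerate) (X : Submodule F V) {x y : V} (hx : x ∉ X) (hy : y ∉ X)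
    (hq : Q x = Q y) (hxy : ∀ z ∈ X, polar Q z x = polar Q z y) :
    ∃ g ∈ quadIso Q, (∀ z ∈ X, g z = z) ∧ g x = y := by
  set B := polarBilin Q with hB
  have hcomm : ∀ u v, B u v = B v u := fun u v => polar_comm Q u v
  have hBB : ∀ u, B u u = 2 * Q u := fun u => by
    show polar Q u u = _
    rw [polar_self, two_nsmul, two_mul]
  have hadd : ∀ u v, Q (u + v) = Q u + Q v + B u v := fun u v => QuadraticMap.map_add Q u v
  have hsmul : ∀ (c : F) u, Q (c • u) = c * c * Q u := fun c u => by
    rw [QuadraticMap.map_smul, smul_eq_mul]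
  have hsurj : Function.Surjective B :=
    (LinearMap.injective_iff_surjective_of_finrank_eq_finrank
      Subspace.dual_finrank_eq.symm).mp
      (LinearMap.ker_eq_bot.mp (LinearMap.separatingLeft_iff_ker_eq_bot.mp hQ.1))
  obtain ⟨d, rfl⟩ : ∃ d, y = x + d := ⟨y - x, by abel⟩
  have hdX : ∀ z ∈ X, B z d = 0 := fun z hz => by
    have h : B z x = B z (x + d) := hxy z hz
    rw [map_add] at h
    linear_combination -h
  have hd : Q d + B x d = 0 := by
    have := hadd x d
    linear_combination -hq - this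
  by_cases hd0 : d = 0
  · exact ⟨1, one_mem _, fun _ _ => rfl, by rw [hd0, add_zero]; rfl⟩
  by_cases hQd : Q d ≠ 0
  · -- reflection
    let f : V →ₗ[F] V := LinearMap.id - (Q d)⁻¹ • (B d).smulRight d
    have hf : ∀ u, f u = u + (-((Q d)⁻¹ * B d u)) • d := fun u => by
      simp [f, mul_smul, sub_eq_add_neg]
    have hff : f ∘ₗ f = LinearMap.id := by
      ext u
      simp only [LinearMap.comp_apply, hf, map_add, map_smul, hBB, smul_eq_mul, LinearMap.id_coe,
        id_eq]
      match_scalars <;> field_simp <;> ring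
    refine ⟨LinearEquiv.ofLinearMap f f hff hff, fun v => ?_, fun z hz => ?_, ?_⟩
    · show Q (f v) = Q v
      rw [hf, hadd, hsmul, map_smul, smul_eq_mul, hcomm v d]
      field_simp
      ring
    · show f z = z
      simp [hf, hcomm d z, hdX z hz]
    · show f x = x + d
      rw [hf, hcomm d x, eq_neg_of_add_eq_zero_right hd]
      simp [hQd]
  push Not at hQd
  have hxd : B x d = 0 := by simpa [hQd] using hd
  have hdd : B d d = 0 := by rw [hBB, hQd, mul_zero]
  by_cases hex : ∃ w, (∀ s ∈ X ⊔ F ∙ d, B w s = 0) ∧ B w x ≠ 0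
  · -- Siegel transformation
    obtain ⟨w₀, hw₀, hw₀x⟩ := hex
    set w := (-(B w₀ x)⁻¹) • w₀ with hw
    have hwX : ∀ z ∈ X, B w z = 0 := fun z hz => by
      simp [hw, hw₀ z (Submodule.mem_sup_left hz)]
    have hwd : B w d = 0 := by
      simp [hw, hw₀ d (Submodule.mem_sup_right (Submodule.mem_span_singleton_self d))]
    have hwx : B w x = -1 := by simp [hw, hw₀x]
    clear_value w
    let f : V →ₗ[F] V :=
      LinearMap.id + (B d).smulRight w - (B w).smulRight d - Q w • (B d).smulRight d
    have hf : ∀ u, f u = u + (B d u • w + (-(B w u) - Q w * B d u) • d) := fun u => by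
      simp only [f, LinearMap.sub_apply, LinearMap.add_apply, LinearMap.id_coe, id_eq,
        LinearMap.smulRight_apply, LinearMap.smul_apply]
      match_scalars <;> ring
    have hinv : ∀ v, Q (f v) = Q v := fun v => by
      rw [hf, hadd, hadd, hsmul, hsmul, hQd]
      simp only [map_add, map_smul, LinearMap.smul_apply, LinearMap.add_apply, smul_eq_mul]
      rw [hcomm v w, hcomm v d, hwd]
      ring
    have hinj : Function.Injective f := by
      rw [injective_iff_map_eq_zero]
      intro u hu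
      refine hQ.1 u fun v => ?_
      have h : polar Q (f u) (f v) = polar Q u v := by
        simp only [polar, ← _root_.map_add, hinv]
      show polar Q u v = 0
      rw [← h, hu, polar_zero_left]
    refine ⟨LinearEquiv.ofInjectiveEndo f hinj, hinv, fun z hz => ?_, ?_⟩
    · show f z = z
      simp [hf, hwX z hz, hcomm d z, hdX z hz]
    · show f x = x + d
      simp [hf, hcomm d x, hxd, hwx]
  · -- scaling of a hyperbolic pair
    push Not at hex
    have hxS := mem_of_annihilator B hsurj (fun u v h => by rw [hcomm, h]) _ x hex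
    obtain ⟨z₀, hz₀, b, hb, rfl⟩ := Submodule.mem_sup.mp hxS
    obtain ⟨c, rfl⟩ := Submodule.mem_span_singleton.mp hb
    have hc : c ≠ 0 := fun h => hx (by simpa [h] using hz₀)
    have hc1 : c + 1 ≠ 0 := fun h => hy (by
      have : z₀ + c • d + d = z₀ := by
        rw [add_assoc, show c • d + d = (c + 1) • d by rw [add_smul, one_smul], h, zero_smul,
          add_zero]
      simpa [this] using hz₀)
    have hdnot : d ∉ X := fun h => hx (X.add_mem hz₀ (X.smul_mem c h))
    obtain ⟨f₀, hf₀, hf₀d⟩ : ∃ f₀, (∀ s ∈ X, B f₀ s = 0) ∧ B f₀ d ≠ 0 := by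
      by_contra h
      push Not at h
      exact hdnot (mem_of_annihilator B hsurj (fun u v h => by rw [hcomm, h]) _ d h)
    set e := (B f₀ d)⁻¹ • f₀ with he
    have hed : B e d = 1 := by simp [he, hf₀d]
    have heX : ∀ z ∈ X, B e z = 0 := fun z hz => by simp [he, hf₀ z hz]
    clear_value e
    set p := e + (-(Q e)) • d with hp
    have hpd : B p d = 1 := by simp [hp, hed, hdd]
    have hdp : B d p = 1 := by rw [hcomm, hpd]
    have hQp : Q p = 0 := by
      rw [hp, hadd, hsmul, hQd, map_smul, smul_eq_mul, hed]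
      ring
    have hpX : ∀ z ∈ X, B p z = 0 := fun z hz => by
      simp [hp, heX z hz, hcomm d z, hdX z hz]
    clear_value p
    set l := (c + 1) / c with hl
    have hl0 : l ≠ 0 := div_ne_zero hc1 hc
    let f : V →ₗ[F] V := LinearMap.id + (l - 1) • (B p).smulRight d + (l⁻¹ - 1) • (B d).smulRight p
    have hf : ∀ u, f u = u + (((l - 1) * B p u) • d + ((l⁻¹ - 1) * B d u) • p) := fun u => by
      simp [f, mul_smul, add_assoc]
    have hinv : ∀ v, Q (f v) = Q v := fun v => by
      rw [hf, hadd, hadd, hsmul, hsmul, hQd, hQp]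
      simp only [map_add, map_smul, LinearMap.smul_apply, LinearMap.add_apply, smul_eq_mul]
      rw [hcomm v p, hcomm v d, hdp]
      field_simp
      ring
    have hinj : Function.Injective f := by
      rw [injective_iff_map_eq_zero]
      intro u hu
      refine hQ.1 u fun v => ?_
      have h : polar Q (f u) (f v) = polar Q u v := by
        simp only [polar, ← _root_.map_add, hinv]
      show polar Q u v = 0
      rw [← h, hu, polar_zero_left]
    refine ⟨LinearEquiv.ofInjectiveEndo f hinj, hinv, fun z hz => ?_, ?_⟩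
    · show f z = z
      simp [hf, hpX z hz, hcomm d z, hdX z hz]
    · show f (z₀ + c • d) = z₀ + c • d + d
      rw [hf, map_add, map_add, map_smul, map_smul, hpd, hdd, hpX z₀ hz₀, hcomm d z₀, hdX z₀ hz₀,
        hl]
      simp only [smul_eq_mul]
      match_scalars <;> field_simp <;> ring

/-- Witt's theorem for quadratic forms. -/
theorem quad_extend [FiniteDimensional F V] (Q : QuadraticForm F V)
    (hQ : (QuadraticMap.polarBilin Q).Nondegenerate) (X : Submodule F V) (φ : X →ₗ[F] V)
    (hinj : Function.Injective φ) (hφ : ∀ x : X, Q (φ x) = Q (x : V)) :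
    ∃ g : V ≃ₗ[F] V, (∀ v, Q (g v) = Q v) ∧ ∀ x : X, g (x : V) = φ x := by
  refine extend_of_move (quadIso Q)
    (fun X φ => Function.Injective φ ∧ ∀ x : X, Q (φ x) = Q (x : V)) (fun _ _ h => h.1)
    (fun X X' h φ hφ => ⟨hφ.1.comp (Submodule.inclusion_injective h), fun x => hφ.2 _⟩)
    (fun X φ hφ g hg => ⟨g.injective.comp hφ.1, fun x => by
      show Q (g (φ x)) = _; rw [hg, hφ.2]⟩) ?_ X φ ⟨hinj, hφ⟩
  intro X φ hφ X' hle hfix x hx hy
  refine quad_move Q hQ X' hx hy (hφ.2 x).symm fun z hz => ?_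
  have h := hφ.2 (⟨z, hle hz⟩ + x)
  simp only [map_add, hfix ⟨z, hle hz⟩ hz, Submodule.coe_add] at h
  simp only [QuadraticMap.polar, h, hφ.2 x]

/-- The isometries of a sesquilinear form. -/
def sesqIso {σ : F →+* F} (B : V →ₛₗ[σ] V →ₗ[F] F) : Subgroup (V ≃ₗ[F] V) where
  carrier := {g | ∀ u v, B (g u) (g v) = B u v}
  mul_mem' {a b} ha hb u v := by show B (a (b u)) (a (b v)) = _; rw [ha, hb]
  one_mem' u v := rfl
  inv_mem' {a} ha u v := by
    rw [← ha (a⁻¹ u) (a⁻¹ v)]
    exact congrArg₂ (fun s t => B s t) (a.apply_symm_apply u) (a.apply_symm_apply v)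

variable {σ : F →+* F}

theorem exists_trace (hσ : σ ≠ RingHom.id F) (hσ2 : ∀ a : F, σ (σ a) = a) {c : F} (hc : σ c = c) :
    ∃ k : F, σ k + k = c := by
  obtain ⟨a, ha⟩ : ∃ a : F, σ a + a ≠ 0 := by
    by_contra h
    push Not at h
    refine hσ (RingHom.ext fun a => ?_)
    have h1 := h 1
    rw [map_one] at h1
    show σ a = a
    linear_combination h a - a * h1
  refine ⟨c * a / (σ a + a), ?_⟩
  rw [map_div₀, map_mul, map_add, hσ2, hc, add_comm a (σ a)]
  field_simp

theorem sesq_move [Finite F] [FiniteDimensional F V] (hσ : σ ≠ RingHom.id F)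
    (hσ2 : ∀ a : F, σ (σ a) = a) (B : V →ₛₗ[σ] V →ₗ[F] F) (hS : B.IsSymm) (hB : B.Nondegenerate)
    (X : Submodule F V) {x y : V} (hx : x ∉ X) (hy : y ∉ X) (hq : B x x = B y y)
    (hxy : ∀ z ∈ X, B z x = B z y) : ∃ g ∈ sesqIso B, (∀ z ∈ X, g z = z) ∧ g x = y := by
  have hsym : ∀ u v, σ (B u v) = B v u := hS.eq
  have hrefl : ∀ u v, B u v = 0 → B v u = 0 := fun u v h => by rw [← hsym, h, map_zero]
  haveI := Module.finite_of_finite F (M := V)
  have hsurj : Function.Surjective B := by
    haveI := Fintype.ofFinite V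
    haveI : Finite (V →ₗ[F] F) := Module.finite_of_finite F
    haveI := Fintype.ofFinite (V →ₗ[F] F)
    refine ((Fintype.bijective_iff_injective_and_card B).mpr ⟨?_, ?_⟩).2
    · rw [injective_iff_map_eq_zero]
      exact fun u hu => hB.1 u fun v => by rw [hu]; rfl
    · exact Fintype.card_congr (Module.finBasis F V).toDualEquiv.toEquiv
  have inj_of : ∀ f : V →ₗ[F] V, (∀ u v, B (f u) (f v) = B u v) → Function.Injective f :=
    fun f hf => by
      rw [injective_iff_map_eq_zero]
      intro u hu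
      exact hB.1 u fun v => by rw [← hf, hu, map_zero]; rfl
  obtain ⟨d, rfl⟩ : ∃ d, y = x + d := ⟨y - x, by abel⟩
  have hdX : ∀ z ∈ X, B z d = 0 := fun z hz => by
    have h := hxy z hz
    rw [map_add] at h
    linear_combination -h
  have hdX' : ∀ z ∈ X, B d z = 0 := fun z hz => hrefl _ _ (hdX z hz)
  have hd : B x d + B d x + B d d = 0 := by
    simp only [map_add, LinearMap.add_apply] at hq
    linear_combination -hq
  by_cases hd0 : d = 0
  · exact ⟨1, one_mem _, fun _ _ => rfl, by rw [hd0, add_zero]; rfl⟩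
  by_cases hdx : B d x ≠ 0
  · set c := (B d x)⁻¹ with hc
    have hxd' : B x d ≠ 0 := fun h => hdx (hrefl _ _ h)
    have hσc : σ c = (B x d)⁻¹ := by rw [hc, map_inv₀, hsym]
    let f : V →ₗ[F] V := LinearMap.id + c • (B d).smulRight d
    have hf : ∀ u, f u = u + (c * B d u) • d := fun u => by simp [f, mul_smul]
    have hinv : ∀ u v, B (f u) (f v) = B u v := fun u v => by
      simp only [hf, map_add, LinearMap.map_smulₛₗ, LinearMap.add_apply, LinearMap.smul_apply,
        smul_eq_mul, RingHom.id_apply, map_mul, hsym, hσc]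
      rw [hc]
      field_simp
      linear_combination (B u d * B d v) * hd
    refine ⟨LinearEquiv.ofInjectiveEndo f (inj_of f hinv), hinv, fun z hz => ?_, ?_⟩
    · show f z = z
      simp [hf, hdX' z hz]
    · show f x = x + d
      simp [hf, hc, hdx]
  push Not at hdx
  have hxd : B x d = 0 := hrefl _ _ hdx
  have hdd : B d d = 0 := by rw [hxd, hdx] at hd; simpa using hd
  by_cases hex : ∃ w, (∀ s ∈ X ⊔ F ∙ d, B w s = 0) ∧ B w x ≠ 0
  · obtain ⟨w₀, hw₀, hw₀x⟩ := hex
    set w := σ (-(B w₀ x)⁻¹) • w₀ with hw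
    have hwX : ∀ z ∈ X, B w z = 0 := fun z hz => by
      simp [hw, hw₀ z (Submodule.mem_sup_left hz)]
    have hwd : B w d = 0 := by
      simp [hw, hw₀ d (Submodule.mem_sup_right (Submodule.mem_span_singleton_self d))]
    have hwx : B w x = -1 := by simp [hw, hσ2, hw₀x]
    have hdw : B d w = 0 := hrefl _ _ hwd
    clear_value w
    obtain ⟨k, hk⟩ := exists_trace hσ hσ2 (c := -(B w w)) (by rw [map_neg, hsym])
    let f : V →ₗ[F] V :=
      LinearMap.id + (B d).smulRight w - (B w).smulRight d + k • (B d).smulRight d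
    have hf : ∀ u, f u = u + (B d u • w + (-(B w u) + k * B d u) • d) := fun u => by
      simp only [f, LinearMap.sub_apply, LinearMap.add_apply, LinearMap.id_coe, id_eq,
        LinearMap.smulRight_apply, LinearMap.smul_apply]
      match_scalars <;> ring
    have hinv : ∀ u v, B (f u) (f v) = B u v := fun u v => by
      simp only [hf, map_add, LinearMap.map_smulₛₗ, LinearMap.add_apply, LinearMap.smul_apply,
        smul_eq_mul, RingHom.id_apply, map_mul, map_neg, hsym, hdd, hwd, hdw]
      linear_combination (B u d * B d v) * hk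
    refine ⟨LinearEquiv.ofInjectiveEndo f (inj_of f hinv), hinv, fun z hz => ?_, ?_⟩
    · show f z = z
      simp [hf, hwX z hz, hdX' z hz]
    · show f x = x + d
      simp [hf, hdx, hwx]
  · push Not at hex
    have hxS := mem_of_annihilator B hsurj hrefl _ x hex
    obtain ⟨z₀, hz₀, b, hb, rfl⟩ := Submodule.mem_sup.mp hxS
    obtain ⟨c, rfl⟩ := Submodule.mem_span_singleton.mp hb
    have hc : c ≠ 0 := fun h => hx (by simpa [h] using hz₀)
    have hc1 : c + 1 ≠ 0 := fun h => hy (by
      have : z₀ + c • d + d = z₀ := by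
        rw [add_assoc, show c • d + d = (c + 1) • d by rw [add_smul, one_smul], h, zero_smul,
          add_zero]
      simpa [this] using hz₀)
    have hdnot : d ∉ X := fun h => hx (X.add_mem hz₀ (X.smul_mem c h))
    obtain ⟨f₀, hf₀, hf₀d⟩ : ∃ f₀, (∀ s ∈ X, B f₀ s = 0) ∧ B f₀ d ≠ 0 := by
      by_contra h
      push Not at h
      exact hdnot (mem_of_annihilator B hsurj hrefl _ d h)
    set e := σ ((B f₀ d)⁻¹) • f₀ with he
    have hed : B e d = 1 := by simp [he, hσ2, hf₀d]
    have hde : B d e = 1 := by rw [← hsym, hed, map_one]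
    obtain ⟨k, hk⟩ := exists_trace hσ hσ2 (c := -(B e e)) (by rw [map_neg, hsym])
    set p := e + k • d with hp
    have hpd : B p d = 1 := by simp [hp, hed, hdd]
    have hdp : B d p = 1 := by rw [← hsym, hpd, map_one]
    have hpp : B p p = 0 := by
      simp only [hp, map_add, LinearMap.map_smulₛₗ, LinearMap.add_apply, LinearMap.smul_apply,
        smul_eq_mul, RingHom.id_apply, hed, hde, hdd]
      linear_combination hk
    have hpX : ∀ z ∈ X, B p z = 0 := fun z hz => by simp [hp, he, hf₀ z hz, hdX' z hz]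
    clear_value p
    set l := (c + 1) / c with hl
    have hl0 : l ≠ 0 := div_ne_zero hc1 hc
    have hsl0 : σ l ≠ 0 := by simpa using hl0
    let f : V →ₗ[F] V :=
      LinearMap.id + (l - 1) • (B p).smulRight d + ((σ l)⁻¹ - 1) • (B d).smulRight p
    have hf : ∀ u, f u = u + (((l - 1) * B p u) • d + (((σ l)⁻¹ - 1) * B d u) • p) := fun u => by
      simp [f, mul_smul, add_assoc]
    have hinv : ∀ u v, B (f u) (f v) = B u v := fun u v => by
      simp only [hf, map_add, LinearMap.map_smulₛₗ, LinearMap.add_apply, LinearMap.smul_apply,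
        smul_eq_mul, RingHom.id_apply, map_mul, map_sub, map_inv₀, map_one, hσ2, hsym, hdd, hpp,
        hpd, hdp]
      field_simp
      ring
    refine ⟨LinearEquiv.ofInjectiveEndo f (inj_of f hinv), hinv, fun z hz => ?_, ?_⟩
    · show f z = z
      simp [hf, hpX z hz, hdX' z hz]
    · show f (z₀ + c • d) = z₀ + c • d + d
      rw [hf, map_add, map_add, map_smul, map_smul, hpd, hdd, hpX z₀ hz₀, hdX' z₀ hz₀, hl]
      simp only [smul_eq_mul]
      match_scalars <;> field_simp <;> ring

/-- Witt's theorem for Hermitian forms over finite fields. -/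
theorem sesq_extend [Finite F] [FiniteDimensional F V] (hσ : σ ≠ RingHom.id F)
    (hσ2 : ∀ a : F, σ (σ a) = a) (B : V →ₛₗ[σ] V →ₗ[F] F) (hS : B.IsSymm) (hB : B.Nondegenerate)
    (X : Submodule F V) (φ : X →ₗ[F] V) (hinj : Function.Injective φ)
    (hφ : ∀ x x' : X, B (φ x) (φ x') = B (x : V) (x' : V)) :
    ∃ g : V ≃ₗ[F] V, (∀ u v, B (g u) (g v) = B u v) ∧ ∀ x : X, g (x : V) = φ x := by
  refine extend_of_move (sesqIso B)
    (fun X φ => Function.Injective φ ∧ ∀ x x' : X, B (φ x) (φ x') = B (x : V) (x' : V))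
    (fun _ _ h => h.1)
    (fun X X' h φ hφ => ⟨hφ.1.comp (Submodule.inclusion_injective h), fun x x' => hφ.2 _ _⟩)
    (fun X φ hφ g hg => ⟨g.injective.comp hφ.1, fun x x' => by
      show B (g (φ x)) (g (φ x')) = _; rw [hg, hφ.2]⟩) ?_ X φ ⟨hinj, hφ⟩
  intro X φ hφ X' hle hfix x hx hy
  refine sesq_move hσ hσ2 B hS hB X' hx hy (hφ.2 x x).symm fun z hz => ?_
  have h := hφ.2 ⟨z, hle hz⟩ x
  rw [hfix ⟨z, hle hz⟩ hz] at h
  exact h.symm

end CfsgLib.WittExtension
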