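import Mathlib
import Cfsg.Agent.Lib.UnitaryBasic
import Cfsg.Agent.Lib.HermCount
import Cfsg.Agent.Lib.WittExtension

/-! Transitivity of `GU` on vectors of norm one and the orders of `GU`, `SU`. -/

set_option autoImplicit false

namespace CfsgLib.UnitaryOrder

open Matrix

variable {F : Type*} [Field F] [Fintype F] {q n : ℕ}

theorem herm_swap (hF : Fintype.card F = q ^ 2) (u v : Fin n → F) :
    Cfsg.hermForm n F q u v ^ q = Cfsg.hermForm n F q v u := by
  obtain ⟨-, σ, hσ⟩ := CfsgLib.UnitaryBasic.frob_exists hF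
  rw [← hσ, Cfsg.hermForm, map_sum]
  refine Finset.sum_congr rfl fun i _ => ?_
  rw [hσ, mul_pow, ← pow_mul, ← sq, ← hF, FiniteField.pow_card, mul_comm]

theorem herm_single_right (hF : Fintype.card F = q ^ 2) (u : Fin n → F) (i : Fin n) :
    Cfsg.hermForm n F q u (Pi.single i 1) = u i := by
  have hq := (CfsgLib.UnitaryBasic.frob_exists hF).1
  rw [Cfsg.hermForm, Finset.sum_eq_single i]
  · simp
  · intro j _ hj
    simp [hj, zero_pow (show q ≠ 0 by omega)]
  · simp

/-- `GU` is transitive on vectors of norm one. -/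
theorem transitive (hF : Fintype.card F = q ^ 2) {u v : Fin n → F}
    (hu : Cfsg.hermForm n F q u u = 1) (hv : Cfsg.hermForm n F q v v = 1) :
    ∃ g ∈ Cfsg.GU n F q, g.1 *ᵥ u = v := by
  classical
  obtain ⟨hq, σ, hσ⟩ := CfsgLib.UnitaryBasic.frob_exists hF
  have hσid : σ ≠ RingHom.id F := fun h => by
    obtain ⟨ζ, hζ⟩ := CfsgLib.UnitaryBasic.exists_zeta hF
    have h1 : (ζ : F) ^ q = ζ := by rw [← hσ, h]; rfl
    have h2 : ζ ^ (q - 1) = 1 := by
      refine mul_right_cancel (b := ζ) ?_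
      rw [← pow_succ, Nat.sub_add_cancel hq.le, one_mul]
      exact Units.ext (by simpa using h1)
    have := Nat.le_of_dvd (by omega) (orderOf_dvd_of_pow_eq_one h2)
    omega
  have hσ2 : ∀ a, σ (σ a) = a := fun a => by
    rw [hσ, hσ, ← pow_mul, ← sq, ← hF, FiniteField.pow_card]
  let B : (Fin n → F) →ₛₗ[σ] (Fin n → F) →ₗ[F] F :=
    LinearMap.mk₂'ₛₗ σ (RingHom.id F) (fun x y => Cfsg.hermForm n F q y x)
      (fun a b c => by
        simp only [Cfsg.hermForm, ← Finset.sum_add_distrib, ← mul_add, Pi.add_apply, ← hσ, map_add])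
      (fun r a b => by
        simp only [Cfsg.hermForm, Finset.mul_sum, Pi.smul_apply, smul_eq_mul, ← hσ, map_mul]
        exact Finset.sum_congr rfl fun i _ => by ring)
      (fun a b c => by
        simp only [Cfsg.hermForm, ← Finset.sum_add_distrib, Pi.add_apply, add_mul])
      (fun r a b => by
        simp only [Cfsg.hermForm, Finset.mul_sum, Pi.smul_apply, smul_eq_mul, RingHom.id_apply,
          mul_assoc])
  have hB : ∀ x y, B x y = Cfsg.hermForm n F q y x := fun x y => rfl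
  have hS : B.IsSymm := ⟨fun x y => by rw [hB, hB, hσ, herm_swap hF]⟩
  have hleft : ∀ x, (∀ y, B x y = 0) → x = 0 := fun x hx => by
    funext i
    have h := hx (Pi.single i 1)
    rw [hB, ← herm_swap hF, herm_single_right hF, pow_eq_zero_iff (by omega)] at h
    exact h
  have hnd : B.Nondegenerate :=
    ⟨hleft, fun y hy => hleft y fun x => by rw [← hS.eq, hy x, map_zero]⟩
  have hu0 : u ≠ 0 := fun h => by simp [h, Cfsg.hermForm] at hu
  let φ : (F ∙ u) →ₗ[F] (Fin n → F) :=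
    (LinearMap.toSpanSingleton F (Fin n → F) v).comp
      (LinearEquiv.toSpanNonzeroSingleton F (Fin n → F) u hu0).symm.toLinearMap
  have hφ : ∀ x : F ∙ u, ∃ c : F, (x : Fin n → F) = c • u ∧ φ x = c • v := fun x => by
    refine ⟨(LinearEquiv.toSpanNonzeroSingleton F (Fin n → F) u hu0).symm x, ?_, rfl⟩
    conv_lhs => rw [← (LinearEquiv.toSpanNonzeroSingleton F (Fin n → F) u hu0).apply_symm_apply x]
    rfl
  have hv0 : v ≠ 0 := fun h => by simp [h, Cfsg.hermForm] at hv
  obtain ⟨g, hg, hgX⟩ := CfsgLib.WittExtension.sesq_extend hσid hσ2 B hS hnd (F ∙ u) φ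
    ((injective_iff_map_eq_zero φ).mpr fun x hx => by
      obtain ⟨c, hc, hc'⟩ := hφ x
      rw [hc', smul_eq_zero] at hx
      rcases hx with rfl | h
      · exact Subtype.ext (by simpa using hc)
      · exact absurd h hv0)
    (fun x x' => by
      obtain ⟨c, hc, hc'⟩ := hφ x
      obtain ⟨d, hd, hd'⟩ := hφ x'
      rw [hc, hd, hc', hd']
      simp [hB u u, hB v v, hu, hv])
  refine ⟨GeneralLinearGroup.mkOfDetNeZero (LinearMap.toMatrix' (g : (Fin n → F) →ₗ[F] (Fin n → F)))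
    (by rw [LinearMap.det_toMatrix']; exact g.isUnit_det'.ne_zero), fun x y => ?_, ?_⟩
  · show Cfsg.hermForm n F q (LinearMap.toMatrix' _ *ᵥ x) (LinearMap.toMatrix' _ *ᵥ y) = _
    rw [LinearMap.toMatrix'_mulVec, LinearMap.toMatrix'_mulVec]
    exact hg y x
  · show LinearMap.toMatrix' _ *ᵥ u = v
    rw [LinearMap.toMatrix'_mulVec]
    obtain ⟨c, hc, hc'⟩ := hφ ⟨u, Submodule.mem_span_singleton_self u⟩
    have hc1 : c = 1 := smul_left_injective F hu0 (by simpa using hc.symm)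
    have := hgX ⟨u, Submodule.mem_span_singleton_self u⟩
    rw [hc', hc1, one_smul] at this
    exact this

/-- Adjoining a fixed coordinate. -/
def ext1 (M : Matrix (Fin n) (Fin n) F) : Matrix (Fin (n + 1)) (Fin (n + 1)) F :=
  Matrix.of (Fin.cons (Pi.single 0 1) fun i => Fin.cons 0 (M i))

omit [Fintype F] in
theorem ext1_mulVec (M : Matrix (Fin n) (Fin n) F) (v : Fin (n + 1) → F) :
    ext1 M *ᵥ v = Fin.cons (v 0) (M *ᵥ Fin.tail v) := by
  funext i
  refine Fin.cases ?_ (fun i => ?_) i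
  · simp [ext1, mulVec]
  · simp [ext1, mulVec, dotProduct, Fin.sum_univ_succ, Fin.tail]

omit [Fintype F] in
theorem ext1_mul (M N : Matrix (Fin n) (Fin n) F) : ext1 (M * N) = ext1 M * ext1 N := by
  refine Matrix.ext_of_mulVec_single fun j => ?_
  rw [← mulVec_mulVec, ext1_mulVec, ext1_mulVec, ext1_mulVec]
  simp [Fin.tail, mulVec_mulVec]

omit [Fintype F] in
theorem ext1_one : ext1 (1 : Matrix (Fin n) (Fin n) F) = 1 := by
  refine Matrix.ext_of_mulVec_single fun j => ?_
  rw [ext1_mulVec, one_mulVec, one_mulVec]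
  exact Fin.cons_self_tail _

theorem herm_cons (a b : F) (x y : Fin n → F) :
    Cfsg.hermForm (n + 1) F q (Fin.cons a x) (Fin.cons b y) =
      a * b ^ q + Cfsg.hermForm n F q x y := by
  simp [Cfsg.hermForm, Fin.sum_univ_succ]

/-- The embedding of `GU_n` as the stabiliser of the first basis vector. -/
def embed (g : Cfsg.GU n F q) : Cfsg.GU (n + 1) F q :=
  ⟨⟨ext1 g.1.1, ext1 g.1⁻¹.1,
    by rw [← ext1_mul, show g.1.1 * g.1⁻¹.1 = 1 from congrArg Units.val (mul_inv_cancel g.1), ext1_one],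
    by rw [← ext1_mul, show g.1⁻¹.1 * g.1.1 = 1 from congrArg Units.val (inv_mul_cancel g.1), ext1_one]⟩,
    fun u v => by
      show Cfsg.hermForm (n + 1) F q (ext1 g.1.1 *ᵥ u) (ext1 g.1.1 *ᵥ v) = _
      have h : Cfsg.hermForm n F q (g.1.1 *ᵥ Fin.tail u) (g.1.1 *ᵥ Fin.tail v) =
          Cfsg.hermForm n F q (Fin.tail u) (Fin.tail v) := g.2 _ _
      rw [ext1_mulVec, ext1_mulVec, herm_cons, h, ← herm_cons, Fin.cons_self_tail,
        Fin.cons_self_tail]⟩

theorem card_step (hF : Fintype.card F = q ^ 2) :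
    Nat.card (Cfsg.GU (n + 1) F q) = HermCount.A1 F q (n + 1) * Nat.card (Cfsg.GU n F q) := by
  classical
  set e : Fin (n + 1) → F := Pi.single 0 1 with he
  have hsingle : ∀ u, Cfsg.hermForm (n + 1) F q u e = u 0 := fun u => herm_single_right hF u 0
  have hmv : ∀ (M : Matrix (Fin (n + 1)) (Fin (n + 1)) F) i, (M *ᵥ e) i = M i 0 := fun M i => by
    simp [he]
  have htail : Fin.tail e = 0 := funext fun i => by simp [he, Fin.tail]
  have he0 : e 0 = 1 := by simp [he]
  have hes : ∀ i : Fin n, e i.succ = 0 := fun i => by simp [he]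
  have he1 : Cfsg.hermForm (n + 1) F q e e = 1 := by rw [hsingle, he0]
  clear_value e
  let f : Cfsg.GU (n + 1) F q → {v : Fin (n + 1) → F // Cfsg.hermForm (n + 1) F q v v = 1} :=
    fun g => ⟨g.1.1 *ᵥ e, (g.2 e e).trans he1⟩
  have hfix : ∀ g : {g : Cfsg.GU (n + 1) F q // g.1.1 *ᵥ e = e}, ∀ u : Fin (n + 1) → F,
      (g.1.1.1 *ᵥ u) 0 = u 0 := fun g u => by
    have h : Cfsg.hermForm (n + 1) F q (g.1.1.1 *ᵥ u) (g.1.1.1 *ᵥ e) =
        Cfsg.hermForm (n + 1) F q u e := g.1.2 u e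
    rw [show g.1.1.1 *ᵥ e = e from g.2, hsingle, hsingle] at h
    exact h
  have hform : ∀ g : {g : Cfsg.GU (n + 1) F q // g.1.1 *ᵥ e = e},
      g.1.1.1 = ext1 (g.1.1.1.submatrix Fin.succ Fin.succ) := fun g => by
    ext i j
    refine Fin.cases ?_ (fun i => ?_) i
    · have := hfix g (Pi.single j 1)
      rw [mulVec_single_one] at this
      rw [show g.1.1.1 0 j = (Pi.single j (1 : F) : Fin (n + 1) → F) 0 from this]
      simp [ext1, Pi.single_apply, eq_comm]
    · refine Fin.cases ?_ (fun j => ?_) j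
      · have := congrFun g.2 i.succ
        rw [hmv, hes] at this
        simpa [ext1] using this
      · simp [ext1]
  have hinj : ∀ M N : Matrix (Fin n) (Fin n) F, ext1 M = ext1 N → M = N := fun M N h => by
    ext i j
    simpa [ext1] using congrFun (congrFun h i.succ) j.succ
  let E : Cfsg.GU n F q ≃ {g : Cfsg.GU (n + 1) F q // g.1.1 *ᵥ e = e} :=
    Equiv.ofBijective (fun g => ⟨embed g, by
      show ext1 g.1.1 *ᵥ e = e
      rw [ext1_mulVec, htail, mulVec_zero]
      funext i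
      refine Fin.cases ?_ (fun i => ?_) i <;> simp [he0, hes]⟩)
    ⟨fun a b h => Subtype.ext (Units.ext (hinj _ _ (congrArg (fun x => x.1.1.1) h))),
     fun g => by
      set M := g.1.1.1.submatrix Fin.succ Fin.succ with hM
      set N := (g.1.1⁻¹).1.submatrix Fin.succ Fin.succ with hN
      have hg' : ((g.1⁻¹ : Cfsg.GU (n + 1) F q)).1.1 *ᵥ e = e := by
        refine (congrArg (fun w => ((g.1⁻¹ : Cfsg.GU (n + 1) F q)).1.1 *ᵥ w) g.2.symm).trans ?_
        rw [mulVec_mulVec, show ((g.1⁻¹ : Cfsg.GU (n + 1) F q)).1.1 * g.1.1.1 = 1 from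
          congrArg Units.val (inv_mul_cancel g.1.1), one_mulVec]
      have h1 : g.1.1.1 = ext1 M := hform g
      have h2 : g.1.1⁻¹.1 = ext1 N := hform ⟨g.1⁻¹, hg'⟩
      have hMN : M * N = 1 := hinj _ _ (by
        rw [ext1_mul, ← h1, ← h2, ext1_one]; exact congrArg Units.val (mul_inv_cancel g.1.1))
      refine ⟨⟨⟨M, N, hMN, mul_eq_one_comm.mp hMN⟩, fun x y => ?_⟩, Subtype.ext (Subtype.ext (Units.ext h1.symm))⟩
      show Cfsg.hermForm n F q (M *ᵥ x) (M *ᵥ y) = _
      have h : Cfsg.hermForm (n + 1) F q (g.1.1.1 *ᵥ Fin.cons 0 x) (g.1.1.1 *ᵥ Fin.cons 0 y) =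
          Cfsg.hermForm (n + 1) F q (Fin.cons 0 x) (Fin.cons 0 y) := g.1.2 _ _
      simpa [h1, ext1_mulVec, herm_cons] using h⟩
  have hfib : ∀ v, Nat.card {g // f g = v} = Nat.card {g : Cfsg.GU (n + 1) F q // g.1.1 *ᵥ e = e} := by
    intro v
    obtain ⟨g₀, hg₀, hv⟩ := transitive hF he1 v.2
    refine Nat.card_congr ((Equiv.mulLeft (⟨g₀, hg₀⟩ : Cfsg.GU (n + 1) F q)⁻¹).subtypeEquiv fun g => ?_)
    show f g = v ↔ ((g₀⁻¹).1 * g.1.1) *ᵥ e = e
    rw [← mulVec_mulVec, Subtype.ext_iff]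
    show g.1.1 *ᵥ e = v.1 ↔ _
    constructor
    · intro h
      rw [h, ← hv, mulVec_mulVec, show (g₀⁻¹).1 * g₀.1 = 1 from
        congrArg Units.val (inv_mul_cancel g₀), one_mulVec]
    · intro h
      have := congrArg (fun w => g₀.1 *ᵥ w) h
      simp only [hv] at this
      rwa [mulVec_mulVec, show g₀.1 * (g₀⁻¹).1 = 1 from
        congrArg Units.val (mul_inv_cancel g₀), one_mulVec] at this
  rw [← Nat.card_congr (Equiv.sigmaFiberEquiv f), Nat.card_sigma, Finset.sum_congr rfl fun v _ => hfib v,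
    Finset.sum_const, smul_eq_mul, Finset.card_univ, ← Nat.card_congr E, HermCount.A1,
    Nat.card_eq_fintype_card (α := {v : Fin (n + 1) → F // _})]

theorem A1_succ (hF : Fintype.card F = q ^ 2) (n : ℕ) :
    HermCount.A1 F q (n + 1) = q ^ n * (if Even n then q ^ (n + 1) + 1 else q ^ (n + 1) - 1) := by
  have hq := (CfsgLib.UnitaryBasic.frob_exists hF).1
  have h := HermCount.q_mul_A1 hF (n + 1)
  have hq0 : (q : ℤ) ≠ 0 := by exact_mod_cast (by omega : q ≠ 0)
  zify
  refine mul_left_cancel₀ hq0 (h.trans ?_)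
  split_ifs with hev
  · rw [show ((-(q : ℤ)) ^ (n + 1)) = -((q : ℤ) ^ (n + 1)) from Odd.neg_pow hev.add_one _]
    push_cast
    ring
  · rw [show ((-(q : ℤ)) ^ (n + 1)) = (q : ℤ) ^ (n + 1) from
      Even.neg_pow (Nat.not_even_iff_odd.mp hev).add_one _]
    push_cast [Nat.cast_sub (Nat.one_le_pow (n + 1) q (by omega))]
    ring

/-- The order of `GU_n(q)`. -/
theorem card_GU (hF : Fintype.card F = q ^ 2) (n : ℕ) :
    Nat.card (Cfsg.GU n F q) = q ^ (n * (n - 1) / 2) *
      ∏ i ∈ Finset.range n, (if Even i then q ^ (i + 1) + 1 else q ^ (i + 1) - 1) := by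
  induction n with
  | zero =>
    rw [Nat.card_eq_one_iff_unique.mpr ⟨⟨fun a b => Subtype.ext (Units.ext (Subsingleton.elim _ _))⟩,
      ⟨1⟩⟩]
    simp
  | succ n ih =>
    rw [card_step hF, ih, A1_succ hF, Finset.prod_range_succ,
      show (n + 1) * (n + 1 - 1) / 2 = n + n * (n - 1) / 2 by
        rw [← Finset.sum_range_id, ← Finset.sum_range_id, Finset.sum_range_succ, add_comm], pow_add]
    ring

/-- `|GU| = (q + 1) |SU|`. -/
theorem card_GU_eq (hF : Fintype.card F = q ^ 2) (hn : 1 ≤ n) :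
    Nat.card (Cfsg.GU n F q) = (q + 1) * Nat.card (Cfsg.SU n F q) := by
  classical
  let d : Cfsg.GU n F q →* Fˣ := (GeneralLinearGroup.det).comp (Cfsg.GU n F q).subtype
  have hr : d.range = (powMonoidHom (q + 1) : Fˣ →* Fˣ).ker := by
    refine le_antisymm ?_ fun u hu => ?_
    · rintro _ ⟨g, rfl⟩
      exact CfsgLib.UnitaryBasic.det_pow hF g.2
    · refine ⟨⟨CfsgLib.UnitaryBasic.dgl (Function.update (1 : Fin n → Fˣ) ⟨0, by omega⟩ u),
        CfsgLib.UnitaryBasic.dgl_mem _ fun i => ?_⟩, Units.ext ?_⟩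
      · rcases eq_or_ne i ⟨0, by omega⟩ with rfl | hi
        · rw [Function.update_self]; exact hu
        · rw [Function.update_of_ne hi, Pi.one_apply, one_pow]
      · show (diagonal fun i => ((Function.update (1 : Fin n → Fˣ) ⟨0, by omega⟩ u i : Fˣ) : F)).det = u
        rw [det_diagonal, ← Units.coe_prod, Finset.prod_update_of_mem (Finset.mem_univ _)]
        simp
  let E : Cfsg.SU n F q ≃ d.ker :=
    { toFun := fun g => ⟨⟨SpecialLinearGroup.toGL g.1, g.2⟩, Units.ext g.1.2⟩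
      invFun := fun g => ⟨⟨g.1.1.1, congrArg Units.val g.2⟩, g.1.2⟩
      left_inv := fun g => rfl
      right_inv := fun g => Subtype.ext (Subtype.ext (Units.ext rfl)) }
  rw [Nat.card_congr E, ← Subgroup.card_mul_index d.ker, Subgroup.index_ker, hr,
    IsCyclic.card_powMonoidHom_ker, HermCount.card_sub_one hF,
    Nat.gcd_eq_right (dvd_mul_right _ _), mul_comm]

end CfsgLib.UnitaryOrder
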