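import Mathlib
import Cfsg.Agent.Lib.UnitaryOrder
import Cfsg.Prelude.Def_ClassicalGeometry

/-! Transvections and quasi-reflections of unitary groups. -/

set_option autoImplicit false

namespace CfsgLib.UnitaryTransvection

open Matrix
open scoped commutatorElement

variable {F : Type*} [Field F] [Fintype F] {q n : ℕ} (hF : Fintype.card F = q ^ 2)

/-- The involutory automorphism. -/
noncomputable def frob : F →+* F := (UnitaryBasic.frob_exists hF).2.choose

theorem frob_apply (x : F) : frob hF x = x ^ q := (UnitaryBasic.frob_exists hF).2.choose_spec x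

theorem frob_frob (x : F) : frob hF (frob hF x) = x := by
  rw [frob_apply, frob_apply, ← pow_mul, ← sq, ← hF, FiniteField.pow_card]

theorem frob_ne_id : frob hF ≠ RingHom.id F := fun h => by
  have hq := (UnitaryBasic.frob_exists hF).1
  obtain ⟨ζ, hζ⟩ := UnitaryBasic.exists_zeta hF
  have h1 : (ζ : F) ^ q = ζ := by rw [← frob_apply hF, h]; rfl
  have h2 : ζ ^ (q - 1) = 1 := by
    refine mul_right_cancel (b := ζ) ?_
    rw [← pow_succ, Nat.sub_add_cancel hq.le, one_mul]
    exact Units.ext (by simpa using h1)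
  have := Nat.le_of_dvd (by omega) (orderOf_dvd_of_pow_eq_one h2)
  omega

theorem exists_trace_one : ∃ d : F, frob hF d + d = 1 :=
  WittExtension.exists_trace (frob_ne_id hF) (frob_frob hF) (map_one _)

theorem exists_skew : ∃ c : F, c ≠ 0 ∧ c + frob hF c = 0 := by
  obtain ⟨x, hx⟩ : ∃ x, frob hF x ≠ x := by
    by_contra h
    push Not at h
    exact frob_ne_id hF (RingHom.ext h)
  exact ⟨x - frob hF x, sub_ne_zero.mpr hx.symm, by rw [map_sub, frob_frob]; ring⟩

theorem exists_norm_eq {c : F} (hc : frob hF c = c) : ∃ t : F, t * frob hF t = c := by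
  by_cases h0 : c = 0
  · exact ⟨0, by rw [h0, zero_mul]⟩
  obtain ⟨t, ht⟩ := HermCount.exists_norm hF h0 (by rwa [← frob_apply hF])
  exact ⟨t, by rw [frob_apply, ← pow_succ']; exact ht⟩

local notation "h" => Cfsg.hermForm n F q
local notation "σ" => frob hF

omit [Fintype F] in
theorem h_add_left (x y z : Fin n → F) : h (x + y) z = h x z + h y z := by
  simp [Cfsg.hermForm, add_mul, Finset.sum_add_distrib]

omit [Fintype F] in
theorem h_smul_left (c : F) (x z : Fin n → F) : h (c • x) z = c * h x z := by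
  simp [Cfsg.hermForm, Finset.mul_sum, mul_assoc]

include hF in
theorem h_add_right (x y z : Fin n → F) : h x (y + z) = h x y + h x z := by
  simp only [Cfsg.hermForm, Pi.add_apply, ← frob_apply hF, map_add, mul_add, Finset.sum_add_distrib]

theorem h_smul_right (c : F) (x z : Fin n → F) : h x (c • z) = σ c * h x z := by
  simp only [Cfsg.hermForm, Pi.smul_apply, smul_eq_mul, ← frob_apply hF, map_mul, Finset.mul_sum]
  exact Finset.sum_congr rfl fun i _ => by ring

theorem h_swap (x y : Fin n → F) : σ (h x y) = h y x := by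
  rw [frob_apply, UnitaryOrder.herm_swap hF]

omit [Fintype F] in
theorem h_sub_left (x y z : Fin n → F) : h (x - y) z = h x z - h y z := by
  simp [Cfsg.hermForm, sub_mul]

include hF in
theorem h_sub_right (x y z : Fin n → F) : h x (y - z) = h x y - h x z := by
  simp only [Cfsg.hermForm, Pi.sub_apply, ← frob_apply hF, map_sub, mul_sub, Finset.sum_sub_distrib]

include hF in
theorem h_nondeg {x : Fin n → F} (hx : ∀ y, h x y = 0) : x = 0 := funext fun i => by
  simpa [UnitaryOrder.herm_single_right hF] using hx (Pi.single i 1)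

omit [Fintype F] in
theorem tmat_mulVec (z : Fin n → F) (c : F) (x : Fin n → F) :
    Cfsg.unitaryTransvection n q z c *ᵥ x = x + (c * h x z) • z := by
  simp only [Cfsg.unitaryTransvection, Matrix.add_mulVec, Matrix.one_mulVec, Matrix.smul_mulVec,
    Matrix.vecMulVec_mulVec, op_smul_eq_smul, smul_smul]
  rw [show (fun j => z j ^ q) ⬝ᵥ x = h x z from dotProduct_comm _ _]

omit [Fintype F] in
theorem det_tmat (z : Fin n → F) (c : F) : (Cfsg.unitaryTransvection n q z c).det = 1 + c * h z z := by
  rw [Cfsg.unitaryTransvection, ← Matrix.smul_vecMulVec, Matrix.vecMulVec_eq Unit,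
    Matrix.det_one_add_replicateCol_mul_replicateRow, dotProduct_smul]
  rw [show (fun j => z j ^ q) ⬝ᵥ z = h z z from dotProduct_comm _ _, smul_eq_mul]

/-- The condition for `x ↦ x + c h(x,z) z` to be an isometry. -/
def Good (z : Fin n → F) (c : F) : Prop := c + σ c + c * σ c * h z z = 0

include hF in
theorem isometry_of_matrix {M : Matrix (Fin n) (Fin n) F} (hM : ∀ u v, h (M *ᵥ u) (M *ᵥ v) = h u v) :
    IsUnit M := by
  rw [← mulVec_injective_iff_isUnit]
  intro u v he
  refine sub_eq_zero.mp (h_nondeg hF fun y => ?_)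
  rw [← hM, mulVec_sub, he, sub_self]
  simp [Cfsg.hermForm]

include hF in
/-- An element of `GU` from a matrix. -/
noncomputable def mkGU (M : Matrix (Fin n) (Fin n) F) (hM : ∀ u v, h (M *ᵥ u) (M *ᵥ v) = h u v) :
    Cfsg.GU n F q :=
  ⟨(isometry_of_matrix hF hM).unit, fun u v => hM u v⟩

theorem tmat_isometry {z : Fin n → F} {c : F} (hg : Good hF z c) (u v : Fin n → F) :
    h (Cfsg.unitaryTransvection n q z c *ᵥ u) (Cfsg.unitaryTransvection n q z c *ᵥ v) = h u v := by
  rw [tmat_mulVec, tmat_mulVec, h_add_left, h_add_right hF, h_add_right hF, h_smul_left, h_smul_left,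
    h_smul_right hF, h_smul_right hF, map_mul, h_swap hF]
  unfold Good at hg
  linear_combination (h u z * h z v) * hg

/-- `x ↦ x + c h(x,z) z` as an element of `GU`. -/
noncomputable def tg (z : Fin n → F) (c : F) (hg : Good hF z c) : Cfsg.GU n F q :=
  mkGU hF _ (tmat_isometry hF hg)

theorem tg_val (z : Fin n → F) (c : F) (hg : Good hF z c) :
    (tg hF z c hg).1.1 = Cfsg.unitaryTransvection n q z c := rfl

theorem tg_mulVec (z : Fin n → F) (c : F) (hg : Good hF z c) (x : Fin n → F) :
    (tg hF z c hg).1.1 *ᵥ x = x + (c * h x z) • z := tmat_mulVec z c x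

theorem gu_h (g : Cfsg.GU n F q) (u v : Fin n → F) : h (g.1.1 *ᵥ u) (g.1.1 *ᵥ v) = h u v := g.2 u v

theorem gu_ext {g g' : Cfsg.GU n F q} (e : ∀ x, g.1.1 *ᵥ x = g'.1.1 *ᵥ x) : g = g' :=
  Subtype.ext (Units.ext (Matrix.ext_of_mulVec_single fun i => e _))

theorem gu_inv_mulVec (g : Cfsg.GU n F q) (x : Fin n → F) : g.1.1 *ᵥ (g⁻¹.1.1 *ᵥ x) = x := by
  rw [mulVec_mulVec, show g.1.1 * g⁻¹.1.1 = 1 from by exact_mod_cast g.1.mul_inv, one_mulVec]

theorem conj_tg (g : Cfsg.GU n F q) (z : Fin n → F) (c : F) (hg : Good hF z c) :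
    ∃ hg', g * tg hF z c hg * g⁻¹ = tg hF (g.1.1 *ᵥ z) c hg' := by
  have hg' : Good hF (g.1.1 *ᵥ z) c := by unfold Good; rw [gu_h]; exact hg
  refine ⟨hg', gu_ext fun x => ?_⟩
  show (g.1.1 * (tg hF z c hg).1.1 * g⁻¹.1.1) *ᵥ x = _
  rw [← mulVec_mulVec, ← mulVec_mulVec, tg_mulVec, tg_mulVec, mulVec_add, mulVec_smul, gu_inv_mulVec]
  conv_rhs => rw [← gu_inv_mulVec g x, gu_h, gu_inv_mulVec]

theorem det_tg (z : Fin n → F) (c : F) (hg : Good hF z c) : (tg hF z c hg).1.1.det = 1 + c * h z z :=
  det_tmat z c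

/-- Transvections inside `GU`. -/
def Trans : Set (Cfsg.GU n F q) :=
  {g | ∃ (z : Fin n → F) (c : F) (hg : Good hF z c), h z z = 0 ∧ g = tg hF z c hg}

instance trans_normal : (Subgroup.closure (Trans (n := n) hF)).Normal := by
  rw [← Subgroup.normalizer_eq_top_iff, eq_top_iff]
  intro g _
  have key : ∀ g : Cfsg.GU n F q, ∀ x ∈ Subgroup.closure (Trans hF),
      g * x * g⁻¹ ∈ Subgroup.closure (Trans hF) := by
    intro g x hx
    refine Subgroup.closure_induction (p := fun x _ => g * x * g⁻¹ ∈ Subgroup.closure (Trans hF)) ?_ ?_ ?_ ?_ hx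
    · rintro s ⟨z, c, hg, hz, rfl⟩
      obtain ⟨hg', e⟩ := conj_tg hF g z c hg
      exact Subgroup.subset_closure ⟨_, c, hg', by rw [gu_h]; exact hz, e⟩
    · simp
    · intro a b _ _ ha hb; simpa [mul_assoc] using mul_mem ha hb
    · intro a _ ha; simpa [mul_assoc] using inv_mem ha
  rw [Subgroup.mem_normalizer_iff]
  exact fun x => ⟨key g x, fun hx => by simpa [mul_assoc] using key g⁻¹ _ hx⟩

/-- The basic move between two vectors of norm one. -/
theorem move {u v : Fin n → F} (hu : h u u = 1) (hv : h v v = 1) (hs : h u v ≠ 1) :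
    ∃ (c : F) (hg : Good hF (u - v) c), (tg hF (u - v) c hg).1.1 *ᵥ u = v ∧
      ((1 - h u v) + σ (1 - h u v) = 0 → h (u - v) (u - v) = 0) := by
  set s := 1 - h u v with hsd
  have hs0 : s ≠ 0 := sub_ne_zero.mpr (Ne.symm hs)
  have hσs : σ s ≠ 0 := fun e => hs0 (by simpa [frob_frob hF] using congrArg σ e)
  have hzz : h (u - v) (u - v) = s + σ s := by
    rw [h_sub_left, h_sub_right hF, h_sub_right hF, hu, hv, hsd, map_sub, map_one, h_swap hF]
    ring
  have hg : Good hF (u - v) (-s⁻¹) := by
    unfold Good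
    rw [hzz, map_neg, map_inv₀]
    field_simp
    ring
  refine ⟨-s⁻¹, hg, ?_, fun e => by rw [hzz, e]⟩
  rw [tg_mulVec, h_sub_right hF, hu, ← hsd, neg_mul, inv_mul_cancel₀ hs0, neg_one_smul]
  abel

/-- Scaling a vector of norm one. -/
theorem scale_move {u : Fin n → F} (hu : h u u = 1) {ω : F} (hω : ω * σ ω = 1) :
    ∃ hg : Good hF u (ω - 1), (tg hF u (ω - 1) hg).1.1 *ᵥ u = ω • u := by
  have hg : Good hF u (ω - 1) := by
    unfold Good
    rw [map_sub, map_one, hu]
    linear_combination hω
  refine ⟨hg, ?_⟩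
  rw [tg_mulVec, hu, mul_one, sub_smul, one_smul]
  abel

theorem exists_omega : ∃ ω : F, ω ≠ 1 ∧ ω * σ ω = 1 := by
  obtain ⟨ζ, hζ⟩ := UnitaryBasic.exists_zeta hF
  have hq := (UnitaryBasic.frob_exists hF).1
  refine ⟨ζ, fun e => ?_, ?_⟩
  · rw [Units.val_eq_one.mp e, orderOf_one] at hζ; omega
  · rw [frob_apply, ← pow_succ', ← Units.val_pow_eq_pow_val, ← hζ, pow_orderOf_eq_one, Units.val_one]

/-- `GU` is generated by the maps `x ↦ x + c h(x,z) z`. -/
theorem gu_generated : Subgroup.closure {g : Cfsg.GU n F q | ∃ z c hg, g = tg hF z c hg} = ⊤ := by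
  set M := Subgroup.closure {g : Cfsg.GU n F q | ∃ z c hg, g = tg hF z c hg}
  have hM : ∀ z c hg, tg hF z c hg ∈ M := fun z c hg => Subgroup.subset_closure ⟨z, c, hg, rfl⟩
  have he : ∀ i j : Fin n, h (Pi.single i 1) (Pi.single j 1) = if i = j then 1 else 0 := fun i j => by
    rw [UnitaryOrder.herm_single_right hF, Pi.single_apply]
    simp [eq_comm]
  suffices key : ∀ k ≤ n, ∀ g : Cfsg.GU n F q,
      (∀ i : Fin n, (i : ℕ) < n - k → g.1.1 *ᵥ Pi.single i 1 = Pi.single i 1) → g ∈ M by
    rw [eq_top_iff]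
    exact fun g _ => key n le_rfl g fun i hi => absurd hi (by omega)
  intro k
  induction k with
  | zero =>
    intro _ g hg
    have : g = 1 := Subtype.ext (Units.ext (Matrix.ext_of_mulVec_single fun i => by
      rw [hg i (by omega)]; exact (one_mulVec _).symm))
    rw [this]; exact one_mem _
  | succ k ih =>
    intro hk g hg
    set j : Fin n := ⟨n - (k + 1), by omega⟩
    set e := (Pi.single j 1 : Fin n → F)
    set u := g.1.1 *ᵥ e
    have hee : h e e = 1 := by rw [he]; simp
    have huu : h u u = 1 := by rw [gu_h, hee]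
    have hperp : ∀ i : Fin n, (i : ℕ) < n - (k + 1) →
        h (Pi.single i 1) u = 0 ∧ h (Pi.single i 1) e = 0 := by
      intro i hi
      have hij : i ≠ j := fun e => by rw [e] at hi; simp [j] at hi
      refine ⟨?_, by rw [he, if_neg hij]⟩
      conv_lhs => rw [← hg i hi, gu_h, he, if_neg hij]
    obtain ⟨m, hm, hmu, hmi⟩ : ∃ m ∈ M, m.1.1 *ᵥ u = e ∧
        ∀ i : Fin n, (i : ℕ) < n - (k + 1) → m.1.1 *ᵥ Pi.single i 1 = Pi.single i 1 := by
      by_cases hs : h u e = 1
      · obtain ⟨ω, hω1, hω⟩ := exists_omega hF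
        obtain ⟨hg₁, h1⟩ := scale_move hF huu hω
        have hωu : h (ω • u) (ω • u) = 1 := by rw [h_smul_left, h_smul_right hF, huu, mul_one, hω]
        obtain ⟨c, hg₂, h2, -⟩ := move hF hωu hee (by rwa [h_smul_left, hs, mul_one])
        refine ⟨tg hF _ c hg₂ * tg hF u (ω - 1) hg₁, mul_mem (hM _ _ _) (hM _ _ _), ?_, fun i hi => ?_⟩
        · show ((tg hF _ c hg₂).1.1 * (tg hF u (ω - 1) hg₁).1.1) *ᵥ u = e
          rw [← mulVec_mulVec, h1, h2]
        · obtain ⟨p1, p2⟩ := hperp i hi
          show ((tg hF _ c hg₂).1.1 * (tg hF u (ω - 1) hg₁).1.1) *ᵥ _ = _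
          rw [← mulVec_mulVec, tg_mulVec, tg_mulVec, p1, mul_zero, zero_smul, add_zero, h_sub_right hF,
            h_smul_right hF, p1, p2]
          simp
      · obtain ⟨c, hg₂, h2, -⟩ := move hF huu hee hs
        refine ⟨_, hM _ c hg₂, h2, fun i hi => ?_⟩
        obtain ⟨p1, p2⟩ := hperp i hi
        rw [tg_mulVec, h_sub_right hF, p1, p2]
        simp
    have hfix : m * g ∈ M := ih (by omega) (m * g) fun i hi => by
      show (m.1.1 * g.1.1) *ᵥ _ = _
      rw [← mulVec_mulVec]
      rcases Nat.lt_or_ge (i : ℕ) (n - (k + 1)) with hlt | hge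
      · rw [hg i hlt, hmi i hlt]
      · obtain rfl : i = j := Fin.ext (show (i : ℕ) = n - (k + 1) by omega)
        exact hmu
    exact (mul_mem_cancel_left hm).mp hfix

include hF in
/-- Vectors orthogonal to a short family with duals contain a vector of norm one. -/
theorem unit_perp {k : ℕ} (b d : Fin k → Fin n → F) (hd : ∀ i, d i ∈ Submodule.span F (Set.range b))
    (hdual : ∀ i j, h (d i) (b j) = if i = j then 1 else 0) (hk : k < n) :
    ∃ w, (∀ i, h w (b i) = 0) ∧ h w w = 1 := by
  classical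
  let P : (Fin n → F) → (Fin n → F) := fun x => x - ∑ i, h x (b i) • d i
  have hsum : ∀ (f : Fin k → F) y, h (∑ i, f i • d i) y = ∑ i, f i * h (d i) y := fun f y => by
    simp only [Cfsg.hermForm, Finset.sum_apply, Pi.smul_apply, smul_eq_mul, Finset.sum_mul, Finset.mul_sum]
    rw [Finset.sum_comm]
    exact Finset.sum_congr rfl fun i _ => Finset.sum_congr rfl fun l _ => by ring
  have hP : ∀ x j, h (P x) (b j) = 0 := fun x j => by
    rw [h_sub_left, hsum]
    simp [hdual]
  by_contra hno
  push Not at hno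
  have hiso : ∀ w, (∀ i, h w (b i) = 0) → h w w = 0 := fun w hw => by
    by_contra hne
    obtain ⟨t, ht⟩ := exists_norm_eq hF (c := (h w w)⁻¹) (by rw [map_inv₀, h_swap hF])
    exact hno (t • w) (fun i => by rw [h_smul_left, hw, mul_zero]) (by
      rw [h_smul_left, h_smul_right hF, ← mul_assoc, ht, inv_mul_cancel₀ hne])
  have hzero : ∀ w, (∀ i, h w (b i) = 0) → w = 0 := by
    intro w hw
    have hperp : ∀ x, (∀ i, h x (b i) = 0) → h w x = 0 := by
      intro x hx
      by_contra hne
      obtain ⟨e, he⟩ := exists_trace_one hF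
      set l := σ (e / h w x) with hl
      have h' := hiso (w + l • x) (fun i => by rw [h_add_left, h_smul_left, hw, hx, mul_zero, add_zero])
      rw [h_add_left, h_add_right hF, h_add_right hF, h_smul_left, h_smul_left, h_smul_right hF,
        h_smul_right hF, hiso w hw, hiso x hx, ← h_swap hF w x, hl, frob_frob hF, ← map_mul,
        div_mul_cancel₀ _ hne] at h'
      exact one_ne_zero (by linear_combination h' - he)
    refine h_nondeg hF fun x => ?_
    have h1 := hperp (P x) (hP x)
    have h2 : ∀ i, h w (d i) = 0 := fun i => by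
      have hmem := hd i
      generalize d i = y at hmem
      induction hmem using Submodule.span_induction with
      | mem y hy => obtain ⟨j, rfl⟩ := hy; exact hw j
      | zero => simp [Cfsg.hermForm, zero_pow (show q ≠ 0 by have := (UnitaryBasic.frob_exists hF).1; omega)]
      | add a b _ _ ha hb => rw [h_add_right hF, ha, hb, add_zero]
      | smul a x _ hx => rw [h_smul_right hF, hx, mul_zero]
    have hsr : ∀ f : Fin k → F, h w (∑ i, f i • d i) = 0 := fun f => by
      have : ∀ s : Finset (Fin k), h w (∑ i ∈ s, f i • d i) = 0 := fun s => by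
        induction s using Finset.induction_on with
        | empty => simp [Cfsg.hermForm, zero_pow (show q ≠ 0 by have := (UnitaryBasic.frob_exists hF).1; omega)]
        | insert a s ha ih => rw [Finset.sum_insert ha, h_add_right hF, h_smul_right hF, h2, ih]; simp
      exact this _
    rw [h_sub_right hF, hsr, sub_zero] at h1
    exact h1
  let L : (Fin n → F) →ₗ[F] (Fin k → F) :=
    { toFun := fun x i => h x (b i)
      map_add' := fun x y => funext fun i => h_add_left x y (b i)
      map_smul' := fun c x => funext fun i => by simp [h_smul_left] }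
  have hL : Function.Injective L := (injective_iff_map_eq_zero L).mpr fun x hx => hzero x fun i => congrFun hx i
  have := LinearMap.finrank_le_finrank_of_injective hL
  rw [Module.finrank_fin_fun, Module.finrank_fin_fun] at this
  omega

/-- Norm one vectors with non-degenerate span are related by a product of transvections. -/
theorem trans_nondeg (hn : 3 ≤ n) {u v : Fin n → F} (hu : h u u = 1) (hv : h v v = 1)
    (hd : h u v * h v u ≠ 1) : ∃ g ∈ Subgroup.closure (Trans (n := n) hF), g.1.1 *ᵥ u = v := by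
  classical
  have horth : ∀ {u v : Fin n → F}, h u u = 1 → h v v = 1 → h u v = 0 →
      ∃ g ∈ Subgroup.closure (Trans (n := n) hF), g.1.1 *ᵥ u = v := by
    intro u v hu hv huv
    have hvu : h v u = 0 := by rw [← h_swap hF u v, huv, map_zero]
    obtain ⟨w, hw, hww⟩ := unit_perp hF ![u, v] ![u, v]
      (fun i => Submodule.subset_span ⟨i, rfl⟩)
      (fun i j => by fin_cases i <;> fin_cases j <;> simp [hu, hv, huv, hvu]) (by omega)
    have hwu : h w u = 0 := hw 0
    have hwv : h w v = 0 := hw 1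
    have huw : h u w = 0 := by rw [← h_swap hF w u, hwu, map_zero]
    have hvw : h v w = 0 := by rw [← h_swap hF w v, hwv, map_zero]
    obtain ⟨c₀, hc0, hc⟩ := exists_skew hF
    have hc' : σ c₀ = -c₀ := by linear_combination hc
    set a := 1 - c₀
    set b := 1 + c₀
    obtain ⟨l, hl⟩ := exists_norm_eq hF (c := 1 - a * σ a - b * σ b) (by
      simp [map_sub, map_mul, frob_frob hF]; ring)
    set x := a • u + b • v + l • w with hx
    have hxx : h x x = 1 := by
      rw [hx]
      simp only [h_add_left, h_add_right hF, h_smul_left, h_smul_right hF, hu, hv, hww, huv, hvu, huw,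
        hwu, hvw, hwv, mul_zero, zero_mul, add_zero, zero_add, mul_one]
      linear_combination hl
    have hux : h u x = b := by
      rw [hx]
      simp only [h_add_right hF, h_smul_right hF, hu, huv, huw, mul_zero, add_zero, mul_one]
      simp [a, b, hc']
    have hxv : h x v = b := by
      rw [hx]
      simp only [h_add_left, h_smul_left, hv, huv, hwv, mul_zero, add_zero, zero_add, mul_one]
    have hb1 : b ≠ 1 := fun e => hc0 (by linear_combination e)
    have hbt : (1 - b) + σ (1 - b) = 0 := by simp [b, hc']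
    obtain ⟨c₁, g₁, e₁, z₁⟩ := move hF hu hxx (by rw [hux]; exact hb1)
    obtain ⟨c₂, g₂, e₂, z₂⟩ := move hF hxx hv (by rw [hxv]; exact hb1)
    refine ⟨tg hF _ c₂ g₂ * tg hF _ c₁ g₁, mul_mem (Subgroup.subset_closure ⟨_, _, g₂, z₂ (by rw [hxv]; exact hbt), rfl⟩)
      (Subgroup.subset_closure ⟨_, _, g₁, z₁ (by rw [hux]; exact hbt), rfl⟩), ?_⟩
    show ((tg hF _ c₂ g₂).1.1 * (tg hF _ c₁ g₁).1.1) *ᵥ u = v
    rw [← mulVec_mulVec, e₁, e₂]
  set D := 1 - h u v * h v u
  have hD : D ≠ 0 := sub_ne_zero.mpr (Ne.symm hd)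
  obtain ⟨w, hw, hww⟩ := unit_perp hF ![u, v] ![D⁻¹ • (u - h u v • v), D⁻¹ • (v - h v u • u)]
    (fun i => by
      fin_cases i
      · exact Submodule.smul_mem _ _ (Submodule.sub_mem _ (Submodule.subset_span ⟨0, rfl⟩)
          (Submodule.smul_mem _ _ (Submodule.subset_span ⟨1, rfl⟩)))
      · exact Submodule.smul_mem _ _ (Submodule.sub_mem _ (Submodule.subset_span ⟨1, rfl⟩)
          (Submodule.smul_mem _ _ (Submodule.subset_span ⟨0, rfl⟩))))
    (fun i j => by
      fin_cases i <;> fin_cases j <;> simp [h_smul_left, h_sub_left, hu, hv] <;>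
        field_simp <;> simp [D] <;> ring)
    (by omega)
  have hwu : h w u = 0 := hw 0
  have hwv : h w v = 0 := hw 1
  obtain ⟨g₁, m₁, e₁⟩ := horth hu hww (by rw [← h_swap hF w u, hwu, map_zero])
  obtain ⟨g₂, m₂, e₂⟩ := horth hww hv hwv
  refine ⟨g₂ * g₁, mul_mem m₂ m₁, ?_⟩
  show (g₂.1.1 * g₁.1.1) *ᵥ u = v
  rw [← mulVec_mulVec, e₁, e₂]

/-- The transvection group is transitive on vectors of norm one. -/
theorem trans_transitive (hn : 3 ≤ n) (h32 : ¬ (n = 3 ∧ q = 2)) {u v : Fin n → F} (hu : h u u = 1)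
    (hv : h v v = 1) : ∃ g ∈ Subgroup.closure (Trans (n := n) hF), g.1.1 *ᵥ u = v := by
  classical
  by_cases hd : h u v * h v u = 1
  swap
  · exact trans_nondeg hF hn hu hv hd
  set r := v - h v u • u with hr
  by_cases hr0 : r = 0
  · -- `v` is a multiple of `u`
    obtain ⟨w, hw, hww⟩ := unit_perp hF ![u] ![u] (fun i => Submodule.subset_span ⟨i, rfl⟩)
      (fun i j => by fin_cases i <;> fin_cases j <;> simp [hu]) (by omega)
    have hwu : h w u = 0 := hw 0
    have hwv : h w v = 0 := by
      rw [sub_eq_zero.mp hr0, h_smul_right hF, hwu, mul_zero]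
    have huw : h u w = 0 := by rw [← h_swap hF w u, hwu, map_zero]
    obtain ⟨g₁, m₁, e₁⟩ := trans_nondeg hF hn hu hww (by rw [huw, zero_mul]; exact zero_ne_one)
    obtain ⟨g₂, m₂, e₂⟩ := trans_nondeg hF hn hww hv (by rw [hwv, zero_mul]; exact zero_ne_one)
    refine ⟨g₂ * g₁, mul_mem m₂ m₁, ?_⟩
    show (g₂.1.1 * g₁.1.1) *ᵥ u = v
    rw [← mulVec_mulVec, e₁, e₂]
  have hru : h r u = 0 := by rw [hr, h_sub_left, h_smul_left, hu, mul_one, sub_self]
  have hur : h u r = 0 := by rw [← h_swap hF r u, hru, map_zero]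
  have hrr : h r r = 0 := by
    rw [hr, h_sub_left, h_sub_right hF, h_sub_right hF, h_smul_left, h_smul_left, h_smul_right hF,
      h_smul_right hF, h_swap hF v u, hu, hv]
    linear_combination -hd
  obtain ⟨y, hy⟩ : ∃ y, h r y ≠ 0 := by
    by_contra hno
    push Not at hno
    exact hr0 (h_nondeg hF hno)
  set y₁ := (y - h y u • u) with hy₁
  have hy₁u : h y₁ u = 0 := by rw [hy₁, h_sub_left, h_smul_left, hu, mul_one, sub_self]
  have hry : h r y₁ = h r y := by rw [hy₁, h_sub_right hF, h_smul_right hF, hru, mul_zero, sub_zero]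
  set y₂ := σ (h r y)⁻¹ • y₁ with hy₂
  have hry₂ : h r y₂ = 1 := by rw [hy₂, h_smul_right hF, frob_frob hF, hry, inv_mul_cancel₀ hy]
  have hy₂u : h y₂ u = 0 := by rw [hy₂, h_smul_left, hy₁u, mul_zero]
  obtain ⟨k, hk⟩ := WittExtension.exists_trace (frob_ne_id hF) (frob_frob hF)
    (show σ (-(h y₂ y₂)) = -(h y₂ y₂) by rw [map_neg, h_swap hF])
  set f := y₂ + k • r with hf
  clear_value y₂
  have hfu : h f u = 0 := by rw [hf, h_add_left, h_smul_left, hy₂u, hru]; simp
  have huf : h u f = 0 := by rw [← h_swap hF f u, hfu, map_zero]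
  have hrf : h r f = 1 := by rw [hf, h_add_right hF, h_smul_right hF, hry₂, hrr]; simp
  have hfr : h f r = 1 := by rw [← h_swap hF r f, hrf, map_one]
  have hy₂r : h y₂ r = 1 := by rw [← h_swap hF r y₂, hry₂, map_one]
  have hff : h f f = 0 := by
    rw [hf]
    simp only [h_add_left, h_add_right hF, h_smul_left, h_smul_right hF, hy₂r, hry₂, hrr]
    linear_combination hk
  have hv' : v = h v u • u + r := by rw [hr]; abel
  by_cases hq : q = 2
  · -- dimension at least four
    have hn4 : 4 ≤ n := by omega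
    obtain ⟨w, hw, hww⟩ := unit_perp hF ![u, r, f] ![u, f, r]
      (fun i => by
        fin_cases i
        · exact Submodule.subset_span ⟨0, rfl⟩
        · exact Submodule.subset_span ⟨2, rfl⟩
        · exact Submodule.subset_span ⟨1, rfl⟩)
      (fun i j => by
        fin_cases i <;> fin_cases j <;> simp [hu, hur, huf, hfu, hru, hff, hrr, hfr, hrf])
      (by omega)
    have hwu : h w u = 0 := hw 0
    have hwv : h w v = 0 := by
      have hwr : h w r = 0 := hw 1
      rw [hv', h_add_right hF, h_smul_right hF, hwu, hwr, mul_zero, add_zero]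
    have huw : h u w = 0 := by rw [← h_swap hF w u, hwu, map_zero]
    obtain ⟨g₁, m₁, e₁⟩ := trans_nondeg hF hn hu hww (by rw [huw, zero_mul]; exact zero_ne_one)
    obtain ⟨g₂, m₂, e₂⟩ := trans_nondeg hF hn hww hv (by rw [hwv, zero_mul]; exact zero_ne_one)
    refine ⟨g₂ * g₁, mul_mem m₂ m₁, ?_⟩
    show (g₂.1.1 * g₁.1.1) *ᵥ u = v
    rw [← mulVec_mulVec, e₁, e₂]
  · obtain ⟨β, hβ0, hβ⟩ : ∃ β : F, β ≠ 0 ∧ β * σ β ≠ 1 := by
      by_contra hno
      push Not at hno
      have hq1 := (UnitaryBasic.frob_exists hF).1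
      have hsub : (Finset.univ.erase (0 : F)).val ≤ (Polynomial.X ^ (q + 1) - Polynomial.C 1 : Polynomial F).roots := by
        rw [Multiset.le_iff_subset (Finset.nodup _)]
        intro x hx
        have hx0 : x ≠ 0 := (Finset.mem_erase.mp hx).1
        rw [Polynomial.mem_roots (Polynomial.X_pow_sub_C_ne_zero (by omega) 1)]
        simp only [Polynomial.IsRoot, Polynomial.eval_sub, Polynomial.eval_pow, Polynomial.eval_X,
          Polynomial.eval_C]
        rw [pow_succ', ← frob_apply hF, hno x hx0, sub_self]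
      have hc := (Multiset.card_le_card hsub).trans (Polynomial.card_roots' _)
      rw [Polynomial.natDegree_X_pow_sub_C, ← Finset.card_def, Finset.card_erase_of_mem (Finset.mem_univ _),
        Finset.card_univ, hF] at hc
      have : 3 * q ≤ q * q := Nat.mul_le_mul_right q (by omega)
      rw [sq] at hc
      omega
    obtain ⟨d, hd1⟩ := exists_trace_one hF
    have hσβ : σ β ≠ 0 := fun e => hβ0 (by simpa [frob_frob hF] using congrArg σ e)
    set α := d / σ β with hα
    set w := α • r + β • f with hw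
    have hww : h w w = 1 := by
      rw [hw]
      simp only [h_add_left, h_add_right hF, h_smul_left, h_smul_right hF, hrr, hff, hrf, hfr]
      have e1 : α * σ β = d := div_mul_cancel₀ _ hσβ
      have e2 : β * σ α = σ d := by rw [← e1, map_mul, frob_frob hF]; ring
      linear_combination hd1 + e1 + e2
    have huw : h u w = 0 := by
      rw [hw, h_add_right hF, h_smul_right hF, h_smul_right hF, hur, huf]; simp
    have hwu : h w u = 0 := by rw [← h_swap hF u w, huw, map_zero]
    have hwr : h w r = β := by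
      rw [hw, h_add_left, h_smul_left, h_smul_left, hrr, hfr]; simp
    have hwv : h w v = β := by
      rw [hv', h_add_right hF, h_smul_right hF, hwu, hwr]; simp
    obtain ⟨g₁, m₁, e₁⟩ := trans_nondeg hF hn hu hww (by rw [huw, zero_mul]; exact zero_ne_one)
    obtain ⟨g₂, m₂, e₂⟩ := trans_nondeg hF hn hww hv (by rw [hwv, ← h_swap hF w v, hwv]; exact hβ)
    refine ⟨g₂ * g₁, mul_mem m₂ m₁, ?_⟩
    show (g₂.1.1 * g₁.1.1) *ᵥ u = v
    rw [← mulVec_mulVec, e₁, e₂]

/-- Elements of determinant one are products of transvections. -/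
theorem det_one_mem (hn : 3 ≤ n) (h32 : ¬ (n = 3 ∧ q = 2)) (g : Cfsg.GU n F q) (hg : g.1.1.det = 1) :
    g ∈ Subgroup.closure (Trans (n := n) hF) := by
  classical
  set N := Subgroup.closure (Trans (n := n) hF)
  set π := QuotientGroup.mk' N
  set e₀ := (Pi.single (⟨0, by omega⟩ : Fin n) 1 : Fin n → F)
  have hee : h e₀ e₀ = 1 := by rw [UnitaryOrder.herm_single_right hF]; simp [e₀]
  have hrep : ∀ g : Cfsg.GU n F q, ∃ hω : Good hF e₀ (g.1.1.det - 1),
      π g = π (tg hF e₀ (g.1.1.det - 1) hω) := by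
    intro g
    have hg' : g ∈ Subgroup.closure {g : Cfsg.GU n F q | ∃ z c hg, g = tg hF z c hg} := by
      rw [gu_generated hF]; trivial
    induction hg' using Subgroup.closure_induction with
    | mem x hx =>
      obtain ⟨z, c, hgd, rfl⟩ := hx
      rw [det_tg]
      have hω : Good hF e₀ (1 + c * h z z - 1) := by
        unfold Good
        rw [hee, map_sub, map_add, map_one, map_mul, h_swap hF z z]
        unfold Good at hgd
        linear_combination (h z z) * hgd
      refine ⟨hω, ?_⟩
      by_cases hz : h z z = 0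
      · have e1 : tg hF e₀ (1 + c * h z z - 1) hω = 1 := gu_ext fun x => by
          rw [tg_mulVec, hz]
          show _ = (1 : Matrix (Fin n) (Fin n) F) *ᵥ x
          simp
        rw [e1, map_one]
        exact (QuotientGroup.eq_one_iff _).mpr (Subgroup.subset_closure ⟨z, c, hgd, hz, rfl⟩)
      · obtain ⟨l, hl⟩ := exists_norm_eq hF (c := (h z z)⁻¹) (by rw [map_inv₀, h_swap hF])
        set u := l • z
        have hu : h u u = 1 := by
          rw [h_smul_left, h_smul_right hF, ← mul_assoc, hl, inv_mul_cancel₀ hz]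
        obtain ⟨k, hk, hku⟩ := trans_transitive hF hn h32 hee hu
        obtain ⟨hg', hconj⟩ := conj_tg hF k e₀ _ hω
        have e1 : tg hF z c hgd = tg hF (k.1.1 *ᵥ e₀) (1 + c * h z z - 1) hg' := gu_ext fun x => by
          rw [tg_mulVec, tg_mulVec, hku, h_smul_right hF, smul_smul]
          congr 2
          linear_combination (-(c * h x z * h z z)) * hl + (-(c * h x z)) * (inv_mul_cancel₀ hz)
        have hk1 : π k = 1 := (QuotientGroup.eq_one_iff _).mpr hk
        rw [e1, ← hconj, map_mul, map_mul, map_inv, hk1, inv_one, one_mul, mul_one]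
    | one =>
      have hω : Good hF e₀ ((1 : Cfsg.GU n F q).1.1.det - 1) := by
        unfold Good
        simp
      refine ⟨hω, congrArg π (gu_ext fun x => ?_)⟩
      rw [tg_mulVec]
      simp
    | mul a b _ _ ha hb =>
      obtain ⟨ha', ea⟩ := ha
      obtain ⟨hb', eb⟩ := hb
      have hdet : (a * b).1.1.det = a.1.1.det * b.1.1.det := Matrix.det_mul _ _
      have hω : Good hF e₀ ((a * b).1.1.det - 1) := by
        rw [hdet]
        unfold Good at ha' hb' ⊢
        rw [map_sub, map_mul, map_one, hee] at *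
        linear_combination (b.1.1.det * σ b.1.1.det) * ha' + hb'
      refine ⟨hω, ?_⟩
      rw [map_mul, ea, eb, ← map_mul]
      refine congrArg π (gu_ext fun x => ?_)
      show ((tg hF e₀ _ ha').1.1 * (tg hF e₀ _ hb').1.1) *ᵥ x = _
      rw [← mulVec_mulVec, tg_mulVec, tg_mulVec, tg_mulVec, h_add_left, h_smul_left, hee, hdet]
      module
    | inv a _ ha =>
      obtain ⟨ha', ea⟩ := ha
      have hd : a⁻¹.1.1.det * a.1.1.det = 1 := by
        rw [← Matrix.det_mul, show a⁻¹.1.1 * a.1.1 = 1 from by exact_mod_cast a.1.inv_mul, Matrix.det_one]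
      have hd' : σ a⁻¹.1.1.det * σ a.1.1.det = 1 := by rw [← map_mul, hd, map_one]
      have hω : Good hF e₀ (a⁻¹.1.1.det - 1) := by
        unfold Good at ha' ⊢
        rw [map_sub, map_one, hee] at *
        linear_combination (-(a⁻¹.1.1.det * σ a⁻¹.1.1.det)) * ha' +
          (σ a⁻¹.1.1.det * σ a.1.1.det) * hd + hd'
      refine ⟨hω, ?_⟩
      rw [map_inv, ea, ← map_inv]
      refine congrArg π (inv_eq_of_mul_eq_one_right (gu_ext fun x => ?_))
      show ((tg hF e₀ _ ha').1.1 * (tg hF e₀ _ hω).1.1) *ᵥ x = (1 : Matrix (Fin n) (Fin n) F) *ᵥ x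
      rw [← mulVec_mulVec, tg_mulVec, tg_mulVec, h_add_left, h_smul_left, hee, one_mulVec, add_assoc,
        ← add_smul]
      rw [show (a⁻¹.1.1.det - 1) * h x e₀ + (a.1.1.det - 1) * (h x e₀ + (a⁻¹.1.1.det - 1) * h x e₀ * 1) = 0 by
        linear_combination (h x e₀) * hd, zero_smul, add_zero]
  obtain ⟨hω, e⟩ := hrep g
  have e1 : tg hF e₀ (g.1.1.det - 1) hω = 1 := gu_ext fun x => by
    rw [tg_mulVec, hg]
    simp
  rw [e1, map_one] at e
  exact (QuotientGroup.eq_one_iff g).mp e

end CfsgLib.UnitaryTransvection
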