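import Mathlib
import Cfsg.Agent.Lib.UnitaryTransvection
import Cfsg.Prelude.Def_Classical

/-! Transvections generate `SU`, are commutators, and `PSU` is simple. -/

set_option autoImplicit false
set_option linter.style.haveILetI false

namespace CfsgLib.UnitarySimple

open Matrix CfsgLib.UnitaryTransvection Module
open scoped commutatorElement Pointwise

variable {F : Type*} [Field F] [Fintype F] {q n : ℕ} (hF : Fintype.card F = q ^ 2)

local notation "h" => Cfsg.hermForm n F q
local notation "σ" => frob hF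

/-- The matrix of an element of `SU`. -/
def mat (g : Cfsg.SU n F q) : Matrix (Fin n) (Fin n) F :=
  ((g : Matrix.SpecialLinearGroup (Fin n) F) : Matrix (Fin n) (Fin n) F)

theorem mat_mul (g k : Cfsg.SU n F q) : mat (g * k) = mat g * mat k := rfl

omit [Fintype F] in
theorem mat_one : mat (1 : Cfsg.SU n F q) = 1 := rfl

theorem su_h (g : Cfsg.SU n F q) (u v : Fin n → F) : h (mat g *ᵥ u) (mat g *ᵥ v) = h u v := g.2 u v

theorem su_ext {g k : Cfsg.SU n F q} (e : ∀ x, mat g *ᵥ x = mat k *ᵥ x) : g = k :=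
  Subtype.ext (Subtype.ext (Matrix.ext_of_mulVec_single fun i => e _))

theorem conj_cancel {G : Type*} [Group G] (x t : G) :
    (MulAut.conj x)⁻¹ • (x * t * x⁻¹) = t := by
  simp [MulAut.smul_def, mul_assoc]

theorem conj_cancel' {G : Type*} [Group G] (x a : G) :
    x * ((MulAut.conj x)⁻¹ • a) * x⁻¹ = a := by
  simp [MulAut.smul_def, mul_assoc]

theorem mat_inv_mulVec (g : Cfsg.SU n F q) (x : Fin n → F) : mat g *ᵥ (mat g⁻¹ *ᵥ x) = x := by
  rw [mulVec_mulVec, ← mat_mul, mul_inv_cancel, mat_one, one_mulVec]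

theorem mat_inv_mulVec' (g : Cfsg.SU n F q) (x : Fin n → F) : mat g⁻¹ *ᵥ (mat g *ᵥ x) = x := by
  rw [mulVec_mulVec, ← mat_mul, inv_mul_cancel, mat_one, one_mulVec]

/-- An element of `SU` from an isometry of determinant one. -/
def mkSU (M : Matrix (Fin n) (Fin n) F) (hM : ∀ u v, h (M *ᵥ u) (M *ᵥ v) = h u v) (hd : M.det = 1) :
    Cfsg.SU n F q := ⟨⟨M, hd⟩, hM⟩

/-- The transvection group element. -/
def tv (v : Fin n → F) (hv : h v v = 0) (c : F) (hc : c + σ c = 0) : Cfsg.SU n F q :=
  mkSU (Cfsg.unitaryTransvection n q v c)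
    (tmat_isometry hF (show Good hF v c by unfold Good; rw [hv, mul_zero, add_zero, hc]))
    (by rw [det_tmat, hv, mul_zero, add_zero])

theorem tv_mulVec (v : Fin n → F) (hv : h v v = 0) (c : F) (hc : c + σ c = 0) (x : Fin n → F) :
    mat (tv hF v hv c hc) *ᵥ x = x + (c * h x v) • v := tmat_mulVec v c x

theorem conj_tv (g : Cfsg.SU n F q) (v : Fin n → F) (hv : h v v = 0) (c : F) (hc : c + σ c = 0) :
    g * tv hF v hv c hc * g⁻¹ = tv hF (mat g *ᵥ v) (by rw [su_h, hv]) c hc := by
  refine su_ext fun x => ?_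
  rw [mat_mul, mat_mul, ← mulVec_mulVec, ← mulVec_mulVec, tv_mulVec, tv_mulVec, mulVec_add, mulVec_smul,
    mat_inv_mulVec]
  conv_rhs => rw [← mat_inv_mulVec g x, su_h, mat_inv_mulVec]

/-- The set of transvections. -/
def TSet : Set (Cfsg.SU n F q) :=
  {A | ∃ (v : Fin n → F) (c : F), h v v = 0 ∧ mat A = Cfsg.unitaryTransvection n q v c}

omit [Fintype F] in
theorem tmat_zero (c : F) (x : Fin n → F) : Cfsg.unitaryTransvection n q (0 : Fin n → F) c *ᵥ x = x := by
  rw [tmat_mulVec, smul_zero, add_zero]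

theorem skew_of_tmat {v : Fin n → F} (hv : h v v = 0) (hv0 : v ≠ 0) {c : F}
    (hM : ∀ a b, h (Cfsg.unitaryTransvection n q v c *ᵥ a) (Cfsg.unitaryTransvection n q v c *ᵥ b) = h a b) :
    c + σ c = 0 := by
  obtain ⟨y, hy⟩ : ∃ y, h v y ≠ 0 := by by_contra e; push Not at e; exact hv0 (h_nondeg hF e)
  have hy' : h y v ≠ 0 := fun e => hy (by rw [← h_swap hF y v, e, map_zero])
  have := hM y y
  rw [tmat_mulVec, h_add_left, h_add_right hF, h_add_right hF, h_smul_left, h_smul_left, h_smul_right hF,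
    h_smul_right hF, map_mul, h_swap hF y v, hv] at this
  have h2 : (c + σ c) * (h y v * h v y) = 0 := by linear_combination this
  exact (mul_eq_zero.mp h2).resolve_right (mul_ne_zero hy' hy)

include hF in
theorem generated (hn : 3 ≤ n) (h32 : ¬ (n = 3 ∧ q = 2)) :
    Subgroup.closure (TSet (F := F) (q := q) (n := n)) = ⊤ := by
  let ι : Cfsg.SU n F q →* Cfsg.GU n F q :=
    { toFun := fun g => mkGU hF (mat g) (su_h g)
      map_one' := gu_ext fun x => rfl
      map_mul' := fun g k => gu_ext fun x => rfl }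
  have hι : Function.Injective ι := fun g k e =>
    su_ext fun x => congrArg (fun a : Cfsg.GU n F q => a.1.1 *ᵥ x) e
  have hle : Subgroup.closure (Trans (n := n) hF) ≤ (Subgroup.closure (TSet (F := F) (q := q) (n := n))).map ι := by
    rw [Subgroup.closure_le]
    rintro g ⟨z, c, hg, hz, rfl⟩
    have hc : c + σ c = 0 := by
      have := hg
      unfold Good at this
      rwa [hz, mul_zero, add_zero] at this
    exact ⟨tv hF z hz c hc, Subgroup.subset_closure ⟨z, c, hz, rfl⟩, gu_ext fun x => rfl⟩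
  refine eq_top_iff.mpr fun g _ => ?_
  obtain ⟨k, hk, e⟩ := hle (det_one_mem hF hn h32 (ι g) (g : Matrix.SpecialLinearGroup (Fin n) F).2)
  exact hι e ▸ hk

/-! ### Root elements -/

/-- The root matrix. -/
def umat (v a : Fin n → F) (s : F) : Matrix (Fin n) (Fin n) F :=
  1 + Matrix.vecMulVec a (fun j => (v j) ^ q) - Matrix.vecMulVec v (fun j => (a j) ^ q) +
    s • Matrix.vecMulVec v (fun j => (v j) ^ q)

omit [Fintype F] in
theorem umat_mulVec (v a : Fin n → F) (s : F) (x : Fin n → F) :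
    umat (q := q) v a s *ᵥ x = x + h x v • a - h x a • v + (s * h x v) • v := by
  have e : ∀ u : Fin n → F, (fun j => u j ^ q) ⬝ᵥ x = h x u := fun u => dotProduct_comm _ _
  simp only [umat, Matrix.add_mulVec, Matrix.sub_mulVec, Matrix.one_mulVec, Matrix.smul_mulVec,
    Matrix.vecMulVec_mulVec, op_smul_eq_smul, smul_smul, e]

include hF in
theorem umat_isometry {v a : Fin n → F} {s : F} (hv : h v v = 0) (hav : h a v = 0)
    (hs : h a a + s + σ s = 0) (x y : Fin n → F) :
    h (umat (q := q) v a s *ᵥ x) (umat (q := q) v a s *ᵥ y) = h x y := by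
  have hva : h v a = 0 := by rw [← h_swap hF a v, hav, map_zero]
  rw [umat_mulVec, umat_mulVec]
  simp only [h_add_left, h_add_right hF, h_sub_left, h_sub_right hF, h_smul_left, h_smul_right hF,
    map_mul, h_swap hF, hv, hav, hva]
  linear_combination (h x v * h v y) * hs

include hF in
theorem umat_mul {v a b : Fin n → F} {s t : F} (hv : h v v = 0) (hav : h a v = 0) (hbv : h b v = 0) :
    umat (q := q) v a s * umat (q := q) v b t = umat (q := q) v (a + b) (s + t - h b a) := by
  have hva : h v a = 0 := by rw [← h_swap hF a v, hav, map_zero]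
  refine Matrix.ext_of_mulVec_single fun i => ?_
  rw [← mulVec_mulVec, umat_mulVec, umat_mulVec, umat_mulVec]
  simp only [h_add_left, h_add_right hF, h_sub_left, h_smul_left, hv, hbv, hva]
  module

include hF in
theorem umat_zero (v : Fin n → F) : umat (q := q) v 0 0 = 1 := by
  have hq : q ≠ 0 := by have := (UnitaryBasic.frob_exists hF).1; omega
  have h0 : (fun j : Fin n => ((0 : Fin n → F) j) ^ q) = 0 := funext fun j => by simp [zero_pow hq]
  simp [umat]
  right
  exact h0

include hF in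
theorem det_umat {v a : Fin n → F} {s : F} (hv : h v v = 0) (hav : h a v = 0) :
    (umat (q := q) v a s).det = 1 := by
  obtain ⟨p, hp⟩ := CharP.exists F
  obtain ⟨d, hpp, -⟩ := FiniteField.card F p
  haveI := Fact.mk hpp
  have hz : h (0 : Fin n → F) v = 0 := by simp [Cfsg.hermForm]
  have hk : ∀ (a : Fin n → F) (s : F), h a v = 0 → ∀ k : ℕ,
      h ((k : F) • a) v = 0 ∧ ∃ r : F, umat (q := q) v a s ^ k = umat (q := q) v ((k : F) • a) r ∧
        (a = 0 → r = k * s) := by
    intro a s hav k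
    induction k with
    | zero => exact ⟨by rw [h_smul_left, hav, mul_zero], 0, by simp [umat_zero hF], fun _ => by simp⟩
    | succ k ih =>
      obtain ⟨h1, r, hr, hr0⟩ := ih
      refine ⟨by rw [h_smul_left, hav, mul_zero], r + s - h a ((k : F) • a), ?_, ?_⟩
      · rw [pow_succ, hr, umat_mul hF hv h1 hav]
        congr 1
        push_cast
        rw [add_smul, one_smul]
      · intro ha
        subst ha
        rw [hr0 rfl]
        simp [Cfsg.hermForm]
        ring
  obtain ⟨-, r, hr, -⟩ := hk a s hav p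
  rw [CharP.cast_eq_zero, zero_smul] at hr
  obtain ⟨-, r', hr', hr0⟩ := hk 0 r hz p
  rw [CharP.cast_eq_zero, zero_smul] at hr'
  rw [hr0 rfl, CharP.cast_eq_zero, zero_mul, umat_zero hF, ← hr, ← pow_mul] at hr'
  have h1 := congrArg Matrix.det hr'
  rw [Matrix.det_pow, Matrix.det_one] at h1
  have h2 : (umat (q := q) v a s).det ^ (p ^ 2) = 1 := by rw [sq]; exact h1
  exact iterateFrobenius_inj F p 2 (by simp [iterateFrobenius_def, h2])

/-- A root element. -/
def ru {v a : Fin n → F} {s : F} (hv : h v v = 0) (hav : h a v = 0) (hs : h a a + s + σ s = 0) :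
    Cfsg.SU n F q :=
  mkSU (umat (q := q) v a s) (umat_isometry hF hv hav hs) (det_umat hF hv hav)

include hF in
theorem exists_partner {v : Fin n → F} (hv0 : v ≠ 0) : ∃ y, h v y = 1 ∧ h y v = 1 := by
  obtain ⟨y, hy⟩ : ∃ y, h v y ≠ 0 := by by_contra e; push Not at e; exact hv0 (h_nondeg hF e)
  refine ⟨σ (h v y)⁻¹ • y, ?_, ?_⟩
  · rw [h_smul_right hF, frob_frob hF, inv_mul_cancel₀ hy]
  · rw [h_smul_left, ← h_swap hF v y, ← map_mul, inv_mul_cancel₀ hy, map_one]

include hF in
/-- Every transvection is a commutator. -/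
theorem tv_mem_commutatorSet (hn : 3 ≤ n) {v : Fin n → F} (hv : h v v = 0) {A : Cfsg.SU n F q} {c : F}
    (hA : mat A = Cfsg.unitaryTransvection n q v c) : A ∈ commutatorSet (Cfsg.SU n F q) := by
  by_cases hv0 : v = 0
  · refine ⟨1, 1, ?_⟩
    rw [commutatorElement_self]
    exact su_ext fun x => by rw [hA, hv0, tmat_zero, mat_one, one_mulVec]
  have hc : c + σ c = 0 := skew_of_tmat hF hv hv0 (by rw [← hA]; exact su_h A)
  obtain ⟨y, hvy, hyv⟩ := exists_partner hF hv0
  obtain ⟨w, hw, hww⟩ := unit_perp hF ![v, y] ![y - h y y • v, v]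
    (fun i => by
      fin_cases i
      · exact Submodule.sub_mem _ (Submodule.subset_span ⟨1, rfl⟩)
          (Submodule.smul_mem _ _ (Submodule.subset_span ⟨0, rfl⟩))
      · exact Submodule.subset_span ⟨0, rfl⟩)
    (fun i j => by fin_cases i <;> fin_cases j <;> simp [h_sub_left, h_smul_left, hv, hvy, hyv])
    (by omega)
  have hwv : h w v = 0 := hw 0
  obtain ⟨d, hd⟩ := exists_trace_one hF
  set b := (-(d * c)) • w with hb
  have hbv : h b v = 0 := by rw [hb, h_smul_left, hwv, mul_zero]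
  obtain ⟨s, hs⟩ := WittExtension.exists_trace (frob_ne_id hF) (frob_frob hF) (c := -(h w w))
    (by rw [map_neg, h_swap hF])
  obtain ⟨t, ht⟩ := WittExtension.exists_trace (frob_ne_id hF) (frob_frob hF) (c := -(h b b))
    (by rw [map_neg, h_swap hF])
  have hs' : h w w + s + σ s = 0 := by linear_combination hs
  have ht' : h b b + t + σ t = 0 := by linear_combination ht
  set U₁ := ru hF hv hwv hs'
  set U₂ := ru hF hv hbv ht'
  have key : U₁ * U₂ = A * (U₂ * U₁) := su_ext fun x => by
    have e1 : mat (U₁ * U₂) = umat (q := q) v (w + b) (s + t - h b w) := umat_mul hF hv hwv hbv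
    have e2 : mat (U₂ * U₁) = umat (q := q) v (b + w) (t + s - h w b) := umat_mul hF hv hbv hwv
    have hwb : h w b - h b w = c := by
      rw [hb, h_smul_right hF, h_smul_left, hww]
      simp only [map_neg, map_mul]
      linear_combination c * hd - σ d * hc
    rw [mat_mul A, ← mulVec_mulVec, hA, e1, e2, tmat_mulVec, umat_mulVec, umat_mulVec]
    have e3 : h (x + h x v • (b + w) - h x (b + w) • v + ((t + s - h w b) * h x v) • v) v = h x v := by
      simp [h_add_left, h_sub_left, h_smul_left, hbv, hwv, hv]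
    rw [e3, add_comm b w, ← hwb]
    module
  refine ⟨U₁, U₂, ?_⟩
  rw [commutatorElement_def, key]
  group

include hF in
theorem perfect (hn : 3 ≤ n) (h32 : ¬ (n = 3 ∧ q = 2)) : commutator (Cfsg.SU n F q) = ⊤ := by
  rw [eq_top_iff, ← generated hF hn h32, Subgroup.closure_le]
  rintro A ⟨v, c, hv, hA⟩
  rw [SetLike.mem_coe, _root_.commutator_eq_closure]
  exact Subgroup.subset_closure (tv_mem_commutatorSet hF hn hv hA)

/-! ### The action on isotropic points -/

/-- Isotropic points. -/
def IPt (n : ℕ) (F : Type*) [Field F] (q : ℕ) : Type _ :=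
  {S : Submodule F (Fin n → F) // ∃ e, e ≠ 0 ∧ Cfsg.hermForm n F q e e = 0 ∧ S = Submodule.span F {e}}

theorem mat_ne_zero (g : Cfsg.SU n F q) {e : Fin n → F} (he : e ≠ 0) : mat g *ᵥ e ≠ 0 := fun e' =>
  he (by rw [← mat_inv_mulVec' g e, e', mulVec_zero])

instance : MulAction (Cfsg.SU n F q) (IPt n F q) where
  smul g x := ⟨x.1.map (Matrix.mulVecLin (mat g)), by
    obtain ⟨e, he0, he, hx⟩ := x.2
    exact ⟨mat g *ᵥ e, mat_ne_zero g he0, by rw [su_h, he], by rw [hx, Submodule.map_span, Set.image_singleton]; rfl⟩⟩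
  one_smul x := Subtype.ext (show x.1.map (Matrix.mulVecLin (mat 1)) = x.1 by
    rw [mat_one, Matrix.mulVecLin_one, Submodule.map_id])
  mul_smul g k x := Subtype.ext (show x.1.map (Matrix.mulVecLin (mat (g * k))) =
      (x.1.map (Matrix.mulVecLin (mat k))).map (Matrix.mulVecLin (mat g)) by
    rw [mat_mul, Matrix.mulVecLin_mul, Submodule.map_comp])

/-- The point of an isotropic vector. -/
def pt {e : Fin n → F} (he0 : e ≠ 0) (he : h e e = 0) : IPt n F q := ⟨Submodule.span F {e}, e, he0, he, rfl⟩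

omit [Fintype F] in
theorem pt_surj (x : IPt n F q) : ∃ (e : Fin n → F) (he0 : e ≠ 0) (he : h e e = 0), x = pt he0 he := by
  obtain ⟨e, he0, he, hx⟩ := x.2
  exact ⟨e, he0, he, Subtype.ext hx⟩

omit [Fintype F] in
theorem pt_eq {e f : Fin n → F} (he0 : e ≠ 0) (he : h e e = 0) (hf0 : f ≠ 0) (hf : h f f = 0) (c : F)
    (hc : e = c • f) : pt he0 he = pt hf0 hf :=
  Subtype.ext (show Submodule.span F {e} = Submodule.span F {f} by
    rw [hc, Submodule.span_singleton_smul_eq (IsUnit.mk0 c fun e0 => he0 (by rw [hc, e0, zero_smul]))])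

theorem smul_pt (g : Cfsg.SU n F q) {e : Fin n → F} (he0 : e ≠ 0) (he : h e e = 0) :
    g • pt he0 he = pt (mat_ne_zero g he0) ((su_h g e e).trans he) :=
  Subtype.ext (show (Submodule.span F {e}).map (Matrix.mulVecLin (mat g)) = _ by
    rw [Submodule.map_span, Set.image_singleton]; rfl)

theorem smul_pt_eq (g : Cfsg.SU n F q) {e f : Fin n → F} (he0 : e ≠ 0) (he : h e e = 0) (hf0 : f ≠ 0)
    (hf : h f f = 0) (c : F) (hc : mat g *ᵥ e = c • f) : g • pt he0 he = pt hf0 hf :=
  (smul_pt g he0 he).trans (pt_eq _ _ hf0 hf c hc)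

include hF in
theorem move {e y z : Fin n → F} (he : h e e = 0) (hy : h y y = 0) (hz : h z z = 0)
    (hye : h y e ≠ 0) (hze : h z e ≠ 0) :
    ∃ g : Cfsg.SU n F q, mat g *ᵥ e = e ∧ ∃ c : F, mat g *ᵥ y = c • z := by
  set c := h y e / h z e with hc
  set z' := c • z with hz'
  have hz'e : h z' e = h y e := by rw [hz', h_smul_left, hc, div_mul_cancel₀ _ hze]
  have hz'z : h z' z' = 0 := by rw [hz', h_smul_left, h_smul_right hF, hz]; simp
  set a := (h y e)⁻¹ • (z' - y) with ha
  have hae : h a e = 0 := by rw [ha, h_smul_left, h_sub_left, hz'e, sub_self, mul_zero]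
  have hea : h e a = 0 := by rw [← h_swap hF a e, hae, map_zero]
  set s := h y a / h y e with hs
  have hcond : h a a + s + σ s = 0 := by
    have hey : σ (h y e) ≠ 0 := fun e0 => hye (by simpa [frob_frob hF] using congrArg σ e0)
    rw [hs, ha]
    simp only [h_smul_left, h_smul_right hF, h_sub_left, h_sub_right hF, hz'z, hy, map_div₀, map_mul,
      map_inv₀, map_sub, frob_frob hF, h_swap hF]
    field_simp
    rw [← h_swap hF y z']
    simp only [frob_frob hF, map_zero]
    ring
  refine ⟨ru hF he hae hcond, ?_, c, ?_⟩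
  · show umat (q := q) e a s *ᵥ e = e
    rw [umat_mulVec, he, hea]; simp
  · show umat (q := q) e a s *ᵥ y = c • z
    rw [umat_mulVec, ← hz', show s * h y e = h y a by rw [hs, div_mul_cancel₀ _ hye], sub_add_cancel,
      ha, smul_smul, mul_inv_cancel₀ hye, one_smul]
    abel

include hF in
theorem avoid {e z : Fin n → F} (he0 : e ≠ 0) (he : h e e = 0) (hz0 : z ≠ 0) :
    ∃ f, h f f = 0 ∧ h f e ≠ 0 ∧ h f z ≠ 0 := by
  obtain ⟨y1, hy1⟩ : ∃ y, h y e ≠ 0 := by
    obtain ⟨y, -, hy⟩ := exists_partner hF he0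
    exact ⟨y, by rw [hy]; exact one_ne_zero⟩
  obtain ⟨y2, hy2⟩ : ∃ y, h y z ≠ 0 := by
    obtain ⟨y, -, hy⟩ := exists_partner hF hz0
    exact ⟨y, by rw [hy]; exact one_ne_zero⟩
  obtain ⟨y, hye, hyz⟩ : ∃ y, h y e ≠ 0 ∧ h y z ≠ 0 := by
    by_cases h1 : h y1 z = 0
    · by_cases h2 : h y2 e = 0
      · exact ⟨y1 + y2, by rw [h_add_left, h2, add_zero]; exact hy1, by rw [h_add_left, h1, zero_add]; exact hy2⟩
      · exact ⟨y2, h2, hy2⟩
    · exact ⟨y1, hy1, h1⟩
  have hey : h e y ≠ 0 := fun e0 => hye (by rw [← h_swap hF e y, e0, map_zero])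
  obtain ⟨t, ht⟩ := WittExtension.exists_trace (frob_ne_id hF) (frob_frob hF) (c := -(h y y))
    (by rw [map_neg, h_swap hF])
  obtain ⟨c₀, hc0, hc⟩ := exists_skew hF
  have good : ∀ k : F, k * h e y + σ (k * h e y) = -(h y y) → h (y + k • e) (y + k • e) = 0 ∧
      h (y + k • e) e ≠ 0 := fun k hk => by
    refine ⟨?_, by rw [h_add_left, h_smul_left, he, mul_zero, add_zero]; exact hye⟩
    rw [h_add_left, h_add_right hF, h_add_right hF, h_smul_left, h_smul_left, h_smul_right hF,
      h_smul_right hF, he]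
    rw [map_mul, h_swap hF e y] at hk
    linear_combination hk
  have e1 : t / h e y * h e y + σ (t / h e y * h e y) = -(h y y) := by
    rw [div_mul_cancel₀ _ hey]; linear_combination ht
  have e2 : (t + c₀) / h e y * h e y + σ ((t + c₀) / h e y * h e y) = -(h y y) := by
    rw [div_mul_cancel₀ _ hey, map_add]; linear_combination ht + hc
  by_cases hb : h (y + (t / h e y) • e) z = 0
  · refine ⟨_, (good _ e2).1, (good _ e2).2, fun hb2 => ?_⟩
    rw [h_add_left, h_smul_left] at hb hb2
    have hez : h e z = 0 := by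
      have h3 : c₀ / h e y * h e z = 0 := by
        rw [add_div] at hb2
        linear_combination hb2 - hb
      exact (mul_eq_zero.mp h3).resolve_left (div_ne_zero hc0 hey)
    rw [hez, mul_zero, add_zero] at hb
    exact hyz hb
  · exact ⟨_, (good _ e1).1, (good _ e1).2, hb⟩

include hF in
theorem primitive : MulAction.IsPreprimitive (Cfsg.SU n F q) (IPt n F q) := by
  have hne : ∀ {v w : Fin n → F}, h v w ≠ 0 → v ≠ 0 := fun hvw e => hvw (by rw [e]; simp [Cfsg.hermForm])
  have hmove : ∀ {f y z : Fin n → F} (hy0 : y ≠ 0) (hy : h y y = 0) (hz0 : z ≠ 0) (hz : h z z = 0)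
      (hf0 : f ≠ 0) (hf : h f f = 0), h y f ≠ 0 → h z f ≠ 0 →
      ∃ g : Cfsg.SU n F q, g • pt hy0 hy = pt hz0 hz ∧ g • pt hf0 hf = pt hf0 hf := by
    intro f y z hy0 hy hz0 hz hf0 hf h1 h2
    obtain ⟨g, hgf, c, hgy⟩ := move hF hf hy hz h1 h2
    exact ⟨g, smul_pt_eq g hy0 hy hz0 hz c hgy, smul_pt_eq g hf0 hf hf0 hf 1 (by rw [hgf, one_smul])⟩
  haveI : MulAction.IsPretransitive (Cfsg.SU n F q) (IPt n F q) := ⟨fun x y => by
    obtain ⟨e, he0, he, rfl⟩ := pt_surj x
    obtain ⟨z, hz0, hz, rfl⟩ := pt_surj y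
    obtain ⟨f, hf, hfe, hfz⟩ := avoid hF he0 he hz0
    obtain ⟨g, hg, -⟩ := hmove he0 he hz0 hz (hne hfe) hf
      (fun e0 => hfe (by rw [← h_swap hF e f, e0, map_zero]))
      (fun e0 => hfz (by rw [← h_swap hF z f, e0, map_zero]))
    exact ⟨g, hg⟩⟩
  refine ⟨fun {S} hS => ?_⟩
  by_cases hsub : S.Subsingleton
  · exact Or.inl hsub
  right
  have hstab : ∀ g : Cfsg.SU n F q, ∀ x ∈ S, g • x ∈ S → g • S = S := fun g x hx hgx => by
    have := hS.smul_eq_smul_of_nonempty (g₁ := g) (g₂ := 1) ⟨g • x, Set.smul_mem_smul_set hx, by rw [one_smul]; exact hgx⟩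
    rwa [one_smul] at this
  have full : ∀ e f (he0 : e ≠ 0) (he : h e e = 0) (hf0 : f ≠ 0) (hf : h f f = 0), pt he0 he ∈ S → pt hf0 hf ∈ S →
      h f e ≠ 0 → S = Set.univ := by
    have extend : ∀ e f (he0 : e ≠ 0) (he : h e e = 0) (hf0 : f ≠ 0) (hf : h f f = 0), pt he0 he ∈ S → pt hf0 hf ∈ S →
        h f e ≠ 0 → ∀ z (hz0 : z ≠ 0) (hz : h z z = 0), h z e ≠ 0 → pt hz0 hz ∈ S := by
      intro e f he0 he hf0 hf heS hfS hef z hz0 hz hez
      obtain ⟨g, hg, hge⟩ := hmove hf0 hf hz0 hz he0 he hef hez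
      have := hstab g _ heS (by rw [hge]; exact heS)
      rw [← hg, ← this]
      exact Set.smul_mem_smul_set hfS
    intro e f he0 he hf0 hf heS hfS hef
    rw [Set.eq_univ_iff_forall]
    intro x
    obtain ⟨z, hz0, hz, rfl⟩ := pt_surj x
    obtain ⟨y, hy, hye, hyz⟩ := avoid hF he0 he hz0
    have hy0 : y ≠ 0 := hne hyz
    have hyS := extend e f he0 he hf0 hf heS hfS hef y hy0 hy hye
    exact extend y e hy0 hy he0 he hyS heS (fun e0 => hye (by rw [← h_swap hF e y, e0, map_zero])) z hz0 hz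
      (fun e0 => hyz (by rw [← h_swap hF z y, e0, map_zero]))
  obtain ⟨x, hxS, x', hxS', hxy⟩ := Set.not_subsingleton_iff.mp hsub
  obtain ⟨e, he0, he, rfl⟩ := pt_surj x
  obtain ⟨v, hv0, hv, rfl⟩ := pt_surj x'
  by_cases hev : h v e = 0
  · obtain ⟨y0, hy0v, hy0e⟩ : ∃ y, h y v = 0 ∧ h y e ≠ 0 := by
      obtain ⟨p, -, hp⟩ := exists_partner hF hv0
      by_contra hcon
      push Not at hcon
      refine hxy (pt_eq he0 he hv0 hv (σ (h p e)) (sub_eq_zero.mp (h_nondeg hF fun y => ?_)))
      have h1 := hcon (y - h y v • p) (by rw [h_sub_left, h_smul_left, hp, mul_one, sub_self])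
      rw [h_sub_left, h_smul_left] at h1
      rw [h_sub_left, h_smul_left, ← h_swap hF y e, ← h_swap hF y v, ← map_mul, ← map_sub,
        show h y e - h p e * h y v = 0 by linear_combination h1, map_zero]
    have hev' : h e v = 0 := by rw [← h_swap hF v e, hev, map_zero]
    have hey0 : h e y0 ≠ 0 := fun e0 => hy0e (by rw [← h_swap hF e y0, e0, map_zero])
    obtain ⟨t, ht⟩ := WittExtension.exists_trace (frob_ne_id hF) (frob_frob hF) (c := -(h y0 y0))
      (by rw [map_neg, h_swap hF])
    set y := y0 + (t / h e y0) • e with hy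
    have hyy : h y y = 0 := by
      have e1 : t / h e y0 * h e y0 = t := div_mul_cancel₀ _ hey0
      have e2 : σ (t / h e y0) * h y0 e = σ t := by rw [← h_swap hF e y0, ← map_mul, e1]
      rw [hy, h_add_left, h_add_right hF, h_add_right hF, h_smul_left, h_smul_left, h_smul_right hF,
        h_smul_right hF, he]
      linear_combination ht + e1 + e2
    have hyv : h y v = 0 := by rw [hy, h_add_left, h_smul_left, hy0v, hev']; simp
    have hye : h y e ≠ 0 := by rw [hy, h_add_left, h_smul_left, he, mul_zero, add_zero]; exact hy0e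
    obtain ⟨c₀, hc0, hc⟩ := exists_skew hF
    set g := tv hF y hyy c₀ hc
    have hgv : mat g *ᵥ v = v := by rw [tv_mulVec, ← h_swap hF y v, hyv]; simp
    have hfix : g • pt hv0 hv = pt hv0 hv := smul_pt_eq g hv0 hv hv0 hv 1 (by rw [hgv, one_smul])
    have hS' := hstab g _ hxS' (by rw [hfix]; exact hxS')
    have hgeS : g • pt he0 he ∈ S := hS' ▸ Set.smul_mem_smul_set hxS
    rw [smul_pt] at hgeS
    refine full e (mat g *ᵥ e) he0 he _ _ hxS hgeS ?_
    rw [tv_mulVec, h_add_left, h_smul_left, he, zero_add, mul_assoc]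
    exact mul_ne_zero hc0 (mul_ne_zero (fun e0 => hye (by rw [← h_swap hF e y, e0, map_zero])) hye)
  · exact full e v he0 he hv0 hv hxS hxS' hev

include hF in
theorem exists_isotropic (hn : 2 ≤ n) : ∃ e : Fin n → F, e ≠ 0 ∧ h e e = 0 := by
  obtain ⟨l, hl⟩ := exists_norm_eq hF (c := (-1 : F)) (by rw [map_neg, map_one])
  set i : Fin n := ⟨0, by omega⟩
  set j : Fin n := ⟨1, by omega⟩
  have hij : i ≠ j := fun e => by simpa [i, j] using congrArg Fin.val e
  have he : ∀ a b : Fin n, h (Pi.single a 1) (Pi.single b 1) = if a = b then 1 else 0 := fun a b => by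
    rw [UnitaryOrder.herm_single_right hF, Pi.single_apply]
    simp [eq_comm]
  refine ⟨Pi.single i 1 + l • Pi.single j 1, fun e => ?_, ?_⟩
  · have := congrFun e i
    simp [hij] at this
  · simp [h_add_left, h_add_right hF, h_smul_left, h_smul_right hF, he, hij, hij.symm]
    linear_combination hl

include hF in
theorem scalar_of_fix (hn : 3 ≤ n) (g : Cfsg.SU n F q) (hg : ∀ x : IPt n F q, g • x = x) :
    ∃ c : F, ∀ v, mat g *ᵥ v = c • v := by
  have h1 : ∀ e, e ≠ 0 → h e e = 0 → ∃ l : F, mat g *ᵥ e = l • e := fun e he0 he => by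
    have h' := congrArg Subtype.val ((smul_pt g he0 he).symm.trans (hg (pt he0 he)))
    change Submodule.span F {mat g *ᵥ e} = Submodule.span F {e} at h'
    obtain ⟨l, hl⟩ := Submodule.mem_span_singleton.mp (h' ▸ Submodule.mem_span_singleton_self (mat g *ᵥ e))
    exact ⟨l, hl.symm⟩
  choose! lam hlam using h1
  have hall : ∀ e v, e ≠ 0 → v ≠ 0 → h e e = 0 → h v v = 0 → lam e = lam v := by
    intro e v he0 hv0 he hv
    by_cases hdep : ∃ t : F, v = t • e
    · obtain ⟨t, rfl⟩ := hdep
      have h' := hlam _ hv0 hv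
      rw [mulVec_smul, hlam e he0 he, smul_smul, smul_smul] at h'
      have ht : t ≠ 0 := fun e => hv0 (by rw [e, zero_smul])
      exact mul_left_cancel₀ ht ((smul_left_injective F he0 h').trans (mul_comm _ _))
    have key : ∀ k : F, k ≠ 0 → h (e + k • v) (e + k • v) = 0 → lam e = lam v := by
      intro k hk hsum
      have hsum0 : e + k • v ≠ 0 := fun e0 => hdep ⟨-k⁻¹, by
        rw [eq_neg_of_add_eq_zero_left e0, neg_smul, smul_neg, neg_neg, inv_smul_smul₀ hk]⟩
      have h' := hlam _ hsum0 hsum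
      rw [mulVec_add, mulVec_smul, hlam e he0 he, hlam v hv0 hv, smul_add] at h'
      set L := lam (e + k • v)
      have h'' : (lam e - L) • e = (L - lam v) • (k • v) := by
        rw [sub_smul, sub_smul, sub_eq_sub_iff_add_eq_add, smul_comm (lam v) k v, h']; abel
      by_cases hv' : L - lam v = 0
      · rw [hv', zero_smul, smul_eq_zero] at h''
        rw [sub_eq_zero.mp (h''.resolve_right he0)]
        exact sub_eq_zero.mp hv'
      · exact absurd ⟨k⁻¹ * (L - lam v)⁻¹ * (lam e - L), by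
          rw [mul_smul, h'', mul_smul, inv_smul_smul₀ hv', inv_smul_smul₀ hk]⟩ hdep
    by_cases hev : h e v = 0
    · refine key 1 one_ne_zero ?_
      rw [one_smul, h_add_left, h_add_right hF, h_add_right hF, he, hv, hev, ← h_swap hF e v, hev, map_zero]
      simp
    · obtain ⟨c₀, hc0, hc⟩ := exists_skew hF
      have hev' : σ (h e v) ≠ 0 := fun e0 => hev (by simpa [frob_frob hF] using congrArg σ e0)
      refine key (c₀ / σ (h e v)) (div_ne_zero hc0 hev') ?_
      have e1 : c₀ / σ (h e v) * σ (h e v) = c₀ := div_mul_cancel₀ _ hev'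
      have e2 : σ (c₀ / σ (h e v)) * h e v = σ c₀ := by
        rw [← congrArg σ e1, map_mul, frob_frob hF]
      rw [h_add_left, h_add_right hF, h_add_right hF, h_smul_left, h_smul_left, h_smul_right hF,
        h_smul_right hF, he, hv, ← h_swap hF e v]
      linear_combination e1 + e2 + hc
  obtain ⟨e, he0, he⟩ := exists_isotropic hF (n := n) (by omega)
  obtain ⟨y, hey, hye⟩ := exists_partner hF he0
  obtain ⟨t, ht⟩ := WittExtension.exists_trace (frob_ne_id hF) (frob_frob hF) (c := -(h y y))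
    (by rw [map_neg, h_swap hF])
  set f := y + t • e with hf'
  have hef : h e f = 1 := by rw [hf', h_add_right hF, h_smul_right hF, hey, he]; simp
  have hfe : h f e = 1 := by rw [← h_swap hF e f, hef, map_one]
  have hf : h f f = 0 := by
    rw [hf', h_add_left, h_add_right hF, h_add_right hF, h_smul_left, h_smul_left, h_smul_right hF,
      h_smul_right hF, he, hey, hye]
    linear_combination ht
  have hs : ∀ v, h v v = 0 → ∀ c : F, mat g *ᵥ (c • v) = lam e • (c • v) := fun v hv c => by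
    by_cases hv0 : v = 0
    · simp [hv0]
    rw [mulVec_smul, hlam v hv0 hv, hall e v he0 hv0 he hv, smul_comm]
  refine ⟨lam e, fun x => ?_⟩
  set w := x - h x f • e - h x e • f with hw
  have hwe : h w e = 0 := by rw [hw, h_sub_left, h_sub_left, h_smul_left, h_smul_left, he, hfe]; simp
  have hwf : h w f = 0 := by rw [hw, h_sub_left, h_sub_left, h_smul_left, h_smul_left, hef, hf]; simp
  have hew : h e w = 0 := by rw [← h_swap hF w e, hwe, map_zero]
  have hfw : h f w = 0 := by rw [← h_swap hF w f, hwf, map_zero]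
  obtain ⟨k, hk⟩ := WittExtension.exists_trace (frob_ne_id hF) (frob_frob hF) (c := -(h w w))
    (by rw [map_neg, h_swap hF])
  set s := w + e + k • f with hs'
  have hss : h s s = 0 := by
    rw [hs']
    simp only [h_add_left, h_add_right hF, h_smul_left, h_smul_right hF, he, hf, hef, hfe, hwe, hwf, hew, hfw]
    linear_combination hk
  have hx : x = (1 : F) • s + ((-1 : F) • e + ((-k) • f + (h x f • e + h x e • f))) := by
    rw [hs', hw]; module
  conv_lhs => rw [hx]
  rw [mulVec_add, mulVec_add, mulVec_add, mulVec_add, hs s hss, hs e he, hs f hf, hs e he, hs f hf,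
    ← smul_add, ← smul_add, ← smul_add, ← smul_add, ← hx]

include hF in
/-- `PSU_n(q)` is simple. -/
theorem simple (hn : 3 ≤ n) (h32 : ¬ (n = 3 ∧ q = 2)) : IsSimpleGroup (Cfsg.PSU n F q) := by
  classical
  obtain ⟨c₀, hc0, hc₀⟩ := exists_skew hF
  haveI := primitive (n := n) hF
  have hker : (MulAction.toPermHom (Cfsg.SU n F q) (IPt n F q)).ker = Subgroup.center (Cfsg.SU n F q) := by
    ext g
    rw [MonoidHom.mem_ker]
    constructor
    · intro hg
      obtain ⟨c, hc⟩ := scalar_of_fix hF hn g (fun x => Equiv.ext_iff.mp hg x)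
      rw [Subgroup.mem_center_iff]
      intro k
      refine su_ext fun x => ?_
      rw [mat_mul, mat_mul, ← mulVec_mulVec, ← mulVec_mulVec, hc, hc, mulVec_smul]
    · intro hg
      refine Equiv.ext fun x => ?_
      obtain ⟨e, he0, he, rfl⟩ := pt_surj x
      have hcomm := (conj_tv hF g e he c₀ hc₀).symm.trans
        (mul_inv_eq_of_eq_mul (Subgroup.mem_center_iff.mp hg (tv hF e he c₀ hc₀)).symm)
      obtain ⟨y, hey, hye⟩ := exists_partner hF (mat_ne_zero g he0)
      have h1 := congrArg (fun k : Cfsg.SU n F q => mat k *ᵥ y) hcomm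
      simp only [tv_mulVec, hye, mul_one, add_right_inj] at h1
      refine smul_pt_eq g he0 he he0 he (c₀⁻¹ * (c₀ * h y e)) ?_
      rw [mul_smul, ← h1, inv_smul_smul₀ hc0]
  set S := Cfsg.SU n F q
  let perm : Cfsg.PSU n F q →* Equiv.Perm (IPt n F q) :=
    QuotientGroup.lift _ (MulAction.toPermHom S (IPt n F q)) hker.ge
  letI : MulAction (Cfsg.PSU n F q) (IPt n F q) := MulAction.compHom _ perm
  have hsm : ∀ (g : S) (x : IPt n F q), (g : Cfsg.PSU n F q) • x = g • x := fun g x => rfl
  haveI : MulAction.IsPreprimitive (Cfsg.PSU n F q) (IPt n F q) :=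
    MulAction.IsPreprimitive.of_surjective (f := (⟨id, fun g x => hsm g x⟩ :
      IPt n F q →ₑ[(QuotientGroup.mk' (Subgroup.center S) : S → Cfsg.PSU n F q)] IPt n F q)) Function.surjective_id
  have hperf : commutator (Cfsg.PSU n F q) = ⊤ := by
    have : Group.IsPerfect S := ⟨perfect hF hn h32⟩
    exact (inferInstance : Group.IsPerfect (Cfsg.PSU n F q)).commutator_eq_top
  have hfaith : FaithfulSMul (Cfsg.PSU n F q) (IPt n F q) := ⟨fun {a b} hab => by
    have hinj : Function.Injective perm := (QuotientGroup.injective_lift_iff _ _ _).mpr hker.symm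
    exact hinj (Equiv.ext hab)⟩
  haveI : Nontrivial (Cfsg.PSU n F q) := by
    obtain ⟨e, he0, he⟩ := exists_isotropic hF (n := n) (by omega)
    obtain ⟨f, hf, hfe, -⟩ := avoid hF he0 he he0
    refine ⟨⟨((tv hF f hf c₀ hc₀ : S) : Cfsg.PSU n F q), 1, fun hc => ?_⟩⟩
    have h1 : ((tv hF f hf c₀ hc₀ : S) : Cfsg.PSU n F q) • pt he0 he = pt he0 he := by rw [hc, one_smul]
    rw [hsm, smul_pt] at h1
    have h2 := congrArg Subtype.val h1
    change Submodule.span F {mat (tv hF f hf c₀ hc₀) *ᵥ e} = Submodule.span F {e} at h2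
    obtain ⟨l, hl⟩ := Submodule.mem_span_singleton.mp (h2 ▸ Submodule.mem_span_singleton_self _)
    have hp := congrArg (fun x => h x e) hl
    simp only [tv_mulVec, h_add_left, h_smul_left, he, mul_zero, zero_add] at hp
    refine mul_ne_zero (mul_ne_zero hc0 ?_) hfe hp.symm
    exact fun e0 => hfe (by rw [← h_swap hF e f, e0, map_zero])
  -- the transvection subgroups
  let TS : (e : Fin n → F) → h e e = 0 → Subgroup S := fun e he =>
    { carrier := {g | ∃ c : F, c + σ c = 0 ∧ mat g = Cfsg.unitaryTransvection n q e c}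
      mul_mem' := fun {g k} ⟨a, ha, hga⟩ ⟨b, hb, hkb⟩ => ⟨a + b, by rw [map_add]; linear_combination ha + hb, by
        refine Matrix.ext_of_mulVec_single fun i => ?_
        rw [mat_mul, ← mulVec_mulVec, hga, hkb, tmat_mulVec, tmat_mulVec, tmat_mulVec, h_add_left, h_smul_left, he]
        module⟩
      one_mem' := ⟨0, by simp, by simp [mat_one, Cfsg.unitaryTransvection]⟩
      inv_mem' := fun {g} ⟨a, ha, hga⟩ => by
        refine ⟨-a, by rw [map_neg]; linear_combination -ha, ?_⟩
        have : g⁻¹ = tv hF e he (-a) (by rw [map_neg]; linear_combination -ha) :=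
          inv_eq_of_mul_eq_one_right (su_ext fun x => by
            rw [mat_mul, ← mulVec_mulVec, hga, tv_mulVec, tmat_mulVec, h_add_left, h_smul_left, he, mat_one,
              one_mulVec]
            module)
        rw [this]; rfl }
  have hscale : ∀ {e f : Fin n → F} (he : h e e = 0) (hf : h f f = 0) (k : F), k ≠ 0 → e = k • f → TS e he = TS f hf := by
    intro e f he hf k hk hek
    have hσk : σ k ≠ 0 := fun e0 => hk (by simpa [frob_frob hF] using congrArg σ e0)
    have hmat : ∀ c : F, Cfsg.unitaryTransvection n q e c = Cfsg.unitaryTransvection n q f (c * (k * σ k)) :=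
      fun c => Matrix.ext_of_mulVec_single fun i => by
        rw [tmat_mulVec, tmat_mulVec, hek, h_smul_right hF, smul_smul]
        congr 2
        ring
    ext g
    constructor
    · rintro ⟨c, hc, hg⟩
      refine ⟨c * (k * σ k), ?_, hg.trans (hmat c)⟩
      rw [map_mul, map_mul, frob_frob hF]
      linear_combination (k * σ k) * hc
    · rintro ⟨c, hc, hg⟩
      refine ⟨c / (k * σ k), ?_, hg.trans ?_⟩
      · rw [map_div₀, map_mul, frob_frob hF, mul_comm (σ k) k, ← add_div, hc, zero_div]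
      · rw [hmat, div_mul_cancel₀ _ (mul_ne_zero hk hσk)]
  have hex : ∀ x : IPt n F q, ∃ e : Fin n → F, ∃ he0 : e ≠ 0, ∃ he : h e e = 0, x = pt he0 he := pt_surj
  choose rep hrep0 hrep hrepx using hex
  let T : IPt n F q → Subgroup (Cfsg.PSU n F q) := fun x =>
    (TS (rep x) (hrep x)).map (QuotientGroup.mk' (Subgroup.center S))
  have hTpt : ∀ {e : Fin n → F} (he0 : e ≠ 0) (he : h e e = 0),
      T (pt he0 he) = (TS e he).map (QuotientGroup.mk' (Subgroup.center S)) := by
    intro e he0 he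
    have h' := congrArg Subtype.val (hrepx (pt he0 he))
    change Submodule.span F {e} = Submodule.span F {rep (pt he0 he)} at h'
    obtain ⟨k, hk⟩ := Submodule.mem_span_singleton.mp (h' ▸ Submodule.mem_span_singleton_self e)
    show (TS _ (hrep _)).map _ = _
    rw [← hscale he (hrep _) k (fun h0 => he0 (by rw [← hk, h0, zero_smul])) hk.symm]
  refine MulAction.IwasawaStructure.isSimpleGroup hperf (⟨T, fun x => ?_, fun g x => ?_, ?_⟩ :
    MulAction.IwasawaStructure (Cfsg.PSU n F q) (IPt n F q)) hfaith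
  · refine ⟨⟨fun ⟨a, ha⟩ ⟨b, hb⟩ => Subtype.ext ?_⟩⟩
    obtain ⟨a, ⟨ca, hca, hga⟩, rfl⟩ := ha
    obtain ⟨b, ⟨cb, hcb, hgb⟩, rfl⟩ := hb
    show QuotientGroup.mk' _ a * QuotientGroup.mk' _ b = QuotientGroup.mk' _ b * QuotientGroup.mk' _ a
    rw [← map_mul, ← map_mul]
    congr 1
    refine su_ext fun y => ?_
    rw [mat_mul, mat_mul, ← mulVec_mulVec, ← mulVec_mulVec, hga, hgb]
    simp only [tmat_mulVec, h_add_left, h_smul_left, hrep]
    module
  · obtain ⟨g, rfl⟩ := QuotientGroup.mk_surjective g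
    obtain ⟨e, he0, he, rfl⟩ := pt_surj x
    rw [hsm, smul_pt, hTpt, hTpt]
    ext a
    rw [Subgroup.mem_pointwise_smul_iff_inv_smul_mem]
    constructor
    · rintro ⟨k, ⟨c, hc, hk⟩, rfl⟩
      have hk' : k = tv hF (mat g *ᵥ e) ((su_h g e e).trans he) c hc := Subtype.ext (Subtype.ext hk)
      refine ⟨tv hF e he c hc, ⟨c, hc, rfl⟩, ?_⟩
      rw [hk', ← conj_tv hF g e he c hc]
      rw [map_mul, map_mul, map_inv]
      exact (conj_cancel _ _).symm
    · rintro ⟨k, ⟨c, hc, hk⟩, hka⟩
      have hk' : k = tv hF e he c hc := Subtype.ext (Subtype.ext hk)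
      refine ⟨g * k * g⁻¹, ⟨c, hc, ?_⟩, ?_⟩
      · rw [hk', conj_tv hF g e he c hc]; rfl
      · rw [map_mul, map_mul, map_inv, hka]
        exact conj_cancel' _ _
  · rw [eq_top_iff]
    intro y _
    obtain ⟨g, rfl⟩ := QuotientGroup.mk_surjective y
    have hg : g ∈ Subgroup.closure (TSet (F := F) (q := q) (n := n)) := by rw [generated hF hn h32]; trivial
    refine (Subgroup.closure_le (K := (iSup T).comap (QuotientGroup.mk' (Subgroup.center S)))).mpr ?_ hg
    rintro A ⟨v, c, hv, hA⟩
    rw [SetLike.mem_coe, Subgroup.mem_comap]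
    by_cases hv0 : v = 0
    · have : A = 1 := su_ext fun z => by rw [hA, hv0, tmat_zero, mat_one, one_mulVec]
      rw [this, map_one]
      exact one_mem _
    refine Subgroup.mem_iSup_of_mem (pt hv0 hv) ?_
    rw [hTpt]
    exact ⟨A, ⟨c, skew_of_tmat hF hv hv0 (by rw [← hA]; exact su_h A), hA⟩, rfl⟩

end CfsgLib.UnitarySimple
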