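import Mathlib.GroupTheory.Sylow
import Mathlib.GroupTheory.Nilpotent
import Mathlib.Data.Nat.Choose.Dvd
import Cfsg.Agent.Lib.Elementary

/-!
Critical subgroups of finite `p`-groups; a `p'`-automorphism fixing all elements of order `p` (and `4`
for `p = 2`) is trivial.
-/

set_option autoImplicit false

open scoped commutatorElement

namespace CfsgLib.Small

variable {X : Type*} [Group X] {p : ℕ}

/-- The exponent defining small elements: `p`, or `4` when `p = 2`. -/
def smallExp (p : ℕ) : ℕ := if p = 2 then 4 else p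

theorem dvd_smallExp (p : ℕ) : p ∣ smallExp p := by
  unfold smallExp
  split
  · subst_vars; norm_num
  · exact dvd_rfl

theorem dvd_choose_smallExp [hp : Fact p.Prime] : p ∣ (smallExp p).choose 2 := by
  unfold smallExp
  split
  · subst_vars; decide
  · have := hp.out.two_le
    exact hp.out.dvd_choose_self (by norm_num) (by omega)

theorem pow_smallExp_eq_one_iff (x : X) :
    x ^ smallExp p = 1 ↔ (x ^ p = 1 ∨ (p = 2 ∧ x ^ 4 = 1)) := by
  unfold smallExp
  split
  · subst_vars
    refine ⟨fun h => Or.inr ⟨rfl, h⟩, ?_⟩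
    rintro (h | ⟨-, h⟩)
    · rw [show (4 : ℕ) = 2 * 2 by rfl, pow_mul, h, one_pow]
    · exact h
  · rename_i h
    exact ⟨Or.inl, fun h' => h'.resolve_right fun h2 => h h2.1⟩

theorem pow_mul_class_two {a b c : X} (h : b * a = a * b * c) (hb : Commute c b) (n : ℕ) :
    b ^ n * a = a * b ^ n * c ^ n := by
  induction n with
  | zero => simp
  | succ n ih =>
    rw [pow_succ', mul_assoc, ih, ← mul_assoc, ← mul_assoc, h, mul_assoc a b c, mul_assoc a,
      mul_assoc a, mul_assoc b c, (hb.pow_right n).eq, ← mul_assoc b, ← pow_succ', mul_assoc _ c,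
      ← pow_succ', mul_assoc]

theorem mul_pow_class_two {a b c : X} (h : b * a = a * b * c) (ha : Commute c a) (hb : Commute c b)
    (n : ℕ) : (a * b) ^ n = a ^ n * b ^ n * c ^ (n.choose 2) := by
  induction n with
  | zero => simp
  | succ n ih =>
    have h1 : c ^ (n.choose 2) * (a * b) = (a * b) * c ^ (n.choose 2) :=
      ((ha.mul_right hb).pow_left _).eq
    calc (a * b) ^ (n + 1) = a ^ n * b ^ n * c ^ (n.choose 2) * (a * b) := by rw [pow_succ, ih]
      _ = a ^ n * (b ^ n * a) * b * c ^ (n.choose 2) := by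
          rw [mul_assoc (a ^ n * b ^ n), h1]
          simp only [mul_assoc]
      _ = a ^ n * a * b ^ n * (c ^ n * b) * c ^ (n.choose 2) := by
          rw [pow_mul_class_two h hb]
          simp only [mul_assoc]
      _ = a ^ (n + 1) * b ^ (n + 1) * c ^ ((n + 1).choose 2) := by
          rw [(hb.pow_left n).eq, Nat.choose_succ_succ' n 1, Nat.choose_one_right, pow_add c,
            pow_succ a, pow_succ b]
          simp only [mul_assoc]

/-- In a subgroup with central `p`-th powers and commutators, products behave like in class two. -/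
theorem mul_pow_of_central {C : Subgroup X} {a b : X} [Fact p.Prime] (ha : a ∈ C) (hb : b ∈ C)
    (hcomm : ∀ u ∈ C, ∀ v ∈ C, ∀ w ∈ C, Commute ⁅u, v⁆ w)
    (hpow : ∀ u ∈ C, ∀ w ∈ C, Commute (u ^ p) w) {n : ℕ} (hn : p ∣ n.choose 2) :
    (a * b) ^ n = a ^ n * b ^ n := by
  have hd : b * a = a * b * ⁅b⁻¹, a⁻¹⁆ := by rw [commutatorElement_def]; group
  have hc1 := hcomm _ (C.inv_mem hb) _ (C.inv_mem ha)
  have hcp : ⁅b⁻¹, a⁻¹⁆ ^ p = 1 := by
    have h1 := pow_mul_class_two hd (hc1 b hb) p
    rw [(hpow b hb a ha).eq] at h1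
    exact mul_eq_left.mp h1.symm
  obtain ⟨k, hk⟩ := hn
  rw [mul_pow_class_two hd (hc1 a ha) (hc1 b hb) n, hk, pow_mul, hcp, one_pow, mul_one]

theorem apply_eq_self_of_step (hX : IsPGroup p X) {α : MulAut X} (hα : (orderOf α).Coprime p) {x : X}
    (h : α (x⁻¹ * α x) = x⁻¹ * α x) : α x = x := by
  have key : ∀ n : ℕ, (α ^ n) x = x * (x⁻¹ * α x) ^ n := by
    intro n
    induction n with
    | zero => simp
    | succ n ih =>
      rw [pow_succ', MulAut.mul_apply, ih, map_mul, map_pow, h, pow_succ' _ n, ← mul_assoc x,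
        mul_inv_cancel_left]
  have h1 := key (orderOf α)
  rw [pow_orderOf_eq_one, MulAut.one_apply, left_eq_mul] at h1
  obtain ⟨k, hk⟩ := hX (x⁻¹ * α x)
  have h2 : orderOf (x⁻¹ * α x) = 1 := Nat.eq_one_of_dvd_coprimes (Nat.Coprime.pow_right k hα)
    (orderOf_dvd_of_pow_eq_one h1) (orderOf_dvd_of_pow_eq_one hk)
  rw [orderOf_eq_one_iff, inv_mul_eq_one] at h2
  exact h2.symm

theorem apply_mem_of_char {C : Subgroup X} [hC : C.Characteristic] (α : MulAut X) {x : X} (hx : x ∈ C) :
    α x ∈ C := by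
  have := Subgroup.characteristic_iff_map_le.mp hC α
  exact this ⟨x, hx, rfl⟩

/-- Thompson's critical subgroup. -/
theorem exists_critical [Finite X] [Fact p.Prime] (hX : IsPGroup p X) :
    ∃ C : Subgroup X, C.Characteristic ∧ (∀ g : X, ∀ c ∈ C, ⁅g, c⁆ ∈ C ⊓ Subgroup.centralizer (C : Set X)) ∧
      (∀ c ∈ C, c ^ p ∈ C ⊓ Subgroup.centralizer (C : Set X)) ∧
      Subgroup.centralizer (C : Set X) ≤ C := by
  let T : Set (Subgroup X) := {C | C.Characteristic ∧
    (∀ g : X, ∀ c ∈ C, ⁅g, c⁆ ∈ C ⊓ Subgroup.centralizer (C : Set X)) ∧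
    ∀ c ∈ C, c ^ p ∈ C ⊓ Subgroup.centralizer (C : Set X)}
  have hT : (⊥ : Subgroup X) ∈ T := ⟨inferInstance, fun g c hc => by
    rw [Subgroup.mem_bot.mp hc, commutatorElement_one_right]; exact one_mem _,
    fun c hc => by rw [Subgroup.mem_bot.mp hc, one_pow]; exact one_mem _⟩
  obtain ⟨C, hC⟩ := (Set.toFinite T).exists_maximal ⟨⊥, hT⟩
  obtain ⟨hch, hcom, hpow⟩ := hC.prop
  refine ⟨C, hch, hcom, hpow, ?_⟩
  by_contra hnot
  let Z := C ⊓ Subgroup.centralizer (C : Set X)
  let Q := Subgroup.centralizer (C : Set X)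
  have hZch : Z.Characteristic := inferInstance
  let f := QuotientGroup.mk' Z
  let Q' := Q.map f
  have : Q'.Normal := Subgroup.Normal.map inferInstance f (QuotientGroup.mk'_surjective Z)
  have hQ' : Q' ≠ ⊥ := by
    rw [Ne, Subgroup.map_eq_bot_iff, QuotientGroup.ker_mk']
    exact fun h => hnot (h.trans inf_le_left)
  -- a central element of order `p` of `Q / Z`
  let R : Subgroup X :=
    { carrier := {x | x ∈ Q ∧ (∀ g : X, ⁅g, x⁆ ∈ Z) ∧ x ^ p ∈ Z}
      one_mem' := ⟨one_mem _, fun g => by rw [commutatorElement_one_right]; exact one_mem _,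
        by rw [one_pow]; exact one_mem _⟩
      mul_mem' := fun {x y} hx hy => by
        have hcx : ∀ g : X, (g : X ⧸ Z) * (x : X ⧸ Z) = (x : X ⧸ Z) * g := by
          intro g
          rw [← commutatorElement_eq_one_iff_mul_comm]
          exact (map_commutatorElement f g x).symm.trans ((QuotientGroup.eq_one_iff _).mpr (hx.2.1 g))
        have hcy : ∀ g : X, (g : X ⧸ Z) * (y : X ⧸ Z) = (y : X ⧸ Z) * g := by
          intro g
          rw [← commutatorElement_eq_one_iff_mul_comm]
          exact (map_commutatorElement f g y).symm.trans ((QuotientGroup.eq_one_iff _).mpr (hy.2.1 g))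
        refine ⟨mul_mem hx.1 hy.1, fun g => ?_, ?_⟩
        · rw [← QuotientGroup.eq_one_iff]
          refine (map_commutatorElement f g (x * y)).trans ?_
          rw [commutatorElement_eq_one_iff_mul_comm]
          show (g : X ⧸ Z) * ((x : X ⧸ Z) * y) = (x : X ⧸ Z) * y * g
          rw [← mul_assoc, hcx, mul_assoc, hcy, ← mul_assoc]
        · rw [← QuotientGroup.eq_one_iff, QuotientGroup.mk_pow, QuotientGroup.mk_mul,
            (show Commute (x : X ⧸ Z) y from (hcx y).symm).mul_pow, ← QuotientGroup.mk_pow,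
            ← QuotientGroup.mk_pow, (QuotientGroup.eq_one_iff _).mpr hx.2.2,
            (QuotientGroup.eq_one_iff _).mpr hy.2.2, one_mul]
      inv_mem' := fun {x} hx => by
        refine ⟨inv_mem hx.1, fun g => ?_, by rw [inv_pow]; exact inv_mem hx.2.2⟩
        rw [← QuotientGroup.eq_one_iff]
        refine (map_commutatorElement f g x⁻¹).trans ?_
        rw [commutatorElement_eq_one_iff_mul_comm, map_inv]
        refine (Commute.inv_right ?_).eq
        show f g * f x = f x * f g
        rw [← commutatorElement_eq_one_iff_mul_comm]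
        exact (map_commutatorElement f g x).symm.trans ((QuotientGroup.eq_one_iff _).mpr (hx.2.1 g)) }
  have hRch : R.Characteristic := by
    rw [Subgroup.characteristic_iff_map_le]
    rintro e _ ⟨x, ⟨hxQ, hxc, hxp⟩, rfl⟩
    have hQch : Q.Characteristic := inferInstance
    refine ⟨apply_mem_of_char e hxQ, fun g => ?_, ?_⟩
    · show ⁅g, e x⁆ ∈ Z
      rw [← e.apply_symm_apply g, ← map_commutatorElement]
      exact apply_mem_of_char e (hxc _)
    · show (e x) ^ p ∈ Z
      rw [← map_pow]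
      exact apply_mem_of_char e hxp
  obtain ⟨z, hzQ, hzc, hz1⟩ : ∃ z : X ⧸ Z, z ∈ Q' ∧ z ∈ Subgroup.center (X ⧸ Z) ∧ orderOf z = p := by
    have hXZ := hX.to_quotient Z
    let T := Q' ⊓ Subgroup.center (X ⧸ Z)
    have : Group.IsNilpotent (X ⧸ Z) := hXZ.isNilpotent
    have hT1 : T ≠ ⊥ := CfsgLib.inf_center_ne_bot_of_nilpotent hQ'
    have : Nontrivial T := (Subgroup.nontrivial_iff_ne_bot T).mpr hT1
    obtain ⟨k, hk, hc⟩ := (hXZ.to_subgroup T).nontrivial_iff_card.mp this
    obtain ⟨⟨z, hz⟩, hzo⟩ := exists_prime_orderOf_dvd_card' (G := T) p (hc ▸ dvd_pow_self p (by omega))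
    exact ⟨z, hz.1, hz.2, by rwa [Subgroup.orderOf_mk] at hzo⟩
  obtain ⟨r, hrQ, rfl⟩ := hzQ
  have hrR : r ∈ R := by
    refine ⟨hrQ, fun g => ?_, ?_⟩
    · rw [← QuotientGroup.eq_one_iff]
      refine (map_commutatorElement f g r).trans ?_
      rw [commutatorElement_eq_one_iff_mul_comm]
      exact Subgroup.mem_center_iff.mp hzc _
    · rw [← QuotientGroup.eq_one_iff, QuotientGroup.mk_pow]
      have := pow_orderOf_eq_one (f r)
      rwa [hz1] at this
  have hrC : r ∉ C := by
    intro hrC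
    have : f r = 1 := (QuotientGroup.eq_one_iff r).mpr ⟨hrC, hrQ⟩
    rw [this, orderOf_one] at hz1
    exact (Fact.out : p.Prime).one_lt.ne hz1
  have hRn : R.Normal := inferInstance
  have hCn : C.Normal := inferInstance
  have hZle : Z ≤ (C ⊔ R) ⊓ Subgroup.centralizer ((C ⊔ R : Subgroup X) : Set X) := by
    refine le_inf (inf_le_left.trans le_sup_left) ?_
    rw [Subgroup.le_centralizer_iff, sup_le_iff]
    constructor
    · exact fun c hc => Subgroup.mem_centralizer_iff.mpr fun z hz => (Subgroup.mem_centralizer_iff.mp hz.2 c hc).symm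
    · exact fun x hx => Subgroup.mem_centralizer_iff.mpr fun z hz => Subgroup.mem_centralizer_iff.mp hx.1 z hz.1
  have hmem : C ⊔ R ∈ T := by
    refine ⟨inferInstance, fun g y hy => hZle ?_, fun y hy => hZle ?_⟩
    · rw [← SetLike.mem_coe, Subgroup.mul_normal] at hy
      obtain ⟨c, hc, x, hx, rfl⟩ := hy
      have h1 : ⁅g, c * x⁆ = ⁅g, c⁆ * (c * ⁅g, x⁆ * c⁻¹) := by
        simp only [commutatorElement_def]; group
      rw [h1]
      exact mul_mem (hcom g c hc) ((inferInstance : Z.Normal).conj_mem _ (hx.2.1 g) c)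
    · rw [← SetLike.mem_coe, Subgroup.mul_normal] at hy
      obtain ⟨c, hc, x, hx, rfl⟩ := hy
      rw [(show Commute c x from Subgroup.mem_centralizer_iff.mp hx.1 c hc).mul_pow]
      exact mul_mem (hpow c hc) hx.2.2
  exact hrC (hC.le_of_ge hmem le_sup_left (Subgroup.mem_sup_right hrR))

/-- A `p'`-automorphism fixing the small elements of a critical subgroup is trivial. -/
theorem eq_one_of_fixes_critical [Fact p.Prime] (hX : IsPGroup p X) {C : Subgroup X} [C.Characteristic]
    (hcom : ∀ g : X, ∀ c ∈ C, ⁅g, c⁆ ∈ C ⊓ Subgroup.centralizer (C : Set X))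
    (hpow : ∀ c ∈ C, c ^ p ∈ C ⊓ Subgroup.centralizer (C : Set X))
    (hcen : Subgroup.centralizer (C : Set X) ≤ C) {α : MulAut X} (hα : (orderOf α).Coprime p)
    (h : ∀ c ∈ C, c ^ smallExp p = 1 → α c = c) : α = 1 := by
  have hp := (Fact.out : p.Prime)
  obtain ⟨m, hm⟩ := dvd_smallExp p
  have hZ : ∀ n : ℕ, ∀ z ∈ C ⊓ Subgroup.centralizer (C : Set X), z ^ p ^ n = 1 → α z = z := by
    intro n
    induction n with
    | zero =>
      intro z _ hz
      rw [pow_zero, pow_one] at hz
      rw [hz, map_one]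
    | succ n ih =>
      intro z hz hzn
      refine apply_eq_self_of_step hX hα (h _ (mul_mem (inv_mem hz.1) (apply_mem_of_char α hz.1)) ?_)
      rw [hm, pow_mul]
      have hc : Commute z⁻¹ (α z) :=
        (show Commute z (α z) from (Subgroup.mem_centralizer_iff.mp hz.2 _ (apply_mem_of_char α hz.1)).symm).inv_left
      have h1 : α (z ^ p) = z ^ p :=
        ih _ (pow_mem hz p) (by rw [← pow_mul, ← pow_succ']; exact hzn)
      rw [hc.mul_pow, ← map_pow, h1, inv_pow, inv_mul_cancel, one_pow]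
  have hC : ∀ c ∈ C, α c = c := by
    intro c hc
    refine apply_eq_self_of_step hX hα (h _ (mul_mem (inv_mem hc) (apply_mem_of_char α hc)) ?_)
    rw [mul_pow_of_central (C := C) (inv_mem hc) (apply_mem_of_char α hc) ?_ ?_ dvd_choose_smallExp]
    · have h1 : α (c ^ smallExp p) = c ^ smallExp p := by
        obtain ⟨n, hn⟩ := hX (c ^ smallExp p)
        refine hZ n _ ?_ hn
        rw [hm, pow_mul]
        exact pow_mem (hpow c hc) m
      rw [inv_pow, ← map_pow, h1, inv_mul_cancel]
    · exact fun u _ v hv w hw => (Subgroup.mem_centralizer_iff.mp (hcom u v hv).2 w hw).symm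
    · exact fun u hu w hw => (Subgroup.mem_centralizer_iff.mp (hpow u hu).2 w hw).symm
  refine MulEquiv.ext fun x => apply_eq_self_of_step hX hα (hC _ (hcen ?_))
  refine Subgroup.mem_centralizer_iff.mpr fun c hc => ?_
  have h1 : x * c * x⁻¹ ∈ C := (inferInstance : C.Normal).conj_mem c hc x
  have h2 : α x * c * (α x)⁻¹ = x * c * x⁻¹ := by
    have := hC _ h1
    rwa [map_mul, map_mul, map_inv, hC c hc] at this
  calc c * (x⁻¹ * α x) = x⁻¹ * (x * c * x⁻¹) * α x := by group
    _ = x⁻¹ * α x * c := by rw [← h2]; group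

/-- A `p'`-automorphism fixing all elements of order `p` (and `4` if `p = 2`) is trivial. -/
theorem eq_one_of_fixes_small [Finite X] [Fact p.Prime] (hX : IsPGroup p X) {α : MulAut X}
    (hα : (orderOf α).Coprime p) (h : ∀ x : X, x ^ smallExp p = 1 → α x = x) : α = 1 := by
  obtain ⟨C, hch, hcom, hpow, hcen⟩ := exists_critical hX
  exact eq_one_of_fixes_critical hX hcom hpow hcen hα fun c _ => h c

/-- A characteristic subgroup of small elements on which every `p'`-automorphism acts faithfully. -/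
theorem exists_small_detecting [Finite X] [Fact p.Prime] (hX : IsPGroup p X) :
    ∃ D : Subgroup X, D.Characteristic ∧ (∀ d ∈ D, d ^ smallExp p = 1) ∧
      ∀ α : MulAut X, (orderOf α).Coprime p → (∀ d ∈ D, α d = d) → α = 1 := by
  obtain ⟨C, hch, hcom, hpow, hcen⟩ := exists_critical hX
  let D : Subgroup X :=
    { carrier := {x | x ∈ C ∧ x ^ smallExp p = 1}
      one_mem' := ⟨one_mem _, one_pow _⟩
      mul_mem' := fun {a b} ha hb => ⟨mul_mem ha.1 hb.1, by
        rw [mul_pow_of_central ha.1 hb.1 (fun u _ v hv w hw => (Subgroup.mem_centralizer_iff.mp (hcom u v hv).2 w hw).symm)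
          (fun u hu w hw => (Subgroup.mem_centralizer_iff.mp (hpow u hu).2 w hw).symm) dvd_choose_smallExp,
          ha.2, hb.2, one_mul]⟩
      inv_mem' := fun {a} ha => ⟨inv_mem ha.1, by rw [inv_pow, ha.2, inv_one]⟩ }
  refine ⟨D, ?_, fun d hd => hd.2, fun α hα h => eq_one_of_fixes_critical hX hcom hpow hcen hα
    fun c hc h1 => h c ⟨hc, h1⟩⟩
  rw [Subgroup.characteristic_iff_map_le]
  rintro e _ ⟨x, ⟨hx, hx'⟩, rfl⟩
  exact ⟨apply_mem_of_char e hx, by show (e x) ^ smallExp p = 1; rw [← map_pow, hx', map_one]⟩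

end CfsgLib.Small
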