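import Mathlib
import Cfsg.Agent.Lib.Elementary
import Cfsg.Agent.Lib.SmallElements

/-! `p`-groups with only one subgroup of order `p`. -/

set_option autoImplicit false
set_option maxHeartbeats 400000

namespace CfsgLib.UniqueSubgroup

universe u

variable {G : Type u} [Group G] {p : ℕ} [hp : Fact p.Prime] {z : G}

/-- An abelian subgroup is cyclic. -/
theorem exists_generator [Finite G] (hG : IsPGroup p G) (hz : orderOf z = p)
    (huniq : ∀ x : G, x ^ p = 1 → x ∈ Subgroup.zpowers z)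
    (A : Subgroup G) (hA : ∀ x ∈ A, ∀ y ∈ A, x * y = y * x) :
    ∃ a ∈ A, A = Subgroup.zpowers a := by
  obtain ⟨a, ha, hmax⟩ := Set.exists_max_image (A : Set G) orderOf (Set.toFinite _) ⟨1, A.one_mem⟩
  refine ⟨a, ha, le_antisymm ?_ (Subgroup.zpowers_le.2 ha)⟩
  intro y
  induction hn : orderOf y using Nat.strong_induction_on generalizing y with
  | _ n ih =>
    intro hy
    rcases eq_or_ne y 1 with rfl | hy1
    · exact one_mem _
    obtain ⟨k, hk⟩ := IsPGroup.iff_orderOf.1 hG y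
    have hk0 : k ≠ 0 := fun h => hy1 (orderOf_eq_one_iff.1 (by rw [hk, h, pow_zero]))
    obtain ⟨e, he⟩ := IsPGroup.iff_orderOf.1 hG a
    have hle := hmax y hy
    rw [hk, he] at hle
    have hke : k ≤ e := (Nat.pow_le_pow_iff_right hp.out.one_lt).1 hle
    have hzle : Subgroup.zpowers z ≤ Subgroup.zpowers a := by
      have h1 : orderOf (a ^ p ^ (e - 1)) = p := by
        rw [orderOf_pow' a (pow_ne_zero _ hp.out.ne_zero), he,
          Nat.gcd_eq_right (pow_dvd_pow p (Nat.sub_le e 1)),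
          Nat.pow_div (Nat.sub_le e 1) hp.out.pos, show e - (e - 1) = 1 by omega, pow_one]
      have h2 : Subgroup.zpowers (a ^ p ^ (e - 1)) = Subgroup.zpowers z := by
        refine Subgroup.eq_of_le_of_card_ge (Subgroup.zpowers_le.2 (huniq _ ?_)) ?_
        · conv_lhs => arg 2; rw [← h1]
          exact pow_orderOf_eq_one _
        · rw [Nat.card_zpowers, Nat.card_zpowers, h1, hz]
      rw [← h2]
      exact Subgroup.zpowers_le.2 (Subgroup.pow_mem _ (Subgroup.mem_zpowers a) _)
    have hyp : orderOf (y ^ p) = p ^ (k - 1) := by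
      rw [orderOf_pow' y hp.out.ne_zero, hk, Nat.gcd_eq_right (dvd_pow_self p hk0)]
      nth_rewrite 2 [← pow_one p]
      rw [Nat.pow_div (Nat.one_le_iff_ne_zero.2 hk0) hp.out.pos]
    have hlt : p ^ (k - 1) < n := by
      rw [← hn, hk]; exact Nat.pow_lt_pow_right hp.out.one_lt (by omega)
    obtain ⟨j, hj⟩ : ∃ j : ℕ, a ^ j = y ^ p :=
      mem_powers_iff_mem_zpowers.2 (ih _ hlt hyp (A.pow_mem hy p))
    have hpj : p ∣ j := by
      by_contra hpj
      have hcop : Nat.Coprime (orderOf a) j := by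
        rw [he]; exact ((hp.out.coprime_iff_not_dvd).2 hpj).pow_left e
      have h1 := hcop.orderOf_pow
      rw [hj, hyp, he] at h1
      have := Nat.pow_right_injective hp.out.two_le h1
      omega
    obtain ⟨i, rfl⟩ := hpj
    have hc : Commute y ((a ^ i)⁻¹) := (hA y hy _ (A.inv_mem (A.pow_mem ha i)))
    have h1 : (y * (a ^ i)⁻¹) ^ p = 1 := by
      rw [hc.mul_pow, inv_pow, ← pow_mul, mul_comm i p, hj, mul_inv_cancel]
    have h2 := Subgroup.mul_mem _ (hzle (huniq _ h1))
      (Subgroup.pow_mem _ (Subgroup.mem_zpowers a) i)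
    rwa [inv_mul_cancel_right] at h2

/-- The element of order `p` is central. -/
theorem mem_center [Finite G] (hG : IsPGroup p G) (hz : orderOf z = p)
    (huniq : ∀ x : G, x ^ p = 1 → x ∈ Subgroup.zpowers z) : z ∈ Subgroup.center G := by
  haveI : Nontrivial G := ⟨⟨z, 1, fun h => hp.out.ne_one (by rw [← hz, h, orderOf_one])⟩⟩
  haveI := hG.center_nontrivial
  obtain ⟨c, hc⟩ : ∃ c : Subgroup.center G, orderOf c = p := by
    obtain ⟨m, hm⟩ := (hG.to_subgroup (Subgroup.center G)).exists_card_eq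
    refine exists_prime_orderOf_dvd_card' p ?_
    rw [hm]
    refine dvd_pow_self p fun h => ?_
    rw [h, pow_zero] at hm
    exact (Finite.one_lt_card (α := Subgroup.center G)).ne' hm
  have h1 : orderOf (c : G) = p := by rw [Subgroup.orderOf_coe, hc]
  have h2 : Subgroup.zpowers (c : G) = Subgroup.zpowers z := by
    refine Subgroup.eq_of_le_of_card_ge (Subgroup.zpowers_le.2 (huniq _ ?_)) ?_
    · conv_lhs => arg 2; rw [← h1]
      exact pow_orderOf_eq_one _
    · rw [Nat.card_zpowers, Nat.card_zpowers, h1, hz]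
  exact (Subgroup.zpowers_le.2 c.2) (h2 ▸ Subgroup.mem_zpowers z)

/-- A maximal normal abelian subgroup of a nilpotent group is self-centralising. -/
theorem exists_self_centralizing (G : Type u) [Group G] [Finite G] [Group.IsNilpotent G] :
    ∃ A : Subgroup G, A.Normal ∧ (∀ x ∈ A, ∀ y ∈ A, x * y = y * x) ∧
      Subgroup.centralizer (A : Set G) ≤ A := by
  obtain ⟨A, ⟨hAn, hAc⟩, hmax⟩ := (Set.toFinite
    {A : Subgroup G | A.Normal ∧ ∀ x ∈ A, ∀ y ∈ A, x * y = y * x}).exists_maximal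
      ⟨⊥, inferInstance, fun x hx y hy => by
        rw [Subgroup.mem_bot] at hx hy; rw [hx, hy]⟩
  refine ⟨A, hAn, hAc, ?_⟩
  by_contra hle
  set C := Subgroup.centralizer (A : Set G) with hC
  set φ := QuotientGroup.mk' A
  haveI : (C.map φ).Normal :=
    Subgroup.Normal.map inferInstance φ (QuotientGroup.mk'_surjective A)
  have hne : C.map φ ≠ ⊥ := by
    rw [Ne, Subgroup.map_eq_bot_iff, QuotientGroup.ker_mk']; exact hle
  obtain ⟨q, hq, hq1⟩ := (Subgroup.bot_or_exists_ne_one _).resolve_left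
    (CfsgLib.inf_center_ne_bot_of_nilpotent hne)
  obtain ⟨⟨y, hy, rfl⟩, hyz⟩ := Subgroup.mem_inf.1 hq
  have hyA : y ∉ A := fun h => hq1 ((QuotientGroup.eq_one_iff y).2 h)
  set B := Subgroup.closure (insert y (A : Set G)) with hB
  have hAB : A ≤ B := fun w hw => Subgroup.subset_closure (Or.inr hw)
  have hyB : y ∈ B := Subgroup.subset_closure (Or.inl rfl)
  have hBc : ∀ a ∈ B, ∀ b ∈ B, a * b = b * a := by
    haveI : IsMulCommutative B := Subgroup.isMulCommutative_closure (by
      rintro a (rfl | ha) b (rfl | hb)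
      · rfl
      · exact (hy b hb).symm
      · exact hy a ha
      · exact hAc a ha b hb)
    exact fun a ha b hb => congrArg Subtype.val (mul_comm' (⟨a, ha⟩ : B) ⟨b, hb⟩)
  have hBn : B.Normal := by
    refine ⟨fun b hb g => ?_⟩
    induction hb using Subgroup.closure_induction with
    | mem b hb =>
      rcases hb with rfl | hb
      · have h1 : g * b * g⁻¹ * b⁻¹ ∈ A := by
          have h2 : φ (g * b * g⁻¹ * b⁻¹) = 1 := by
            rw [map_mul, map_mul, map_mul, map_inv, map_inv,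
              Subgroup.mem_center_iff.1 hyz (φ g), mul_inv_cancel_right, mul_inv_cancel]
          exact (QuotientGroup.eq_one_iff _).1 h2
        have := B.mul_mem (hAB h1) hyB
        rwa [inv_mul_cancel_right] at this
      · exact hAB (hAn.conj_mem b hb g)
    | one => simp
    | mul a b _ _ iha ihb =>
      have := B.mul_mem iha ihb
      rwa [show g * a * g⁻¹ * (g * b * g⁻¹) = g * (a * b) * g⁻¹ by group] at this
    | inv a _ iha =>
      have := B.inv_mem iha
      rwa [show (g * a * g⁻¹)⁻¹ = g * a⁻¹ * g⁻¹ by group] at this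
  exact hyA (hmax ⟨hBn, hBc⟩ hAB hyB)

/-- The sum `1 + r + ... + r ^ (p - 1)` for `r ≡ 1 (mod p)`, `p` odd. -/
theorem pow_sub_one_dvd (hodd : Odd p) {r : ℤ} (hr : (p : ℤ) ∣ r - 1) {m : ℕ}
    (h : (p : ℤ) ^ (m + 1) ∣ r ^ p - 1) : (p : ℤ) ^ m ∣ r - 1 := by
  obtain ⟨b, hb⟩ := hr
  have hpr : Prime (p : ℤ) := Nat.prime_iff_prime_int.1 hp.out
  have h1 := odd_sq_dvd_geom_sum₂_sub (a := (1 : ℤ)) b hodd
  simp only [one_pow, mul_one] at h1
  rw [show (1 : ℤ) + (p : ℤ) * b = r by linarith] at h1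
  obtain ⟨c, hc⟩ := h1
  rw [← geom_sum_mul r p, show ∑ i ∈ Finset.range p, r ^ i = (p : ℤ) * (1 + p * c) by
    linear_combination hc, mul_assoc, pow_succ',
    mul_dvd_mul_iff_left (Nat.cast_ne_zero.2 hp.out.ne_zero)] at h
  refine IsCoprime.dvd_of_dvd_mul_left (IsCoprime.pow_left ⟨-c, 1, by ring⟩) h

theorem exists_pow_notMem [Finite G] (hG : IsPGroup p G) {A : Subgroup G} {g : G} (hg : g ∉ A) :
    ∃ k : ℕ, g ^ p ^ k ∉ A ∧ (g ^ p ^ k) ^ p ∈ A := by
  classical
  obtain ⟨e, he⟩ := hG g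
  have hex : ∃ k, g ^ p ^ k ∈ A := ⟨e, by rw [he]; exact A.one_mem⟩
  obtain ⟨k, hk⟩ : ∃ k, Nat.find hex = k + 1 :=
    ⟨Nat.find hex - 1, by
      have : Nat.find hex ≠ 0 := fun h => hg (by simpa [h] using Nat.find_spec hex)
      omega⟩
  refine ⟨k, Nat.find_min hex (by omega), ?_⟩
  rw [← pow_mul, ← pow_succ, ← hk]
  exact Nat.find_spec hex

theorem zmod_two_aux : ∀ t : ZMod 2, t ^ 2 - 1 = 0 → t + 1 = 0 := by decide

/-- The classification. -/
theorem cyclic_or_quaternion [Finite G] (hG : IsPGroup p G) (hz : orderOf z = p)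
    (huniq : ∀ x : G, x ^ p = 1 → x ∈ Subgroup.zpowers z) :
    IsCyclic G ∨ (p = 2 ∧ ∃ n : ℕ, 1 ≤ n ∧ Nonempty (G ≃* QuaternionGroup (2 ^ n))) := by
  haveI := hG.isNilpotent
  obtain ⟨A, hAn, hAc, hAself⟩ := exists_self_centralizing G
  obtain ⟨a, haA, hAa⟩ := exists_generator hG hz huniq A hAc
  by_cases hAtop : A = ⊤
  · left
    exact ⟨⟨a, fun g => Subgroup.mem_zpowers_iff.1 (hAa ▸ hAtop ▸ Subgroup.mem_top g)⟩⟩
  right
  obtain ⟨g₀, hg₀⟩ : ∃ g : G, g ∉ A := by
    by_contra h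
    push Not at h
    exact hAtop (eq_top_iff.2 fun g _ => h g)
  obtain ⟨m, hm⟩ := IsPGroup.iff_orderOf.1 hG a
  have hzc := Subgroup.mem_center_iff.1 (mem_center hG hz huniq)
  have hzA : Subgroup.zpowers z ≤ A :=
    Subgroup.zpowers_le.2 (hAself fun b _ => hzc b)
  have hpow : ∀ {i j : ℕ}, a ^ i = a ^ j ↔ ((p : ℤ) ^ m) ∣ (j : ℤ) - i := by
    intro i j
    rw [pow_eq_pow_iff_modEq, hm, Nat.modEq_iff_dvd]
    push_cast
    rfl
  have hpowers : ∀ b ∈ A, ∃ j : ℕ, a ^ j = b := fun b hb =>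
    mem_powers_iff_mem_zpowers.2 (hAa ▸ hb)
  -- the data attached to an element of order `p` modulo `A`
  have hdata : ∀ x : G, x ∉ A → x ^ p ∈ A →
      ∃ r i : ℕ, x * a * x⁻¹ = a ^ r ∧ x ^ p = a ^ (p * i) ∧
        (p : ℤ) ^ m ∣ (r : ℤ) ^ p - 1 ∧ (p : ℤ) ^ m ∣ ((p * i : ℕ) : ℤ) * r - (p * i : ℕ) := by
    intro x hx hxp
    obtain ⟨r, hr⟩ := hpowers _ (hAn.conj_mem a haA x)
    obtain ⟨j, hj⟩ := hpowers _ hxp
    have hconj : ∀ t : ℕ, x * a ^ t * x⁻¹ = a ^ (r * t) := fun t => by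
      rw [pow_mul, hr, conj_pow]
    have hpj : p ∣ j := by
      by_contra hpj
      apply hx
      apply hAself
      have hcop : Nat.Coprime (orderOf a) j := by
        rw [hm]; exact ((hp.out.coprime_iff_not_dvd).2 hpj).pow_left m
      obtain ⟨t, ht⟩ := exists_pow_eq_self_of_coprime hcop.symm
      have hcx : Commute x a := by
        rw [← ht, hj]; exact ((Commute.refl x).pow_right p).pow_right t
      intro b hb
      obtain ⟨s, rfl⟩ := hpowers b hb
      exact (hcx.symm.pow_left s).eq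
    obtain ⟨i, rfl⟩ := hpj
    refine ⟨r, i, hr.symm, hj.symm, ?_, ?_⟩
    · have h1 : ∀ t : ℕ, x ^ t * a * (x ^ t)⁻¹ = a ^ r ^ t := by
        intro t
        induction t with
        | zero => simp
        | succ t ih =>
          rw [pow_succ' x, show x * x ^ t * a * (x * x ^ t)⁻¹ = x * (x ^ t * a * (x ^ t)⁻¹) * x⁻¹
            by group, ih, hconj, pow_succ' r]
      have h2 := h1 p
      rw [← hj, ((Commute.refl a).pow_left (p * i)).eq, mul_inv_cancel_right] at h2
      conv_lhs at h2 => rw [← pow_one a]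
      have := hpow.1 h2
      push_cast at this
      exact this
    · have h2 := hconj (p * i)
      rw [hj, ← pow_succ', pow_succ, mul_inv_cancel_right, ← hj] at h2
      have := hpow.1 h2
      push_cast at this ⊢
      rw [mul_comm ((p : ℤ) * i) r]
      exact this
  rcases hp.out.eq_two_or_odd' with h2 | hodd
  swap
  · exfalso
    obtain ⟨k, hxA, hxp⟩ := exists_pow_notMem hG hg₀
    set x := g₀ ^ p ^ k
    obtain ⟨r, i, hr, hxi, hrp, -⟩ := hdata x hxA hxp
    obtain ⟨m', rfl⟩ : ∃ m', m = m' + 1 := ⟨m - 1, by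
      have : m ≠ 0 := by
        intro h0
        rw [h0, pow_zero, orderOf_eq_one_iff] at hm
        refine hxA (hAself fun b hb => ?_)
        rw [hAa, hm, Subgroup.zpowers_one_eq_bot, SetLike.mem_coe, Subgroup.mem_bot] at hb
        rw [hb, one_mul, mul_one]
      omega⟩
    have hr1 : (p : ℤ) ∣ (r : ℤ) - 1 := by
      have h1 : (p : ℤ) ∣ (r : ℤ) ^ p - 1 := (dvd_pow_self _ (Nat.succ_ne_zero _)).trans hrp
      have h3 : (p : ℤ) ∣ (r : ℤ) ^ p - r := by
        rw [← ZMod.intCast_zmod_eq_zero_iff_dvd]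
        push_cast
        rw [ZMod.pow_card, sub_self]
      simpa using dvd_sub h1 h3
    have hc := pow_sub_one_dvd hodd hr1 hrp
    obtain ⟨c, hcA, hcdef⟩ : ∃ c, c ∈ A ∧ x * a = a * x * c :=
      ⟨x⁻¹ * a⁻¹ * x * a, by
        have := A.mul_mem (hAn.conj_mem _ (A.inv_mem haA) x⁻¹) haA
        simpa using this, by group⟩
    have hxa : x⁻¹ * a⁻¹ * x * a = c := by
      calc x⁻¹ * a⁻¹ * x * a = x⁻¹ * a⁻¹ * (x * a) := by group
        _ = c := by rw [hcdef]; group
    have hd : (a ^ r * a⁻¹) ^ p = 1 := by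
      rw [(((Commute.refl a).pow_left r).inv_right).mul_pow, ← pow_mul, inv_pow, mul_inv_eq_one,
        hpow, pow_succ]
      obtain ⟨w, hw⟩ := hc
      exact ⟨-w, by push_cast; linear_combination (-(p : ℤ)) * hw⟩
    have hdz := hzc x
    have hcp : c ^ p = 1 ∧ ∀ g, Commute c g := by
      have hdc : ∀ g, Commute (a ^ r * a⁻¹) g := by
        intro g
        obtain ⟨t, ht⟩ := Subgroup.mem_zpowers_iff.1 (huniq _ hd)
        rw [← ht]
        exact (show Commute z g from (hzc g).symm).zpow_left t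
      have e : c = (a ^ r * a⁻¹) := by
        have h1 : x * a = a ^ r * a⁻¹ * (a * x) := by
          rw [← hr]; group
        rw [(hdc _).eq, hcdef] at h1
        exact mul_left_cancel h1
      exact ⟨e ▸ hd, e ▸ hdc⟩
    have h4 : ((a ^ i)⁻¹ * x) ^ p = 1 := by
      have hc2 : x * (a ^ i)⁻¹ = (a ^ i)⁻¹ * x * (c ^ i)⁻¹ := by
        have h5 : ∀ t : ℕ, x * a ^ t = a ^ t * x * c ^ t := by
          intro t
          induction t with
          | zero => simp
          | succ t ih =>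
            calc x * a ^ (t + 1) = (x * a ^ t) * a := by rw [pow_succ, mul_assoc]
              _ = a ^ t * x * (c ^ t * a) := by rw [ih, mul_assoc]
              _ = a ^ t * (x * a) * c ^ t := by
                rw [((hcp.2 a).pow_left t).eq]; simp only [mul_assoc]
              _ = a ^ t * (a * x * c) * c ^ t := by rw [hcdef]
              _ = a ^ (t + 1) * x * c ^ (t + 1) := by
                rw [pow_succ a, pow_succ' c]; simp only [mul_assoc]
        rw [mul_inv_eq_iff_eq_mul, mul_assoc, mul_assoc, ((hcp.2 (a ^ i)).pow_left i).inv_left.eq,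
          ← mul_assoc x, h5]
        group
      rw [CfsgLib.Small.mul_pow_class_two hc2 ((hcp.2 _).pow_left i).inv_left
        ((hcp.2 _).pow_left i).inv_left, inv_pow, ← pow_mul, mul_comm i p, ← hxi, inv_mul_cancel,
        one_mul, inv_pow, ← pow_mul, inv_eq_one]
      obtain ⟨w, hw⟩ : p ∣ p.choose 2 :=
        hp.out.dvd_choose_self two_ne_zero (by
          have := hp.out.two_le
          rcases hodd with ⟨t, ht⟩
          omega)
      rw [hw, ← mul_assoc, mul_comm i p, mul_assoc, pow_mul, hcp.1, one_pow]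
    refine hxA ?_
    have := A.mul_mem (A.pow_mem haA i) (hzA (huniq _ h4))
    rwa [mul_inv_cancel_left] at this
  · subst h2
    -- every element squares into `A`, outer elements invert `A` and square to `z`
    have hm2 : 2 ≤ m := by
      by_contra hlt
      refine hg₀ (hAself fun b hb => ?_)
      obtain ⟨s, rfl⟩ := hpowers b hb
      have hA2 : (a ^ s) ^ 2 = 1 := by
        rw [← pow_mul, ← orderOf_dvd_iff_pow_eq_one, hm]
        exact (pow_dvd_pow 2 (by omega : m ≤ 1)).trans (by simp)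
      obtain ⟨t, ht⟩ := Subgroup.mem_zpowers_iff.1 (huniq _ hA2)
      rw [← ht]
      exact ((show Commute z g₀ from (hzc g₀).symm).zpow_left t).eq
    have houter : ∀ x : G, x ∉ A → x ^ 2 ∈ A →
        x * a * x⁻¹ = a⁻¹ ∧ x ^ 2 = a ^ 2 ^ (m - 1) := by
      intro x hx hx2
      obtain ⟨r, i, hr, hxi, hrp, hfix⟩ := hdata x hx hx2
      push_cast at hrp hfix
      have hb : ∀ k : ℕ, ¬ ((2 : ℤ) ^ m ∣ 2 * i + k * (r + 1)) := by
        intro k hk
        apply hx
        have h1 : (x * a ^ k) ^ 2 = 1 := by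
          have hback : x⁻¹ * a ^ k * x = a ^ (r * k) := by
            have hxx : x * (x * a ^ k) = a ^ k * (x * x) := by
              rw [← mul_assoc, ← pow_two, hxi, ((Commute.refl a).pow_pow (2 * i) k).eq]
            rw [pow_mul, ← hr, conj_pow, eq_mul_inv_iff_mul_eq, mul_assoc, mul_assoc, ← hxx,
              inv_mul_cancel_left]
          calc (x * a ^ k) ^ 2 = x ^ 2 * (x⁻¹ * a ^ k * x) * a ^ k := by
                simp only [pow_two]; group
            _ = a ^ (2 * i + r * k + k) := by rw [hback, hxi, pow_add, pow_add]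
            _ = 1 := by
                rw [← pow_zero a, hpow]
                obtain ⟨w, hw⟩ := hk
                exact ⟨-w, by push_cast; linear_combination -hw⟩
        have := A.mul_mem (hzA (huniq _ h1)) (A.inv_mem (A.pow_mem haA k))
        rwa [mul_inv_cancel_right] at this
      have h2i : ¬ ((2 : ℤ) ^ m ∣ 2 * i) := fun h => hb 0 (by simpa using h)
      obtain ⟨s, hs⟩ : (2 : ℤ) ∣ (r : ℤ) + 1 := by
        have h1 : (2 : ℤ) ∣ (r : ℤ) ^ 2 - 1 := (dvd_pow_self _ (by omega : m ≠ 0)).trans hrp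
        rw [show (2 : ℤ) = ((2 : ℕ) : ℤ) from rfl, ← ZMod.intCast_zmod_eq_zero_iff_dvd] at h1 ⊢
        push_cast at h1 ⊢
        generalize (r : ZMod 2) = t at h1 ⊢
        exact zmod_two_aux t h1
      have hsodd : (2 : ℤ) ∣ s := by
        by_contra hso
        obtain ⟨u, v, huv⟩ : IsCoprime ((2 : ℤ) ^ m) s :=
          IsCoprime.pow_left ((Int.prime_two.coprime_iff_not_dvd).2 hso)
        refine hb ((-(i : ℤ) * v) % 2 ^ m).toNat ?_
        rw [Int.toNat_of_nonneg (Int.emod_nonneg _ (by positivity)), Int.emod_def, hs]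
        exact ⟨2 * i * u - 2 * s * ((-(i : ℤ) * v) / 2 ^ m),
          by linear_combination (-2 * (i : ℤ)) * huv⟩
      obtain ⟨q, rfl⟩ := hsodd
      obtain ⟨m', rfl⟩ : ∃ m', m = m' + 2 := ⟨m - 2, by omega⟩
      have hodd' : IsCoprime ((2 : ℤ)) (2 * q - 1) := ⟨q, -1, by ring⟩
      have hq : (2 : ℤ) ^ m' ∣ q := by
        have h1 : (2 : ℤ) ^ (m' + 2) ∣ 2 ^ 3 * q * (2 * q - 1) := by
          convert hrp using 1
          rw [show (r : ℤ) = 2 * (2 * q) - 1 by linarith]; ring
        rcases m' with _ | m''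
        · simp
        · rw [show (2 : ℤ) ^ (m'' + 1 + 2) = 2 ^ 3 * 2 ^ m'' by ring, mul_assoc,
            mul_dvd_mul_iff_left (by norm_num)] at h1
          have h3 := IsCoprime.dvd_of_dvd_mul_right (hodd'.pow_left) h1
          obtain ⟨q', rfl⟩ := h3
          by_contra hcon
          -- `r + 1 = 2 ^ (m - 1) * odd`: a suitable `k ∈ {0, 1}` gives an involution
          have hq' : ¬ (2 : ℤ) ∣ q' := fun ⟨w, hw⟩ => hcon ⟨w, by rw [hw]; ring⟩
          have h4 : (2 : ℤ) ^ (m'' + 1 + 2) ∣ 2 ^ 2 * i * (2 * (2 ^ m'' * q') - 1) := by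
            convert hfix using 1
            rw [show (r : ℤ) = 2 * (2 * (2 ^ m'' * q')) - 1 by linarith]; ring
          rw [show (2 : ℤ) ^ (m'' + 1 + 2) = 2 ^ 2 * 2 ^ (m'' + 1) by ring, mul_assoc,
            mul_dvd_mul_iff_left (by norm_num)] at h4
          obtain ⟨i', hi'⟩ := IsCoprime.dvd_of_dvd_mul_right (hodd'.pow_left) h4
          obtain ⟨e, he⟩ | ⟨e, he⟩ := Int.even_or_odd i'
          · exact h2i ⟨e, by rw [hi', he]; ring⟩
          · obtain ⟨f, hf⟩ := Int.not_even_iff_odd.1 (fun hev => hq' (even_iff_two_dvd.1 hev))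
            exact hb 1 ⟨e + f + 1, by push_cast; rw [hi', hs, he, hf]; ring⟩
      have hrinv : (2 : ℤ) ^ (m' + 2) ∣ (r : ℤ) + 1 := by
        rw [hs, ← mul_assoc, show (2 : ℤ) ^ (m' + 2) = 2 * 2 * 2 ^ m' by ring]
        exact mul_dvd_mul_left _ hq
      refine ⟨?_, ?_⟩
      · rw [hr, eq_inv_iff_mul_eq_one, ← pow_succ, ← pow_zero a, hpow]
        push_cast
        simpa using dvd_neg.2 hrinv
      · have h4 : (2 : ℤ) ^ (m' + 2) ∣ 2 ^ 2 * i * (2 * q - 1) := by
          convert hfix using 1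
          rw [show (r : ℤ) = 2 * (2 * q) - 1 by linarith]; ring
        rw [show (2 : ℤ) ^ (m' + 2) = 2 ^ 2 * 2 ^ m' by ring, mul_assoc,
          mul_dvd_mul_iff_left (by norm_num)] at h4
        obtain ⟨i', hi'⟩ := IsCoprime.dvd_of_dvd_mul_right (hodd'.pow_left) h4
        obtain ⟨e, he⟩ | ⟨e, he⟩ := Int.even_or_odd i'
        · exact absurd (⟨e, by rw [hi', he]; ring⟩ : (2 : ℤ) ^ (m' + 2) ∣ 2 * i) h2i
        · rw [hxi, show m' + 2 - 1 = m' + 1 by omega, hpow]
          push_cast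
          exact ⟨-e, by rw [hi', he]; ring⟩
    have hsq : ∀ g : G, g ^ 2 ∈ A := by
      intro g
      by_contra hg
      obtain ⟨k, hk1, hk2⟩ := exists_pow_notMem hG hg
      set w := g ^ 2 ^ k with hw
      have hwx : (g ^ 2) ^ 2 ^ k = w ^ 2 := by rw [hw, ← pow_mul, ← pow_mul, mul_comm]
      rw [hwx] at hk1 hk2
      obtain ⟨r, hr⟩ := hpowers _ (hAn.conj_mem a haA w)
      have h1 := (houter _ hk1 hk2).1
      rw [pow_two, show w * w * a * (w * w)⁻¹ = w * (w * a * w⁻¹) * w⁻¹ by group, ← hr,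
        ← conj_pow, ← hr, ← pow_mul, eq_inv_iff_mul_eq_one, ← pow_succ,
        ← orderOf_dvd_iff_pow_eq_one, hm] at h1
      have h4 : 4 ∣ r * r + 1 := (pow_dvd_pow 2 hm2 : 2 ^ 2 ∣ 2 ^ m).trans h1
      rw [← ZMod.natCast_eq_zero_iff] at h4
      push_cast at h4
      generalize (r : ZMod 4) = t at h4
      revert h4; revert t; decide
    obtain ⟨hinv, hx2⟩ := houter g₀ hg₀ (hsq g₀)
    have hcov : ∀ g : G, g ∈ A ∨ g₀⁻¹ * g ∈ A := by
      intro g
      by_cases hg : g ∈ A
      · exact Or.inl hg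
      refine Or.inr (hAself fun b hb => ?_)
      obtain ⟨s, rfl⟩ := hpowers b hb
      refine ((show Commute a (g₀⁻¹ * g) from ?_).pow_left s).eq
      show a * (g₀⁻¹ * g) = g₀⁻¹ * g * a
      calc a * (g₀⁻¹ * g) = g₀⁻¹ * (g₀ * a * g₀⁻¹) * g := by group
        _ = g₀⁻¹ * a⁻¹ * g := by rw [hinv]
        _ = g₀⁻¹ * (g * a * g⁻¹) * g := by rw [(houter g hg (hsq g)).1]
        _ = g₀⁻¹ * g * a := by group
    -- the isomorphism
    obtain ⟨n, rfl⟩ : ∃ n, m = n + 1 := ⟨m - 1, by omega⟩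
    refine ⟨rfl, n, by omega, ?_⟩
    rw [Nat.add_sub_cancel] at hx2
    have hord : orderOf a = 2 * 2 ^ n := by rw [hm, pow_succ']
    haveI : NeZero (2 ^ n) := ⟨pow_ne_zero _ two_ne_zero⟩
    set e : ZMod (2 * 2 ^ n) → G := fun i => a ^ i.val with he
    have hadd : ∀ i j, e (i + j) = e i * e j := fun i j => by
      simp only [he, ← pow_add]
      rw [pow_eq_pow_iff_modEq, hord, ZMod.val_add]
      exact Nat.mod_modEq _ _
    have he0 : e 0 = 1 := by simp [he]
    have hneg : ∀ i, e (-i) = (e i)⁻¹ := fun i =>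
      eq_inv_of_mul_eq_one_left (by rw [← hadd, neg_add_cancel, he0])
    have hsub : ∀ i j, e (i - j) = e i * (e j)⁻¹ := fun i j => by
      rw [sub_eq_add_neg, hadd, hneg]
    have hhalf : e ((2 ^ n : ℕ) : ZMod (2 * 2 ^ n)) = g₀ ^ 2 := by
      rw [hx2, he]
      simp only [ZMod.val_natCast]
      rw [Nat.mod_eq_of_lt (by have := Nat.two_pow_pos n; omega)]
    have hflip : ∀ i, e i * g₀ = g₀ * (e i)⁻¹ := by
      intro i
      simp only [he]
      rw [← inv_pow, ← hinv, conj_pow]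
      have hc : g₀ ^ 2 * a ^ i.val = a ^ i.val * g₀ ^ 2 := by
        rw [hx2]; exact ((Commute.refl a).pow_pow _ _).eq
      calc a ^ i.val * g₀ = a ^ i.val * g₀ ^ 2 * g₀⁻¹ := by rw [pow_two]; group
        _ = g₀ * (g₀ * a ^ i.val * g₀⁻¹) := by rw [← hc, pow_two]; group
    have hcomm : ∀ i j, e i * e j = e j * e i := fun i j => by rw [← hadd, ← hadd, add_comm]
    let f : QuaternionGroup (2 ^ n) →* G :=
      MonoidHom.mk' (fun q => match q with
        | .a i => e i
        | .xa i => g₀ * e i) (by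
        rintro (i | i) (j | j)
        · simp only [QuaternionGroup.a_mul_a]; exact hadd i j
        · simp only [QuaternionGroup.a_mul_xa]
          rw [← mul_assoc, hflip, mul_assoc, hsub, ← hneg, hcomm]
        · simp only [QuaternionGroup.xa_mul_a]; rw [hadd, mul_assoc]
        · simp only [QuaternionGroup.xa_mul_xa]
          rw [mul_assoc g₀, ← mul_assoc (e i), hflip, hsub, hadd, hhalf, pow_two, ← hneg]
          simp only [mul_assoc]
          rw [hcomm])
    have hinj : Function.Injective e := fun i j h => ZMod.val_injective _ (by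
      refine pow_injOn_Iio_orderOf ?_ ?_ h <;>
        · rw [Set.mem_Iio, hord]; exact ZMod.val_lt _)
    have hne : ∀ i j, e i ≠ g₀ * e j := fun i j h => hg₀ (by
      have := A.mul_mem (A.pow_mem haA i.val) (A.inv_mem (A.pow_mem haA j.val))
      rwa [show a ^ i.val = e i from rfl, h, mul_inv_cancel_right] at this)
    refine ⟨(MulEquiv.ofBijective f ⟨?_, ?_⟩).symm⟩
    · rintro (i | i) (j | j) h
      · exact congrArg _ (hinj h)
      · exact absurd h (hne i j)
      · exact absurd h.symm (hne j i)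
      · exact congrArg _ (hinj (mul_left_cancel h))
    · intro g
      rcases hcov g with h | h
      · obtain ⟨s, hs⟩ := hpowers g h
        refine ⟨QuaternionGroup.a (s : ZMod (2 * 2 ^ n)), ?_⟩
        show a ^ (s : ZMod (2 * 2 ^ n)).val = g
        rw [ZMod.val_natCast, ← hord, pow_mod_orderOf, hs]
      · obtain ⟨s, hs⟩ := hpowers _ h
        refine ⟨QuaternionGroup.xa (s : ZMod (2 * 2 ^ n)), ?_⟩
        show g₀ * a ^ (s : ZMod (2 * 2 ^ n)).val = g
        rw [ZMod.val_natCast, ← hord, pow_mod_orderOf, hs, mul_inv_cancel_left]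

end CfsgLib.UniqueSubgroup
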