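/-
Ordinary character theory of finite groups over ℂ for the `Cfsg` vocabulary.

`Lib.CharTheory.Basic`: realisation on `Fin n → ℂ`, closure properties, values at inverses,
  inner product, orthogonality, decomposition into irreducibles, completeness.
`Lib.CharTheory.Irr`: finiteness, `eq_sum_irr`, second orthogonality, #Irr = #classes,
  generalized characters, norm-one criteria.
`Lib.CharTheory.Induced`: Frobenius reciprocity, transitivity, induced characters.
`Lib.CharTheory.Integral`: algebraic integers, central characters, degree divides order.
-/
import Cfsg.Agent.Lib.CharTheory.Basic
import Cfsg.Agent.Lib.CharTheory.Irr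
import Cfsg.Agent.Lib.CharTheory.Induced
import Cfsg.Agent.Lib.CharTheory.Integral
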