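import Mathlib.GroupTheory.Sylow

/-!
Sylow subgroups and normal subgroups, indices of centralizers.
-/

set_option autoImplicit false

namespace CfsgLib

variable {G : Type*} [Group G]

/-- `[N : H ∩ N]` divides `[G : H]` for normal `N`. -/
theorem relIndex_dvd_index_of_normal_top (H N : Subgroup G) [N.Normal] [Finite G] :
    H.relIndex N ∣ H.index := by
  have h3 : N.relIndex (H ⊔ N) = N.relIndex H := Subgroup.relIndex_sup_right _ _
  have a1 := Subgroup.relIndex_mul_relIndex (H ⊓ N) H (H ⊔ N) inf_le_left le_sup_left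
  have a2 := Subgroup.relIndex_mul_relIndex (H ⊓ N) N (H ⊔ N) inf_le_right le_sup_right
  rw [Subgroup.inf_relIndex_left] at a1
  rw [Subgroup.inf_relIndex_right, h3, ← a1, mul_comm (H.relIndex N)] at a2
  rw [Nat.eq_of_mul_eq_mul_left (Nat.pos_of_ne_zero Subgroup.index_ne_zero_of_finite) a2,
    ← Subgroup.relIndex_mul_index (le_sup_left : H ≤ H ⊔ N)]
  exact dvd_mul_right _ _

theorem not_dvd_relIndex_of_sylow [Finite G] {p : ℕ} [Fact p.Prime] (P : Sylow p G)
    (N : Subgroup G) [N.Normal] : ¬ p ∣ (P : Subgroup G).relIndex N :=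
  fun h => P.not_dvd_index (h.trans (relIndex_dvd_index_of_normal_top _ N))

/-- The Sylow subgroup `P ∩ N` of a normal subgroup `N`. -/
noncomputable def sylowInfNormal [Finite G] {p : ℕ} [Fact p.Prime] (P : Sylow p G)
    (N : Subgroup G) [N.Normal] : Sylow p N :=
  (P.2.comap_subtype (H := P.1) (K := N)).toSylow (not_dvd_relIndex_of_sylow P N)

@[simp] theorem coe_sylowInfNormal [Finite G] {p : ℕ} [Fact p.Prime] (P : Sylow p G)
    (N : Subgroup G) [N.Normal] :
    (sylowInfNormal P N : Subgroup N) = (P : Subgroup G).subgroupOf N := rfl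

/-- If the index of `H` is prime to `p`, then `H` contains a Sylow `p`-subgroup of `G`. -/
theorem exists_sylow_le_of_not_dvd_index [Finite G] {p : ℕ} [Fact p.Prime] (H : Subgroup G)
    (h : ¬ p ∣ H.index) : ∃ P : Sylow p G, (P : Subgroup G) ≤ H := by
  obtain ⟨Q⟩ : Nonempty (Sylow p H) := inferInstance
  refine ⟨(Q.2.map H.subtype).toSylow ?_, Subgroup.map_subtype_le _⟩
  rw [Subgroup.index_map_subtype Q.1]
  exact Nat.Prime.not_dvd_mul Fact.out Q.not_dvd_index h

/-- A `p`-element centralizing a Sylow `p`-subgroup lies in it. -/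
theorem mem_sylow_of_mem_centralizer [Finite G] {p : ℕ} [Fact p.Prime] (P : Sylow p G) {x : G}
    (hx : ∃ k : ℕ, x ^ p ^ k = 1) (hc : ∀ y ∈ (P : Subgroup G), Commute x y) : x ∈ (P : Subgroup G) := by
  obtain ⟨k, hk⟩ := hx
  have hX : IsPGroup p (Subgroup.zpowers x) := by
    rintro ⟨y, m, rfl⟩
    refine ⟨k, Subtype.ext ?_⟩
    show (x ^ m) ^ p ^ k = 1
    rw [← zpow_natCast, ← zpow_mul, mul_comm, zpow_mul, zpow_natCast, hk, one_zpow]
  have hle : Subgroup.zpowers x ≤ Subgroup.normalizer ((P : Subgroup G) : Set G) := by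
    rw [Subgroup.zpowers_le]
    rw [Subgroup.mem_normalizer_iff]
    intro y
    constructor
    · intro hy
      rwa [(hc y hy).eq, mul_inv_cancel_right]
    · intro hy
      have h1 := (hc _ hy).eq
      have : x * y * x⁻¹ = y := by
        have h2 := congrArg (fun t => x⁻¹ * t) h1
        simpa [mul_assoc] using h2
      rwa [this] at hy
  have hj : IsPGroup p (Subgroup.zpowers x ⊔ (P : Subgroup G) : Subgroup G) :=
    IsPGroup.to_sup_of_normal_right' hX P.2 hle
  rw [← P.3 hj le_sup_right]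
  exact Subgroup.mem_sup_left (Subgroup.mem_zpowers x)

end CfsgLib
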