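import Cfsg.Agent.Lib.Basic
import Cfsg.Agent.Lib.Components
import Cfsg.Agent.Lib.SylowExtra
import Cfsg.Agent.Lib.CharTheory
import Cfsg.Agent.Lib.CharTheory.Linear
import Cfsg.Agent.Lib.CharTheory.Burnside
import Mathlib.GroupTheory.SchurZassenhaus

/-!
`p`-regular elements, their centralisers in quotients, abelian subgroups of prime power index,
and `C_G(F(G)) ≤ F(G)` for solvable groups.
-/

set_option autoImplicit false

namespace CfsgLib

open Cfsg Subgroup
open scoped IsMulCommutative

universe u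

variable {G : Type u} [Group G]

theorem ncard_carrier_eq_index_centralizer [Finite G] (x : G) :
    (ConjClasses.mk x).carrier.ncard = (Subgroup.centralizer ({x} : Set G)).index := by
  rw [Subgroup.centralizer_eq_comap_stabilizer]
  erw [Subgroup.index_comap_of_surjective _ (MulEquiv.surjective _)]
  rw [MulAction.index_stabilizer, ← ConjAct.orbit_eq_carrier_conjClasses]

/-- An element of coprime order in a quotient has a preimage of coprime order. -/
theorem exists_coprime_preimage [Finite G] {p : ℕ} (hp : p.Prime) (N : Subgroup G) [N.Normal]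
    (z : G ⧸ N) (hz : (orderOf z).Coprime p) :
    ∃ y : G, QuotientGroup.mk' N y = z ∧ (orderOf y).Coprime p := by
  obtain ⟨y₀, rfl⟩ := QuotientGroup.mk'_surjective N z
  set a := (orderOf y₀).factorization p with ha
  obtain ⟨u, hu⟩ := exists_pow_eq_self_of_coprime
    (x := QuotientGroup.mk' N y₀) (n := p ^ a) (hz.symm.pow_left a)
  refine ⟨(y₀ ^ (p ^ a)) ^ u, by rw [map_pow, map_pow, hu], ?_⟩
  refine Nat.Coprime.coprime_dvd_left (orderOf_pow_dvd u) ?_
  rw [orderOf_pow, Nat.gcd_eq_right (Nat.ordProj_dvd _ _)]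
  exact (Nat.coprime_ordCompl hp (orderOf_pos y₀).ne').symm

theorem index_centralizer_quotient_dvd (N : Subgroup G) [N.Normal] (x : G) :
    (Subgroup.centralizer ({QuotientGroup.mk' N x} : Set (G ⧸ N))).index ∣
      (Subgroup.centralizer ({x} : Set G)).index := by
  refine (Subgroup.index_dvd_of_le ?_).trans
    (Subgroup.index_map_dvd (f := QuotientGroup.mk' N) _ (QuotientGroup.mk'_surjective N))
  rintro _ ⟨c, hc, rfl⟩
  rw [Subgroup.mem_centralizer_singleton_iff, ← map_mul, ← map_mul,
    Subgroup.mem_centralizer_singleton_iff.mp hc]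

/-- In an abelian normal `p`-subgroup, translates of a `p`-regular element are conjugates. -/
theorem exists_conj_eq_mul_of_coprime [Finite G] {p : ℕ} [Fact p.Prime] (N : Subgroup G) [hN : N.Normal]
    [IsMulCommutative N] (hNp : IsPGroup p N) {x n : G} (hn : n ∈ N)
    (hx : (orderOf x).Coprime p) (hxn : (orderOf (x * n)).Coprime p) :
    ∃ c ∈ N, c * x * c⁻¹ = x * n := by
  classical
  let T : N →* N :=
    { toFun := fun a => ⟨x⁻¹ * a * x, by simpa using hN.conj_mem _ a.2 x⁻¹⟩
      map_one' := Subtype.ext (by simp)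
      map_mul' := fun a b => Subtype.ext (by simp [mul_assoc]) }
  let ν : N := ⟨n, hn⟩
  let P : ℕ → N := fun i => (fun a : N => T a * ν)^[i] 1
  have hP : ∀ i, (x * n) ^ i = x ^ i * ((P i : N) : G) := by
    intro i
    induction i with
    | zero => simp [P]
    | succ i ih =>
      have e : ((P (i + 1) : N) : G) = x⁻¹ * ((P i : N) : G) * x * n := by
        simp [P, Function.iterate_succ_apply', T, ν]
      rw [pow_succ, ih, e, pow_succ]
      group
  set m := orderOf x * orderOf (x * n) with hm
  have hPm : P m = P 0 := by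
    have h := hP m
    rw [orderOf_dvd_iff_pow_eq_one.mp (Dvd.intro_left _ rfl : orderOf (x * n) ∣ m),
      orderOf_dvd_iff_pow_eq_one.mp (Dvd.intro _ rfl : orderOf x ∣ m), one_mul] at h
    exact Subtype.ext (by simpa [P] using h.symm)
  have hQ : T (∏ i ∈ Finset.range m, P i) * ν ^ m = ∏ i ∈ Finset.range m, P i := by
    have h1 : ∏ i ∈ Finset.range m, P (i + 1) = T (∏ i ∈ Finset.range m, P i) * ν ^ m := by
      rw [map_prod, ← Finset.card_range m, ← Finset.prod_const, Finset.card_range,
        ← Finset.prod_mul_distrib]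
      exact Finset.prod_congr rfl fun i _ => by simp [P, Function.iterate_succ_apply']
    rw [← h1]
    have a1 := Finset.prod_range_succ P m
    have a2 := Finset.prod_range_succ' P m
    rw [a1, hPm] at a2
    exact (mul_right_cancel a2).symm
  have hcop : m.Coprime (orderOf ν) := by
    obtain ⟨k, hk⟩ := IsPGroup.iff_orderOf.mp hNp ν
    rw [hk]
    exact (Nat.Coprime.mul_left hx hxn).pow_right k
  obtain ⟨u, hu⟩ := exists_pow_eq_self_of_coprime hcop
  set a := (∏ i ∈ Finset.range m, P i) ^ u with ha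
  have hν : T a⁻¹ * a = ν := by
    have h1 : ν ^ m = (T (∏ i ∈ Finset.range m, P i))⁻¹ * ∏ i ∈ Finset.range m, P i :=
      eq_inv_mul_of_mul_eq hQ
    have h2 : (ν ^ m) ^ u = ((T (∏ i ∈ Finset.range m, P i))⁻¹ * ∏ i ∈ Finset.range m, P i) ^ u := by
      rw [h1]
    rw [hu] at h2
    rw [h2, mul_pow, ha, map_inv, map_pow, inv_pow]
  refine ⟨((a⁻¹ : N) : G), (a⁻¹ : N).2, ?_⟩
  have h := congrArg (fun z : N => (z : G)) hν
  simp only [T, ν, Subgroup.coe_mul, MonoidHom.coe_mk, OneHom.coe_mk] at h
  rw [← h]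
  simp [mul_assoc]

/-- `|HN : H| = |N : H ∩ N|`. -/
theorem relIndex_sup_normal_eq [Finite G] (H N : Subgroup G) [N.Normal] :
    H.relIndex (H ⊔ N) = H.relIndex N := by
  have h3 : N.relIndex (H ⊔ N) = N.relIndex H := Subgroup.relIndex_sup_right _ _
  have a1 := Subgroup.relIndex_mul_relIndex (H ⊓ N) H (H ⊔ N) inf_le_left le_sup_left
  have a2 := Subgroup.relIndex_mul_relIndex (H ⊓ N) N (H ⊔ N) inf_le_right le_sup_right
  rw [Subgroup.inf_relIndex_left] at a1
  rw [Subgroup.inf_relIndex_right, h3, ← a1, mul_comm (H.relIndex N)] at a2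
  exact (Nat.eq_of_mul_eq_mul_left (Nat.pos_of_ne_zero Subgroup.index_ne_zero_of_finite) a2).symm

/-- The index of the centraliser of a `p`-regular element, modulo an abelian normal `p`-subgroup. -/
theorem index_centralizer_eq_pow_of_quotient [Finite G] {p : ℕ} [hp : Fact p.Prime]
    (N : Subgroup G) [hN : N.Normal] [IsMulCommutative N] (hNp : IsPGroup p N) {x : G}
    (hx : (orderOf x).Coprime p) {k : ℕ}
    (hk : (Subgroup.centralizer ({QuotientGroup.mk' N x} : Set (G ⧸ N))).index = p ^ k) :
    ∃ j : ℕ, (Subgroup.centralizer ({x} : Set G)).index = p ^ j := by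
  set C := Subgroup.centralizer ({x} : Set G) with hC
  set M := (Subgroup.centralizer ({QuotientGroup.mk' N x} : Set (G ⧸ N))).comap (QuotientGroup.mk' N)
    with hM
  have hle : C ⊔ N ≤ M := by
    refine sup_le ?_ ?_
    · intro c hc
      rw [hM, Subgroup.mem_comap, Subgroup.mem_centralizer_singleton_iff, ← map_mul, ← map_mul,
        Subgroup.mem_centralizer_singleton_iff.mp hc]
    · intro n hn
      rw [hM, Subgroup.mem_comap, Subgroup.mem_centralizer_singleton_iff]
      have : QuotientGroup.mk' N n = 1 := (QuotientGroup.eq_one_iff n).mpr hn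
      rw [this, one_mul, mul_one]
  have hge : M ≤ C ⊔ N := by
    intro g hg
    rw [hM, Subgroup.mem_comap, Subgroup.mem_centralizer_singleton_iff] at hg
    have hn : x⁻¹ * (g * x * g⁻¹) ∈ N := by
      rw [← QuotientGroup.eq_one_iff, ← QuotientGroup.mk'_apply]
      simp only [map_mul, map_inv, hg]
      group
    have hord : orderOf (x * (x⁻¹ * (g * x * g⁻¹))) = orderOf x := by
      rw [mul_inv_cancel_left, ← MulAut.conj_apply, MulEquiv.orderOf_eq]
    obtain ⟨c, hcN, hc⟩ := exists_conj_eq_mul_of_coprime N hNp hn hx (by rw [hord]; exact hx)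
    rw [mul_inv_cancel_left] at hc
    have hcg : c⁻¹ * g ∈ C := by
      rw [hC, Subgroup.mem_centralizer_singleton_iff]
      calc c⁻¹ * g * x = c⁻¹ * (g * x * g⁻¹) * g := by group
        _ = c⁻¹ * (c * x * c⁻¹) * g := by rw [hc]
        _ = x * (c⁻¹ * g) := by group
    rw [show g = c * (c⁻¹ * g) by group]
    exact mul_mem (Subgroup.mem_sup_right hcN) (Subgroup.mem_sup_left hcg)
  have hidx : C.index = C.relIndex N * p ^ k := by
    rw [← Subgroup.relIndex_mul_index (le_sup_left : C ≤ C ⊔ N), relIndex_sup_normal_eq]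
    congr 1
    rw [le_antisymm hle hge, hM, Subgroup.index_comap_of_surjective _ (QuotientGroup.mk'_surjective N), hk]
  obtain ⟨n, hn⟩ := hNp.exists_card_eq
  obtain ⟨i, -, hi⟩ := (Nat.dvd_prime_pow hp.out).mp
    (hn ▸ (C.subgroupOf N).index_dvd_card : C.relIndex N ∣ p ^ n)
  exact ⟨i + k, by rw [hidx, hi, ← pow_add]⟩

/-- In a solvable group there are no components, so `C_G(F(G)) ≤ F(G)`. -/
theorem centralizer_fitting_le_of_solvable [Finite G] [Group.IsSolvable G] :
    Subgroup.centralizer (fittingSubgroup G : Set G) ≤ fittingSubgroup G := by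
  have hl : layer G = ⊥ := by
    refine sSup_eq_bot.mpr ?_
    intro K hK
    by_contra _
    exact isQuasisimple_not_isSolvable hK.2 inferInstance
  have hg : generalizedFittingSubgroup G = fittingSubgroup G := by
    rw [generalizedFittingSubgroup, hl, bot_sup_eq]
  have h := centralizer_generalizedFitting_le (G := G)
  rwa [hg] at h

theorem not_dvd_card_fitting_of_pCore_eq_bot [Finite G] {p : ℕ} [hp : Fact p.Prime]
    (h : pCore p G = ⊥) : ¬ p ∣ Nat.card (fittingSubgroup G) := by
  intro hd
  have hnil := isNilpotent_fittingSubgroup (G := G)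
  obtain ⟨S⟩ : Nonempty (Sylow p (fittingSubgroup G)) := inferInstance
  have hSn : (S : Subgroup (fittingSubgroup G)).Normal :=
    (Group.isNilpotent_of_finite_tfae.out 0 3 rfl rfl).mp hnil p hp S
  have := Sylow.characteristic_of_normal S hSn
  have hb : (S : Subgroup (fittingSubgroup G)).map (fittingSubgroup G).subtype ≤ pCore p G :=
    le_pCore (S.2.map _)
  rw [h, le_bot_iff, Subgroup.map_eq_bot_iff_of_injective _ (Subgroup.subtype_injective _)] at hb
  have := S.dvd_card_of_dvd_card hd
  rw [hb, Subgroup.card_bot] at this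
  exact hp.out.not_dvd_one this

theorem exists_abelian_normal_pSubgroup [Finite G] {p : ℕ} [hp : Fact p.Prime]
    (h : pCore p G ≠ ⊥) :
    ∃ N : Subgroup G, N.Normal ∧ IsMulCommutative N ∧ IsPGroup p N ∧ N ≠ ⊥ := by
  have hpg := isPGroup_pCore (G := G) p
  have : Nontrivial (pCore p G) := (Subgroup.nontrivial_iff_ne_bot _).mpr h
  have : Nontrivial (Subgroup.center (pCore p G)) := hpg.center_nontrivial
  refine ⟨(Subgroup.center (pCore p G)).map (pCore p G).subtype, inferInstance, inferInstance,
    (hpg.to_subgroup _).map _, ?_⟩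
  rw [Ne, Subgroup.map_eq_bot_iff_of_injective _ (Subgroup.subtype_injective _)]
  exact (Subgroup.nontrivial_iff_ne_bot _).mp inferInstance

theorem card_lt_of_ne_top [Finite G] {N : Subgroup G} (h : N ≠ ⊤) : Nat.card N < Nat.card G :=
  lt_of_le_of_ne (Subgroup.card_le_card_group N)
    (fun e => h (Subgroup.card_eq_iff_eq_top N |>.mp e))

theorem card_quotient_lt_of_ne_bot [Finite G] {N : Subgroup G} [N.Normal] (h : N ≠ ⊥) :
    Nat.card (G ⧸ N) < Nat.card G := by
  rw [Subgroup.card_eq_card_quotient_mul_card_subgroup N]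
  refine lt_mul_of_one_lt_right Nat.card_pos ?_
  exact lt_of_le_of_ne Nat.card_pos (fun e => h (Subgroup.card_eq_one.mp e.symm))

theorem exists_primePow_index_of_dvd [Finite G] {p k : ℕ} (hp : p.Prime) {H : Subgroup G}
    {n : ℕ} (hn : n ∣ H.index) (hk : H.index = p ^ k) : ∃ j, n = p ^ j := by
  obtain ⟨j, -, hj⟩ := (Nat.dvd_prime_pow hp).mp (hk ▸ hn)
  exact ⟨j, hj⟩

/-- A finite group with an abelian subgroup of prime power index is solvable (Burnside). -/
theorem isSolvable_of_abelian_primePow_index {p : ℕ} (hp : p.Prime) :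
    ∀ (G : Type u) [Group G] [Finite G] (A : Subgroup G), IsMulCommutative A →
      (∃ k : ℕ, A.index = p ^ k) → Group.IsSolvable G := by
  suffices ∀ n, ∀ (G : Type u) [Group G] [Finite G], Nat.card G = n → ∀ (A : Subgroup G),
      IsMulCommutative A → (∃ k : ℕ, A.index = p ^ k) → Group.IsSolvable G from
    fun G _ _ A => this _ G rfl A
  intro n
  induction n using Nat.strong_induction_on with
  | _ n ih =>
  intro G _ _ hn A hA ⟨k, hk⟩
  subst hn
  have := Fact.mk hp
  rcases subsingleton_or_nontrivial G with h | h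
  · infer_instance
  by_cases hs : IsSimpleGroup G
  · rcases eq_or_ne A ⊥ with hb | hb
    · rw [hb, Subgroup.index_bot] at hk
      have := (IsPGroup.of_card hk).isNilpotent
      infer_instance
    · obtain ⟨x, hxA, hx1⟩ := A.ne_bot_iff_exists_ne_one.mp hb |> fun ⟨⟨x, hx⟩, hx'⟩ =>
        (⟨x, hx, fun e => hx' (Subtype.ext e)⟩ : ∃ x, x ∈ A ∧ x ≠ 1)
      have hle : A ≤ Subgroup.centralizer ({x} : Set G) := fun a ha =>
        Subgroup.mem_centralizer_singleton_iff.mpr
          (congrArg Subtype.val (mul_comm (⟨a, ha⟩ : A) ⟨x, hxA⟩))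
      obtain ⟨j, hj⟩ := exists_primePow_index_of_dvd hp (Subgroup.index_dvd_of_le hle) hk
      have hpr := CfsgLib.CharTheory.prime_card_of_simple_class_prime_pow hp hx1 hj
      have := Fact.mk hpr
      have := isCyclic_of_prime_card (α := G) rfl
      letI := IsCyclic.commGroup (α := G)
      infer_instance
  · obtain ⟨N, hN, hN1, hN2⟩ : ∃ N : Subgroup G, N.Normal ∧ N ≠ ⊥ ∧ N ≠ ⊤ := by
      by_contra hc
      push Not at hc
      exact hs ⟨fun N hN => (em (N = ⊥)).imp id (hc N hN)⟩
    refine (Group.isSolvable_iff_subgroup_quotient N).mpr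
      ⟨ih _ (card_lt_of_ne_top hN2) N rfl (A.subgroupOf N) inferInstance
        (exists_primePow_index_of_dvd hp (relIndex_dvd_index_of_normal_top A N) hk),
      ih _ (card_quotient_lt_of_ne_bot hN1) (G ⧸ N) rfl (A.map (QuotientGroup.mk' N)) inferInstance
        (exists_primePow_index_of_dvd hp
          (Subgroup.index_map_dvd _ (QuotientGroup.mk'_surjective N)) hk)⟩

end CfsgLib
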