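import Mathlib
import Cfsg.Prelude.Def_EvenTechniques
import Cfsg.Agent.Lib.PRegularClass
import Cfsg.Agent.Lib.Elementary

/-!
Ranks of `p`-groups with central elementary abelian Frattini subgroup.
-/

set_option autoImplicit false

namespace CfsgLib.RankFrattini

open scoped commutatorElement

variable {P : Type*} [Group P] [Finite P] {p : ℕ} [hp : Fact p.Prime]

/-- An element outside a subgroup with elementary quotient is missed by a subgroup of index `p`. -/
theorem exists_maximal_avoiding (hP : IsPGroup p P) (N : Subgroup P) {x : P} (hx : x ∉ N)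
    (hc : ∀ a b : P, ⁅a, b⁆ ∈ N) (hpow : ∀ a : P, a ^ p ∈ N) :
    ∃ M : Subgroup P, IsCoatom M ∧ M.Normal ∧ N ≤ M ∧ x ∉ M := by
  obtain ⟨M, hNM, hM⟩ := (Set.toFinite {M : Subgroup P | N ≤ M ∧ x ∉ M}).exists_le_maximal
    (show N ∈ {M : Subgroup P | N ≤ M ∧ x ∉ M} from ⟨le_rfl, hx⟩)
  have hMn : M.Normal := ⟨fun m hm g => by
    have := M.mul_mem (hNM (hc g m)) hm
    simpa [commutatorElement_def, mul_assoc] using this⟩
  have htop : ∀ y : P, y ∈ M ⊔ Subgroup.zpowers x := by
    intro y
    by_cases hy : y ∈ M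
    · exact Subgroup.mem_sup_left hy
    have hxy : x ∈ M ⊔ Subgroup.zpowers y := by
      by_contra h
      have := hM.2 ⟨hNM.trans le_sup_left, h⟩ le_sup_left
      exact hy (this (Subgroup.mem_sup_right (Subgroup.mem_zpowers y)))
    obtain ⟨m, hm, _, ⟨i, rfl⟩, e⟩ := Subgroup.mem_sup_of_normal_left.mp hxy
    have hyp : y ^ (p : ℤ) ∈ M := by rw [zpow_natCast]; exact hNM (hpow y)
    have hip : ¬ (p : ℤ) ∣ i := by
      rintro ⟨t, rfl⟩
      refine hM.1.2 (e ▸ M.mul_mem hm ?_)
      show y ^ ((p : ℤ) * t) ∈ M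
      rw [zpow_mul]
      exact M.zpow_mem hyp t
    obtain ⟨u, v, huv⟩ := (Nat.prime_iff_prime_int.mp hp.out).coprime_iff_not_dvd.mpr hip
    have hyi : y ^ i ∈ M ⊔ Subgroup.zpowers x := by
      have h1 : m * y ^ i = x := e
      have : y ^ i = m⁻¹ * x := by rw [← h1, inv_mul_cancel_left]
      rw [this]
      exact Subgroup.mul_mem_sup (M.inv_mem hm) (Subgroup.mem_zpowers x)
    rw [show y = (y ^ (p : ℤ)) ^ u * (y ^ i) ^ v by
      rw [← zpow_mul, ← zpow_mul, ← zpow_add, mul_comm (p : ℤ), mul_comm i, huv, zpow_one]]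
    exact mul_mem (Subgroup.zpow_mem _ (Subgroup.mem_sup_left hyp) _) (Subgroup.zpow_mem _ hyi _)
  refine ⟨M, ⟨fun e => hM.1.2 (e ▸ Subgroup.mem_top x), fun K hK => ?_⟩, hMn, hM.1.1, hM.1.2⟩
  have hxK : x ∈ K := by
    by_contra h
    exact hK.not_ge (hM.2 ⟨hNM.trans hK.le, h⟩ hK.le)
  exact top_le_iff.mp fun y _ => (sup_le hK.le (Subgroup.zpowers_le.mpr hxK)) (htop y)

theorem frattini_le_of_elementary (hP : IsPGroup p P) (N : Subgroup P)
    (hc : ∀ a b : P, ⁅a, b⁆ ∈ N) (hpow : ∀ a : P, a ^ p ∈ N) : frattini P ≤ N := by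
  intro x hx
  by_contra h
  obtain ⟨M, hM, -, -, hxM⟩ := exists_maximal_avoiding hP N h hc hpow
  exact hxM (frattini_le_coatom hM hx)

omit [Finite P] in
theorem pRank_bddAbove [Finite P] : BddAbove {k : ℕ | Cfsg.PRankAtLeast p k P} := by
  refine ⟨Nat.card P, ?_⟩
  rintro k ⟨A, -, -, hA⟩
  exact ((Nat.lt_pow_self hp.out.one_lt).le.trans hA).trans (Subgroup.card_le_card_group A)

theorem le_pRank {k : ℕ} {A : Subgroup P} (hA : IsMulCommutative A) (he : ∀ a ∈ A, a ^ p = 1)
    (hk : p ^ k ≤ Nat.card A) : k ≤ Cfsg.pRank p P :=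
  le_csSup pRank_bddAbove ⟨A, hA, he, hk⟩

theorem pRank_eq_of_elementary (hc : ∀ a b : P, a * b = b * a) (he : ∀ a : P, a ^ p = 1) {k : ℕ}
    (hk : Nat.card P = p ^ k) : Cfsg.pRank p P = k := by
  refine le_antisymm ?_ ?_
  · refine csSup_le ⟨k, ⊤, ⟨⟨fun a b => Subtype.ext (hc a b)⟩⟩, fun a _ => he a, ?_⟩ ?_
    · rw [Subgroup.card_top, hk]
    · rintro j ⟨A, -, -, hA⟩
      exact (Nat.pow_le_pow_iff_right hp.out.one_lt).mp (hA.trans (hk ▸ Subgroup.card_le_card_group A))
  · exact le_pRank (A := ⊤) ⟨⟨fun a b => Subtype.ext (hc a b)⟩⟩ (fun a _ => he a)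
      (by rw [Subgroup.card_top, hk])

/-- Centralisers of subgroups over a central subgroup containing all commutators. -/
theorem index_centralizer_le (F : Subgroup P) (hF : ∀ a b : P, ⁅a, b⁆ ∈ F) (hFc : F ≤ Subgroup.center P)
    {l : ℕ} (hl : Nat.card F = p ^ l) :
    ∀ (j : ℕ) (B : Subgroup P), F ≤ B → Nat.card B = p ^ (l + j) →
      (Subgroup.centralizer (B : Set P)).index ≤ p ^ (l * j) := by
  intro j
  induction j with
  | zero =>
    intro B hB hcard
    have hBF : F = B := Subgroup.eq_of_le_of_card_ge hB (by rw [hl, hcard, add_zero])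
    have : Subgroup.centralizer (B : Set P) = ⊤ := by
      rw [← hBF, Subgroup.centralizer_eq_top_iff_subset]
      exact hFc
    rw [this, Subgroup.index_top, mul_zero, pow_zero]
  | succ j ih =>
    intro B hB hcard
    obtain ⟨D, hD, hFD⟩ := Sylow.exists_subgroup_card_pow_prime_le p (n := l) (m := l + j)
      (G := B) (hcard ▸ pow_dvd_pow p (by omega)) (F.subgroupOf B)
      (by rw [Nat.card_congr (Subgroup.subgroupOfEquivOfLe hB).toEquiv, hl]) (Nat.le_add_right l j)
    obtain ⟨a, ha, haD⟩ : ∃ a ∈ B, a ∉ D.map B.subtype := by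
      by_contra hc
      push Not at hc
      have := Subgroup.card_le_of_le (show B ≤ D.map B.subtype from hc)
      rw [Subgroup.card_map_of_injective B.subtype_injective, hD, hcard] at this
      exact absurd this (not_le.mpr (Nat.pow_lt_pow_right hp.out.one_lt (by omega)))
    set B' := D.map B.subtype
    have hB'B : B' ≤ B := Subgroup.map_subtype_le D
    have hsup : B' ⊔ Subgroup.zpowers a = B := by
      set E := B' ⊔ Subgroup.zpowers a
      have hEB : E ≤ B := sup_le hB'B (Subgroup.zpowers_le.mpr ha)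
      obtain ⟨e, he, he'⟩ := (Nat.dvd_prime_pow hp.out).mp (hcard ▸ Subgroup.card_dvd_of_le hEB)
      refine Subgroup.eq_of_le_of_card_ge hEB ?_
      rw [hcard, he']
      refine Nat.pow_le_pow_right hp.out.pos ?_
      by_contra hlt
      push Not at hlt
      have hle : Nat.card E ≤ Nat.card B' := by
        rw [he', Subgroup.card_map_of_injective B.subtype_injective, hD]
        exact Nat.pow_le_pow_right hp.out.pos (by omega)
      have := Subgroup.eq_of_le_of_card_ge (le_sup_left : B' ≤ E) hle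
      exact haD (this ▸ Subgroup.mem_sup_right (Subgroup.mem_zpowers a))
    have hFB' : F ≤ B' := by
      intro z hz
      exact ⟨⟨z, hB hz⟩, hFD hz, rfl⟩
    have h1 := ih B' hFB' (by rw [Subgroup.card_map_of_injective B.subtype_injective, hD])
    have h2 : (Subgroup.centralizer ({a} : Set P)).index ≤ p ^ l := by
      rw [← CfsgLib.ncard_carrier_eq_index_centralizer, ← hl, ← Nat.card_coe_set_eq]
      refine Nat.card_le_card_of_injective (fun z : (ConjClasses.mk a).carrier =>
        (⟨(z : P) * a⁻¹, ?_⟩ : F)) fun z w h => ?_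
      · obtain ⟨c, hc⟩ := isConj_iff.mp (ConjClasses.mk_eq_mk_iff_isConj.mp
          (ConjClasses.mem_carrier_iff_mk_eq.mp z.2).symm)
        rw [← hc]
        exact hF c a
      · exact Subtype.ext (mul_right_cancel (congrArg Subtype.val h))
    have heq : Subgroup.centralizer (B' : Set P) ⊓ Subgroup.centralizer ({a} : Set P) ≤
        Subgroup.centralizer (B : Set P) := by
      intro z hz
      rw [Subgroup.mem_centralizer_iff]
      intro b hb
      have hle : B ≤ Subgroup.centralizer ({z} : Set P) := by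
        rw [← hsup]
        refine sup_le (fun y hy => Subgroup.mem_centralizer_singleton_iff.mpr
          (Subgroup.mem_centralizer_iff.mp (Subgroup.mem_inf.mp hz).1 y hy)) ?_
        rw [Subgroup.zpowers_le, Subgroup.mem_centralizer_singleton_iff]
        exact (Subgroup.mem_centralizer_singleton_iff.mp (Subgroup.mem_inf.mp hz).2).symm
      exact Subgroup.mem_centralizer_singleton_iff.mp (hle hb)
    refine (Nat.le_of_dvd (Nat.pos_of_ne_zero (Subgroup.index_ne_zero_of_finite))
      (Subgroup.index_dvd_of_le heq)).trans ?_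
    refine Subgroup.index_inf_le.trans ((Nat.mul_le_mul h1 h2).trans (le_of_eq ?_))
    rw [mul_add, mul_one, pow_add]

end CfsgLib.RankFrattini
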