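import Cfsg.Prelude.Def_Transfer
import Cfsg.Prelude.Def_PLocal
import Cfsg.Agent.Lib.Elementary
import Cfsg.Agent.Lib.RankFrattini
import Cfsg.Agent.Lib.SmallElements

/-!
`p`-groups whose characteristic abelian subgroups are cyclic: the centralizer of a maximal one is
an extraspecial group times that subgroup.
-/

set_option autoImplicit false

namespace CfsgLib.SymplecticTypeP

open scoped commutatorElement

universe u

variable {p : ℕ} [Fact p.Prime]

theorem pow_eq_one_of_mem_zpowers {G : Type u} [Group G] {z w : G} (hz : z ^ p = 1) (hw : w ∈ Subgroup.zpowers z) :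
    w ^ p = 1 := by
  obtain ⟨i, rfl⟩ := hw
  show (z ^ i) ^ p = 1
  rw [← zpow_natCast, ← zpow_mul, mul_comm, zpow_mul, zpow_natCast, hz, one_zpow]

/-- The dual of an elementary abelian group is not larger. -/
theorem card_hom_le {V : Type u} [Group V] [Finite V] {Z : Type u} [Group Z] [Finite Z] (hV : IsPGroup p V)
    (hc : ∀ a b : V, a * b = b * a) (he : ∀ a : V, a ^ p = 1) (hZ : Nat.card Z = p) :
    Nat.card (V →* Z) ≤ Nat.card V := by
  induction hn : Nat.card V using Nat.strong_induction_on generalizing V with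
  | h n ih =>
    subst hn
    rcases subsingleton_or_nontrivial V with hs | hnt
    · haveI : Subsingleton (V →* Z) := ⟨fun f g => MonoidHom.ext fun v => by rw [Subsingleton.elim v 1, map_one, map_one]⟩
      exact (Finite.card_le_one_iff_subsingleton.mpr inferInstance).trans Nat.card_pos
    · obtain ⟨M, hM⟩ : ∃ M : Subgroup V, IsCoatom M := by
        obtain ⟨M, hM, -⟩ := (eq_top_or_exists_le_coatom (⊥ : Subgroup V)).resolve_left bot_ne_top
        exact ⟨M, hM⟩
      obtain ⟨hMn, hidx⟩ := index_coatom_pGroup hV hM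
      obtain ⟨v, hv⟩ : ∃ v, v ∉ M := by
        by_contra hcon
        push Not at hcon
        exact hM.1 (eq_top_iff.mpr fun g _ => hcon g)
      have htop : M ⊔ Subgroup.zpowers v = ⊤ := hM.2 _ (lt_of_le_of_ne le_sup_left fun e =>
        hv (e ▸ Subgroup.mem_sup_right (Subgroup.mem_zpowers v)))
      have hlt : Nat.card M < Nat.card V := by
        rw [← M.card_mul_index, hidx]
        exact lt_mul_of_one_lt_right Nat.card_pos (Fact.out : p.Prime).one_lt
      haveI : Finite (V →* Z) := Finite.of_injective _ DFunLike.coe_injective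
      haveI : Finite (M →* Z) := Finite.of_injective _ DFunLike.coe_injective
      have hinj : Function.Injective (fun f : V →* Z => (f.comp M.subtype, f v)) := fun f g hfg => by
        obtain ⟨h1, h2⟩ := Prod.mk.inj hfg
        refine MonoidHom.ext fun x => ?_
        obtain ⟨m, hm, _, ⟨i, rfl⟩, rfl⟩ := Subgroup.mem_sup_of_normal_left.mp (htop ▸ Subgroup.mem_top x : x ∈ M ⊔ _)
        have h3 : f m = g m := DFunLike.congr_fun h1 ⟨m, hm⟩
        show f (m * v ^ i) = g (m * v ^ i)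
        rw [map_mul, map_mul, map_zpow, map_zpow, h3, h2]
      calc Nat.card (V →* Z) ≤ Nat.card ((M →* Z) × Z) := Nat.card_le_card_of_injective _ hinj
        _ = Nat.card (M →* Z) * p := by rw [Nat.card_prod, hZ]
        _ ≤ Nat.card M * p := Nat.mul_le_mul_right p (ih _ hlt (hV.to_subgroup M) (fun a b => Subtype.ext (hc a b))
            (fun a => Subtype.ext (he a)) rfl)
        _ = Nat.card V := by rw [← M.card_mul_index, hidx]

/-- Hypotheses on a subgroup with central commutators of order `p` and nondegenerate form. -/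
structure Form {G : Type u} [Group G] (p : ℕ) (z : G) (K D : Subgroup G) : Prop where
  le : D ≤ K
  zD : z ∈ D
  zo : orderOf z = p
  central : ∀ d ∈ D, ∀ k ∈ K, Commute d k
  pow : ∀ k ∈ K, k ^ p ∈ D
  comm : ∀ a ∈ K, ∀ b ∈ K, ⁅a, b⁆ ∈ Subgroup.zpowers z
  nondeg : ∀ k ∈ K, (∀ k' ∈ K, Commute k k') → k ∈ D

variable {G : Type u} [Group G]

/-- Every homomorphism to the commutator subgroup killing `D` is a commutator map. -/
theorem Form.surj [Finite G] (hG : IsPGroup p G) {z : G} {K D : Subgroup G} (h : Form p z K D)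
    (hz : ∀ g : G, Commute z g) (f : K →* Subgroup.zpowers z) (hf : ∀ x : K, (x : G) ∈ D → f x = 1) :
    ∃ k ∈ K, ∀ x : K, (f x : G) = ⁅k, (x : G)⁆ := by
  set N := D.subgroupOf K with hN
  haveI hNn : N.Normal := ⟨fun d hd x => by
    rw [Subgroup.mem_subgroupOf] at hd ⊢
    rw [Subgroup.coe_mul, Subgroup.coe_mul, InvMemClass.coe_inv, ← (h.central _ hd _ x.2).eq, mul_inv_cancel_right]
    exact hd⟩
  have hzD : Subgroup.zpowers z ≤ D := Subgroup.zpowers_le.mpr h.zD
  have hZc : ∀ w ∈ Subgroup.zpowers z, ∀ g : G, Commute w g := by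
    rintro _ ⟨i, rfl⟩ g; exact (hz g).zpow_left i
  have hc : ∀ a b : K ⧸ N, a * b = b * a := fun a b => by
    obtain ⟨a, rfl⟩ := QuotientGroup.mk'_surjective N a
    obtain ⟨b, rfl⟩ := QuotientGroup.mk'_surjective N b
    rw [← map_mul, ← map_mul, QuotientGroup.mk'_eq_mk']
    refine ⟨⁅b⁻¹, a⁻¹⁆, Subgroup.mem_subgroupOf.mpr (hzD (h.comm _ (inv_mem b.2) _ (inv_mem a.2))), ?_⟩
    simp only [commutatorElement_def]; group
  have he : ∀ a : K ⧸ N, a ^ p = 1 := fun a => by
    obtain ⟨a, rfl⟩ := QuotientGroup.mk'_surjective N a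
    rw [← map_pow, QuotientGroup.mk'_apply, QuotientGroup.eq_one_iff]
    exact Subgroup.mem_subgroupOf.mpr (h.pow _ a.2)
  have hZ : Nat.card (Subgroup.zpowers z) = p := by rw [Nat.card_zpowers, h.zo]
  have hle := card_hom_le ((hG.to_subgroup K).to_quotient N) hc he hZ
  -- the commutator map
  let β : K → K →* Subgroup.zpowers z := fun k => MonoidHom.mk' (fun x => ⟨⁅(k : G), (x : G)⁆, h.comm _ k.2 _ x.2⟩)
    fun a b => Subtype.ext (by
      show ⁅(k : G), (a : G) * b⁆ = ⁅(k : G), (a : G)⁆ * ⁅(k : G), (b : G)⁆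
      rw [show ⁅(k : G), (a : G) * b⁆ = ⁅(k : G), (a : G)⁆ * ((a : G) * ⁅(k : G), (b : G)⁆ * (a : G)⁻¹) by
        simp only [commutatorElement_def]; group, ← (hZc _ (h.comm _ k.2 _ b.2) (a : G)).eq, mul_inv_cancel_right])
  have hkill : ∀ k : K, ∀ x ∈ N, β k x = 1 := fun k x hx => Subtype.ext
    (commutatorElement_eq_one_iff_commute.mpr (h.central _ (Subgroup.mem_subgroupOf.mp hx) _ k.2).symm)
  have hdiff : ∀ k k' : K, (k : G)⁻¹ * k' ∈ D → β k = β k' := fun k k' hd => MonoidHom.ext fun x => Subtype.ext (by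
    show ⁅(k : G), (x : G)⁆ = ⁅(k' : G), (x : G)⁆
    have hcx := (h.central _ hd _ x.2).eq
    calc ⁅(k : G), (x : G)⁆ = (k : G) * x * (k : G)⁻¹ * (x : G)⁻¹ := commutatorElement_def _ _
      _ = (k : G) * (((k : G)⁻¹ * k') * x * ((k : G)⁻¹ * k')⁻¹) * (k : G)⁻¹ * (x : G)⁻¹ := by
        rw [hcx, mul_inv_cancel_right]
      _ = ⁅(k' : G), (x : G)⁆ := by simp only [commutatorElement_def]; group)
  let γ : K ⧸ N → (K ⧸ N →* Subgroup.zpowers z) := Quotient.lift (fun k => QuotientGroup.lift N (β k) (hkill k))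
    fun k k' hkk => by
      have := hdiff k k' (Subgroup.mem_subgroupOf.mp (QuotientGroup.leftRel_apply.mp hkk))
      exact MonoidHom.ext fun q => by
        obtain ⟨q, rfl⟩ := QuotientGroup.mk'_surjective N q
        exact DFunLike.congr_fun this q
  have hinj : Function.Injective γ := fun a b hab => by
    obtain ⟨a, rfl⟩ := QuotientGroup.mk'_surjective N a
    obtain ⟨b, rfl⟩ := QuotientGroup.mk'_surjective N b
    refine QuotientGroup.eq.mpr (Subgroup.mem_subgroupOf.mpr (h.nondeg _ (mul_mem (inv_mem a.2) b.2) fun x hx => ?_))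
    have h1 : ⁅(a : G), x⁆ = ⁅(b : G), x⁆ :=
      congrArg Subtype.val (DFunLike.congr_fun hab (QuotientGroup.mk' N ⟨x, hx⟩))
    rw [commutatorElement_def, commutatorElement_def, mul_left_inj] at h1
    have h2 : (a : G)⁻¹ * b * x * ((a : G)⁻¹ * b)⁻¹ = x := by
      rw [show (a : G)⁻¹ * b * x * ((a : G)⁻¹ * b)⁻¹ = (a : G)⁻¹ * ((b : G) * x * (b : G)⁻¹) * a by group, ← h1]
      group
    exact mul_inv_eq_iff_eq_mul.mp h2
  haveI : Finite (K ⧸ N →* Subgroup.zpowers z) := Finite.of_injective _ DFunLike.coe_injective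
  have hsurj : Function.Surjective γ :=
    (hinj.bijective_of_nat_card_le hle).2
  obtain ⟨q, hq⟩ := hsurj (QuotientGroup.lift N f fun x hx => hf x (Subgroup.mem_subgroupOf.mp hx))
  obtain ⟨k, rfl⟩ := QuotientGroup.mk'_surjective N q
  exact ⟨k, k.2, fun x => (congrArg Subtype.val (DFunLike.congr_fun hq (QuotientGroup.mk' N x))).symm⟩

/-- An element acting trivially modulo `z` and fixing `D` acts as an inner automorphism. -/
theorem Form.inner [Finite G] (hG : IsPGroup p G) {z : G} {K D : Subgroup G} (h : Form p z K D)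
    (hz : ∀ g : G, Commute z g) {g : G} (hgD : ∀ d ∈ D, Commute g d) (hg : ∀ k ∈ K, ⁅g, k⁆ ∈ Subgroup.zpowers z) :
    ∃ k ∈ K, ∀ x ∈ K, Commute (k⁻¹ * g) x := by
  let f : K →* Subgroup.zpowers z := MonoidHom.mk' (fun x => ⟨⁅g, (x : G)⁆, hg _ x.2⟩) fun a b => Subtype.ext (by
    show ⁅g, (a : G) * b⁆ = ⁅g, (a : G)⁆ * ⁅g, (b : G)⁆
    obtain ⟨i, hi⟩ := hg _ b.2
    rw [show ⁅g, (a : G) * b⁆ = ⁅g, (a : G)⁆ * ((a : G) * ⁅g, (b : G)⁆ * (a : G)⁻¹) by
      simp only [commutatorElement_def]; group, ← hi, ← ((hz (a : G)).zpow_left i).eq, mul_inv_cancel_right])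
  obtain ⟨k, hk, hkf⟩ := h.surj hG hz f fun x hx => Subtype.ext (commutatorElement_eq_one_iff_commute.mpr (hgD _ hx))
  refine ⟨k, hk, fun x hx => ?_⟩
  have h1 : ⁅g, x⁆ = ⁅k, x⁆ := hkf ⟨x, hx⟩
  rw [commutatorElement_def, commutatorElement_def, mul_left_inj] at h1
  have h2 : k⁻¹ * g * x * (k⁻¹ * g)⁻¹ = x := by
    rw [show k⁻¹ * g * x * (k⁻¹ * g)⁻¹ = k⁻¹ * (g * x * g⁻¹) * k by group, h1]
    group
  exact mul_inv_eq_iff_eq_mul.mp h2

/-- Recognising extraspecial groups. -/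
theorem isExtraspecial_of {E : Type u} [Group E] [Finite E] (hE : IsPGroup p E) {z : E} (hz : orderOf z = p)
    (hpow : ∀ g : E, g ^ p ∈ Subgroup.zpowers z) (hcomm : ∀ g h : E, ⁅g, h⁆ ∈ Subgroup.zpowers z)
    (hcen : ∀ g : E, (∀ h : E, Commute g h) → g ∈ Subgroup.zpowers z) (hna : ∃ g h : E, ¬ Commute g h) :
    Cfsg.IsExtraspecial p E := by
  have hcard : Nat.card (Subgroup.zpowers z) = p := by rw [Nat.card_zpowers, hz]
  have hle : ∀ {A : Subgroup E}, A ≤ Subgroup.zpowers z → A ≠ ⊥ → A = Subgroup.zpowers z := fun {A} hA hA0 => by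
    refine Subgroup.eq_of_le_of_card_ge hA ?_
    rcases (Nat.dvd_prime Fact.out).mp (hcard ▸ Subgroup.card_dvd_of_le hA) with h | h
    · exact absurd (Subgroup.card_eq_one.mp h) hA0
    · rw [h, hcard]
  have hcm : commutator E = Subgroup.zpowers z := by
    refine hle (Subgroup.commutator_le.mpr fun a _ b _ => hcomm a b) fun e => ?_
    obtain ⟨a, b, hab⟩ := hna
    exact hab (commutatorElement_eq_one_iff_commute.mp (Subgroup.mem_bot.mp
      (e ▸ Subgroup.commutator_mem_commutator (Subgroup.mem_top a) (Subgroup.mem_top b))))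
  have hcn : Subgroup.center E = Subgroup.zpowers z := by
    refine hle (fun g hg => hcen g fun h => (Subgroup.mem_center_iff.mp hg h).symm) fun e => ?_
    haveI := hE.isNilpotent
    obtain ⟨a, b, hab⟩ := hna
    haveI : Nontrivial E := ⟨⟨a, 1, fun e' => hab (by rw [e']; exact Commute.one_left b)⟩⟩
    exact (Subgroup.nontrivial_iff_ne_bot _).mp hE.center_nontrivial e
  have hfr : frattini E = Subgroup.zpowers z :=
    le_antisymm (RankFrattini.frattini_le_of_elementary hE _ hcomm hpow) (hcm ▸ commutator_le_frattini_pGroup hE)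
  exact ⟨⟨hE, hfr.trans hcn.symm, hcm.trans hcn.symm⟩, by rw [hcn, hcard]⟩

/-- A cyclic group has one subgroup of order `p`. -/
theorem mem_zpowers_of_pow [Finite G] {D : Subgroup G} (hD : IsCyclic D) {z : G} (hz : z ∈ D)
    (hzo : orderOf z = p) {d : G} (hd : d ∈ D) (hdp : d ^ p = 1) : d ∈ Subgroup.zpowers z := by
  classical
  by_contra hne
  haveI : Fintype D := Fintype.ofFinite D
  have h1 := IsCyclic.card_pow_eq_one_le (α := D) (n := p) (Fact.out : p.Prime).pos
  set S : Finset D := Finset.univ.filter (fun a : D => (a : G) ∈ Subgroup.zpowers z)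
  have h2 : insert (⟨d, hd⟩ : D) S ⊆ Finset.univ.filter (fun a : D => a ^ p = 1) := by
    intro a ha
    simp only [Finset.mem_insert] at ha
    simp only [Finset.mem_filter, Finset.mem_univ, true_and]
    rcases ha with rfl | ha
    · exact Subtype.ext hdp
    · exact Subtype.ext (pow_eq_one_of_mem_zpowers (orderOf_dvd_iff_pow_eq_one.mp hzo.dvd) (Finset.mem_filter.mp ha).2)
  have h3 : S.card = p := by
    have e : Nat.card ↥((Subgroup.zpowers z).subgroupOf D) = p := by
      rw [Nat.card_congr (Subgroup.subgroupOfEquivOfLe (Subgroup.zpowers_le.mpr hz)).toEquiv, Nat.card_zpowers, hzo]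
    rw [← e, Nat.card_eq_fintype_card]
    exact (Fintype.card_of_subtype S fun a => by simp [S, Subgroup.mem_subgroupOf]).symm
  have h4 := (Finset.card_le_card h2).trans h1
  rw [Finset.card_insert_of_notMem (s := S) (fun hm => hne (Finset.mem_filter.mp hm).2), h3] at h4
  omega

/-- Every characteristic abelian subgroup is cyclic. -/
def Hyp (G : Type u) [Group G] : Prop :=
  ∀ A : Subgroup G, A.Characteristic → IsMulCommutative A → IsCyclic A

theorem char_of_mem_iff {K : Subgroup G} (h : ∀ φ : G ≃* G, ∀ k ∈ K, φ k ∈ K) : K.Characteristic :=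
  Subgroup.characteristic_iff_le_comap.mpr fun φ k hk => h φ k hk

theorem char_mem {K : Subgroup G} (hK : K.Characteristic) (φ : G ≃* G) {k : G} (hk : k ∈ K) : φ k ∈ K :=
  Subgroup.characteristic_iff_le_comap.mp hK φ hk

/-- A noncentral characteristic subgroup of `C` meeting its own centralizer in `D` is self-centralizing. -/
theorem centralizer_eq_of_meet [Finite G] (hG : IsPGroup p G) {D L : Subgroup G} [D.Normal] [L.Normal] (hDL : D ≤ L)
    (hne : ¬ L ≤ D) {P : G → Prop} (hP : ∀ l, l ^ p ∈ D → (∀ g : G, ⁅g, l⁆ ∈ D) → P l) :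
    ∃ l ∈ L, l ∉ D ∧ P l := by
  haveI : (L.map (QuotientGroup.mk' D)).Normal := Subgroup.Normal.map inferInstance _ (QuotientGroup.mk'_surjective D)
  haveI := (hG.to_quotient D).isNilpotent
  have hLb : L.map (QuotientGroup.mk' D) ≠ ⊥ := fun e => hne (by
    rw [Subgroup.map_eq_bot_iff, QuotientGroup.ker_mk'] at e; exact e)
  obtain ⟨w, hw, hw1⟩ := (Subgroup.bot_or_exists_ne_one _).resolve_left (inf_center_ne_bot_of_nilpotent hLb)
  obtain ⟨hwL, hwc⟩ := Subgroup.mem_inf.mp hw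
  obtain ⟨k, hk⟩ := IsPGroup.iff_orderOf.mp (hG.to_quotient D) w
  have hk0 : k ≠ 0 := fun e => hw1 (orderOf_eq_one_iff.mp (by rw [hk, e, pow_zero]))
  set v := w ^ (p ^ (k - 1)) with hv
  have hvp : v ^ p = 1 := by
    rw [hv, ← pow_mul, ← pow_succ, show k - 1 + 1 = k by omega, ← hk, pow_orderOf_eq_one]
  have hv1 : v ≠ 1 := fun e => by
    have h1 := orderOf_dvd_of_pow_eq_one e
    rw [hk] at h1
    have := (Nat.pow_dvd_pow_iff_le_right (Fact.out : p.Prime).one_lt).mp h1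
    omega
  obtain ⟨l, hl, hlv⟩ : v ∈ L.map (QuotientGroup.mk' D) := pow_mem hwL _
  have hlv' : (l : G ⧸ D) = v := hlv
  refine ⟨l, hl, fun hd => hv1 (hlv'.symm.trans ((QuotientGroup.eq_one_iff l).mpr hd)), hP l ?_ fun g => ?_⟩
  · rw [← QuotientGroup.eq_one_iff, QuotientGroup.mk_pow, hlv', hvp]
  · rw [← QuotientGroup.eq_one_iff]
    show QuotientGroup.mk' D ⁅g, l⁆ = 1
    rw [map_commutatorElement, hlv, commutatorElement_eq_one_iff_commute]
    exact Subgroup.mem_center_iff.mp (pow_mem hwc _) _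

/-- The structure of the centralizer of a maximal characteristic abelian subgroup. -/
theorem core [Finite G] (hG : IsPGroup p G) (hyp : Hyp G) [Nontrivial G] :
    ∃ (D : Subgroup G) (z : G), D.Characteristic ∧ IsCyclic D ∧ z ∈ D ∧ orderOf z = p ∧ (∀ g : G, Commute z g) ∧
      Subgroup.center G ≤ D ∧
      (∀ A : Subgroup G, A.Characteristic → IsMulCommutative A → D ≤ A → A = D) ∧
      Form p z (Subgroup.centralizer (D : Set G)) D ∧
      ∀ g : G, ∀ c ∈ Subgroup.centralizer (D : Set G), ⁅g, c⁆ ∈ D := by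
  classical
  obtain ⟨D, ⟨hDc, hDab⟩, hmax⟩ : ∃ D : Subgroup G, (D.Characteristic ∧ IsMulCommutative D) ∧
      ∀ A : Subgroup G, A.Characteristic ∧ IsMulCommutative A → D ≤ A → A ≤ D := by
    obtain ⟨D, -, hD⟩ := Finite.exists_le_maximal (p := fun A : Subgroup G => A.Characteristic ∧ IsMulCommutative A)
      (a := ⊥) ⟨inferInstance, ⟨⟨fun a b => Subsingleton.elim _ _⟩⟩⟩
    exact ⟨D, hD.1, fun A hA hle => hD.2 hA hle⟩
  haveI := hDc
  have hDcy : IsCyclic D := hyp D hDc hDab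
  have hDd : ∀ a ∈ D, ∀ b ∈ D, Commute a b := fun a ha b hb =>
    congrArg Subtype.val (hDab.is_comm.comm (⟨a, ha⟩ : D) ⟨b, hb⟩)
  have hcenD : Subgroup.center G ≤ D := by
    refine le_sup_right.trans (hmax (D ⊔ Subgroup.center G) ⟨?_, ?_⟩ le_sup_left)
    · refine char_of_mem_iff fun φ k hk => ?_
      have hle : (D ⊔ Subgroup.center G).map φ.toMonoidHom ≤ D ⊔ Subgroup.center G := by
        rw [Subgroup.map_sup]
        refine sup_le_sup ?_ ?_
        · rintro _ ⟨a, ha, rfl⟩; exact char_mem hDc φ ha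
        · rintro _ ⟨a, ha, rfl⟩; exact char_mem inferInstance φ ha
      exact hle ⟨k, hk, rfl⟩
    · refine ⟨⟨fun ⟨a, ha⟩ ⟨b, hb⟩ => Subtype.ext ?_⟩⟩
      obtain ⟨d, hd, c, hc, rfl⟩ := Subgroup.mem_sup_of_normal_right.mp ha
      obtain ⟨d', hd', c', hc', rfl⟩ := Subgroup.mem_sup_of_normal_right.mp hb
      have hcc : ∀ g, Commute c g := fun g => (Subgroup.mem_center_iff.mp hc g).symm
      have hcc' : ∀ g, Commute c' g := fun g => (Subgroup.mem_center_iff.mp hc' g).symm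
      exact (((hDd d hd d' hd').mul_right (hcc' d).symm).mul_left (hcc _)).eq
  haveI hnt : Nontrivial (Subgroup.center G) := hG.center_nontrivial
  obtain ⟨z₀, hz₀⟩ : ∃ z₀ : Subgroup.center G, orderOf z₀ = p := by
    obtain ⟨k, hk⟩ := IsPGroup.iff_card.mp (hG.to_subgroup (Subgroup.center G))
    refine exists_prime_orderOf_dvd_card' p (hk ▸ dvd_pow_self p fun e => ?_)
    have := Finite.one_lt_card (α := Subgroup.center G)
    rw [hk, e, pow_zero] at this
    omega
  set z : G := (z₀ : G) with hzdef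
  have hzo : orderOf z = p := by rw [hzdef, Subgroup.orderOf_coe, hz₀]
  have hzc : ∀ g, Commute z g := fun g => (Subgroup.mem_center_iff.mp z₀.2 g).symm
  have hzD : z ∈ D := hcenD z₀.2
  set C := Subgroup.centralizer (D : Set G) with hC
  have hDC : D ≤ C := fun d hd => Subgroup.mem_centralizer_iff.mpr fun e he => (hDd e he d hd).eq
  haveI hCc : C.Characteristic := char_of_mem_iff fun φ k hk => Subgroup.mem_centralizer_iff.mpr fun e he => by
    obtain ⟨e, rfl⟩ := φ.surjective e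
    have he' : e ∈ D := by simpa using char_mem hDc φ.symm he
    rw [← map_mul, ← map_mul, Subgroup.mem_centralizer_iff.mp hk e he']
  have hcD : ∀ c ∈ C, ∀ d ∈ D, Commute c d := fun c hc d hd => (Subgroup.mem_centralizer_iff.mp hc d hd).symm
  -- commutators of exponent `p`
  have hsmall : ∀ g c : G, c ∈ C → c ^ p ∈ D → ⁅g, c⁆ ∈ D → Commute g (c ^ p) → ⁅g, c⁆ ∈ Subgroup.zpowers z :=
    fun g c hc hcp hgc hgp => by
      refine mem_zpowers_of_pow hDcy hzD hzo hgc (mul_right_cancel (b := c ^ p) ?_)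
      rw [one_mul, ← (hcD c hc _ hgc).symm.mul_pow,
        show ⁅g, c⁆ * c = g * c * g⁻¹ by rw [commutatorElement_def, inv_mul_cancel_right], conj_pow, hgp.eq,
        mul_inv_cancel_right]
  -- the subgroup `H`
  let H : Subgroup G :=
    { carrier := {c | c ∈ C ∧ c ^ p ∈ D ∧ ∀ x ∈ C, ⁅x, c⁆ ∈ D}
      one_mem' := ⟨one_mem C, by rw [one_pow]; exact one_mem D,
        fun x _ => by rw [commutatorElement_one_right]; exact one_mem D⟩
      mul_mem' := fun {a b} ha hb => ⟨mul_mem ha.1 hb.1, by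
          have hd := hb.2.2 a⁻¹ (inv_mem ha.1)
          have hab : b * a = a * b * ⁅b⁻¹, a⁻¹⁆ := by rw [commutatorElement_def]; group
          have hd' : ⁅b⁻¹, a⁻¹⁆ ∈ D := by
            rw [show ⁅b⁻¹, a⁻¹⁆ = b⁻¹ * ⁅a⁻¹, b⁆ * b by simp only [commutatorElement_def]; group,
              mul_assoc, ← (hcD b hb.1 _ hd).eq, inv_mul_cancel_left]
            exact hd
          rw [Small.mul_pow_class_two hab (hcD a ha.1 _ hd').symm (hcD b hb.1 _ hd').symm]
          exact mul_mem (mul_mem ha.2.1 hb.2.1) (pow_mem hd' _),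
        fun x hx => by
          rw [show ⁅x, a * b⁆ = ⁅x, a⁆ * (a * ⁅x, b⁆ * a⁻¹) by simp only [commutatorElement_def]; group,
            (hcD a ha.1 _ (hb.2.2 x hx)).eq, mul_inv_cancel_right]
          exact mul_mem (ha.2.2 x hx) (hb.2.2 x hx)⟩
      inv_mem' := fun {a} ha => ⟨inv_mem ha.1, by rw [inv_pow]; exact inv_mem ha.2.1, fun x hx => by
          rw [show ⁅x, a⁻¹⁆ = a⁻¹ * ⁅x, a⁆⁻¹ * a by simp only [commutatorElement_def]; group, mul_assoc,
            ← (hcD a ha.1 _ (inv_mem (ha.2.2 x hx))).eq, inv_mul_cancel_left]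
          exact inv_mem (ha.2.2 x hx)⟩ }
  haveI hHc : H.Characteristic := char_of_mem_iff fun φ k hk => ⟨char_mem hCc φ hk.1,
    by rw [← map_pow]; exact char_mem hDc φ hk.2.1, fun x hx => by
      obtain ⟨x, rfl⟩ := φ.surjective x
      rw [← map_commutatorElement]
      exact char_mem hDc φ (hk.2.2 x (by simpa using char_mem hCc φ.symm hx))⟩
  have hDH : D ≤ H := fun d hd => ⟨hDC hd, pow_mem hd p, fun x hx => by
    rw [commutatorElement_eq_one_iff_commute.mpr (hcD x hx d hd)]; exact one_mem D⟩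
  -- centres of characteristic subgroups of `C`
  have hZ : ∀ K : Subgroup G, K.Characteristic → D ≤ K → K ≤ C → ∀ k ∈ K, (∀ k' ∈ K, Commute k k') → k ∈ D := by
    intro K hK hDK hKC k hk hkk
    set A := K ⊓ Subgroup.centralizer (K : Set G) with hA
    have hAc : A.Characteristic := char_of_mem_iff fun φ a ha => by
      obtain ⟨h1, h2⟩ := Subgroup.mem_inf.mp ha
      refine Subgroup.mem_inf.mpr ⟨char_mem hK φ h1, Subgroup.mem_centralizer_iff.mpr fun b hb => ?_⟩
      obtain ⟨b, rfl⟩ := φ.surjective b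
      rw [← map_mul, ← map_mul, Subgroup.mem_centralizer_iff.mp h2 b (by simpa using char_mem hK φ.symm hb)]
    have hAab : IsMulCommutative A := ⟨⟨fun a b => Subtype.ext
      (Subgroup.mem_centralizer_iff.mp (Subgroup.mem_inf.mp b.2).2 (a : G) (Subgroup.mem_inf.mp a.2).1)⟩⟩
    refine hmax A ⟨hAc, hAab⟩ (fun d hd => Subgroup.mem_inf.mpr ⟨hDK hd,
      Subgroup.mem_centralizer_iff.mpr fun b hb => (hcD b (hKC hb) d hd).eq⟩)
      (Subgroup.mem_inf.mpr ⟨hk, Subgroup.mem_centralizer_iff.mpr fun b hb => (hkk b hb).symm.eq⟩)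
  have hzpC : ∀ c ∈ C, ∀ k ∈ H, ⁅c, k⁆ ∈ Subgroup.zpowers z := fun c hc k hk =>
    hsmall c k hk.1 hk.2.1 (hk.2.2 c hc) (hcD c hc _ hk.2.1)
  have hHform : Form p z H D :=
    ⟨hDH, hzD, hzo, fun d hd k hk => (hcD k hk.1 d hd).symm, fun k hk => hk.2.1,
      fun a ha b hb => hzpC a ha.1 b hb, fun k hk h => hZ H hHc hDH (fun c hc => hc.1) k hk h⟩
  -- `C = H`
  have hCH : ∀ c ∈ C, c ∈ H := by
    have hL : Subgroup.centralizer (H : Set G) ⊓ C ≤ D := by
      set L := Subgroup.centralizer (H : Set G) ⊓ C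
      haveI : H.Normal := inferInstance
      haveI : C.Normal := inferInstance
      haveI : L.Normal := Subgroup.normal_inf_normal _ _
      by_contra hne
      obtain ⟨l, hl, hlD, hlH⟩ := centralizer_eq_of_meet hG (L := L) (fun d hd => Subgroup.mem_inf.mpr
        ⟨Subgroup.mem_centralizer_iff.mpr fun b hb => (hcD b (hb : b ∈ H).1 d hd).eq, hDC hd⟩) hne
        (P := fun l => l ∈ C → l ∈ H) (fun l h1 h2 hlC => ⟨hlC, h1, fun x _ => h2 x⟩)
      obtain ⟨h1, h2⟩ := Subgroup.mem_inf.mp hl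
      exact hlD (hZ H hHc hDH (fun c hc => hc.1) l (hlH h2) fun b hb => (Subgroup.mem_centralizer_iff.mp h1 b hb).symm)
    intro c hc
    obtain ⟨k, hk, hkc⟩ := hHform.inner hG hzc (fun d hd => hcD c hc d hd) (fun k hk => hzpC c hc k hk)
    have h1 : k⁻¹ * c ∈ D := hL (Subgroup.mem_inf.mpr
      ⟨Subgroup.mem_centralizer_iff.mpr fun b hb => (hkc b hb).symm.eq, mul_mem (inv_mem hk.1) hc⟩)
    have := mul_mem hk (hDH h1)
    rwa [mul_inv_cancel_left] at this
  have hform : Form p z C D :=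
    ⟨hDC, hzD, hzo, fun d hd k hk => (hcD k hk d hd).symm, fun k hk => (hCH k hk).2.1,
      fun a ha b hb => hzpC a ha b (hCH b hb), fun k hk h => hZ C hCc hDC le_rfl k hk h⟩
  refine ⟨D, z, hDc, hDcy, hzD, hzo, hzc, hcenD, fun A hA hAab hle => le_antisymm (hmax A ⟨hA, hAab⟩ hle) hle,
    hform, ?_⟩
  -- `G` centralizes `C / D`
  let K : Subgroup G :=
    { carrier := {c | c ∈ C ∧ ∀ g : G, ⁅g, c⁆ ∈ D}
      one_mem' := ⟨one_mem C, fun g => by rw [commutatorElement_one_right]; exact one_mem D⟩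
      mul_mem' := fun {a b} ha hb => ⟨mul_mem ha.1 hb.1, fun g => by
          rw [show ⁅g, a * b⁆ = ⁅g, a⁆ * (a * ⁅g, b⁆ * a⁻¹) by simp only [commutatorElement_def]; group,
            (hcD a ha.1 _ (hb.2 g)).eq, mul_inv_cancel_right]
          exact mul_mem (ha.2 g) (hb.2 g)⟩
      inv_mem' := fun {a} ha => ⟨inv_mem ha.1, fun g => by
          rw [show ⁅g, a⁻¹⁆ = a⁻¹ * ⁅g, a⁆⁻¹ * a by simp only [commutatorElement_def]; group, mul_assoc,
            ← (hcD a ha.1 _ (inv_mem (ha.2 g))).eq, inv_mul_cancel_left]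
          exact inv_mem (ha.2 g)⟩ }
  haveI hKc : K.Characteristic := char_of_mem_iff fun φ k hk => ⟨char_mem hCc φ hk.1, fun g => by
    obtain ⟨g, rfl⟩ := φ.surjective g
    rw [← map_commutatorElement]
    exact char_mem hDc φ (hk.2 g)⟩
  have hDK : D ≤ K := fun d hd => ⟨hDC hd, fun g => by
    rw [commutatorElement_def]
    exact mul_mem ((inferInstance : D.Normal).conj_mem d hd g) (inv_mem hd)⟩
  have hKC : K ≤ C := fun c hc => hc.1
  have hKform : Form p z K D :=
    ⟨hDK, hzD, hzo, fun d hd k hk => (hcD k hk.1 d hd).symm, fun k hk => hform.pow k hk.1,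
      fun a ha b hb => hform.comm a ha.1 b hb.1, fun k hk h => hZ K hKc hDK hKC k hk h⟩
  have hL : Subgroup.centralizer (K : Set G) ⊓ C ≤ D := by
    set L := Subgroup.centralizer (K : Set G) ⊓ C
    haveI : K.Normal := inferInstance
    haveI : C.Normal := inferInstance
    haveI : L.Normal := Subgroup.normal_inf_normal _ _
    by_contra hne
    obtain ⟨l, hl, hlD, hlK⟩ := centralizer_eq_of_meet hG (L := L) (fun d hd => Subgroup.mem_inf.mpr
      ⟨Subgroup.mem_centralizer_iff.mpr fun b hb => (hcD b (hKC hb) d hd).eq, hDC hd⟩) hne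
      (P := fun l => l ∈ C → l ∈ K) (fun l _ h2 hlC => ⟨hlC, h2⟩)
    obtain ⟨h1, h2⟩ := Subgroup.mem_inf.mp hl
    exact hlD (hZ K hKc hDK hKC l (hlK h2) fun b hb => (Subgroup.mem_centralizer_iff.mp h1 b hb).symm)
  intro g c hc
  obtain ⟨k, hk, hkc⟩ := hKform.inner hG hzc (fun d hd => hcD c hc d hd) (fun k hk => hform.comm c hc k hk.1)
  have h1 : k⁻¹ * c ∈ D := hL (Subgroup.mem_inf.mpr
    ⟨Subgroup.mem_centralizer_iff.mpr fun b hb => (hkc b hb).symm.eq, mul_mem (inv_mem hk.1) hc⟩)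
  have hcK : c ∈ K := by
    have := mul_mem hk (hDK h1)
    rwa [mul_inv_cancel_left] at this
  exact hcK.2 g

/-- Modulo `D^p` the centralizer has exponent `p`. -/
theorem exists_order_p [Finite G] (hG : IsPGroup p G) {D : Subgroup G} {z : G} (hDc : D.Characteristic)
    (hDcy : IsCyclic D) (hmax : ∀ A : Subgroup G, A.Characteristic → IsMulCommutative A → D ≤ A → A = D)
    (hform : Form p z (Subgroup.centralizer (D : Set G)) D) (hzc : ∀ g, Commute z g) (hne : Nat.card D ≠ p) :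
    ∀ c ∈ Subgroup.centralizer (D : Set G), ∃ d ∈ D, (c * d) ^ p = 1 := by
  classical
  have hp := (Fact.out : p.Prime)
  set C := Subgroup.centralizer (D : Set G) with hC
  obtain ⟨u, hu⟩ := (Subgroup.isCyclic_iff_exists_zpowers_eq_top (H := D)).mp hDcy
  have huD : u ∈ D := hu ▸ Subgroup.mem_zpowers u
  obtain ⟨n, hn⟩ := IsPGroup.iff_orderOf.mp hG u
  have hD : Nat.card D = p ^ n := by rw [← hu, Nat.card_zpowers, hn]
  have hzp : z ^ p = 1 := orderOf_dvd_iff_pow_eq_one.mp hform.zo.dvd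
  have hn2 : 2 ≤ n := by
    by_contra hcon
    interval_cases n
    · rw [pow_zero, Subgroup.card_eq_one] at hD
      have := hform.zD
      rw [hD, Subgroup.mem_bot] at this
      have h1 := hform.zo
      rw [this, orderOf_one] at h1
      exact hp.ne_one h1.symm
    · rw [pow_one] at hD; exact hne hD
  obtain ⟨i, hi⟩ : ∃ i : ℤ, u ^ i = z := by
    have := hform.zD
    rw [← hu] at this
    exact this
  -- the `p`-th powers in `D`
  have hzpow : ∃ d ∈ D, d ^ p = z := by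
    have h1 : (orderOf u : ℤ) ∣ i * p := by
      rw [orderOf_dvd_iff_zpow_eq_one, zpow_mul, hi, zpow_natCast, hzp]
    rw [hn, show (p ^ n : ℕ) = p ^ (n - 1) * p by rw [← pow_succ]; congr 1; omega, Nat.cast_mul] at h1
    have h2 := (mul_dvd_mul_iff_right (by exact_mod_cast hp.ne_zero)).mp h1
    obtain ⟨j, rfl⟩ : (p : ℤ) ∣ i := (dvd_pow_self (p : ℤ) (show n - 1 ≠ 0 by omega)).trans (by exact_mod_cast h2)
    exact ⟨u ^ j, zpow_mem huD j, by rw [← hi, ← zpow_natCast, ← zpow_mul, mul_comm]⟩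
  let Dp : Subgroup G :=
    { carrier := {x | ∃ d ∈ D, d ^ p = x}
      one_mem' := ⟨1, one_mem D, one_pow p⟩
      mul_mem' := by
        rintro _ _ ⟨a, ha, rfl⟩ ⟨b, hb, rfl⟩
        exact ⟨a * b, mul_mem ha hb, (hform.central a ha b (hform.le hb)).mul_pow p⟩
      inv_mem' := by
        rintro _ ⟨a, ha, rfl⟩
        exact ⟨a⁻¹, inv_mem ha, inv_pow a p⟩ }
  have hzDp : Subgroup.zpowers z ≤ Dp := Subgroup.zpowers_le.mpr hzpow
  have hmulp : ∀ a ∈ C, ∀ b ∈ C, ∃ w ∈ Dp, (a * b) ^ p = a ^ p * b ^ p * w := fun a ha b hb => by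
    have hab : b * a = a * b * ⁅b⁻¹, a⁻¹⁆ := by rw [commutatorElement_def]; group
    obtain ⟨j, hj⟩ := hform.comm _ (inv_mem hb) _ (inv_mem ha)
    refine ⟨⁅b⁻¹, a⁻¹⁆ ^ p.choose 2, pow_mem (hzDp ⟨j, hj⟩) _, ?_⟩
    exact Small.mul_pow_class_two hab (hj ▸ (hzc a).zpow_left j) (hj ▸ (hzc b).zpow_left j) p
  let C0 : Subgroup G :=
    { carrier := {c | c ∈ C ∧ c ^ p ∈ Dp}
      one_mem' := ⟨one_mem C, by rw [one_pow]; exact one_mem Dp⟩
      mul_mem' := fun {a b} ha hb => ⟨mul_mem ha.1 hb.1, by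
        obtain ⟨w, hw, e⟩ := hmulp a ha.1 b hb.1
        rw [e]; exact mul_mem (mul_mem ha.2 hb.2) hw⟩
      inv_mem' := fun {a} ha => ⟨inv_mem ha.1, by rw [inv_pow]; exact inv_mem ha.2⟩ }
  suffices hall : ∀ c ∈ C, c ^ p ∈ Dp by
    intro c hc
    obtain ⟨d, hd, hdc⟩ := hall c hc
    exact ⟨d⁻¹, inv_mem hd, by
      rw [(hform.central _ (inv_mem hd) c hc).symm.mul_pow, inv_pow, hdc, mul_inv_cancel]⟩
  by_contra hcon
  push Not at hcon
  obtain ⟨c₁, hc₁, hc₁p⟩ := hcon
  haveI hDn : (Dp.subgroupOf D).Normal := ⟨fun x hx g => by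
    have hc' : g * x = x * g := Subtype.ext (hform.central _ g.2 _ (hform.le x.2)).eq
    rw [hc', mul_inv_cancel_right]; exact hx⟩
  have hq : Nat.card (D ⧸ Dp.subgroupOf D) = p := by
    have htop : Subgroup.zpowers ((⟨u, huD⟩ : D) : D ⧸ Dp.subgroupOf D) = ⊤ := eq_top_iff.mpr fun y _ => by
      obtain ⟨⟨x, hx⟩, rfl⟩ := QuotientGroup.mk'_surjective _ y
      obtain ⟨j, hj⟩ : ∃ j : ℤ, u ^ j = x := by rw [← hu] at hx; exact hx
      refine ⟨j, ?_⟩
      show ((⟨u, huD⟩ : D) : D ⧸ Dp.subgroupOf D) ^ j = _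
      rw [← QuotientGroup.mk_zpow]
      exact congrArg _ (Subtype.ext hj)
    rw [← Subgroup.card_top, ← htop, Nat.card_zpowers]
    refine orderOf_eq_prime ?_ fun e => hc₁p ?_
    · rw [← QuotientGroup.mk_pow, QuotientGroup.eq_one_iff, Subgroup.mem_subgroupOf]
      exact ⟨u, huD, rfl⟩
    · have huDp : u ∈ Dp := Subgroup.mem_subgroupOf.mp ((QuotientGroup.eq_one_iff _).mp e)
      exact Subgroup.zpowers_le.mpr huDp (hu.symm ▸ hform.pow c₁ hc₁)
  haveI : Fact (Nat.Prime p) := inferInstance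
  let e := mulEquivOfPrimeCardEq (p := p) hq (show Nat.card (Subgroup.zpowers z) = p by rw [Nat.card_zpowers, hform.zo])
  let g : C →* D ⧸ Dp.subgroupOf D := MonoidHom.mk'
    (fun c => QuotientGroup.mk' _ (⟨(c : G) ^ p, hform.pow _ c.2⟩ : D)) fun a b => by
      obtain ⟨w, hw, hab⟩ := hmulp a a.2 b b.2
      obtain ⟨d, hd, hdw⟩ := hw
      have hwD : w ∈ D := hdw ▸ pow_mem hd p
      rw [← map_mul, QuotientGroup.mk'_eq_mk']
      refine ⟨⟨w⁻¹, inv_mem hwD⟩, Subgroup.mem_subgroupOf.mpr ⟨d⁻¹, inv_mem hd, by rw [inv_pow, hdw]⟩, Subtype.ext ?_⟩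
      show ((a : G) * b) ^ p * w⁻¹ = (a : G) ^ p * (b : G) ^ p
      rw [hab, mul_inv_cancel_right]
  have hgD : ∀ x : C, (x : G) ^ p ∈ Dp ↔ g x = 1 := fun x =>
    (Iff.trans (by rw [Subgroup.mem_subgroupOf]) (QuotientGroup.eq_one_iff _).symm :
      (x : G) ^ p ∈ Dp ↔ (QuotientGroup.mk' (Dp.subgroupOf D) (⟨(x : G) ^ p, hform.pow _ x.2⟩ : D)) = 1)
  obtain ⟨k, hk, hkf⟩ := hform.surj hG hzc (e.toMonoidHom.comp g) fun x hx => by
    show e (g x) = 1
    rw [(hgD x).mp ⟨(x : G), hx, rfl⟩, map_one]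
  have hiff : ∀ x, ∀ hx : x ∈ C, (Commute k x ↔ x ^ p ∈ Dp) := fun x hx => by
    rw [← commutatorElement_eq_one_iff_commute, ← hkf ⟨x, hx⟩, hgD ⟨x, hx⟩, OneMemClass.coe_eq_one]
    exact map_eq_one_iff e e.injective
  have hk0 : k ∈ C0 := ⟨hk, (hiff k hk).mp (Commute.refl k)⟩
  have hkD : k ∉ D := fun hd => hc₁p ((hiff c₁ hc₁).mp (hform.central k hd c₁ hc₁))
  have hC0c : C0.Characteristic := char_of_mem_iff fun φ x hx => by
    refine ⟨Subgroup.mem_centralizer_iff.mpr fun y hy => ?_, ?_⟩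
    · obtain ⟨y, rfl⟩ := φ.surjective y
      rw [← map_mul, ← map_mul,
        Subgroup.mem_centralizer_iff.mp hx.1 y (by simpa using char_mem hDc φ.symm hy)]
    · obtain ⟨d, hd, e⟩ := hx.2
      exact ⟨φ d, char_mem hDc φ hd, by rw [← map_pow, e, map_pow]⟩
  set A := C0 ⊓ Subgroup.centralizer (C0 : Set G)
  have hAc : A.Characteristic := char_of_mem_iff fun φ a ha => by
    obtain ⟨h1, h2⟩ := Subgroup.mem_inf.mp ha
    refine Subgroup.mem_inf.mpr ⟨char_mem hC0c φ h1, Subgroup.mem_centralizer_iff.mpr fun b hb => ?_⟩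
    obtain ⟨b, rfl⟩ := φ.surjective b
    rw [← map_mul, ← map_mul, Subgroup.mem_centralizer_iff.mp h2 b (by simpa using char_mem hC0c φ.symm hb)]
  have hAab : IsMulCommutative A := ⟨⟨fun a b => Subtype.ext
    (Subgroup.mem_centralizer_iff.mp (Subgroup.mem_inf.mp b.2).2 (a : G) (Subgroup.mem_inf.mp a.2).1)⟩⟩
  have hDA : D ≤ A := fun d hd => Subgroup.mem_inf.mpr ⟨⟨hform.le hd, ⟨d, hd, rfl⟩⟩,
    Subgroup.mem_centralizer_iff.mpr fun b hb => (hform.central d hd b (hb : b ∈ C0).1).symm.eq⟩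
  have hkA : k ∈ A := Subgroup.mem_inf.mpr ⟨hk0,
    Subgroup.mem_centralizer_iff.mpr fun b hb => ((hiff b (hb : b ∈ C0).1).mpr (hb : b ∈ C0).2).symm.eq⟩
  exact hkD (hmax A hAc hAab hDA ▸ hkA)

end CfsgLib.SymplecticTypeP
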