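import Cfsg.Agent.Lib.Components

/-!
Cores of quotients, and consequences of Fitting's theorem for finite solvable groups.
-/

set_option autoImplicit false

namespace CfsgLib

open Cfsg Subgroup

universe u
variable {G : Type u} [Group G]

theorem card_comap_mk [Finite G] (N : Subgroup G) [N.Normal] (M : Subgroup (G ⧸ N)) :
    Nat.card (M.comap (QuotientGroup.mk' N)) = Nat.card N * Nat.card M := by
  have h1 : (M.comap (QuotientGroup.mk' N)).index = M.index :=
    Subgroup.index_comap_of_surjective M (QuotientGroup.mk'_surjective N)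
  have h2 := Subgroup.card_mul_index (M.comap (QuotientGroup.mk' N))
  have h3 := Subgroup.card_mul_index M
  have h4 : Nat.card G = Nat.card (G ⧸ N) * Nat.card N := Subgroup.card_eq_card_quotient_mul_card_subgroup N
  have h5 : M.index ≠ 0 := Subgroup.index_ne_zero_of_finite
  rw [h1, h4] at h2
  apply mul_right_cancel₀ h5
  rw [h2, ← h3]
  ring

theorem pPrimeCore_quotient_eq_bot [Finite G] (p : ℕ) :
    pPrimeCore p (G ⧸ pPrimeCore p G) = ⊥ := by
  set N := pPrimeCore p G
  have h : (pPrimeCore p (G ⧸ N)).comap (QuotientGroup.mk' N) ≤ N := by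
    apply le_pPrimeCore
    rw [card_comap_mk]
    exact Nat.Coprime.mul_left (card_pPrimeCore_coprime p) (card_pPrimeCore_coprime p)
  rw [eq_bot_iff]
  intro x hx
  obtain ⟨g, rfl⟩ := QuotientGroup.mk'_surjective N x
  rw [Subgroup.mem_bot, QuotientGroup.mk'_apply, QuotientGroup.eq_one_iff]
  exact h hx

theorem isPGroup_quotient_map [Finite G] {p : ℕ} {P : Subgroup G} (hP : IsPGroup p P) (N : Subgroup G)
    [N.Normal] : IsPGroup p (P.map (QuotientGroup.mk' N)) :=
  hP.map _

theorem layer_eq_bot_of_isSolvable [Group.IsSolvable G] : layer G = ⊥ := by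
  rw [layer, sSup_eq_bot]
  intro K hK
  exact absurd (inferInstance : Group.IsSolvable K) (isQuasisimple_not_isSolvable hK.2)

theorem generalizedFitting_eq_fitting [Group.IsSolvable G] :
    generalizedFittingSubgroup G = fittingSubgroup G := by
  rw [generalizedFittingSubgroup, layer_eq_bot_of_isSolvable, bot_sup_eq]

/-- Fitting's theorem. -/
theorem centralizer_fitting_le [Finite G] [Group.IsSolvable G] :
    Subgroup.centralizer (fittingSubgroup G : Set G) ≤ fittingSubgroup G := by
  rw [← generalizedFitting_eq_fitting]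
  exact centralizer_generalizedFitting_le

theorem pCore_le_pPrimeCore_of_ne [Finite G] {p q : ℕ} (hp : p.Prime) (hq : q.Prime) (h : p ≠ q) :
    pCore q G ≤ pPrimeCore p G := by
  haveI := Fact.mk hq
  obtain ⟨k, hk⟩ := (isPGroup_pCore (G := G) q).exists_card_eq
  apply le_pPrimeCore
  rw [hk]
  exact Nat.Coprime.pow_left _ ((Nat.coprime_primes hq hp).mpr (Ne.symm h))

theorem fitting_eq_pCore [Finite G] {p : ℕ} (hp : p.Prime) (h : pPrimeCore p G = ⊥) :
    fittingSubgroup G = pCore p G := by
  refine le_antisymm ?_ (pCore_le_fittingSubgroup hp)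
  rw [fittingSubgroup_eq_iSup_pCore]
  refine iSup_le fun q => ?_
  rcases eq_or_ne p (q : ℕ) with e | e
  · rw [← e]
  · exact ((pCore_le_pPrimeCore_of_ne hp q.2 e).trans h.le).trans bot_le

/-- Hall–Higman Lemma 1.2.3 for solvable groups. -/
theorem centralizer_pCore_le [Finite G] [Group.IsSolvable G] {p : ℕ} (hp : p.Prime)
    (h : pPrimeCore p G = ⊥) : Subgroup.centralizer (pCore p G : Set G) ≤ pCore p G := by
  rw [← fitting_eq_pCore hp h]
  exact centralizer_fitting_le

end CfsgLib
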