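import Mathlib.GroupTheory.Sylow
import Mathlib.Algebra.Group.Subgroup.Pointwise

/-! Small facts used by the local-analysis statements. -/

set_option autoImplicit false

namespace CfsgLib.Local

variable {G : Type*} [Group G]

theorem mem_map_conj {g x : G} {H : Subgroup G} :
    x ∈ H.map (MulAut.conj g).toMonoidHom ↔ g⁻¹ * x * g ∈ H := by
  rw [Subgroup.mem_map]
  constructor
  · rintro ⟨y, hy, rfl⟩
    simpa [mul_assoc] using hy
  · intro h
    exact ⟨_, h, by simp [mul_assoc]⟩

theorem map_conj_le {g : G} {H K : Subgroup G} (h : ∀ x ∈ H, g * x * g⁻¹ ∈ K) :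
    H.map (MulAut.conj g).toMonoidHom ≤ K := by
  rintro _ ⟨y, hy, rfl⟩
  simpa using h y hy

theorem map_conj_mul (g h : G) (H : Subgroup G) :
    (H.map (MulAut.conj h).toMonoidHom).map (MulAut.conj g).toMonoidHom =
      H.map (MulAut.conj (g * h)).toMonoidHom := by
  ext x; simp [mem_map_conj, mul_assoc]

theorem map_conj_eq_of_mem_normalizer {g : G} {H : Subgroup G}
    (h : g ∈ Subgroup.normalizer (H : Set G)) : H.map (MulAut.conj g).toMonoidHom = H := by
  ext x
  rw [mem_map_conj, Subgroup.mem_normalizer_iff.1 h (g⁻¹ * x * g)]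
  simp [mul_assoc]

theorem mem_normalizer_of_map_conj_eq {g : G} {H : Subgroup G}
    (h : H.map (MulAut.conj g).toMonoidHom = H) : g ∈ Subgroup.normalizer (H : Set G) := by
  rw [Subgroup.mem_normalizer_iff]
  intro x
  conv_rhs => rw [← h, mem_map_conj]
  simp [mul_assoc]

theorem isPGroup_of_le {p : ℕ} {H K : Subgroup G} (h : H ≤ K) (hK : IsPGroup p K) : IsPGroup p H :=
  hK.of_injective (Subgroup.inclusion h) (Subgroup.inclusion_injective h)

/-- In a finite subgroup `C`, two `p`-subgroups can be moved into one `p`-subgroup by an element of `C`. -/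
theorem exists_conj_isPGroup [Finite G] {p : ℕ} [Fact p.Prime] {A B C : Subgroup G}
    (hA : IsPGroup p A) (hB : IsPGroup p B) (hAC : A ≤ C) (hBC : B ≤ C) :
    ∃ c ∈ C, ∃ P : Subgroup G, IsPGroup p P ∧ P ≤ C ∧ A ≤ P ∧
      B.map (MulAut.conj c).toMonoidHom ≤ P := by
  obtain ⟨P, hP⟩ := (hA.of_injective (Subgroup.subgroupOfEquivOfLe hAC).toMonoidHom
    (MulEquiv.injective _)).exists_le_sylow
  obtain ⟨Q, hQ⟩ := (hB.of_injective (Subgroup.subgroupOfEquivOfLe hBC).toMonoidHom
    (MulEquiv.injective _)).exists_le_sylow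
  obtain ⟨c, hc⟩ := MulAction.exists_smul_eq ↥C Q P
  refine ⟨c, c.2, (P : Subgroup C).map C.subtype, P.2.map _, Subgroup.map_subtype_le _, ?_, ?_⟩
  · intro a ha
    exact ⟨⟨a, hAC ha⟩, hP ha, rfl⟩
  · rintro _ ⟨b, hb, rfl⟩
    refine ⟨c * ⟨b, hBC hb⟩ * c⁻¹, ?_, by simp⟩
    rw [← hc, SetLike.mem_coe, Sylow.coe_subgroup_smul]
    exact Subgroup.smul_mem_pointwise_smul _ (MulAut.conj c) _ (hQ hb)

/-- A subgroup all of whose generators normalize `K` normalizes `K`. -/
theorem normal_of_closure_le_normalizer {K : Subgroup G} {H : Subgroup G} (htop : H = ⊤)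
    (h : H ≤ Subgroup.normalizer (K : Set G)) : K.Normal :=
  Subgroup.normalizer_eq_top_iff.1 (top_le_iff.1 (htop ▸ h))

end CfsgLib.Local
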