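import Mathlib.GroupTheory.Index
import Mathlib.Algebra.Group.Subgroup.Finite
import Mathlib.Tactic.Ring
import Mathlib.Tactic.Linarith
import Mathlib.GroupTheory.Subgroup.Centralizer

/-! Products of two subgroups of a finite group and the Chermak–Delgado measure. -/

set_option autoImplicit false

namespace CfsgLib.Products

variable {G : Type*} [Group G]

theorem card_inf_mul_relIndex (H K : Subgroup G) :
    Nat.card ↥(H ⊓ K) * H.relIndex K = Nat.card K := by
  have h := Subgroup.card_mul_index (H.subgroupOf K)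
  rwa [← Nat.card_congr (Subgroup.subgroupOfEquivOfLe (inf_le_right : H ⊓ K ≤ K)).toEquiv,
    Subgroup.inf_subgroupOf_right]

theorem card_mul_relIndex_of_le {H K : Subgroup G} (h : H ≤ K) :
    Nat.card H * H.relIndex K = Nat.card K := by
  conv_rhs => rw [← card_inf_mul_relIndex H K, inf_eq_left.2 h]

theorem card_mul_card_le [Finite G] (H K : Subgroup G) :
    Nat.card H * Nat.card K ≤ Nat.card ↥(H ⊔ K) * Nat.card ↥(H ⊓ K) := by
  rw [← card_inf_mul_relIndex H K, ← card_mul_relIndex_of_le (le_sup_left : H ≤ H ⊔ K)]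
  have := Subgroup.relIndex_le_of_le_right (H := H) (le_sup_right : K ≤ H ⊔ K)
    Subgroup.index_ne_zero_of_finite
  calc Nat.card H * (Nat.card ↥(H ⊓ K) * H.relIndex K)
      ≤ Nat.card H * (Nat.card ↥(H ⊓ K) * H.relIndex (H ⊔ K)) := by gcongr
    _ = _ := by ring

/-- If `|H| |K|` attains its bound, the join is the product set. -/
theorem exists_mul_of_card_eq [Finite G] {H K : Subgroup G}
    (h : Nat.card ↥(H ⊔ K) * Nat.card ↥(H ⊓ K) ≤ Nat.card H * Nat.card K) {g : G}
    (hg : g ∈ H ⊔ K) : ∃ k ∈ K, ∃ h ∈ H, g = k * h := by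
  have hrel : H.relIndex (H ⊔ K) ≤ H.relIndex K := by
    rw [← card_mul_relIndex_of_le (le_sup_left : H ≤ H ⊔ K), ← card_inf_mul_relIndex H K] at h
    have h' : Nat.card H * Nat.card ↥(H ⊓ K) * H.relIndex (H ⊔ K) ≤
        Nat.card H * Nat.card ↥(H ⊓ K) * H.relIndex K := by linarith
    exact Nat.le_of_mul_le_mul_left h' (Nat.mul_pos Nat.card_pos Nat.card_pos)
  let e := Subgroup.quotientSubgroupOfEmbeddingOfLE H (le_sup_right : K ≤ H ⊔ K)
  have hcard : Nat.card (↥(H ⊔ K) ⧸ H.subgroupOf (H ⊔ K)) = Nat.card (↥K ⧸ H.subgroupOf K) :=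
    le_antisymm hrel (Nat.card_le_card_of_injective e e.injective)
  obtain ⟨x, hx⟩ := (e.injective.bijective_of_nat_card_le hcard.le).2 (QuotientGroup.mk ⟨g, hg⟩)
  induction x using QuotientGroup.induction_on with
  | H k =>
    simp only [e, Subgroup.quotientSubgroupOfEmbeddingOfLE_apply_mk] at hx
    rw [QuotientGroup.eq, Subgroup.mem_subgroupOf] at hx
    exact ⟨k, k.2, _, hx, by simp⟩

/-- The Chermak–Delgado measure. -/
noncomputable def cdMeasure (H : Subgroup G) : ℕ :=
  Nat.card H * Nat.card ↥(Subgroup.centralizer (H : Set G))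

theorem cdMeasure_pos [Finite G] (H : Subgroup G) : 0 < cdMeasure H :=
  Nat.mul_pos Nat.card_pos Nat.card_pos

theorem centralizer_sup (H K : Subgroup G) :
    Subgroup.centralizer ((H ⊔ K : Subgroup G) : Set G) =
      Subgroup.centralizer (H : Set G) ⊓ Subgroup.centralizer (K : Set G) := by
  refine le_antisymm (le_inf (Subgroup.centralizer_le (SetLike.coe_subset_coe.2 le_sup_left))
    (Subgroup.centralizer_le (SetLike.coe_subset_coe.2 le_sup_right))) fun x hx => ?_
  have : H ⊔ K ≤ Subgroup.centralizer ({x} : Set G) := sup_le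
    (fun h hh => Subgroup.mem_centralizer_singleton_iff.2 (hx.1 h hh))
    (fun h hh => Subgroup.mem_centralizer_singleton_iff.2 (hx.2 h hh))
  exact fun h hh => Subgroup.mem_centralizer_singleton_iff.1 (this hh)

theorem sup_centralizer_le (H K : Subgroup G) :
    Subgroup.centralizer (H : Set G) ⊔ Subgroup.centralizer (K : Set G) ≤
      Subgroup.centralizer ((H ⊓ K : Subgroup G) : Set G) :=
  sup_le (Subgroup.centralizer_le (SetLike.coe_subset_coe.2 (inf_le_left : H ⊓ K ≤ H)))
    (Subgroup.centralizer_le (SetLike.coe_subset_coe.2 (inf_le_right : H ⊓ K ≤ K)))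

theorem cdMeasure_mul_le [Finite G] (H K : Subgroup G) :
    cdMeasure H * cdMeasure K ≤ cdMeasure (H ⊔ K) * cdMeasure (H ⊓ K) := by
  have h1 := card_mul_card_le H K
  have h2 := card_mul_card_le (Subgroup.centralizer (H : Set G)) (Subgroup.centralizer (K : Set G))
  rw [← centralizer_sup] at h2
  have h3 := Nat.card_mono (Set.toFinite _) (sup_centralizer_le H K)
  unfold cdMeasure
  calc _ = (Nat.card H * Nat.card K) * (Nat.card ↥(Subgroup.centralizer (H : Set G)) *
        Nat.card ↥(Subgroup.centralizer (K : Set G))) := by ring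
    _ ≤ (Nat.card ↥(H ⊔ K) * Nat.card ↥(H ⊓ K)) *
        (Nat.card ↥(Subgroup.centralizer ((H ⊓ K : Subgroup G) : Set G)) *
         Nat.card ↥(Subgroup.centralizer ((H ⊔ K : Subgroup G) : Set G))) :=
        Nat.mul_le_mul h1 (h2.trans (Nat.mul_le_mul_right _ h3))
    _ = _ := by ring

/-- The Chermak–Delgado lattice: two subgroups of largest measure have join and meet of largest
measure, and their join is their product. -/
theorem cd_closed [Finite G] {H K : Subgroup G} (hH : ∀ L : Subgroup G, cdMeasure L ≤ cdMeasure H)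
    (hK : ∀ L : Subgroup G, cdMeasure L ≤ cdMeasure K) :
    cdMeasure (H ⊔ K) = cdMeasure H ∧ cdMeasure (H ⊓ K) = cdMeasure H ∧
      Nat.card H * Nat.card K = Nat.card ↥(H ⊔ K) * Nat.card ↥(H ⊓ K) ∧
      Subgroup.centralizer (H : Set G) ⊔ Subgroup.centralizer (K : Set G) =
        Subgroup.centralizer ((H ⊓ K : Subgroup G) : Set G) := by
  have hKH : cdMeasure K = cdMeasure H := le_antisymm (hH K) (hK H)
  have h := cdMeasure_mul_le H K
  rw [hKH] at h
  have hpos := cdMeasure_pos H
  have h1 : cdMeasure (H ⊔ K) = cdMeasure H := by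
    refine le_antisymm (hH _) ?_
    by_contra hlt
    have := Nat.mul_lt_mul_of_lt_of_le (Nat.lt_of_not_le hlt) (hH (H ⊓ K)) hpos
    omega
  have h2 : cdMeasure (H ⊓ K) = cdMeasure H := by
    refine le_antisymm (hH _) ?_
    by_contra hlt
    have := Nat.mul_lt_mul_of_le_of_lt (hH (H ⊔ K)) (Nat.lt_of_not_le hlt) hpos
    omega
  set a := Nat.card H * Nat.card K
  set b := Nat.card ↥(Subgroup.centralizer (H : Set G)) * Nat.card ↥(Subgroup.centralizer (K : Set G))
  set a' := Nat.card ↥(H ⊔ K) * Nat.card ↥(H ⊓ K)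
  set b' := Nat.card ↥(Subgroup.centralizer ((H ⊔ K : Subgroup G) : Set G)) *
    Nat.card ↥(Subgroup.centralizer ((H ⊓ K : Subgroup G) : Set G))
  have hab : a * b = a' * b' := by
    calc a * b = cdMeasure H * cdMeasure K := by simp only [a, b, cdMeasure]; ring
      _ = cdMeasure (H ⊔ K) * cdMeasure (H ⊓ K) := by rw [hKH, h1, h2]
      _ = a' * b' := by simp only [a', b', cdMeasure]; ring
  have ha : a ≤ a' := card_mul_card_le H K
  have hb0 := card_mul_card_le (Subgroup.centralizer (H : Set G)) (Subgroup.centralizer (K : Set G))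
  rw [← centralizer_sup] at hb0
  have hb : b ≤ b' := hb0.trans (by
    rw [mul_comm]
    exact Nat.mul_le_mul_left _ (Nat.card_mono (Set.toFinite _) (sup_centralizer_le H K)))
  have hbpos : 0 < b := Nat.mul_pos Nat.card_pos Nat.card_pos
  have haeq : a = a' := by
    refine le_antisymm ha ?_
    by_contra hlt
    have := Nat.mul_lt_mul_of_lt_of_le (Nat.lt_of_not_le hlt) hb (hbpos.trans_le hb)
    omega
  have hbeq : b = b' := by
    rw [← haeq] at hab
    exact Nat.eq_of_mul_eq_mul_left (Nat.mul_pos Nat.card_pos Nat.card_pos) hab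
  refine ⟨h1, h2, haeq, Subgroup.eq_of_le_of_card_ge (sup_centralizer_le H K) ?_⟩
  refine Nat.le_of_mul_le_mul_right ?_ (Nat.card_pos
    (α := ↥(Subgroup.centralizer ((H ⊔ K : Subgroup G) : Set G))))
  calc _ = b' := by simp only [b']; ring
    _ = b := hbeq.symm
    _ ≤ _ := hb0

end CfsgLib.Products
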