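import Cfsg.Prelude.Def_BaumannBlocks
import Cfsg.Agent.Lib.Products
import Cfsg.Agent.Lib.Local

/-! The Chermak–Delgado lattice and centrally large subgroups. -/

set_option autoImplicit false
set_option linter.unusedVariables false

namespace CfsgLib.CentrallyLarge

open CfsgLib.Products CfsgLib.Local
open scoped commutatorElement

variable {G : Type*} [Group G]

local notation "ζ" H:max => Subgroup.centralizer (SetLike.coe H)

/-- `H` has largest Chermak–Delgado measure. -/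
def Large (H : Subgroup G) : Prop := ∀ L : Subgroup G, cdMeasure L ≤ cdMeasure H

/-- A maximal abelian member of the Chermak–Delgado lattice. -/
def MaxLarge (Z : Subgroup G) : Prop :=
  Large Z ∧ Z ≤ ζ Z ∧ ∀ D : Subgroup G, Large D → D ≤ ζ D → Z ≤ D → D = Z

/-- An abelian subgroup of largest order. -/
def MaxAb (A : Subgroup G) : Prop :=
  A ≤ ζ A ∧ ∀ B : Subgroup G, B ≤ ζ B → Nat.card B ≤ Nat.card A

theorem le_centralizer_iff_isMulCommutative {H : Subgroup G} : IsMulCommutative H ↔ H ≤ ζ H :=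
  Subgroup.le_centralizer_iff_isMulCommutative.symm

theorem maxAb_iff {A : Subgroup G} : A ∈ Cfsg.maxAbelianSubgroups G ↔ MaxAb A := by
  simp only [Cfsg.maxAbelianSubgroups, MaxAb, Set.mem_setOf_eq, le_centralizer_iff_isMulCommutative]

theorem le_centralizer_comm {H K : Subgroup G} : H ≤ ζ K ↔ K ≤ ζ H :=
  Subgroup.le_centralizer_iff

theorem centralizer_le' {H K : Subgroup G} (h : H ≤ K) : ζ K ≤ ζ H :=
  Subgroup.centralizer_le (SetLike.coe_subset_coe.2 h)

theorem le_centralizer_centralizer (H : Subgroup G) : H ≤ ζ (ζ H) :=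
  le_centralizer_comm.1 le_rfl

/-- Two commuting subgroups lie in an abelian join. -/
theorem sup_abelian {H K : Subgroup G} (hH : H ≤ ζ H) (hK : K ≤ ζ K) (h : H ≤ ζ K) :
    H ⊔ K ≤ ζ (H ⊔ K) := by
  rw [centralizer_sup]
  exact sup_le (le_inf hH h) (le_inf (le_centralizer_comm.1 h) hK)

theorem le_abelian {H K : Subgroup G} (h : H ≤ K) (hK : K ≤ ζ K) : H ≤ ζ H :=
  h.trans (hK.trans (centralizer_le' h))

theorem center_card (R : Subgroup G) : Nat.card (Subgroup.center R) = Nat.card ↥(R ⊓ ζ R) := by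
  have e : (Subgroup.center R).map R.subtype = R ⊓ ζ R := by
    ext x
    constructor
    · rintro ⟨y, hy, rfl⟩
      exact ⟨y.2, fun z hz => congrArg Subtype.val (Subgroup.mem_center_iff.1 hy ⟨z, hz⟩)⟩
    · rintro ⟨hx, hc⟩
      exact ⟨⟨x, hx⟩, Subgroup.mem_center_iff.2 fun z => Subtype.ext (hc z z.2), rfl⟩
  rw [← e, Subgroup.card_map_of_injective R.subtype_injective]

section Basic

variable [Finite G]

theorem eq_of_large {H K : Subgroup G} (hH : Large H) (hK : Large K) :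
    cdMeasure H = cdMeasure K :=
  le_antisymm (hK H) (hH K)

theorem large_of_ge {H K : Subgroup G} (hH : Large H) (h : cdMeasure H ≤ cdMeasure K) : Large K :=
  fun L => (hH L).trans h

theorem exists_large : ∃ H : Subgroup G, Large H := Finite.exists_max (cdMeasure (G := G))

theorem Large.centralizer_centralizer {H : Subgroup G} (hH : Large H) : ζ (ζ H) = H := by
  refine (Subgroup.eq_of_le_of_card_ge (le_centralizer_centralizer H) ?_).symm
  have := hH (ζ H)
  unfold cdMeasure at this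
  rw [mul_comm (Nat.card H)] at this
  exact Nat.le_of_mul_le_mul_left this Nat.card_pos

theorem Large.centralizer {H : Subgroup G} (hH : Large H) : Large (ζ H) :=
  large_of_ge hH (by unfold cdMeasure; rw [hH.centralizer_centralizer, mul_comm])

theorem Large.sup {H K : Subgroup G} (hH : Large H) (hK : Large K) : Large (H ⊔ K) :=
  large_of_ge hH (cd_closed hH hK).1.ge

theorem Large.inf {H K : Subgroup G} (hH : Large H) (hK : Large K) : Large (H ⊓ K) :=
  large_of_ge hH (cd_closed hH hK).2.1.ge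

theorem Large.centralizer_inf {H K : Subgroup G} (hH : Large H) (hK : Large K) :
    ζ (H ⊓ K) = ζ H ⊔ ζ K :=
  (cd_closed hH hK).2.2.2.symm

theorem Large.centralizer_inj {H K : Subgroup G} (hH : Large H) (hK : Large K) (h : ζ H = ζ K) :
    H = K := by
  rw [← hH.centralizer_centralizer, ← hK.centralizer_centralizer, h]

theorem Large.exists_mul {H K : Subgroup G} (hH : Large H) (hK : Large K) {g : G}
    (hg : g ∈ H ⊔ K) : ∃ k ∈ K, ∃ h ∈ H, g = k * h :=
  exists_mul_of_card_eq (cd_closed hH hK).2.2.1.ge hg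

theorem sSup_large {S : Set (Subgroup G)} (hne : S.Nonempty) (h : ∀ H ∈ S, Large H) :
    Large (sSup S) := by
  have hfin : S.Finite := Set.toFinite S
  induction S, hfin using Set.Finite.induction_on with
  | empty => simp at hne
  | @insert A T _ _ ih =>
    rw [sSup_insert]
    rcases T.eq_empty_or_nonempty with rfl | hT
    · simpa using h A (Set.mem_insert _ _)
    · exact (h A (Set.mem_insert _ _)).sup (ih hT fun B hB => h B (Set.mem_insert_of_mem _ hB))

theorem sInf_large {S : Set (Subgroup G)} (hne : S.Nonempty) (h : ∀ H ∈ S, Large H) :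
    Large (sInf S) := by
  have hfin : S.Finite := Set.toFinite S
  induction S, hfin using Set.Finite.induction_on with
  | empty => simp at hne
  | @insert A T _ _ ih =>
    rw [sInf_insert]
    rcases T.eq_empty_or_nonempty with rfl | hT
    · simpa using h A (Set.mem_insert _ _)
    · exact (h A (Set.mem_insert _ _)).inf (ih hT fun B hB => h B (Set.mem_insert_of_mem _ hB))

theorem Large.conj {H : Subgroup G} (hH : Large H) (g : G) :
    Large (H.map (MulAut.conj g).toMonoidHom) := by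
  refine large_of_ge hH (le_of_eq ?_)
  unfold cdMeasure
  have e : ζ (H.map (MulAut.conj g).toMonoidHom) = (ζ H).map (MulAut.conj g).toMonoidHom := by
    ext x
    rw [mem_map_conj]
    constructor
    · intro hx y hy
      have h1 := hx (g * y * g⁻¹) ⟨y, hy, by simp⟩
      calc y * (g⁻¹ * x * g) = g⁻¹ * ((g * y * g⁻¹) * x) * g := by group
        _ = g⁻¹ * (x * (g * y * g⁻¹)) * g := by rw [h1]
        _ = _ := by group
    · rintro hx _ ⟨y, hy, rfl⟩
      show g * y * g⁻¹ * x = x * (g * y * g⁻¹)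
      calc g * y * g⁻¹ * x = g * (y * (g⁻¹ * x * g)) * g⁻¹ := by group
        _ = g * (g⁻¹ * x * g * y) * g⁻¹ := by rw [hx y hy]
        _ = _ := by group
  rw [e, Subgroup.card_map_of_injective (MulEquiv.injective _),
    Subgroup.card_map_of_injective (MulEquiv.injective _)]

/-! ### Centrally large subgroups -/

theorem exists_large_centralizer_le : ∃ R : Subgroup G, Large R ∧ ζ R ≤ R := by
  obtain ⟨H, hH⟩ := exists_large (G := G)
  refine ⟨H ⊔ ζ H, hH.sup hH.centralizer, ?_⟩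
  rw [centralizer_sup, hH.centralizer_centralizer]
  exact inf_le_right.trans le_sup_left

theorem maxCentralizerProduct_eq {H : Subgroup G} (hH : Large H) :
    Cfsg.maxCentralizerProduct G = cdMeasure H :=
  le_antisymm (csSup_le ⟨_, H, rfl⟩ (by rintro k ⟨R, rfl⟩; exact hH R))
    (le_csSup ⟨cdMeasure H, by rintro k ⟨R, rfl⟩; exact hH R⟩ ⟨H, rfl⟩)

theorem isCentralizerLarge_iff {H : Subgroup G} : Cfsg.IsCentralizerLarge H ↔ Large H := by
  constructor
  · intro h L
    obtain ⟨K, hK⟩ := exists_large (G := G)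
    have : cdMeasure H = Cfsg.maxCentralizerProduct G := h
    rw [this, maxCentralizerProduct_eq hK]
    exact hK L
  · intro h
    exact (maxCentralizerProduct_eq h).symm

theorem maxCentralProduct_eq {H : Subgroup G} (hH : Large H) :
    Cfsg.maxCentralProduct G = cdMeasure H := by
  have hbound : ∀ R : Subgroup G, Nat.card R * Nat.card (Subgroup.center R) ≤ cdMeasure H := fun R => by
    rw [center_card]
    exact (Nat.mul_le_mul_left _ (Subgroup.card_le_of_le inf_le_right)).trans (hH R)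
  obtain ⟨R, hR, hle⟩ := exists_large_centralizer_le (G := G)
  refine le_antisymm (csSup_le ⟨_, H, rfl⟩ (by rintro k ⟨L, rfl⟩; exact hbound L)) ?_
  refine le_csSup ⟨cdMeasure H, by rintro k ⟨L, rfl⟩; exact hbound L⟩ ⟨R, ?_⟩
  rw [center_card, inf_eq_right.2 hle, eq_of_large hH hR]
  rfl

theorem isCentrallyLarge_iff {R : Subgroup G} : Cfsg.IsCentrallyLarge R ↔ Large R ∧ ζ R ≤ R := by
  obtain ⟨K, hK⟩ := exists_large (G := G)
  unfold Cfsg.IsCentrallyLarge
  rw [maxCentralProduct_eq hK, center_card]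
  constructor
  · intro h
    have h1 : Nat.card R * Nat.card ↥(R ⊓ ζ R) ≤ cdMeasure R :=
      Nat.mul_le_mul_left _ (Subgroup.card_le_of_le inf_le_right)
    have hR : Large R := large_of_ge hK (h.symm.trans_le h1)
    refine ⟨hR, inf_eq_right.1 (Subgroup.eq_of_le_of_card_ge inf_le_right ?_)⟩
    have h2 := eq_of_large hK hR
    rw [← h, cdMeasure] at h2
    exact (Nat.eq_of_mul_eq_mul_left Nat.card_pos h2).ge
  · rintro ⟨hR, hle⟩
    rw [inf_eq_right.2 hle, eq_of_large hK hR]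
    rfl

theorem exists_maxLarge {D : Subgroup G} (hD : Large D) (hDa : D ≤ ζ D) :
    ∃ Z, MaxLarge Z ∧ D ≤ Z := by
  obtain ⟨Z, hle, hZ⟩ := Finite.exists_le_maximal
    (p := fun Z : Subgroup G => Large Z ∧ Z ≤ ζ Z) (a := D) ⟨hD, hDa⟩
  exact ⟨Z, ⟨hZ.prop.1, hZ.prop.2, fun E hE hEa hZE => le_antisymm (hZ.le_of_ge ⟨hE, hEa⟩ hZE) hZE⟩, hle⟩

theorem MaxLarge.le_of_centralizes {Z D : Subgroup G} (hZ : MaxLarge Z) (hD : Large D)
    (hDa : D ≤ ζ D) (h : D ≤ ζ Z) : D ≤ Z :=
  le_sup_right.trans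
    (hZ.2.2 _ (hZ.1.sup hD) (sup_abelian hZ.2.1 hDa (le_centralizer_comm.1 h)) le_sup_left).le

theorem isMinimalCentrallyLarge_iff {R : Subgroup G} :
    Cfsg.IsMinimalCentrallyLarge R ↔ MaxLarge (ζ R) ∧ ζ (ζ R) = R := by
  constructor
  · rintro ⟨hR, hmin⟩
    obtain ⟨hRL, hRc⟩ := isCentrallyLarge_iff.1 hR
    refine ⟨⟨hRL.centralizer, by rwa [hRL.centralizer_centralizer], fun D hD hDa hle => ?_⟩,
      hRL.centralizer_centralizer⟩
    have hle' : ζ D ≤ R := (centralizer_le' hle).trans hRL.centralizer_centralizer.le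
    have := hmin (ζ D) hle' (isCentrallyLarge_iff.2 ⟨hD.centralizer, by
      rwa [hD.centralizer_centralizer]⟩)
    rw [← this, hD.centralizer_centralizer]
  · rintro ⟨hZ, hcc⟩
    have hR : Large R := hcc ▸ hZ.1.centralizer
    refine ⟨isCentrallyLarge_iff.2 ⟨hR, hZ.2.1.trans hcc.le⟩, fun R' hle hR' => ?_⟩
    obtain ⟨hL, hc⟩ := isCentrallyLarge_iff.1 hR'
    have := hZ.2.2 (ζ R') hL.centralizer (by rwa [hL.centralizer_centralizer]) (centralizer_le' hle)
    exact hL.centralizer_inj hR this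

theorem MaxLarge.isMinimal {Z : Subgroup G} (hZ : MaxLarge Z) : Cfsg.IsMinimalCentrallyLarge (ζ Z) :=
  isMinimalCentrallyLarge_iff.2 ⟨by rwa [hZ.1.centralizer_centralizer],
    by rw [hZ.1.centralizer_centralizer]⟩

/-! ### Products with commuting subgroups -/

theorem mem_sup_of_centralizes {H K : Subgroup G} (h : H ≤ ζ K) {g : G} (hg : g ∈ H ⊔ K) :
    ∃ x ∈ H, ∃ y ∈ K, g = x * y := by
  have hn : K ≤ Subgroup.normalizer (H : Set G) :=
    (le_centralizer_comm.1 h).trans (Subgroup.centralizer_le_normalizer _)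
  have : g ∈ ((H ⊔ K : Subgroup G) : Set G) := hg
  rw [Subgroup.coe_mul_of_right_le_normalizer_left H K hn] at this
  obtain ⟨x, hx, y, hy, rfl⟩ := this
  exact ⟨x, hx, y, hy, rfl⟩

theorem card_sup_mul_card_inf {H K : Subgroup G} (hn : K ≤ Subgroup.normalizer (H : Set G)) :
    Nat.card ↥(H ⊔ K) * Nat.card ↥(H ⊓ K) = Nat.card H * Nat.card K := by
  have h1 : (H.subgroupOf K).index = (H.subgroupOf (H ⊔ K)).index := by
    haveI := Subgroup.normal_subgroupOf_of_le_normalizer hn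
    haveI := (Subgroup.normal_subgroupOf_sup_of_le_normalizer hn)
    exact Nat.card_congr (QuotientGroup.quotientInfEquivProdNormalizerQuotient K H hn).toEquiv |>.trans
      (by rw [sup_comm]; rfl)
  rw [← card_mul_relIndex_of_le (le_sup_left : H ≤ H ⊔ K), ← card_inf_mul_relIndex H K]
  change Nat.card H * (H.subgroupOf (H ⊔ K)).index * _ = _ * (_ * (H.subgroupOf K).index)
  rw [h1]; ring

theorem card_sup_of_centralizes {H K : Subgroup G} (h : H ≤ ζ K) :
    Nat.card ↥(H ⊔ K) * Nat.card ↥(H ⊓ K) = Nat.card H * Nat.card K :=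
  card_sup_mul_card_inf ((le_centralizer_comm.1 h).trans (Subgroup.centralizer_le_normalizer _))

/-! ### Abelian subgroups of largest order -/

theorem MaxAb.centralizer_eq {A : Subgroup G} (hA : MaxAb A) : ζ A = A := by
  refine le_antisymm (fun x hx => ?_) hA.1
  have hz : Subgroup.zpowers x ≤ ζ A := (Subgroup.zpowers_le).2 hx
  have hab : A ⊔ Subgroup.zpowers x ≤ ζ (A ⊔ Subgroup.zpowers x) :=
    sup_abelian hA.1 (le_centralizer_iff_isMulCommutative.1 inferInstance) (le_centralizer_comm.1 hz)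
  have := Subgroup.eq_of_le_of_card_ge (le_sup_left : A ≤ A ⊔ Subgroup.zpowers x) (hA.2 _ hab)
  exact this ▸ Subgroup.mem_sup_right (Subgroup.mem_zpowers x)

theorem exists_maxAb : ∃ A : Subgroup G, MaxAb A := by
  haveI : Nonempty {A : Subgroup G // A ≤ ζ A} := ⟨⟨⊥, bot_le⟩⟩
  obtain ⟨⟨A, hA⟩, h⟩ := Finite.exists_max (fun A : {A : Subgroup G // A ≤ ζ A} => Nat.card A.1)
  exact ⟨A, hA, fun B hB => h ⟨B, hB⟩⟩

/-- Joining a centrally large subgroup with an abelian subgroup of largest order. -/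
theorem cl_sup_maxAb {Q A : Subgroup G} (hQ : Large Q) (hQc : ζ Q ≤ Q) (hA : MaxAb A) :
    Large (Q ⊔ A) ∧ ζ (Q ⊔ A) = ζ Q ⊓ A ∧
      Nat.card ↥(Q ⊔ A) * Nat.card ↥(Q ⊓ A) ≤ Nat.card Q * Nat.card A ∧
      MaxAb (ζ Q ⊔ (Q ⊓ A)) := by
  have hC : ζ (Q ⊔ A) = ζ Q ⊓ A := by rw [centralizer_sup, hA.centralizer_eq]
  have hZa : ζ Q ≤ ζ (ζ Q) := by rwa [hQ.centralizer_centralizer]
  have hZB : ζ Q ≤ ζ (Q ⊓ A) := centralizer_le' inf_le_left
  have hab : ζ Q ⊔ (Q ⊓ A) ≤ ζ (ζ Q ⊔ (Q ⊓ A)) :=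
    sup_abelian hZa (le_abelian inf_le_right hA.1) hZB
  have hcard := card_sup_of_centralizes hZB
  have hinf : ζ Q ⊓ (Q ⊓ A) = ζ Q ⊓ A :=
    le_antisymm (inf_le_inf_left _ inf_le_right) (le_inf inf_le_left
      (le_inf (inf_le_left.trans hQc) inf_le_right))
  rw [hinf] at hcard
  have hle := hA.2 _ hab
  have hQA := card_mul_card_le Q A
  have hsup := hQ (Q ⊔ A)
  simp only [cdMeasure, hC] at hsup
  set m := Nat.card ↥(ζ Q ⊔ (Q ⊓ A))
  set c := Nat.card ↥(ζ Q ⊓ A)
  set b := Nat.card ↥(Q ⊓ A)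
  set r := Nat.card ↥(Q ⊔ A)
  set a := Nat.card A
  set z := Nat.card ↥(ζ Q)
  set q := Nat.card Q
  have hb : 0 < b := Nat.card_pos
  have hc : 0 < c := Nat.card_pos
  have hq : 0 < q := Nat.card_pos
  -- `q z b = q m c ≤ q a c ≤ r b c ≤ q z b`
  have e1 : q * z * b = q * m * c := by linarith [congrArg (fun n => q * n) hcard]
  have e2 : q * m * c ≤ q * a * c := Nat.mul_le_mul_right _ (Nat.mul_le_mul_left _ hle)
  have e3 : q * a * c ≤ r * b * c := Nat.mul_le_mul_right _ hQA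
  have e4 : r * b * c ≤ q * z * b := by
    calc r * b * c = r * c * b := by ring
      _ ≤ q * z * b := Nat.mul_le_mul_right _ hsup
  have eq1 : r * c * b = q * z * b := by linarith
  have eq2 : r * b * c ≤ q * a * c := by linarith
  have eq3 : q * a * c ≤ q * m * c := by linarith
  refine ⟨large_of_ge hQ ?_, hC, Nat.le_of_mul_le_mul_right eq2 hc, hab, fun B hB => (hA.2 B hB).trans ?_⟩
  · simp only [cdMeasure, hC]
    exact (Nat.eq_of_mul_eq_mul_right hb eq1).ge
  · exact Nat.le_of_mul_le_mul_left (Nat.le_of_mul_le_mul_right eq3 hc) hq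

theorem thompson_le_large {R : Subgroup G} (hR : Large R) (hRc : ζ R ≤ R)
    (hJ : Cfsg.thompsonSubgroupA G ≤ R) :
    ζ (Cfsg.thompsonSubgroupA G ⊓ ζ (Cfsg.thompsonSubgroupA G)) ≤ R := by
  refine le_trans (centralizer_le' (le_inf ?_ (centralizer_le' hJ))) hR.centralizer_centralizer.le
  obtain ⟨A, hA⟩ := exists_maxAb (G := G)
  exact (centralizer_le' ((le_sSup (maxAb_iff.2 hA)).trans hJ)).trans
    (hA.centralizer_eq.le.trans (le_sSup (maxAb_iff.2 hA)))

theorem cl_sup_sSup {Q : Subgroup G} (hQ : Large Q) (hQc : ζ Q ≤ Q) {S : Set (Subgroup G)}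
    (hS : ∀ A ∈ S, MaxAb A) : Large (Q ⊔ sSup S) ∧ ζ (Q ⊔ sSup S) ≤ Q ⊔ sSup S := by
  refine ⟨?_, ((centralizer_le' le_sup_left).trans hQc).trans le_sup_left⟩
  have hfin : S.Finite := Set.toFinite S
  induction S, hfin using Set.Finite.induction_on with
  | empty => simpa using hQ
  | @insert A T _ _ ih =>
    have := ih fun B hB => hS B (Set.mem_insert_of_mem _ hB)
    rw [sSup_insert, sup_comm A, ← sup_assoc]
    exact (cl_sup_maxAb this (((centralizer_le' le_sup_left).trans hQc).trans le_sup_left)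
      (hS A (Set.mem_insert _ _))).1

/-- Any two maximal abelian members have the same order, and their centralizers have the same
derived subgroup. -/
theorem MaxLarge.compare {Z Z' : Subgroup G} (hZ : MaxLarge Z) (hZ' : MaxLarge Z') :
    (ζ Z ⊓ ζ Z') ⊔ Z = ζ Z ∧ Nat.card Z = Nat.card Z' := by
  have key : ∀ {Z Z' : Subgroup G}, MaxLarge Z → MaxLarge Z' →
      (ζ Z ⊓ ζ Z') ⊔ Z = ζ Z ∧ (ζ Z ⊓ ζ Z') ⊓ Z = Z ⊓ Z' := by
    intro Z Z' hZ hZ'
    set Q := ζ Z
    set S := ζ Z ⊓ ζ Z'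
    have hQ := hZ.1.centralizer
    have hS : Large S := hQ.inf hZ'.1.centralizer
    have hQc : ζ Q = Z := hZ.1.centralizer_centralizer
    have hSc : ζ S = Z ⊔ Z' := by
      rw [hQ.centralizer_inf hZ'.1.centralizer, hQc, hZ'.1.centralizer_centralizer]
    have hT : ζ (S ⊔ Z) ≤ S ⊔ Z := by
      rw [centralizer_sup, hSc]
      rintro x ⟨hx, hxQ⟩
      obtain ⟨z', hz', z, hz, rfl⟩ := hZ.1.exists_mul hZ'.1 hx
      have hz'Q : z' ∈ Q := by simpa using Q.mul_mem hxQ (Q.inv_mem (hZ.2.1 hz))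
      exact Subgroup.mul_mem _ (Subgroup.mem_sup_left ⟨hz'Q, hZ'.2.1 hz'⟩) (Subgroup.mem_sup_right hz)
    refine ⟨(isMinimalCentrallyLarge_iff.2 ⟨by rwa [hQc], by rw [hQc]⟩).2 _
      (sup_le inf_le_left hZ.2.1) (isCentrallyLarge_iff.2 ⟨hS.sup hZ.1, hT⟩), ?_⟩
    refine le_antisymm (le_inf inf_le_right ?_) (le_inf (le_inf (inf_le_left.trans hZ.2.1)
      (inf_le_right.trans hZ'.2.1)) inf_le_left)
    refine hZ'.le_of_centralizes (hS.inf hZ.1) (le_abelian inf_le_right hZ.2.1) ?_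
    exact inf_le_left.trans inf_le_right
  obtain ⟨h1, h2⟩ := key hZ hZ'
  obtain ⟨h1', h2'⟩ := key hZ' hZ
  refine ⟨h1, ?_⟩
  have c1 := card_sup_of_centralizes (H := ζ Z ⊓ ζ Z') (K := Z) inf_le_left
  have c2 := card_sup_of_centralizes (H := ζ Z' ⊓ ζ Z) (K := Z') inf_le_left
  rw [h1, h2] at c1
  rw [h1', h2', inf_comm (ζ Z'), inf_comm Z'] at c2
  set s := Nat.card ↥(ζ Z ⊓ ζ Z')
  set i := Nat.card ↥(Z ⊓ Z')
  set q := Nat.card ↥(ζ Z)
  set q' := Nat.card ↥(ζ Z')
  set z := Nat.card Z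
  set z' := Nat.card Z'
  have hm : z * q = z' * q' := eq_of_large hZ.1 hZ'.1
  have hs : 0 < s := Nat.card_pos
  have hsq : s * (z * z) = s * (z' * z') := by
    calc s * (z * z) = q * i * z := by rw [c1]; ring
      _ = z * q * i := by ring
      _ = z' * q' * i := by rw [hm]
      _ = q' * i * z' := by ring
      _ = s * (z' * z') := by rw [c2]; ring
  exact Nat.mul_self_inj.1 (Nat.eq_of_mul_eq_mul_left hs hsq)

theorem MaxLarge.commutator_eq {Z Z' : Subgroup G} (hZ : MaxLarge Z) (hZ' : MaxLarge Z') :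
    ⁅ζ Z, ζ Z⁆ = ⁅ζ Z', ζ Z'⁆ := by
  have key : ∀ {Z Z' : Subgroup G}, MaxLarge Z → MaxLarge Z' →
      ⁅ζ Z, ζ Z⁆ = ⁅ζ Z ⊓ ζ Z', ζ Z ⊓ ζ Z'⁆ := by
    intro Z Z' hZ hZ'
    refine le_antisymm ?_ (Subgroup.commutator_mono inf_le_left inf_le_left)
    refine Subgroup.commutator_le.2 fun a ha b hb => ?_
    rw [← (hZ.compare hZ').1] at ha hb
    have hc : ζ Z ⊓ ζ Z' ≤ ζ Z := inf_le_left
    obtain ⟨s, hs, z, hz, rfl⟩ := mem_sup_of_centralizes hc ha
    obtain ⟨t, ht, w, hw, rfl⟩ := mem_sup_of_centralizes hc hb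
    have e1 : z * t = t * z := (hc ht) z hz
    have e2 : w * s = s * w := (hc hs) w hw
    have e3 : z * w = w * z := (hZ.2.1 hw) z hz
    have : ⁅s * z, t * w⁆ = ⁅s, t⁆ := by
      simp only [commutatorElement_def, mul_inv_rev]
      have f2 : w * s⁻¹ = s⁻¹ * w := by
        calc w * s⁻¹ = s⁻¹ * (s * w) * s⁻¹ := by group
          _ = s⁻¹ * (w * s) * s⁻¹ := by rw [e2]
          _ = s⁻¹ * w := by group
      calc s * z * (t * w) * (z⁻¹ * s⁻¹) * (w⁻¹ * t⁻¹)
          = s * (z * t) * w * z⁻¹ * s⁻¹ * w⁻¹ * t⁻¹ := by group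
        _ = s * t * (z * w) * z⁻¹ * s⁻¹ * w⁻¹ * t⁻¹ := by rw [e1]; group
        _ = s * t * (w * s⁻¹) * w⁻¹ * t⁻¹ := by rw [e3]; group
        _ = s * t * s⁻¹ * t⁻¹ := by rw [f2]; group
    rw [this]
    exact Subgroup.commutator_mem_commutator hs ht
  rw [key hZ hZ', key hZ' hZ, inf_comm]

end Basic

end CfsgLib.CentrallyLarge
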