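import Cfsg.Agent.Lib.Coprime
import Cfsg.Agent.Lib.Local
import Cfsg.Prelude.Def_LocalEven
import Mathlib.GroupTheory.SpecificGroups.Alternating

/-!
A criterion for the symmetric group on four letters to be involved in a finite group.
-/

set_option autoImplicit false

namespace CfsgLib.FourSection

open CfsgLib

variable {G : Type*} [Group G] [Finite G]

/-- If the group `H` has a subgroup `D` of index 4, generated so that some element of `D` of order 3
moves the other three points and is inverted by another element, then `H` maps onto `S₄`. -/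
theorem surjective_perm {H : Type*} [Group H] [Finite H] {D : Subgroup H} (hD : D.index = 4)
    {x y : H} (hx : x ∈ D) (hy : y ∈ D) (hx3 : x ^ 3 = 1) (hxy : y * x * y⁻¹ = x⁻¹)
    (hmove : MulAction.toPermHom H (H ⧸ D) x ≠ 1) :
    Function.Surjective (MulAction.toPermHom H (H ⧸ D)) := by
  set f := MulAction.toPermHom H (H ⧸ D)
  have hΩ : Nat.card (H ⧸ D) = 4 := by rw [← Subgroup.index_eq_card, hD]
  haveI : Fintype (H ⧸ D) := Fintype.ofFinite _
  classical
  set R := f.range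
  set K := MulAction.stabilizer R ((1 : H) : H ⧸ D) with hK
  haveI : MulAction.IsPretransitive R (H ⧸ D) := by
    refine ⟨fun a b => ?_⟩
    obtain ⟨h, hh⟩ := MulAction.exists_smul_eq H a b
    exact ⟨⟨f h, h, rfl⟩, hh⟩
  have hRK : Nat.card R = 4 * Nat.card K := by
    rw [← K.card_mul_index, hK, MulAction.index_stabilizer_of_transitive R ((1 : H) : H ⧸ D), hΩ,
      mul_comm]
  have hmem : ∀ d ∈ D, (⟨f d, d, rfl⟩ : R) ∈ K := by
    intro d hd
    rw [hK, MulAction.mem_stabilizer_iff]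
    change d • ((1 : H) : H ⧸ D) = _
    rw [MulAction.Quotient.smul_coe, smul_eq_mul, mul_one]
    exact QuotientGroup.eq.2 (by simpa using D.inv_mem hd)
  set rx : R := ⟨f x, x, rfl⟩
  set ry : R := ⟨f y, y, rfl⟩
  have hrx1 : rx ≠ 1 := fun e => hmove (congrArg Subtype.val e)
  have hord : orderOf rx = 3 :=
    orderOf_eq_prime (Subtype.ext (by
      show f x ^ 3 = 1
      rw [← map_pow, hx3, map_one])) hrx1
  have h3 : 3 ∣ Nat.card K := hord ▸ Subgroup.orderOf_dvd_natCard K (hmem x hx)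
  have hR24 : Nat.card R ∣ 24 := by
    have h := Subgroup.card_subgroup_dvd_card R
    rwa [Nat.card_perm, hΩ] at h
  have hK6 : Nat.card K ∣ 6 := by
    rw [hRK] at hR24
    exact Nat.dvd_of_mul_dvd_mul_left (by norm_num) (show 4 * Nat.card K ∣ 4 * 6 from hR24)
  have hK3 : Nat.card K ≠ 3 := by
    intro e
    haveI : Fact (Nat.Prime 3) := ⟨Nat.prime_three⟩
    haveI := isCyclic_of_prime_card e
    have hc : (⟨rx, hmem x hx⟩ : K) * ⟨ry, hmem y hy⟩ = ⟨ry, hmem y hy⟩ * ⟨rx, hmem x hx⟩ :=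
      (IsCyclic.commGroup (α := K)).mul_comm _ _
    have hc' : f x * f y = f y * f x := congrArg (fun k : K => ((k : R) : Equiv.Perm (H ⧸ D))) hc
    have e1 : f x = (f x)⁻¹ := by
      rw [← map_inv, ← hxy, map_mul, map_mul, map_inv, ← hc', mul_inv_cancel_right]
    have e2 : rx ^ 2 = 1 := Subtype.ext (by
      show f x ^ 2 = 1
      rw [sq]; exact mul_eq_one_iff_eq_inv.2 e1)
    have := orderOf_dvd_of_pow_eq_one e2
    rw [hord] at this
    norm_num at this
  have hK' : Nat.card K = 6 := by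
    obtain ⟨c, hc⟩ := h3
    rw [hc] at hK6 hK3
    have : c ∣ 2 := Nat.dvd_of_mul_dvd_mul_left (by norm_num) (show 3 * c ∣ 3 * 2 from hK6)
    rcases (Nat.dvd_prime Nat.prime_two).1 this with rfl | rfl
    · exact absurd (by norm_num) hK3
    · rw [hc]
  have hall : R = ⊤ := Subgroup.eq_top_of_card_eq R (by
    rw [hRK, hK', Nat.card_perm, hΩ]
    rfl)
  exact MonoidHom.range_eq_top.1 hall

/-- Two elements generating `S₃` modulo a 2-group, and acting nontrivially on an elementary abelian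
2-group centralised by that 2-group, give `S₄` as a section. -/
theorem involves_S4 {T V : Subgroup G} [T.Normal] (hT2 : IsPGroup 2 T)
    (hTV : ∀ t ∈ T, ∀ v ∈ V, t * v = v * t)
    (hV2 : ∀ v ∈ V, v * v = 1) (hVc : ∀ v ∈ V, ∀ w ∈ V, v * w = w * v)
    {x y : G} (hxV : ∀ v ∈ V, x * v * x⁻¹ ∈ V) (hyV : ∀ v ∈ V, y * v * y⁻¹ ∈ V)
    (hx : x ^ 3 = 1) (hxy : y * x * y⁻¹ * x ∈ T)
    (hy2 : ∀ v ∈ V, y * (y * v * y⁻¹) * y⁻¹ = v)
    {v0 : G} (hv0 : v0 ∈ V) (hv0x : x * v0 * x⁻¹ ≠ v0) :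
    Cfsg.Involves (Equiv.Perm (Fin 4)) G := by
  classical
  have hx1 : x ≠ 1 := fun e => hv0x (by simp [e])
  haveI : Fact (Nat.Prime 3) := ⟨Nat.prime_three⟩
  have hord : orderOf x = 3 := orderOf_eq_prime hx hx1
  set A := Subgroup.zpowers x
  have hcA : Nat.card A = 3 := by rw [Nat.card_zpowers, hord]
  have hcop : (Nat.card A).Coprime (Nat.card T) := by
    obtain ⟨k, hk⟩ := hT2.exists_card_eq
    rw [hcA, hk]
    exact (by norm_num : (3 : ℕ).Coprime 2).pow_right k
  have hTn : ∀ g : G, ∀ t ∈ T, g * t * g⁻¹ ∈ T := fun g t ht =>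
    (inferInstance : T.Normal).conj_mem t ht g
  have hka : ∀ a ∈ A, y⁻¹ * a * y ∈ T ⊔ A := by
    intro a ha
    obtain ⟨k, rfl⟩ := Subgroup.mem_zpowers_iff.1 ha
    have h1 : y⁻¹ * x * y ∈ T ⊔ A := by
      have h : (y⁻¹ * x * y) * x ∈ T := by
        have := hTn y⁻¹ _ ((inferInstance : T.Normal).mem_comm hxy)
        simpa [mul_assoc] using this
      have := (T ⊔ A).mul_mem (Subgroup.mem_sup_left h)
        (Subgroup.mem_sup_right (A.inv_mem (Subgroup.mem_zpowers x)))
      simpa [mul_assoc] using this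
    have h2 : y⁻¹ * x ^ k * y = (y⁻¹ * x * y) ^ k := by
      simpa using (conj_zpow (i := k) (a := y⁻¹) (b := x)).symm
    rw [h2]
    exact Subgroup.zpow_mem _ h1 k
  haveI : IsCyclic A := ⟨⟨x, Subgroup.mem_zpowers x⟩, by
    rintro ⟨a, ha⟩
    obtain ⟨k, rfl⟩ := Subgroup.mem_zpowers_iff.1 ha
    exact ⟨k, Subtype.ext (by simp)⟩⟩
  obtain ⟨w, hw, hwA⟩ := coprime_key_normalize hcop
    (Or.inl inferInstance) (A := A) (W := T) (by
      intro a _
      rw [Subgroup.normalizer_eq_top_iff.2 (inferInstance : T.Normal)]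
      exact Subgroup.mem_top a) hka
  set z := y * w with hz
  have hzV : ∀ v ∈ V, z * v * z⁻¹ = y * v * y⁻¹ := by
    intro v hv
    rw [hz, mul_inv_rev]
    calc y * w * v * (w⁻¹ * y⁻¹) = y * (w * v * w⁻¹) * y⁻¹ := by group
      _ = _ := by rw [hTV w hw v hv, mul_inv_cancel_right]
  have hzx : z * x * z⁻¹ = x⁻¹ := by
    have h1 : z * x * z⁻¹ * x ∈ T := by
      have h2 : z * x * z⁻¹ * x = (y * (w * (x * w⁻¹ * x⁻¹)) * y⁻¹) * (y * x * y⁻¹ * x) := by
        rw [hz]; group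
      rw [h2]
      exact T.mul_mem (hTn y _ (T.mul_mem hw (hTn x _ (T.inv_mem hw)))) hxy
    have h2 : z * x * z⁻¹ * x ∈ A := A.mul_mem (hwA x (Subgroup.mem_zpowers x)) (Subgroup.mem_zpowers x)
    exact mul_eq_one_iff_eq_inv.1 (Subgroup.disjoint_def.1
      (Subgroup.disjoint_of_coprime_natCard hcop) h2 h1)
  -- a vector in the nontrivial part fixed by `z`
  let P : G → Prop := fun u => u ∈ V ∧ u * (x * u * x⁻¹) * (x * (x * u * x⁻¹) * x⁻¹) = 1
  have hx3' : ∀ u : G, x * (x * (x * u * x⁻¹) * x⁻¹) * x⁻¹ = u := by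
    intro u
    have e : x * (x * (x * u * x⁻¹) * x⁻¹) * x⁻¹ = x ^ 3 * u * (x ^ 3)⁻¹ := by
      simp [pow_succ, mul_assoc]
    rw [e, hx, one_mul, inv_one, mul_one]
  have hsq : ∀ {u : G}, u ∈ V → u⁻¹ = u := fun hu => inv_eq_of_mul_eq_one_right (hV2 _ hu)
  set v1 := x * v0 * x⁻¹ with hv1
  set v2 := x * v1 * x⁻¹ with hv2
  have hv1V : v1 ∈ V := hxV _ hv0
  have hv2V : v2 ∈ V := hxV _ hv1V
  set u := v1 * v2 with hu
  have hv3 : x * v2 * x⁻¹ = v0 := hx3' v0
  have huP : P u := by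
    refine ⟨V.mul_mem hv1V hv2V, ?_⟩
    have e1 : x * u * x⁻¹ = v2 * v0 := by
      rw [hu, ← hv3, hv2]; group
    have e2 : x * (v2 * v0) * x⁻¹ = v0 * v1 := by
      rw [hv1, ← hv3]; group
    rw [e1, e2, hu]
    calc v1 * v2 * (v2 * v0) * (v0 * v1) = v1 * (v2 * v2) * (v0 * v0) * v1 := by group
      _ = 1 := by rw [hV2 _ hv2V, hV2 _ hv0, mul_one, mul_one, hV2 _ hv1V]
  have hu1 : u ≠ 1 := by
    intro e
    have e1 : v2 = v1 := by
      rw [hu, mul_eq_one_iff_inv_eq, hsq hv1V] at e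
      exact e.symm
    refine hv0x ?_
    have e3 : x * v1 * x⁻¹ = x * v0 * x⁻¹ := e1
    simpa using e3
  have hzP : ∀ {a : G}, P a → P (z * a * z⁻¹) := by
    rintro a ⟨ha, h⟩
    refine ⟨by rw [hzV a ha]; exact hyV a ha, ?_⟩
    have hzx' : x * z = z * x⁻¹ := by
      have h := congrArg (fun g : G => g⁻¹ * z) hzx
      simp only [inv_inv] at h
      rw [← h]; group
    have e1 : x * (z * a * z⁻¹) * x⁻¹ = z * (x⁻¹ * a * x) * z⁻¹ := by
      calc x * (z * a * z⁻¹) * x⁻¹ = (x * z) * a * (x * z)⁻¹ := by group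
        _ = _ := by rw [hzx']; group
    have e2 : x * (z * (x⁻¹ * a * x) * z⁻¹) * x⁻¹ = z * (x⁻¹ * (x⁻¹ * a * x) * x) * z⁻¹ := by
      calc x * (z * (x⁻¹ * a * x) * z⁻¹) * x⁻¹ = (x * z) * (x⁻¹ * a * x) * (x * z)⁻¹ := by group
        _ = _ := by rw [hzx']; group
    have hinv : x⁻¹ * a * x = x * (x * a * x⁻¹) * x⁻¹ := by
      conv_lhs => rw [← hx3' a]
      group
    have hinv2 : x⁻¹ * (x⁻¹ * a * x) * x = x * a * x⁻¹ := by rw [hinv]; group
    rw [e1, e2, hinv2, hinv]
    calc z * a * z⁻¹ * (z * (x * (x * a * x⁻¹) * x⁻¹) * z⁻¹) * (z * (x * a * x⁻¹) * z⁻¹)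
        = z * (a * ((x * (x * a * x⁻¹) * x⁻¹) * (x * a * x⁻¹))) * z⁻¹ := by group
      _ = z * (a * ((x * a * x⁻¹) * (x * (x * a * x⁻¹) * x⁻¹))) * z⁻¹ := by
          rw [hVc _ (hxV _ (hxV _ ha)) _ (hxV _ ha)]
      _ = 1 := by rw [← mul_assoc a, h, mul_one, mul_inv_cancel]
  obtain ⟨v, ⟨hvV, hvP⟩, hv1', hvz⟩ : ∃ v, P v ∧ v ≠ 1 ∧ z * v * z⁻¹ = v := by
    set u' := z * u * z⁻¹ with hu'
    by_cases h : u' = u
    · exact ⟨u, huP, hu1, h⟩
    · obtain ⟨hu'V, hu'P⟩ := hzP huP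
      obtain ⟨huV, huP2⟩ := huP
      refine ⟨u * u', ⟨V.mul_mem huV hu'V, ?_⟩, fun e => h ?_, ?_⟩
      · have a1 := hxV _ huV
        have a2 := hxV _ a1
        have b1 := hxV _ hu'V
        have b2 := hxV _ b1
        calc u * u' * (x * (u * u') * x⁻¹) * (x * (x * (u * u') * x⁻¹) * x⁻¹)
            = u * (u' * (x * u * x⁻¹)) * ((x * u' * x⁻¹) * (x * (x * u * x⁻¹) * x⁻¹)) *
              (x * (x * u' * x⁻¹) * x⁻¹) := by group
          _ = u * ((x * u * x⁻¹) * u') * ((x * (x * u * x⁻¹) * x⁻¹) * (x * u' * x⁻¹)) *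
              (x * (x * u' * x⁻¹) * x⁻¹) := by rw [hVc _ hu'V _ a1, hVc _ b1 _ a2]
          _ = u * (x * u * x⁻¹) * (u' * (x * (x * u * x⁻¹) * x⁻¹)) * (x * u' * x⁻¹) *
              (x * (x * u' * x⁻¹) * x⁻¹) := by group
          _ = u * (x * u * x⁻¹) * ((x * (x * u * x⁻¹) * x⁻¹) * u') * (x * u' * x⁻¹) *
              (x * (x * u' * x⁻¹) * x⁻¹) := by rw [hVc _ hu'V _ a2]
          _ = (u * (x * u * x⁻¹) * (x * (x * u * x⁻¹) * x⁻¹)) *
              (u' * (x * u' * x⁻¹) * (x * (x * u' * x⁻¹) * x⁻¹)) := by group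
          _ = 1 := by rw [huP2, hu'P, one_mul]
      · rw [mul_eq_one_iff_inv_eq, hsq huV] at e
        exact e.symm
      · calc z * (u * u') * z⁻¹ = u' * (z * u' * z⁻¹) := by rw [hu']; group
          _ = u' * u := by rw [hzV u' hu'V, hu', hzV u huV, hy2 u huV]
          _ = u * u' := hVc _ hu'V _ huV
  -- the four-group
  set w1 := x * v * x⁻¹ with hw1d
  set w2 := x * w1 * x⁻¹ with hw2d
  have hw1V : w1 ∈ V := hxV _ hvV
  have hw2V : w2 ∈ V := hxV _ hw1V
  have hvw : v * w1 = w2 := by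
    have := mul_eq_one_iff_eq_inv.1 hvP
    rwa [hsq hw2V] at this
  have hne : v ≠ w1 := fun e => hv1' (by
    have h2 : w2 = v := by rw [hw2d, ← e]; exact e.symm
    rw [← e, h2, hV2 v hvV, one_mul] at hvP
    exact hvP)
  let W : Subgroup G :=
    { carrier := {1, v, w1, w2}
      one_mem' := Or.inl rfl
      mul_mem' := by
        have c1 : w1 * v = w2 := by rw [hVc _ hw1V _ hvV]; exact hvw
        have c2 : v * w2 = w1 := by rw [← hvw, ← mul_assoc, hV2 v hvV, one_mul]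
        have c3 : w2 * v = w1 := by rw [hVc _ hw2V _ hvV]; exact c2
        have c4 : w1 * w2 = v := by rw [← c1, ← mul_assoc, hV2 w1 hw1V, one_mul]
        have c5 : w2 * w1 = v := by rw [hVc _ hw2V _ hw1V]; exact c4
        rintro a b (rfl | rfl | rfl | rfl) (rfl | rfl | rfl | rfl) <;>
          simp [hvw, c1, c2, c3, c4, c5, hV2 _ hvV, hV2 _ hw1V, hV2 _ hw2V]
      inv_mem' := by
        rintro a (rfl | rfl | rfl | rfl) <;> simp [hsq hvV, hsq hw1V, hsq hw2V] }
  have hWmem : ∀ a : G, a ∈ W ↔ a = 1 ∨ a = v ∨ a = w1 ∨ a = w2 := fun a => Iff.rfl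
  have hxw2 : x * w2 * x⁻¹ = v := hx3' v
  have hzw1 : z * w1 * z⁻¹ = w2 := by
    have hxz : z * x = x⁻¹ * z := by rw [← hzx]; group
    calc z * w1 * z⁻¹ = (z * x) * v * (z * x)⁻¹ := by rw [hw1d]; group
      _ = x⁻¹ * (z * v * z⁻¹) * x := by rw [hxz]; group
      _ = w2 := by rw [hvz]; conv_lhs => rw [← hxw2]
                   group
  have hzw2 : z * w2 * z⁻¹ = w1 := by
    have : z * (v * w1) * z⁻¹ = w1 := by
      calc z * (v * w1) * z⁻¹ = (z * v * z⁻¹) * (z * w1 * z⁻¹) := by group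
        _ = w1 := by rw [hvz, hzw1, ← hvw, ← mul_assoc, hV2 v hvV, one_mul]
    rwa [hvw] at this
  have hWnx : ∀ a ∈ W, x * a * x⁻¹ ∈ W := by
    intro a ha
    rcases (hWmem a).1 ha with rfl | rfl | rfl | rfl <;> rw [hWmem]
    · left; group
    · right; right; left; rfl
    · right; right; right; rfl
    · right; left; exact hxw2
  have hWnz : ∀ a ∈ W, z * a * z⁻¹ ∈ W := by
    intro a ha
    rcases (hWmem a).1 ha with rfl | rfl | rfl | rfl <;> rw [hWmem]
    · left; group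
    · right; left; exact hvz
    · right; right; right; exact hzw1
    · right; right; left; exact hzw2
  set D := Subgroup.closure ({x, z} : Set G)
  have hnorm : ∀ g : G, (∀ a ∈ W, g * a * g⁻¹ ∈ W) → g ∈ Subgroup.normalizer (W : Set G) :=
    fun g hg => CfsgLib.Local.mem_normalizer_of_map_conj_eq (Subgroup.eq_of_le_of_card_ge
      (CfsgLib.Local.map_conj_le hg) (Subgroup.card_map_of_injective (MulAut.conj g).injective).ge)
  have hDW : D ≤ Subgroup.normalizer (W : Set G) := (Subgroup.closure_le _).2 (by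
    rintro g (rfl | rfl)
    · exact hnorm _ hWnx
    · exact hnorm _ hWnz)
  have hDA : D ≤ Subgroup.normalizer (A : Set G) := (Subgroup.closure_le _).2 (by
    rintro g (rfl | rfl)
    · exact Subgroup.le_normalizer (Subgroup.mem_zpowers _)
    · refine CfsgLib.Local.mem_normalizer_of_map_conj_eq (Subgroup.eq_of_le_of_card_ge
        (CfsgLib.Local.map_conj_le ?_) (Subgroup.card_map_of_injective (MulAut.conj z).injective).ge)
      exact hwA)
  have hdisj : ∀ a ∈ W, a ∈ D → a = 1 := by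
    intro a haW haD
    have h1 : a * x * a⁻¹ * x⁻¹ ∈ A := A.mul_mem
      ((Subgroup.mem_normalizer_iff.1 (hDA haD) x).1 (Subgroup.mem_zpowers x))
      (A.inv_mem (Subgroup.mem_zpowers x))
    have h2 : a * x * a⁻¹ * x⁻¹ ∈ W := by
      rw [show a * x * a⁻¹ * x⁻¹ = a * (x * a⁻¹ * x⁻¹) by group]
      exact W.mul_mem haW (hWnx _ (W.inv_mem haW))
    obtain ⟨k, hk⟩ := Subgroup.mem_zpowers_iff.1 h1
    have h3 : (a * x * a⁻¹ * x⁻¹) ^ 2 = 1 := by
      rw [sq]
      rcases (hWmem _).1 h2 with e | e | e | e <;> rw [e]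
      · exact one_mul 1
      · exact hV2 v hvV
      · exact hV2 w1 hw1V
      · exact hV2 w2 hw2V
    have h4 : a * x * a⁻¹ * x⁻¹ = 1 := by
      rw [← hk] at h3 ⊢
      rw [← zpow_natCast, ← zpow_mul, ← orderOf_dvd_iff_zpow_eq_one, hord] at h3
      rw [← orderOf_dvd_iff_zpow_eq_one, hord]
      push_cast at h3 ⊢
      omega
    have h5 : x * a * x⁻¹ = a := by
      rw [mul_inv_eq_one, mul_inv_eq_iff_eq_mul] at h4
      rw [← h4]; group
    rcases (hWmem a).1 haW with e | e | e | e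
    · exact e
    · rw [e] at h5; exact absurd h5.symm hne
    · rw [e] at h5
      refine absurd ?_ hne
      have h6 : x * w1 * x⁻¹ = x * v * x⁻¹ := h5
      simpa using h6.symm
    · rw [e, hxw2] at h5
      refine absurd ?_ hne
      have h6 : x * v * x⁻¹ = x * w2 * x⁻¹ := by rw [← h5]
      rw [hxw2] at h6
      exact h6.symm
  set H := W ⊔ D
  set D' := D.subgroupOf H
  have hidx : D'.index = 4 := by
    let q : W → H ⧸ D' := fun a => QuotientGroup.mk ⟨(a : G), Subgroup.mem_sup_left a.2⟩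
    have hinj : Function.Injective q := by
      intro a b e
      rw [QuotientGroup.eq, Subgroup.mem_subgroupOf] at e
      exact Subtype.ext (inv_mul_eq_one.1 (hdisj _ (W.mul_mem (W.inv_mem a.2) b.2) e))
    have hsurj : Function.Surjective q := by
      intro c
      obtain ⟨⟨h, hh⟩, rfl⟩ := QuotientGroup.mk_surjective c
      obtain ⟨a, ha, d, hd, had⟩ := mem_sup_of_le_normalizer hDW hh
      refine ⟨⟨a, ha⟩, QuotientGroup.eq.2 (Subgroup.mem_subgroupOf.2 ?_)⟩
      change a⁻¹ * h ∈ D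
      rw [← had, inv_mul_cancel_left]
      exact hd
    rw [Subgroup.index_eq_card, ← Nat.card_congr (Equiv.ofBijective q ⟨hinj, hsurj⟩)]
    have h01 : (1 : G) ≠ v := fun e => hv1' e.symm
    have h02 : (1 : G) ≠ w1 := fun e => hv1' (by
      have := congrArg (fun g : G => x⁻¹ * g * x) e
      simpa [hw1d, mul_assoc] using this.symm)
    have h03 : (1 : G) ≠ w2 := fun e => hne (by
      rw [← hvw] at e
      rw [← hsq hvV]; exact inv_eq_of_mul_eq_one_right e.symm)
    have h13 : v ≠ w2 := fun e => h02 (by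
      rw [← hvw] at e
      exact (mul_eq_left.1 e.symm).symm)
    have h23 : w1 ≠ w2 := fun e => h01 (by
      rw [← hvw] at e
      exact (mul_eq_right.1 e.symm).symm)
    calc Nat.card W = Set.ncard ({1, v, w1, w2} : Set G) := Nat.card_coe_set_eq _
      _ = 4 := by
        rw [Set.ncard_insert_of_notMem (by simp [h01, h02, h03]),
          Set.ncard_insert_of_notMem (by simp [hne, h13]),
          Set.ncard_insert_of_notMem (by simp [h23]), Set.ncard_singleton]
  have hxD : x ∈ D := Subgroup.subset_closure (by simp)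
  have hzD : z ∈ D := Subgroup.subset_closure (by simp)
  set xH : H := ⟨x, Subgroup.mem_sup_right hxD⟩
  set zH : H := ⟨z, Subgroup.mem_sup_right hzD⟩
  have hmove : MulAction.toPermHom H (H ⧸ D') xH ≠ 1 := by
    intro e
    have h := congrArg (fun σ : Equiv.Perm (H ⧸ D') =>
      σ (QuotientGroup.mk ⟨v, Subgroup.mem_sup_left ((hWmem v).2 (Or.inr (Or.inl rfl)))⟩)) e
    simp only [MulAction.toPermHom_apply, MulAction.toPerm_apply, MulAction.Quotient.smul_mk,
      Equiv.Perm.coe_one, id] at h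
    rw [QuotientGroup.eq, Subgroup.mem_subgroupOf] at h
    have h' : (x * v)⁻¹ * v ∈ D := h
    have h7 : w1⁻¹ * v ∈ D := by
      have h8 : w1⁻¹ * v = x * ((x * v)⁻¹ * v) := by rw [hw1d]; group
      rw [h8]; exact D.mul_mem hxD h'
    refine hne (inv_mul_eq_one.1 (hdisj _ ?_ h7)).symm
    exact W.mul_mem (W.inv_mem ((hWmem w1).2 (Or.inr (Or.inr (Or.inl rfl)))))
      ((hWmem v).2 (Or.inr (Or.inl rfl)))
  have hsurj := surjective_perm hidx (x := xH) (y := zH) hxD hzD (Subtype.ext hx) (Subtype.ext hzx) hmove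
  set f := MulAction.toPermHom H (H ⧸ D')
  refine ⟨H, f.ker.map H.subtype, ?_, ?_⟩
  · rw [Subgroup.subgroupOf, Subgroup.comap_map_eq_self_of_injective H.subtype_injective]
    infer_instance
  · have e : (f.ker.map H.subtype).subgroupOf H = f.ker := by
      rw [Subgroup.subgroupOf, Subgroup.comap_map_eq_self_of_injective H.subtype_injective]
    haveI : ((f.ker.map H.subtype).subgroupOf H).Normal := by rw [e]; infer_instance
    haveI : Fintype (H ⧸ D') := Fintype.ofFinite _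
    have hc : Fintype.card (H ⧸ D') = 4 := by
      rw [← Nat.card_eq_fintype_card, ← Subgroup.index_eq_card, hidx]
    exact ⟨(QuotientGroup.quotientMulEquivOfEq e).trans
      ((QuotientGroup.quotientKerEquivOfSurjective f hsurj).trans
        (Fintype.equivFinOfCardEq hc).permCongrHom)⟩

end CfsgLib.FourSection
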