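import Cfsg.Agent.Lib.OffenderTwo
import Cfsg.Agent.Lib.FourSection
import Cfsg.Agent.Lib.ZJ.Center
import Cfsg.Agent.Lib.CentrallyLarge
import Cfsg.Prelude.Def_Local

/-!
Groups of characteristic 2 without a section `S₄` whose Sylow 2-subgroups have class at most two.
-/

set_option autoImplicit false
set_option linter.unusedSectionVars false
set_option maxHeartbeats 400000

namespace CfsgLib.ClassTwoSylow

open CfsgLib CfsgLib.Local
open scoped commutatorElement

variable {G : Type*} [Group G] [Finite G]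

/-- Commutators inside a 2-subgroup are central in it. -/
theorem comm_central (S : Sylow 2 G) (hcl : Subgroup.lowerCentralSeries (S : Subgroup G) 2 = ⊥)
    {P : Subgroup G} (hP : IsPGroup 2 P) {a b c : G} (ha : a ∈ P) (hb : b ∈ P) (hc : c ∈ P) :
    a * b * a⁻¹ * b⁻¹ * c = c * (a * b * a⁻¹ * b⁻¹) := by
  obtain ⟨Q, hQ⟩ := hP.exists_le_sylow
  obtain ⟨g, hg⟩ := MulAction.exists_smul_eq G S Q
  have hmem : ∀ x ∈ P, g⁻¹ * x * g ∈ (S : Subgroup G) := by
    intro x hx
    have := hQ hx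
    rw [← hg, Sylow.coe_subgroup_smul, Subgroup.mem_pointwise_smul_iff_inv_smul_mem] at this
    simpa [MulAut.conj_symm_apply, MulAut.smul_def] using this
  have h2 : ∀ x ∈ (S : Subgroup G), ∀ y ∈ (S : Subgroup G), ∀ w ∈ (S : Subgroup G),
      x * y * x⁻¹ * y⁻¹ * w = w * (x * y * x⁻¹ * y⁻¹) := by
    intro x hx y hy w hw
    have h1 : ⁅x, y⁆ ∈ Subgroup.lowerCentralSeries (S : Subgroup G) 1 := by
      rw [Subgroup.lowerCentralSeries_succ, Subgroup.lowerCentralSeries_zero]
      exact Subgroup.commutator_mem_commutator hx hy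
    have h3 : ⁅⁅x, y⁆, w⁆ ∈ Subgroup.lowerCentralSeries (S : Subgroup G) 2 := by
      rw [Subgroup.lowerCentralSeries_succ]
      exact Subgroup.commutator_mem_commutator h1 hw
    rw [hcl, Subgroup.mem_bot, commutatorElement_eq_one_iff_mul_comm, commutatorElement_def] at h3
    exact h3
  have h := h2 _ (hmem a ha) _ (hmem b hb) _ (hmem c hc)
  calc a * b * a⁻¹ * b⁻¹ * c = g * ((g⁻¹ * a * g) * (g⁻¹ * b * g) * (g⁻¹ * a * g)⁻¹ *
        (g⁻¹ * b * g)⁻¹ * (g⁻¹ * c * g)) * g⁻¹ := by group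
    _ = g * ((g⁻¹ * c * g) * ((g⁻¹ * a * g) * (g⁻¹ * b * g) * (g⁻¹ * a * g)⁻¹ *
        (g⁻¹ * b * g)⁻¹)) * g⁻¹ := by rw [h]
    _ = _ := by group

theorem eq_one_of_two_pow {z : G} {n : ℕ} (hn : Odd n) (h1 : z * z = 1) (h2 : z ^ n = 1) : z = 1 := by
  obtain ⟨m, rfl⟩ := hn
  rwa [pow_succ, pow_mul, sq, h1, one_pow, one_mul] at h2

/-- An element of odd order fixing every involution of an abelian 2-group fixes all of it. -/
theorem fixes_abelian_two {Z : Subgroup G} (hZ : IsPGroup 2 Z)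
    (hZc : ∀ a ∈ Z, ∀ b ∈ Z, a * b = b * a) {k : G} (hk : Odd (orderOf k))
    (hkZ : ∀ a ∈ Z, k * a * k⁻¹ ∈ Z) (hfix : ∀ a ∈ Z, a * a = 1 → k * a * k⁻¹ = a) :
    ∀ a ∈ Z, k * a * k⁻¹ = a := by
  suffices h : ∀ j : ℕ, ∀ a ∈ Z, a ^ 2 ^ j = 1 → k * a * k⁻¹ = a by
    intro a ha
    obtain ⟨j, hj⟩ := hZ ⟨a, ha⟩
    exact h j a ha (congrArg Subtype.val hj)
  intro j
  induction j with
  | zero =>
    intro a _ h
    rw [pow_zero, pow_one] at h
    simp [h]
  | succ j ih =>
    intro a ha h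
    have hsq : k * (a * a) * k⁻¹ = a * a := ih _ (Z.mul_mem ha ha) (by
      rwa [← sq, ← pow_mul, ← pow_succ'])
    set d := k * a * k⁻¹ * a⁻¹ with hd
    have hdZ : d ∈ Z := Z.mul_mem (hkZ a ha) (Z.inv_mem ha)
    have hd2 : d * d = 1 := by
      calc d * d = (k * a * k⁻¹) * (a⁻¹ * (k * a * k⁻¹)) * a⁻¹ := by rw [hd]; group
        _ = (k * a * k⁻¹) * ((k * a * k⁻¹) * a⁻¹) * a⁻¹ := by
            rw [hZc _ (Z.inv_mem ha) _ (hkZ a ha)]
        _ = (k * (a * a) * k⁻¹) * (a * a)⁻¹ := by group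
        _ = 1 := by rw [hsq, mul_inv_cancel]
    have hdk : k * d * k⁻¹ = d := hfix d hdZ hd2
    have hpow : ∀ n : ℕ, k ^ n * a * (k ^ n)⁻¹ = d ^ n * a := by
      intro n
      induction n with
      | zero => simp
      | succ n ihn =>
        calc k ^ (n + 1) * a * (k ^ (n + 1))⁻¹ = k * (k ^ n * a * (k ^ n)⁻¹) * k⁻¹ := by
              rw [pow_succ' k n]; group
          _ = (k * d ^ n * k⁻¹) * (k * a * k⁻¹) := by rw [ihn]; group
          _ = d ^ (n + 1) * a := by
              rw [← conj_pow, hdk, pow_succ, mul_assoc (d ^ n) d a, hd]; group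
    have h1 := hpow (orderOf k)
    rw [pow_orderOf_eq_one, one_mul, inv_one, mul_one, eq_comm, mul_eq_right] at h1
    have hd1 := eq_one_of_two_pow hk hd2 h1
    rwa [hd, mul_inv_eq_one] at hd1

/-- In a group of characteristic 2 with Sylow 2-subgroups of class at most two and without section
`S₄`, the largest elementary abelian subgroups of a Sylow 2-subgroup lie in the 2-core. -/
theorem thompsonJ_le_pCore (hS4 : ¬ Cfsg.Involves (Equiv.Perm (Fin 4)) G)
    (hC : Subgroup.centralizer (Cfsg.pCore 2 G : Set G) ≤ Cfsg.pCore 2 G) (S : Sylow 2 G)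
    (hcl : Subgroup.lowerCentralSeries (S : Subgroup G) 2 = ⊥) :
    ZJ.thompsonJ 2 (S : Subgroup G) ≤ Cfsg.pCore 2 G := by
  refine sSup_le ?_
  rintro A ⟨hAS, hAgood, hAmax⟩
  set T := Cfsg.pCore 2 G with hT
  have hT2 : IsPGroup 2 T := isPGroup_pCore 2
  have hTn : ∀ g : G, ∀ t ∈ T, g * t * g⁻¹ ∈ T := fun g t ht =>
    (inferInstance : T.Normal).conj_mem t ht g
  have hcc := fun (P : Subgroup G) (hP : IsPGroup 2 P) {a b c : G} (ha : a ∈ P) (hb : b ∈ P)
      (hc : c ∈ P) => comm_central S hcl hP ha hb hc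
  have hjoin : ∀ P : Subgroup G, IsPGroup 2 P → IsPGroup 2 ↥(T ⊔ P) := fun P hP =>
    hT2.to_sup_of_normal_left hP
  -- commutators in 2-subgroups lie in the centre of `T`
  set ZT := T ⊓ Subgroup.centralizer (T : Set G) with hZT
  have hcomZ : ∀ P : Subgroup G, IsPGroup 2 P → ∀ a ∈ P, ∀ b ∈ P, a * b * a⁻¹ * b⁻¹ ∈ ZT := by
    intro P hP a ha b hb
    have h1 : a * b * a⁻¹ * b⁻¹ ∈ Subgroup.centralizer (T : Set G) := fun t ht =>
      (hcc _ (hjoin P hP) (Subgroup.mem_sup_right ha) (Subgroup.mem_sup_right hb)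
        (Subgroup.mem_sup_left ht)).symm
    exact ⟨hC h1, h1⟩
  have hZn : ∀ g : G, ∀ z ∈ ZT, g * z * g⁻¹ ∈ ZT := by
    rintro g z ⟨hz1, hz2⟩
    refine ⟨hTn g z hz1, fun t ht => ?_⟩
    have h := hz2 (g⁻¹ * t * g) (by simpa using hTn g⁻¹ t ht)
    calc t * (g * z * g⁻¹) = g * ((g⁻¹ * t * g) * z) * g⁻¹ := by group
      _ = g * (z * (g⁻¹ * t * g)) * g⁻¹ := by rw [h]
      _ = _ := by group
  -- the subgroup centralizing `T` modulo its centre
  let N0 : Subgroup G :=
    { carrier := {g | ∀ t ∈ T, g * t * g⁻¹ * t⁻¹ ∈ ZT}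
      one_mem' := fun t _ => by simp
      mul_mem' := fun {g h} hg hh t ht => by
        have h1 := hg _ (hTn h t ht)
        have e : g * h * t * (g * h)⁻¹ * t⁻¹ =
            g * (h * t * h⁻¹) * g⁻¹ * (h * t * h⁻¹)⁻¹ * (h * t * h⁻¹ * t⁻¹) := by group
        rw [e]
        exact ZT.mul_mem h1 (hh t ht)
      inv_mem' := fun {g} hg t ht => by
        have h1 := hZn g⁻¹ _ (ZT.inv_mem (hg t ht))
        have e : g⁻¹ * t * g⁻¹⁻¹ * t⁻¹ = g⁻¹ * (g * t * g⁻¹ * t⁻¹)⁻¹ * g⁻¹⁻¹ := by group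
        rw [e]
        exact h1 }
  have h2N : ∀ P : Subgroup G, IsPGroup 2 P → P ≤ N0 := fun P hP g hg t ht =>
    hcomZ _ (hjoin P hP) g (Subgroup.mem_sup_right hg) t (Subgroup.mem_sup_left ht)
  -- the involutions of the centre
  let V : Subgroup G :=
    { carrier := {v | v ∈ ZT ∧ v * v = 1}
      one_mem' := ⟨ZT.one_mem, one_mul 1⟩
      mul_mem' := fun {a b} ha hb => ⟨ZT.mul_mem ha.1 hb.1, by
        calc a * b * (a * b) = a * (b * a) * b := by group
          _ = a * (a * b) * b := by rw [ha.1.2 b hb.1.1]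
          _ = 1 := by rw [← mul_assoc a a b, ha.2, one_mul, hb.2]⟩
      inv_mem' := fun {a} ha => ⟨ZT.inv_mem ha.1, by rw [← mul_inv_rev, ha.2, inv_one]⟩ }
  have hVcomm : ∀ a ∈ V, ∀ b ∈ V, a * b = b * a := fun a ha b hb => hb.1.2 a ha.1.1
  haveI hVn : V.Normal := ⟨fun v hv g => ⟨hZn g v hv.1, by
    calc g * v * g⁻¹ * (g * v * g⁻¹) = g * (v * v) * g⁻¹ := by group
      _ = 1 := by rw [hv.2, mul_one, mul_inv_cancel]⟩⟩
  letI : CommGroup V := { (inferInstance : Group V) with
    mul_comm := fun a b => Subtype.ext (hVcomm a a.2 b b.2) }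
  let ψ₀ : N0 →* MulAut V := (MulAut.conjNormal (H := V)).comp N0.subtype
  have hψ : ∀ (g : N0) (v : V), ((ψ₀ g v : V) : G) = (g : G) * v * (g : G)⁻¹ := fun _ _ => rfl
  set K := ψ₀.ker
  have hKmem : ∀ g : N0, g ∈ K ↔ ∀ v ∈ V, (g : G) * v * (g : G)⁻¹ = v := by
    intro g
    constructor
    · intro h v hv
      rw [← hψ g ⟨v, hv⟩, MonoidHom.mem_ker.1 h]; rfl
    · exact fun h => MonoidHom.mem_ker.2 (MulEquiv.ext fun v => Subtype.ext (h v v.2))
  have hTV : ∀ t ∈ T, ∀ v ∈ V, t * v = v * t := fun t ht v hv => hv.1.2 t ht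
  have hTK : ∀ g : N0, (g : G) ∈ T → g ∈ K := fun g hg => (hKmem g).2 fun v hv => by
    rw [hTV _ hg v hv, mul_inv_cancel_right]
  have hoddK : ∀ g : N0, g ∈ K → Odd (orderOf (g : G)) → (g : G) = 1 := by
    intro g hg hodd
    have hZT2 : IsPGroup 2 ZT := isPGroup_of_le inf_le_left hT2
    have hfix := fixes_abelian_two hZT2 (fun a ha b hb => hb.2 a ha.1) hodd (hZn g)
      (fun a ha h => (hKmem g).1 hg a ⟨ha, h⟩)
    have hcen : (g : G) ∈ Subgroup.centralizer (T : Set G) := by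
      intro t ht
      set d := (g : G) * t * (g : G)⁻¹ * t⁻¹ with hd
      have hdZ : d ∈ ZT := g.2 t ht
      have hpow : ∀ n : ℕ, (g : G) ^ n * t * ((g : G) ^ n)⁻¹ = d ^ n * t := by
        intro n
        induction n with
        | zero => simp
        | succ n ihn =>
          calc (g : G) ^ (n + 1) * t * ((g : G) ^ (n + 1))⁻¹
              = g * ((g : G) ^ n * t * ((g : G) ^ n)⁻¹) * (g : G)⁻¹ := by
                rw [pow_succ' (g : G) n]; group
            _ = ((g : G) * d ^ n * (g : G)⁻¹) * (g * t * (g : G)⁻¹) := by rw [ihn]; group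
            _ = d ^ (n + 1) * t := by
                rw [← conj_pow, hfix d hdZ, pow_succ, mul_assoc (d ^ n) d t, hd]; group
      have h1 := hpow (orderOf (g : G))
      rw [pow_orderOf_eq_one, one_mul, inv_one, mul_one, eq_comm, mul_eq_right] at h1
      obtain ⟨j, hj⟩ := hT2 ⟨d, hdZ.1⟩
      have hd1 : d = 1 := by
        rw [← orderOf_eq_one_iff]
        exact Nat.eq_one_of_dvd_coprimes ((Nat.coprime_two_right.2 hodd).pow_right j)
          (orderOf_dvd_of_pow_eq_one h1) (orderOf_dvd_of_pow_eq_one (congrArg Subtype.val hj))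
      rw [hd, mul_inv_eq_one, mul_inv_eq_iff_eq_mul] at hd1
      exact hd1.symm
    have h2 := hC hcen
    obtain ⟨j, hj⟩ := hT2 ⟨_, h2⟩
    rw [← orderOf_eq_one_iff]
    exact Nat.eq_one_of_dvd_coprimes ((Nat.coprime_two_right.2 hodd).pow_right j) dvd_rfl
      (orderOf_dvd_of_pow_eq_one (congrArg Subtype.val hj))
  have hK2 : IsPGroup 2 K := by
    rintro ⟨g, hg⟩
    obtain ⟨e, m, hm, he⟩ := Nat.exists_eq_two_pow_mul_odd (orderOf_pos (g : G)).ne'
    refine ⟨e, Subtype.ext (Subtype.ext ?_)⟩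
    change (g : G) ^ 2 ^ e = 1
    refine hoddK (g ^ 2 ^ e) (K.pow_mem hg _) ?_
    rw [SubmonoidClass.coe_pow, orderOf_pow_of_dvd (by positivity) ⟨m, he⟩, he,
      Nat.mul_div_cancel_left _ (by positivity)]
    exact hm
  have hker : IsPGroup 2 (QuotientGroup.mk' K).ker := by rw [QuotientGroup.ker_mk']; exact hK2
  set ψ : N0 ⧸ K →* MulAut V := QuotientGroup.kerLift ψ₀
  have hψ' : ∀ (g : N0) (v : V),
      ((ψ (QuotientGroup.mk' K g) v : V) : G) = (g : G) * v * (g : G)⁻¹ := fun _ _ => rfl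
  have hlift2 : ∀ g : N0, (∃ k : ℕ, QuotientGroup.mk' K g ^ 2 ^ k = 1) →
      IsPGroup 2 (Subgroup.zpowers (g : G)) := by
    rintro g ⟨k, hk⟩
    rw [← map_pow, ← MonoidHom.mem_ker, QuotientGroup.ker_mk'] at hk
    obtain ⟨j, hj⟩ := hK2 ⟨_, hk⟩
    have h1 : (g : G) ^ 2 ^ (k + j) = 1 := by
      have h := congrArg (fun q : K => ((q : N0) : G)) hj
      simp only [SubmonoidClass.coe_pow, OneMemClass.coe_one] at h
      rw [pow_add, pow_mul]; exact h
    obtain ⟨i, -, hi⟩ := (Nat.dvd_prime_pow Nat.prime_two).1 (orderOf_dvd_of_pow_eq_one h1)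
    exact IsPGroup.of_card (n := i) (by rw [Nat.card_zpowers, hi])
  have hctx : OffenderTwo.Ctx ψ := by
    refine ⟨QuotientGroup.kerLift_injective ψ₀, fun v => Subtype.ext v.2.2, ?_, ?_⟩
    · intro P hP x hx y hy
      obtain ⟨a, rfl⟩ := QuotientGroup.mk'_surjective K x
      obtain ⟨b, rfl⟩ := QuotientGroup.mk'_surjective K y
      have hP' := (hP.comap_of_ker_isPGroup _ hker).map N0.subtype
      have hz := hcomZ _ hP' (a : G) ⟨a, hx, rfl⟩ (b : G) ⟨b, hy, rfl⟩
      have h1 : QuotientGroup.mk' K (a * b * a⁻¹ * b⁻¹) = 1 :=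
        (QuotientGroup.eq_one_iff _).2 (hTK _ hz.1)
      rw [map_mul, map_mul, map_mul, map_inv, map_inv, mul_inv_eq_one, mul_inv_eq_iff_eq_mul] at h1
      exact h1
    · intro r a hr ⟨k, hk⟩ hra
      obtain ⟨x0, rfl⟩ := QuotientGroup.mk'_surjective K r
      obtain ⟨y, rfl⟩ := QuotientGroup.mk'_surjective K a
      have hr3 : QuotientGroup.mk' K x0 ^ 3 = 1 := hr ▸ pow_orderOf_eq_one _
      have h3K : x0 ^ 3 ∈ K := by
        rw [← QuotientGroup.ker_mk' K, MonoidHom.mem_ker, map_pow]; exact hr3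
      obtain ⟨j, hj⟩ := hK2 ⟨_, h3K⟩
      have hj' : (x0 ^ 3) ^ 2 ^ j = 1 := congrArg Subtype.val hj
      set x := x0 ^ (4 ^ j) with hx
      have hx3 : x ^ 3 = 1 := by
        rw [hx, ← pow_mul, mul_comm, pow_mul, show (4 : ℕ) = 2 * 2 from rfl, mul_pow, pow_mul, hj',
          one_pow]
      have hxr : QuotientGroup.mk' K x = QuotientGroup.mk' K x0 := by
        have h4 : 4 ^ j % 3 = 1 := by rw [Nat.pow_mod]; simp
        rw [hx, map_pow, ← Nat.mod_add_div (4 ^ j) 3, h4, pow_add, pow_mul, hr3, one_pow, mul_one,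
          pow_one]
      have hy2 := hlift2 y ⟨k, hk⟩
      refine hS4 ?_
      obtain ⟨v0, hv0, hv0x⟩ : ∃ v ∈ V, (x : G) * v * (x : G)⁻¹ ≠ v := by
        by_contra h
        push Not at h
        have : QuotientGroup.mk' K x = 1 := (QuotientGroup.eq_one_iff x).2 ((hKmem x).2 h)
        rw [← hxr, this, orderOf_one] at hr
        norm_num at hr
      refine FourSection.involves_S4 hT2 hTV (fun v hv => hv.2) hVcomm (x := (x : G)) (y := (y : G))
        (fun v hv => hVn.conj_mem v hv _) (fun v hv => hVn.conj_mem v hv _)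
        (by rw [← SubmonoidClass.coe_pow, hx3]; rfl) ?_ ?_ hv0 hv0x
      · have h1 : y * x * y⁻¹ * x ∈ K := by
          rw [← QuotientGroup.ker_mk' K, MonoidHom.mem_ker, map_mul, map_mul, map_mul, map_inv, hxr,
            hra, inv_mul_cancel]
        obtain ⟨g, hg⟩ : ∃ g : N0, g = y * x * y⁻¹ * x := ⟨_, rfl⟩
        have hgK : g ∈ K := hg ▸ h1
        have : (g : G) ∈ T := by
          have hKn : (K.map N0.subtype) ≤ T := by
            haveI : (K.map N0.subtype).Normal := by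
              refine ⟨?_⟩
              rintro _ ⟨q, hq, rfl⟩ h
              have hmem : h * (q : G) * h⁻¹ ∈ N0 := by
                intro t ht
                have e : h * (q : G) * h⁻¹ * t * (h * (q : G) * h⁻¹)⁻¹ * t⁻¹ =
                    h * ((q : G) * (h⁻¹ * t * h) * (q : G)⁻¹ * (h⁻¹ * t * h)⁻¹) * h⁻¹ := by group
                rw [e]
                exact hZn h _ (q.2 _ (by simpa using hTn h⁻¹ t ht))
              refine ⟨⟨_, hmem⟩, (hKmem _).2 fun v hv => ?_, rfl⟩
              have h2 := (hKmem q).1 hq _ (hVn.conj_mem v hv h⁻¹)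
              simp only [inv_inv] at h2
              calc h * (q : G) * h⁻¹ * v * (h * (q : G) * h⁻¹)⁻¹
                  = h * ((q : G) * (h⁻¹ * v * h) * (q : G)⁻¹) * h⁻¹ := by group
                _ = v := by rw [h2]; group
            exact le_pCore (hK2.map _)
          exact hKn ⟨g, hgK, rfl⟩
        simpa [hg] using this
      · intro v hv
        set P := T ⊔ Subgroup.zpowers (y : G)
        have hvP : v ∈ P := Subgroup.mem_sup_left hv.1.1
        have hyP : (y : G) ∈ P := Subgroup.mem_sup_right (Subgroup.mem_zpowers _)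
        have h1 := hcc P (hjoin _ hy2) hyP hvP hyP
        set d := (y : G) * v * (y : G)⁻¹ * v⁻¹ with hd
        have hdV : d ∈ V := V.mul_mem (hVn.conj_mem v hv _) (V.inv_mem hv)
        calc (y : G) * ((y : G) * v * (y : G)⁻¹) * (y : G)⁻¹
            = ((y : G) * d) * (y : G)⁻¹ * ((y : G) * v * (y : G)⁻¹) := by rw [hd]; group
          _ = d * ((y : G) * v * (y : G)⁻¹) := by rw [← h1, mul_inv_cancel_right]
          _ = d * d * v := by rw [hd]; group
          _ = v := by rw [hdV.2, one_mul]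
  -- the offender
  have hAN : A ≤ N0 := hAS.trans (h2N _ S.2)
  set A' := A.subgroupOf N0
  have hTS : T ≤ (S : Subgroup G) := pCore_le_sylow S
  have hVS : V ≤ (S : Subgroup G) := fun v hv => hTS hv.1.1
  have hoff : OffenderTwo.Off ψ (A'.map (QuotientGroup.mk' K)) := by
    have hAsq : ∀ a ∈ A, a * a = 1 := fun a ha => by rw [← sq]; exact hAgood.2 a ha
    refine ⟨?_, ?_, ?_⟩
    · rintro _ ⟨a, ha, rfl⟩
      rw [← map_mul]
      have : a * a = 1 := Subtype.ext (hAsq a ha)
      rw [this, map_one]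
    · rintro _ ⟨a, ha, rfl⟩ v _ ⟨b, hb, rfl⟩
      refine Subtype.ext ?_
      have h1 := hcc _ S.2 (hAS ha) (hVS v.2) (hAS hb)
      simp only [Subgroup.coe_subtype] at h1
      rw [hψ', div_eq_mul_inv, Subgroup.coe_mul, Subgroup.coe_inv, hψ', ← h1, mul_inv_cancel_right]
    · intro Bq hBq
      set B := Bq.comap (QuotientGroup.mk' K) ⊓ A' with hB
      have hmap : B.map (QuotientGroup.mk' K) = Bq := by
        refine le_antisymm (Subgroup.map_le_iff_le_comap.2 inf_le_left) fun x hx => ?_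
        obtain ⟨a, ha, rfl⟩ := hBq hx
        exact ⟨a, ⟨hx, ha⟩, rfl⟩
      have hinf : B ⊓ K = A' ⊓ K := by
        refine le_antisymm (inf_le_inf_right K inf_le_right) fun x hx => ⟨⟨?_, hx.1⟩, hx.2⟩
        have : QuotientGroup.mk' K x = 1 := (QuotientGroup.eq_one_iff x).2 hx.2
        show QuotientGroup.mk' K x ∈ Bq
        rw [this]
        exact one_mem _
      have hcard : ∀ D : Subgroup N0,
          Nat.card ↥(D ⊓ K) * Nat.card (D.map (QuotientGroup.mk' K)) = Nat.card D := by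
        intro D
        rw [← Subgroup.relIndex_ker, QuotientGroup.ker_mk', inf_comm]
        exact CfsgLib.Products.card_inf_mul_relIndex K D
      -- fixed vectors, inside `G`
      let F : Subgroup N0 → Subgroup G := fun D =>
        (OffenderTwo.fix ψ (D.map (QuotientGroup.mk' K))).map V.subtype
      have hFmem : ∀ D v, v ∈ F D ↔ v ∈ V ∧ ∀ d ∈ D, (d : G) * v = v * d := by
        intro D v
        constructor
        · rintro ⟨w, hw, rfl⟩
          refine ⟨w.2, fun d hd => ?_⟩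
          have h := congrArg (fun q : V => (q : G)) (hw _ ⟨d, hd, rfl⟩)
          rw [hψ', mul_inv_eq_iff_eq_mul] at h
          exact h
        · rintro ⟨hv, h⟩
          refine ⟨⟨v, hv⟩, ?_, rfl⟩
          rintro _ ⟨d, hd, rfl⟩
          refine Subtype.ext ?_
          rw [hψ', h d hd, mul_inv_cancel_right]
      have hFcard : ∀ D, Nat.card (F D) = Nat.card (OffenderTwo.fix ψ (D.map (QuotientGroup.mk' K))) :=
        fun D => Subgroup.card_map_of_injective V.subtype_injective
      set B0 := B.map N0.subtype with hB0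
      have hB0A : B0 ≤ A := by
        rintro _ ⟨b, hb, rfl⟩
        exact hb.2
      have hcomm : ∀ x ∈ B0, ∀ f ∈ F B, x * f = f * x := by
        rintro _ ⟨b, hb, rfl⟩ f hf
        exact ((hFmem B f).1 hf).2 b hb
      have hFA : F A' = A ⊓ V := by
        ext v
        rw [hFmem, Subgroup.mem_inf]
        constructor
        · rintro ⟨hv, h⟩
          refine ⟨?_, hv⟩
          have hgood : ZJ.IsGood 2 (Subgroup.closure (insert v (A : Set G))) := by
            refine ZJ.isGood_closure ?_ ?_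
            · rintro p (rfl | hp) q (rfl | hq)
              · rfl
              · exact (h ⟨q, hAN hq⟩ hq).symm
              · exact h ⟨p, hAN hp⟩ hp
              · exact hAgood.1 p hp q hq
            · rintro p (rfl | hp)
              · rw [sq]; exact hv.2
              · exact hAgood.2 p hp
          have hle : Subgroup.closure (insert v (A : Set G)) ≤ (S : Subgroup G) := by
            rw [Subgroup.closure_le]
            rintro p (rfl | hp)
            · exact hVS hv
            · exact hAS hp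
          rw [Subgroup.eq_of_le_of_card_ge (fun a ha => Subgroup.subset_closure (Set.mem_insert_of_mem _ ha))
            (hAmax _ hle hgood)]
          exact Subgroup.subset_closure (Set.mem_insert _ _)
        · rintro ⟨hvA, hv⟩
          exact ⟨hv, fun d hd => hAgood.1 d hd v hvA⟩
      have hgood : ZJ.IsGood 2 (B0 ⊔ F B) := by
        rw [← Subgroup.closure_eq B0, ← Subgroup.closure_eq (F B), ← Subgroup.closure_union]
        refine ZJ.isGood_closure ?_ ?_
        · rintro p (hp | hp) q (hq | hq)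
          · exact hAgood.1 p (hB0A hp) q (hB0A hq)
          · exact hcomm p hp q hq
          · exact (hcomm q hq p hp).symm
          · exact hVcomm p ((hFmem B p).1 hp).1 q ((hFmem B q).1 hq).1
        · rintro p (hp | hp)
          · exact hAgood.2 p (hB0A hp)
          · rw [sq]; exact ((hFmem B p).1 hp).1.2
      have hle : B0 ⊔ F B ≤ (S : Subgroup G) :=
        sup_le (hB0A.trans hAS) fun v hv => hVS ((hFmem B v).1 hv).1
      have e1 := CfsgLib.Products.card_mul_card_le B0 (F B)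
      have e2 : B0 ⊓ F B ≤ F A' := by
        rintro v ⟨hv1, hv2⟩
        rw [hFA]
        exact ⟨hB0A hv1, ((hFmem B v).1 hv2).1⟩
      have e3 : Nat.card B * Nat.card (F B) ≤ Nat.card A' * Nat.card (F A') := by
        rw [Nat.card_congr (Subgroup.subgroupOfEquivOfLe hAN).toEquiv,
          show Nat.card B = Nat.card B0 from
            (Subgroup.card_map_of_injective N0.subtype_injective).symm]
        exact e1.trans (Nat.mul_le_mul (hAmax _ hle hgood) (Subgroup.card_le_of_le e2))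
      rw [hFcard, hFcard, hmap, ← hcard B, ← hcard A', hinf, hmap, mul_assoc, mul_assoc] at e3
      exact Nat.le_of_mul_le_mul_left e3 Nat.card_pos
  have hfin := OffenderTwo.le_pCore_of_offender hctx hoff
  intro a ha
  have h1 : QuotientGroup.mk' K ⟨a, hAN ha⟩ ∈ Cfsg.pCore 2 (N0 ⧸ K) :=
    hfin ⟨⟨a, hAN ha⟩, ha, rfl⟩
  set R := ((Cfsg.pCore 2 (N0 ⧸ K)).comap (QuotientGroup.mk' K))
  have hR2 : IsPGroup 2 R := (isPGroup_pCore 2).comap_of_ker_isPGroup _ hker
  have hRle : R ≤ Cfsg.pCore 2 N0 := le_pCore hR2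
  haveI : N0.Normal := ⟨fun n hn g t ht => by
    have e : g * n * g⁻¹ * t * (g * n * g⁻¹)⁻¹ * t⁻¹ =
        g * (n * (g⁻¹ * t * g) * n⁻¹ * (g⁻¹ * t * g)⁻¹) * g⁻¹ := by group
    rw [e]
    exact hZn g _ (hn _ (by simpa using hTn g⁻¹ t ht))⟩
  exact map_pCore_le 2 N0 ⟨⟨a, hAN ha⟩, hRle h1, rfl⟩

theorem involves_of_quotient {H : Type*} [Group H] {N : Subgroup G} [N.Normal]
    (h : Cfsg.Involves H (G ⧸ N)) : Cfsg.Involves H G := by
  obtain ⟨K, R, hR, ⟨e⟩⟩ := h
  set f := QuotientGroup.mk' N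
  let g : K.comap f →* K ⧸ R.subgroupOf K :=
    (QuotientGroup.mk' (R.subgroupOf K)).comp
      ((f.comp (K.comap f).subtype).codRestrict K fun x => x.2)
  have hg : Function.Surjective g := by
    intro q
    obtain ⟨⟨k, hk⟩, rfl⟩ := QuotientGroup.mk'_surjective _ q
    obtain ⟨x, rfl⟩ := QuotientGroup.mk'_surjective N k
    exact ⟨⟨x, hk⟩, rfl⟩
  have e1 : (g.ker.map (K.comap f).subtype).subgroupOf (K.comap f) = g.ker := by
    rw [Subgroup.subgroupOf, Subgroup.comap_map_eq_self_of_injective (K.comap f).subtype_injective]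
  refine ⟨K.comap f, g.ker.map (K.comap f).subtype, by rw [e1]; infer_instance, ?_⟩
  haveI : ((g.ker.map (K.comap f).subtype).subgroupOf (K.comap f)).Normal := by
    rw [e1]; infer_instance
  exact ⟨(QuotientGroup.quotientMulEquivOfEq e1).trans
    ((QuotientGroup.quotientKerEquivOfSurjective g hg).trans e)⟩

/-- Quotient by the odd core, Frattini argument. -/
theorem normalizer_sup_eq_top (hS4 : ¬ Cfsg.Involves (Equiv.Perm (Fin 4)) G) (S : Sylow 2 G)
    (hcl : Subgroup.lowerCentralSeries (S : Subgroup G) 2 = ⊥)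
    (hC : Subgroup.centralizer (Cfsg.pCore 2 (G ⧸ Cfsg.pPrimeCore 2 G) : Set (G ⧸ Cfsg.pPrimeCore 2 G)) ≤
      Cfsg.pCore 2 (G ⧸ Cfsg.pPrimeCore 2 G)) :
    Subgroup.normalizer ((Cfsg.thompsonSubgroupOf 2 (S : Subgroup G)) : Set G) ⊔
      Cfsg.pPrimeCore 2 G = ⊤ := by
  rw [← ZJ.thompsonJ_prime]
  set O := Cfsg.pPrimeCore 2 G
  set f := QuotientGroup.mk' O
  have hO : (Nat.card O).Coprime 2 := card_pPrimeCore_coprime 2
  have hdisj : ∀ x ∈ (S : Subgroup G), x ∈ O → x = 1 := fun x hx hxO =>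
    Subgroup.disjoint_def.1 (Subgroup.disjoint_of_coprime_natCard (by
      obtain ⟨k, hk⟩ := S.2.exists_card_eq
      rw [hk]
      exact hO.symm.pow_left k)) hx hxO
  have hinj : Set.InjOn f ((S : Subgroup G) : Set G) := by
    intro x hx y hy h
    exact inv_mul_eq_one.1 (hdisj _ ((S : Subgroup G).mul_mem ((S : Subgroup G).inv_mem hx) hy)
      (QuotientGroup.eq.1 h))
  set Sq : Sylow 2 (G ⧸ O) := S.mapSurjective (QuotientGroup.mk'_surjective O)
  have hSq : (Sq : Subgroup (G ⧸ O)) = (S : Subgroup G).map f := rfl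
  have hclq : Subgroup.lowerCentralSeries (Sq : Subgroup (G ⧸ O)) 2 = ⊥ := by
    rw [hSq, Subgroup.lowerCentralSeries_succ, Subgroup.lowerCentralSeries_succ,
      Subgroup.lowerCentralSeries_zero, ← Subgroup.map_commutator, ← Subgroup.map_commutator]
    rw [Subgroup.lowerCentralSeries_succ, Subgroup.lowerCentralSeries_succ,
      Subgroup.lowerCentralSeries_zero] at hcl
    rw [hcl, Subgroup.map_bot]
  have hS4q : ¬ Cfsg.Involves (Equiv.Perm (Fin 4)) (G ⧸ O) := fun h => hS4 (involves_of_quotient h)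
  have hJq := thompsonJ_le_pCore hS4q hC Sq hclq
  -- the image of `J` is normal
  have hmap : (ZJ.thompsonJ 2 (S : Subgroup G)).map f = ZJ.thompsonJ 2 (Sq : Subgroup (G ⧸ O)) := by
    rw [hSq]
    have h1 := ZJ.thompsonJ_map 2 (f := f.comp (S : Subgroup G).subtype)
      (fun x y h => Subtype.ext (hinj x.2 y.2 h)) ⊤
    have h2 := ZJ.thompsonJ_map 2 (S : Subgroup G).subtype_injective ⊤
    rw [← MonoidHom.range_eq_map, MonoidHom.range_comp, Subgroup.range_subtype] at h1
    rw [← MonoidHom.range_eq_map, Subgroup.range_subtype] at h2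
    rw [h1, ← Subgroup.map_map, ← h2]
  set T := Cfsg.pCore 2 (G ⧸ O)
  set J := ZJ.thompsonJ 2 (Sq : Subgroup (G ⧸ O)) with hJdef
  have hJT : ZJ.thompsonJ 2 T = J := by
    have hTS : T ≤ (Sq : Subgroup (G ⧸ O)) := pCore_le_sylow Sq
    have hset : ZJ.goodMax 2 T = ZJ.goodMax 2 (Sq : Subgroup (G ⧸ O)) := by
      obtain ⟨A0, hA0⟩ := ZJ.goodMax_nonempty 2 (Sq : Subgroup (G ⧸ O))
      have hA0T : A0 ≤ T := (ZJ.le_thompsonJ hA0).trans hJq
      ext A
      constructor
      · rintro ⟨h1, h2, h3⟩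
        exact ⟨h1.trans hTS, h2, fun B hB hBg => (hA0.2.2 B hB hBg).trans (h3 A0 hA0T hA0.2.1)⟩
      · rintro ⟨h1, h2, h3⟩
        exact ⟨(ZJ.le_thompsonJ (A := A) ⟨h1, h2, h3⟩).trans hJq, h2,
          fun B hB hBg => h3 B (hB.trans hTS) hBg⟩
    rw [hJdef, ZJ.thompsonJ, ZJ.thompsonJ, hset]
  have hJn : J.Normal := by
    refine ⟨fun x hx g => ?_⟩
    have hT : T.map (MulAut.conj g).toMonoidHom = T :=
      map_conj_eq_of_mem_normalizer (by
        rw [Subgroup.normalizer_eq_top_iff.2 inferInstance]; exact Subgroup.mem_top g)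
    rw [← hJT] at hx ⊢
    have h' := ZJ.thompsonJ_map 2 (f := (MulAut.conj g).toMonoidHom) (MulAut.conj g).injective T
    rw [hT] at h'
    rw [h']
    exact ⟨x, hx, rfl⟩
  -- Frattini argument
  set Jg := ZJ.thompsonJ 2 (S : Subgroup G)
  refine eq_top_iff.2 fun g _ => ?_
  have hJg2 : IsPGroup 2 Jg := isPGroup_of_le (ZJ.thompsonJ_le 2 _) S.2
  set U := Jg ⊔ O
  have hka : ∀ a ∈ Jg, g⁻¹ * a * g ∈ O ⊔ Jg := by
    intro a ha
    have h1 : f (g⁻¹ * a * g) ∈ J := by
      rw [map_mul, map_mul, map_inv]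
      have := hJn.conj_mem (f a) (hmap ▸ ⟨a, ha, rfl⟩) (f g)⁻¹
      rwa [inv_inv] at this
    rw [← hmap, ← Subgroup.mem_comap, Subgroup.comap_map_eq, QuotientGroup.ker_mk', sup_comm] at h1
    exact h1
  have hcop : (Nat.card Jg).Coprime (Nat.card O) := by
    obtain ⟨k, hk⟩ := hJg2.exists_card_eq
    rw [hk]
    exact hO.symm.pow_left k
  obtain ⟨w, hw, hwJ⟩ := coprime_key_normalize hcop (Or.inl (by haveI := hJg2.isNilpotent; infer_instance))
    (A := Jg) (W := O) (by
      intro a _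
      rw [Subgroup.normalizer_eq_top_iff.2 (inferInstance : O.Normal)]
      exact Subgroup.mem_top a) hka
  have hgw : g * w ∈ Subgroup.normalizer (Jg : Set G) :=
    mem_normalizer_of_map_conj_eq (Subgroup.eq_of_le_of_card_ge (map_conj_le hwJ)
      (Subgroup.card_map_of_injective (MulAut.conj (g * w)).injective).ge)
  simpa [mul_assoc] using (Subgroup.normalizer (Jg : Set G) ⊔ O).mul_mem
    (Subgroup.mem_sup_left hgw) (Subgroup.mem_sup_right (O.inv_mem hw))

/-- Constrained groups. -/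
theorem centralizer_quotient_le (hcon : Cfsg.IsPConstrained 2 G) :
    Subgroup.centralizer (Cfsg.pCore 2 (G ⧸ Cfsg.pPrimeCore 2 G) : Set (G ⧸ Cfsg.pPrimeCore 2 G)) ≤
      Cfsg.pCore 2 (G ⧸ Cfsg.pPrimeCore 2 G) := by
  set O := Cfsg.pPrimeCore 2 G
  set f := QuotientGroup.mk' O
  set N := Cfsg.pPrimePCore 2 G with hN
  have hNdef : N = (Cfsg.pCore 2 (G ⧸ O)).comap f := rfl
  obtain ⟨P⟩ : Nonempty (Sylow 2 N) := inferInstance
  set P' := (P : Subgroup N).map N.subtype with hP'
  have hP'2 : IsPGroup 2 P' := P.2.map _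
  have hP'N : P' ≤ N := Subgroup.map_subtype_le _
  have hON : O ≤ N := fun x hx => by
    rw [hNdef, Subgroup.mem_comap, show f x = 1 from (QuotientGroup.eq_one_iff x).2 hx]
    exact one_mem _
  intro q hq
  obtain ⟨x, rfl⟩ := QuotientGroup.mk'_surjective O q
  have hcop : (Nat.card P').Coprime (Nat.card O) := by
    obtain ⟨k, hk⟩ := hP'2.exists_card_eq
    rw [hk]
    exact (card_pPrimeCore_coprime (G := G) 2).symm.pow_left k
  have hcongr : ∀ a ∈ P', f (x⁻¹ * a * x) = f a := by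
    intro a ha
    have h := hq (f a) (hP'N ha)
    rw [map_mul, map_mul, map_inv, mul_assoc, h, inv_mul_cancel_left]
  obtain ⟨w, hw, hwP⟩ := coprime_key_normalize hcop (Or.inl (by haveI := hP'2.isNilpotent; infer_instance))
    (A := P') (W := O) (k := x) (by
      intro a _
      rw [Subgroup.normalizer_eq_top_iff.2 (inferInstance : O.Normal)]
      exact Subgroup.mem_top a) (fun a ha => by
      have h := QuotientGroup.eq.1 (hcongr a ha).symm
      have := (O ⊔ P').mul_mem (Subgroup.mem_sup_right ha) (Subgroup.mem_sup_left h)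
      simpa [mul_assoc] using this)
  have hcen : x * w ∈ Subgroup.centralizer (P' : Set G) := by
    intro a ha
    have h1 : x * w * a * (x * w)⁻¹ * a⁻¹ ∈ P' := P'.mul_mem (hwP a ha) (P'.inv_mem ha)
    have h2 : x * w * a * (x * w)⁻¹ * a⁻¹ ∈ O := by
      refine (QuotientGroup.eq_one_iff _).1 ?_
      have hw1 : f w = 1 := (QuotientGroup.eq_one_iff w).2 hw
      have h := hq (f a) (hP'N ha)
      change f _ = 1
      simp only [map_mul, map_inv, hw1, mul_one]
      rw [← h, mul_inv_cancel_right, mul_inv_cancel]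
    have h3 := Subgroup.disjoint_def.1 (Subgroup.disjoint_of_coprime_natCard hcop) h1 h2
    rw [mul_inv_eq_one, mul_inv_eq_iff_eq_mul] at h3
    exact h3.symm
  have hxN : x * w ∈ N := hcon P hcen
  have hx : x ∈ N := by simpa using N.mul_mem hxN (N.inv_mem (hON hw))
  exact hx

end CfsgLib.ClassTwoSylow
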