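/-
A `p'`-group centralising the fixed points of a `p`-group on a `p`-group centralises it all.
-/
import Cfsg.Agent.Lib.Coprime
import Mathlib

set_option autoImplicit false

namespace CfsgLib.FixedTransfer

open Subgroup
open scoped commutatorElement

universe u
variable {G : Type u} [Group G] [Finite G] {p : ℕ} [Fact p.Prime]

omit [Fact p.Prime] in
/-- The abelian case. -/
theorem fixed_of_abelian [Fact p.Prime] {V : Type u} [CommGroup V] [Finite V] (hV : IsPGroup p V)
    (Y A : Subgroup (MulAut V)) (hY : (Nat.card Y).Coprime p) (hA : IsPGroup p A)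
    (hAY : A ≤ normalizer (Y : Set (MulAut V)))
    (h : ∀ v : V, (∀ a ∈ A, a v = v) → ∀ y ∈ Y, y v = v) : ∀ y ∈ Y, ∀ v : V, y v = v := by
  classical
  have : Finite (MulAut V) := Finite.of_injective (fun f => (f : V → V)) DFunLike.coe_injective
  have : Fintype Y := Fintype.ofFinite Y
  let N : V →* V :=
    { toFun := fun v => ∏ y : Y, (y : MulAut V) v
      map_one' := by simp
      map_mul' := fun v w => by simp [Finset.prod_mul_distrib] }
  have hNfix : ∀ v, ∀ y ∈ Y, y (N v) = N v := by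
    intro v y hy
    show y (∏ z : Y, (z : MulAut V) v) = ∏ z : Y, (z : MulAut V) v
    rw [map_prod]
    exact Fintype.prod_equiv (Equiv.mulLeft (⟨y, hy⟩ : Y)) _ _ fun z => rfl
  have hNm : ∀ v, (∀ y ∈ Y, y v = v) → N v = v ^ Nat.card Y := by
    intro v hv
    show (∏ z : Y, (z : MulAut V) v) = _
    rw [Finset.prod_congr rfl (fun (z : Y) _ => hv (z : MulAut V) z.2), Finset.prod_const, Finset.card_univ,
      Nat.card_eq_fintype_card]
  have hcop : (Nat.card V).Coprime (Nat.card Y) := by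
    obtain ⟨k, hk⟩ := hV.exists_card_eq
    rw [hk]
    exact (hY.symm.pow_left k)
  have hNA : ∀ a ∈ A, ∀ v, N v = 1 → N (a v) = 1 := by
    intro a ha v hv
    have h1 : N (a v) = a (N v) := by
      show (∏ z : Y, (z : MulAut V) (a v)) = a (∏ z : Y, (z : MulAut V) v)
      rw [map_prod]
      let e : Y ≃ Y :=
        { toFun := fun z => ⟨a⁻¹ * z * a, by
            have := (mem_normalizer_iff.mp (hAY (A.inv_mem ha)) _).mp z.2
            simpa using this⟩
          invFun := fun z => ⟨a * z * a⁻¹, (mem_normalizer_iff.mp (hAY ha) _).mp z.2⟩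
          left_inv := fun z => Subtype.ext (by simp [mul_assoc])
          right_inv := fun z => Subtype.ext (by simp [mul_assoc]) }
      refine Fintype.prod_equiv e _ _ fun z => ?_
      show (z : MulAut V) (a v) = a ((a⁻¹ * (z : MulAut V) * a) v)
      simp
    rw [h1, hv, map_one]
  have hker : N.ker = ⊥ := by
    by_contra hne
    letI : MulAction A N.ker :=
      { smul := fun a v => ⟨(a : MulAut V) v, hNA a a.2 v v.2⟩
        one_smul := fun v => Subtype.ext rfl
        mul_smul := fun a b v => Subtype.ext rfl }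
    have hd : p ∣ Nat.card N.ker := by
      obtain ⟨k, hk⟩ := (hV.to_subgroup N.ker).exists_card_eq
      rw [hk]
      refine dvd_pow_self p fun e => hne (Subgroup.card_eq_one.mp ?_)
      rw [hk, e, pow_zero]
    obtain ⟨w, hw, hw1⟩ := hA.exists_fixed_point_of_prime_dvd_card_of_fixed_point N.ker hd
      (a := 1) (fun a => Subtype.ext (map_one (a : MulAut V)))
    have h1 := h (w : V) (fun a ha => congrArg Subtype.val (hw ⟨a, ha⟩))
    have h2 : (w : V) ^ Nat.card Y = 1 := by rw [← hNm _ h1]; exact w.2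
    exact hw1 (Subtype.ext ((orderOf_eq_one_iff.mp (Nat.eq_one_of_dvd_coprimes hcop
      (orderOf_dvd_natCard _) (orderOf_dvd_of_pow_eq_one h2))).symm))
  intro y hy v
  have h1 : N (y v / v) = 1 := by
    rw [map_div, div_eq_one]
    show (∏ z : Y, (z : MulAut V) (y v)) = ∏ z : Y, (z : MulAut V) v
    exact Fintype.prod_equiv (Equiv.mulRight (⟨y, hy⟩ : Y)) _ _ fun z => rfl
  have h2 : y v / v ∈ N.ker := h1
  rw [hker, Subgroup.mem_bot, div_eq_one] at h2
  exact h2

section Baer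

variable (R : Type u) [Group R]

/-- A copy of a group, to carry Baer's multiplication. -/
def Baer := R

variable {R}

theorem comm_mul_left (hZ : ∀ a b x : R, ⁅a, b⁆ * x = x * ⁅a, b⁆) (a b c : R) :
    ⁅a * b, c⁆ = ⁅a, c⁆ * ⁅b, c⁆ := by
  calc ⁅a * b, c⁆ = a * ⁅b, c⁆ * a⁻¹ * ⁅a, c⁆ := by simp only [commutatorElement_def]; group
    _ = ⁅b, c⁆ * ⁅a, c⁆ := by rw [← hZ b c a, mul_inv_cancel_right]
    _ = ⁅a, c⁆ * ⁅b, c⁆ := hZ b c _

theorem comm_mul_right (hZ : ∀ a b x : R, ⁅a, b⁆ * x = x * ⁅a, b⁆) (a b c : R) :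
    ⁅c, a * b⁆ = ⁅c, a⁆ * ⁅c, b⁆ := by
  calc ⁅c, a * b⁆ = ⁅c, a⁆ * (a * ⁅c, b⁆ * a⁻¹) := by simp only [commutatorElement_def]; group
    _ = ⁅c, a⁆ * ⁅c, b⁆ := by rw [← hZ c b a, mul_inv_cancel_right]

theorem comm_central_left (hZ : ∀ a b x : R, ⁅a, b⁆ * x = x * ⁅a, b⁆) (a b c : R) (n : ℕ) :
    ⁅⁅a, b⁆ ^ n, c⁆ = 1 :=
  commutatorElement_eq_one_iff_mul_comm.mpr ((show Commute ⁅a, b⁆ c from hZ a b c).pow_left n).eq

theorem comm_central_right (hZ : ∀ a b x : R, ⁅a, b⁆ * x = x * ⁅a, b⁆) (a b c : R) (n : ℕ) :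
    ⁅c, ⁅a, b⁆ ^ n⁆ = 1 :=
  commutatorElement_eq_one_iff_mul_comm.mpr ((show Commute ⁅a, b⁆ c from hZ a b c).pow_left n).eq.symm

/-- Baer's multiplication. -/
def bop (h : ℕ) (u v : R) : R := u * v * ⁅v, u⁆ ^ h

theorem bop_assoc (hZ : ∀ a b x : R, ⁅a, b⁆ * x = x * ⁅a, b⁆) (h : ℕ) (u v w : R) :
    bop h (bop h u v) w = bop h u (bop h v w) := by
  have hc : ∀ a b x : R, ∀ n : ℕ, Commute (⁅a, b⁆ ^ n) x := fun a b x n =>
    (show Commute ⁅a, b⁆ x from hZ a b x).pow_left n
  simp only [bop]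
  rw [comm_mul_right hZ, comm_mul_right hZ, comm_central_right hZ, mul_one,
    comm_mul_left hZ, comm_mul_left hZ, comm_central_left hZ, mul_one,
    (show Commute ⁅w, u⁆ ⁅w, v⁆ from hZ _ _ _).mul_pow,
    (show Commute ⁅v, u⁆ ⁅w, u⁆ from hZ _ _ _).mul_pow]
  simp only [mul_assoc]
  congr 2
  rw [← mul_assoc, (hc v u w h).eq, mul_assoc]
  congr 1
  rw [(hc w u (⁅w, v⁆ ^ h) h).eq, ← mul_assoc, ← mul_assoc, (hc v u (⁅w, v⁆ ^ h) h).eq]

theorem bop_comm (hZ : ∀ a b x : R, ⁅a, b⁆ * x = x * ⁅a, b⁆) (h : ℕ)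
    (hh : ∀ c : R, c ^ (h + h) = c) (u v : R) : bop h u v = bop h v u := by
  simp only [bop]
  have e1 : u * v = ⁅u, v⁆ * (v * u) := by rw [commutatorElement_def]; group
  rw [e1, ← commutatorElement_inv u v, inv_pow, hZ _ _ _, mul_assoc]
  congr 1
  rw [mul_inv_eq_iff_eq_mul, ← pow_add, hh]

theorem bop_one_left (h : ℕ) (u : R) : bop h 1 u = u := by simp [bop]

theorem bop_one_right (h : ℕ) (u : R) : bop h u 1 = u := by simp [bop]

theorem bop_inv (h : ℕ) (u : R) : bop h u⁻¹ u = 1 := by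
  simp [bop, commutatorElement_def]

theorem map_bop (f : MulAut R) (h : ℕ) (u v : R) : f (bop h u v) = bop h (f u) (f v) := by
  simp only [bop]
  rw [map_mul, map_mul, map_pow, map_commutatorElement]

/-- Baer's abelian multiplication on a class two group of odd exponent. -/
@[reducible] def baerCommGroup (hZ : ∀ a b x : R, ⁅a, b⁆ * x = x * ⁅a, b⁆) (h : ℕ)
    (hh : ∀ c : R, c ^ (h + h) = c) : CommGroup (Baer R) where
  mul u v := bop (R := R) h u v
  one := (1 : R)
  inv u := (Inv.inv (α := R) u : R)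
  mul_assoc := bop_assoc hZ h
  one_mul := bop_one_left (R := R) h
  mul_one := bop_one_right (R := R) h
  inv_mul_cancel := bop_inv (R := R) h
  mul_comm := bop_comm hZ h hh

end Baer

/-- The class-two case for odd `p`. -/
theorem fixed_of_class_two {R : Type u} [Group R] [Finite R] (hp : p ≠ 2) (hR : IsPGroup p R)
    (hZ : ∀ a b x : R, ⁅a, b⁆ * x = x * ⁅a, b⁆) (Y A : Subgroup (MulAut R))
    (hY : (Nat.card Y).Coprime p) (hA : IsPGroup p A) (hAY : A ≤ normalizer (Y : Set (MulAut R)))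
    (hfix : ∀ v : R, (∀ a ∈ A, a v = v) → ∀ y ∈ Y, y v = v) : ∀ y ∈ Y, ∀ v : R, y v = v := by
  have hodd : Odd (Nat.card R) := by
    obtain ⟨k, hk⟩ := hR.exists_card_eq
    rw [hk]
    exact ((Fact.out : p.Prime).odd_of_ne_two hp).pow
  obtain ⟨j, hj⟩ := hodd
  have hh : ∀ c : R, c ^ ((j + 1) + (j + 1)) = c := fun c => by
    rw [show (j + 1) + (j + 1) = Nat.card R + 1 by omega, pow_succ, pow_card_eq_one', one_mul]
  letI : CommGroup (Baer R) :=
    baerCommGroup hZ (j + 1) hh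
  haveI : Finite (Baer R) := ‹Finite R›
  have hV : IsPGroup p (Baer R) := by
    obtain ⟨k, hk⟩ := hR.exists_card_eq
    exact IsPGroup.of_card (n := k) hk
  let φ : MulAut R →* MulAut (Baer R) :=
    { toFun := fun f =>
        { toFun := fun v => f v
          invFun := fun v => f.symm v
          left_inv := fun v => f.symm_apply_apply v
          right_inv := fun v => f.apply_symm_apply v
          map_mul' := map_bop f (j + 1) }
      map_one' := rfl
      map_mul' := fun f g => rfl }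
  intro y hy v
  refine fixed_of_abelian hV (Y.map φ) (A.map φ) (hY.coprime_dvd_left (Y.card_map_dvd φ))
    (hA.map φ) ((Subgroup.map_mono hAY).trans (Subgroup.le_normalizer_map φ)) ?_ (φ y)
    (Subgroup.mem_map_of_mem φ hy) v
  rintro w hw _ ⟨z, hz, rfl⟩
  exact hfix w (fun a ha => hw (φ a) (Subgroup.mem_map_of_mem φ ha)) z hz

/-- A `p'`-group `Y` normalised by a `p`-group `A`, both normalising a `p`-group `R`: if `Y` centralises
`C_R(A)` then it centralises `R` (for `p = 2` with a class two hypothesis). -/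
theorem centralizes_of_fixed {A Y : Subgroup G} (hA : IsPGroup p A) (hY : (Nat.card Y).Coprime p)
    (hAY : A ≤ normalizer (Y : Set G)) :
    ∀ R : Subgroup G, IsPGroup p R → A ≤ normalizer (R : Set G) → Y ≤ normalizer (R : Set G) →
      (p = 2 → ∀ r ∈ R, ∀ a ∈ A, ∀ b ∈ R ⊔ A, ⁅a, r⁆ * b = b * ⁅a, r⁆) →
      R ⊓ centralizer (A : Set G) ≤ centralizer (Y : Set G) → Y ≤ centralizer (R : Set G) := by
  intro R
  induction hn : Nat.card R using Nat.strong_induction_on generalizing R with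
  | h n ih =>
    subst hn
    intro hR hAR hYR h2 hfix
    have hcop : (Nat.card Y).Coprime (Nat.card R) := by
      obtain ⟨k, hk⟩ := hR.exists_card_eq
      rw [hk]
      exact hY.pow_right k
    have hsolvR : Group.IsSolvable R := by haveI := hR.isNilpotent; infer_instance
    set R₁ := ⁅R, Y⁆ with hR₁
    have hle : R₁ ≤ R := commutator_le_of_le_normalizer hYR
    have finish : Y ≤ centralizer (R₁ : Set G) → Y ≤ centralizer (R : Set G) := by
      intro h1
      have h4 : ⁅R₁, Y⁆ = ⊥ := by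
        rw [Subgroup.commutator_comm]
        exact Subgroup.commutator_eq_bot_iff_le_centralizer.mpr h1
      rw [hR₁, coprime_commutator_commutator hYR hcop (Or.inr hsolvR), ← hR₁] at h4
      rw [← Subgroup.commutator_eq_bot_iff_le_centralizer, Subgroup.commutator_comm]
      exact h4
    have hnorm : ∀ a ∈ A, ∀ {S T : Subgroup G}, A ≤ normalizer (S : Set G) → A ≤ normalizer (T : Set G) →
        a ∈ normalizer ((⁅S, T⁆ : Subgroup G) : Set G) := fun a ha {S T} hS hT => by
      rw [Subgroup.mem_normalizer_iff_map_conj_eq, Subgroup.map_commutator]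
      congr 1
      · exact Subgroup.mem_normalizer_iff_map_conj_eq.mp (hS ha)
      · exact Subgroup.mem_normalizer_iff_map_conj_eq.mp (hT ha)
    by_cases hp : p = 2
    · apply finish
      refine fun y hy => ?_
      -- `[R, a]` lies in the fixed points
      have hδ : ∀ r ∈ R, ∀ a ∈ A, ⁅a, r⁆ ∈ R ⊓ centralizer (A : Set G) := by
        intro r hr a ha
        refine ⟨?_, fun b hb => (h2 hp r hr a ha b (Subgroup.mem_sup_right hb)).symm⟩
        rw [commutatorElement_def]
        exact R.mul_mem ((Subgroup.mem_normalizer_iff.mp (hAR ha) r).mp hr) (R.inv_mem hr)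
      have hYcop : ∀ c ∈ Y, ∀ r ∈ R, c * r * c⁻¹ * r⁻¹ ∈ centralizer (Y : Set G) → c * r * c⁻¹ = r := by
        intro c hc r hr hz
        set z := c * r * c⁻¹ * r⁻¹ with hz'
        have hzR : z ∈ R := R.mul_mem ((Subgroup.mem_normalizer_iff.mp (hYR hc) r).mp hr) (R.inv_mem hr)
        have hcz : c * z = z * c := hz c hc
        have hit : ∀ i : ℕ, c ^ i * r * (c ^ i)⁻¹ = z ^ i * r := by
          intro i
          induction i with
          | zero => simp
          | succ i ihi =>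
            calc c ^ (i + 1) * r * (c ^ (i + 1))⁻¹ = c * (c ^ i * r * (c ^ i)⁻¹) * c⁻¹ := by
                  rw [pow_succ']; group
              _ = (c * z ^ i) * r * c⁻¹ := by rw [ihi]; group
              _ = z ^ i * (c * r * c⁻¹) := by rw [((show Commute c z from hcz).pow_right i).eq]; group
              _ = z ^ i * (z * r) := by rw [hz']; group
              _ = z ^ (i + 1) * r := by rw [← mul_assoc, pow_succ]
        have h1 := hit (orderOf c)
        rw [pow_orderOf_eq_one, one_mul, inv_one, mul_one, eq_comm, mul_eq_right] at h1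
        have h3 : z = 1 := orderOf_eq_one_iff.mp (Nat.eq_one_of_dvd_coprimes hcop
          ((orderOf_dvd_of_pow_eq_one h1).trans (Y.orderOf_dvd_natCard hc)) (R.orderOf_dvd_natCard hzR))
        exact mul_inv_eq_one.mp h3
      -- `⁅a, ·⁆` is constant on `Y`-orbits
      have key : ∀ a ∈ A, ∀ r ∈ R, ∀ y ∈ Y, ⁅a, y * r * y⁻¹⁆ = ⁅a, r⁆ := by
        intro a ha r hr y hy
        have hy' : a * y * a⁻¹ ∈ Y := (Subgroup.mem_normalizer_iff.mp (hAY ha) y).mp hy
        have hd : ⁅a, r⁆ * y = y * ⁅a, r⁆ := (hfix (hδ r hr a ha) y hy).symm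
        have hd' : ⁅a, r⁆ * (a * y * a⁻¹) = a * y * a⁻¹ * ⁅a, r⁆ := (hfix (hδ r hr a ha) _ hy').symm
        have hyr : y * r * y⁻¹ ∈ R := (Subgroup.mem_normalizer_iff.mp (hYR hy) r).mp hr
        have hy'r : a * y * a⁻¹ * r * (a * y * a⁻¹)⁻¹ = y * r * y⁻¹ := by
          have e1 : ⁅a, y * r * y⁻¹⁆ * (y * r * y⁻¹) = ⁅a, r⁆ * (a * y * a⁻¹ * r * (a * y * a⁻¹)⁻¹) := by
            calc ⁅a, y * r * y⁻¹⁆ * (y * r * y⁻¹) = a * y * a⁻¹ * (⁅a, r⁆ * r) * (a * y * a⁻¹)⁻¹ := by
                  simp only [commutatorElement_def]; group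
              _ = (a * y * a⁻¹ * ⁅a, r⁆) * r * (a * y * a⁻¹)⁻¹ := by group
              _ = ⁅a, r⁆ * (a * y * a⁻¹ * r * (a * y * a⁻¹)⁻¹) := by rw [← hd']; group
          -- `y⁻¹ a y a⁻¹` fixes `r` modulo the centraliser of `Y`
          set c := y⁻¹ * (a * y * a⁻¹) with hc
          have hcY : c ∈ Y := Y.mul_mem (Y.inv_mem hy) hy'
          have h4 : c * r * c⁻¹ * r⁻¹ ∈ centralizer (Y : Set G) := by
            have h5 := hfix (hδ _ hyr a ha)
            have h6 : c * r * c⁻¹ * r⁻¹ = ⁅a, r⁆⁻¹ * ⁅a, y * r * y⁻¹⁆ := by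
              have e2 : a * y * a⁻¹ * r * (a * y * a⁻¹)⁻¹ = ⁅a, r⁆⁻¹ * ⁅a, y * r * y⁻¹⁆ * (y * r * y⁻¹) := by
                rw [mul_assoc ⁅a, r⁆⁻¹, e1, inv_mul_cancel_left]
              have hdd : ⁅a, y * r * y⁻¹⁆ * y = y * ⁅a, y * r * y⁻¹⁆ := (h5 y hy).symm
              have hinv : y⁻¹ * ⁅a, r⁆⁻¹ = ⁅a, r⁆⁻¹ * y⁻¹ := by
                rw [← mul_inv_rev, hd, mul_inv_rev]
              calc c * r * c⁻¹ * r⁻¹ = y⁻¹ * (a * y * a⁻¹ * r * (a * y * a⁻¹)⁻¹) * y * r⁻¹ := by rw [hc]; group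
                _ = (y⁻¹ * ⁅a, r⁆⁻¹) * ⁅a, y * r * y⁻¹⁆ * (y * r * y⁻¹) * y * r⁻¹ := by rw [e2]; group
                _ = ⁅a, r⁆⁻¹ * y⁻¹ * (⁅a, y * r * y⁻¹⁆ * y) := by rw [hinv]; group
                _ = ⁅a, r⁆⁻¹ * ⁅a, y * r * y⁻¹⁆ := by rw [hdd]; group
            rw [h6]
            exact mul_mem (inv_mem (hfix (hδ r hr a ha))) h5
          have h7 := hYcop c hcY r hr h4
          calc a * y * a⁻¹ * r * (a * y * a⁻¹)⁻¹ = y * (c * r * c⁻¹) * y⁻¹ := by rw [hc]; group
            _ = y * r * y⁻¹ := by rw [h7]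
        calc ⁅a, y * r * y⁻¹⁆ = a * y * a⁻¹ * (⁅a, r⁆ * r) * (a * y * a⁻¹)⁻¹ * (y * r * y⁻¹)⁻¹ := by
              simp only [commutatorElement_def]; group
          _ = (a * y * a⁻¹ * ⁅a, r⁆) * r * (a * y * a⁻¹)⁻¹ * (y * r * y⁻¹)⁻¹ := by group
          _ = ⁅a, r⁆ * (a * y * a⁻¹ * r * (a * y * a⁻¹)⁻¹) * (y * r * y⁻¹)⁻¹ := by rw [← hd']; group
          _ = ⁅a, r⁆ := by rw [hy'r, mul_inv_cancel_right]
      have hR₁C : R₁ ≤ R ⊓ centralizer (A : Set G) := by
        rw [hR₁, Subgroup.commutator_le]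
        intro r hr z hz
        have hzr : z * r⁻¹ * z⁻¹ ∈ R := (Subgroup.mem_normalizer_iff.mp (hYR hz) _).mp (R.inv_mem hr)
        have he : ⁅r, z⁆ = r * (z * r⁻¹ * z⁻¹) := by simp only [commutatorElement_def]; group
        refine ⟨by rw [he]; exact R.mul_mem hr hzr, fun a ha => ?_⟩
        have k1 := key a ha r⁻¹ (R.inv_mem hr) z hz
        have k2 : ∀ u ∈ R, a * u * a⁻¹ = ⁅a, u⁆ * u := fun u _ => by simp only [commutatorElement_def]; group
        have k3 : a * ⁅r, z⁆ * a⁻¹ = ⁅r, z⁆ := by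
          calc a * ⁅r, z⁆ * a⁻¹ = (a * r⁻¹ * a⁻¹)⁻¹ * (a * (z * r⁻¹ * z⁻¹) * a⁻¹) := by rw [he]; group
            _ = (⁅a, r⁻¹⁆ * r⁻¹)⁻¹ * (⁅a, r⁻¹⁆ * (z * r⁻¹ * z⁻¹)) := by
                rw [k2 _ (R.inv_mem hr), k2 _ hzr, k1]
            _ = ⁅r, z⁆ := by rw [he]; group
        exact mul_inv_eq_iff_eq_mul.mp k3
      exact (Subgroup.le_centralizer_iff.mp (hR₁C.trans hfix)) hy
    by_cases hlt : Nat.card R₁ < Nat.card R
    · refine finish (ih _ hlt R₁ rfl (hR.to_le hle) (fun a ha => hnorm a ha hAR hAY)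
        (right_le_normalizer_commutator Y R) (fun h => absurd h hp) ((inf_le_inf_right _ hle).trans hfix))
    have hR1R : R₁ = R := Subgroup.eq_of_le_of_card_ge hle (not_lt.mp hlt)
    rcases eq_or_ne R ⊥ with rfl | hR0
    · intro y _ u hu; simp [Subgroup.mem_bot.mp hu]
    set D := ⁅R, R⁆ with hD
    have hDR : D ≤ R := Subgroup.commutator_le_self R
    have hDlt : Nat.card D < Nat.card R := by
      refine lt_of_le_of_ne (Subgroup.card_le_of_le hDR) fun e => hR0 ?_
      have hDe : D = R := Subgroup.eq_of_le_of_card_ge hDR e.ge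
      haveI : Nontrivial R ∨ True := Or.inr trivial
      by_contra hR0
      haveI : Nontrivial R := (Subgroup.nontrivial_iff_ne_bot R).mpr hR0
      refine (Group.IsSolvable.commutator_lt_top_of_nontrivial R).ne (Subgroup.map_injective R.subtype_injective ?_)
      rw [Subgroup.map_subtype_commutator, ← MonoidHom.range_eq_map, Subgroup.range_subtype]
      exact hDe
    have hYD : Y ≤ normalizer (D : Set G) := fun y hy => by
      rw [Subgroup.mem_normalizer_iff_map_conj_eq, hD, Subgroup.map_commutator]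
      rw [Subgroup.mem_normalizer_iff_map_conj_eq.mp (hYR hy)]
    have hYcD := ih _ hDlt D rfl (hR.to_le hDR) (fun a ha => hnorm a ha hAR hAR) hYD
      (fun h => absurd h hp) ((inf_le_inf_right _ hDR).trans hfix)
    have hRD : ⁅D, R⁆ = ⊥ := by
      have e1 : ⁅⁅D, R⁆, Y⁆ = ⊥ := by
        rw [eq_bot_iff]
        refine (Subgroup.commutator_mono (?_ : ⁅D, R⁆ ≤ D) le_rfl).trans ?_
        · rw [Subgroup.commutator_le]
          intro d hd r hr
          have h1 : R ≤ normalizer (D : Set G) := fun x hx => by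
            rw [Subgroup.mem_normalizer_iff_map_conj_eq, hD, Subgroup.map_commutator,
              Subgroup.mem_normalizer_iff_map_conj_eq.mp (Subgroup.le_normalizer hx)]
          have := D.mul_mem hd ((Subgroup.mem_normalizer_iff.mp (h1 hr) _).mp (D.inv_mem hd))
          simpa [commutatorElement_def, mul_assoc] using this
        · rw [Subgroup.commutator_comm, Subgroup.commutator_eq_bot_iff_le_centralizer.mpr hYcD]
      have e2 : ⁅⁅Y, D⁆, R⁆ = ⊥ := by
        rw [Subgroup.commutator_eq_bot_iff_le_centralizer.mpr hYcD, Subgroup.commutator_bot_left]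
      have e3 : ⁅⁅R, Y⁆, D⁆ = ⊥ := Subgroup.commutator_commutator_eq_bot_of_rotate e2 e1
      rwa [show ⁅R, Y⁆ = R from hR1R, Subgroup.commutator_comm] at e3
    have hZ : ∀ a b x : R, ⁅a, b⁆ * x = x * ⁅a, b⁆ := fun a b x => Subtype.ext (by
      have h1 : ⁅(a : G), (b : G)⁆ ∈ D := Subgroup.commutator_mem_commutator a.2 b.2
      have h2 := (Subgroup.commutator_eq_bot_iff_le_centralizer.mp hRD) h1 (x : G) x.2
      simpa [commutatorElement_def] using h2.symm)
    let ψ : normalizer (R : Set G) →* MulAut R := Subgroup.normalizerMonoidHom R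
    intro y hy r hr
    have hfix' : ∀ v : R, (∀ f ∈ (A.subgroupOf (normalizer (R : Set G))).map ψ, f v = v) →
        ∀ f ∈ (Y.subgroupOf (normalizer (R : Set G))).map ψ, f v = v := by
      rintro v hv _ ⟨z, hz, rfl⟩
      have hvC : (v : G) ∈ R ⊓ centralizer (A : Set G) := ⟨v.2, fun a ha => by
        have h1 : a * (v : G) * a⁻¹ = v :=
          congrArg Subtype.val (hv (ψ ⟨a, hAR ha⟩) ⟨⟨a, hAR ha⟩, ha, rfl⟩)
        exact mul_inv_eq_iff_eq_mul.mp h1⟩
      refine Subtype.ext ?_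
      show (z : G) * v * (z : G)⁻¹ = v
      rw [hfix hvC z hz, mul_inv_cancel_right]
    have h1 := fixed_of_class_two hp hR hZ _ ((A.subgroupOf (normalizer (R : Set G))).map ψ)
      ((hY.coprime_dvd_left (by
        rw [← Nat.card_congr (Subgroup.subgroupOfEquivOfLe hYR).toEquiv])).coprime_dvd_left
          (Subgroup.card_map_dvd _ ψ))
      (hA.comap_subtype.map ψ)
      ((Subgroup.map_mono (by
        intro a ha
        rw [Subgroup.mem_normalizer_iff]
        intro z
        simp only [Subgroup.mem_subgroupOf]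
        exact Subgroup.mem_normalizer_iff.mp (hAY ha) z)).trans (Subgroup.le_normalizer_map ψ)) hfix'
      (ψ ⟨y, hYR hy⟩) ⟨⟨y, hYR hy⟩, hy, rfl⟩ ⟨r, hr⟩
    exact (mul_inv_eq_iff_eq_mul.mp (show y * r * y⁻¹ = r from congrArg Subtype.val h1)).symm

end CfsgLib.FixedTransfer
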