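import Cfsg.Agent.Lib.Coprime
import Cfsg.Agent.Lib.PSolvable

/-!
Hall's theorems (existence, conjugacy, domination) for finite solvable groups.
-/

set_option autoImplicit false

namespace CfsgLib

open Cfsg Subgroup
open scoped Pointwise

universe u

theorem prime_dvd_card_eq_pow {G : Type u} [Group G] [Finite G] {q : ℕ} (hq : q.Prime) {N : Subgroup G}
    (hN : ∀ x ∈ N, x ^ q = 1) : ∃ a, Nat.card N = q ^ a := by
  haveI := Fact.mk hq
  have : IsPGroup q N := fun x => ⟨1, by
    rw [pow_one]
    exact Subtype.ext (by simpa using hN x x.2)⟩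
  exact this.exists_card_eq

theorem dvd_left_of_dvd_mul_of_coprime {a m n : ℕ} (h : a ∣ m * n) (hc : a.Coprime n) : a ∣ m :=
  hc.dvd_of_dvd_mul_right h

/-- Hall's theorem: existence of subgroups of order `m`, and every subgroup of order dividing `m`
is contained in a conjugate of each of them. -/
theorem hall_main {G : Type u} [Group G] [Finite G] [Group.IsSolvable G] {m n : ℕ}
    (hG : Nat.card G = m * n) (hmn : m.Coprime n) :
    (∃ H : Subgroup G, Nat.card H = m) ∧
      ∀ H K : Subgroup G, Nat.card H = m → Nat.card K ∣ m → ∃ g : G, MulAut.conj g • K ≤ H := by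
  induction hc : Nat.card G using Nat.strong_induction_on generalizing G m n with
  | h c ih =>
    subst hc
    rcases subsingleton_or_nontrivial G with hG1 | hG1
    · rw [Nat.card_of_subsingleton (1 : G)] at hG
      obtain ⟨rfl, -⟩ := mul_eq_one.mp hG.symm
      exact ⟨⟨⊥, by simp⟩, fun H K _ _ => ⟨1, fun x _ => Subsingleton.elim (1 : G) x ▸ H.one_mem⟩⟩
    obtain ⟨N, hNn, -, hN0, hNmin⟩ := exists_minimal_normal (N := (⊤ : Subgroup G)) top_ne_bot
    obtain ⟨hNc, q, hq, hNq⟩ := minimal_normal_elementary hN0 inferInstance hNmin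
    obtain ⟨a, ha⟩ := prime_dvd_card_eq_pow hq hNq
    haveI : Nontrivial N := (Subgroup.nontrivial_iff_ne_bot N).mpr hN0
    have hN1 : 1 < Nat.card N := Finite.one_lt_card
    haveI : Group.IsSolvable (G ⧸ N) := Group.isSolvable_of_surjective (QuotientGroup.mk'_surjective N)
    have hGN : Nat.card G = Nat.card (G ⧸ N) * Nat.card N :=
      Subgroup.card_eq_card_quotient_mul_card_subgroup N
    have hlt : Nat.card (G ⧸ N) < Nat.card G := by
      rw [hGN]
      exact lt_mul_of_one_lt_right Nat.card_pos hN1
    let π := QuotientGroup.mk' N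
    have hcomap : ∀ (L : Subgroup G), (L.map π).comap π = L ⊔ N := fun L => by
      rw [Subgroup.comap_map_eq, QuotientGroup.ker_mk']
    have hdvd : ∀ L : Subgroup G, Nat.card L ∣ m → Nat.card (L.map π) ∣ m := fun L hL =>
      (Subgroup.card_map_dvd _ _).trans hL
    by_cases hqm : q ∣ m
    · -- the minimal normal subgroup has order dividing `m`
      have hNn' : (Nat.card N).Coprime n := by
        rw [ha]
        exact Nat.Coprime.pow_left _ (hq.coprime_iff_not_dvd.mpr fun h =>
          hq.ne_one (Nat.eq_one_of_dvd_coprimes hmn hqm h))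
      obtain ⟨m', hm'⟩ := dvd_left_of_dvd_mul_of_coprime (hG ▸ Subgroup.card_subgroup_dvd_card N) hNn'
      have hG' : Nat.card (G ⧸ N) = m' * n := by
        refine mul_right_cancel₀ (b := Nat.card N) (by omega) ?_
        rw [← hGN, hG, hm']
        ring
      have hmn' : m'.Coprime n := hmn.coprime_dvd_left ⟨Nat.card N, by rw [hm']; ring⟩
      obtain ⟨⟨Hb, hHb⟩, hD⟩ := ih _ hlt hG' hmn' rfl
      refine ⟨⟨Hb.comap π, by rw [card_comap_mk, hHb, hm']⟩, fun H K hH hK => ?_⟩
      have hNH : N ≤ H := by
        have hd : Nat.card (H ⊔ N : Subgroup G) ∣ m := by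
          refine dvd_left_of_dvd_mul_of_coprime (hG ▸ Subgroup.card_subgroup_dvd_card _) ?_
          exact Nat.Coprime.coprime_dvd_left (card_sup_dvd_mul H N) (Nat.Coprime.mul_left (hH ▸ hmn) hNn')
        have heq : H = H ⊔ N := Subgroup.eq_of_le_of_card_ge le_sup_left
          (hH ▸ Nat.le_of_dvd (by rw [← hH]; exact Nat.card_pos) hd)
        rw [heq]
        exact le_sup_right
      have hcard : ∀ L : Subgroup G, Nat.card L ∣ m → Nat.card (L.map π) ∣ m' := fun L hL =>
        dvd_left_of_dvd_mul_of_coprime (hG' ▸ Subgroup.card_subgroup_dvd_card _)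
          (hmn.coprime_dvd_left (hdvd L hL))
      have hHm : Nat.card (H.map π) = m' := by
        have h1 := card_comap_mk N (H.map π)
        rw [hcomap, sup_eq_left.mpr hNH, hH, hm'] at h1
        exact (mul_left_cancel₀ (by omega) h1).symm
      obtain ⟨gb, hgb⟩ := hD (H.map π) (K.map π) hHm (hcard K hK)
      obtain ⟨g, rfl⟩ := QuotientGroup.mk'_surjective N gb
      refine ⟨g, fun x hx => ?_⟩
      have h2 : π x ∈ H.map π := hgb (mem_conj_smul_iff.mpr ⟨g⁻¹ * x * g, mem_conj_smul_iff.mp hx, by
        rw [map_mul, map_mul, map_inv]⟩)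
      have : x ∈ (H.map π).comap π := h2
      rwa [hcomap, sup_eq_left.mpr hNH] at this
    · -- the minimal normal subgroup has order prime to `m`
      have hNm : (Nat.card N).Coprime m := by
        rw [ha]
        exact Nat.Coprime.pow_left _ (hq.coprime_iff_not_dvd.mpr hqm)
      obtain ⟨n', hn'⟩ := hNm.dvd_of_dvd_mul_left (hG ▸ Subgroup.card_subgroup_dvd_card N)
      have hG' : Nat.card (G ⧸ N) = m * n' := by
        refine mul_right_cancel₀ (b := Nat.card N) (by omega) ?_
        rw [← hGN, hG, hn']
        ring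
      have hmn' : m.Coprime n' := hmn.coprime_dvd_right ⟨Nat.card N, by rw [hn']; ring⟩
      obtain ⟨⟨Hb, hHb⟩, hD⟩ := ih _ hlt hG' hmn' rfl
      refine ⟨?_, fun H K hH hK => ?_⟩
      · set X := Hb.comap π with hX
        have hXc : Nat.card X = Nat.card N * m := by rw [hX, card_comap_mk, hHb]
        have hNX : N ≤ X := fun x hx => by
          rw [hX, Subgroup.mem_comap, show π x = 1 from (QuotientGroup.eq_one_iff x).mpr hx]
          exact one_mem _
        have hcN : Nat.card (N.subgroupOf X) = Nat.card N :=
          Nat.card_congr (Subgroup.subgroupOfEquivOfLe hNX).toEquiv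
        have hidx : (N.subgroupOf X).index = m := by
          have h1 := Subgroup.card_mul_index (N.subgroupOf X)
          rw [hcN, hXc] at h1
          exact mul_left_cancel₀ (by omega) h1
        obtain ⟨H', hH'⟩ := Subgroup.exists_right_complement'_of_coprime (N := N.subgroupOf X)
          (by rw [hidx, hcN]; exact hNm)
        refine ⟨H'.map X.subtype, ?_⟩
        rw [Subgroup.card_map_of_injective X.subtype_injective, ← hH'.symm.index_eq_card, hidx]
      · have hinf : ∀ L : Subgroup G, Nat.card L ∣ m → ∀ x ∈ L, x ∈ N → x = 1 := fun L hL x hxL hxN =>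
          Subgroup.disjoint_def.mp
            (Subgroup.disjoint_of_coprime_natCard (hNm.coprime_dvd_right hL)) hxN hxL
        have hcard : ∀ L : Subgroup G, Nat.card L ∣ m → Nat.card (L.map π) = Nat.card L := fun L hL => by
          have hinj : Function.Injective (π.comp L.subtype) := by
            rw [injective_iff_map_eq_one]
            intro x hx
            exact Subtype.ext (hinf L hL x x.2 ((QuotientGroup.eq_one_iff _).mp hx))
          rw [show L.map π = (π.comp L.subtype).range by rw [MonoidHom.range_comp, Subgroup.range_subtype]]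
          exact (Nat.card_congr (MonoidHom.ofInjective hinj).toEquiv).symm
        obtain ⟨gb, hgb⟩ := hD (H.map π) (K.map π) ((hcard H (hH ▸ dvd_rfl)).trans hH)
          ((hcard K hK).symm ▸ hK)
        obtain ⟨g, rfl⟩ := QuotientGroup.mk'_surjective N gb
        set K' := MulAut.conj g • K with hK'
        have hK'm : Nat.card K' ∣ m := by rw [hK', card_conj_smul]; exact hK
        have hK'H : K' ≤ H ⊔ N := fun x hx => by
          rw [← hcomap H]
          exact hgb (mem_conj_smul_iff.mpr ⟨g⁻¹ * x * g, mem_conj_smul_iff.mp hx, by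
            rw [map_mul, map_mul, map_inv]⟩)
        set U := K' ⊔ N with hU
        haveI : IsMulCommutative (N.subgroupOf U) :=
          ⟨⟨fun x y => Subtype.ext (Subtype.ext (Subgroup.mul_comm_of_mem_isMulCommutative N x.2 y.2))⟩⟩
        have hcK : IsComplement' (N.subgroupOf U) (K'.subgroupOf U) := by
          refine isComplement'_of_disjoint_and_mul_eq_univ ?_ ?_
          · rw [Subgroup.disjoint_def]
            intro x hx hx'
            exact Subtype.ext (hinf K' hK'm x hx' hx)
          · refine Set.eq_univ_of_forall fun x => ?_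
            have hx : (x : G) ∈ N ⊔ K' := sup_comm K' N ▸ x.2
            obtain ⟨w, hw, k, hk, hwk⟩ := mem_sup_of_le_normalizer
              (A := K') (W := N) (Subgroup.le_normalizer_of_normal ..) hx
            exact Set.mem_mul.mpr ⟨⟨w, Subgroup.mem_sup_right hw⟩, hw, ⟨k, Subgroup.mem_sup_left hk⟩, hk,
              Subtype.ext hwk⟩
        have hcH : IsComplement' (N.subgroupOf U) ((H ⊓ U).subgroupOf U) := by
          refine isComplement'_of_disjoint_and_mul_eq_univ ?_ ?_
          · rw [Subgroup.disjoint_def]
            intro x hx hx'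
            exact Subtype.ext (hinf H (hH ▸ dvd_rfl) x hx'.1 hx)
          · refine Set.eq_univ_of_forall fun x => ?_
            have hx : (x : G) ∈ N ⊔ H :=
              (sup_le (sup_comm H N ▸ hK'H) le_sup_left : U ≤ N ⊔ H) x.2
            obtain ⟨w, hw, k, hk, hwk⟩ := mem_sup_of_le_normalizer
              (A := H) (W := N) (Subgroup.le_normalizer_of_normal ..) hx
            have hwU : w ∈ U := Subgroup.mem_sup_right hw
            have hkU : k ∈ U := by
              have h3 : k = w⁻¹ * (x : G) := by rw [← hwk]; group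
              rw [h3]
              exact U.mul_mem (U.inv_mem hwU) x.2
            exact Set.mem_mul.mpr ⟨⟨w, hwU⟩, hw, ⟨k, hkU⟩, ⟨hk, hkU⟩, Subtype.ext hwk⟩
        have hcN : Nat.card (N.subgroupOf U) = Nat.card N :=
          Nat.card_congr (Subgroup.subgroupOfEquivOfLe (le_sup_right : N ≤ U)).toEquiv
        have hcop : (Nat.card (N.subgroupOf U)).Coprime (N.subgroupOf U).index := by
          rw [hcN, hcK.symm.index_eq_card,
            Nat.card_congr (Subgroup.subgroupOfEquivOfLe (le_sup_left : K' ≤ U)).toEquiv]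
          exact hNm.coprime_dvd_right hK'm
        obtain ⟨u, -, hu⟩ := complements_conj_of_abelian hcop hcK hcH
        refine ⟨(u : G) * g, ?_⟩
        rw [← conj_smul_mul, conj_subgroupOf le_sup_left inf_le_right hu]
        exact inf_le_left

/-- Generalised Frattini argument. -/
theorem hall_frattini {G : Type u} [Group G] [Finite G] {L H : Subgroup G} [L.Normal]
    (hL : Group.IsSolvable L) (hHL : H ≤ L) (hHall : (Nat.card H).Coprime (H.relIndex L)) :
    L ⊔ Subgroup.normalizer (H : Set G) = ⊤ := by
  rw [eq_top_iff]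
  intro g _
  have hcard : Nat.card L = Nat.card H * H.relIndex L := by
    rw [Subgroup.relIndex, ← Nat.card_congr (Subgroup.subgroupOfEquivOfLe hHL).toEquiv]
    exact (Subgroup.card_mul_index _).symm
  have hgL : MulAut.conj g • H ≤ L := by
    intro x hx
    have := (inferInstance : L.Normal).conj_mem _ (hHL (mem_conj_smul_iff.mp hx)) g
    simpa [mul_assoc] using this
  obtain ⟨-, hD⟩ := hall_main (G := L) hcard hHall
  obtain ⟨l, hl⟩ := hD (H.subgroupOf L) ((MulAut.conj g • H).subgroupOf L)
    (Nat.card_congr (Subgroup.subgroupOfEquivOfLe hHL).toEquiv)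
    (by rw [Nat.card_congr (Subgroup.subgroupOfEquivOfLe hgL).toEquiv, card_conj_smul])
  have hle : MulAut.conj ((l : G) * g) • H ≤ H := by
    rw [← conj_smul_mul]
    intro x hx
    have hxL : x ∈ L := by
      have := L.mul_mem (L.mul_mem l.2 (hgL (mem_conj_smul_iff.mp hx))) (L.inv_mem l.2)
      simpa [mul_assoc] using this
    have hx' : (l : G)⁻¹ * x * l ∈ MulAut.conj g • H := mem_conj_smul_iff.mp hx
    have : (⟨x, hxL⟩ : L) ∈ MulAut.conj l • (MulAut.conj g • H).subgroupOf L :=
      (mem_conj_smul_iff (G := L)).mpr hx'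
    exact hl this
  have heq : MulAut.conj ((l : G) * g) • H = H :=
    Subgroup.eq_of_le_of_card_ge hle (card_conj_smul _ H).ge
  have hn : (l : G) * g ∈ Subgroup.normalizer (H : Set G) := by
    rw [Subgroup.mem_normalizer_iff]
    intro h
    conv_rhs => rw [← heq, mem_conj_smul_iff]
    simp [mul_assoc]
  have := Subgroup.mul_mem_sup (L.inv_mem l.2) hn
  simpa using this

end CfsgLib
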