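import Mathlib
import Cfsg.Prelude.Def_OddOrderLocal
import Cfsg.Agent.Lib.Coprime
import Cfsg.Agent.Lib.HallSolvable
import Cfsg.Agent.Lib.Elementary
import Cfsg.Agent.Lib.Basic
import Cfsg.Agent.Lib.PRegularClass

/-!
Hall `π`-subgroups of solvable groups and coprime action.
-/

set_option autoImplicit false

namespace CfsgLib

open Subgroup Cfsg
open scoped Pointwise

universe u

theorem exists_pi_split (π : Set ℕ) (n : ℕ) (hn : n ≠ 0) :
    ∃ a b : ℕ, n = a * b ∧ a.Coprime b ∧ (∀ p : ℕ, p.Prime → p ∣ a → p ∈ π) ∧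
      (∀ p : ℕ, p.Prime → p ∣ b → p ∉ π) := by
  induction n using Nat.recOnPosPrimePosCoprime with
  | prime_pow p k hp hk =>
    by_cases h : p ∈ π
    · exact ⟨p ^ k, 1, by simp, Nat.coprime_one_right _,
        fun q hq hd => (Nat.prime_dvd_prime_iff_eq hq hp).mp (hq.dvd_of_dvd_pow hd) ▸ h,
        fun q hq hd => absurd (Nat.dvd_one.mp hd) hq.ne_one⟩
    · exact ⟨1, p ^ k, by simp, Nat.coprime_one_left _,
        fun q hq hd => absurd (Nat.dvd_one.mp hd) hq.ne_one,
        fun q hq hd => (Nat.prime_dvd_prime_iff_eq hq hp).mp (hq.dvd_of_dvd_pow hd) ▸ h⟩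
  | zero => exact absurd rfl hn
  | one => exact ⟨1, 1, rfl, Nat.coprime_one_left _, fun q hq hd => absurd (Nat.dvd_one.mp hd) hq.ne_one,
      fun q hq hd => absurd (Nat.dvd_one.mp hd) hq.ne_one⟩
  | coprime x y hx hy _ ihx ihy =>
    obtain ⟨a, b, rfl, -, h1, h2⟩ := ihx (by omega)
    obtain ⟨c, d, rfl, -, h3, h4⟩ := ihy (by omega)
    have key : ∀ p : ℕ, p.Prime → p ∣ a * c → p ∈ π := fun p hp hd =>
      (hp.dvd_mul.mp hd).elim (h1 p hp) (h3 p hp)
    have key' : ∀ p : ℕ, p.Prime → p ∣ b * d → p ∉ π := fun p hp hd =>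
      (hp.dvd_mul.mp hd).elim (h2 p hp) (h4 p hp)
    exact ⟨a * c, b * d, by ring,
      Nat.coprime_of_dvd fun p hp hd hd' => key' p hp hd' (key p hp hd), key, key'⟩

theorem coprime_of_pi {π : Set ℕ} {a b : ℕ} (h1 : ∀ p : ℕ, p.Prime → p ∣ a → p ∈ π)
    (h2 : ∀ p : ℕ, p.Prime → p ∈ π → ¬ p ∣ b) : a.Coprime b :=
  Nat.coprime_of_dvd fun p hp hd hd' => h2 p hp (h1 p hp hd) hd'

variable {X : Type u} [Group X] [Finite X]

theorem card_mul_relIndex {H M : Subgroup X} (h : H ≤ M) :
    Nat.card H * H.relIndex M = Nat.card M := by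
  rw [← Nat.card_congr (Subgroup.subgroupOfEquivOfLe h).toEquiv]
  exact Subgroup.card_mul_index _

/-- A subgroup of the right order is a Hall subgroup, and conversely. -/
theorem isPiHallOf_iff_card {π : Set ℕ} {a b : ℕ} {H M : Subgroup X} (hM : Nat.card M = a * b)
    (ha : ∀ p : ℕ, p.Prime → p ∣ a → p ∈ π) (hb : ∀ p : ℕ, p.Prime → p ∣ b → p ∉ π) :
    IsPiHallOf π H M ↔ H ≤ M ∧ Nat.card H = a := by
  constructor
  · rintro ⟨hle, h1, h2⟩
    have he := card_mul_relIndex hle
    rw [hM] at he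
    refine ⟨hle, Nat.dvd_antisymm ?_ ?_⟩
    · exact (coprime_of_pi h1 fun p hp hpπ hd => hb p hp hd hpπ).dvd_of_dvd_mul_right (he ▸ dvd_mul_right _ _)
    · exact (coprime_of_pi ha h2).dvd_of_dvd_mul_right (he ▸ dvd_mul_right a b)
  · rintro ⟨hle, hc⟩
    have he := card_mul_relIndex hle
    rw [hM, hc] at he
    refine ⟨hle, fun p hp hd => ha p hp (hc ▸ hd), fun p hp hpπ hd => hb p hp ?_ hpπ⟩
    rw [mul_left_cancel₀ (hc ▸ Nat.card_pos.ne') he] at hd
    exact hd

/-- Hall's theorem: existence. -/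
theorem exists_isPiHallOf (π : Set ℕ) {M : Subgroup X} (hM : Group.IsSolvable M) :
    ∃ H : Subgroup X, IsPiHallOf π H M := by
  obtain ⟨a, b, hab, hcop, ha, hb⟩ := exists_pi_split π (Nat.card M) Nat.card_pos.ne'
  obtain ⟨⟨H, hH⟩, -⟩ := hall_main (G := M) hab hcop
  refine ⟨H.map M.subtype, (isPiHallOf_iff_card hab ha hb).mpr ⟨Subgroup.map_subtype_le _, ?_⟩⟩
  rw [Subgroup.card_map_of_injective M.subtype_injective, hH]

/-- Hall's theorem: every `π`-subgroup is conjugate into a given Hall `π`-subgroup. -/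
theorem pi_le_conj_hall {π : Set ℕ} {M H U : Subgroup X} (hM : Group.IsSolvable M)
    (hH : IsPiHallOf π H M) (hUM : U ≤ M) (hU : ∀ p : ℕ, p.Prime → p ∣ Nat.card U → p ∈ π) :
    ∃ g ∈ M, MulAut.conj g • U ≤ H := by
  obtain ⟨a, b, hab, hcop, ha, hb⟩ := exists_pi_split π (Nat.card M) Nat.card_pos.ne'
  obtain ⟨hHM, hHc⟩ := (isPiHallOf_iff_card hab ha hb).mp hH
  have hUd : Nat.card U ∣ a :=
    (coprime_of_pi hU fun p hp hpπ hd => hb p hp hd hpπ).dvd_of_dvd_mul_right
      (hab ▸ Subgroup.card_dvd_of_le hUM)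
  obtain ⟨-, hdom⟩ := hall_main (G := M) hab hcop
  obtain ⟨g, hg⟩ := hdom (H.subgroupOf M) (U.subgroupOf M)
    (by rw [Nat.card_congr (Subgroup.subgroupOfEquivOfLe hHM).toEquiv, hHc])
    (by rw [Nat.card_congr (Subgroup.subgroupOfEquivOfLe hUM).toEquiv]; exact hUd)
  refine ⟨g, g.2, fun x hx => ?_⟩
  rw [mem_conj_smul_iff] at hx
  have hxM : x ∈ M := by
    have := M.mul_mem (M.mul_mem g.2 (hUM hx)) (M.inv_mem g.2)
    simpa [mul_assoc] using this
  have h1 : (⟨x, hxM⟩ : M) ∈ MulAut.conj g • U.subgroupOf M := (mem_conj_smul_iff (G := M)).mpr hx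
  exact hg h1

theorem card_eq_of_isPiHallOf {π : Set ℕ} {M H K : Subgroup X} (hH : IsPiHallOf π H M)
    (hK : IsPiHallOf π K M) : Nat.card H = Nat.card K := by
  obtain ⟨a, b, hab, -, ha, hb⟩ := exists_pi_split π (Nat.card M) Nat.card_pos.ne'
  rw [((isPiHallOf_iff_card hab ha hb).mp hH).2, ((isPiHallOf_iff_card hab ha hb).mp hK).2]

theorem isPiHallOf_conj_smul {π : Set ℕ} {M H : Subgroup X} (hH : IsPiHallOf π H M) {g : X}
    (hg : g ∈ Subgroup.normalizer (M : Set X)) : IsPiHallOf π (MulAut.conj g • H) M := by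
  obtain ⟨a, b, hab, -, ha, hb⟩ := exists_pi_split π (Nat.card M) Nat.card_pos.ne'
  obtain ⟨hHM, hHc⟩ := (isPiHallOf_iff_card hab ha hb).mp hH
  refine (isPiHallOf_iff_card hab ha hb).mpr ⟨fun x hx => ?_, by rw [card_conj_smul, hHc]⟩
  rw [mem_conj_smul_iff] at hx
  have := (Subgroup.mem_normalizer_iff.mp hg _).mp (hHM hx)
  simpa [mul_assoc] using this

/-- A complement of `G` in `G A` is a conjugate of `A`. -/
theorem exists_conj_complement {A G B : Subgroup X} (hAG : A ≤ Subgroup.normalizer (G : Set X))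
    (hcop : (Nat.card A).Coprime (Nat.card G)) (hsolv : Group.IsSolvable A ∨ Group.IsSolvable G)
    (hB : B ≤ G ⊔ A) (hBc : Nat.card B = Nat.card A) : ∃ g ∈ G, MulAut.conj g • A = B := by
  have hdisj : ∀ x ∈ A, x ∈ G → x = 1 := fun x hxA hxK =>
    Subgroup.disjoint_def.mp (Subgroup.disjoint_of_coprime_natCard hcop) hxA hxK
  set U := G ⊔ A with hU
  have hWn : (G.subgroupOf U).Normal :=
    (Subgroup.normal_subgroupOf_iff_le_normalizer le_sup_left).mpr (sup_le Subgroup.le_normalizer hAG)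
  have hcA : IsComplement' (G.subgroupOf U) (A.subgroupOf U) := by
    refine isComplement'_of_disjoint_and_mul_eq_univ ?_ ?_
    · rw [Subgroup.disjoint_def]
      intro x hx hx'
      exact Subtype.ext (hdisj x hx' hx)
    · refine Set.eq_univ_of_forall fun x => ?_
      obtain ⟨w, hw, a, ha, hwa⟩ := mem_sup_of_le_normalizer hAG x.2
      exact Set.mem_mul.mpr ⟨⟨w, Subgroup.mem_sup_left hw⟩, hw, ⟨a, Subgroup.mem_sup_right ha⟩, ha,
        Subtype.ext hwa⟩
  have hcA' : Nat.card (A.subgroupOf U) = Nat.card A :=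
    Nat.card_congr (Subgroup.subgroupOfEquivOfLe (le_sup_right : A ≤ U)).toEquiv
  have hcop' : (Nat.card (G.subgroupOf U)).Coprime (G.subgroupOf U).index := by
    rw [hcA.symm.index_eq_card, hcA',
      Nat.card_congr (Subgroup.subgroupOfEquivOfLe (le_sup_left : G ≤ U)).toEquiv]
    exact hcop.symm
  have hsolv' : Group.IsSolvable (G.subgroupOf U) ∨ Group.IsSolvable (U ⧸ G.subgroupOf U) := by
    rcases hsolv with hs | hs
    · right
      refine Group.isSolvable_of_surjective
        (f := hcA.symm.QuotientMulEquiv.symm.toMonoidHom.comp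
          (Subgroup.subgroupOfEquivOfLe (le_sup_right : A ≤ U)).symm.toMonoidHom) ?_
      exact hcA.symm.QuotientMulEquiv.symm.surjective.comp (Subgroup.subgroupOfEquivOfLe _).symm.surjective
    · left
      exact Group.isSolvable_of_isSolvable_injective
        (f := (Subgroup.subgroupOfEquivOfLe (le_sup_left : G ≤ U)).toMonoidHom)
        (Subgroup.subgroupOfEquivOfLe _).injective
  have hcB : IsComplement' (G.subgroupOf U) (B.subgroupOf U) := by
    refine isComplement'_of_card hcop' ?_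
    rw [Nat.card_congr (Subgroup.subgroupOfEquivOfLe hB).toEquiv, hcA.symm.index_eq_card, hcA', hBc]
  obtain ⟨w, hw, hwA⟩ := complements_conj_mem hcop' hsolv' hcA hcB
  exact ⟨w, hw, conj_subgroupOf le_sup_right hB hwA⟩

/-- Glauberman: existence of an `A`-fixed point among the `G`-conjugates of `H`. -/
theorem exists_invariant_conj {A G H : Subgroup X} (hAG : A ≤ Subgroup.normalizer (G : Set X))
    (hcop : (Nat.card A).Coprime (Nat.card G)) (hsolv : Group.IsSolvable A ∨ Group.IsSolvable G)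
    (h : ∀ a ∈ A, ∃ g ∈ G, MulAut.conj a • H = MulAut.conj g • H) :
    ∃ g ∈ G, A ≤ Subgroup.normalizer ((MulAut.conj g • H : Subgroup X) : Set X) := by
  set L := G ⊔ A with hL
  set M := L ⊓ Subgroup.normalizer (H : Set X) with hM
  have hLG : L ≤ Subgroup.normalizer (G : Set X) := sup_le Subgroup.le_normalizer hAG
  have hGn : (G.subgroupOf L).Normal := (Subgroup.normal_subgroupOf_iff_le_normalizer le_sup_left).mpr hLG
  have hMG : G ⊔ M = L := by
    refine le_antisymm (sup_le le_sup_left inf_le_left) (sup_le le_sup_left fun a ha => ?_)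
    obtain ⟨g, hg, hga⟩ := h a ha
    have hn : g⁻¹ * a ∈ M := by
      refine Subgroup.mem_inf.mpr ⟨mul_mem (inv_mem (Subgroup.mem_sup_left hg)) (Subgroup.mem_sup_right ha), ?_⟩
      have heq : MulAut.conj (g⁻¹ * a) • H = H := by
        rw [← conj_smul_mul, hga, conj_smul_mul, inv_mul_cancel, map_one, one_smul]
      rw [Subgroup.mem_normalizer_iff]
      intro x
      conv_rhs => rw [← heq, mem_conj_smul_iff]
      simp [mul_assoc]
    have := Subgroup.mul_mem_sup hg hn
    rwa [mul_inv_cancel_left] at this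
  have hkey : ∀ Y : Subgroup X, Y ≤ L → G ⊔ Y = L → G.relIndex Y = G.relIndex L := by
    intro Y hY hGY
    have h1 := Subgroup.relIndex_sup_right (H := Y.subgroupOf L) (K := G.subgroupOf L)
    rw [← Subgroup.subgroupOf_sup hY (le_sup_left : G ≤ L), sup_comm Y G, hGY, Subgroup.subgroupOf_self,
      Subgroup.relIndex_subgroupOf hY, Subgroup.relIndex_top_right] at h1
    exact h1.symm
  have hA : G.relIndex A = Nat.card A := by
    rw [← Subgroup.inf_relIndex_right,
      (Subgroup.disjoint_of_coprime_natCard hcop).symm.eq_bot, Subgroup.relIndex_bot_left]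
  have hidx : (G.subgroupOf M).index = Nat.card A := by
    show G.relIndex M = _
    rw [hkey M inf_le_left hMG, ← hkey A le_sup_right rfl, hA]
  have hMn : (G.subgroupOf M).Normal :=
    Subgroup.normal_subgroupOf_of_le_normalizer (inf_le_left.trans hLG)
  obtain ⟨A₁, hA₁⟩ := Subgroup.exists_right_complement'_of_coprime (N := G.subgroupOf M) (by
    rw [hidx]
    exact hcop.symm.coprime_dvd_left (card_comap_dvd_of_injective G M.subtype M.subtype_injective))
  obtain ⟨g, hg, hgA⟩ := exists_conj_complement hAG hcop hsolv (B := A₁.map M.subtype)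
    ((Subgroup.map_subtype_le _).trans inf_le_left)
    (by rw [Subgroup.card_map_of_injective M.subtype_injective, ← hA₁.symm.index_eq_card, hidx])
  refine ⟨g⁻¹, inv_mem hg, fun a ha => ?_⟩
  have h1 : g * a * g⁻¹ ∈ A₁.map M.subtype := by
    rw [← hgA, mem_conj_smul_iff]
    simpa [mul_assoc] using ha
  have h2 := Subgroup.mem_normalizer_iff.mp (Subgroup.mem_inf.mp (Subgroup.map_subtype_le A₁ h1)).2
  rw [Subgroup.mem_normalizer_iff]
  intro x
  rw [mem_conj_smul_iff, mem_conj_smul_iff, h2 (g⁻¹⁻¹ * x * g⁻¹)]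
  refine iff_of_eq (congrArg (· ∈ H) ?_)
  group

/-- Glauberman: two `A`-fixed `G`-conjugates are conjugate under `C_G(A)`. -/
theorem exists_centralizer_conj {A G H : Subgroup X} (hAG : A ≤ Subgroup.normalizer (G : Set X))
    (hcop : (Nat.card A).Coprime (Nat.card G)) (hsolv : Group.IsSolvable A ∨ Group.IsSolvable G)
    {k : X} (hk : k ∈ G) (hH : A ≤ Subgroup.normalizer (H : Set X))
    (hkH : A ≤ Subgroup.normalizer ((MulAut.conj k • H : Subgroup X) : Set X)) :
    ∃ c ∈ G ⊓ Subgroup.centralizer (A : Set X), MulAut.conj c • H = MulAut.conj k • H := by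
  set W := G ⊓ Subgroup.normalizer (H : Set X) with hW
  have hAW : A ≤ Subgroup.normalizer (W : Set X) := by
    intro a ha
    rw [Subgroup.mem_normalizer_iff]
    intro x
    have h1 := Subgroup.mem_normalizer_iff.mp (hAG ha) x
    have h2 : x ∈ Subgroup.normalizer (H : Set X) ↔ a * x * a⁻¹ ∈ Subgroup.normalizer (H : Set X) := by
      constructor
      · intro hx; exact mul_mem (mul_mem (hH ha) hx) (inv_mem (hH ha))
      · intro hx
        have := mul_mem (mul_mem (inv_mem (hH ha)) hx) (hH ha)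
        simpa [mul_assoc] using this
    simp only [hW, Subgroup.mem_inf]
    rw [h1, h2]
  obtain ⟨w, hw, hc⟩ := coprime_key hAG hcop hsolv inf_le_left hAW hk (fun a ha => by
    have hn : k⁻¹ * a * k ∈ Subgroup.normalizer (H : Set X) := by
      rw [Subgroup.mem_normalizer_iff]
      intro x
      have h2 := Subgroup.mem_normalizer_iff.mp (hkH ha) (k * x * k⁻¹)
      rw [mem_conj_smul_iff, mem_conj_smul_iff] at h2
      simpa [mul_assoc] using h2
    have hwK : k⁻¹ * a * k * a⁻¹ ∈ W := by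
      refine Subgroup.mem_inf.mpr ⟨?_, mul_mem hn (inv_mem (hH ha))⟩
      have := G.mul_mem (G.inv_mem hk) ((Subgroup.mem_normalizer_iff.mp (hAG ha) _).mp hk)
      simpa [mul_assoc] using this
    simpa using Subgroup.mul_mem_sup hwK ha)
  refine ⟨k * w, Subgroup.mem_inf.mpr ⟨G.mul_mem hk hw.1, hc⟩, ?_⟩
  rw [← conj_smul_mul]
  congr 1
  ext x
  rw [mem_conj_smul_iff]
  exact (Subgroup.mem_normalizer_iff''.mp hw.2 x).symm

/-- Coprime action: an invariant Hall subgroup exists. -/
theorem exists_invariant_hall (π : Set ℕ) {A G : Subgroup X} (hAG : A ≤ Subgroup.normalizer (G : Set X))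
    (hcop : (Nat.card A).Coprime (Nat.card G)) (hsolv : Group.IsSolvable G) :
    ∃ H : Subgroup X, IsPiHallOf π H G ∧ A ≤ Subgroup.normalizer (H : Set X) := by
  obtain ⟨H, hH⟩ := exists_isPiHallOf π hsolv
  obtain ⟨g, hg, hgA⟩ := exists_invariant_conj hAG hcop (Or.inr hsolv) (H := H) (fun a ha => by
    have h1 := isPiHallOf_conj_smul hH (hAG ha)
    obtain ⟨g, hg, hle⟩ := pi_le_conj_hall hsolv hH h1.1 h1.2.1
    have heq := Subgroup.eq_of_le_of_card_ge hle (by rw [card_conj_smul, card_conj_smul])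
    refine ⟨g⁻¹, inv_mem hg, ?_⟩
    conv_rhs => rw [← heq]
    rw [conj_smul_mul, conj_smul_mul, inv_mul_cancel, one_mul])
  exact ⟨_, isPiHallOf_conj_smul hH (Subgroup.le_normalizer hg), hgA⟩

/-- Coprime action: invariant Hall subgroups are conjugate under the fixed points. -/
theorem invariant_hall_conj {π : Set ℕ} {A G : Subgroup X} (hAG : A ≤ Subgroup.normalizer (G : Set X))
    (hcop : (Nat.card A).Coprime (Nat.card G)) (hsolv : Group.IsSolvable G) {H K : Subgroup X}
    (hH : IsPiHallOf π H G) (hHA : A ≤ Subgroup.normalizer (H : Set X))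
    (hK : IsPiHallOf π K G) (hKA : A ≤ Subgroup.normalizer (K : Set X)) :
    ∃ c ∈ G ⊓ Subgroup.centralizer (A : Set X), MulAut.conj c • H = K := by
  obtain ⟨g, hg, hle⟩ := pi_le_conj_hall hsolv hK hH.1 hH.2.1
  have heq := Subgroup.eq_of_le_of_card_ge hle (by rw [card_conj_smul, card_eq_of_isPiHallOf hH hK])
  obtain ⟨c, hc, hceq⟩ := exists_centralizer_conj hAG hcop (Or.inr hsolv) hg hHA (heq.symm ▸ hKA)
  exact ⟨c, hc, hceq.trans heq⟩

theorem normalizer_conj_of_centralizes {A H : Subgroup X} {c : X}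
    (hc : c ∈ Subgroup.centralizer (A : Set X)) (hH : A ≤ Subgroup.normalizer (H : Set X)) :
    A ≤ Subgroup.normalizer ((MulAut.conj c • H : Subgroup X) : Set X) := by
  intro a ha
  rw [Subgroup.mem_normalizer_iff]
  intro x
  have hac : a * c = c * a := Subgroup.mem_centralizer_iff.mp hc a ha
  rw [mem_conj_smul_iff, mem_conj_smul_iff, Subgroup.mem_normalizer_iff.mp (hH ha) (c⁻¹ * x * c)]
  refine iff_of_eq (congrArg (· ∈ H) ?_)
  calc a * (c⁻¹ * x * c) * a⁻¹ = c⁻¹ * (c * a) * c⁻¹ * x * (a * c⁻¹)⁻¹ := by group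
    _ = c⁻¹ * (a * c) * c⁻¹ * x * (a * c⁻¹)⁻¹ := by rw [hac]
    _ = c⁻¹ * (a * x) * (c * a⁻¹) := by group
    _ = c⁻¹ * (a * x) * (a⁻¹ * c) := by
        congr 1
        calc c * a⁻¹ = a⁻¹ * (a * c) * a⁻¹ := by group
          _ = a⁻¹ * (c * a) * a⁻¹ := by rw [hac]
          _ = a⁻¹ * c := by group
    _ = c⁻¹ * (a * x * a⁻¹) * c := by group

/-- Coprime action: an invariant `π`-subgroup lies in an invariant Hall subgroup. -/
theorem le_invariant_hall {π : Set ℕ} {A G U : Subgroup X} (hAG : A ≤ Subgroup.normalizer (G : Set X))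
    (hcop : (Nat.card A).Coprime (Nat.card G)) (hsolv : Group.IsSolvable G) (hUG : U ≤ G)
    (hUA : A ≤ Subgroup.normalizer (U : Set X)) (hU : ∀ p : ℕ, p.Prime → p ∣ Nat.card U → p ∈ π) :
    ∃ H : Subgroup X, IsPiHallOf π H G ∧ A ≤ Subgroup.normalizer (H : Set X) ∧ U ≤ H := by
  induction hn : Nat.card G using Nat.strong_induction_on generalizing X with
  | h n ih =>
  subst hn
  rcases eq_or_ne G ⊥ with hG0 | hG0
  · obtain ⟨H, hH, hHA⟩ := exists_invariant_hall π hAG hcop hsolv
    refine ⟨H, hH, hHA, hUG.trans ?_⟩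
    rw [hG0]; exact bot_le
  have : Nontrivial G := (Subgroup.nontrivial_iff_ne_bot G).mpr hG0
  obtain ⟨T, hTn, -, hT0, hmin⟩ := exists_minimal_normal (N := (⊤ : Subgroup G)) top_ne_bot
  obtain ⟨-, q, hq, hTq⟩ := minimal_normal_elementary (N := T) hT0 inferInstance hmin
  have := Fact.mk hq
  have hTp : IsPGroup q T := fun y => ⟨1, Subtype.ext (by simpa using hTq y y.2)⟩
  -- an invariant normal `q`-subgroup
  set C := pCore q G with hC
  have hC0 : C ≠ ⊥ := fun e => hT0 (le_bot_iff.mp (e ▸ le_pCore hTp))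
  set N := C.map G.subtype with hN
  have hNc : Nat.card N = Nat.card C := Subgroup.card_map_of_injective G.subtype_injective
  obtain ⟨k, hk⟩ := (isPGroup_pCore (G := G) q).exists_card_eq
  have hk0 : k ≠ 0 := fun h0 => hC0 (Subgroup.card_eq_one.mp (by rw [hk, h0, pow_zero]))
  have hNG : N ≤ G := Subgroup.map_subtype_le _
  have hnormN : Subgroup.normalizer (G : Set X) ≤ Subgroup.normalizer (N : Set X) := by
    intro g hg
    have hle : ∀ h ∈ Subgroup.normalizer (G : Set X), ∀ x ∈ N, h * x * h⁻¹ ∈ N := by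
      intro h hh
      let φ : G ≃* G :=
        { toFun := fun z => ⟨h * z * h⁻¹, (Subgroup.mem_normalizer_iff.mp hh _).mp z.2⟩
          invFun := fun z => ⟨h⁻¹ * z * h, (Subgroup.mem_normalizer_iff''.mp hh _).mp z.2⟩
          left_inv := fun z => by ext; simp [mul_assoc]
          right_inv := fun z => by ext; simp [mul_assoc]
          map_mul' := fun z w => by ext; simp [mul_assoc] }
      rintro _ ⟨y, hy, rfl⟩
      refine ⟨φ y, ?_, rfl⟩
      rw [SetLike.mem_coe, hC, ← pCore_map_equiv q φ]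
      exact ⟨y, hy, rfl⟩
    rw [Subgroup.mem_normalizer_iff]
    intro x
    refine ⟨hle g hg x, fun hx => ?_⟩
    have := hle g⁻¹ (inv_mem hg) _ hx
    simpa [mul_assoc] using this
  have hAN : A ≤ Subgroup.normalizer (N : Set X) := hAG.trans hnormN
  -- work modulo `N`
  set Y := Subgroup.normalizer (N : Set X) with hY
  have hGY : G ≤ Y := Subgroup.le_normalizer.trans hnormN
  haveI : (N.subgroupOf Y).Normal := Subgroup.normal_in_normalizer
  set f := QuotientGroup.mk' (N.subgroupOf Y) with hf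
  set G₁ := (G.subgroupOf Y).map f with hG₁
  set A₁ := (A.subgroupOf Y).map f with hA₁
  set U₁ := (U.subgroupOf Y).map f with hU₁
  have hdvd : ∀ Z : Subgroup X, Z ≤ Y → Nat.card ((Z.subgroupOf Y).map f) ∣ Nat.card Z := fun Z hZ =>
    (Subgroup.card_map_dvd _ _).trans (dvd_of_eq (Nat.card_congr (Subgroup.subgroupOfEquivOfLe hZ).toEquiv))
  have hnorm : ∀ Z : Subgroup X, A ≤ Subgroup.normalizer (Z : Set X) →
      A₁ ≤ Subgroup.normalizer (((Z.subgroupOf Y).map f : Subgroup _) : Set (Y ⧸ N.subgroupOf Y)) := by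
    intro Z hZ
    refine le_trans (Subgroup.map_mono ?_) (Subgroup.le_normalizer_map f)
    intro a ha
    rw [Subgroup.mem_normalizer_iff]
    intro z
    exact Subgroup.mem_normalizer_iff.mp (hZ ha) z
  have hsolv₁ : Group.IsSolvable G₁ := by
    haveI : Group.IsSolvable (G.subgroupOf Y) := Group.isSolvable_of_isSolvable_injective
      (f := (Subgroup.subgroupOfEquivOfLe hGY).toMonoidHom) (Subgroup.subgroupOfEquivOfLe _).injective
    exact Group.isSolvable_of_surjective (f := f.subgroupMap (G.subgroupOf Y)) (f.subgroupMap_surjective _)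
  have hN₁ : N.subgroupOf Y ≤ G.subgroupOf Y := Subgroup.comap_mono hNG
  have hG₁c : G₁.comap f = G.subgroupOf Y := by
    rw [hG₁, Subgroup.comap_map_eq_self]
    rwa [hf, QuotientGroup.ker_mk']
  have hNcY : Nat.card (N.subgroupOf Y) = Nat.card N :=
    Nat.card_congr (Subgroup.subgroupOfEquivOfLe (hNG.trans hGY)).toEquiv
  have hGc : Nat.card G = Nat.card G₁ * Nat.card N := by
    rw [← Nat.card_congr (Subgroup.subgroupOfEquivOfLe hGY).toEquiv, ← hG₁c, hf, card_comap_mk, hNcY, mul_comm]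
  have hlt : Nat.card G₁ < Nat.card G := by
    rw [hGc]
    exact lt_mul_of_one_lt_right Nat.card_pos (by rw [hNc, hk]; exact Nat.one_lt_pow hk0 hq.one_lt)
  obtain ⟨H₁, hH₁, hH₁A, hUH₁⟩ := ih _ hlt (X := Y ⧸ N.subgroupOf Y) (A := A₁) (G := G₁) (U := U₁)
    (hnorm G hAG) ((hcop.coprime_dvd_left (hdvd A (hAG.trans hnormN))).coprime_dvd_right (hdvd G hGY))
    hsolv₁ (Subgroup.map_mono (Subgroup.comap_mono hUG)) (hnorm U hUA)
    (fun p hp hd => hU p hp (hd.trans (hdvd U (hUG.trans hGY)))) rfl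
  set L := (H₁.comap f).map Y.subtype with hL
  have hLG : L ≤ G := by
    rintro _ ⟨y, hy, rfl⟩
    have : y ∈ G₁.comap f := Subgroup.comap_mono hH₁.1 hy
    rw [hG₁c] at this
    exact this
  have hUL : U ≤ L := fun x hx => ⟨⟨x, hGY (hUG hx)⟩, hUH₁ ⟨_, hx, rfl⟩, rfl⟩
  have hLA : A ≤ Subgroup.normalizer (L : Set X) := by
    intro a ha
    have h2 : f ⟨a, hAN ha⟩ ∈ Subgroup.normalizer (H₁ : Set (Y ⧸ N.subgroupOf Y)) :=
      hH₁A ⟨⟨a, hAN ha⟩, ha, rfl⟩
    rw [Subgroup.mem_normalizer_iff] at h2 ⊢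
    intro x
    constructor
    · rintro ⟨y, hy, rfl⟩
      refine ⟨⟨a, hAN ha⟩ * y * ⟨a, hAN ha⟩⁻¹, ?_, rfl⟩
      rw [SetLike.mem_coe, Subgroup.mem_comap, map_mul, map_mul, map_inv]
      exact (h2 _).mp hy
    · rintro ⟨y, hy, hyx⟩
      refine ⟨(⟨a, hAN ha⟩ : Y)⁻¹ * y * ⟨a, hAN ha⟩, ?_, ?_⟩
      · rw [SetLike.mem_coe, Subgroup.mem_comap, map_mul, map_mul, map_inv, h2]
        convert (Subgroup.mem_comap.mp hy) using 1
        group
      · simp only [Subgroup.coe_subtype] at hyx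
        simp [hyx, mul_assoc]
  have hLc : Nat.card L = Nat.card H₁ * Nat.card N := by
    rw [hL, Subgroup.card_map_of_injective Y.subtype_injective, hf, card_comap_mk, hNcY, mul_comm]
  obtain ⟨a, b, hab, -, ha, hb⟩ := exists_pi_split π (Nat.card G₁) Nat.card_pos.ne'
  have hH₁c := ((isPiHallOf_iff_card hab ha hb).mp hH₁).2
  have hsolvL : Group.IsSolvable L := Group.isSolvable_of_isSolvable_injective
    (f := Subgroup.inclusion hLG) (Subgroup.inclusion_injective _)
  by_cases hqπ : q ∈ π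
  · refine ⟨L, ?_, hLA, hUL⟩
    refine (isPiHallOf_iff_card (a := a * Nat.card N) (b := b) ?_ (fun p hp hd => ?_) hb).mpr ⟨hLG, ?_⟩
    · rw [hGc, hab]; ring
    · rcases hp.dvd_mul.mp hd with h1 | h1
      · exact ha p hp h1
      · rw [hNc, hk] at h1
        exact (Nat.prime_dvd_prime_iff_eq hp hq).mp (hp.dvd_of_dvd_pow h1) ▸ hqπ
    · rw [hLc, hH₁c]
  · have hbN : ∀ p : ℕ, p.Prime → p ∣ b * Nat.card N → p ∉ π := fun p hp hd => by
      rcases hp.dvd_mul.mp hd with h1 | h1
      · exact hb p hp h1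
      · rw [hNc, hk] at h1
        exact (Nat.prime_dvd_prime_iff_eq hp hq).mp (hp.dvd_of_dvd_pow h1) ▸ hqπ
    have hNπ : ∀ p : ℕ, p.Prime → p ∣ Nat.card N → p ∉ π := fun p hp hd => hbN p hp (dvd_mul_of_dvd_right hd b)
    by_cases hLG' : L = G
    · -- `G / N` is a `π`-group
      have hbc : Nat.card H₁ = Nat.card G₁ := by
        have h1 := hGc
        rw [← hLG', hLc] at h1
        exact mul_right_cancel₀ Nat.card_pos.ne' h1
      obtain ⟨H, hH, hHA⟩ := exists_invariant_hall π hAG hcop hsolv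
      have hNUle : N ⊔ U ≤ G := sup_le hNG hUG
      have hUn : U ≤ Subgroup.normalizer (N : Set X) := hUG.trans hGY
      have hVA : A ≤ Subgroup.normalizer ((N ⊔ U : Subgroup X) : Set X) :=
        le_trans (le_inf hAN hUA) (Subgroup.normalizer_inf_normalizer_le_normalizer_sup N U)
      have hVsolv : Group.IsSolvable (N ⊔ U : Subgroup X) := Group.isSolvable_of_isSolvable_injective
        (f := Subgroup.inclusion hNUle) (Subgroup.inclusion_injective _)
      have hUcard : Nat.card (N ⊔ U : Subgroup X) = Nat.card U * Nat.card N := by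
        have hd : Disjoint N U := Subgroup.disjoint_of_coprime_natCard
          (coprime_of_pi hU fun p hp hpπ hd => hNπ p hp hd hpπ).symm
        have e : Nat.card (N ⊔ U : Subgroup X) = Set.ncard ((N : Set X) * (U : Set X)) := by
          rw [← Subgroup.coe_mul_of_right_le_normalizer_left N U hUn]
          exact Nat.card_coe_set_eq _
        rw [e, ← Nat.card_coe_set_eq]
        let m : N × U → ((N : Set X) * (U : Set X) : Set X) := fun z =>
          ⟨z.1 * z.2, Set.mem_mul.mpr ⟨_, z.1.2, _, z.2.2, rfl⟩⟩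
        have hm : Function.Bijective m := by
          refine ⟨fun u v huv => Subgroup.mul_injective_of_disjoint hd (congrArg Subtype.val huv), ?_⟩
          rintro ⟨_, x, hx, y, hy, rfl⟩
          exact ⟨(⟨x, hx⟩, ⟨y, hy⟩), rfl⟩
        rw [← Nat.card_eq_of_bijective m hm, Nat.card_prod, mul_comm]
      have hUhall : IsPiHallOf π U (N ⊔ U) := (isPiHallOf_iff_card hUcard hU hNπ).mpr ⟨le_sup_right, rfl⟩
      have hcopV : (Nat.card A).Coprime (Nat.card (N ⊔ U : Subgroup X)) :=
        hcop.coprime_dvd_right (Subgroup.card_dvd_of_le hNUle)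
      have hKH : IsPiHallOf π (H ⊓ (N ⊔ U)) (N ⊔ U) := by
        refine (isPiHallOf_iff_card hUcard hU hNπ).mpr ⟨inf_le_right, ?_⟩
        have hHc : Nat.card H = Nat.card G₁ := by
          refine ((isPiHallOf_iff_card (a := a) (b := b * Nat.card N) ?_ ha hbN).mp hH).2.trans ?_
          · rw [hGc, hab]; ring
          · rw [← hbc, hH₁c]
        have hd : Disjoint N H := Subgroup.disjoint_of_coprime_natCard
          (coprime_of_pi hH.2.1 fun p hp hpπ hd => hNπ p hp hd hpπ).symm
        -- every element of `U` is congruent to one of `H` modulo `N`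
        have htop : ∀ x ∈ G, ∃ n ∈ N, ∃ h ∈ H, n * h = x := by
          let m : N × H → G := fun z => ⟨z.1 * z.2, G.mul_mem (hNG z.1.2) (hH.1 z.2.2)⟩
          have hm : Function.Bijective m := by
            refine (Nat.bijective_iff_injective_and_card m).mpr ⟨fun u v huv =>
              Subgroup.mul_injective_of_disjoint hd (congrArg Subtype.val huv), ?_⟩
            rw [Nat.card_prod, hGc, hHc, mul_comm]
          intro x hx
          obtain ⟨⟨n, h⟩, hnh⟩ := hm.2 ⟨x, hx⟩
          exact ⟨n, n.2, h, h.2, congrArg Subtype.val hnh⟩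
        let m : N × (H ⊓ (N ⊔ U) : Subgroup X) → (N ⊔ U : Subgroup X) := fun z =>
          ⟨z.1 * z.2, mul_mem (Subgroup.mem_sup_left z.1.2) z.2.2.2⟩
        have hm : Function.Bijective m := by
          refine ⟨fun u v huv => ?_, fun x => ?_⟩
          · exact Subgroup.mul_injective_of_disjoint (hd.mono_right inf_le_left) (congrArg Subtype.val huv)
          · obtain ⟨n, hn, h, hh, hnh⟩ := htop x (hNUle x.2)
            have hhV : h ∈ N ⊔ U := by
              rw [show h = n⁻¹ * x by rw [← hnh, inv_mul_cancel_left]]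
              exact mul_mem (inv_mem (Subgroup.mem_sup_left hn)) x.2
            exact ⟨(⟨n, hn⟩, ⟨h, Subgroup.mem_inf.mpr ⟨hh, hhV⟩⟩), Subtype.ext hnh⟩
        have h1 := Nat.card_eq_of_bijective m hm
        rw [Nat.card_prod, hUcard, mul_comm (Nat.card U)] at h1
        exact mul_left_cancel₀ Nat.card_pos.ne' h1
      have hKHA : A ≤ Subgroup.normalizer ((H ⊓ (N ⊔ U) : Subgroup X) : Set X) := by
        intro x hx
        rw [Subgroup.mem_normalizer_iff]
        intro z
        simp only [Subgroup.mem_inf]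
        rw [Subgroup.mem_normalizer_iff.mp (hHA hx) z, Subgroup.mem_normalizer_iff.mp (hVA hx) z]
      obtain ⟨c, hc, hcU⟩ := invariant_hall_conj hVA hcopV hVsolv hKH hKHA hUhall hUA
      refine ⟨MulAut.conj c • H, isPiHallOf_conj_smul hH (Subgroup.le_normalizer (hNUle hc.1)),
        normalizer_conj_of_centralizes hc.2 hHA, ?_⟩
      rw [← hcU]
      exact Subgroup.pointwise_smul_le_pointwise_smul_iff.mpr inf_le_left
    · have hlt' : Nat.card L < Nat.card G := by
        refine lt_of_le_of_ne (Nat.le_of_dvd Nat.card_pos (Subgroup.card_dvd_of_le hLG)) fun e => ?_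
        exact hLG' (Subgroup.eq_of_le_of_card_ge hLG e.ge)
      obtain ⟨H, hH, hHA, hUH⟩ := ih _ hlt' (X := X) (A := A) (G := L) (U := U) hLA
        (hcop.coprime_dvd_right (Subgroup.card_dvd_of_le hLG)) hsolvL hUL hUA hU rfl
      refine ⟨H, (isPiHallOf_iff_card (a := a) (b := b * Nat.card N) (by rw [hGc, hab]; ring) ha hbN).mpr
        ⟨hH.1.trans hLG, ?_⟩, hHA, hUH⟩
      refine ((isPiHallOf_iff_card (a := a) (b := Nat.card N) ?_ ha hNπ).mp hH).2
      rw [hLc, hH₁c]

end CfsgLib
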