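/-
`p`-constrained groups and the transitivity theorem.
-/
import Cfsg.Agent.Lib.CoprimeFixedTransfer
import Cfsg.Agent.Lib.CoprimeGen
import Cfsg.Agent.Lib.PSolvable
import Cfsg.Agent.Lib.PComplement
import Cfsg.Agent.Lib.HallPi
import Cfsg.Prelude.Def_OddOrderLocal
import Cfsg.Prelude.Def_Local
import Cfsg.Prelude.Def_CaseTheorems

set_option autoImplicit false

namespace CfsgLib.Transitivity

open Subgroup Cfsg
open scoped Pointwise commutatorElement

universe u
variable {G : Type u} [Group G] [Finite G] {p : ℕ} [Fact p.Prime]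

theorem exists_pow_of_pGroup {P : Subgroup G} (hP : IsPGroup p P) {x : G} (hx : x ∈ P) :
    ∃ k : ℕ, x ^ p ^ k = 1 := by
  obtain ⟨k, hk⟩ := hP ⟨x, hx⟩
  exact ⟨k, by simpa using congrArg Subtype.val hk⟩

/-- The quotient of a `p`-constrained group by `O_{p'}` has self-centralising `O_p`. -/
theorem centralizer_pCore_quotient_le (hG : IsPConstrained p G) :
    centralizer (pCore p (G ⧸ pPrimeCore p G) : Set (G ⧸ pPrimeCore p G)) ≤
      pCore p (G ⧸ pPrimeCore p G) := by
  set W := pPrimeCore p G with hW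
  haveI : W.Normal := Subgroup.sSup_normal _ (fun _ h => h.1)
  set π := QuotientGroup.mk' W with hπ
  set L := pPrimePCore p G with hL
  haveI hLn : L.Normal := Subgroup.normal_comap _
  obtain ⟨P⟩ : Nonempty (Sylow p L) := inferInstance
  intro cb hcb
  obtain ⟨c, rfl⟩ := QuotientGroup.mk'_surjective W cb
  set Pg := (P : Subgroup L).map L.subtype with hPg
  have hWL : W ≤ L := fun w hw => by
    rw [hL]
    show π w ∈ (pCore p (G ⧸ W) : Subgroup (G ⧸ W))
    rw [show π w = 1 from (QuotientGroup.eq_one_iff w).mpr hw]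
    exact one_mem _
  have hWc : (Nat.card W).Coprime p := card_pPrimeCore_coprime p
  -- `L = W P`
  have hsup : W.subgroupOf L ⊔ (P : Subgroup L) = ⊤ := by
    refine sylow_sup_eq_top_of_pResidual_le P (pResidual_le fun y hy => ?_)
    rw [Subgroup.mem_subgroupOf, ← QuotientGroup.eq_one_iff]
    obtain ⟨k, hk⟩ := exists_pow_of_pGroup (isPGroup_pCore (G := G ⧸ W) p) (show π (y : G) ∈ _ from y.2)
    refine orderOf_eq_one_iff.mp (Nat.eq_one_of_dvd_coprimes (hy.pow_right k) ?_ (orderOf_dvd_of_pow_eq_one hk))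
    exact (orderOf_map_dvd π (y : G)).trans (by rw [Subgroup.orderOf_coe])
  -- a conjugate of `c` normalising `P`
  have hconj : ∀ x : L, c * (x : G) * c⁻¹ ∈ L := fun x => hLn.conj_mem _ x.2 c
  obtain ⟨l, hl⟩ := MulAction.exists_smul_eq L P
    (Sylow.ofCard ((P : Subgroup L).map ((MulAut.conjNormal c : MulAut L).toMonoidHom)) (by
      rw [Subgroup.card_map_of_injective (MulEquiv.injective _)]
      exact P.card_eq_multiplicity))
  obtain ⟨w, hw, u, hu, rfl⟩ : ∃ w ∈ W.subgroupOf L, ∃ u ∈ (P : Subgroup L), w * u = l :=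
    Subgroup.mem_sup_of_normal_left.mp (hsup ▸ mem_top l)
  set n := (w : G)⁻¹ * c with hn
  have hnP : ∀ x ∈ Pg, n * x * n⁻¹ ∈ Pg := by
    rintro _ ⟨x, hx, rfl⟩
    have h1 : (MulAut.conjNormal c x : L) ∈ ((w * u) • P : Sylow p L) := by
      rw [hl]
      exact Subgroup.mem_map_of_mem _ hx
    change MulAut.conjNormal c x ∈ (((w * u) • P : Sylow p L) : Subgroup L) at h1
    rw [Sylow.coe_subgroup_smul, mem_conj_smul_iff] at h1
    refine ⟨u * ((w * u)⁻¹ * MulAut.conjNormal c x * (w * u)) * u⁻¹,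
      mul_mem (mul_mem hu h1) (inv_mem hu), ?_⟩
    show ((u : G) * (((w : G) * u)⁻¹ * ((MulAut.conjNormal c x : L) : G) * ((w : G) * u)) * (u : G)⁻¹) = _
    rw [MulAut.conjNormal_apply, hn]
    show _ = (w : G)⁻¹ * c * (x : G) * ((w : G)⁻¹ * c)⁻¹
    group
  have hπn : π n = π c := by
    rw [hn, map_mul, map_inv, show π (w : G) = 1 from (QuotientGroup.eq_one_iff _).mpr hw, inv_one, one_mul]
  have hnL : n ∈ L := by
    refine hG P fun x hx => ?_
    have h1 : n * x * n⁻¹ * x⁻¹ ∈ W := by
      rw [← QuotientGroup.eq_one_iff]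
      show π _ = 1
      have hxR : π x ∈ pCore p (G ⧸ W) := by
        obtain ⟨x', -, rfl⟩ := hx
        exact x'.2
      have h2 : π x * π c = π c * π x := hcb _ hxR
      rw [map_mul, map_mul, map_mul, map_inv, map_inv, hπn, ← h2]
      group
    have h2 : n * x * n⁻¹ * x⁻¹ ∈ Pg := Pg.mul_mem (hnP x hx) (Pg.inv_mem hx)
    have h3 : n * x * n⁻¹ * x⁻¹ = 1 := by
      obtain ⟨k, hk⟩ := exists_pow_of_pGroup (P.2.map L.subtype) h2
      exact orderOf_eq_one_iff.mp (Nat.eq_one_of_dvd_coprimes (hWc.pow_right k)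
        (W.orderOf_dvd_natCard h1) (orderOf_dvd_of_pow_eq_one hk))
    exact (mul_inv_eq_iff_eq_mul.mp (mul_inv_eq_one.mp h3)).symm
  show π c ∈ _
  rw [← hπn]
  exact hnL

/-- In a `p`-constrained group an abelian `p`-subgroup containing all `p`-elements of its centraliser
normalises only `p'`-subgroups lying in `O_{p'}`. -/
theorem le_pPrimeCore_of_invariant (hN : IsPConstrained p G) (E : Subgroup G) (hEp : IsPGroup p E)
    (hfull : ∀ x ∈ centralizer (E : Set G), (∃ k : ℕ, x ^ p ^ k = 1) → x ∈ E)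
    (h2 : p = 2 → ∀ T : Subgroup G, IsPGroup p T → ∀ a ∈ T, ∀ b ∈ T, ∀ c ∈ T, ⁅a, b⁆ * c = c * ⁅a, b⁆)
    (Y : Subgroup G) (hY : (Nat.card Y).Coprime p) (hEY : E ≤ normalizer (Y : Set G)) :
    Y ≤ pPrimeCore p G := by
  set W := pPrimeCore p G with hW
  haveI : W.Normal := Subgroup.sSup_normal _ (fun _ h => h.1)
  set π := QuotientGroup.mk' W with hπ
  have hπs : Function.Surjective π := QuotientGroup.mk'_surjective W
  set R := pCore p (G ⧸ W) with hR
  have hRp : IsPGroup p R := isPGroup_pCore p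
  haveI : R.Normal := Subgroup.sSup_normal _ (fun _ h => h.1)
  have hnR : ∀ S : Subgroup (G ⧸ W), S ≤ normalizer (R : Set (G ⧸ W)) := fun S => by
    rw [Subgroup.normalizer_eq_top]; exact le_top
  have hYc : (Nat.card (Y.map π)).Coprime p := hY.coprime_dvd_left (Y.card_map_dvd π)
  have hfix : R ⊓ centralizer (E.map π : Set (G ⧸ W)) ≤ centralizer (Y.map π : Set (G ⧸ W)) := by
    rintro rb ⟨hrR, hrc⟩
    obtain ⟨r, rfl⟩ := hπs rb
    -- lift `r` to a `p`-element centralising `E`
    have hEW : E ≤ normalizer (W : Set G) := by rw [Subgroup.normalizer_eq_top]; exact le_top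
    have hcop : (Nat.card E).Coprime (Nat.card W) := by
      obtain ⟨k, hk⟩ := hEp.exists_card_eq
      rw [hk]
      exact ((card_pPrimeCore_coprime p).pow_right k).symm
    have hB : E.map (MulAut.conj r).toMonoidHom ≤ W ⊔ E := by
      rintro _ ⟨e, he, rfl⟩
      have h1 : r * e * r⁻¹ * e⁻¹ ∈ W := by
        rw [← QuotientGroup.eq_one_iff]
        show π _ = 1
        have h2 : π e * π r = π r * π e := hrc _ (Subgroup.mem_map_of_mem π he)
        rw [map_mul, map_mul, map_mul, map_inv, map_inv, ← h2]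
        group
      have := Subgroup.mul_mem_sup h1 he
      rwa [inv_mul_cancel_right] at this
    have hsolv : Group.IsSolvable E := by haveI := hEp.isNilpotent; infer_instance
    obtain ⟨g, hg, hgE⟩ := exists_conj_complement (B := E.map (MulAut.conj r).toMonoidHom) hEW hcop
      (Or.inl hsolv) hB (Subgroup.card_map_of_injective (MulAut.conj r).injective)
    set n := g⁻¹ * r with hn
    have hπn : π n = π r := by
      rw [hn, map_mul, map_inv, show π g = 1 from (QuotientGroup.eq_one_iff g).mpr hg, inv_one, one_mul]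
    have hnc : ∀ e ∈ E, n * e * n⁻¹ = e := by
      intro e he
      have h1 : n * e * n⁻¹ ∈ E := by
        have : r * e * r⁻¹ ∈ MulAut.conj g • E := by
          rw [hgE]; exact ⟨e, he, rfl⟩
        rw [mem_conj_smul_iff] at this
        rw [hn]
        simpa [mul_assoc] using this
      have h2 : π (n * e * n⁻¹) = π e := by
        rw [map_mul, map_mul, map_inv, hπn, ← hrc _ (Subgroup.mem_map_of_mem π he), mul_inv_cancel_right]
      have h3 : n * e * n⁻¹ * e⁻¹ ∈ W := by
        rw [← QuotientGroup.eq_one_iff]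
        show π _ = 1
        rw [map_mul, map_inv, h2, mul_inv_cancel]
      exact mul_inv_eq_one.mp (Subgroup.disjoint_def.mp
        (Subgroup.disjoint_of_coprime_natCard hcop) (E.mul_mem h1 (E.inv_mem he)) h3)
    -- the `p`-part of `n`
    obtain ⟨k, m, hm, hk⟩ := Nat.exists_eq_pow_mul_and_not_dvd (orderOf_pos n).ne' p (Fact.out : p.Prime).ne_one
    have hnE : n ^ m ∈ E := by
      refine hfull _ (fun e he => ?_) ⟨k, by rw [← pow_mul, mul_comm, ← hk, pow_orderOf_eq_one]⟩
      have h1 : Commute n e := mul_inv_eq_iff_eq_mul.mp (hnc e he)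
      exact (h1.pow_left m).eq.symm
    obtain ⟨j, hj⟩ := exists_pow_of_pGroup hRp hrR
    have hcm : (orderOf (π r)).Coprime m :=
      (((Fact.out : p.Prime).coprime_iff_not_dvd.mpr hm).pow_left j).coprime_dvd_left
        (orderOf_dvd_of_pow_eq_one hj)
    obtain ⟨i, hi⟩ := exists_pow_eq_self_of_coprime hcm.symm
    have hrE : π r ∈ E.map π := by
      rw [← hi, show π r ^ m = π (n ^ m) by rw [map_pow, hπn]]
      exact pow_mem (Subgroup.mem_map_of_mem π hnE) i
    -- `[r, Y] ≤ R ∩ Y = 1`
    intro yb hyb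
    obtain ⟨e, he, hre⟩ := hrE
    have h1 : π r * yb * (π r)⁻¹ ∈ Y.map π := by
      rw [← hre]
      exact (Subgroup.mem_normalizer_iff.mp (Subgroup.le_normalizer_map π
        (Subgroup.mem_map_of_mem π (hEY he))) _).mp hyb
    have h2 : π r * yb * (π r)⁻¹ * yb⁻¹ = 1 := by
      refine Subgroup.disjoint_def.mp (Subgroup.disjoint_of_coprime_natCard ?_)
        ((Y.map π).mul_mem h1 ((Y.map π).inv_mem hyb)) (show _ ∈ R from ?_)
      · obtain ⟨k, hk⟩ := hRp.exists_card_eq
        rw [hk]; exact hYc.pow_right k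
      · have := R.mul_mem hrR ((inferInstance : R.Normal).conj_mem _ (R.inv_mem hrR) yb)
        simpa [mul_assoc] using this
    exact (mul_inv_eq_iff_eq_mul.mp (mul_inv_eq_one.mp h2)).symm
  have hcen : Y.map π ≤ centralizer (R : Set (G ⧸ W)) := by
    refine FixedTransfer.centralizes_of_fixed (hEp.map π) hYc
      ((Subgroup.map_mono hEY).trans (Subgroup.le_normalizer_map π)) R hRp (hnR _) (hnR _) ?_ hfix
    intro hp r hr a ha b hb
    obtain ⟨U, hU⟩ := (IsPGroup.to_sup_of_normal_left' hRp (hEp.map π) (hnR _)).exists_le_sylow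
    obtain ⟨T⟩ : Nonempty (Sylow p G) := inferInstance
    obtain ⟨gb, hgb⟩ := MulAction.exists_smul_eq (G ⧸ W) (T.mapSurjective hπs) U
    obtain ⟨g, rfl⟩ := hπs gb
    have hUT : ∀ x ∈ R ⊔ E.map π, ∃ t ∈ ((g • T : Sylow p G) : Subgroup G), π t = x := by
      intro x hx
      have h1 := hU hx
      rw [← hgb, Sylow.coe_subgroup_smul, mem_conj_smul_iff] at h1
      obtain ⟨t, ht, hte⟩ := h1
      refine ⟨g * t * g⁻¹, ?_, by rw [map_mul, map_mul, map_inv]; show π g * π t * (π g)⁻¹ = x; rw [hte]; group⟩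
      rw [Sylow.coe_subgroup_smul, mem_conj_smul_iff]
      show g⁻¹ * (g * t * g⁻¹) * g ∈ (T : Subgroup G)
      rw [show g⁻¹ * (g * t * g⁻¹) * g = t by group]
      exact ht
    obtain ⟨r', hr', rfl⟩ := hUT r (Subgroup.mem_sup_left hr)
    obtain ⟨a', ha', rfl⟩ := hUT a (Subgroup.mem_sup_right ha)
    obtain ⟨b', hb', rfl⟩ := hUT b hb
    rw [← map_commutatorElement, ← map_mul, ← map_mul, h2 hp _ (g • T).2 a' ha' r' hr' b' hb']
  intro y hy
  rw [← QuotientGroup.eq_one_iff]
  have h1 : π y ∈ R := centralizer_pCore_quotient_le hN (hcen (Subgroup.mem_map_of_mem π hy))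
  obtain ⟨k, hk⟩ := exists_pow_of_pGroup hRp h1
  exact orderOf_eq_one_iff.mp (Nat.eq_one_of_dvd_coprimes (hYc.pow_right k)
    (Subgroup.orderOf_dvd_natCard _ (Subgroup.mem_map_of_mem π hy)) (orderOf_dvd_of_pow_eq_one hk))

end CfsgLib.Transitivity

namespace CfsgLib.Transitivity

open Subgroup Cfsg
open scoped Pointwise commutatorElement

universe w
variable {G : Type w} [Group G] [Finite G] {p : ℕ} [Fact p.Prime]

/-- `C(E) = E × O_{p'}(C(E))`: a `p'`-element centralising `E` is in `O_{p'}(C(E))`. -/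
theorem mem_piCoreOf_centralizer (E : Subgroup G) (hEp : IsPGroup p E) [IsMulCommutative E]
    (hfull : ∀ x ∈ centralizer (E : Set G), (∃ k : ℕ, x ^ p ^ k = 1) → x ∈ E) {c : G}
    (hc : c ∈ centralizer (E : Set G)) (hcp : (orderOf c).Coprime p) :
    c ∈ piCoreOf (primesNotDvd p) (centralizer (E : Set G)) := by
  set C := centralizer (E : Set G) with hC
  have hEC : E ≤ C := fun a ha b hb =>
    congrArg Subtype.val ((IsMulCommutative.is_comm (M := E)).comm ⟨b, hb⟩ ⟨a, ha⟩)
  obtain ⟨S, hS⟩ := (hEp.comap_subtype (K := C)).exists_le_sylow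
  have hSE : ∀ s ∈ (S : Subgroup C), (s : G) ∈ E := fun s hs =>
    hfull _ s.2 (exists_pow_of_pGroup (S.2.map C.subtype) ⟨s, hs, rfl⟩)
  have hnc : HasNormalPComplement p C := hasNormalPComplement_of_normalizer_le_centralizer S
    fun n _ s hs => Subtype.ext (n.2 (s : G) (hSE s hs))
  have hcK : (⟨c, hc⟩ : C) ∈ pPrimeCore p C :=
    mem_pPrimeCore_of_hasNormalPComplement hnc (by rwa [Subgroup.orderOf_mk])
  haveI : (pPrimeCore p C).Normal := Subgroup.sSup_normal _ (fun _ h => h.1)
  refine Subgroup.mem_map_of_mem C.subtype ((?_ : pPrimeCore p C ≤ piCore (primesNotDvd p) C) hcK)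
  refine le_sSup ⟨inferInstance, fun q hq hqd => ⟨hq, fun hd => ?_⟩⟩
  rw [(Nat.prime_dvd_prime_iff_eq hq Fact.out).mp hd] at hqd
  exact not_dvd_card_pPrimeCore Fact.out hqd

theorem inf_normalizer_lt_qGroup {q : ℕ} [Fact q.Prime] {Q D : Subgroup G} (hQ : IsPGroup q Q)
    (hle : D ≤ Q) (hne : D ≠ Q) : D < Q ⊓ normalizer (D : Set G) := by
  refine lt_of_le_of_ne (le_inf hle Subgroup.le_normalizer) fun e => hne ?_
  haveI : Group.IsNilpotent Q := hQ.isNilpotent
  have h1 : D.subgroupOf Q = ⊤ := by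
    by_contra hlt
    have h2 := Group.normalizerCondition_of_isNilpotent _ (lt_top_iff_ne_top.mpr hlt)
    rw [← Subgroup.subgroupOf_normalizer_eq hle] at h2
    refine (lt_iff_le_and_ne.mp h2).2 (SetLike.ext fun z => ?_)
    rw [Subgroup.mem_subgroupOf, Subgroup.mem_subgroupOf]
    exact ⟨fun hz => Subgroup.le_normalizer hz, fun hz => e.symm.le ⟨z.2, hz⟩⟩
  exact le_antisymm hle (Subgroup.subgroupOf_eq_top.mp h1)

theorem normalizer_inf_normalizer {E Q D : Subgroup G} (hQ : E ≤ normalizer (Q : Set G))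
    (hD : E ≤ normalizer (D : Set G)) :
    E ≤ normalizer ((Q ⊓ normalizer (D : Set G) : Subgroup G) : Set G) := by
  intro a ha
  rw [Subgroup.mem_normalizer_iff]
  intro x
  have h1 := Subgroup.mem_normalizer_iff.mp (hQ ha) x
  have h2 : x ∈ normalizer (D : Set G) ↔ a * x * a⁻¹ ∈ normalizer (D : Set G) := by
    constructor
    · intro hx; exact mul_mem (mul_mem (hD ha) hx) (inv_mem (hD ha))
    · intro hx
      have := mul_mem (mul_mem (inv_mem (hD ha)) hx) (hD ha)
      simpa [mul_assoc] using this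
  simp only [Subgroup.mem_inf]
  rw [h1, h2]

/-- **The transitivity theorem.** -/
theorem transitivity
    (hloc : ∀ T : Subgroup G, IsPGroup p T → T ≠ ⊥ → IsPConstrained p (normalizer (T : Set G)))
    (h2 : p = 2 → ∀ T : Subgroup G, IsPGroup p T → ∀ a ∈ T, ∀ b ∈ T, ∀ c ∈ T, ⁅a, b⁆ * c = c * ⁅a, b⁆)
    (E : Subgroup G) (hEp : IsPGroup p E) [hEc : IsMulCommutative E] (hE3 : ¬ PRankLE p 2 E)
    (hfull : ∀ x ∈ centralizer (E : Set G), (∃ k : ℕ, x ^ p ^ k = 1) → x ∈ E)
    (q : ℕ) [Fact q.Prime] (hqp : q ≠ p) (Q₁ Q₂ : Subgroup G)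
    (h₁ : Q₁ ∈ maxInvSubgroups ⊤ E {q}) (h₂' : Q₂ ∈ maxInvSubgroups ⊤ E {q}) :
    ∃ k ∈ piCoreOf (primesNotDvd p) (centralizer (E : Set G)), Q₂ = Q₁.map (MulAut.conj k).toMonoidHom := by
  have hp : p.Prime := Fact.out
  have hq : q.Prime := Fact.out
  set K := piCoreOf (primesNotDvd p) (centralizer (E : Set G)) with hK
  have hKC : K ≤ centralizer (E : Set G) := Subgroup.map_subtype_le _
  set I := invSubgroups ⊤ E {q} with hI
  have hmem : ∀ Y : Subgroup G, IsPGroup q Y → E ≤ normalizer (Y : Set G) → Y ∈ I := by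
    intro Y hY hEY
    refine ⟨le_top, fun r hr hrd => ?_, hEY⟩
    obtain ⟨k, hk⟩ := hY.exists_card_eq
    exact (Nat.prime_dvd_prime_iff_eq hr hq).mp (hr.dvd_of_dvd_pow (hk ▸ hrd))
  have hmem' : ∀ Y ∈ I, IsPGroup q Y := fun Y hY =>
    IsPGroup.of_card (n := (Nat.card Y).primeFactorsList.length)
      (Nat.eq_prime_pow_of_unique_prime_dvd Nat.card_pos.ne' fun {r} hr hrd => hY.2.1 r hr hrd)
  have hmax : ∀ Y ∈ I, ∃ M ∈ maxInvSubgroups ⊤ E {q}, Y ≤ M := by
    intro Y hY
    obtain ⟨M, ⟨hMI, hYM⟩, hM⟩ := (Set.toFinite {M : Subgroup G | M ∈ I ∧ Y ≤ M}).exists_maximal ⟨Y, hY, le_rfl⟩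
    exact ⟨M, ⟨hMI, fun R hR hMR => le_antisymm (hM ⟨hR, hYM.trans hMR⟩ hMR) hMR⟩, hYM⟩
  have hcE : ∀ c ∈ centralizer (E : Set G), ∀ (Y : Subgroup G), E ≤ normalizer (Y : Set G) →
      E ≤ normalizer ((MulAut.conj c • Y : Subgroup G) : Set G) := by
    intro c hc Y hEY a ha
    rw [Subgroup.mem_normalizer_iff]
    intro x
    rw [mem_conj_smul_iff, mem_conj_smul_iff]
    have e : c⁻¹ * a = a * c⁻¹ := (Commute.inv_left (show Commute c a from (hc a ha).symm)).eq
    have e2 : a⁻¹ * c = c * a⁻¹ := (Commute.inv_left (show Commute a c from hc a ha)).eq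
    rw [Subgroup.mem_normalizer_iff.mp (hEY ha) (c⁻¹ * x * c),
      show c⁻¹ * (a * x * a⁻¹) * c = (c⁻¹ * a) * x * (a⁻¹ * c) by group, e, e2]
    simp [mul_assoc]
  have hconjI : ∀ c ∈ centralizer (E : Set G), ∀ Y ∈ I, MulAut.conj c • Y ∈ I := fun c hc Y hY =>
    hmem _ ((hmem' Y hY).map _) (hcE c hc Y hY.2.2)
  have hconjM : ∀ c ∈ centralizer (E : Set G), ∀ M ∈ maxInvSubgroups ⊤ E {q},
      MulAut.conj c • M ∈ maxInvSubgroups ⊤ E {q} := by
    intro c hc M hM
    refine ⟨hconjI c hc M hM.1, fun R hR hle => ?_⟩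
    have h1 := hM.2 (MulAut.conj c⁻¹ • R) (hconjI _ (inv_mem hc) R hR) (fun x hx => by
      rw [mem_conj_smul_iff, inv_inv]
      refine hle ?_
      rw [mem_conj_smul_iff]
      simpa [mul_assoc] using hx)
    rw [← h1, smul_smul, ← map_mul, mul_inv_cancel, map_one, one_smul]
  -- elementary subgroup of rank three
  obtain ⟨V, hVc, hVexp, hVcard⟩ : ∃ V : Subgroup E, IsMulCommutative V ∧ (∀ a ∈ V, a ^ p = 1) ∧
      p ^ 2 < Nat.card V := by
    by_contra hno
    push Not at hno
    exact hE3 fun A hA hexp => hno A hA hexp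
  set Vg := V.map E.subtype with hVg
  have hVE : Vg ≤ E := Subgroup.map_subtype_le _
  have hVexp' : ∀ a ∈ Vg, a ^ p = 1 := by
    rintro _ ⟨a, ha, rfl⟩
    rw [← map_pow, hVexp a ha, map_one]
  have hVcard' : p ^ 2 < Nat.card Vg := by rwa [Subgroup.card_map_of_injective E.subtype_injective]
  have hEcomm : ∀ a ∈ E, ∀ b ∈ E, a * b = b * a := fun a ha b hb =>
    congrArg Subtype.val ((IsMulCommutative.is_comm (M := E)).comm ⟨a, ha⟩ ⟨b, hb⟩)
  suffices key : ∀ n : ℕ, ∀ A ∈ maxInvSubgroups ⊤ E {q}, ∀ B ∈ maxInvSubgroups ⊤ E {q},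
      Nat.card G - Nat.card (A ⊓ B : Subgroup G) = n → ∃ k ∈ K, B = MulAut.conj k • A by
    exact key _ Q₁ h₁ Q₂ h₂' rfl
  intro n
  induction n using Nat.strong_induction_on with
  | h n ih =>
    intro A hA B hB hn
    set D := A ⊓ B with hD
    by_cases hAD : D = A
    · refine ⟨1, one_mem K, ?_⟩
      rw [map_one, one_smul]
      exact hA.2 B hB.1 (hAD ▸ inf_le_right)
    by_cases hBD : D = B
    · refine ⟨1, one_mem K, ?_⟩
      rw [map_one, one_smul]
      exact (hB.2 A hA.1 (hBD ▸ inf_le_left)).symm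
    have hED : E ≤ normalizer (D : Set G) := fun a ha => by
      rw [Subgroup.mem_normalizer_iff]
      intro x
      simp only [hD, Subgroup.mem_inf]
      rw [Subgroup.mem_normalizer_iff.mp (hA.1.2.2 ha) x, Subgroup.mem_normalizer_iff.mp (hB.1.2.2 ha) x]
    have hDq : IsPGroup q D := (hmem' A hA.1).to_le inf_le_left
    set NA := A ⊓ normalizer (D : Set G) with hNA
    set NB := B ⊓ normalizer (D : Set G) with hNB
    have hDA : D < NA := inf_normalizer_lt_qGroup (hmem' A hA.1) inf_le_left hAD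
    have hDB : D < NB := inf_normalizer_lt_qGroup (hmem' B hB.1) inf_le_right hBD
    have hENA : E ≤ normalizer (NA : Set G) := normalizer_inf_normalizer hA.1.2.2 hED
    have hENB : E ≤ normalizer (NB : Set G) := normalizer_inf_normalizer hB.1.2.2 hED
    have hcopN : ∀ (S Y : Subgroup G), S ≤ E → IsPGroup q Y → (Nat.card S).Coprime (Nat.card Y) := by
      intro S Y hS hY
      obtain ⟨i, hi⟩ := (hEp.to_le hS).exists_card_eq
      obtain ⟨j, hj⟩ := hY.exists_card_eq
      rw [hi, hj]
      exact (((Nat.coprime_primes hp hq).mpr hqp.symm).pow_left i).pow_right j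
    -- an element of `V` whose centraliser is large in both
    haveI hVgc : IsMulCommutative Vg :=
      ⟨⟨fun a b => Subtype.ext (hEcomm a (hVE a.2) b (hVE b.2))⟩⟩
    have hVncyc : ∀ S : Subgroup G, S ≤ Vg → p < Nat.card S → ¬ IsCyclic S := by
      intro S hS hlt hcyc
      obtain ⟨g, hg⟩ := hcyc.exists_generator
      have h1 : Nat.card S = orderOf g := (orderOf_eq_card_of_forall_mem_zpowers hg).symm
      have h2 : orderOf g ∣ p := orderOf_dvd_of_pow_eq_one (Subtype.ext (by simpa using hVexp' g (hS g.2)))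
      have := Nat.le_of_dvd hp.pos h2
      omega
    have hV1 : p < Nat.card Vg := lt_of_le_of_lt (Nat.le_self_pow (by norm_num) p) hVcard'
    have hgenA := coprime_generated_by_centralizers (K := NA) (hVncyc Vg le_rfl hV1)
      (hVE.trans hENA) (hcopN Vg NA hVE ((hmem' A hA.1).to_le inf_le_left))
    obtain ⟨a, ⟨haV, ha1⟩, haD⟩ : ∃ a ∈ {a : G | a ∈ Vg ∧ a ≠ 1}, ¬ NA ⊓ centralizer {a} ≤ D := by
      by_contra hno
      push Not at hno
      exact hDA.not_ge (hgenA ▸ iSup₂_le hno)
    -- complement of `⟨a⟩` in `V`: iterate on the subgroup of elements fixing the witness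
    obtain ⟨x, hxA, hxD⟩ := SetLike.not_le_iff_exists.mp haD
    set N := normalizer (zpowers a : Set G) with hN
    have haE : a ∈ E := hVE haV
    have hap : IsPGroup p (zpowers a) := hEp.to_le (zpowers_le.mpr haE)
    have hEN : ∀ b ∈ E, ∀ c ∈ E, c ≠ 1 → b ∈ centralizer ({c} : Set G) := fun b hb c hc _ =>
      mem_centralizer_singleton_iff.mpr (hEcomm b hb c hc)
    -- `C(a)` acting
    set NA' := NA ⊓ centralizer ({a} : Set G) with hNA'
    have hENA' : E ≤ normalizer (NA' : Set G) := by
      intro e he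
      rw [Subgroup.mem_normalizer_iff]
      intro y
      simp only [hNA', Subgroup.mem_inf]
      rw [Subgroup.mem_normalizer_iff.mp (hENA he) y, mem_centralizer_singleton_iff, mem_centralizer_singleton_iff]
      have hea : e * a = a * e := hEcomm e he a haE
      have hei : e⁻¹ * a = a * e⁻¹ := ((show Commute e a from hea).inv_left).eq
      constructor
      · rintro ⟨h1, h2⟩
        refine ⟨h1, ?_⟩
        calc e * y * e⁻¹ * a = e * (y * a) * e⁻¹ := by
              rw [mul_assoc _ e⁻¹ a, hei]; group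
          _ = (e * a) * y * e⁻¹ := by rw [h2]; group
          _ = a * (e * y * e⁻¹) := by rw [hea]; group
      · rintro ⟨h1, h2⟩
        refine ⟨h1, ?_⟩
        calc y * a = e⁻¹ * (e * y * e⁻¹ * (e * a)) := by group
          _ = e⁻¹ * (e * y * e⁻¹ * a * e) := by rw [hea]; group
          _ = (e⁻¹ * a) * (e * y) := by rw [h2]; group
          _ = a * y := by rw [hei]; group
    -- a second element, centralising part of `NB`
    obtain ⟨b, hbV, hb1, hbA, hbB⟩ : ∃ b, b ∈ Vg ∧ b ≠ 1 ∧ ¬ NA ⊓ centralizer {b} ≤ D ∧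
        ¬ NB ⊓ centralizer {b} ≤ D := by
      -- subgroup `S ≤ V` of order `> p` fixing some element of `NA' ∖ D`
      obtain ⟨S, hSV, hScard, y, hy, hyD, hyS⟩ : ∃ S : Subgroup G, S ≤ Vg ∧ p < Nat.card S ∧
          ∃ y ∈ NA, y ∉ D ∧ ∀ s ∈ S, y * s = s * y := by
        obtain ⟨T, hTV, haT, hTcard⟩ : ∃ T : Subgroup G, T ≤ Vg ∧ a ∉ T ∧ p < Nat.card T := by
          obtain ⟨T, ⟨hTV, haT⟩, hT⟩ := (Set.toFinite {T : Subgroup G | T ≤ Vg ∧ a ∉ T}).exists_maximal
            ⟨⊥, bot_le, by simpa using ha1⟩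
          refine ⟨T, hTV, haT, ?_⟩
          have hall : Vg ≤ zpowers a ⊔ T := by
            intro v hv
            by_cases hvT : v ∈ T
            · exact Subgroup.mem_sup_right hvT
            have hvTn : zpowers v ≤ normalizer (T : Set G) := by
              rw [zpowers_le, Subgroup.mem_normalizer_iff]
              intro h
              constructor
              · intro hh; rwa [hEcomm v (hVE hv) h (hVE (hTV hh)), mul_inv_cancel_right]
              · intro hh
                have h3 := hVE (hTV hh)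
                have h4 : h = v * h * v⁻¹ := by
                  have := hEcomm v⁻¹ (E.inv_mem (hVE hv)) _ h3
                  calc h = v⁻¹ * (v * h * v⁻¹) * v := by group
                    _ = v * h * v⁻¹ := by rw [this]; group
                rwa [h4]
            have ha2 : a ∈ T ⊔ zpowers v := by
              by_contra hno
              have := hT ⟨sup_le hTV (zpowers_le.mpr hv), hno⟩ le_sup_left
              exact hvT (this (Subgroup.mem_sup_right (mem_zpowers v)))
            obtain ⟨t, ht, u, hu, htu⟩ := mem_sup_of_le_normalizer hvTn ha2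
            obtain ⟨i, rfl⟩ := hu
            replace htu : t * v ^ i = a := htu
            have hvi : v ^ i = t⁻¹ * a := by rw [← htu, inv_mul_cancel_left]
            have hcop : Int.gcd i (orderOf v) = 1 := by
              have hov : orderOf v = p := orderOf_eq_prime (hVexp' v hv) fun e => hvT (e ▸ T.one_mem)
              rw [hov]
              by_contra hne
              have hdvd : (p : ℤ) ∣ i := by
                rw [Int.natCast_dvd]
                by_contra hnd
                exact hne (Nat.Coprime.gcd_eq_one ((hp.coprime_iff_not_dvd.mpr hnd).symm))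
              obtain ⟨j, rfl⟩ := hdvd
              rw [zpow_mul, zpow_natCast, hVexp' v hv, one_zpow, mul_one] at htu
              exact haT (htu ▸ ht)
            have : v ∈ zpowers (v ^ i) := mem_zpowers_zpow_iff.mpr hcop
            obtain ⟨j, hj⟩ := this
            replace hj : (v ^ i) ^ j = v := hj
            rw [← hj, hvi]
            exact zpow_mem (mul_mem (Subgroup.mem_sup_right (T.inv_mem ht)) (Subgroup.mem_sup_left (mem_zpowers a))) j
          by_contra hle
          have h1 := Nat.card_le_card_of_injective _ (Subgroup.inclusion_injective hall)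
          have hn : zpowers a ≤ normalizer (T : Set G) := fun x hx => by
            rw [Subgroup.mem_normalizer_iff]
            intro h
            have hxE : x ∈ E := (zpowers_le.mpr haE) hx
            constructor
            · intro hh; rwa [hEcomm x hxE h (hVE (hTV hh)), mul_inv_cancel_right]
            · intro hh
              have h4 : h = x * h * x⁻¹ := by
                have := hEcomm x⁻¹ (E.inv_mem hxE) _ (hVE (hTV hh))
                calc h = x⁻¹ * (x * h * x⁻¹) * x := by group
                  _ = x * h * x⁻¹ := by rw [this]; group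
              rwa [h4]
          have h2 : Nat.card (zpowers a ⊔ T : Subgroup G) ≤ p * p := by
            rw [sup_comm]
            have h3 : Nat.card (T ⊔ zpowers a : Subgroup G) ≤ Nat.card T * Nat.card (zpowers a) := by
              have hsurj : Function.Surjective (fun z : T × zpowers a =>
                  (⟨(z.1 : G) * z.2, Subgroup.mul_mem_sup z.1.2 z.2.2⟩ : (T ⊔ zpowers a : Subgroup G))) := by
                rintro ⟨z, hz⟩
                obtain ⟨t, ht, u, hu, rfl⟩ := mem_sup_of_le_normalizer hn hz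
                exact ⟨(⟨t, ht⟩, ⟨u, hu⟩), rfl⟩
              have := Nat.card_le_card_of_surjective _ hsurj
              rwa [Nat.card_prod] at this
            refine h3.trans (Nat.mul_le_mul (not_lt.mp hle) ?_)
            rw [Nat.card_zpowers]
            exact Nat.le_of_dvd hp.pos (orderOf_dvd_of_pow_eq_one (hVexp' a haV))
          rw [← sq] at h2
          omega
        have hTE : T ≤ E := hTV.trans hVE
        haveI : IsMulCommutative T := ⟨⟨fun u v => Subtype.ext (hEcomm u (hTE u.2) v (hTE v.2))⟩⟩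
        have hgenT := coprime_generated_by_centralizers (K := NA') (hVncyc T hTV hTcard)
          (hTE.trans hENA') (hcopN T NA' hTE ((hmem' A hA.1).to_le (inf_le_left.trans inf_le_left)))
        obtain ⟨t, ⟨htT, ht1⟩, htD⟩ : ∃ t ∈ {t : G | t ∈ T ∧ t ≠ 1}, ¬ NA' ⊓ centralizer {t} ≤ D := by
          by_contra hno
          push Not at hno
          exact haD (hgenT ▸ iSup₂_le hno)
        obtain ⟨y, hy, hyD⟩ := SetLike.not_le_iff_exists.mp htD
        refine ⟨zpowers a ⊔ zpowers t, sup_le (zpowers_le.mpr haV) (zpowers_le.mpr (hTV htT)), ?_, y, hy.1.1, hyD, ?_⟩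
        · have hle : zpowers a ≤ zpowers a ⊔ zpowers t := le_sup_left
          have hap' : Nat.card (zpowers a) = p := by
            rw [Nat.card_zpowers, orderOf_eq_prime (hVexp' a haV) ha1]
          rw [← hap']
          refine lt_of_le_of_ne (Subgroup.card_le_of_le hle) fun e => haT ?_
          have h5 := Subgroup.eq_of_le_of_card_ge hle e.ge
          have ht' : t ∈ zpowers a := h5 ▸ Subgroup.mem_sup_right (mem_zpowers t)
          have h6 : zpowers t = zpowers a := Subgroup.eq_of_le_of_card_ge (zpowers_le.mpr ht')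
            (by rw [hap', Nat.card_zpowers, orderOf_eq_prime (hVexp' t (hTV htT)) ht1])
          exact (zpowers_le.mpr htT) (h6 ▸ mem_zpowers a)
        · intro s hs
          have hle : zpowers a ⊔ zpowers t ≤ centralizer ({y} : Set G) := sup_le
            (zpowers_le.mpr (mem_centralizer_singleton_iff.mpr (mem_centralizer_singleton_iff.mp hy.1.2).symm))
            (zpowers_le.mpr (mem_centralizer_singleton_iff.mpr (mem_centralizer_singleton_iff.mp hy.2).symm))
          exact (mem_centralizer_singleton_iff.mp (hle hs)).symm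
      have hSE : S ≤ E := hSV.trans hVE
      haveI : IsMulCommutative S := ⟨⟨fun u v => Subtype.ext (hEcomm u (hSE u.2) v (hSE v.2))⟩⟩
      have hgenB := coprime_generated_by_centralizers (K := NB) (hVncyc S hSV hScard)
        (hSE.trans hENB) (hcopN S NB hSE ((hmem' B hB.1).to_le inf_le_left))
      obtain ⟨b, ⟨hbS, hb1⟩, hbD⟩ : ∃ b ∈ {b : G | b ∈ S ∧ b ≠ 1}, ¬ NB ⊓ centralizer {b} ≤ D := by
        by_contra hno
        push Not at hno
        exact hDB.not_ge (hgenB ▸ iSup₂_le hno)
      exact ⟨b, hSV hbS, hb1, fun h => hyD (h ⟨hy, mem_centralizer_singleton_iff.mpr (hyS b hbS)⟩), hbD⟩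
    -- inside `N(⟨b⟩)`
    have hbE : b ∈ E := hVE hbV
    set M := normalizer (zpowers b : Set G) with hM
    have hCM : centralizer ({b} : Set G) ≤ M := by
      intro c hc
      rw [Subgroup.mem_normalizer_iff]
      intro h
      rw [mem_centralizer_singleton_iff] at hc
      have hcc : ∀ i : ℤ, c * b ^ i * c⁻¹ = b ^ i := fun i => by
        rw [((show Commute c b from hc).zpow_right i).eq, mul_inv_cancel_right]
      constructor
      · rintro ⟨i, rfl⟩; exact ⟨i, (hcc i).symm⟩
      · rintro ⟨i, hi⟩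
        refine ⟨i, ?_⟩
        show b ^ i = h
        calc b ^ i = c⁻¹ * (c * b ^ i * c⁻¹) * c := by group
          _ = h := by rw [hcc, show b ^ i = c * h * c⁻¹ from hi]; group
    have hEM : E ≤ M := fun e he => hCM (hEN e he b hbE hb1)
    haveI : (pPrimeCore p M).Normal := Subgroup.sSup_normal _ (fun _ h => h.1)
    set W := (pPrimeCore p M).map M.subtype with hW
    have hWp : (Nat.card W).Coprime p := by
      rw [hW, Subgroup.card_map_of_injective M.subtype_injective]; exact card_pPrimeCore_coprime p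
    have hEW : E ≤ normalizer (W : Set G) := hEM.trans (fun m hm => by
      have h3 : (⟨m, hm⟩ : M) ∈ normalizer (pPrimeCore p M : Set M) := by
        rw [Subgroup.normalizer_eq_top]; trivial
      exact Subgroup.le_normalizer_map M.subtype ⟨_, h3, rfl⟩)
    have hkeyM : ∀ Y : Subgroup G, Y ≤ M → IsPGroup q Y → E ≤ normalizer (Y : Set G) → Y ≤ W := by
      intro Y hYM hY hEY
      have hYc : (Nat.card Y).Coprime p := by
        obtain ⟨j, hj⟩ := hY.exists_card_eq
        rw [hj]; exact ((Nat.coprime_primes hq hp).mpr hqp).pow_left j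
      have h1 := le_pPrimeCore_of_invariant
        (hloc (zpowers b) (hEp.to_le (zpowers_le.mpr hbE)) (by simpa using hb1))
        (E.subgroupOf M) hEp.comap_subtype
        (fun x hx hxp => hfull (x : G) (fun e he => congrArg Subtype.val (hx ⟨e, hEM he⟩ he))
          (by obtain ⟨j, hj⟩ := hxp; exact ⟨j, by simpa using congrArg Subtype.val hj⟩))
        (fun h T hT u hu v hv z hz => Subtype.ext
          (h2 h (T.map M.subtype) (hT.map _) u ⟨u, hu, rfl⟩ v ⟨v, hv, rfl⟩ z ⟨z, hz, rfl⟩))
        (Y.subgroupOf M)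
        (by rwa [Nat.card_congr (Subgroup.subgroupOfEquivOfLe hYM).toEquiv])
        (fun e he => by
          rw [Subgroup.mem_normalizer_iff]
          intro z
          simp only [Subgroup.mem_subgroupOf]
          exact Subgroup.mem_normalizer_iff.mp (hEY he) z)
      exact fun z hz => ⟨⟨z, hYM hz⟩, h1 hz, rfl⟩
    -- the group `D (W ∩ N(D))`
    set WD := W ⊓ normalizer (D : Set G) with hWD
    have hEWD : E ≤ normalizer (WD : Set G) := normalizer_inf_normalizer hEW hED
    set U := D ⊔ WD with hU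
    have hEU : E ≤ normalizer (U : Set G) := fun e he => by
      rw [Subgroup.mem_normalizer_iff_map_conj_eq, hU, Subgroup.map_sup,
        Subgroup.mem_normalizer_iff_map_conj_eq.mp (hED he), Subgroup.mem_normalizer_iff_map_conj_eq.mp (hEWD he)]
    have hUcop : (Nat.card E).Coprime (Nat.card U) := by
      have hDc : (Nat.card D).Coprime p := by
        obtain ⟨j, hj⟩ := hDq.exists_card_eq
        rw [hj]; exact ((Nat.coprime_primes hq hp).mpr hqp).pow_left j
      have hWDc : (Nat.card WD).Coprime p := hWp.coprime_dvd_left (Subgroup.card_dvd_of_le inf_le_left)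
      have hd : Nat.card U ∣ Nat.card WD * Nat.card D := by
        set Z := normalizer (D : Set G) with hZ
        haveI : (D.subgroupOf Z).Normal := Subgroup.normal_in_normalizer
        have h4 := card_sup_dvd_mul (G := Z) (WD.subgroupOf Z) (D.subgroupOf Z)
        rw [← Subgroup.card_map_of_injective Z.subtype_injective (K := WD.subgroupOf Z ⊔ D.subgroupOf Z),
          Subgroup.map_sup, Subgroup.map_subgroupOf_eq_of_le (inf_le_right : WD ≤ Z),
          Subgroup.map_subgroupOf_eq_of_le (Subgroup.le_normalizer : D ≤ Z),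
          Nat.card_congr (Subgroup.subgroupOfEquivOfLe (inf_le_right : WD ≤ Z)).toEquiv,
          Nat.card_congr (Subgroup.subgroupOfEquivOfLe (Subgroup.le_normalizer : D ≤ Z)).toEquiv,
          sup_comm] at h4
        exact h4
      obtain ⟨i, hi⟩ := hEp.exists_card_eq
      rw [hi]
      exact (((hWDc.mul_left hDc).coprime_dvd_left hd).pow_right i).symm
    have hEsolv : Group.IsSolvable E := by haveI := hEp.isNilpotent; infer_instance
    have hin : ∀ C ∈ I, D ≤ C → ¬ (C ⊓ normalizer (D : Set G)) ⊓ centralizer {b} ≤ D →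
        ∃ S : Sylow q U, E ≤ normalizer ((S : Subgroup U).map U.subtype : Set G) ∧
          D < C ⊓ (S : Subgroup U).map U.subtype := by
      intro C hC hDC hnot
      set Cb := (C ⊓ normalizer (D : Set G)) ⊓ centralizer {b} with hCb
      have hECb : E ≤ normalizer (Cb : Set G) := by
        have h5 : E ≤ normalizer (centralizer ({b} : Set G) : Set G) := fun e he =>
          Subgroup.le_normalizer (hEN e he b hbE hb1)
        intro e he
        rw [Subgroup.mem_normalizer_iff]
        intro z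
        rw [hCb, Subgroup.mem_inf (x := z), Subgroup.mem_inf (x := e * z * e⁻¹),
          Subgroup.mem_normalizer_iff.mp (normalizer_inf_normalizer hC.2.2 hED he) z,
          Subgroup.mem_normalizer_iff.mp (h5 he) z]
      have hCbq : IsPGroup q Cb := (hmem' C hC).to_le (inf_le_left.trans inf_le_left)
      have hCbW : Cb ≤ WD := le_inf (hkeyM Cb (inf_le_right.trans hCM) hCbq hECb) (inf_le_left.trans inf_le_right)
      set Y := D ⊔ Cb with hY
      have hYC : Y ≤ C := sup_le hDC (inf_le_left.trans inf_le_left)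
      obtain ⟨S, hYS, hS⟩ := coprime_le_invariant_sylow (p := q) hEU hUcop (Or.inl hEsolv)
        (sup_le le_sup_left (hCbW.trans le_sup_right) : Y ≤ U) ((hmem' C hC).to_le hYC) (fun e he => by
          rw [Subgroup.mem_normalizer_iff_map_conj_eq, Subgroup.map_sup,
            Subgroup.mem_normalizer_iff_map_conj_eq.mp (hED he),
            Subgroup.mem_normalizer_iff_map_conj_eq.mp (hECb he)])
      refine ⟨S, hS, lt_of_lt_of_le ?_ (le_inf hYC hYS)⟩
      exact lt_of_le_of_ne le_sup_left fun e => hnot (le_sup_right.trans e.ge)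
    obtain ⟨S₁, hS₁, hlt₁⟩ := hin A hA.1 inf_le_left hbA
    obtain ⟨S₂, hS₂, hlt₂⟩ := hin B hB.1 inf_le_right hbB
    obtain ⟨c, hcC, hcS⟩ := coprime_invariant_sylow_conj hEU hUcop (Or.inl hEsolv) S₁ S₂ hS₁ hS₂
    have hcK : (c : G) ∈ K := by
      refine mem_piCoreOf_centralizer E hEp hfull hcC ((hp.coprime_iff_not_dvd.mpr fun hd => ?_).symm)
      have h1 : Nontrivial E := by
        have : Nontrivial Vg := Finite.one_lt_card_iff_nontrivial.mp (by have := hp.one_lt; omega)
        exact (Subgroup.nontrivial_iff_ne_bot E).mpr fun e =>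
          (Subgroup.nontrivial_iff_ne_bot Vg).mp this (le_bot_iff.mp (e ▸ hVE))
      obtain ⟨j, hj⟩ := hEp.exists_card_eq
      have hj0 : j ≠ 0 := fun e => (Finite.one_lt_card (α := E)).ne' (by rw [hj, e, pow_zero])
      exact hp.not_dvd_one (hUcop ▸ Nat.dvd_gcd (hj ▸ dvd_pow_self p hj0)
        (hd.trans (U.orderOf_dvd_natCard c.2)))
    obtain ⟨C, hC, hS₁C⟩ := hmax _ (hmem _ (S₁.2.map U.subtype) hS₁)
    have hcard : ∀ X : Subgroup G, D < X → Nat.card G - Nat.card X < n := by
      intro X hX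
      have h1 : Nat.card D < Nat.card X :=
        lt_of_le_of_ne (Subgroup.card_le_of_le hX.le) fun e => hX.ne (Subgroup.eq_of_le_of_card_ge hX.le e.ge)
      have h2 := Subgroup.card_le_card_group X
      omega
    obtain ⟨k₁, hk₁, hC₁⟩ := ih _ (hcard _ (hlt₁.trans_le (inf_le_inf_left A hS₁C))) A hA C hC rfl
    set C' := MulAut.conj (c : G) • C with hC'
    have hC'm : C' ∈ maxInvSubgroups ⊤ E {q} := hconjM c (hKC hcK) C hC
    have hS₂C : (S₂ : Subgroup U).map U.subtype ≤ C' := by
      rw [← hcS]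
      rintro _ ⟨z, hz, rfl⟩
      rw [SetLike.mem_coe, Sylow.pointwise_smul_def, mem_conj_smul_iff] at hz
      rw [hC', mem_conj_smul_iff]
      exact hS₁C ⟨_, hz, rfl⟩
    obtain ⟨k₂, hk₂, hC₂⟩ := ih _ (hcard _ (hlt₂.trans_le (inf_le_inf_left B hS₂C))) B hB C' hC'm rfl
    refine ⟨k₂⁻¹ * ((c : G) * k₁), mul_mem (inv_mem hk₂) (mul_mem hcK hk₁), ?_⟩
    rw [map_mul, map_mul, ← smul_smul, ← smul_smul, ← hC₁, ← hC', hC₂, smul_smul, ← map_mul,
      inv_mul_cancel, map_one, one_smul]

end CfsgLib.Transitivity
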