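import Mathlib
import Cfsg.Agent.Lib.Basic
import Cfsg.Agent.Lib.Coprime
import Cfsg.Agent.Lib.PLocal.Constrained
import Cfsg.Agent.Lib.SmallSimple.RadicalQuotient
import Cfsg.Agent.Lib.Transitivity

/-!
Groups with constrained involution centralisers: balance, and triviality of the cores from a Sylow subgroup
normalising no nontrivial subgroup of odd order.
-/

set_option autoImplicit false

namespace CfsgLib.CharTwoEarly

open Cfsg

/-- An odd subgroup centralising an involution and normalised by its centraliser is trivial. -/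
theorem eq_bot_of_radical {K : Type*} [Group K] [Finite K]
    (hK : Subgroup.centralizer (pCore 2 K : Set K) ≤ pCore 2 K) {t : K} (ht : t * t = 1) {X : Subgroup K}
    (hX : Odd (Nat.card X)) (hXt : ∀ y ∈ X, t * y = y * t)
    (hn : ∀ r : K, t * r = r * t → ∀ y ∈ X, r * y * r⁻¹ ∈ X) : X = ⊥ := by
  haveI := Fact.mk Nat.prime_two
  have hcop : (Nat.card X).Coprime 2 := Nat.coprime_two_right.mpr hX
  set R := pCore 2 K
  have hodd : ∀ y ∈ X, y ∈ R → y = 1 := fun y hy hyR => by
    obtain ⟨k, hk⟩ := IsPGroup.iff_card.mp (CfsgLib.isPGroup_pCore 2 (G := K))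
    exact orderOf_eq_one_iff.mp (Nat.eq_one_of_dvd_coprimes (hcop.pow_right k) (Subgroup.orderOf_dvd_natCard X hy)
      (hk ▸ Subgroup.orderOf_dvd_natCard R hyR))
  set P := Subgroup.zpowers t
  have hP : IsPGroup 2 P := fun ⟨y, hy⟩ => by
    obtain ⟨i, rfl⟩ := Subgroup.mem_zpowers_iff.mp hy
    refine ⟨1, Subtype.ext ?_⟩
    change (t ^ i) ^ 2 ^ 1 = 1
    rw [pow_one, pow_two, ← zpow_add, ← two_mul, zpow_mul, zpow_two, ht, one_zpow]
  have h := CfsgLib.thompson_PxQ hP hcop
    (Subgroup.zpowers_le.mpr (Subgroup.mem_centralizer_iff.mpr fun y hy => (hXt y hy).symm)) R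
    (CfsgLib.isPGroup_pCore 2) (by rw [Subgroup.normalizer_eq_top]; exact le_top)
    (by rw [Subgroup.normalizer_eq_top]; exact le_top) (by
      rintro r ⟨hr, hrc⟩
      refine Subgroup.mem_centralizer_iff.mpr fun y hy => ?_
      have hrt : t * r = r * t := Subgroup.mem_centralizer_iff.mp hrc t (Subgroup.mem_zpowers t)
      have h1 : r * y * r⁻¹ * y⁻¹ ∈ X := mul_mem (hn r hrt y hy) (inv_mem hy)
      have h2 : r * y * r⁻¹ * y⁻¹ ∈ R := by
        rw [show r * y * r⁻¹ * y⁻¹ = r * (y * r⁻¹ * y⁻¹) by group]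
        exact mul_mem hr ((inferInstance : R.Normal).conj_mem _ (inv_mem hr) y)
      have h3 := hodd _ h1 h2
      rw [mul_inv_eq_one, mul_inv_eq_iff_eq_mul] at h3
      exact h3.symm)
  exact eq_bot_iff.mpr fun y hy => Subgroup.mem_bot.mpr (hodd y hy (hK (h hy)))

variable {G : Type*} [Group G] [Finite G]

/-- The core of the centraliser of an element. -/
abbrev core (t : G) : Subgroup G :=
  (pPrimeCore 2 (Subgroup.centralizer ({t} : Set G))).map (Subgroup.centralizer ({t} : Set G)).subtype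

theorem core_le (t : G) : core t ≤ Subgroup.centralizer ({t} : Set G) := Subgroup.map_subtype_le _

theorem core_comm {t y : G} (hy : y ∈ core t) : y * t = t * y :=
  Subgroup.mem_centralizer_singleton_iff.mp (core_le t hy)

theorem odd_core (t : G) : Odd (Nat.card (core t)) := by
  rw [Subgroup.card_map_of_injective (Subgroup.subtype_injective _)]
  exact Nat.coprime_two_right.mp (CfsgLib.card_pPrimeCore_coprime 2)

theorem conj_mem_core {t r y : G} (hr : r * t = t * r) (hy : y ∈ core t) : r * y * r⁻¹ ∈ core t := by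
  obtain ⟨y, hy, rfl⟩ := hy
  exact ⟨⟨r, Subgroup.mem_centralizer_singleton_iff.mpr hr⟩ * y * ⟨r, Subgroup.mem_centralizer_singleton_iff.mpr hr⟩⁻¹,
    (inferInstance : (pPrimeCore 2 (Subgroup.centralizer ({t} : Set G))).Normal).conj_mem y hy _, rfl⟩

/-- Balance. -/
theorem balance {f t : G} (hf : IsPConstrained 2 ↥(Subgroup.centralizer ({f} : Set G))) (ht : t * t = 1)
    (htf : t * f = f * t) {y : G} (hy : y ∈ core t) (hyf : y * f = f * y) : y ∈ core f := by
  haveI := Fact.mk Nat.prime_two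
  set H := Subgroup.centralizer ({f} : Set G)
  set π := QuotientGroup.mk' (pPrimeCore 2 H)
  let t' : H := ⟨t, Subgroup.mem_centralizer_singleton_iff.mpr htf⟩
  have hP : IsPGroup 2 (Subgroup.zpowers t') := fun ⟨w, hw⟩ => by
    obtain ⟨i, rfl⟩ := Subgroup.mem_zpowers_iff.mp hw
    refine ⟨1, Subtype.ext ?_⟩
    change (t' ^ i) ^ 2 ^ 1 = 1
    rw [pow_one, pow_two, ← zpow_add, ← two_mul, zpow_mul, zpow_two, show t' * t' = 1 from Subtype.ext ht, one_zpow]
  have hlift : ∀ r : H ⧸ pPrimeCore 2 H, π t' * r = r * π t' → ∃ s : H, s * t' = t' * s ∧ π s = r := by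
    intro r hr
    have h1 : r ∈ Subgroup.centralizer (((Subgroup.zpowers t').map π : Subgroup _) : Set (H ⧸ pPrimeCore 2 H)) := by
      refine Subgroup.mem_centralizer_iff.mpr ?_
      rintro _ ⟨w, hw, rfl⟩
      obtain ⟨i, rfl⟩ := Subgroup.mem_zpowers_iff.mp hw
      rw [map_zpow]
      exact ((show Commute (π t') r from hr).zpow_left i).eq
    rw [← CfsgLib.PLocal.map_centralizer_eq _ (CfsgLib.card_pPrimeCore_coprime 2) hP] at h1
    obtain ⟨s, hs, rfl⟩ := h1
    exact ⟨s, (Subgroup.mem_centralizer_iff.mp hs t' (Subgroup.mem_zpowers t')).symm, rfl⟩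
  set X := (core t).subgroupOf H
  have hX : Odd (Nat.card X) := by
    rw [← Subgroup.card_map_of_injective H.subtype_injective, Subgroup.subgroupOf_map_subtype]
    exact Odd.of_dvd_nat (odd_core t) (Subgroup.card_dvd_of_le inf_le_left)
  have hbot := eq_bot_of_radical (CfsgLib.Transitivity.centralizer_pCore_quotient_le hf) (t := π t')
    (by rw [← map_mul, show t' * t' = 1 from Subtype.ext ht, map_one]) (X := X.map π)
    (Odd.of_dvd_nat hX (Subgroup.card_map_dvd _ _)) (by
      rintro _ ⟨w, hw, rfl⟩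
      rw [← map_mul, ← map_mul]
      exact congrArg π (Subtype.ext (core_comm hw).symm)) (by
      rintro r hr _ ⟨w, hw, rfl⟩
      obtain ⟨s, hs, rfl⟩ := hlift r hr
      refine ⟨s * w * s⁻¹, ?_, by simp⟩
      exact conj_mem_core (congrArg Subtype.val hs) hw)
  have hmem : π ⟨y, Subgroup.mem_centralizer_singleton_iff.mpr hyf⟩ ∈ X.map π := ⟨_, hy, rfl⟩
  rw [hbot, Subgroup.mem_bot] at hmem
  exact ⟨_, (QuotientGroup.eq_one_iff _).mp hmem, rfl⟩

/-- An involution without fixed points on an odd subgroup inverts it. -/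
theorem inverts {Y : Subgroup G} (hY : Odd (Nat.card Y)) {t : G} (htt : t * t = 1)
    (htY : ∀ y ∈ Y, t * y * t⁻¹ ∈ Y) (hf : ∀ y ∈ Y, y * t = t * y → y = 1) :
    ∀ y ∈ Y, t * y * t⁻¹ = y⁻¹ := by
  intro y hy
  let f : Y → Y := fun x => ⟨(x : G)⁻¹ * (t * x * t⁻¹), mul_mem (inv_mem x.2) (htY _ x.2)⟩
  have hf1 : Function.Injective f := by
    intro a b e
    have e' : (a : G)⁻¹ * (t * a * t⁻¹) = (b : G)⁻¹ * (t * b * t⁻¹) := congrArg Subtype.val e
    refine Subtype.ext (mul_inv_eq_one.mp (hf _ (mul_mem a.2 (inv_mem b.2)) ?_))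
    calc (a : G) * (b : G)⁻¹ * t = (a : G) * ((b : G)⁻¹ * (t * b * t⁻¹)) * t * (b : G)⁻¹ := by group
      _ = t * ((a : G) * (b : G)⁻¹) := by rw [← e']; group
  obtain ⟨x, hx⟩ := (Finite.injective_iff_surjective.mp hf1) ⟨y, hy⟩
  have hx' : (x : G)⁻¹ * (t * x * t⁻¹) = y := congrArg Subtype.val hx
  have ht' : t⁻¹ = t := inv_eq_of_mul_eq_one_right htt
  rw [← hx', mul_inv_rev, inv_inv, show t * ((x : G)⁻¹ * (t * x * t⁻¹)) * t⁻¹ =
    (t * (x : G)⁻¹ * t) * (x : G) * (t⁻¹ * t⁻¹) by group, mul_inv_rev, mul_inv_rev, inv_inv, ht']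
  rw [show t * t = 1 from htt]
  group

/-- Square roots in a subgroup of odd order. -/
theorem exists_sq {Y : Subgroup G} (hY : Odd (Nat.card Y)) {y : G} (hy : y ∈ Y) : ∃ r ∈ Y, r * r = y := by
  obtain ⟨k, hk⟩ := hY
  refine ⟨y ^ (k + 1), Y.pow_mem hy _, ?_⟩
  rw [← pow_add, show k + 1 + (k + 1) = (2 * k + 1) + 1 by ring, ← hk, pow_succ,
    show y ^ Nat.card Y = 1 from orderOf_dvd_iff_pow_eq_one.mp (Subgroup.orderOf_dvd_natCard Y hy), one_mul]

/-- An odd subgroup on which two commuting involutions and their product have no fixed points is trivial. -/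
theorem eq_bot_of_four {Y : Subgroup G} (hY : Odd (Nat.card Y)) {a b : G} (haa : a * a = 1) (hbb : b * b = 1)
    (ha : ∀ y ∈ Y, a * y * a⁻¹ ∈ Y) (hb : ∀ y ∈ Y, b * y * b⁻¹ ∈ Y) (hfa : ∀ y ∈ Y, y * a = a * y → y = 1)
    (hfb : ∀ y ∈ Y, y * b = b * y → y = 1) (hfab : ∀ y ∈ Y, y * (a * b) = a * b * y → y = 1) : Y = ⊥ := by
  refine eq_bot_iff.mpr fun y hy => Subgroup.mem_bot.mpr (hfab y hy ?_)
  have h1 := inverts hY haa ha hfa y hy
  have h2 := inverts hY hbb hb hfb y hy
  have : a * (b * y * b⁻¹) * a⁻¹ = y := by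
    rw [h2, show a * y⁻¹ * a⁻¹ = (a * y * a⁻¹)⁻¹ by group, h1, inv_inv]
  calc y * (a * b) = a * (b * y * b⁻¹) * a⁻¹ * (a * b) := by rw [this]
    _ = a * b * y := by group

section Cores

variable (hcon : ∀ t : G, orderOf t = 2 → IsPConstrained 2 ↥(Subgroup.centralizer ({t} : Set G)))
include hcon

/-- The cores of involutions commuting with a core-free involution are inverted by it. -/
theorem core_inverted {z e : G} (hz : orderOf z = 2) (hcz : core z = ⊥) (he : e * e = 1) (hze : z * e = e * z) :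
    ∀ y ∈ core e, z * y * z⁻¹ = y⁻¹ := by
  refine inverts (odd_core e) (by rw [← pow_two, ← hz, pow_orderOf_eq_one]) (fun y hy => conj_mem_core hze hy) ?_
  intro y hy hyz
  have := balance (hcon z hz) he hze.symm hy hyz
  rwa [hcz, Subgroup.mem_bot] at this

theorem core_comm_self {z e : G} (hz : orderOf z = 2) (hcz : core z = ⊥) (he : e * e = 1) (hze : z * e = e * z)
    {x y : G} (hx : x ∈ core e) (hy : y ∈ core e) : x * y = y * x := by
  have h := core_inverted hcon hz hcz he hze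
  have h1 := h _ (mul_mem hx hy)
  rw [show z * (x * y) * z⁻¹ = (z * x * z⁻¹) * (z * y * z⁻¹) by group, h x hx, h y hy, mul_inv_rev] at h1
  have h2 : (x⁻¹ * y⁻¹)⁻¹ = (y⁻¹ * x⁻¹)⁻¹ := by rw [h1]
  rw [mul_inv_rev, mul_inv_rev, inv_inv, inv_inv] at h2
  exact h2.symm

/-- Decomposition of the square of an element of a core. -/
theorem sq_decomp {z e f : G} (hz : orderOf z = 2) (hcz : core z = ⊥) (he : e * e = 1) (hff : f * f = 1)
    (hze : z * e = e * z) (hzf : z * f = f * z) (hef : f * e = e * f) {y : G} (hy : y ∈ core e) :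
    ∃ d d', d ∈ core e ∧ d' ∈ core e ∧ d * d' = y * y ∧ d * f = f * d ∧ d' * (f * z) = f * z * d' := by
  have hzinv := core_inverted hcon hz hcz he hze
  set y' := f * y * f⁻¹ with hy'
  have hy'm : y' ∈ core e := conj_mem_core hef hy
  have hcy : y * y' = y' * y := core_comm_self hcon hz hcz he hze hy hy'm
  have hff' : f * y' * f⁻¹ = y := by
    rw [hy', show f * (f * y * f⁻¹) * f⁻¹ = (f * f) * y * (f * f)⁻¹ by group, hff, one_mul, inv_one, mul_one]
  refine ⟨y * y', y * y'⁻¹, mul_mem hy hy'm, mul_mem hy (inv_mem hy'm), ?_, ?_, ?_⟩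
  · rw [hcy, show y' * y * (y * y'⁻¹) = y' * (y * y) * y'⁻¹ by group]
    have : Commute y' (y * y) := (show Commute y' y from hcy.symm).mul_right hcy.symm
    rw [this.eq, mul_inv_cancel_right]
  · calc y * y' * f = y' * y * f := by rw [hcy]
      _ = f * (y * (f⁻¹ * y * f)) := by rw [hy']; group
      _ = f * (y * y') := by
        rw [show f⁻¹ = f from inv_eq_of_mul_eq_one_right hff, hy', show f⁻¹ = f from inv_eq_of_mul_eq_one_right hff]
  · have h1 : f * z * (y * y'⁻¹) * (f * z)⁻¹ = y * y'⁻¹ := by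
      rw [show f * z * (y * y'⁻¹) * (f * z)⁻¹ = f * (z * (y * y'⁻¹) * z⁻¹) * f⁻¹ by group,
        hzinv _ (mul_mem hy (inv_mem hy'm)), mul_inv_rev, inv_inv,
        show f * (y' * y⁻¹) * f⁻¹ = (f * y' * f⁻¹) * (f * y * f⁻¹)⁻¹ by group, hff', ← hy']
    rw [mul_inv_eq_iff_eq_mul] at h1
    exact h1.symm

theorem cores_commute_gen {z e f : G} (hz : orderOf z = 2) (hcz : core z = ⊥) (he : orderOf e = 2) (hf : orderOf f = 2)
    (hze : z * e = e * z) (hzf : z * f = f * z) (hef : f * e = e * f) (hfne : f ≠ e * z) {x y : G}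
    (hx : x ∈ core e) (hy : y ∈ core f) : x * y = y * x := by
  obtain ⟨r, hr, rfl⟩ := exists_sq (odd_core e) hx
  obtain ⟨s, hs, rfl⟩ := exists_sq (odd_core f) hy
  have hee : e * e = 1 := by rw [← pow_two, ← he, pow_orderOf_eq_one]
  have hff : f * f = 1 := by rw [← pow_two, ← hf, pow_orderOf_eq_one]
  have hzz : z * z = 1 := by rw [← pow_two, ← hz, pow_orderOf_eq_one]
  obtain ⟨d, d', hd, hd', hdd, hdf, hd'f⟩ := sq_decomp hcon hz hcz hee hff hze hzf hef hr
  obtain ⟨g, g', hg, hg', hgg, hge, hg'e⟩ := sq_decomp hcon hz hcz hff hee hzf hze hef.symm hs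
  have hdF : d ∈ core f := balance (hcon f hf) hee hef.symm hd hdf
  have hgE : g ∈ core e := balance (hcon e he) hff hef hg hge
  have c1 : Commute d g := core_comm_self hcon hz hcz hff hzf hdF hg
  have c2 : Commute d g' := core_comm_self hcon hz hcz hff hzf hdF hg'
  have c3 : Commute d' g := core_comm_self hcon hz hcz hee hze hd' hgE
  have hefz : orderOf (e * (f * z)) = 2 := by
    refine orderOf_eq_prime ?_ fun h => hfne ?_
    · rw [pow_two]
      have h1 : Commute e (f * z) := (show Commute e f from hef.symm).mul_right hze.symm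
      rw [show e * (f * z) * (e * (f * z)) = e * ((f * z) * e) * (f * z) by group, h1.eq.symm,
        show e * (e * (f * z)) * (f * z) = (e * e) * (f * (z * f) * z) by group, hzf, hee,
        show f * (f * z) * z = (f * f) * (z * z) by group, hff, hzz, one_mul, one_mul]
    · have h1 := eq_inv_of_mul_eq_one_right h
      rw [inv_eq_of_mul_eq_one_right hee] at h1
      rw [← h1, mul_assoc, hzz, mul_one]
  have hm : ∀ w, w ∈ core e → w * (f * z) = f * z * w → w ∈ core (e * (f * z)) := fun w hw hw' =>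
    balance (hcon _ hefz) hee (by
      have : Commute e (e * (f * z)) := (Commute.refl e).mul_right ((show Commute e f from hef.symm).mul_right hze.symm)
      exact this.eq) hw
      ((show Commute w e from core_comm hw).mul_right hw').eq
  have hd'm : d' ∈ core (e * (f * z)) := hm d' hd' hd'f
  have hg'm : g' ∈ core (e * (f * z)) := by
    refine balance (hcon _ hefz) hff ?_ hg' ?_
    · exact ((show Commute f e from hef).mul_right ((Commute.refl f).mul_right hzf.symm)).eq
    · rw [show e * (f * z) = f * (e * z) by rw [← mul_assoc, ← mul_assoc, hef]]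
      exact ((show Commute g' f from core_comm hg').mul_right hg'e).eq
  have c4 : Commute d' g' := by
    refine core_comm_self hcon hz hcz (by rw [← pow_two, ← hefz, pow_orderOf_eq_one]) ?_ hd'm hg'm
    exact ((show Commute z e from hze).mul_right ((show Commute z f from hzf).mul_right (Commute.refl z))).eq
  rw [← hdd, ← hgg]
  exact ((c1.mul_right c2).mul_left (c3.mul_right c4)).eq

/-- In an elementary abelian group of order at least eight the cores commute. -/
theorem cores_commute {z e f : G} {E : Subgroup G} (hE : ∀ a ∈ E, ∀ b ∈ E, a * b = b * a)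
    (hE2 : ∀ a ∈ E, a * a = 1) (hEc : 4 < Nat.card E) (hz : orderOf z = 2) (hzE : z ∈ E) (hcz : core z = ⊥)
    (he : e ∈ E) (hf : f ∈ E) (he1 : e ≠ 1) (hf1 : f ≠ 1) {x y : G} (hx : x ∈ core e) (hy : y ∈ core f) :
    x * y = y * x := by
  classical
  have ho : ∀ a ∈ E, a ≠ 1 → orderOf a = 2 := fun a ha h => orderOf_eq_prime (by rw [pow_two, hE2 a ha]) h
  by_cases hfz : f = e * z
  · -- split along a third element
    obtain ⟨g, hgE, hg⟩ : ∃ g ∈ E, g ∉ ({1, z, e, e * z} : Finset G) := by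
      by_contra hall
      push Not at hall
      have : Nat.card E ≤ ({1, z, e, e * z} : Finset G).card := by
        rw [← Nat.card_eq_finsetCard]
        exact Nat.card_le_card_of_injective (fun a : E => (⟨(a : G), hall a a.2⟩ : ({1, z, e, e * z} : Finset G)))
          fun a b h => Subtype.ext (congrArg Subtype.val h :)
      have h4 : ({1, z, e, e * z} : Finset G).card ≤ 4 := Finset.card_le_four
      omega
    simp only [Finset.mem_insert, Finset.mem_singleton, not_or] at hg
    obtain ⟨hg1, hgz, hge, hgez⟩ := hg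
    have hzz := hE2 z hzE
    have hee := hE2 e he
    have hgzE : g * z ∈ E := mul_mem hgE hzE
    have hgz1 : g * z ≠ 1 := fun h => hgz (by rw [eq_inv_of_mul_eq_one_left h, inv_eq_of_mul_eq_one_right hzz])
    obtain ⟨r, hr, rfl⟩ := exists_sq (odd_core e) hx
    obtain ⟨d, d', hd, hd', hdd, hdg, hd'g⟩ :=
      sq_decomp hcon hz hcz hee (hE2 g hgE) (hE z hzE e he) (hE z hzE g hgE) (hE g hgE e he) hr
    have hdG : d ∈ core g := balance (hcon g (ho g hgE hg1)) hee (hE e he g hgE) hd hdg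
    have hdG' : d' ∈ core (g * z) :=
      balance (hcon _ (ho _ hgzE hgz1)) hee (hE e he _ hgzE) hd' hd'g
    have c1 : Commute d y := cores_commute_gen hcon hz hcz (ho g hgE hg1) (ho f hf hf1) (hE z hzE g hgE)
      (hE z hzE f hf) (hE f hf g hgE) (by
        intro h
        rw [hfz] at h
        exact hge (mul_right_cancel h).symm) hdG hy
    have c2 : Commute d' y := cores_commute_gen hcon hz hcz (ho _ hgzE hgz1) (ho f hf hf1) (hE z hzE _ hgzE)
      (hE z hzE f hf) (hE f hf _ hgzE) (by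
        intro h
        rw [hfz, mul_assoc g z z, hzz, mul_one] at h
        exact hgez h.symm) hdG' hy
    rw [← hdd]
    exact (c1.mul_left c2).eq
  · exact cores_commute_gen hcon hz hcz (ho e he he1) (ho f hf hf1) (hE z hzE e he) (hE z hzE f hf) (hE f hf e he)
      hfz hx hy

/-- All cores are trivial. -/
theorem core_eq_bot (S : Sylow 2 G)
    (hinv : ∀ X : Subgroup G, Odd (Nat.card X) → (S : Subgroup G) ≤ Subgroup.normalizer (X : Set G) → X = ⊥)
    {E : Subgroup G} (hES : E ≤ (S : Subgroup G)) (hEn : ∀ s ∈ (S : Subgroup G), ∀ a ∈ E, s * a * s⁻¹ ∈ E)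
    (hE : ∀ a ∈ E, ∀ b ∈ E, a * b = b * a) (hE2 : ∀ a ∈ E, a * a = 1) (hEc : 4 < Nat.card E)
    {z : G} (hz : orderOf z = 2) (hzE : z ∈ E) (hzS : ∀ s ∈ (S : Subgroup G), s * z = z * s) :
    ∀ t : G, orderOf t = 2 → core t = ⊥ := by
  classical
  haveI := Fact.mk Nat.prime_two
  have hcz : core z = ⊥ := hinv _ (odd_core z) fun s hs => Subgroup.mem_normalizer_iff.mpr fun y =>
    ⟨fun hy => conj_mem_core (hzS s hs) hy, fun hy => by
      have := conj_mem_core (hzS _ (inv_mem hs)) hy
      rwa [show s⁻¹ * (s * y * s⁻¹) * s⁻¹⁻¹ = y by group] at this⟩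
  have ho : ∀ a ∈ E, a ≠ 1 → orderOf a = 2 := fun a ha h => orderOf_eq_prime (by rw [pow_two, hE2 a ha]) h
  set B : Set G := {y | ∃ e ∈ E, e ≠ 1 ∧ y ∈ core e} with hB
  set W := Subgroup.closure B
  have hBc : ∀ a ∈ B, ∀ b ∈ B, a * b = b * a := by
    rintro a ⟨e, he, he1, ha⟩ b ⟨f, hf, hf1, hb⟩
    exact cores_commute hcon hE hE2 hEc hz hzE hcz he hf he1 hf1 ha hb
  have hWc : ∀ a ∈ W, ∀ b ∈ W, Commute a b := by
    intro a ha b hb
    have h1 : W ≤ Subgroup.centralizer B := (Subgroup.closure_le _).mpr fun u hu v hv => hBc v hv u hu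
    have h2 : W ≤ Subgroup.centralizer (W : Set G) := (Subgroup.closure_le _).mpr fun u hu v hv =>
      (Subgroup.mem_centralizer_iff.mp (h1 hv) u hu).symm
    exact (Subgroup.mem_centralizer_iff.mp (h2 ha) b hb).symm
  have hWo : ∀ w ∈ W, Odd (orderOf w) := by
    intro w hw
    induction hw using Subgroup.closure_induction with
    | mem y hy =>
      obtain ⟨e, -, -, hy⟩ := hy
      exact Odd.of_dvd_nat (odd_core e) (Subgroup.orderOf_dvd_natCard _ hy)
    | one => simp
    | mul a b ha hb iha ihb => exact Odd.of_dvd_nat (iha.mul ihb) (hWc a ha b hb).orderOf_mul_dvd_mul_orderOf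
    | inv a ha iha => rwa [orderOf_inv]
  have hW : W = ⊥ := by
    refine hinv W ?_ ?_
    · by_contra hodd
      rw [Nat.not_odd_iff_even, even_iff_two_dvd] at hodd
      obtain ⟨w, hw⟩ := exists_prime_orderOf_dvd_card' 2 hodd
      have := hWo w w.2
      rw [Subgroup.orderOf_coe, hw] at this
      exact absurd this (by decide)
    · intro s hs
      have key : ∀ r ∈ (S : Subgroup G), ∀ y ∈ W, r * y * r⁻¹ ∈ W := by
        intro r hr y hy
        induction hy using Subgroup.closure_induction with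
        | mem y hy =>
          obtain ⟨e, he, he1, hy⟩ := hy
          refine Subgroup.subset_closure ⟨r * e * r⁻¹, hEn r hr e he, fun h => he1 (conj_eq_one_iff.mp h), ?_⟩
          obtain ⟨c, hc, rfl⟩ := hy
          let H := Subgroup.centralizer ({e} : Set G)
          let H' := Subgroup.centralizer ({r * e * r⁻¹} : Set G)
          have hm : ∀ u : H, r * (u : G) * r⁻¹ ∈ H' := fun u => Subgroup.mem_centralizer_singleton_iff.mpr (by
            rw [show r * (u : G) * r⁻¹ * (r * e * r⁻¹) = r * ((u : G) * e) * r⁻¹ by group,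
              Subgroup.mem_centralizer_singleton_iff.mp u.2]
            group)
          let φ : H →* H' := MonoidHom.mk' (fun u => ⟨r * (u : G) * r⁻¹, hm u⟩) fun u v => Subtype.ext (by
            change r * ((u : G) * v) * r⁻¹ = r * u * r⁻¹ * (r * v * r⁻¹)
            group)
          have hφ : Function.Surjective φ := fun u => by
            refine ⟨⟨r⁻¹ * (u : G) * r, Subgroup.mem_centralizer_singleton_iff.mpr ?_⟩, Subtype.ext ?_⟩
            · rw [show r⁻¹ * (u : G) * r * e = r⁻¹ * ((u : G) * (r * e * r⁻¹)) * r by group,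
                Subgroup.mem_centralizer_singleton_iff.mp u.2]
              group
            · change r * (r⁻¹ * (u : G) * r) * r⁻¹ = u
              group
          exact ⟨φ c, CfsgLib.le_pPrimeCore (N := (pPrimeCore 2 H).map φ) (hN := Subgroup.Normal.map inferInstance φ hφ)
            ((CfsgLib.card_pPrimeCore_coprime 2).coprime_dvd_left (Subgroup.card_map_dvd _ _)) ⟨c, hc, rfl⟩, rfl⟩
        | one => rw [mul_one, mul_inv_cancel]; exact one_mem _
        | mul a b ha hb iha ihb =>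
          rw [show r * (a * b) * r⁻¹ = r * a * r⁻¹ * (r * b * r⁻¹) by group]
          exact mul_mem iha ihb
        | inv a ha iha =>
          rw [show r * a⁻¹ * r⁻¹ = (r * a * r⁻¹)⁻¹ by group]
          exact inv_mem iha
      exact Subgroup.mem_normalizer_iff.mpr fun y => ⟨key s hs y, fun hy => by
        have := key _ (inv_mem hs) _ hy
        rwa [show s⁻¹ * (s * y * s⁻¹) * s⁻¹⁻¹ = y by group] at this⟩
  have hcE : ∀ e ∈ E, e ≠ 1 → core e = ⊥ := fun e he he1 => eq_bot_iff.mpr fun y hy =>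
    hW ▸ Subgroup.subset_closure ⟨e, he, he1, hy⟩
  intro t ht
  -- move the involution into the Sylow subgroup
  obtain ⟨T, hT⟩ := (IsPGroup.of_card (n := 1) (show Nat.card (Subgroup.zpowers t) = 2 ^ 1 by
    rw [Nat.card_zpowers, ht, pow_one])).exists_le_sylow
  obtain ⟨g, hg⟩ := MulAction.exists_smul_eq G T S
  set t' := g * t * g⁻¹ with ht'
  have ht'S : t' ∈ (S : Subgroup G) := by
    rw [← hg, Sylow.coe_subgroup_smul]
    exact ⟨t, hT (Subgroup.mem_zpowers t), rfl⟩
  have htt : t' * t' = 1 := by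
    rw [ht', show g * t * g⁻¹ * (g * t * g⁻¹) = g * (t * t) * g⁻¹ by group, ← pow_two, ← ht, pow_orderOf_eq_one]
    group
  let φ : E →* E := MonoidHom.mk' (fun a => ⟨(a : G) * (t' * a * t'⁻¹), mul_mem a.2 (hEn t' ht'S a a.2)⟩) fun a b =>
    Subtype.ext (by
      change (a : G) * b * (t' * (a * b) * t'⁻¹) = a * (t' * a * t'⁻¹) * (b * (t' * b * t'⁻¹))
      rw [show (a : G) * b * (t' * (a * b) * t'⁻¹) = a * (b * (t' * a * t'⁻¹)) * (t' * b * t'⁻¹) by group,
        hE b b.2 _ (hEn t' ht'S a a.2)]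
      group)
  have hker : ∀ a : E, a ∈ φ.ker → (a : G) * t' = t' * a := fun a ha => by
    have h1 : (a : G) * (t' * a * t'⁻¹) = 1 := congrArg Subtype.val ha
    have h2 : t' * (a : G) * t'⁻¹ = a := by
      rw [eq_inv_of_mul_eq_one_right h1, inv_eq_of_mul_eq_one_right (hE2 _ a.2)]
    exact (mul_inv_eq_iff_eq_mul.mp h2).symm
  have hrk : φ.range ≤ φ.ker := by
    rintro _ ⟨a, rfl⟩
    refine Subtype.ext ?_
    change (a : G) * (t' * a * t'⁻¹) * (t' * ((a : G) * (t' * a * t'⁻¹)) * t'⁻¹) = 1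
    have h2 : t' * ((a : G) * (t' * a * t'⁻¹)) * t'⁻¹ = (t' * a * t'⁻¹) * (a : G) := by
      rw [show t' * ((a : G) * (t' * a * t'⁻¹)) * t'⁻¹ = (t' * a * t'⁻¹) * ((t' * t') * a * (t' * t')⁻¹) by group, htt]
      group
    rw [h2, mul_assoc, ← mul_assoc (t' * (a : G) * t'⁻¹), hE2 _ (hEn t' ht'S a a.2), one_mul, hE2 _ a.2]
  have hk4 : 2 < Nat.card φ.ker := by
    have h1 := φ.ker.card_mul_index
    rw [Subgroup.index_ker] at h1
    have h2 := Nat.mul_le_mul_left (Nat.card φ.ker) (Subgroup.card_le_of_le hrk)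
    by_contra hle
    have := Nat.mul_le_mul (show Nat.card φ.ker ≤ 2 by omega) (show Nat.card φ.ker ≤ 2 by omega)
    omega
  haveI : Fintype φ.ker := Fintype.ofFinite _
  obtain ⟨a, ha⟩ := Fintype.exists_ne_of_one_lt_card (by rw [← Nat.card_eq_fintype_card]; omega) (1 : φ.ker)
  obtain ⟨b, -, hb⟩ : ∃ b ∈ (Finset.univ : Finset φ.ker), b ∉ ({1, a} : Finset φ.ker) := by
    refine Finset.exists_mem_notMem_of_card_lt_card ?_
    rw [Finset.card_univ, ← Nat.card_eq_fintype_card]
    exact lt_of_le_of_lt Finset.card_le_two hk4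
  simp only [Finset.mem_insert, Finset.mem_singleton, not_or] at hb
  set a' : G := ((a : E) : G)
  set b' : G := ((b : E) : G)
  have ha1 : a' ≠ 1 := fun h => ha (Subtype.ext (Subtype.ext h))
  have hb1 : b' ≠ 1 := fun h => hb.1 (Subtype.ext (Subtype.ext h))
  have hab1 : a' * b' ≠ 1 := fun h => hb.2 (Subtype.ext (Subtype.ext (by
    change b' = a'
    rw [eq_inv_of_mul_eq_one_right h, inv_eq_of_mul_eq_one_right (hE2 _ (a : E).2)])))
  have hY : core t' = ⊥ := by
    have hfix : ∀ c ∈ E, c ≠ 1 → c * t' = t' * c → ∀ y ∈ core t', y * c = c * y → y = 1 := fun c hc hc1 hct y hy hyc => by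
      have := balance (hcon c (ho c hc hc1)) htt hct.symm hy hyc
      rwa [hcE c hc hc1, Subgroup.mem_bot] at this
    refine eq_bot_of_four (odd_core t') (hE2 _ (a : E).2) (hE2 _ (b : E).2)
      (fun y hy => conj_mem_core (hker _ a.2) hy) (fun y hy => conj_mem_core (hker _ b.2) hy)
      (hfix _ (a : E).2 ha1 (hker _ a.2)) (hfix _ (b : E).2 hb1 (hker _ b.2))
      (hfix _ (mul_mem (a : E).2 (b : E).2) hab1 ?_)
    exact ((show Commute a' t' from hker _ a.2).mul_left (hker _ b.2)).eq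
  refine eq_bot_iff.mpr ?_
  rintro _ ⟨c, hc, rfl⟩
  let H := Subgroup.centralizer ({t} : Set G)
  let H' := Subgroup.centralizer ({t'} : Set G)
  have hm : ∀ u : H, g * (u : G) * g⁻¹ ∈ H' := fun u => Subgroup.mem_centralizer_singleton_iff.mpr (by
    rw [ht', show g * (u : G) * g⁻¹ * (g * t * g⁻¹) = g * ((u : G) * t) * g⁻¹ by group,
      Subgroup.mem_centralizer_singleton_iff.mp u.2]
    group)
  let ψ : H →* H' := MonoidHom.mk' (fun u => ⟨g * (u : G) * g⁻¹, hm u⟩) fun u v => Subtype.ext (by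
    change g * ((u : G) * v) * g⁻¹ = g * u * g⁻¹ * (g * v * g⁻¹)
    group)
  have hψ : Function.Surjective ψ := fun u => by
    refine ⟨⟨g⁻¹ * (u : G) * g, Subgroup.mem_centralizer_singleton_iff.mpr ?_⟩, Subtype.ext ?_⟩
    · rw [show g⁻¹ * (u : G) * g * t = g⁻¹ * ((u : G) * t') * g by rw [ht']; group,
        Subgroup.mem_centralizer_singleton_iff.mp u.2, ht']
      group
    · change g * (g⁻¹ * (u : G) * g) * g⁻¹ = u
      group
  have hmem : g * (c : G) * g⁻¹ ∈ core t' := ⟨ψ c, CfsgLib.le_pPrimeCore (N := (pPrimeCore 2 H).map ψ)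
    (hN := Subgroup.Normal.map inferInstance ψ hψ)
    ((CfsgLib.card_pPrimeCore_coprime 2).coprime_dvd_left (Subgroup.card_map_dvd _ _)) ⟨c, hc, rfl⟩, rfl⟩
  rw [hY, Subgroup.mem_bot, conj_eq_one_iff] at hmem
  exact Subgroup.mem_bot.mpr hmem

end Cores

end CfsgLib.CharTwoEarly
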