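/-
The transfer lemma of Thompson in extremal form.
-/
import Mathlib

set_option autoImplicit false
set_option linter.style.haveILetI false

namespace CfsgLib.TransferExtremal

variable {G : Type*} [Group G] [Finite G]

/-- An involution outside a subgroup of index two of a Sylow 2-subgroup `P` is conjugate to an element of that
subgroup with at least as large a centraliser in `P`, unless `G` has a normal subgroup of index two. -/
theorem exists_conj (hG : ∀ M : Subgroup G, M.Normal → M.index ≠ 2) (P : Sylow 2 G) (Q : Subgroup G)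
    (hQP : Q ≤ (P : Subgroup G)) (hQi : Q.relIndex (P : Subgroup G) = 2) (u : G) (hu : u ^ 2 = 1) :
    ∃ g : G, g * u * g⁻¹ ∈ Q ∧
      Nat.card ↥(Subgroup.centralizer ({u} : Set G) ⊓ (P : Subgroup G)) ≤
        Nat.card ↥(Subgroup.centralizer ({g * u * g⁻¹} : Set G) ⊓ (P : Subgroup G)) := by
  classical
  set PG : Subgroup G := (P : Subgroup G) with hPG
  have hQ2 : (Q.subgroupOf PG).index = 2 := hQi
  haveI : (Q.subgroupOf PG).Normal := Subgroup.normal_of_index_eq_two hQ2
  by_contra hcon
  push Not at hcon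
  let ψ : PG →* ℤˣ :=
    { toFun := fun x => if x ∈ Q.subgroupOf PG then 1 else -1
      map_one' := by simp [one_mem]
      map_mul' := fun a b => by
        have h := Subgroup.mul_mem_iff_of_index_two hQ2 (a := a) (b := b)
        by_cases ha : a ∈ Q.subgroupOf PG <;> by_cases hb : b ∈ Q.subgroupOf PG <;>
          simp [ha, hb, h] }
  let V : G →* ℤˣ := MonoidHom.transfer ψ
  -- membership in `Q` after conjugation does not depend on the representative
  have hrep : ∀ (g : G) (s : G), s ∈ PG → (g⁻¹ * u * g ∈ Q ↔ (g * s)⁻¹ * u * (g * s) ∈ Q) := by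
    intro g s hs
    have e : (g * s)⁻¹ * u * (g * s) = s⁻¹ * (g⁻¹ * u * g) * s := by group
    rw [e]
    constructor <;> intro h
    · have := Subgroup.Normal.conj_mem' (inferInstance : (Q.subgroupOf PG).Normal) ⟨_, hQP h⟩ h ⟨s, hs⟩
      exact this
    · have hm : g⁻¹ * u * g ∈ PG := by
        have := mul_mem (mul_mem hs (hQP h)) (inv_mem hs)
        simpa [mul_assoc] using this
      have := Subgroup.Normal.conj_mem (inferInstance : (Q.subgroupOf PG).Normal) ⟨_, hQP h⟩ h ⟨s, hs⟩
      simpa [Subgroup.mem_subgroupOf, mul_assoc] using this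
  let X : Set (G ⧸ PG) := {q | u • q = q ∧ (q.out)⁻¹ * u * q.out ∈ Q}
  have hmem : ∀ g : G, (g : G ⧸ PG) ∈ X ↔ g⁻¹ * u * g ∈ Q := by
    intro g
    have hs : g⁻¹ * (g : G ⧸ PG).out ∈ PG := QuotientGroup.eq.mp (QuotientGroup.out_eq' _).symm
    have h1 := hrep g _ hs
    rw [mul_inv_cancel_left] at h1
    refine ⟨fun h => h1.mpr h.2, fun h => ⟨?_, h1.mp h⟩⟩
    rw [MulAction.Quotient.smul_mk, smul_eq_mul, QuotientGroup.eq]
    rw [show (u * g)⁻¹ * g = (g⁻¹ * u * g)⁻¹ by group]
    exact inv_mem (hQP h)
  -- that set has even cardinality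
  have heven : Even (Nat.card X) := by
    let C : Subgroup G := Subgroup.centralizer ({u} : Set G)
    letI : MulAction C X :=
      { smul := fun c q => ⟨(c : G) • (q : G ⧸ PG), by
          obtain ⟨g, hg⟩ := QuotientGroup.mk_surjective (q : G ⧸ PG)
          have hq := q.2
          rw [← hg] at hq ⊢
          rw [MulAction.Quotient.smul_mk, smul_eq_mul, hmem]
          have hc : (c : G) * u = u * c := Subgroup.mem_centralizer_singleton_iff.mp c.2
          rw [show ((c : G) * g)⁻¹ * u * (c * g) = g⁻¹ * ((c : G)⁻¹ * (u * c)) * g by group, ← hc,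
            inv_mul_cancel_left]
          exact (hmem g).mp hq⟩
        one_smul := fun q => Subtype.ext (one_smul G _)
        mul_smul := fun a b q => Subtype.ext (mul_smul (a : G) b _) }
    haveI := Fintype.ofFinite X
    haveI := Fintype.ofFinite (MulAction.orbitRel.Quotient C X)
    rw [Nat.card_congr (MulAction.selfEquivSigmaOrbits C X), Nat.card_sigma, even_iff_two_dvd]
    refine Finset.dvd_sum fun o _ => ?_
    generalize o.out = q
    obtain ⟨g, hg⟩ := QuotientGroup.mk_surjective (q : G ⧸ PG)
    have hgQ : g⁻¹ * u * g ∈ Q := (hmem g).mp (hg ▸ q.2)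
    have hlt := hcon g⁻¹ (by simpa using hgQ)
    rw [inv_inv] at hlt
    have hcard : Nat.card (MulAction.stabilizer C q) =
        Nat.card ↥(Subgroup.centralizer ({g⁻¹ * u * g} : Set G) ⊓ PG) := by
      have hmap : (MulAction.stabilizer C q).map C.subtype =
          (Subgroup.centralizer ({g⁻¹ * u * g} : Set G) ⊓ PG).map (MulAut.conj g).toMonoidHom := by
        ext x
        constructor
        · rintro ⟨⟨x, hx⟩, hs, rfl⟩
          have hxq : x • (g : G ⧸ PG) = g := by rw [hg]; exact congrArg Subtype.val hs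
          refine ⟨g⁻¹ * x * g, Subgroup.mem_inf.mpr ⟨?_, ?_⟩, by simp [mul_assoc]⟩
          · rw [Subgroup.mem_centralizer_singleton_iff]
            have hc : x * u = u * x := Subgroup.mem_centralizer_singleton_iff.mp hx
            simp only [mul_assoc, mul_inv_cancel_left]
            rw [← mul_assoc x u g, hc, mul_assoc]
          · rw [MulAction.Quotient.smul_mk, smul_eq_mul, QuotientGroup.eq] at hxq
            rw [show g⁻¹ * x * g = ((x * g)⁻¹ * g)⁻¹ by group]
            exact inv_mem hxq
        · rintro ⟨y, ⟨hy1, hy2⟩, rfl⟩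
          have hc : y * (g⁻¹ * u * g) = (g⁻¹ * u * g) * y := Subgroup.mem_centralizer_singleton_iff.mp hy1
          have hC : g * y * g⁻¹ ∈ C := by
            rw [Subgroup.mem_centralizer_singleton_iff]
            calc g * y * g⁻¹ * u = g * (y * (g⁻¹ * u * g)) * g⁻¹ := by group
              _ = u * (g * y * g⁻¹) := by rw [hc]; group
          refine ⟨⟨g * y * g⁻¹, hC⟩, Subtype.ext ?_, rfl⟩
          show (g * y * g⁻¹) • (q : G ⧸ PG) = q
          rw [← hg, MulAction.Quotient.smul_mk, smul_eq_mul, QuotientGroup.eq]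
          rw [show (g * y * g⁻¹ * g)⁻¹ * g = y⁻¹ by group]
          exact inv_mem hy2
      rw [← Subgroup.card_map_of_injective C.subtype_injective, hmap,
        Subgroup.card_map_of_injective (MulEquiv.injective _)]
    have hprod : Nat.card (MulAction.orbit C q) * Nat.card (MulAction.stabilizer C q) = Nat.card C := by
      rw [← Nat.card_prod, Nat.card_congr (MulAction.orbitProdStabilizerEquivGroup C q)]
    by_contra hodd
    have h2 : Nat.card ↥(C ⊓ PG) ∣ Nat.card (MulAction.stabilizer C q) := by
      obtain ⟨k, hk⟩ := IsPGroup.iff_card.mp (P.2.to_le (inf_le_right : C ⊓ PG ≤ PG))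
      refine Nat.Coprime.dvd_of_dvd_mul_left ?_ (hprod.symm ▸ Subgroup.card_dvd_of_le (inf_le_left : C ⊓ PG ≤ C))
      rw [hk]
      exact ((Nat.prime_two.coprime_iff_not_dvd).mpr hodd).pow_left k
    have hle := Nat.le_of_dvd Nat.card_pos h2
    rw [hcard] at hle
    change Nat.card ↥(Subgroup.centralizer ({u} : Set G) ⊓ PG) ≤ _ at hle
    exact absurd hle (Nat.not_le.mpr hlt)
  -- the transfer of `u` is `-1`
  haveI : Fintype (Quotient (MulAction.orbitRel (Subgroup.zpowers u) (G ⧸ PG))) := Fintype.ofFinite _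
  have hm : ∀ q : G ⧸ PG, Function.minimalPeriod (u • ·) q = 1 ∨ Function.minimalPeriod (u • ·) q = 2 := by
    intro q
    refine (Nat.dvd_prime Nat.prime_two).mp (Function.IsPeriodicPt.minimalPeriod_dvd ?_)
    show (fun x : G ⧸ PG => u • x)^[2] q = q
    rw [smul_iterate, hu]
    exact one_smul G q
  let T := Finset.univ.filter fun o : Quotient (MulAction.orbitRel (Subgroup.zpowers u) (G ⧸ PG)) => o.out ∈ X
  have hV : V u = (-1) ^ PG.index * (-1) ^ T.card := by
    rw [Subgroup.index_eq_sum_minimalPeriod PG u, ← Finset.prod_pow_eq_pow_sum]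
    show MonoidHom.transfer ψ u = _
    rw [MonoidHom.transfer_eq_prod_quotient_orbitRel_zpowers_quot, ← Finset.prod_const, Finset.prod_filter,
      ← Finset.prod_mul_distrib]
    refine Finset.prod_congr rfl fun o _ => ?_
    have hval : ∀ (m : ℕ) (g₀ : G) (hmem' : g₀⁻¹ * u ^ m * g₀ ∈ PG), m = 1 ∨ m = 2 →
        (g₀ : G ⧸ PG) = o.out → Function.minimalPeriod (u • ·) o.out = m →
        ψ ⟨g₀⁻¹ * u ^ m * g₀, hmem'⟩ = (-1) ^ m * if o.out ∈ X then -1 else 1 := by
      rintro m g₀ hmem' (rfl | rfl) hg hper
      · have : (o.out ∈ X) ↔ g₀⁻¹ * u * g₀ ∈ Q := by rw [← hg]; exact hmem g₀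
        show (if _ then (1 : ℤˣ) else -1) = _
        rw [Subgroup.mem_subgroupOf]
        simp only [pow_one]
        by_cases hX : o.out ∈ X
        · rw [if_pos hX, if_pos (this.mp hX)]; decide
        · rw [if_neg hX, if_neg (fun h => hX (this.mpr h))]; decide
      · have hnX : o.out ∉ X := fun h => by
          have h1 : Function.minimalPeriod (fun x : G ⧸ PG => u • x) o.out = 1 :=
            Function.minimalPeriod_eq_one_iff_isFixedPt.mpr h.1
          rw [h1] at hper; omega
        rw [if_neg hnX, mul_one]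
        refine (if_pos ?_).trans (neg_one_sq).symm
        rw [Subgroup.mem_subgroupOf]
        simp only [hu, mul_one, inv_mul_cancel]
        exact one_mem _
    exact hval _ _ _ (hm o.out) (QuotientGroup.out_eq' _) rfl
  have hT : T.card = Nat.card X := by
    rw [← Nat.card_eq_finsetCard]
    refine Nat.card_congr (Equiv.ofBijective (fun o => (⟨o.1.out, (Finset.mem_filter.mp o.2).2⟩ : X)) ⟨?_, ?_⟩)
    · intro a b h
      have := congrArg (Quotient.mk (MulAction.orbitRel (Subgroup.zpowers u) (G ⧸ PG))) (congrArg Subtype.val h)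
      simp only [Quotient.out_eq] at this
      exact Subtype.ext this
    · intro q
      have he : (Quotient.mk (MulAction.orbitRel (Subgroup.zpowers u) (G ⧸ PG)) q.1).out = q.1 := by
        obtain ⟨⟨w, k, rfl⟩, hw⟩ := MulAction.orbitRel_apply.mp
          (Quotient.mk_out (s := MulAction.orbitRel (Subgroup.zpowers u) (G ⧸ PG)) q.1)
        rw [← hw]
        show (u ^ k) • q.1 = q.1
        have h1 : u ∈ MulAction.stabilizer G q.1 := q.2.1
        exact zpow_mem h1 k
      exact ⟨⟨Quotient.mk _ q.1, Finset.mem_filter.mpr ⟨Finset.mem_univ _, he.symm ▸ q.2⟩⟩, Subtype.ext he⟩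
  have hodd : Odd PG.index := by
    rw [Nat.odd_iff, ← Nat.two_dvd_ne_zero]
    exact P.not_dvd_index
  rw [hodd.neg_one_pow, hT, heven.neg_one_pow, mul_one] at hV
  refine hG V.ker inferInstance ?_
  rw [Subgroup.index_ker]
  have htop : V.range = ⊤ := by
    rw [eq_top_iff]
    intro x _
    rcases Int.units_eq_one_or x with rfl | rfl
    · exact one_mem _
    · exact ⟨u, hV⟩
  rw [htop, Subgroup.card_top, Nat.card_eq_fintype_card, Fintype.card_units_int]

end CfsgLib.TransferExtremal
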