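import Mathlib.GroupTheory.Nilpotent
import Mathlib.GroupTheory.Sylow
import Cfsg.Prelude.Def_IsolatedElements
import Cfsg.Agent.Lib.Local

/-! Isolated elements. -/

set_option autoImplicit false

namespace CfsgLib.Local

variable {G : Type*} [Group G]

/-- An isolated element is central in every `p`-subgroup containing it. -/
theorem isolated_central [Finite G] {p : ℕ} [Fact p.Prime] {Q : Subgroup G} (hQ : IsPGroup p Q)
    {x : G} (hx : x ∈ Q) (hiso : Cfsg.IsIsolated x) : ∀ q ∈ Q, q * x = x * q := by
  haveI := hQ.isNilpotent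
  set C : Subgroup Q := Subgroup.centralizer ({⟨x, hx⟩} : Set Q) with hC
  have hC' : Subgroup.normalizer (C : Set Q) = C := by
    refine le_antisymm (fun q hq => ?_) Subgroup.le_normalizer
    have h1 := (Subgroup.mem_normalizer_iff.1 hq ⟨x, hx⟩).1
      (Subgroup.mem_centralizer_singleton_iff.2 rfl)
    rw [hC, Subgroup.mem_centralizer_singleton_iff] at h1 ⊢
    have h2 : Commute x ((q : G) * x * (q : G)⁻¹) := (congrArg Subtype.val h1).symm
    exact Subtype.ext (mul_inv_eq_iff_eq_mul.1 (hiso q h2))
  have htop : C = ⊤ := by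
    by_contra hne
    exact lt_irrefl _ ((Group.normalizerCondition_of_isNilpotent C (lt_top_iff_ne_top.2 hne)).trans_eq hC')
  intro q hq
  have := hC ▸ htop ▸ Subgroup.mem_top (⟨q, hq⟩ : Q)
  exact congrArg Subtype.val (Subgroup.mem_centralizer_singleton_iff.1 this)

/-- An isolated element is the only one of its conjugates in a `p`-subgroup containing it. -/
theorem isolated_unique [Finite G] {p : ℕ} [Fact p.Prime] {Q : Subgroup G} (hQ : IsPGroup p Q)
    {x : G} (hx : x ∈ Q) (hiso : Cfsg.IsIsolated x) {g : G} (hg : g * x * g⁻¹ ∈ Q) :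
    g * x * g⁻¹ = x :=
  hiso g (isolated_central hQ hx hiso _ hg).symm

end CfsgLib.Local
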