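import Mathlib

/-!
Element orders in SL(2,q): every element satisfies g^(q-1) = 1, g^(q+1) = 1 or g^p = 1, -1.
-/

set_option autoImplicit false

namespace CfsgLib.SL2Orders

open Matrix Polynomial

variable {F : Type*} [Field F]

local notation "M2" => Matrix (Fin 2) (Fin 2) F

theorem sq_eq (g : SpecialLinearGroup (Fin 2) F) :
    (g.1 : M2) * g.1 = g.1.trace • g.1 - 1 := by
  have hd : g.1 0 0 * g.1 1 1 - g.1 0 1 * g.1 1 0 = 1 := by rw [← Matrix.det_fin_two]; exact g.2
  ext i j
  fin_cases i <;> fin_cases j <;> simp [Matrix.mul_apply, Fin.sum_univ_two, Matrix.trace_fin_two] <;>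
    first | linear_combination (-hd) | linear_combination hd | ring

/-- In odd characteristic the only elements of square 1 are `1` and `-1`. -/
theorem eq_one_or_neg_one_of_sq (h2 : (2 : F) ≠ 0) (g : SpecialLinearGroup (Fin 2) F) (hg : g * g = 1) :
    g = 1 ∨ g = -1 := by
  have h : (g.1 : M2) * g.1 = 1 := congrArg Subtype.val hg
  rw [sq_eq g, sub_eq_iff_eq_add] at h
  have hd : g.1.det = 1 := g.2
  rw [Matrix.det_fin_two] at hd
  have e00 := congrFun (congrFun h 0) 0
  have e11 := congrFun (congrFun h 1) 1
  have e01 := congrFun (congrFun h 0) 1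
  have e10 := congrFun (congrFun h 1) 0
  simp [Matrix.trace_fin_two] at e00 e11 e01 e10
  set a := g.1 0 0; set b := g.1 0 1; set c := g.1 1 0; set d := g.1 1 1
  have ht : a + d ≠ 0 := by
    intro h0
    rw [h0, zero_mul] at e00
    exact h2 (by linear_combination -e00)
  have hb : b = 0 := e01.resolve_left ht
  have hc : c = 0 := e10.resolve_left ht
  have had : a = d := mul_left_cancel₀ ht (e00.trans e11.symm)
  have ha : a = 1 ∨ a = -1 := by
    have : (a - 1) * (a + 1) = 0 := by rw [← had, hb] at hd; linear_combination hd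
    rcases mul_eq_zero.mp this with h' | h'
    · exact Or.inl (sub_eq_zero.mp h')
    · exact Or.inr (eq_neg_of_add_eq_zero_left h')
  rcases ha with ha | ha
  · left
    apply Subtype.ext; ext i j
    fin_cases i <;> fin_cases j <;> simp [a, b, c, d] at * <;> simp_all
  · right
    apply Subtype.ext; ext i j
    fin_cases i <;> fin_cases j <;> simp [a, b, c, d] at * <;> simp_all

variable [Fintype F]

theorem aeval_pow_sub (q : ℕ) (A : M2) : aeval A ((X : F[X]) ^ q - X) = A ^ q - A := by simp

theorem pow_cases (p : ℕ) [hp : Fact p.Prime] [CharP F p] (g : SpecialLinearGroup (Fin 2) F) :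
    g ^ (Fintype.card F - 1) = 1 ∨ g ^ (Fintype.card F + 1) = 1 ∨ g ^ p = 1 ∨ g ^ p = -1 := by
  classical
  set q := Fintype.card F with hqdef
  have hq1 : 1 < q := Fintype.one_lt_card
  set A : M2 := g.1 with hA
  set t := A.trace with ht
  set f : F[X] := X ^ 2 - C t * X + 1 with hf
  have hA2 : A * A = t • A - 1 := sq_eq g
  have hfA : aeval A f = 0 := by
    simp only [hf, map_add, map_sub, map_mul, map_pow, aeval_X, aeval_C, map_one, sq, hA2,
      Algebra.algebraMap_eq_smul_one, smul_mul_assoc, one_mul]
    abel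
  have hmon : f.Monic := by rw [hf]; monicity!
  have hdeg : f.natDegree = 2 := by rw [hf]; compute_degree!
  have key : A ^ q = A → g ^ (q - 1) = 1 := by
    intro h
    have h1 : g ^ q = g := Subtype.ext h
    apply mul_left_cancel (a := g)
    rw [← pow_succ', show q - 1 + 1 = q by omega, h1, mul_one]
  by_cases hroot : ∃ x : F, f.IsRoot x
  · obtain ⟨x, hx⟩ := hroot
    have hx' : x ^ 2 - t * x + 1 = 0 := by
      simpa [hf, IsRoot.def] using hx
    have hfac : f = (X - C x) * (X - C (t - x)) := by
      rw [hf, C_sub]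
      have hC : C x * (C t - C x) = 1 := by
        rw [← C_sub, ← C_mul, ← C_1]; congr 1; linear_combination -hx'
      linear_combination -hC
    by_cases hxy : x = t - x
    · have hnil : (A - algebraMap F M2 x) ^ 2 = 0 := by
        rw [← hfA, hfac, ← hxy, map_mul, sq]; simp
      have hpp : (A - algebraMap F M2 x) ^ p = 0 := pow_eq_zero_of_le hp.out.two_le hnil
      haveI : CharP M2 p := charP_of_injective_algebraMap (algebraMap F M2).injective p
      rw [sub_pow_char_of_commute _ ((Algebra.commute_algebraMap_left x A).symm), sub_eq_zero, ← map_pow] at hpp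
      have hx2 : x ^ 2 = 1 := by linear_combination (-1 : F) * hx' + x * hxy
      have hxp : x ^ p = 1 ∨ x ^ p = -1 := sq_eq_one_iff.mp (by rw [← pow_mul, mul_comm, pow_mul, hx2, one_pow])
      refine Or.inr (Or.inr ?_)
      rcases hxp with e | e
      · left; apply Subtype.ext; show A ^ p = 1; rw [hpp, e, map_one]
      · right; apply Subtype.ext; show A ^ p = -1; rw [hpp, e, map_neg, map_one]
    · left
      apply key
      have hdiv : f ∣ X ^ q - X := by
        rw [hfac]
        refine (Polynomial.isCoprime_X_sub_C_of_isUnit_sub ?_).mul_dvd ?_ ?_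
        · exact (sub_ne_zero.mpr hxy).isUnit
        · rw [dvd_iff_isRoot, IsRoot.def, eval_sub, eval_pow, eval_X, hqdef, FiniteField.pow_card, sub_self]
        · rw [dvd_iff_isRoot, IsRoot.def, eval_sub, eval_pow, eval_X, hqdef, FiniteField.pow_card, sub_self]
      obtain ⟨w, hw⟩ := hdiv
      have := congrArg (aeval A) hw
      rw [map_mul, hfA, zero_mul, aeval_pow_sub, sub_eq_zero] at this
      exact this
  · push Not at hroot
    haveI : Fact (Irreducible f) := ⟨by
      rw [hmon.irreducible_iff_roots_eq_zero_of_degree_le_three (by omega) (by omega)]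
      refine Multiset.eq_zero_of_forall_notMem fun x hx => hroot x (Polynomial.isRoot_of_mem_roots hx)⟩
    set r := AdjoinRoot.root f
    have hr : r ^ 2 - algebraMap F (AdjoinRoot f) t * r + 1 = 0 := by
      have := AdjoinRoot.eval₂_root f
      simpa [hf, AdjoinRoot.algebraMap_eq] using this
    have hr' : (r ^ q) ^ 2 - algebraMap F (AdjoinRoot f) t * r ^ q + 1 = 0 := by
      have h := congrArg (FiniteField.frobeniusAlgHom F (AdjoinRoot f)) hr
      rw [map_add, map_sub, map_mul, map_pow, AlgHom.commutes, map_one, map_zero, FiniteField.frobeniusAlgHom_apply] at h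
      exact h
    have hprod : (r ^ q - r) * (r ^ q + r - algebraMap F (AdjoinRoot f) t) = 0 := by
      linear_combination hr' - hr
    rcases mul_eq_zero.mp hprod with h | h
    · left
      apply key
      have hdiv : f ∣ X ^ q - X := by
        rw [← AdjoinRoot.mk_eq_zero, map_sub, map_pow, AdjoinRoot.mk_X]; exact h
      obtain ⟨w, hw⟩ := hdiv
      have := congrArg (aeval A) hw
      rw [map_mul, hfA, zero_mul, aeval_pow_sub, sub_eq_zero] at this
      exact this
    · right; left
      have hdiv : f ∣ X ^ q + X - C t := by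
        rw [← AdjoinRoot.mk_eq_zero, map_sub, map_add, map_pow, AdjoinRoot.mk_X, AdjoinRoot.mk_C]; exact h
      obtain ⟨w, hw⟩ := hdiv
      have h1 := congrArg (aeval A) hw
      rw [map_mul, hfA, zero_mul, map_sub, map_add, map_pow, aeval_X, aeval_C, sub_eq_zero] at h1
      have h2 : A ^ q = algebraMap F M2 t - A := eq_sub_of_add_eq h1
      apply Subtype.ext
      show A ^ (q + 1) = 1
      rw [pow_succ, h2, sub_mul, hA2, Algebra.algebraMap_eq_smul_one, smul_mul_assoc, one_mul]
      abel

theorem pow_cases_char_two [CharP F 2] (g : SpecialLinearGroup (Fin 2) F) :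
    g ^ (Fintype.card F - 1) = 1 ∨ g ^ (Fintype.card F + 1) = 1 ∨ g ^ 2 = 1 := by
  rcases pow_cases 2 g with h | h | h | h
  · exact Or.inl h
  · exact Or.inr (Or.inl h)
  · exact Or.inr (Or.inr h)
  · refine Or.inr (Or.inr (h.trans ?_))
    apply Subtype.ext
    ext i j
    simp [CharTwo.neg_eq]

theorem two_ne_zero_of_odd (hodd : Odd (Fintype.card F)) : (2 : F) ≠ 0 := by
  intro h
  have : ringChar F = 2 := CharP.ringChar_of_prime_eq_zero Nat.prime_two (by exact_mod_cast h)
  have := FiniteField.even_card_of_char_two this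
  have := Nat.odd_iff.mp hodd
  omega

/-- Orders in PSL(2,q), q odd. -/
theorem psl_pow_cases (p : ℕ) [Fact p.Prime] [CharP F p] (hodd : Odd (Fintype.card F))
    (x : ProjectiveSpecialLinearGroup (Fin 2) F) :
    x ^ ((Fintype.card F - 1) / 2) = 1 ∨ x ^ ((Fintype.card F + 1) / 2) = 1 ∨ x ^ p = 1 := by
  induction x using QuotientGroup.induction_on with
  | H g =>
    have hneg : (-1 : SpecialLinearGroup (Fin 2) F) ∈ Subgroup.center (SpecialLinearGroup (Fin 2) F) := by
      rw [Subgroup.mem_center_iff]; intro h; simp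
    have half : ∀ k : ℕ, g ^ (k * 2) = 1 →
        ((g : SpecialLinearGroup (Fin 2) F ⧸ Subgroup.center (SpecialLinearGroup (Fin 2) F)) ^ k = 1) := by
      intro k hk
      rw [← QuotientGroup.mk_pow, QuotientGroup.eq_one_iff]
      rcases eq_one_or_neg_one_of_sq (two_ne_zero_of_odd hodd) (g ^ k) (by rw [← pow_add, ← mul_two, hk]) with e | e <;> rw [e]
      · exact one_mem _
      · exact hneg
    obtain ⟨m, hm⟩ := hodd
    rcases pow_cases p g with h | h | h | h
    · exact Or.inl (half _ (by rw [show (Fintype.card F - 1) / 2 * 2 = Fintype.card F - 1 by omega]; exact h))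
    · exact Or.inr (Or.inl (half _ (by rw [show (Fintype.card F + 1) / 2 * 2 = Fintype.card F + 1 by omega]; exact h)))
    · refine Or.inr (Or.inr ?_)
      rw [← QuotientGroup.mk_pow, h]; rfl
    · refine Or.inr (Or.inr ?_)
      rw [← QuotientGroup.mk_pow, QuotientGroup.eq_one_iff, h]; exact hneg

end CfsgLib.SL2Orders
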