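import Cfsg.Agent.Lib.GL2Classes
import Cfsg.Agent.Lib.SLCard
import Cfsg.Agent.Lib.SL2Orders
import Mathlib.FieldTheory.Finite.Basic
import Mathlib.GroupTheory.Index

/-!
Centralisers in `SL₂(q)`: the conic `x² + t x y + y² = 1`.
-/

set_option autoImplicit false

namespace CfsgLib.SL2Centralizer

open Matrix
open CfsgLib.GL2Classes (exists_conj_comp)

variable {F : Type*} [Field F]

local notation "M2" => Matrix (Fin 2) (Fin 2) F
local notation "SL2" => Matrix.SpecialLinearGroup (Fin 2) F

/-- The commutant of a non-scalar `2 × 2` matrix. -/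
theorem exists_of_commute {M C : M2} (hM : ∀ a : F, M ≠ a • (1 : M2)) (hC : Commute C M) :
    ∃ x y : F, C = x • (1 : M2) + y • M := by
  obtain ⟨P, hP⟩ := exists_conj_comp hM
  set t := M.trace
  set d := M.det
  have hM' : M = P.1 * GL2Classes.comp t d * (P⁻¹).1 := by rw [← hP]; simp
  set C' := (P⁻¹).1 * C * P.1 with hC'
  have hcomm : C' * GL2Classes.comp t d = GL2Classes.comp t d * C' := by
    have h2 : GL2Classes.comp t d = (P⁻¹).1 * M * P.1 := by rw [Matrix.mul_assoc, hP]; simp [← Matrix.mul_assoc]
    rw [h2, hC']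
    simp only [Matrix.mul_assoc, Units.mul_inv_cancel_left]
    rw [← Matrix.mul_assoc C M, hC.eq, Matrix.mul_assoc]
  have e00 := congrFun (congrFun hcomm 0) 0
  have e10 := congrFun (congrFun hcomm 1) 0
  simp [GL2Classes.comp, Matrix.mul_apply, Fin.sum_univ_two] at e00 e10
  refine ⟨C' 0 0, C' 1 0, ?_⟩
  have hC'' : C' = C' 0 0 • (1 : M2) + C' 1 0 • GL2Classes.comp t d := by
    ext i j
    fin_cases i <;> fin_cases j <;> simp [GL2Classes.comp]
    all_goals first | linear_combination e00 | linear_combination e10 | linear_combination -e10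
  calc C = P.1 * C' * (P⁻¹).1 := by
        simp only [hC', Matrix.mul_assoc]; simp
    _ = _ := by
        conv_lhs => rw [hC'']
        conv_rhs => rw [hM']
        simp [Matrix.mul_add, Matrix.add_mul]

theorem det_lin (g : SL2) (x y : F) :
    (x • (1 : M2) + y • g.1).det = x * x + g.1.trace * x * y + y * y := by
  have hd : g.1 0 0 * g.1 1 1 - g.1 0 1 * g.1 1 0 = 1 := by rw [← Matrix.det_fin_two]; exact g.2
  simp [Matrix.det_fin_two, Matrix.trace_fin_two]
  linear_combination (y * y) * hd

theorem lin_injective {M : M2} (hM : ∀ a : F, M ≠ a • (1 : M2)) {x y x' y' : F}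
    (h : x • (1 : M2) + y • M = x' • (1 : M2) + y' • M) : x = x' ∧ y = y' := by
  have hy : y = y' := by
    by_contra hne
    refine hM ((x' - x) / (y - y')) ?_
    ext i j
    have e := congrFun (congrFun h i) j
    simp only [Matrix.add_apply, Matrix.smul_apply, smul_eq_mul] at e ⊢
    field_simp [sub_ne_zero.mpr hne]
    linear_combination e
  subst hy
  have e := congrFun (congrFun h 0) 0
  simp at e
  exact ⟨e, rfl⟩

theorem not_scalar_of_trace {g : SL2} (h : g.1.trace ^ 2 ≠ 4) (a : F) : g.1 ≠ a • (1 : M2) := by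
  intro e
  have hd := g.2
  rw [e] at hd
  simp [Matrix.det_smul] at hd
  apply h
  rw [e]
  simp [Matrix.trace_fin_two]
  rcases hd with rfl | rfl <;> ring

/-- The centraliser of a non-scalar element is the conic. -/
theorem card_centralizer_eq_conic [Fintype F] {g : SL2} (hg : ∀ a : F, g.1 ≠ a • (1 : M2)) :
    Nat.card (Subgroup.centralizer ({g} : Set SL2)) =
      Nat.card {p : F × F // p.1 * p.1 + g.1.trace * p.1 * p.2 + p.2 * p.2 = 1} := by
  let f : {p : F × F // p.1 * p.1 + g.1.trace * p.1 * p.2 + p.2 * p.2 = 1} →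
      Subgroup.centralizer ({g} : Set SL2) := fun p =>
    ⟨⟨p.1.1 • (1 : M2) + p.1.2 • g.1, (det_lin g _ _).trans p.2⟩,
      Subgroup.mem_centralizer_singleton_iff.mpr (Subtype.ext (by
        show (p.1.1 • (1 : M2) + p.1.2 • g.1) * g.1 = g.1 * (p.1.1 • 1 + p.1.2 • g.1)
        simp [Matrix.add_mul, Matrix.mul_add]))⟩
  refine (Nat.card_congr (Equiv.ofBijective f ⟨fun p p' h => ?_, ?_⟩)).symm
  · obtain ⟨h1, h2⟩ := lin_injective hg (congrArg (fun z => z.1.1) h)
    exact Subtype.ext (Prod.ext h1 h2)
  · rintro ⟨c, hc⟩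
    rw [Subgroup.mem_centralizer_singleton_iff] at hc
    obtain ⟨x, y, hxy⟩ := exists_of_commute hg (congrArg Subtype.val hc : c.1 * g.1 = g.1 * c.1)
    refine ⟨⟨(x, y), ?_⟩, Subtype.ext (Subtype.ext hxy.symm)⟩
    rw [← det_lin, ← hxy]
    exact c.2

/-- Projection of the conic from `(-1, 0)`. -/
theorem card_conic [Fintype F] {t : F} (ht : t ^ 2 ≠ 4) :
    Nat.card {p : F × F // p.1 * p.1 + t * p.1 * p.2 + p.2 * p.2 = 1} +
        Nat.card {s : F // s * s + t * s + 1 = 0} = Fintype.card F + 1 := by
  classical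
  have hone : ∀ s : F, s * s + t * s + 1 = 0 → 1 - s * s ≠ 0 := fun s hs h => ht (by
    have hss : s * s = 1 := (sub_eq_zero.mp h).symm
    have h2 : t * s = -2 := by linear_combination hs - hss
    calc t ^ 2 = (t * s) ^ 2 := by rw [mul_pow, sq s, hss, mul_one]
      _ = 4 := by rw [h2]; norm_num)
  let A := {s : F // ¬ (s * s + t * s + 1 = 0)}
  let X : A → F := fun s => (1 - s.1 * s.1) / (s.1 * s.1 + t * s.1 + 1)
  have hX : ∀ s : A, X s = -1 → t * s.1 = -2 := fun s e => by
    simp only [X] at e
    rw [div_eq_iff s.2] at e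
    linear_combination e
  let f : Option A → {p : F × F // p.1 * p.1 + t * p.1 * p.2 + p.2 * p.2 = 1} := fun o =>
    Option.elim o ⟨(-1, t), by ring⟩ (fun s => ⟨(X s, s.1 * (X s + 1)), by
      obtain ⟨s, hs⟩ := s
      have hs' : s * (s + t) + 1 ≠ 0 := fun e => hs (by linear_combination e)
      simp only [X]
      field_simp
      ring⟩)
  have hf : Function.Bijective f := by
    refine ⟨?_, ?_⟩
    · rintro (_ | a) (_ | b) h
      · rfl
      · have e0 : ((-1 : F), t) = (X b, b.1 * (X b + 1)) := congrArg Subtype.val h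
        obtain ⟨e1, e2⟩ := Prod.mk.inj e0
        have h2 := hX b e1.symm
        rw [← e1] at e2
        have ht0 : t = 0 := by rw [e2]; ring
        replace h2 : (0 : F) = -2 := by rw [← h2]; simp [ht0]
        exact absurd (show t ^ 2 = 4 by rw [ht0]; linear_combination (-2 : F) * h2) ht
      · have e0 : (X a, a.1 * (X a + 1)) = ((-1 : F), t) := congrArg Subtype.val h
        obtain ⟨e1, e2⟩ := Prod.mk.inj e0
        have h2 := hX a e1
        rw [e1] at e2
        have ht0 : t = 0 := by rw [← e2]; ring
        replace h2 : (0 : F) = -2 := by rw [← h2]; simp [ht0]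
        exact absurd (show t ^ 2 = 4 by rw [ht0]; linear_combination (-2 : F) * h2) ht
      · have e0 : (X a, a.1 * (X a + 1)) = (X b, b.1 * (X b + 1)) := congrArg Subtype.val h
        obtain ⟨e1, e2⟩ := Prod.mk.inj e0
        refine congrArg some (Subtype.ext ?_)
        by_cases hx : X a + 1 = 0
        · have ha := hX a (eq_neg_of_add_eq_zero_left hx)
          have hb := hX b (by rw [← e1]; exact eq_neg_of_add_eq_zero_left hx)
          refine mul_left_cancel₀ (fun ht0 => ht ?_) (ha.trans hb.symm)
          have ha' : (0 : F) = -2 := by rw [← ha]; simp [ht0]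
          rw [ht0]
          linear_combination (-2 : F) * ha' 
        · rw [← e1] at e2
          exact mul_right_cancel₀ hx e2
    · rintro ⟨⟨x, y⟩, h⟩
      by_cases hx : x = -1
      · subst hx
        have h' : y * (y - t) = 0 := by linear_combination h
        by_cases hyt : y = t
        · exact ⟨none, Subtype.ext (Prod.ext rfl hyt.symm)⟩
        · have hy : y = 0 := (mul_eq_zero.mp h').resolve_right (sub_ne_zero.mpr hyt)
          subst hy
          have ht0 : t ≠ 0 := fun e => hyt e.symm
          obtain ⟨s, hs2⟩ : ∃ s, t * s = -2 := ⟨-2 / t, mul_div_cancel₀ _ ht0⟩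
          have hs : ¬ (s * s + t * s + 1 = 0) := fun e => by
            have := hone s e
            exact this (by linear_combination -e + hs2)
          have hXs : X ⟨s, hs⟩ = -1 := by
            simp only [X]
            rw [div_eq_iff hs]
            linear_combination hs2
          exact ⟨some ⟨s, hs⟩, Subtype.ext (Prod.ext hXs (by
            show s * (X ⟨s, hs⟩ + 1) = 0
            rw [hXs]; ring))⟩
      · have hx' : x + 1 ≠ 0 := fun e => hx (eq_neg_of_add_eq_zero_left e)
        obtain ⟨s, rfl⟩ : ∃ s, y = s * (x + 1) := ⟨y / (x + 1), by rw [div_mul_cancel₀ _ hx']⟩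
        have key : (x + 1) * (x * (s * s + t * s + 1) - (1 - s * s)) = 0 := by linear_combination h
        have hk := (mul_eq_zero.mp key).resolve_left hx'
        have hs : ¬ (s * s + t * s + 1 = 0) := fun e => hone s e (by linear_combination -hk + x * e)
        have hXs : X ⟨s, hs⟩ = x := by
          simp only [X]
          rw [div_eq_iff hs]
          linear_combination -hk
        exact ⟨some ⟨s, hs⟩, Subtype.ext (Prod.ext hXs (by
          show s * (X ⟨s, hs⟩ + 1) = s * (x + 1)
          rw [hXs]))⟩
  rw [← Nat.card_congr (Equiv.ofBijective f hf), Nat.card_eq_fintype_card, Nat.card_eq_fintype_card,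
    Fintype.card_option, Fintype.card_subtype_compl]
  have := Fintype.card_subtype_le (fun s : F => s * s + t * s + 1 = 0)
  omega

/-- Roots of `s² + t s + 1`: none or two. -/
theorem card_roots [Fintype F] {t : F} (ht : t ^ 2 ≠ 4) :
    Nat.card {s : F // s * s + t * s + 1 = 0} = 0 ∨ Nat.card {s : F // s * s + t * s + 1 = 0} = 2 := by
  classical
  by_cases hex : ∃ r : F, r * r + t * r + 1 = 0
  · obtain ⟨r, hr⟩ := hex
    right
    have hne : r ≠ -t - r := fun e => ht (by
      have h2 : t = -2 * r := by linear_combination e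
      subst h2
      linear_combination (-4 : F) * hr)
    show Nat.card ↥{s : F | s * s + t * s + 1 = 0} = 2
    have hset : {s : F | s * s + t * s + 1 = 0} = {r, -t - r} := by
      ext s
      simp only [Set.mem_ofPred_eq, Set.mem_insert_iff, Set.mem_singleton_iff]
      constructor
      · intro hs
        have : (s - r) * (s - (-t - r)) = 0 := by linear_combination hs - hr
        rcases mul_eq_zero.mp this with e | e
        · exact Or.inl (sub_eq_zero.mp e)
        · exact Or.inr (sub_eq_zero.mp e)
      · rintro (rfl | rfl) <;> linear_combination hr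
    rw [hset, Nat.card_coe_set_eq, Set.ncard_pair hne]
  · push Not at hex
    left
    have : IsEmpty {s : F // s * s + t * s + 1 = 0} := ⟨fun s => hex s.1 s.2⟩
    exact Nat.card_of_isEmpty

/-- The centraliser of an element with `trace² ≠ 4` has order `q + 1` minus the number of eigenvalues. -/
theorem card_centralizer [Fintype F] {g : SL2} (hg : g.1.trace ^ 2 ≠ 4) :
    Nat.card (Subgroup.centralizer ({g} : Set SL2)) + Nat.card {s : F // s * s + g.1.trace * s + 1 = 0} =
      Fintype.card F + 1 := by
  rw [card_centralizer_eq_conic (not_scalar_of_trace hg), card_conic hg]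

/-- Sandwich: an element of trace `0` is inverted to its negative inside `SL₂`. -/
theorem exists_conj_neg [Fintype F] (h2 : (2 : F) ≠ 0) {g : SL2} (hg : g.1.trace = 0) :
    ∃ h : SL2, h * g = -g * h := by
  classical
  have hns : ∀ a : F, g.1 ≠ a • (1 : M2) := not_scalar_of_trace (by
    rw [hg]
    intro e
    exact mul_ne_zero h2 h2 (by linear_combination -e))
  have hnneg : ∀ a : F, -g.1 ≠ a • (1 : M2) := fun a e => hns (-a) (by rw [neg_smul, ← e, neg_neg])
  obtain ⟨P, hP⟩ := exists_conj_comp hns
  obtain ⟨R, hR⟩ := exists_conj_comp hnneg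
  rw [Matrix.trace_neg, hg, neg_zero, Matrix.det_neg, Fintype.card_fin, g.2, neg_one_sq, one_mul] at hR
  rw [hg, g.2] at hP
  set T : M2 := R.1 * (P⁻¹).1 with hT
  have hTg : T * g.1 = -g.1 * T := by
    rw [hT, ← Matrix.mul_assoc (-g.1), hR]
    have : (P⁻¹).1 * g.1 = GL2Classes.comp 0 1 * (P⁻¹).1 := by
      calc (P⁻¹).1 * g.1 = (P⁻¹).1 * (g.1 * P.1) * (P⁻¹).1 := by simp [Matrix.mul_assoc]
        _ = _ := by rw [hP]; simp [← Matrix.mul_assoc]
    rw [Matrix.mul_assoc, this, Matrix.mul_assoc R.1]
  have hdT : T.det ≠ 0 := ((Matrix.isUnit_iff_isUnit_det _).mp (R * P⁻¹).isUnit).ne_zero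
  have hodd : Fintype.card F % 2 = 1 := by
    by_contra hne
    have he : ringChar F = 2 := FiniteField.even_card_iff_char_two.mpr (by omega)
    exact h2 (by have := ringChar.Nat.cast_ringChar (R := F); rw [he] at this; exact_mod_cast this)
  obtain ⟨x, y, hxy⟩ := FiniteField.exists_root_sum_quadratic
    (f := (Polynomial.X ^ 2 : Polynomial F)) (g := Polynomial.X ^ 2 - Polynomial.C (T.det)⁻¹)
    (Polynomial.degree_X_pow 2) (Polynomial.degree_X_pow_sub_C (by norm_num) _) hodd
  simp at hxy
  refine ⟨⟨T * (x • (1 : M2) + y • g.1), ?_⟩, Subtype.ext ?_⟩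
  · rw [Matrix.det_mul, det_lin, hg,
      show x * x + 0 * x * y + y * y = (T.det)⁻¹ by linear_combination hxy, mul_inv_cancel₀ hdT]
  · show T * (x • (1 : M2) + y • g.1) * g.1 = -g.1 * (T * (x • (1 : M2) + y • g.1))
    rw [Matrix.mul_assoc, ← Matrix.mul_assoc (-g.1), ← hTg, Matrix.mul_assoc T g.1]
    congr 1
    simp [Matrix.add_mul, Matrix.mul_add]

end CfsgLib.SL2Centralizer
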