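import Cfsg.Agent.Lib.QuasiDihedralFusion

/-! Classes and index two subgroups for a quasi-dihedral Sylow subgroup. -/

set_option autoImplicit false
set_option linter.unusedSectionVars false

namespace CfsgLib.QD

open CfsgLib.LocalFusion

variable {G : Type*} [Group G] [Finite G] (P : Sylow 2 G) (d : Data (P : Subgroup G))

theorem four_eq : (4 : ℕ) = 2 ^ 2 := rfl

theorem invol_cases {t : G} (ht : orderOf t = 2) :
    IsConj t ((d.z : (P : Subgroup G)) : G) ∨ IsConj t ((d.y : (P : Subgroup G)) : G) := by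
  haveI : Fact (Nat.Prime 2) := ⟨Nat.prime_two⟩
  obtain ⟨g, hg⟩ := exists_conj_mem P (t := t) (a := 1) (by rw [ht, pow_one])
  have ho : orderOf (⟨g * t * g⁻¹, hg⟩ : (P : Subgroup G)) = 2 := by
    rw [Subgroup.orderOf_mk, CfsgLib.Involutions.orderOf_conj, ht]
  have hc : IsConj t (g * t * g⁻¹) := isConj_iff.mpr ⟨g, rfl⟩
  rcases involution_cases d ho with e | ⟨j, e⟩
  · exact Or.inl (congrArg Subtype.val e ▸ hc)
  · right
    have h := isConj_shift d 0 j
    rw [zpow_zero, one_mul, zero_add, ← e] at h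
    exact hc.trans (MonoidHom.map_isConj (P : Subgroup G).subtype h.symm)

theorem order_four_classes {t : G} (ht : orderOf t = 4) :
    IsConj t ((d.x ^ (2 * (d.M : ℤ)) : (P : Subgroup G)) : G) ∨
      IsConj t ((d.x ^ (1 : ℤ) * d.y : (P : Subgroup G)) : G) := by
  haveI : Fact (Nat.Prime 2) := ⟨Nat.prime_two⟩
  obtain ⟨g, hg⟩ := exists_conj_mem P (t := t) (a := 2) ht
  have ho : orderOf (⟨g * t * g⁻¹, hg⟩ : (P : Subgroup G)) = 4 := by
    rw [Subgroup.orderOf_mk, CfsgLib.Involutions.orderOf_conj, ht]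
  have hc : IsConj t (g * t * g⁻¹) := isConj_iff.mpr ⟨g, rfl⟩
  rcases order_four_cases d ho with e | e | ⟨j, e⟩
  · exact Or.inl (congrArg Subtype.val e ▸ hc)
  · left
    have h : IsConj (d.x ^ (2 * (d.M : ℤ))) (⟨g * t * g⁻¹, hg⟩ : (P : Subgroup G)) := by
      rw [e, isConj_iff]
      refine ⟨d.y, ?_⟩
      rw [conj_y, zpow_eq_iff]
      exact ⟨-(d.M : ℤ), by ring⟩
    exact hc.trans (MonoidHom.map_isConj (P : Subgroup G).subtype h.symm)
  · right
    have h := isConj_shift d 1 j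
    rw [add_comm, ← e] at h
    exact hc.trans (MonoidHom.map_isConj (P : Subgroup G).subtype h.symm)

/-- The representatives inside a four group and a quaternion group. -/
theorem klein_reps {T : Subgroup G} (hT : IsKleinFour T) (hTP : T ≤ (P : Subgroup G)) :
    ((d.z : (P : Subgroup G)) : G) ∈ T ∧ ∃ j : ℤ, ((d.x ^ (2 * j) * d.y : (P : Subgroup G)) : G) ∈ T := by
  obtain ⟨j, h1, -, h2⟩ := klein_eq d (klein_subgroupOf P hT hTP)
  exact ⟨h2, j, h1⟩

theorem q8_reps {Q : Subgroup G} (eQ : Q ≃* QuaternionGroup 2) (hQP : Q ≤ (P : Subgroup G)) :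
    ((d.x ^ (2 * (d.M : ℤ)) : (P : Subgroup G)) : G) ∈ Q ∧
      ∃ i : ℤ, ((d.x ^ (2 * i + 1) * d.y : (P : Subgroup G)) : G) ∈ Q := by
  obtain ⟨i, hi⟩ := q8_mem d ((Subgroup.subgroupOfEquivOfLe hQP).trans eQ)
  exact ⟨(hi _).mpr ⟨1, Or.inl (by rw [mul_one])⟩, i, (hi _).mpr ⟨0, Or.inr (by rw [mul_zero, add_zero])⟩⟩

theorem center_eq_zpowers {S : Type*} [Group S] [Finite S] (d : Data S) :
    Subgroup.center S = Subgroup.zpowers d.z := by
  refine le_antisymm (fun g hg => ?_) (Subgroup.zpowers_le.mpr (z_central d))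
  have hM := d.hM
  have hnc : ¬ Commute d.x d.y := fun h => by
    have h1 : Commute (d.x ^ (1 : ℤ)) (d.x ^ (0 : ℤ) * d.y) := by simpa using h
    obtain ⟨a, ha⟩ := (commute_xy_iff d).mp h1
    rcases Int.lt_or_le 0 a with h2 | h2 <;> nlinarith
  have hgx : Commute g d.x := (Subgroup.mem_center_iff.mp hg d.x).symm
  have hzx : Commute d.z d.x := (Subgroup.mem_center_iff.mp (z_central d) d.x).symm
  have hh : g ∈ Subgroup.centralizer ({d.x ^ (0 : ℤ) * d.y} : Set S) :=
    Subgroup.center_le_centralizer _ hg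
  rcases mem_centralizer_cases d 0 hh with e | e | e | e
  · exact e ▸ one_mem _
  · exact e ▸ Subgroup.mem_zpowers _
  · rw [zpow_zero, one_mul] at e
    exact absurd (e ▸ hgx).symm hnc
  · rw [zpow_zero, one_mul] at e
    have h3 := hzx.inv_left.mul_left hgx
    rw [e, inv_mul_cancel_left] at h3
    exact absurd h3.symm hnc

theorem odd_shift_all {S : Type*} [Group S] [Finite S] (d : Data S) (i k : ℤ) :
    ∃ c : S, c * (d.x ^ (2 * i + 1) * d.y) * c⁻¹ = d.x ^ (2 * k + 1) * d.y := by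
  obtain ⟨c, hc⟩ := isConj_iff.mp (isConj_shift d (2 * i + 1) (k - i))
  rw [show 2 * i + 1 + 2 * (k - i) = 2 * k + 1 by ring] at hc
  exact ⟨c, hc⟩

theorem even_shift_all {S : Type*} [Group S] [Finite S] (d : Data S) (i k : ℤ) :
    ∃ c : S, c * (d.x ^ (2 * i) * d.y) * c⁻¹ = d.x ^ (2 * k) * d.y := by
  obtain ⟨c, hc⟩ := isConj_iff.mp (isConj_shift d (2 * i) (k - i))
  rw [show 2 * i + 2 * (k - i) = 2 * k by ring] at hc
  exact ⟨c, hc⟩

theorem Q_le_of_all {S : Type*} [Group S] [Finite S] (d : Data S) {H : Subgroup S}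
    (hi : ∀ k : ℤ, d.x ^ (2 * k + 1) * d.y ∈ H) : d.Q ≤ H := by
  rw [Data.Q, Subgroup.closure_le]
  rintro g (rfl | rfl)
  · have h2 := mul_mem (hi 1) (inv_mem (hi 0))
    rwa [mul_inv_rev, ← mul_assoc, mul_assoc (d.x ^ (2 * (1 : ℤ) + 1)), mul_inv_cancel, mul_one, ← zpow_neg,
      ← zpow_add, show 2 * (1 : ℤ) + 1 + -(2 * 0 + 1) = 2 by norm_num] at h2
  · simpa using hi 0

theorem D_le_of_all {S : Type*} [Group S] [Finite S] (d : Data S) {H : Subgroup S}
    (hj : ∀ k : ℤ, d.x ^ (2 * k) * d.y ∈ H) : d.D ≤ H := by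
  rw [Data.D, Subgroup.closure_le]
  rintro g (rfl | rfl)
  · simpa using hj 1
  · simpa using hj 0

theorem coe_sq_ne_one {g : (P : Subgroup G)} (h : orderOf g = 4) : (g : G) * (g : G) ≠ 1 := fun e => by
  have h1 : (g : G) ^ 2 = 1 := by rw [sq]; exact e
  have h2 := Nat.le_of_dvd two_pos (orderOf_dvd_of_pow_eq_one h1)
  rw [Subgroup.orderOf_coe, h] at h2
  omega

theorem y_conj_z {T : Subgroup G} (hT : IsKleinFour T) (hTP : T ≤ (P : Subgroup G))
    (h : (Subgroup.centralizer (T : Set G)).relIndex (Subgroup.normalizer (T : Set G)) = 6) :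
    IsConj ((d.y : (P : Subgroup G)) : G) ((d.z : (P : Subgroup G)) : G) := by
  haveI : ((Subgroup.centralizer (T : Set G)).subgroupOf (Subgroup.normalizer (T : Set G))).Normal := by
    rw [← Subgroup.normalizerMonoidHom_ker]; infer_instance
  obtain ⟨g, hg, hgC, hodd⟩ := exists_odd_outside h
  obtain ⟨hz, j, hj⟩ := klein_reps P d hT hTP
  have hz1 : ((d.z : (P : Subgroup G)) : G) ≠ 1 := fun e => z_ne_one d (Subtype.ext e)
  have hj1 : ((d.x ^ (2 * j) * d.y : (P : Subgroup G)) : G) ≠ 1 := fun e =>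
    xy_ne_zpow d (2 * j) 0 (by rw [zpow_zero]; exact Subtype.ext e)
  have h1 := klein_isConj hT hg hgC hodd hj hj1 hz hz1
  have h2 := isConj_shift d 0 j
  rw [zpow_zero, one_mul, zero_add] at h2
  exact (MonoidHom.map_isConj (P : Subgroup G).subtype h2).trans h1

theorem normal_sup_centralizer (A : Subgroup G) :
    (((A ⊔ Subgroup.centralizer (A : Set G))).subgroupOf (Subgroup.normalizer (A : Set G))).Normal := by
  rw [Subgroup.subgroupOf_sup Subgroup.le_normalizer (Subgroup.centralizer_le_normalizer _)]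
  haveI : (A.subgroupOf (Subgroup.normalizer (A : Set G))).Normal := Subgroup.normal_in_normalizer
  haveI : ((Subgroup.centralizer (A : Set G)).subgroupOf (Subgroup.normalizer (A : Set G))).Normal := by
    rw [← Subgroup.normalizerMonoidHom_ker]; infer_instance
  infer_instance

theorem exists_odd_q8 {Q : Subgroup G}
    (h : (Q ⊔ Subgroup.centralizer (Q : Set G)).relIndex (Subgroup.normalizer (Q : Set G)) = 6) :
    ∃ g ∈ Subgroup.normalizer (Q : Set G), g ∉ Subgroup.centralizer (Q : Set G) ∧ Odd (orderOf g) := by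
  haveI := normal_sup_centralizer Q
  obtain ⟨g, hg, hgX, hodd⟩ := exists_odd_outside h
  exact ⟨g, hg, fun hc => hgX (Subgroup.mem_sup_right hc), hodd⟩

theorem exists_odd_klein {T : Subgroup G}
    (h : (Subgroup.centralizer (T : Set G)).relIndex (Subgroup.normalizer (T : Set G)) = 6) :
    ∃ g ∈ Subgroup.normalizer (T : Set G), g ∉ Subgroup.centralizer (T : Set G) ∧ Odd (orderOf g) := by
  haveI : ((Subgroup.centralizer (T : Set G)).subgroupOf (Subgroup.normalizer (T : Set G))).Normal := by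
    rw [← Subgroup.normalizerMonoidHom_ker]; infer_instance
  exact exists_odd_outside h

theorem b_conj_c {Q : Subgroup G} (eQ : Q ≃* QuaternionGroup 2) (hQP : Q ≤ (P : Subgroup G))
    (h : (Q ⊔ Subgroup.centralizer (Q : Set G)).relIndex (Subgroup.normalizer (Q : Set G)) = 6) :
    IsConj ((d.x ^ (1 : ℤ) * d.y : (P : Subgroup G)) : G) ((d.x ^ (2 * (d.M : ℤ)) : (P : Subgroup G)) : G) := by
  obtain ⟨g, hg, hgC, hodd⟩ := exists_odd_q8 h
  obtain ⟨hc, i, hi⟩ := q8_reps P d eQ hQP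
  have h1 := q8_isConj eQ hg hgC hodd hi (coe_sq_ne_one P (orderOf_xy_odd d i)) hc
    (coe_sq_ne_one P (orderOf_zpow_quarter d))
  have h2 := isConj_shift d 1 i
  rw [add_comm] at h2
  exact (MonoidHom.map_isConj (P : Subgroup G).subtype h2).trans h1

/-- Membership in an index two subgroup of the Sylow subgroup is preserved by the given fusion. -/
theorem mem_iff_of_fusion (hQD : Cfsg.IsQuasiDihedral (P : Subgroup G)) {M : Subgroup (P : Subgroup G)}
    (hM : M.index = 2)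
    (hT : ∀ A : Subgroup G, A ≤ (P : Subgroup G) → IsKleinFour A →
      A.subgroupOf (P : Subgroup G) ≤ M ∨ AutFromSylow P A)
    (hQ : ∀ A : Subgroup G, A ≤ (P : Subgroup G) → (A ≃* QuaternionGroup 2) →
      A.subgroupOf (P : Subgroup G) ≤ M ∨ AutFromSylow P A)
    {x : G} (hx : x ∈ (P : Subgroup G)) {g : G} (hg : g * x * g⁻¹ ∈ (P : Subgroup G)) :
    x ∈ M.map (P : Subgroup G).subtype ↔ g * x * g⁻¹ ∈ M.map (P : Subgroup G).subtype := by
  haveI := Subgroup.normal_of_index_eq_two hM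
  set Mg := M.map (P : Subgroup G).subtype
  have hmem : ∀ {a : G} (ha : a ∈ (P : Subgroup G)), a ∈ Mg ↔ (⟨a, ha⟩ : (P : Subgroup G)) ∈ M := fun {a} ha =>
    ⟨by rintro ⟨b, hb, rfl⟩; exact hb, fun h => ⟨_, h, rfl⟩⟩
  have hconj : ∀ s ∈ (P : Subgroup G), ∀ a ∈ (P : Subgroup G), a ∈ Mg ↔ s * a * s⁻¹ ∈ Mg := by
    intro s hs a ha
    rw [hmem ha, hmem (mul_mem (mul_mem hs ha) (inv_mem hs))]
    refine ⟨fun h => Subgroup.Normal.conj_mem inferInstance _ h (⟨s, hs⟩ : (P : Subgroup G)), fun h => ?_⟩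
    have h' := (inferInstance : M.Normal).conj_mem _ h (⟨s, hs⟩ : (P : Subgroup G))⁻¹
    convert h' using 1
    exact Subtype.ext (by simp [mul_assoc])
  have key : ∀ A : Subgroup G, A ≤ (P : Subgroup G) → A.subgroupOf (P : Subgroup G) ≤ M ∨ AutFromSylow P A →
      ∀ g ∈ Subgroup.normalizer (A : Set G), ∀ a ∈ A, a ∈ Mg ↔ g * a * g⁻¹ ∈ Mg := by
    intro A hA h g hg a ha
    have hga := (Subgroup.mem_normalizer_iff.mp hg a).mp ha
    rcases h with h | h
    · refine iff_of_true ((hmem (hA ha)).mpr (h ha)) ((hmem (hA hga)).mpr (h hga))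
    · obtain ⟨t, ht, htx⟩ := h g hg
      rw [htx a ha]
      exact hconj t ht a (hA ha)
  exact fusion_rel P hQD (fun a b => a ∈ Mg ↔ b ∈ Mg) ⟨fun _ => Iff.rfl, Iff.symm, Iff.trans⟩ hconj
    (fun A hA hAk => key A hA (hT A hA hAk)) (fun A hA hAq => key A hA (hQ A hA hAq)) hx hg

/-- Two elements on different sides of the invariant subgroup are not fused. -/
theorem not_isConj (hQD : Cfsg.IsQuasiDihedral (P : Subgroup G)) {M : Subgroup (P : Subgroup G)}
    (hM : M.index = 2)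
    (hT : ∀ A : Subgroup G, A ≤ (P : Subgroup G) → IsKleinFour A →
      A.subgroupOf (P : Subgroup G) ≤ M ∨ AutFromSylow P A)
    (hQ : ∀ A : Subgroup G, A ≤ (P : Subgroup G) → (A ≃* QuaternionGroup 2) →
      A.subgroupOf (P : Subgroup G) ≤ M ∨ AutFromSylow P A)
    {a b : (P : Subgroup G)} (ha : a ∈ M) (hb : b ∉ M) : ¬ IsConj (a : G) (b : G) := by
  intro h
  obtain ⟨g, hg⟩ := isConj_iff.mp h
  have := (mem_iff_of_fusion P hQD hM hT hQ a.2 (g := g) (by rw [hg]; exact b.2)).mp ⟨a, ha, rfl⟩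
  rw [hg] at this
  obtain ⟨c, hc, hcb⟩ := this
  exact hb (Subtype.ext hcb ▸ hc)

/-- The normal subgroup of index two cut out by an invariant maximal subgroup of the Sylow subgroup. -/
theorem exists_index_two (hQD : Cfsg.IsQuasiDihedral (P : Subgroup G)) {M : Subgroup (P : Subgroup G)}
    (hM : M.index = 2)
    (hT : ∀ A : Subgroup G, A ≤ (P : Subgroup G) → IsKleinFour A →
      A.subgroupOf (P : Subgroup G) ≤ M ∨ AutFromSylow P A)
    (hQ : ∀ A : Subgroup G, A ≤ (P : Subgroup G) → (A ≃* QuaternionGroup 2) →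
      A.subgroupOf (P : Subgroup G) ≤ M ∨ AutFromSylow P A) :
    ∃ K : Subgroup G, K.Normal ∧ K ⊓ (P : Subgroup G) = M.map (P : Subgroup G).subtype ∧ K.index = 2 := by
  haveI : Fact (Nat.Prime 2) := ⟨Nat.prime_two⟩
  haveI := Subgroup.normal_of_index_eq_two hM
  have hidx : (M.map (P : Subgroup G).subtype).relIndex (P : Subgroup G) = 2 := by
    rw [Subgroup.relIndex, ← Subgroup.comap_subtype, Subgroup.comap_map_eq_self_of_injective (Subgroup.subtype_injective _)]
    exact hM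
  obtain ⟨K, h1, h2, h3⟩ := exists_normal_inf P (M := M.map (P : Subgroup G).subtype) (Subgroup.map_subtype_le M)
    (by
      rintro s hs _ ⟨a, ha, rfl⟩
      exact ⟨_, Subgroup.Normal.conj_mem inferInstance a ha (⟨s, hs⟩ : (P : Subgroup G)), rfl⟩)
    (fun x hx g hg => by
      have hiff := mem_iff_of_fusion P hQD hM hT hQ hx hg
      have hmem : ∀ {a : G} (ha : a ∈ (P : Subgroup G)), a ∈ M.map (P : Subgroup G).subtype ↔
          (⟨a, ha⟩ : (P : Subgroup G)) ∈ M := fun {a} ha =>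
        ⟨by rintro ⟨b, hb, rfl⟩; exact hb, fun h => ⟨_, h, rfl⟩⟩
      rw [hmem hx, hmem hg] at hiff
      rw [hmem (mul_mem hx (inv_mem hg))]
      show (⟨x, hx⟩ : (P : Subgroup G)) * (⟨g * x * g⁻¹, hg⟩ : (P : Subgroup G))⁻¹ ∈ M
      exact (Subgroup.mul_mem_iff_of_index_two hM).mpr (hiff.trans inv_mem_iff.symm))
  exact ⟨K, h1, h2, by rw [h3, hidx]⟩

end CfsgLib.QD
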