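import Cfsg.Agent.Lib.QuatHom
import Mathlib.Algebra.Group.End
import Mathlib.GroupTheory.Coset.Card
import Mathlib.GroupTheory.SpecificGroups.KleinFour
import Mathlib.GroupTheory.Perm.Cycle.Type
import Mathlib.Data.Fintype.Perm

/-! Automorphisms of the four group and of the quaternion group of order eight. -/

set_option autoImplicit false

namespace CfsgLib.Quat

/-- The automorphism permuting the three cyclic subgroups of order four cyclically. -/
def rotFun : QuaternionGroup 2 → QuaternionGroup 2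
  | QuaternionGroup.a i => (QuaternionGroup.xa 0) ^ i.val
  | QuaternionGroup.xa i => QuaternionGroup.a 1 * QuaternionGroup.xa 0 * (QuaternionGroup.xa 0) ^ i.val

theorem rotFun_mul : ∀ x y : QuaternionGroup 2, rotFun (x * y) = rotFun x * rotFun y := by decide

theorem rotFun_cube : ∀ x : QuaternionGroup 2, rotFun (rotFun (rotFun x)) = x := by decide

theorem rotFun_ne : rotFun (QuaternionGroup.a 1) ≠ QuaternionGroup.a 1 := by decide

/-- The automorphism of order three. -/
def rot3 : MulAut (QuaternionGroup 2) where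
  toFun := rotFun
  invFun x := rotFun (rotFun x)
  left_inv x := rotFun_cube x
  right_inv x := rotFun_cube x
  map_mul' := rotFun_mul

theorem three_dvd_card_aut : 3 ∣ Nat.card (MulAut (QuaternionGroup 2)) := by
  have h : orderOf rot3 = 3 := by
    haveI : Fact (Nat.Prime 3) := ⟨Nat.prime_three⟩
    refine orderOf_eq_prime ?_ fun e => rotFun_ne (DFunLike.congr_fun e (QuaternionGroup.a 1))
    refine MulEquiv.ext fun x => ?_
    exact rotFun_cube x
  exact h ▸ orderOf_dvd_natCard rot3

theorem card_pairs : Fintype.card {p : QuaternionGroup 2 × QuaternionGroup 2 //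
    p.1 * p.1 ≠ 1 ∧ p.2 * p.2 ≠ 1 ∧ p.2 ≠ p.1 ∧ p.1 * p.2 ≠ 1} = 24 := by decide

theorem card_aut_le : Nat.card (MulAut (QuaternionGroup 2)) ≤ 24 := by
  rw [← card_pairs, ← Nat.card_eq_fintype_card]
  let A : QuaternionGroup 2 := QuaternionGroup.a 1
  let B : QuaternionGroup 2 := QuaternionGroup.xa 0
  refine Nat.card_le_card_of_injective (fun α : MulAut (QuaternionGroup 2) =>
    (⟨(α A, α B), ?_, ?_, ?_, ?_⟩ : {p : QuaternionGroup 2 × QuaternionGroup 2 //
      p.1 * p.1 ≠ 1 ∧ p.2 * p.2 ≠ 1 ∧ p.2 ≠ p.1 ∧ p.1 * p.2 ≠ 1})) ?_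
  · rw [← map_mul, Ne, ← map_one α, α.injective.eq_iff]; decide
  · rw [← map_mul, Ne, ← map_one α, α.injective.eq_iff]; decide
  · rw [Ne, α.injective.eq_iff]; decide
  · rw [← map_mul, Ne, ← map_one α, α.injective.eq_iff]; decide
  · intro α β h
    have hA : α A = β A := congrArg (fun p => p.1.1) h
    have hB : α B = β B := congrArg (fun p => p.1.2) h
    refine MulEquiv.ext fun x => ?_
    have hx : ∀ x : QuaternionGroup 2, ∃ i : Fin 4, x = A ^ i.val ∨ x = B * A ^ i.val := by decide
    obtain ⟨i, rfl | rfl⟩ := hx x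
    · rw [map_pow, map_pow, hA]
    · rw [map_mul, map_mul, map_pow, map_pow, hA, hB]

theorem card_aut_klein {V : Type*} [Group V] [IsKleinFour V] : Nat.card (MulAut V) = 6 := by
  classical
  haveI := IsKleinFour.card_four (G := V)
  haveI : Finite V := Nat.finite_of_card_ne_zero (by omega)
  haveI := Fintype.ofFinite V
  let φ : MulAut V ≃ {σ : Equiv.Perm V // σ 1 = 1} :=
    { toFun := fun α => ⟨α.toEquiv, map_one α⟩
      invFun := fun σ => IsKleinFour.mulEquiv' (G₁ := V) (G₂ := V) σ.1 σ.2 (IsKleinFour.exponent_two)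
      left_inv := fun α => MulEquiv.ext fun x => rfl
      right_inv := fun σ => Subtype.ext (Equiv.ext fun x => rfl) }
  rw [Nat.card_congr φ]
  let ψ : {σ : Equiv.Perm V // σ 1 = 1} ≃ Equiv.Perm {v : V // v ≠ 1} :=
    ((Equiv.Perm.subtypeEquivSubtypePerm (fun v : V => v ≠ 1)).trans
      (Equiv.subtypeEquivRight fun σ => ⟨fun h => h 1 (fun h' => h' rfl),
        fun h v hv => by rw [not_not.mp hv]; exact h⟩)).symm
  rw [Nat.card_congr ψ, Nat.card_eq_fintype_card, Fintype.card_perm, Fintype.card_subtype_compl,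
    Fintype.card_subtype_eq, ← Nat.card_eq_fintype_card, IsKleinFour.card_four]
  rfl

end CfsgLib.Quat
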