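import Mathlib.GroupTheory.SpecificGroups.Quaternion
import Mathlib.GroupTheory.OrderOfElement
import Mathlib.Data.ZMod.QuotientGroup
import Mathlib.Tactic.Group

/-! Maps out of generalized quaternion groups, and a few facts about the quaternion group. -/

set_option autoImplicit false

namespace CfsgLib.Quat

variable {G : Type*} [Group G] {n : ℕ} {a b : G}

/-- The power map of `a` on `ZMod (2 * n)`. -/
noncomputable def powMap (a : G) (n : ℕ) (i : ZMod (2 * n)) : G := a ^ (i.cast : ℤ)

theorem powMap_intCast (ha : a ^ (2 * n) = 1) (k : ℤ) : powMap a n (k : ZMod (2 * n)) = a ^ k := by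
  rw [powMap, zpow_eq_zpow_iff_modEq]
  refine Int.ModEq.of_dvd (Int.natCast_dvd_natCast.mpr (orderOf_dvd_of_pow_eq_one ha)) ?_
  rw [← ZMod.intCast_eq_intCast_iff, ZMod.intCast_zmod_cast]

theorem powMap_add (ha : a ^ (2 * n) = 1) (i j : ZMod (2 * n)) :
    powMap a n (i + j) = powMap a n i * powMap a n j := by
  conv_lhs => rw [← ZMod.intCast_zmod_cast i, ← ZMod.intCast_zmod_cast j, ← Int.cast_add, powMap_intCast ha]
  rw [zpow_add]
  rfl

theorem powMap_mul_right (ha : a ^ (2 * n) = 1) (hba : b * a * b⁻¹ = a⁻¹) (i : ZMod (2 * n)) :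
    powMap a n i * b = b * powMap a n (-i) := by
  conv_rhs => rw [← ZMod.intCast_zmod_cast i, ← Int.cast_neg, powMap_intCast ha, ← inv_zpow', ← hba, conj_zpow]
  have h : b * (b * a * b⁻¹) * b⁻¹ = a := by rw [hba, ← conj_inv, hba, inv_inv]
  have h2 : ∀ k : ℤ, b * (b * a ^ k * b⁻¹) * b⁻¹ = a ^ k := by
    intro k
    rw [← conj_zpow, ← conj_zpow, h]
  have h3 := h2 (i.cast : ℤ)
  calc powMap a n i * b = b * (b * a ^ (i.cast : ℤ) * b⁻¹) * b⁻¹ * b := by rw [h3]; rfl
    _ = b * (b * a ^ (i.cast : ℤ) * b⁻¹) := by group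

/-- The map out of a generalized quaternion group given by the defining relations. -/
noncomputable def hom (a b : G) (ha : a ^ (2 * n) = 1) (hb : b * b = a ^ n) (hba : b * a * b⁻¹ = a⁻¹) :
    QuaternionGroup n →* G where
  toFun d := match d with
    | QuaternionGroup.a i => powMap a n i
    | QuaternionGroup.xa i => b * powMap a n i
  map_one' := by
    show powMap a n 0 = 1
    rw [← Int.cast_zero, powMap_intCast ha, zpow_zero]
  map_mul' := by
    rintro (i | i) (j | j)
    · exact powMap_add ha i j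
    · show b * powMap a n (j - i) = powMap a n i * (b * powMap a n j)
      rw [← mul_assoc, powMap_mul_right ha hba, mul_assoc, ← powMap_add ha, neg_add_eq_sub]
    · show b * powMap a n (i + j) = b * powMap a n i * powMap a n j
      rw [powMap_add ha, mul_assoc]
    · show powMap a n ((n : ZMod (2 * n)) + j - i) = b * powMap a n i * (b * powMap a n j)
      rw [← mul_assoc, mul_assoc b _ b, powMap_mul_right ha hba, ← mul_assoc b b, hb, mul_assoc,
        ← powMap_add ha, ← zpow_natCast, ← powMap_intCast ha, ← powMap_add ha, Int.cast_natCast]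
      congr 1
      ring

theorem hom_range (ha : a ^ (2 * n) = 1) (hb : b * b = a ^ n) (hba : b * a * b⁻¹ = a⁻¹) :
    (hom a b ha hb hba).range = Subgroup.closure {a, b} := by
  apply le_antisymm
  · have h0 : a ∈ Subgroup.closure ({a, b} : Set G) := Subgroup.subset_closure (Or.inl rfl)
    have h1 : b ∈ Subgroup.closure ({a, b} : Set G) := Subgroup.subset_closure (Or.inr rfl)
    rintro _ ⟨i | i, rfl⟩
    · exact zpow_mem h0 _
    · exact mul_mem h1 (zpow_mem h0 _)
  · rw [Subgroup.closure_le]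
    rintro z (rfl | rfl)
    · refine ⟨QuaternionGroup.a ((1 : ℤ) : ZMod (2 * n)), ?_⟩
      show powMap z n _ = z
      rw [powMap_intCast ha, zpow_one]
    · refine ⟨QuaternionGroup.xa ((0 : ℤ) : ZMod (2 * n)), ?_⟩
      show z * powMap a n _ = z
      rw [powMap_intCast ha, zpow_zero, mul_one]

theorem hom_injective (ha : a ^ (2 * n) = 1) (hb : b * b = a ^ n) (hba : b * a * b⁻¹ = a⁻¹)
    (hord : orderOf a = 2 * n) (hnm : b ∉ Subgroup.zpowers a) :
    Function.Injective (hom a b ha hb hba) := by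
  rw [injective_iff_map_eq_one]
  rintro (i | i) h
  · replace h : a ^ (i.cast : ℤ) = 1 := h
    rw [← orderOf_dvd_iff_zpow_eq_one, hord, ← ZMod.intCast_zmod_eq_zero_iff_dvd, ZMod.intCast_zmod_cast] at h
    rw [h]
    rfl
  · exfalso
    replace h : b * a ^ (i.cast : ℤ) = 1 := h
    refine hnm ⟨-(i.cast : ℤ), ?_⟩
    show a ^ (-(i.cast : ℤ)) = b
    rw [zpow_neg, ← eq_inv_of_mul_eq_one_left h]

theorem nonempty_equiv (ha : a ^ (2 * n) = 1) (hb : b * b = a ^ n) (hba : b * a * b⁻¹ = a⁻¹)
    (hord : orderOf a = 2 * n) (hnm : b ∉ Subgroup.zpowers a) :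
    Nonempty (↥(Subgroup.closure ({a, b} : Set G)) ≃* QuaternionGroup n) :=
  ⟨((MulEquiv.subgroupCongr (hom_range ha hb hba)).symm.trans
    (MonoidHom.ofInjective (hom_injective ha hb hba hord hnm)).symm)⟩

theorem nat_card [NeZero n] : Nat.card (QuaternionGroup n) = 4 * n := by
  rw [Nat.card_eq_fintype_card, QuaternionGroup.card]

theorem q8_involution_central :
    ∀ g : QuaternionGroup 2, g * g = 1 → ∀ h : QuaternionGroup 2, g * h = h * g := by decide

theorem q8_not_comm : ∃ g h : QuaternionGroup 2, g * h ≠ h * g := by decide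

variable {Q : Subgroup G}

theorem card_of_q8 (e : Q ≃* QuaternionGroup 2) : Nat.card Q = 8 := by
  rw [Nat.card_congr e.toEquiv, nat_card]

theorem involution_central_of_q8 (e : Q ≃* QuaternionGroup 2) {g h : G} (hg : g ∈ Q) (hgg : g * g = 1)
    (hh : h ∈ Q) : g * h = h * g := by
  have h1 := q8_involution_central (e ⟨g, hg⟩) (by
    rw [← map_mul, ← map_one e]
    exact congrArg e (Subtype.ext hgg)) (e ⟨h, hh⟩)
  rw [← map_mul, ← map_mul] at h1
  exact congrArg Subtype.val (e.injective h1)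

theorem exists_not_comm_of_q8 (e : Q ≃* QuaternionGroup 2) :
    ∃ g ∈ Q, ∃ h ∈ Q, g * h ≠ h * g := by
  obtain ⟨g, h, hgh⟩ := q8_not_comm
  refine ⟨_, (e.symm g).2, _, (e.symm h).2, fun h1 => hgh ?_⟩
  have h2 : e.symm g * e.symm h = e.symm h * e.symm g := Subtype.ext h1
  simpa using congrArg e h2

end CfsgLib.Quat
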