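import Cfsg.Agent.Lib.QuasiDihedral
import Cfsg.Agent.Lib.QuatHom
import Cfsg.Agent.Lib.Elementary
import Mathlib.GroupTheory.SpecificGroups.KleinFour

/-! Klein four and quaternion subgroups of quasi-dihedral groups. -/

set_option autoImplicit false
set_option linter.unusedSectionVars false

namespace CfsgLib.QD

variable {S : Type*} [Group S] [Finite S] (d : Data S)

theorem mem_centralizer_cases (i : ℤ) {h : S}
    (hh : h ∈ Subgroup.centralizer ({d.x ^ i * d.y} : Set S)) :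
    h = 1 ∨ h = d.z ∨ h = d.x ^ i * d.y ∨ h = d.z * (d.x ^ i * d.y) := by
  rw [Subgroup.mem_centralizer_singleton_iff] at hh
  obtain ⟨k, rfl | rfl⟩ := cases_elem d h
  · rcases zpow_sq_eq_one_cases d ((commute_xy_iff d).mp hh) with e | e
    · exact Or.inl e
    · exact Or.inr (Or.inl e)
  · have hc : Commute (d.x ^ k * d.y) (d.x ^ i * d.y) := hh
    have e1 : d.x ^ k * d.y = d.x ^ (k - i) * (d.x ^ i * d.y) := by
      rw [← mul_assoc, ← zpow_add, sub_add_cancel]
    have hc2 : Commute (d.x ^ (k - i)) (d.x ^ i * d.y) := by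
      rw [e1] at hc
      have := hc.mul_left (Commute.refl (d.x ^ i * d.y)).inv_left
      rwa [mul_inv_cancel_right] at this
    rcases zpow_sq_eq_one_cases d ((commute_xy_iff d).mp hc2) with e | e
    · exact Or.inr (Or.inr (Or.inl (by rw [e1, e, one_mul])))
    · exact Or.inr (Or.inr (Or.inr (by rw [e1, e])))

theorem card_centralizer_xy_le (i : ℤ) :
    Nat.card (Subgroup.centralizer ({d.x ^ i * d.y} : Set S)) ≤ 4 := by
  classical
  have hsub : ((Subgroup.centralizer ({d.x ^ i * d.y} : Set S) : Subgroup S) : Set S) ⊆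
      (({1, d.z, d.x ^ i * d.y, d.z * (d.x ^ i * d.y)} : Finset S) : Set S) := fun h hh => by
    simpa using mem_centralizer_cases d i hh
  calc Nat.card (Subgroup.centralizer ({d.x ^ i * d.y} : Set S))
      = ((Subgroup.centralizer ({d.x ^ i * d.y} : Set S) : Subgroup S) : Set S).ncard :=
        Nat.card_coe_set_eq _
    _ ≤ _ := Set.ncard_le_ncard hsub (Finset.finite_toSet _)
    _ ≤ 4 := by rw [Set.ncard_coe_finset]; exact Finset.card_le_four

theorem klein_mul_self {T : Subgroup S} (hT : IsKleinFour T) {g : S} (hg : g ∈ T) : g * g = 1 :=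
  congrArg Subtype.val (IsKleinFour.mul_self (⟨g, hg⟩ : T))

theorem klein_comm {T : Subgroup S} (hT : IsKleinFour T) {g h : S} (hg : g ∈ T) (hh : h ∈ T) :
    g * h = h * g := by
  have h1 := inv_eq_of_mul_eq_one_right (klein_mul_self hT (mul_mem hg hh))
  rw [mul_inv_rev, inv_eq_of_mul_eq_one_right (klein_mul_self hT hg),
    inv_eq_of_mul_eq_one_right (klein_mul_self hT hh)] at h1
  exact h1.symm

/-- A Klein four subgroup is the centralizer of one of its non-central involutions. -/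
theorem klein_eq {T : Subgroup S} (hT : IsKleinFour T) :
    ∃ j : ℤ, d.x ^ (2 * j) * d.y ∈ T ∧ T = Subgroup.centralizer ({d.x ^ (2 * j) * d.y} : Set S) ∧
      d.z ∈ T := by
  classical
  obtain ⟨g, hgT, hg1, hgz⟩ : ∃ g ∈ T, g ≠ 1 ∧ g ≠ d.z := by
    by_contra hcon
    push Not at hcon
    have h2 : Nat.card T ≤ 2 := by
      calc Nat.card T = (T : Set S).ncard := Nat.card_coe_set_eq _
        _ ≤ ((({1, d.z} : Finset S)) : Set S).ncard := Set.ncard_le_ncard (fun g hg => by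
            rcases eq_or_ne g 1 with e | e
            · simp [e]
            · simp [hcon g hg e]) (Finset.finite_toSet _)
        _ ≤ 2 := by rw [Set.ncard_coe_finset]; exact Finset.card_le_two
    rw [IsKleinFour.card_four] at h2
    omega
  obtain rfl | ⟨j, rfl⟩ := involution_cases d
    (CfsgLib.Involutions.orderOf_eq_two_iff'.mpr ⟨klein_mul_self hT hgT, hg1⟩)
  · exact absurd rfl hgz
  refine ⟨j, hgT, ?_, ?_⟩
  · refine Subgroup.eq_of_le_of_card_ge (fun h hh => ?_) ?_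
    · rw [Subgroup.mem_centralizer_singleton_iff]
      exact klein_comm hT hh hgT
    · rw [@IsKleinFour.card_four T _ hT]
      exact card_centralizer_xy_le d _
  · by_contra hz
    have h3 : Nat.card T ≤ 3 := by
      calc Nat.card T = (T : Set S).ncard := Nat.card_coe_set_eq _
        _ ≤ ((({1, d.x ^ (2 * j) * d.y, d.z * (d.x ^ (2 * j) * d.y)} : Finset S)) : Set S).ncard :=
            Set.ncard_le_ncard (fun g hg => by
              rcases mem_centralizer_cases d (2 * j) (Subgroup.mem_centralizer_singleton_iff.mpr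
                (klein_comm hT hg hgT)) with e | e | e | e
              · simp [e]
              · exact absurd (e ▸ hg) hz
              · simp [e]
              · simp [e]) (Finset.finite_toSet _)
        _ ≤ 3 := by rw [Set.ncard_coe_finset]; exact Finset.card_le_three
    rw [IsKleinFour.card_four] at h3
    omega

/-- Membership in a quaternion subgroup of order eight. -/
theorem q8_mem {Q : Subgroup S} (e : Q ≃* QuaternionGroup 2) :
    ∃ i : ℤ, ∀ g : S, g ∈ Q ↔
      ∃ k : ℤ, g = d.x ^ (2 * (d.M : ℤ) * k) ∨ g = d.x ^ (2 * i + 1 + 2 * (d.M : ℤ) * k) * d.y := by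
  have hQ := CfsgLib.Quat.card_of_q8 e
  haveI := normal_X d
  -- the intersection with the cyclic subgroup has order four
  have hne : ¬ Q ≤ d.X := fun h => by
    obtain ⟨g, hg, g', hg', hne⟩ := CfsgLib.Quat.exists_not_comm_of_q8 e
    obtain ⟨a, rfl⟩ := h hg
    obtain ⟨b, rfl⟩ := h hg'
    exact hne ((Commute.refl d.x).zpow_zpow a b).eq
  have hrel : d.X.relIndex Q = 2 := by
    rcases (Nat.dvd_prime Nat.prime_two).mp (index_X d ▸ Subgroup.relIndex_dvd_index_of_normal d.X Q) with h | h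
    · exact absurd (Subgroup.relIndex_eq_one.mp h) hne
    · exact h
  have hcard : Nat.card (d.X ⊓ Q : Subgroup S) = 4 := by
    have h := (d.X.subgroupOf Q).card_mul_index
    rw [show (d.X.subgroupOf Q).index = d.X.relIndex Q from rfl, hrel, hQ] at h
    have e2 : Nat.card (d.X.subgroupOf Q) = Nat.card (d.X ⊓ Q : Subgroup S) := by
      rw [← Subgroup.inf_subgroupOf_right d.X Q]
      exact Nat.card_congr (Subgroup.subgroupOfEquivOfLe inf_le_right).toEquiv
    omega
  have hX4 : d.X ⊓ Q = Subgroup.zpowers (d.x ^ (2 * (d.M : ℤ))) := by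
    refine Subgroup.eq_of_le_of_card_ge ?_ (by rw [Nat.card_zpowers, orderOf_zpow_quarter, hcard])
    rintro g ⟨⟨i, rfl⟩, hg⟩
    have h4 : (⟨d.x ^ i, zpow_mem_X d i, hg⟩ : (d.X ⊓ Q : Subgroup S)) ^ 4 = 1 := hcard ▸ pow_card_eq_one'
    have h4' : (d.x ^ i) ^ 4 = 1 := congrArg Subtype.val h4
    rw [← zpow_natCast, ← zpow_mul, zpow_eq_one_iff, show 8 * (d.M : ℤ) = 2 * (d.M : ℤ) * ((4 : ℕ) : ℤ) by push_cast; ring,
      mul_dvd_mul_iff_right (by norm_num)] at h4'
    obtain ⟨t, rfl⟩ := h4'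
    exact ⟨t, (zpow_mul _ _ _).symm⟩
  have hc : ∀ k : ℤ, d.x ^ (2 * (d.M : ℤ) * k) ∈ Q := fun k => by
    have h : d.x ^ (2 * (d.M : ℤ) * k) ∈ d.X ⊓ Q := hX4 ▸ ⟨k, (zpow_mul _ _ _).symm⟩
    exact h.2
  obtain ⟨b, hbQ, hbX⟩ := SetLike.not_le_iff_exists.mp hne
  obtain ⟨t, rfl | rfl⟩ := cases_elem d b
  · exact absurd (zpow_mem_X d t) hbX
  obtain ⟨i, rfl | rfl⟩ := Int.even_or_odd' t
  · -- an involution outside the cyclic subgroup would be central in `Q`
    exfalso
    have h := CfsgLib.Quat.involution_central_of_q8 e hbQ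
      (CfsgLib.Involutions.mul_self_eq_one_of_orderOf (orderOf_xy_even d i)) (hc 1)
    have h2 := (commute_xy_iff d).mp (Commute.symm (show Commute _ _ from h))
    have h3 := Int.le_of_dvd (by have := d.hM; omega) h2
    have := d.hM
    omega
  refine ⟨i, fun g => ⟨fun hg => ?_, ?_⟩⟩
  · obtain ⟨j, rfl | rfl⟩ := cases_elem d g
    · have h : d.x ^ j ∈ d.X ⊓ Q := ⟨zpow_mem_X d j, hg⟩
      rw [hX4] at h
      obtain ⟨k, hk⟩ := h
      exact ⟨k, Or.inl (by rw [zpow_mul]; exact hk.symm)⟩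
    · have h : d.x ^ (j - (2 * i + 1)) ∈ d.X ⊓ Q := ⟨zpow_mem_X d _, by
        have := mul_mem hg (inv_mem hbQ)
        rwa [mul_inv_rev, ← mul_assoc, mul_assoc (d.x ^ j), mul_inv_cancel, mul_one, ← zpow_neg, ← zpow_add,
          ← sub_eq_add_neg] at this⟩
      rw [hX4] at h
      obtain ⟨k, hk⟩ := h
      replace hk : (d.x ^ (2 * (d.M : ℤ))) ^ k = d.x ^ (j - (2 * i + 1)) := hk
      refine ⟨k, Or.inr ?_⟩
      rw [zpow_add, zpow_mul, hk, ← zpow_add, add_sub_cancel]
  · rintro ⟨k, rfl | rfl⟩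
    · exact hc k
    · rw [show 2 * i + 1 + 2 * (d.M : ℤ) * k = 2 * (d.M : ℤ) * k + (2 * i + 1) by ring, zpow_add, mul_assoc]
      exact mul_mem (hc k) hbQ

/-- A criterion for index two. -/
theorem relIndex_eq_two_of {H N : Subgroup S} {k : S} (hk : k ∈ N)
    (h : ∀ b ∈ N, (b * k ∈ H ∧ b ∉ H) ∨ (b ∈ H ∧ b * k ∉ H)) : H.relIndex N = 2 := by
  rw [Subgroup.relIndex, Subgroup.index_eq_two_iff]
  refine ⟨⟨k, hk⟩, fun b => ?_⟩
  rcases h b b.2 with ⟨h1, h2⟩ | ⟨h1, h2⟩
  · exact Or.inl ⟨h1, h2⟩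
  · exact Or.inr ⟨h1, h2⟩

end CfsgLib.QD

namespace CfsgLib.QD

variable {S : Type*} [Group S] [Finite S] (d : Data S)

theorem isCoatom_of_index_two {N : Subgroup S} (h : N.index = 2) : IsCoatom N := by
  refine ⟨fun e => by rw [e, Subgroup.index_top] at h; omega, fun M hM => ?_⟩
  have h2 := Subgroup.relIndex_mul_index hM.le
  rw [h] at h2
  rcases (Nat.dvd_prime Nat.prime_two).mp (Dvd.intro_left _ h2) with e | e
  · exact Subgroup.index_eq_one.mp e
  · rw [e] at h2
    exact absurd (Subgroup.relIndex_eq_one.mp (by omega : N.relIndex M = 1)) hM.not_ge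

theorem eq_of_le_of_index {H K : Subgroup S} (h : H ≤ K) (hH : H.index = 2) (hK : K.index = 2) :
    H = K := by
  have h2 := Subgroup.relIndex_mul_index h
  rw [hH, hK] at h2
  exact le_antisymm h (Subgroup.relIndex_eq_one.mp (by omega))

theorem orderOf_x_sq : orderOf (d.x ^ (2 : ℤ)) = 4 * d.M := by
  rw [show (2 : ℤ) = ((2 : ℕ) : ℤ) from rfl, zpow_natCast, orderOf_pow, d.hx,
    Nat.gcd_eq_right ⟨4 * d.M, by ring⟩]
  omega

theorem two_involutions_mul : d.x ^ (2 : ℤ) * d.y * d.y = d.x ^ (2 : ℤ) := by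
  rw [mul_assoc, hyy, mul_one]

/-- The dihedral maximal subgroup. -/
def Data.D : Subgroup S := Subgroup.closure {d.x ^ (2 : ℤ) * d.y, d.y}

/-- The quaternion maximal subgroup. -/
def Data.Q : Subgroup S := Subgroup.closure {d.x ^ (2 : ℤ), d.x ^ (1 : ℤ) * d.y}

theorem D_equiv : Nonempty (↥d.D ≃* DihedralGroup (4 * d.M)) := by
  have hne : d.x ^ (2 : ℤ) * d.y ≠ d.y := fun h => by
    have h2 := orderOf_x_sq d
    rw [mul_eq_right.mp h, orderOf_one] at h2
    omega
  have ha : orderOf (d.x ^ (2 : ℤ) * d.y) = 2 := orderOf_xy_even d 1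
  have e : orderOf (d.x ^ (2 : ℤ) * d.y * d.y) = 4 * d.M := by rw [two_involutions_mul, orderOf_x_sq]
  rw [← e]
  exact ⟨((MulEquiv.subgroupCongr (CfsgLib.Involutions.toClosure_range
      (CfsgLib.Involutions.mul_self_eq_one_of_orderOf ha) (hyy d))).symm.trans
    (MonoidHom.ofInjective (CfsgLib.Involutions.toClosure_injective ha d.hy hne)).symm)⟩

theorem Q_equiv : Nonempty (↥d.Q ≃* QuaternionGroup (2 * d.M)) := by
  refine CfsgLib.Quat.nonempty_equiv ?_ ?_ ?_ ?_ ?_
  · rw [show 2 * (2 * d.M) = orderOf (d.x ^ (2 : ℤ)) by rw [orderOf_x_sq]; ring, pow_orderOf_eq_one]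
  · rw [xy_mul_self, ← zpow_natCast, ← zpow_mul]
    congr 1
    push_cast
    ring
  · rw [mul_inv_rev, show d.x ^ (1 : ℤ) * d.y * d.x ^ (2 : ℤ) * (d.y⁻¹ * (d.x ^ (1 : ℤ))⁻¹)
        = d.x ^ (1 : ℤ) * (d.y * d.x ^ (2 : ℤ) * d.y⁻¹) * (d.x ^ (1 : ℤ))⁻¹ by simp [mul_assoc],
      conj_y, ← zpow_neg, ← zpow_neg, ← zpow_add, ← zpow_add, zpow_eq_iff]
    exact ⟨-1, by ring⟩
  · rw [orderOf_x_sq]; ring
  · rintro ⟨k, hk⟩
    refine xy_ne_zpow d 1 (2 * k) ?_
    rw [zpow_mul]
    exact hk.symm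

theorem card_D : Nat.card d.D = 8 * d.M := by
  obtain ⟨e⟩ := D_equiv d
  rw [Nat.card_congr e.toEquiv, DihedralGroup.nat_card]
  ring

theorem card_Q : Nat.card d.Q = 8 * d.M := by
  obtain ⟨e⟩ := Q_equiv d
  haveI : NeZero (2 * d.M) := ⟨by have := d.hM; omega⟩
  rw [Nat.card_congr e.toEquiv, CfsgLib.Quat.nat_card]
  ring

theorem index_of_card {H : Subgroup S} (h : Nat.card H = 8 * d.M) : H.index = 2 := by
  have h2 := H.card_mul_index
  rw [h, d.hcard] at h2
  have := d.hM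
  exact Nat.eq_of_mul_eq_mul_left (by omega : 0 < 8 * d.M) (by omega)

theorem D_inf_X_le : d.D ⊓ d.X ≤ Subgroup.zpowers (d.x ^ (2 : ℤ)) := by
  rintro g ⟨hg, hgX⟩
  obtain ⟨k, rfl | rfl⟩ := CfsgLib.Involutions.mem_closure_pair
    (CfsgLib.Involutions.mul_self_eq_one_of_orderOf (orderOf_xy_even d 1)) (hyy d) hg
  · exact ⟨k, by rw [show d.x ^ (2 * (1 : ℤ)) * d.y * d.y = d.x ^ (2 : ℤ) from two_involutions_mul d]⟩
  · exfalso
    replace hgX : d.x ^ (2 * (1 : ℤ)) * d.y * (d.x ^ (2 * (1 : ℤ)) * d.y * d.y) ^ k ∈ d.X := hgX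
    refine xy_not_mem d (2 * 1) ((Subgroup.mul_mem_cancel_right _ ?_).mp hgX)
    rw [show d.x ^ (2 * (1 : ℤ)) * d.y * d.y = d.x ^ (2 : ℤ) from two_involutions_mul d]
    exact zpow_mem (zpow_mem_X d 2) k

theorem coatom_cases (hS : IsPGroup 2 S) {M : Subgroup S} (hM : IsCoatom M) :
    M = d.X ∨ M = d.Q ∨ M = d.D := by
  haveI : Fact (Nat.Prime 2) := ⟨Nat.prime_two⟩
  have hi := (CfsgLib.index_coatom_pGroup hS hM).2
  have hsq : d.x ^ (2 : ℤ) ∈ M := by
    rw [zpow_two]
    exact (Subgroup.mul_mem_iff_of_index_two hi).mpr Iff.rfl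
  by_cases hx : d.x ∈ M
  · left
    exact (eq_of_le_of_index (Subgroup.zpowers_le.mpr hx) (index_X d) hi).symm
  by_cases hy : d.y ∈ M
  · right; right
    refine (eq_of_le_of_index ?_ (index_of_card d (card_D d)) hi).symm
    rw [Data.D, Subgroup.closure_le]
    rintro g (rfl | rfl)
    · exact mul_mem hsq hy
    · exact hy
  · right; left
    refine (eq_of_le_of_index ?_ (index_of_card d (card_Q d)) hi).symm
    rw [Data.Q, Subgroup.closure_le]
    rintro g (rfl | rfl)
    · exact hsq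
    · rw [zpow_one]
      exact (Subgroup.mul_mem_iff_of_index_two hi).mpr ⟨fun h => absurd h hx, fun h => absurd h hy⟩

theorem isPGroup : ∀ {n : ℕ}, Nat.card S = 2 ^ n → IsPGroup 2 S := fun h => IsPGroup.of_card h

end CfsgLib.QD
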