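import Mathlib.GroupTheory.Focal
import Mathlib.GroupTheory.Nilpotent
import Cfsg.Prelude.Def_Transfer
import Cfsg.Agent.Lib.SylowExtra

/-!
Transfer: `O^p(G)`, Higman's focal subgroup theorem, normal `p`-complements from control of fusion,
Burnside's fusion lemma.
-/

set_option autoImplicit false

open scoped commutatorElement

namespace CfsgLib.Transfer

variable {G : Type*} [Group G] {p : ℕ}

/-! ### `O^p(G)` -/

theorem mem_pResidual_of_coprime {g : G} (h : (orderOf g).Coprime p) : g ∈ Cfsg.pResidual p G :=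
  Subgroup.subset_closure h

theorem map_pResidual_le {H : Type*} [Group H] (f : G →* H) :
    (Cfsg.pResidual p G).map f ≤ Cfsg.pResidual p H := by
  rw [Subgroup.map_le_iff_le_comap, Cfsg.pResidual, Subgroup.closure_le]
  intro g hg
  exact Subgroup.subset_closure (Nat.Coprime.coprime_dvd_left (orderOf_map_dvd f g) hg)

instance pResidual_characteristic : (Cfsg.pResidual p G).Characteristic :=
  Subgroup.characteristic_iff_map_le.mpr fun e => map_pResidual_le e.toMonoidHom

theorem le_ker_of_isPGroup {A : Type*} [Group A] (hA : IsPGroup p A) (f : G →* A) :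
    Cfsg.pResidual p G ≤ f.ker := by
  rw [Cfsg.pResidual, Subgroup.closure_le]
  intro g hg
  obtain ⟨k, hk⟩ := hA (f g)
  have h1 : orderOf (f g) ∣ orderOf g := orderOf_map_dvd f g
  have h2 : orderOf (f g) ∣ p ^ k := orderOf_dvd_of_pow_eq_one hk
  have := Nat.dvd_gcd h1 h2
  rw [Nat.Coprime.gcd_eq_one (Nat.Coprime.pow_right k hg), Nat.dvd_one, orderOf_eq_one_iff] at this
  exact this

theorem pResidual_le_of_isPGroup_quotient (N : Subgroup G) [N.Normal] (h : IsPGroup p (G ⧸ N)) :
    Cfsg.pResidual p G ≤ N :=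
  (le_ker_of_isPGroup h (QuotientGroup.mk' N)).trans (QuotientGroup.ker_mk' N).le

theorem pResidual_eq_bot_of_isPGroup (h : IsPGroup p G) : Cfsg.pResidual p G = ⊥ :=
  le_bot_iff.mp ((le_ker_of_isPGroup h (MonoidHom.id G)).trans MonoidHom.ker_id.le)

/-- `G / O^p(G)` is a `p`-group. -/
theorem isPGroup_quotient_pResidual [Finite G] [Fact p.Prime] :
    IsPGroup p (G ⧸ Cfsg.pResidual p G) := by
  intro x
  induction x using QuotientGroup.induction_on with
  | H g =>
    refine ⟨(orderOf g).factorization p, ?_⟩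
    rw [← QuotientGroup.mk_pow, QuotientGroup.eq_one_iff]
    refine mem_pResidual_of_coprime ?_
    rw [orderOf_pow, Nat.gcd_eq_right (Nat.ordProj_dvd _ _)]
    exact (Nat.coprime_ordCompl Fact.out (orderOf_pos g).ne').symm

/-- `O^p` of `O^p(G)` is everything. -/
theorem pResidual_pResidual : Cfsg.pResidual p (Cfsg.pResidual p G) = ⊤ := by
  refine Subgroup.map_injective (Cfsg.pResidual p G).subtype_injective ?_
  rw [← MonoidHom.range_eq_map, Subgroup.range_subtype]
  refine le_antisymm (Subgroup.map_subtype_le _) ?_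
  conv_lhs => rw [Cfsg.pResidual]
  rw [Subgroup.closure_le]
  intro g hg
  refine ⟨⟨g, mem_pResidual_of_coprime hg⟩, mem_pResidual_of_coprime ?_, rfl⟩
  rwa [← Subgroup.orderOf_coe]

theorem map_pResidual_of_surjective [Finite G] [Fact p.Prime] {H : Type*} [Group H] (f : G →* H)
    (hf : Function.Surjective f) : (Cfsg.pResidual p G).map f = Cfsg.pResidual p H := by
  refine le_antisymm (map_pResidual_le f) ?_
  have : ((Cfsg.pResidual p G).map f).Normal := Subgroup.Normal.map inferInstance f hf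
  refine pResidual_le_of_isPGroup_quotient _ (IsPGroup.of_surjective isPGroup_quotient_pResidual
    (QuotientGroup.map _ _ f (Subgroup.le_comap_map f _)) ?_)
  intro y
  induction y using QuotientGroup.induction_on with
  | H h =>
    obtain ⟨g, rfl⟩ := hf h
    exact ⟨g, rfl⟩

/-- A Sylow subgroup supplements every normal subgroup of `p`-power index. -/
theorem sylow_sup_eq_top_of_isPGroup_quotient [Finite G] [Fact p.Prime] (P : Sylow p G)
    (N : Subgroup G) [N.Normal] (h : IsPGroup p (G ⧸ N)) : (P : Subgroup G) ⊔ N = ⊤ := by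
  rw [← Subgroup.index_eq_one]
  obtain ⟨n, hn⟩ := IsPGroup.iff_card.mp h
  have h1 : ((P : Subgroup G) ⊔ N).index ∣ p ^ n := by
    rw [← hn, ← Subgroup.index_eq_card]
    exact Subgroup.index_dvd_of_le le_sup_right
  have h2 : ((P : Subgroup G) ⊔ N).index ∣ (P : Subgroup G).index :=
    Subgroup.index_dvd_of_le le_sup_left
  have h3 : Nat.Coprime (P : Subgroup G).index (p ^ n) :=
    Nat.Coprime.pow_right n ((Fact.out : p.Prime).coprime_iff_not_dvd.mpr P.not_dvd_index).symm
  exact Nat.dvd_one.mp (h3.gcd_eq_one ▸ Nat.dvd_gcd h2 h1)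

theorem sylow_sup_pResidual [Finite G] [Fact p.Prime] (P : Sylow p G) :
    (P : Subgroup G) ⊔ Cfsg.pResidual p G = ⊤ :=
  sylow_sup_eq_top_of_isPGroup_quotient P _ isPGroup_quotient_pResidual

theorem hasNormalPComplement_of_inf_pResidual_eq_bot [Finite G] [Fact p.Prime] (P : Sylow p G)
    (h : (P : Subgroup G) ⊓ Cfsg.pResidual p G = ⊥) : Cfsg.HasNormalPComplement p G :=
  ⟨P, Cfsg.pResidual p G, inferInstance, Subgroup.isComplement'_of_disjoint_and_mul_eq_univ
    (disjoint_iff.mpr ((inf_comm _ _).trans h)) (by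
      have h1 := Subgroup.normal_mul (Cfsg.pResidual p G) (P : Subgroup G)
      rw [sup_comm, sylow_sup_pResidual P, Subgroup.coe_top] at h1
      exact h1.symm)⟩

theorem pResidual_le_of_isComplement' [Finite G] (P : Sylow p G) (N : Subgroup G) [N.Normal]
    (h : N.IsComplement' (P : Subgroup G)) : Cfsg.pResidual p G ≤ N :=
  pResidual_le_of_isPGroup_quotient N (P.2.of_equiv h.symm.QuotientMulEquiv.symm)

theorem hasNormalPComplement_iff_inf_pResidual [Finite G] [Fact p.Prime] (P : Sylow p G) :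
    Cfsg.HasNormalPComplement p G ↔ (P : Subgroup G) ⊓ Cfsg.pResidual p G = ⊥ := by
  refine ⟨?_, hasNormalPComplement_of_inf_pResidual_eq_bot P⟩
  rintro ⟨Q, N, hN, hc⟩
  have hle := pResidual_le_of_isComplement' Q N hc
  obtain ⟨g, rfl⟩ := MulAction.exists_smul_eq G Q P
  rw [eq_bot_iff]
  rintro x ⟨hx, hxr⟩
  replace hx : x ∈ ((g • Q : Sylow p G) : Subgroup G) := hx
  rw [Sylow.coe_subgroup_smul, Subgroup.mem_pointwise_smul_iff_inv_smul_mem] at hx
  have hx2 : g⁻¹ * x * g ∈ N := by simpa using hN.conj_mem x (hle hxr) g⁻¹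
  have hx1 : g⁻¹ * x * g ∈ (Q : Subgroup G) := by simpa [MulAut.conj_symm_apply] using hx
  have h1 := Subgroup.disjoint_def.mp hc.disjoint hx2 hx1
  rw [Subgroup.mem_bot, ← mul_right_inj g⁻¹, ← mul_left_inj g, h1]
  group

/-! ### Focal subgroups -/

open scoped IsMulCommutative in
/-- Higman's focal subgroup theorem: if the index of `H` is prime to the order of `H/H*` then the transfer
kernel supplements `H` and meets it in `H* = H ∩ G'`. -/
theorem exists_normal_inf_eq_focal [Finite G] (H : Subgroup G)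
    (h : (H.index).Coprime (Nat.card (H ⧸ H.focalSubgroupOf))) :
    H.focalSubgroup = commutator G ⊓ H ∧ ∃ N : Subgroup G, N.Normal ∧ N ⊓ H = H.focalSubgroup ∧ N ⊔ H = ⊤ := by
  have hsurj : ∀ q : H ⧸ H.focalSubgroupOf, ∃ x : H, H.transferFocal x = q := by
    intro q
    obtain ⟨r, hr⟩ := (powCoprime (Nat.Coprime.symm h)).surjective q
    obtain ⟨x, rfl⟩ := QuotientGroup.mk'_surjective _ r
    exact ⟨x, (Subgroup.transferFocal_eq_pow H x).trans hr⟩
  have hinf : H.transferFocal.ker ⊓ H = H.focalSubgroup := by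
    ext g
    constructor
    · rintro ⟨hg, hgH⟩
      replace hg : H.transferFocal g = 1 := hg
      have h1 := (Subgroup.transferFocal_eq_pow H ⟨g, hgH⟩).symm.trans hg
      rw [← one_pow H.index] at h1
      have h2 := (powCoprime (Nat.Coprime.symm h)).injective h1
      rw [QuotientGroup.eq_one_iff] at h2
      exact h2
    · intro hg
      refine ⟨?_, H.focalSubgroup_le hg⟩
      show H.transferFocal g = 1
      refine (Subgroup.transferFocal_eq_pow H ⟨g, H.focalSubgroup_le hg⟩).trans ?_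
      have h0 : ((⟨g, H.focalSubgroup_le hg⟩ : H) : H ⧸ H.focalSubgroupOf) = 1 :=
        (QuotientGroup.eq_one_iff _).mpr hg
      rw [h0, one_pow]
  refine ⟨le_antisymm (le_inf H.focalSubgroup_le_commutator H.focalSubgroup_le) ?_,
    H.transferFocal.ker, inferInstance, hinf, ?_⟩
  · exact (inf_le_inf_right H (Abelianization.commutator_subset_ker H.transferFocal)).trans hinf.le
  · rw [eq_top_iff]
    intro g _
    obtain ⟨x, hx⟩ := hsurj (H.transferFocal g)
    have h1 : g * (x : G)⁻¹ ∈ H.transferFocal.ker := by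
      rw [MonoidHom.mem_ker, map_mul, map_inv, hx, mul_inv_cancel]
    have := Subgroup.mul_mem_sup h1 x.2
    rwa [inv_mul_cancel_right] at this

/-- If `K = O^p(K)` then a Sylow subgroup of `K` is its own focal subgroup. -/
theorem focalSubgroup_eq_of_pResidual_eq_top [Finite G] [Fact p.Prime] (Q : Sylow p G)
    (h : Cfsg.pResidual p G = ⊤) : (Q : Subgroup G).focalSubgroup = (Q : Subgroup G) := by
  have hker : Q.transferFocal.ker = ⊤ :=
    top_le_iff.mp (h ▸ le_ker_of_isPGroup (Q.2.to_quotient _) Q.transferFocal)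
  rw [← Subgroup.ker_transferFocal_inf_eq_focalSubgroup Q, hker, top_inf_eq]

/-- `P ∩ O^p(G)` is the focal subgroup of itself in `O^p(G)`. -/
theorem inf_pResidual_le_closure [Finite G] [Fact p.Prime] (P : Sylow p G) :
    (P : Subgroup G) ⊓ Cfsg.pResidual p G ≤ Subgroup.closure {g | ∃ x u : G,
      x ∈ (P : Subgroup G) ⊓ Cfsg.pResidual p G ∧ u ∈ Cfsg.pResidual p G ∧
      g = ⁅x, u⁆ ∧ g ∈ (P : Subgroup G) ⊓ Cfsg.pResidual p G} := by
  let K := Cfsg.pResidual p G
  let Q : Sylow p K := CfsgLib.sylowInfNormal P K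
  have hQ : (Q : Subgroup K) = (P : Subgroup G).subgroupOf K := rfl
  have h1 := focalSubgroup_eq_of_pResidual_eq_top Q pResidual_pResidual
  rw [hQ, Subgroup.focalSubgroup_def] at h1
  rintro g ⟨hgP, hgK⟩
  have hg : (⟨g, hgK⟩ : K) ∈ (P : Subgroup G).subgroupOf K := hgP
  rw [← h1] at hg
  have := Subgroup.mem_map_of_mem K.subtype hg
  rw [MonoidHom.map_closure] at this
  refine Subgroup.closure_mono ?_ this
  rintro _ ⟨z, ⟨hz, x, hx, u, rfl⟩, rfl⟩
  exact ⟨x, u, ⟨hx, x.2⟩, u.2, rfl, hz, (⁅x, u⁆ : Cfsg.pResidual p G).2⟩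

/-- A nilpotent group has no nontrivial normal subgroup `Q` with `Q ≤ [Q, P]`. -/
theorem eq_bot_of_le_commutator {P Q : Subgroup G} [Group.IsNilpotent P] (hQP : Q ≤ P)
    (h : Q ≤ ⁅Q, P⁆) : Q = ⊥ := by
  have key : ∀ n, Q ≤ ((⊤ : Subgroup P).lowerCentralSeries n).map P.subtype := by
    intro n
    induction n with
    | zero =>
      rw [Subgroup.lowerCentralSeries_zero, ← MonoidHom.range_eq_map, Subgroup.range_subtype]
      exact hQP
    | succ n ih =>
      rw [Subgroup.lowerCentralSeries_succ, Subgroup.map_commutator]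
      refine h.trans (Subgroup.commutator_mono ih ?_)
      rw [← MonoidHom.range_eq_map, Subgroup.range_subtype]
  obtain ⟨n, hn⟩ := Subgroup.nilpotent_iff_lowerCentralSeries.mp ‹Group.IsNilpotent P›
  exact le_bot_iff.mp ((key n).trans (by rw [hn, Subgroup.map_bot]))

/-- A Sylow subgroup controlling fusion in itself has a normal complement. -/
theorem hasNormalPComplement_of_control [Finite G] [Fact p.Prime] (P : Sylow p G)
    (h : ∀ x ∈ (P : Subgroup G), ∀ g : G, g * x * g⁻¹ ∈ (P : Subgroup G) →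
      ∃ a ∈ (P : Subgroup G), a * x * a⁻¹ = g * x * g⁻¹) :
    Cfsg.HasNormalPComplement p G := by
  refine hasNormalPComplement_of_inf_pResidual_eq_bot P ?_
  have : Group.IsNilpotent (P : Subgroup G) := P.2.isNilpotent
  refine eq_bot_of_le_commutator inf_le_left ((inf_pResidual_le_closure P).trans ?_)
  rw [Subgroup.closure_le]
  rintro _ ⟨x, u, hx, -, rfl, hg⟩
  have h1 : x⁻¹ * ⁅x, u⁆ ∈ (P : Subgroup G) := mul_mem (inv_mem hx.1) hg.1
  have h2 : x⁻¹ * ⁅x, u⁆ = u * x⁻¹ * u⁻¹ := by rw [commutatorElement_def]; group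
  obtain ⟨a, ha, hae⟩ := h x⁻¹ (inv_mem hx.1) u (h2 ▸ h1)
  have h3 : ⁅x, u⁆ = ⁅x, a⁆ := by
    rw [commutatorElement_def, commutatorElement_def, mul_assoc x u, mul_assoc x (u * x⁻¹), ← hae,
      mul_assoc, mul_assoc, mul_assoc x a]
  rw [h3]
  exact Subgroup.commutator_mem_commutator hx ha

/-- Conversely, with a normal complement a Sylow subgroup controls its fusion. -/
theorem control_of_hasNormalPComplement [Finite G] [Fact p.Prime] (P : Sylow p G)
    (h : Cfsg.HasNormalPComplement p G) {x : G} (hx : x ∈ (P : Subgroup G)) {g : G}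
    (hg : g * x * g⁻¹ ∈ (P : Subgroup G)) :
    ∃ a ∈ (P : Subgroup G), a * x * a⁻¹ = g * x * g⁻¹ := by
  have hb := (hasNormalPComplement_iff_inf_pResidual P).mp h
  have hg' : g ∈ ((P : Subgroup G) ⊔ Cfsg.pResidual p G : Subgroup G) := by
    rw [sylow_sup_pResidual P]; exact Subgroup.mem_top g
  rw [← SetLike.mem_coe, Subgroup.mul_normal] at hg'
  obtain ⟨a, ha, k, hk, rfl⟩ := hg'
  refine ⟨a, ha, ?_⟩
  have h1 : k * x * k⁻¹ ∈ (P : Subgroup G) := by
    have := mul_mem (mul_mem (inv_mem ha) hg) ha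
    convert this using 1
    group
  have h2 : k * x * k⁻¹ * x⁻¹ ∈ Cfsg.pResidual p G := by
    rw [mul_assoc k x, mul_assoc k]
    exact mul_mem hk (by
      have := (inferInstance : (Cfsg.pResidual p G).Normal).conj_mem _ (inv_mem hk) x
      simpa [mul_assoc] using this)
  have h3 : k * x * k⁻¹ * x⁻¹ ∈ (P : Subgroup G) ⊓ Cfsg.pResidual p G := Subgroup.mem_inf.mpr ⟨mul_mem h1 (inv_mem hx), h2⟩
  rw [hb, Subgroup.mem_bot, mul_inv_eq_one] at h3
  conv_lhs => rw [← h3]
  group

/-- Burnside's fusion lemma for normal subsets of a Sylow subgroup. -/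
theorem exists_normalizer_conj_of_normal_subsets [Finite G] [Fact p.Prime] (P : Sylow p G)
    (X Y : Set G) (hX : ∀ a ∈ (P : Subgroup G), ∀ z ∈ X, a * z * a⁻¹ ∈ X)
    (hY : ∀ a ∈ (P : Subgroup G), ∀ z ∈ Y, a * z * a⁻¹ ∈ Y) {g : G}
    (hg : (fun z => g * z * g⁻¹) '' X = Y) :
    ∃ n ∈ Subgroup.normalizer ((P : Subgroup G) : Set G), (fun z => n * z * n⁻¹) '' X = Y := by
  let St : Subgroup G :=
    { carrier := {a | ∀ z, z ∈ Y ↔ a * z * a⁻¹ ∈ Y}
      mul_mem' := fun {a b} ha hb z => by
        rw [hb z, ha (b * z * b⁻¹), mul_inv_rev]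
        simp [mul_assoc]
      one_mem' := fun z => by simp
      inv_mem' := fun {a} ha z => by
        rw [inv_inv, ha (a⁻¹ * z * a)]
        simp [mul_assoc] }
  have hP1 : (P : Subgroup G) ≤ St := by
    intro a ha z
    refine ⟨hY a ha z, fun hz => ?_⟩
    have := hY a⁻¹ (inv_mem ha) _ hz
    simpa [mul_assoc] using this
  have hP2 : ((g • P : Sylow p G) : Subgroup G) ≤ St := by
    intro a ha
    rw [Sylow.coe_subgroup_smul, Subgroup.mem_pointwise_smul_iff_inv_smul_mem] at ha
    have ha' : g⁻¹ * a * g ∈ (P : Subgroup G) := by simpa [MulAut.conj_symm_apply] using ha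
    intro z
    subst hg
    constructor
    · rintro ⟨w, hw, rfl⟩
      refine ⟨_, hX _ ha' w hw, ?_⟩
      simp [mul_assoc]
    · rintro ⟨w, hw, hwe⟩
      refine ⟨_, hX _ (inv_mem ha') w hw, ?_⟩
      show g * _ * g⁻¹ = z
      have hz : z = a⁻¹ * (g * w * g⁻¹) * a := by
        rw [show g * w * g⁻¹ = a * z * a⁻¹ from hwe]; group
      rw [hz]
      group
  let P₁ : Sylow p St := P.subtype hP1
  let P₂ : Sylow p St := (g • P).subtype hP2
  obtain ⟨s, hs⟩ := MulAction.exists_smul_eq St P₂ P₁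
  refine ⟨(s : G) * g, ?_, ?_⟩
  · have h1 : ((s : G) * g) • P = P := by
      rw [mul_smul]
      apply Sylow.ext
      have h2 := congrArg (fun R : Sylow p St => (R : Subgroup St).map St.subtype) hs
      simp only [Sylow.coe_subgroup_smul] at h2
      rw [Sylow.coe_subgroup_smul]
      refine Eq.trans ?_ (h2.trans (Subgroup.map_subgroupOf_eq_of_le hP1))
      ext a
      rw [Subgroup.mem_pointwise_smul_iff_inv_smul_mem]
      constructor
      · intro ha
        refine ⟨⟨a, ?_⟩, ?_, rfl⟩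
        · have h3 : (s : G)⁻¹ * a * (s : G) ∈ St := hP2 (by simpa [MulAut.conj_symm_apply] using ha)
          have := mul_mem (mul_mem s.2 h3) (inv_mem s.2)
          convert this using 1
          group
        · rw [SetLike.mem_coe, Subgroup.mem_pointwise_smul_iff_inv_smul_mem]
          exact ha
      · rintro ⟨b, hb, rfl⟩
        rw [SetLike.mem_coe, Subgroup.mem_pointwise_smul_iff_inv_smul_mem] at hb
        exact hb
    exact Sylow.smul_eq_iff_mem_normalizer.mp h1
  · subst hg
    ext z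
    constructor
    · rintro ⟨w, hw, rfl⟩
      have := (s.2 (g * w * g⁻¹)).mp ⟨w, hw, rfl⟩
      simpa [mul_assoc] using this
    · intro hz
      have hz2 : (s : G)⁻¹ * z * (s : G) ∈ (fun z => g * z * g⁻¹) '' X := by
        rw [s.2]
        simpa [mul_assoc] using hz
      obtain ⟨w, hw, hwe⟩ := hz2
      refine ⟨w, hw, ?_⟩
      show (s : G) * g * w * ((s : G) * g)⁻¹ = z
      rw [mul_inv_rev, show (s : G) * g * w * (g⁻¹ * (s : G)⁻¹) = (s : G) * (g * w * g⁻¹) * (s : G)⁻¹ by group,
        show g * w * g⁻¹ = (s : G)⁻¹ * z * (s : G) from hwe]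
      group

end CfsgLib.Transfer
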