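import Mathlib
import Cfsg.Prelude.Def_ClassicalGeometry
import Cfsg.Agent.S0764

/-! Symplectic transvections: action, transitivity on nonzero vectors, centre of `Sp`. -/

set_option autoImplicit false

namespace CfsgLib.SympTransvection

open Matrix

variable {F : Type*} [Field F] {m : ℕ}

local notation "Vec" => (Fin m ⊕ Fin m → F)
local notation "Jm" => Matrix.J (Fin m) F

theorem mulVec_eq (u : Vec) (c : F) (x : Vec) :
    Cfsg.sympTransvection m u c *ᵥ x = x + (c * (x ⬝ᵥ (Jm *ᵥ u))) • u := by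
  simp only [Cfsg.sympTransvection, Matrix.add_mulVec, Matrix.one_mulVec, Matrix.smul_mulVec,
    Matrix.vecMulVec_mulVec, op_smul_eq_smul, smul_smul, dotProduct_comm (Jm *ᵥ u) x]

/-- The transvection as an element of the symplectic group. -/
def tv (u : Vec) (c : F) : Matrix.symplecticGroup (Fin m) F :=
  ⟨Cfsg.sympTransvection m u c, Cfsg.Agent.S0764.result m u c⟩

theorem dot_J_self (u : Vec) : u ⬝ᵥ (Jm *ᵥ u) = 0 := by
  simp [Matrix.J, dotProduct, Fintype.sum_sum_type, Matrix.fromBlocks_mulVec, Matrix.neg_mulVec]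
  rw [neg_add_eq_zero]
  exact Finset.sum_congr rfl fun i _ => mul_comm _ _

theorem J_mulVec_ne_zero {u : Vec} (hu : u ≠ 0) : Jm *ᵥ u ≠ 0 := by
  intro h
  apply hu
  have h1 : (Jm * Jm) *ᵥ u = 0 := by rw [← Matrix.mulVec_mulVec, h, Matrix.mulVec_zero]
  rw [Matrix.J_squared, Matrix.neg_mulVec, Matrix.one_mulVec, neg_eq_zero] at h1
  exact h1

theorem exists_dot_ne {u : Vec} (hu : u ≠ 0) : ∃ z : Vec, z ⬝ᵥ (Jm *ᵥ u) ≠ 0 := by
  obtain ⟨i, hi⟩ := Function.ne_iff.mp (J_mulVec_ne_zero hu)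
  exact ⟨Pi.single i 1, by simpa [single_dotProduct] using hi⟩

theorem step {v w : Vec} (h : v ⬝ᵥ (Jm *ᵥ w) ≠ 0) :
    ∃ g : Matrix.symplecticGroup (Fin m) F, g.1 *ᵥ v = w := by
  refine ⟨tv (w - v) (v ⬝ᵥ (Jm *ᵥ w))⁻¹, ?_⟩
  show Cfsg.sympTransvection m (w - v) _ *ᵥ v = w
  rw [mulVec_eq, Matrix.mulVec_sub, dotProduct_sub, dot_J_self, sub_zero, inv_mul_cancel₀ h,
    one_smul, add_sub_cancel]

theorem swap (v w : Vec) : v ⬝ᵥ (Jm *ᵥ w) = - (w ⬝ᵥ (Jm *ᵥ v)) := by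
  have := dot_J_self (v + w)
  rw [Matrix.mulVec_add, dotProduct_add, add_dotProduct, add_dotProduct, dot_J_self, dot_J_self,
    zero_add, add_zero] at this
  exact eq_neg_of_add_eq_zero_left (by rw [add_comm]; exact this)

theorem transitive {v w : Vec} (hv : v ≠ 0) (hw : w ≠ 0) :
    ∃ g : Matrix.symplecticGroup (Fin m) F, g.1 *ᵥ v = w := by
  by_cases h : v ⬝ᵥ (Jm *ᵥ w) = 0
  · obtain ⟨z, hzv, hzw⟩ : ∃ z : Vec, z ⬝ᵥ (Jm *ᵥ v) ≠ 0 ∧ z ⬝ᵥ (Jm *ᵥ w) ≠ 0 := by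
      obtain ⟨z₁, h₁⟩ := exists_dot_ne hv
      obtain ⟨z₂, h₂⟩ := exists_dot_ne hw
      by_cases h₁' : z₁ ⬝ᵥ (Jm *ᵥ w) = 0
      · by_cases h₂' : z₂ ⬝ᵥ (Jm *ᵥ v) = 0
        · exact ⟨z₁ + z₂, by rwa [add_dotProduct, h₂', add_zero],
            by rwa [add_dotProduct, h₁', zero_add]⟩
        · exact ⟨z₂, h₂', h₂⟩
      · exact ⟨z₁, h₁, h₁'⟩
    obtain ⟨g₁, hg₁⟩ := step (v := v) (w := z) (by rw [swap, neg_ne_zero]; exact hzv)
    obtain ⟨g₂, hg₂⟩ := step (v := z) (w := w) hzw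
    refine ⟨g₂ * g₁, ?_⟩
    show (g₂.1 * g₁.1) *ᵥ v = w
    rw [← Matrix.mulVec_mulVec, hg₁, hg₂]
  · exact step h

theorem scalar_of_central (g : Matrix.symplecticGroup (Fin m) F) (hg : g ∈ Subgroup.center _) :
    ∃ r : F, g.1 = Matrix.scalar (Fin m ⊕ Fin m) r := by
  have key : ∀ v : Vec, v ≠ 0 → ∃ a : F, g.1 *ᵥ v = a • v := by
    intro v hv
    obtain ⟨x, hx⟩ := exists_dot_ne hv
    have h := congrArg (fun M : Matrix.symplecticGroup (Fin m) F => M.1 *ᵥ x)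
      (Subgroup.mem_center_iff.mp hg (tv v 1))
    change (Cfsg.sympTransvection m v 1 * g.1) *ᵥ x = (g.1 * Cfsg.sympTransvection m v 1) *ᵥ x at h
    rw [← Matrix.mulVec_mulVec, ← Matrix.mulVec_mulVec, mulVec_eq, mulVec_eq, Matrix.mulVec_add,
      one_mul, one_mul, Matrix.mulVec_smul, add_right_inj] at h
    refine ⟨(x ⬝ᵥ (Jm *ᵥ v))⁻¹ * ((g.1 *ᵥ x) ⬝ᵥ (Jm *ᵥ v)), ?_⟩
    rw [← smul_smul, h, smul_smul, inv_mul_cancel₀ hx, one_smul]
  obtain ⟨a, ha⟩ := (Matrix.toLin' g.1).exists_eq_smul_id_of_forall_notLinearIndependent (by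
    intro v
    by_cases hv : v = 0
    · simp [hv, linearIndependent_fin2]
    · obtain ⟨a, ha⟩ := key v hv
      rw [LinearIndependent.pair_iff' hv]
      push Not
      exact ⟨a, by rw [Matrix.toLin'_apply, ha]⟩)
  refine ⟨a, ?_⟩
  calc g.1 = LinearMap.toMatrix' (Matrix.toLin' g.1) := (LinearMap.toMatrix'_toLin' _).symm
    _ = LinearMap.toMatrix' (algebraMap F (Module.End F Vec) a) := congrArg LinearMap.toMatrix' ha
    _ = Matrix.scalar _ a := LinearMap.toMatrix'_algebraMap a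

theorem scalar_mem_iff (hm : 1 ≤ m) (r : F) :
    Matrix.scalar (Fin m ⊕ Fin m) r ∈ Matrix.symplecticGroup (Fin m) F ↔ r ^ 2 = 1 := by
  rw [SymplecticGroup.mem_iff, Matrix.scalar_apply, Matrix.diagonal_transpose,
    ← Matrix.smul_one_eq_diagonal, Matrix.smul_mul, Matrix.mul_smul, Matrix.one_mul, Matrix.mul_one,
    smul_smul, ← sq]
  constructor
  · intro h
    have := congrFun (congrFun h (Sum.inr ⟨0, hm⟩)) (Sum.inl ⟨0, hm⟩)
    simpa [Matrix.J] using this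
  · intro h; rw [h, one_smul]

theorem card_center [Fintype F] (hm : 1 ≤ m) :
    Nat.card (Subgroup.center (Matrix.symplecticGroup (Fin m) F)) = Nat.gcd 2 (Fintype.card F - 1) := by
  have hsq : ∀ u : (powMonoidHom 2 : Fˣ →* Fˣ).ker, ((u.1 : F)) ^ 2 = 1 := fun u => by
    rw [← Units.val_pow_eq_pow_val, show u.1 ^ 2 = 1 from u.2, Units.val_one]
  let f : (powMonoidHom 2 : Fˣ →* Fˣ).ker → Subgroup.center (Matrix.symplecticGroup (Fin m) F) :=
    fun u => ⟨⟨Matrix.scalar _ (u.1 : F), (scalar_mem_iff hm _).mpr (hsq u)⟩,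
      Subgroup.mem_center_iff.mpr fun g => Subtype.ext
        ((Matrix.scalar_commute (u.1 : F) (fun _ => Commute.all _ _) g.1).eq).symm⟩
  have hf : Function.Bijective f := by
    constructor
    · intro u u' h
      have h1 := congrArg (fun z : Subgroup.center (Matrix.symplecticGroup (Fin m) F) =>
        z.1.1 (Sum.inl ⟨0, hm⟩) (Sum.inl ⟨0, hm⟩)) h
      simp [f] at h1
      exact Subtype.ext (Units.ext h1)
    · intro z
      obtain ⟨r, hr⟩ := scalar_of_central z.1 z.2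
      have hr2 : r ^ 2 = 1 := (scalar_mem_iff hm r).mp (hr ▸ z.1.2)
      refine ⟨⟨Units.mk0 r (fun h => by simp [h] at hr2), Units.ext (by simpa using hr2)⟩, ?_⟩
      exact Subtype.ext (Subtype.ext hr.symm)
  rw [← Nat.card_eq_of_bijective f hf, IsCyclic.card_powMonoidHom_ker, Nat.card_units,
    Nat.card_eq_fintype_card, Nat.gcd_comm]

end CfsgLib.SympTransvection
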