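import Mathlib
import Cfsg.Prelude.Def_ClassicalGeometry
import Cfsg.Agent.Lib.SympTransvection

/-! Symplectic transvections generate `Sp`; transitivity on hyperbolic pairs. -/

set_option autoImplicit false

namespace CfsgLib.SympGen

open Matrix
open CfsgLib.SympTransvection (tv mulVec_eq dot_J_self swap J_mulVec_ne_zero exists_dot_ne)

variable {F : Type*} [Field F] {m : ℕ}

local notation "Vec" => (Fin m ⊕ Fin m → F)
local notation "Jm" => Matrix.J (Fin m) F
local notation "Sp" => Matrix.symplecticGroup (Fin m) F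

/-- The form. -/
abbrev B (x y : Vec) : F := x ⬝ᵥ (Jm *ᵥ y)

theorem B_self (x : Vec) : B x x = 0 := dot_J_self x

theorem B_swap (x y : Vec) : B x y = - B y x := swap x y

theorem B_add_left (x y z : Vec) : B (x + y) z = B x z + B y z := add_dotProduct _ _ _

theorem B_add_right (x y z : Vec) : B x (y + z) = B x y + B x z := by
  simp [B, Matrix.mulVec_add, dotProduct_add]

theorem B_sub_right (x y z : Vec) : B x (y - z) = B x y - B x z := by
  simp [B, Matrix.mulVec_sub, dotProduct_sub]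

theorem B_sub_left (x y z : Vec) : B (x - y) z = B x z - B y z := sub_dotProduct _ _ _

theorem B_smul_left (c : F) (x z : Vec) : B (c • x) z = c * B x z := smul_dotProduct _ _ _

theorem B_smul_right (c : F) (x z : Vec) : B x (c • z) = c * B x z := by
  simp [B, Matrix.mulVec_smul, dotProduct_smul]

theorem tv_apply (u : Vec) (c : F) (x : Vec) : (tv u c).1 *ᵥ x = x + (c * B x u) • u := mulVec_eq u c x

theorem mul_apply (g h : Sp) (x : Vec) : (g * h).1 *ᵥ x = g.1 *ᵥ (h.1 *ᵥ x) := by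
  show (g.1 * h.1) *ᵥ x = _
  rw [Matrix.mulVec_mulVec]

theorem one_apply (x : Vec) : (1 : Sp).1 *ᵥ x = x := Matrix.one_mulVec x

theorem B_map (g : Sp) (x y : Vec) : B (g.1 *ᵥ x) (g.1 *ᵥ y) = B x y := by
  have h : g.1ᵀ * Jm * g.1 = Jm := SymplecticGroup.mem_iff'.mp g.2
  conv_rhs => rw [B, ← h]
  show g.1 *ᵥ x ⬝ᵥ Jm *ᵥ (g.1 *ᵥ y) = x ⬝ᵥ (g.1ᵀ * Jm * g.1) *ᵥ y
  rw [Matrix.mul_assoc, ← Matrix.mulVec_mulVec, dotProduct_mulVec x g.1ᵀ, Matrix.vecMul_transpose,
    Matrix.mulVec_mulVec]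

variable (F m) in
/-- The subgroup generated by transvections. -/
def TV : Subgroup Sp :=
  Subgroup.closure {A | ∃ (w : Vec) (c : F), (A : Matrix _ _ F) = Cfsg.sympTransvection m w c}

theorem tv_mem (u : Vec) (c : F) : tv u c ∈ TV F m := Subgroup.subset_closure ⟨u, c, rfl⟩

theorem step {v w : Vec} (h : B v w ≠ 0) :
    ∃ g ∈ TV F m, g.1 *ᵥ v = w ∧ ∀ x, B x v = B x w → g.1 *ᵥ x = x := by
  refine ⟨tv (w - v) (B v w)⁻¹, tv_mem _ _, ?_, fun x hx => ?_⟩
  · rw [tv_apply, B_sub_right, B_self, sub_zero, inv_mul_cancel₀ h, one_smul, add_sub_cancel]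
  · rw [tv_apply, B_sub_right, hx, sub_self, mul_zero, zero_smul, add_zero]

theorem pair {e f e' f' : Vec} (h : B e f = 1) (h' : B e' f' = 1) :
    ∃ g ∈ TV F m, g.1 *ᵥ e = e' ∧ g.1 *ᵥ f = f' ∧
      ∀ x, B x e = 0 → B x f = 0 → B x e' = 0 → B x f' = 0 → g.1 *ᵥ x = x := by
  have hf'e' : B f' e' = -1 := by rw [B_swap, h']
  obtain ⟨g₁, g₁T, g₁e, g₁fix⟩ : ∃ g ∈ TV F m, g.1 *ᵥ e = e' ∧
      ∀ x, B x e = 0 → B x f = 0 → B x e' = 0 → B x f' = 0 → g.1 *ᵥ x = x := by
    by_cases he : B e e' = 0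
    · obtain ⟨z, hz1, hz2, hz3⟩ : ∃ z, B e z ≠ 0 ∧ B z e' ≠ 0 ∧
          ∀ x, B x f = 0 → B x f' = 0 → B x z = 0 := by
        by_cases h1 : B f e' = 0
        · by_cases h2 : B e f' = 0
          · refine ⟨f + f', ?_, ?_, fun x a b => by rw [B_add_right, a, b, add_zero]⟩
            · rw [B_add_right, h, h2, add_zero]; exact one_ne_zero
            · rw [B_add_left, h1, hf'e', zero_add]; exact neg_ne_zero.mpr one_ne_zero
          · exact ⟨f', h2, by rw [hf'e']; exact neg_ne_zero.mpr one_ne_zero, fun x _ b => b⟩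
        · exact ⟨f, by rw [h]; exact one_ne_zero, h1, fun x a _ => a⟩
      obtain ⟨a, aT, ae, afix⟩ := step hz1
      obtain ⟨b, bT, bz, bfix⟩ := step hz2
      refine ⟨b * a, mul_mem bT aT, by rw [mul_apply, ae, bz], fun x p q r s => ?_⟩
      rw [mul_apply, afix x (p.trans (hz3 x q s).symm), bfix x ((hz3 x q s).trans r.symm)]
    · obtain ⟨a, aT, ae, afix⟩ := step he
      exact ⟨a, aT, ae, fun x p _ r _ => afix x (p.trans r.symm)⟩
  set f₁ := g₁.1 *ᵥ f with hf₁
  have h₁ : B e' f₁ = 1 := by rw [hf₁, ← g₁e, B_map, h]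
  obtain ⟨g₂, g₂T, g₂e, g₂f, g₂fix⟩ : ∃ g ∈ TV F m, g.1 *ᵥ e' = e' ∧ g.1 *ᵥ f₁ = f' ∧
      ∀ x, B x e' = 0 → B x f₁ = 0 → B x f' = 0 → g.1 *ᵥ x = x := by
    by_cases hd : B f₁ f' = 0
    · obtain ⟨a, aT, af, afix⟩ := step (v := f₁) (w := f₁ + e') (by
        rw [B_add_right, B_self, zero_add, B_swap, h₁]; exact neg_ne_zero.mpr one_ne_zero)
      obtain ⟨b, bT, bf, bfix⟩ := step (v := f₁ + e') (w := f') (by
        rw [B_add_left, hd, h', zero_add]; exact one_ne_zero)
      have ha : a.1 *ᵥ e' = e' := afix e' (by rw [B_add_right, B_self, add_zero])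
      have hb : b.1 *ᵥ e' = e' := bfix e' (by rw [B_add_right, B_self, add_zero, h₁, h'])
      refine ⟨b * a, mul_mem bT aT, by rw [mul_apply, ha, hb], by rw [mul_apply, af, bf], fun x p q r => ?_⟩
      rw [mul_apply, afix x (by rw [B_add_right, p, q, add_zero]),
        bfix x (by rw [B_add_right, p, q, r, add_zero])]
    · obtain ⟨a, aT, af, afix⟩ := step hd
      exact ⟨a, aT, afix e' (h₁.trans h'.symm), af, fun x _ q r => afix x (q.trans r.symm)⟩
  refine ⟨g₂ * g₁, mul_mem g₂T g₁T, by rw [mul_apply, g₁e, g₂e], by rw [mul_apply, ← hf₁, g₂f],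
    fun x p q r s => ?_⟩
  have hx : g₁.1 *ᵥ x = x := g₁fix x p q r s
  rw [mul_apply, hx, g₂fix x r (by rw [hf₁, ← hx, B_map, q]) s]

/-- Basis vectors. -/
abbrev bas (i : Fin m ⊕ Fin m) : Vec := Pi.single i 1

theorem B_bas_inl_inr (i j : Fin m) :
    B (bas (F := F) (Sum.inr i)) (bas (Sum.inl j)) = if i = j then 1 else 0 := by
  simp [B, bas, Matrix.J, Matrix.one_apply, Matrix.fromBlocks]

theorem B_bas_inr_inl (i j : Fin m) :
    B (bas (F := F) (Sum.inl i)) (bas (Sum.inr j)) = if i = j then -1 else 0 := by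
  simp [B, bas, Matrix.J, Matrix.one_apply, Matrix.fromBlocks]
  split_ifs <;> simp

theorem B_bas_inl_inl (i j : Fin m) : B (bas (F := F) (Sum.inl i)) (bas (Sum.inl j)) = 0 := by
  simp [B, bas, Matrix.J, Matrix.fromBlocks]

theorem B_bas_inr_inr (i j : Fin m) : B (bas (F := F) (Sum.inr i)) (bas (Sum.inr j)) = 0 := by
  simp [B, bas, Matrix.J, Matrix.fromBlocks]

theorem eq_one_of_fix (g : Sp) (h : ∀ i, g.1 *ᵥ bas i = bas i) : g = 1 := by
  apply Subtype.ext
  show g.1 = 1
  ext i j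
  have := congrFun (h j) i
  rw [Matrix.mulVec_single_one] at this
  simpa [Matrix.col_apply, bas, Pi.single_apply, Matrix.one_apply] using this

theorem TV_eq_top : TV F m = ⊤ := by
  rw [eq_top_iff]
  intro g _
  suffices key : ∀ d k : ℕ, k + d = m → ∀ g : Sp,
      (∀ i : Fin m, (i : ℕ) < k → g.1 *ᵥ bas (Sum.inl i) = bas (Sum.inl i) ∧
        g.1 *ᵥ bas (Sum.inr i) = bas (Sum.inr i)) → g ∈ TV F m from
    key m 0 (zero_add m) g (fun i hi => absurd hi (Nat.not_lt_zero _))
  intro d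
  induction d with
  | zero =>
    intro k hk g hg
    rw [eq_one_of_fix g (fun i => by
      rcases i with i | i
      · exact (hg i (by omega)).1
      · exact (hg i (by omega)).2)]
    exact one_mem _
  | succ d ih =>
    intro k hk g hg
    let a : Fin m := ⟨k, by omega⟩
    have h : B (bas (F := F) (Sum.inr a)) (bas (Sum.inl a)) = 1 := by rw [B_bas_inl_inr, if_pos rfl]
    obtain ⟨t, tT, te, tf, tfix⟩ := pair (e := g.1 *ᵥ bas (Sum.inr a)) (f := g.1 *ᵥ bas (Sum.inl a))
      (e' := bas (Sum.inr a)) (f' := bas (Sum.inl a)) (by rw [B_map, h]) h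
    have := ih (k + 1) (by omega) (t * g) (fun i hi => by
      rcases Nat.lt_succ_iff_lt_or_eq.mp hi with hi | hi
      · obtain ⟨g1, g2⟩ := hg i hi
        have hne : i ≠ a := fun e => by rw [e] at hi; exact lt_irrefl _ hi
        constructor
        · rw [mul_apply, g1, tfix]
          · conv_lhs => rw [← g1]
            rw [B_map, B_bas_inr_inl, if_neg hne]
          · conv_lhs => rw [← g1]
            rw [B_map, B_bas_inl_inl]
          · rw [B_bas_inr_inl, if_neg hne]
          · rw [B_bas_inl_inl]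
        · rw [mul_apply, g2, tfix]
          · conv_lhs => rw [← g2]
            rw [B_map, B_bas_inr_inr]
          · conv_lhs => rw [← g2]
            rw [B_map, B_bas_inl_inr, if_neg hne]
          · rw [B_bas_inr_inr]
          · rw [B_bas_inl_inr, if_neg hne]
      · have : i = a := Fin.ext hi
        subst this
        exact ⟨by rw [mul_apply, tf], by rw [mul_apply, te]⟩)
    simpa using mul_mem (inv_mem tT) this

theorem conj_tv (g : Sp) (u : Vec) (c : F) : g * tv u c * g⁻¹ = tv (g.1 *ᵥ u) c := by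
  rw [mul_inv_eq_iff_eq_mul]
  apply Subtype.ext
  apply Matrix.ext_of_mulVec_single
  intro i
  rw [mul_apply, mul_apply, tv_apply, tv_apply, Matrix.mulVec_add, Matrix.mulVec_smul, B_map]

theorem tv_smul (u : Vec) (a c : F) : tv (a • u) c = tv u (a ^ 2 * c) := by
  apply Subtype.ext
  apply Matrix.ext_of_mulVec_single
  intro i
  rw [tv_apply, tv_apply, B_smul_right, smul_smul]
  congr 2
  ring

theorem tv_add (u : Vec) (c d : F) : tv u c * tv u d = tv u (c + d) := by
  apply Subtype.ext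
  apply Matrix.ext_of_mulVec_single
  intro i
  rw [mul_apply, tv_apply, tv_apply, tv_apply, B_add_left, B_smul_left, B_self, mul_zero, add_zero,
    add_assoc, ← add_smul]
  congr 2
  ring

end CfsgLib.SympGen
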