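import Mathlib
import Cfsg.Prelude.Def_ClassicalGeometry
import Cfsg.Agent.Lib.SympGen

/-! Block embeddings `Sp a × Sp b → Sp (a+b)`, stabilisers, the order of `Sp`. -/

set_option autoImplicit false

namespace CfsgLib.SympBlocks

open Matrix
open CfsgLib.SympGen (B bas B_map pair B_swap B_self B_add_right B_smul_right B_sub_left B_smul_left
  B_bas_inl_inr B_bas_inr_inl B_bas_inl_inl B_bas_inr_inr)

variable {F : Type*} [Field F] {a b : ℕ}

/-- The index split. -/
def e (a b : ℕ) : (Fin (a + b) ⊕ Fin (a + b)) ≃ (Fin a ⊕ Fin a) ⊕ (Fin b ⊕ Fin b) :=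
  (Equiv.sumCongr finSumFinEquiv.symm finSumFinEquiv.symm).trans (Equiv.sumSumSumComm _ _ _ _)

/-- The matrix in split coordinates. -/
def blk (M : Matrix (Fin (a + b) ⊕ Fin (a + b)) (Fin (a + b) ⊕ Fin (a + b)) F) :
    Matrix ((Fin a ⊕ Fin a) ⊕ (Fin b ⊕ Fin b)) ((Fin a ⊕ Fin a) ⊕ (Fin b ⊕ Fin b)) F :=
  M.submatrix (e a b).symm (e a b).symm

theorem blk_injective : Function.Injective (blk (F := F) (a := a) (b := b)) := by
  intro M N h
  ext i j
  have := congrFun (congrFun h (e a b i)) (e a b j)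
  simpa [blk] using this

theorem blk_mul (M N : Matrix (Fin (a + b) ⊕ Fin (a + b)) (Fin (a + b) ⊕ Fin (a + b)) F) :
    blk (M * N) = blk M * blk N := (Matrix.submatrix_mul_equiv M N _ _ _).symm

theorem blk_J : blk (Matrix.J (Fin (a + b)) F) =
    Matrix.fromBlocks (Matrix.J (Fin a) F) 0 0 (Matrix.J (Fin b) F) := by
  ext i j
  rcases i with (i | i) | (i | i) <;> rcases j with (j | j) | (j | j) <;>
    simp [blk, e, Matrix.J, Matrix.one_apply, Fin.ext_iff, Equiv.sumSumSumComm] <;>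
    first | omega | (intro h; omega) | skip

theorem mem_iff (M : Matrix (Fin (a + b) ⊕ Fin (a + b)) (Fin (a + b) ⊕ Fin (a + b)) F) :
    M ∈ Matrix.symplecticGroup (Fin (a + b)) F ↔
      (blk M)ᵀ * Matrix.fromBlocks (Matrix.J (Fin a) F) 0 0 (Matrix.J (Fin b) F) * blk M =
        Matrix.fromBlocks (Matrix.J (Fin a) F) 0 0 (Matrix.J (Fin b) F) := by
  rw [SymplecticGroup.mem_iff', ← blk_J, show (blk M)ᵀ = blk Mᵀ from Matrix.transpose_submatrix _ _ _,
    ← blk_mul, ← blk_mul]
  exact blk_injective.eq_iff.symm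

theorem cancel {k l : ℕ} {A : Matrix (Fin k ⊕ Fin k) (Fin k ⊕ Fin k) F}
    {X : Matrix (Fin k ⊕ Fin k) (Fin l ⊕ Fin l) F}
    (hA : Aᵀ * Matrix.J (Fin k) F * A = Matrix.J (Fin k) F) (h : Aᵀ * Matrix.J (Fin k) F * X = 0) : X = 0 := by
  have h1 : -(Matrix.J (Fin k) F * (Aᵀ * Matrix.J (Fin k) F)) * A = 1 := by
    rw [Matrix.neg_mul, Matrix.mul_assoc, hA, Matrix.J_squared, neg_neg]
  have h2 := mul_eq_one_comm.mp h1
  calc X = (A * -(Matrix.J (Fin k) F * (Aᵀ * Matrix.J (Fin k) F))) * X := by rw [h2, Matrix.one_mul]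
    _ = -(A * (Matrix.J (Fin k) F * (Aᵀ * Matrix.J (Fin k) F * X))) := by
      simp only [Matrix.mul_neg, Matrix.neg_mul, Matrix.mul_assoc]
    _ = 0 := by rw [h]; simp

/-- The block embedding. -/
def Φ (a b : ℕ) : Matrix.symplecticGroup (Fin a) F × Matrix.symplecticGroup (Fin b) F →*
    Matrix.symplecticGroup (Fin (a + b)) F where
  toFun p := ⟨(Matrix.fromBlocks p.1.1 0 0 p.2.1).submatrix (e a b) (e a b), by
    rw [mem_iff]
    have : blk ((Matrix.fromBlocks p.1.1 0 0 p.2.1).submatrix (e a b) (e a b)) =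
        Matrix.fromBlocks p.1.1 0 0 p.2.1 := by ext i j; simp [blk]
    rw [this, Matrix.fromBlocks_transpose, Matrix.fromBlocks_multiply, Matrix.fromBlocks_multiply]
    simp [SymplecticGroup.mem_iff'.mp p.1.2, SymplecticGroup.mem_iff'.mp p.2.2]⟩
  map_one' := by
    apply Subtype.ext
    show (Matrix.fromBlocks 1 0 0 1).submatrix (e a b) (e a b) = 1
    rw [Matrix.fromBlocks_one, Matrix.submatrix_one_equiv]
  map_mul' p p' := by
    apply Subtype.ext
    show (Matrix.fromBlocks (p.1.1 * p'.1.1) 0 0 (p.2.1 * p'.2.1)).submatrix (e a b) (e a b) =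
      (Matrix.fromBlocks p.1.1 0 0 p.2.1).submatrix (e a b) (e a b) *
        (Matrix.fromBlocks p'.1.1 0 0 p'.2.1).submatrix (e a b) (e a b)
    rw [Matrix.submatrix_mul_equiv]
    congr 1
    simp [Matrix.fromBlocks_multiply]

theorem blk_Φ (p : Matrix.symplecticGroup (Fin a) F × Matrix.symplecticGroup (Fin b) F) :
    blk (Φ a b p).1 = Matrix.fromBlocks p.1.1 0 0 p.2.1 := by ext i j; simp [blk, Φ]

theorem Φ_injective : Function.Injective (Φ (F := F) a b) := by
  intro p p' h
  have h' := congrArg (fun g => blk g.1) h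
  simp only [blk_Φ] at h'
  obtain ⟨h1, -, -, h2⟩ := Matrix.fromBlocks_inj.mp h'
  exact Prod.ext (Subtype.ext h1) (Subtype.ext h2)

/-- A symplectic matrix with one vanishing off-diagonal block is block diagonal. -/
theorem mem_range (g : Matrix.symplecticGroup (Fin (a + b)) F)
    (h : (blk g.1).toBlocks₂₁ = 0 ∨ (blk g.1).toBlocks₁₂ = 0) :
    ∃ p, Φ a b p = g ∧ p.1.1 = (blk g.1).toBlocks₁₁ ∧ p.2.1 = (blk g.1).toBlocks₂₂ := by
  have hM := (mem_iff g.1).mp g.2
  obtain ⟨A, X, C, D, hbl⟩ : ∃ A X C D, blk g.1 = Matrix.fromBlocks A X C D :=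
    ⟨_, _, _, _, (Matrix.fromBlocks_toBlocks _).symm⟩
  rw [hbl, Matrix.fromBlocks_transpose, Matrix.fromBlocks_multiply, Matrix.fromBlocks_multiply] at hM
  rw [hbl] at h ⊢
  simp only [Matrix.toBlocks_fromBlocks₂₁, Matrix.toBlocks_fromBlocks₁₂, Matrix.toBlocks_fromBlocks₁₁,
    Matrix.toBlocks_fromBlocks₂₂] at h ⊢
  simp only [Matrix.mul_zero, add_zero, zero_add] at hM
  obtain ⟨h11, h12, h21, h22⟩ := Matrix.fromBlocks_inj.mp hM
  have hX0 : X = 0 ∧ C = 0 := by
    rcases h with h | h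
    · subst h
      simp only [Matrix.transpose_zero, Matrix.zero_mul, add_zero] at h11 h12
      exact ⟨cancel h11 h12, rfl⟩
    · subst h
      simp only [Matrix.transpose_zero, Matrix.zero_mul, zero_add] at h21 h22
      exact ⟨rfl, cancel h22 h21⟩
  obtain ⟨rfl, rfl⟩ := hX0
  simp only [Matrix.transpose_zero, Matrix.zero_mul, zero_add, add_zero] at h11 h22
  exact ⟨(⟨A, SymplecticGroup.mem_iff'.mpr h11⟩, ⟨D, SymplecticGroup.mem_iff'.mpr h22⟩),
    Subtype.ext (blk_injective ((blk_Φ _).trans hbl.symm)), rfl, rfl⟩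

/-- The first-block coordinate subspace. -/
def W0 (F : Type*) [Field F] (a b : ℕ) : Set (Fin (a + b) ⊕ Fin (a + b) → F) :=
  {x | ∀ i, x ((e a b).symm (Sum.inr i)) = 0}

theorem Φ_apply (p : Matrix.symplecticGroup (Fin a) F × Matrix.symplecticGroup (Fin b) F)
    (x : Fin (a + b) ⊕ Fin (a + b) → F) (i : Fin b ⊕ Fin b) :
    ((Φ a b p).1 *ᵥ x) ((e a b).symm (Sum.inr i)) = (p.2.1 *ᵥ fun j => x ((e a b).symm (Sum.inr j))) i := by
  show ((Matrix.fromBlocks p.1.1 0 0 p.2.1).submatrix (e a b) (e a b) *ᵥ x) _ = _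
  rw [Matrix.submatrix_mulVec_equiv, Function.comp_apply, Equiv.apply_symm_apply, Matrix.fromBlocks_mulVec]
  simp only [Sum.elim_inr, Matrix.zero_mulVec, zero_add]
  rfl

theorem stabilizing_W0 :
    Cfsg.stabilizing (Cfsg.spToMat (a + b) F) (W0 F a b) = (Φ (F := F) a b).range := by
  ext g
  constructor
  · intro hg
    obtain ⟨p, hp, -, -⟩ := mem_range g (Or.inl (by
      ext i j
      have hmem : (Pi.single ((e a b).symm (Sum.inl j)) 1 : Fin (a + b) ⊕ Fin (a + b) → F) ∈ W0 F a b := by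
        intro i
        rw [Pi.single_eq_of_ne]
        simp
      have := (hg _).mp hmem i
      rw [show Cfsg.spToMat (a + b) F g = g.1 from rfl, Matrix.mulVec_single_one] at this
      simpa [blk, Matrix.toBlocks₂₁] using this))
    exact ⟨p, hp⟩
  · rintro ⟨p, rfl⟩
    have fwd : ∀ (p : Matrix.symplecticGroup (Fin a) F × Matrix.symplecticGroup (Fin b) F),
        ∀ x ∈ W0 F a b, (Φ a b p).1 *ᵥ x ∈ W0 F a b := by
      intro p x hx i
      rw [Φ_apply, show (fun j => x ((e a b).symm (Sum.inr j))) = 0 from funext hx, Matrix.mulVec_zero]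
      rfl
    intro v
    refine ⟨fwd p v, fun h => ?_⟩
    have := fwd p⁻¹ _ h
    rw [show Cfsg.spToMat (a + b) F (Φ a b p) = (Φ a b p).1 from rfl, ← SympGen.mul_apply, ← map_mul,
      inv_mul_cancel, map_one, SympGen.one_apply] at this
    exact this

theorem exists_frame (k m : ℕ) (hk : k ≤ m) (W : Submodule F (Fin m ⊕ Fin m → F))
    (hWk : Module.finrank F W = 2 * k) (hW : ∀ u ∈ W, (∀ v ∈ W, B u v = 0) → u = 0) :
    ∃ g : Matrix.symplecticGroup (Fin m) F, ∀ i : Fin m, (i : ℕ) < k →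
      g.1 *ᵥ bas (Sum.inr i) ∈ W ∧ g.1 *ᵥ bas (Sum.inl i) ∈ W := by
  suffices key : ∀ j, j ≤ k → ∃ g : Matrix.symplecticGroup (Fin m) F, ∀ i : Fin m, (i : ℕ) < j →
      g.1 *ᵥ bas (Sum.inr i) ∈ W ∧ g.1 *ᵥ bas (Sum.inl i) ∈ W from key k le_rfl
  intro j
  induction j with
  | zero => exact fun _ => ⟨1, fun i hi => absurd hi (Nat.not_lt_zero _)⟩
  | succ j ih =>
    intro hj
    obtain ⟨g, hg⟩ := ih (by omega)
    let ι : Fin j → Fin m := fun i => ⟨i, by omega⟩
    let E : Fin j → (Fin m ⊕ Fin m → F) := fun i => g.1 *ᵥ bas (Sum.inr (ι i))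
    let F' : Fin j → (Fin m ⊕ Fin m → F) := fun i => g.1 *ᵥ bas (Sum.inl (ι i))
    have hEW : ∀ i, E i ∈ W ∧ F' i ∈ W := fun i => hg (ι i) i.2
    have hEF : ∀ i l, B (E i) (F' l) = if i = l then 1 else 0 := fun i l => by
      rw [B_map, B_bas_inl_inr]; simp [ι, Fin.ext_iff]
    have hEE : ∀ i l, B (E i) (E l) = 0 := fun i l => by rw [B_map, B_bas_inr_inr]
    have hFF : ∀ i l, B (F' i) (F' l) = 0 := fun i l => by rw [B_map, B_bas_inl_inl]
    have hFE : ∀ i l, B (F' i) (E l) = if i = l then -1 else 0 := fun i l => by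
      rw [B_swap, hEF]; split_ifs <;> simp_all
    let L : W →ₗ[F] (Fin j ⊕ Fin j → F) :=
      { toFun := fun x => Sum.elim (fun i => B x.1 (E i)) (fun i => B x.1 (F' i))
        map_add' := fun x y => by funext i; rcases i with i | i <;> simp [SympGen.B_add_left]
        map_smul' := fun c x => by funext i; rcases i with i | i <;> simp [B_smul_left] }
    obtain ⟨u, hu, hu0⟩ : ∃ u, u ∈ LinearMap.ker L ∧ u ≠ 0 := by
      apply Submodule.exists_mem_ne_zero_of_ne_bot
      intro hbot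
      have := LinearMap.finrank_le_finrank_of_injective (LinearMap.ker_eq_bot.mp hbot)
      rw [hWk, Module.finrank_fintype_fun_eq_card, Fintype.card_sum, Fintype.card_fin] at this
      omega
    have huE : ∀ i, B u.1 (E i) = 0 := fun i => congrFun (LinearMap.mem_ker.mp hu) (Sum.inl i)
    have huF : ∀ i, B u.1 (F' i) = 0 := fun i => congrFun (LinearMap.mem_ker.mp hu) (Sum.inr i)
    obtain ⟨y, hy, hyu⟩ : ∃ y ∈ W, B u.1 y ≠ 0 := by
      by_contra h
      push Not at h
      exact hu0 (Subtype.ext (hW u.1 u.2 h))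
    set v := y - ∑ i, (B y (F' i) • E i - B y (E i) • F' i) with hv
    have hvW : v ∈ W := W.sub_mem hy (W.sum_mem fun i _ =>
      W.sub_mem (W.smul_mem _ (hEW i).1) (W.smul_mem _ (hEW i).2))
    have hsumL : ∀ (f : Fin j → Fin m ⊕ Fin m → F) (z : Fin m ⊕ Fin m → F),
        B (∑ i, f i) z = ∑ i, B (f i) z := fun f z => sum_dotProduct _ _ _
    have hvE : ∀ l, B v (E l) = 0 := fun l => by
      rw [hv, B_sub_left, hsumL, Finset.sum_eq_single l]
      · rw [B_sub_left, B_smul_left, B_smul_left, hEE, hFE, if_pos rfl]; ring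
      · intro i _ hil; rw [B_sub_left, B_smul_left, B_smul_left, hEE, hFE, if_neg hil]; ring
      · simp
    have hvF : ∀ l, B v (F' l) = 0 := fun l => by
      rw [hv, B_sub_left, hsumL, Finset.sum_eq_single l]
      · rw [B_sub_left, B_smul_left, B_smul_left, hEF, hFF, if_pos rfl]; ring
      · intro i _ hil; rw [B_sub_left, B_smul_left, B_smul_left, hEF, hFF, if_neg hil]; ring
      · simp
    have huv : B u.1 v = B u.1 y := by
      rw [hv, SympGen.B_sub_right]
      have : B u.1 (∑ i, (B y (F' i) • E i - B y (E i) • F' i)) = 0 := by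
        rw [B_swap, hsumL, neg_eq_zero]
        refine Finset.sum_eq_zero fun i _ => ?_
        rw [B_sub_left, B_smul_left, B_smul_left, B_swap (E i), huE, B_swap (F' i), huF]
        ring
      rw [this, sub_zero]
    let u₀ := (g⁻¹).1 *ᵥ u.1
    let v₀ := (g⁻¹).1 *ᵥ ((B u.1 v)⁻¹ • v)
    have gu : g.1 *ᵥ u₀ = u.1 := by
      show g.1 *ᵥ ((g⁻¹).1 *ᵥ u.1) = u.1
      rw [← SympGen.mul_apply, mul_inv_cancel, SympGen.one_apply]
    have gv : g.1 *ᵥ v₀ = (B u.1 v)⁻¹ • v := by
      show g.1 *ᵥ ((g⁻¹).1 *ᵥ _) = _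
      rw [← SympGen.mul_apply, mul_inv_cancel, SympGen.one_apply]
    let a : Fin m := ⟨j, by omega⟩
    obtain ⟨h, -, he, hf, hfix⟩ := pair (e := bas (Sum.inr a)) (f := bas (Sum.inl a)) (e' := u₀) (f' := v₀)
      (by rw [B_bas_inl_inr, if_pos rfl])
      (by rw [← B_map g, gu, gv, B_smul_right, inv_mul_cancel₀ (huv ▸ hyu)])
    refine ⟨g * h, fun i hi => ?_⟩
    rcases Nat.lt_succ_iff_lt_or_eq.mp hi with hi' | hi'
    · have hne : i ≠ a := fun hh => by rw [hh] at hi'; exact lt_irrefl _ hi'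
      have hι : i = ι ⟨i, hi'⟩ := rfl
      constructor
      · rw [SympGen.mul_apply, hfix]
        · exact (hg i hi').1
        · rw [B_bas_inr_inr]
        · rw [B_bas_inl_inr, if_neg hne]
        · rw [← B_map g, gu, hι, B_swap]; exact neg_eq_zero.mpr (huE _)
        · rw [← B_map g, gv, hι, B_smul_right]
          refine mul_eq_zero_of_right _ ?_
          rw [B_swap]
          exact neg_eq_zero.mpr (hvE _)
      · rw [SympGen.mul_apply, hfix]
        · exact (hg i hi').2
        · rw [B_bas_inr_inl, if_neg hne]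
        · rw [B_bas_inl_inl]
        · rw [← B_map g, gu, hι, B_swap]; exact neg_eq_zero.mpr (huF _)
        · rw [← B_map g, gv, hι, B_smul_right]
          refine mul_eq_zero_of_right _ ?_
          rw [B_swap]
          exact neg_eq_zero.mpr (hvF _)
    · have : i = a := Fin.ext hi'
      subst this
      constructor
      · rw [SympGen.mul_apply, he, gu]; exact u.2
      · rw [SympGen.mul_apply, hf, gv]; exact W.smul_mem _ hvW

/-- Stabiliser of a non-degenerate subspace. -/
theorem stabilizing_equiv (k b : ℕ) (W : Submodule F (Fin (k + b) ⊕ Fin (k + b) → F))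
    (hWk : Module.finrank F W = 2 * k) (hW : ∀ u ∈ W, (∀ v ∈ W, B u v = 0) → u = 0) :
    Nonempty (↥(Cfsg.stabilizing (Cfsg.spToMat (k + b) F) (W : Set (Fin (k + b) ⊕ Fin (k + b) → F))) ≃*
      Matrix.symplecticGroup (Fin k) F × Matrix.symplecticGroup (Fin b) F) := by
  obtain ⟨g, hg⟩ := exists_frame k (k + b) (by omega) W hWk hW
  let c : Fin k ⊕ Fin k → (Fin (k + b) ⊕ Fin (k + b) → F) := fun i => bas ((e k b).symm (Sum.inl i))
  have hdec : ∀ x ∈ W0 F k b, x = ∑ i, x ((e k b).symm (Sum.inl i)) • c i := by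
    intro x hx
    funext r
    simp only [Finset.sum_apply, Pi.smul_apply, c, bas, smul_eq_mul, Pi.single_apply]
    obtain ⟨r, rfl⟩ := (e k b).symm.surjective r
    rcases r with r | r
    · rw [Finset.sum_eq_single r] <;> simp +contextual [eq_comm]
    · rw [hx r]; symm; exact Finset.sum_eq_zero fun i _ => by simp
  have hcW : ∀ i, g.1 *ᵥ c i ∈ W := by
    rintro (i | i)
    · have : (e k b).symm (Sum.inl (Sum.inl i)) = Sum.inl (Fin.castAdd b i) := by simp [e, Equiv.sumSumSumComm]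
      show g.1 *ᵥ bas _ ∈ W
      rw [this]; exact (hg _ (by simp)).2
    · have : (e k b).symm (Sum.inl (Sum.inr i)) = Sum.inr (Fin.castAdd b i) := by simp [e, Equiv.sumSumSumComm]
      show g.1 *ᵥ bas _ ∈ W
      rw [this]; exact (hg _ (by simp)).1
  have hin : ∀ x ∈ W0 F k b, g.1 *ᵥ x ∈ W := by
    intro x hx
    rw [hdec x hx, Matrix.mulVec_sum]
    exact W.sum_mem fun i _ => by rw [Matrix.mulVec_smul]; exact W.smul_mem _ (hcW i)
  have hout : ∀ z ∈ W, (g⁻¹).1 *ᵥ z ∈ W0 F k b := by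
    let W0' : Submodule F (Fin (k + b) ⊕ Fin (k + b) → F) := Submodule.span F (Set.range c)
    have hli : LinearIndependent F c :=
      (Pi.linearIndependent_single_one (Fin (k + b) ⊕ Fin (k + b)) F).comp _
        ((e k b).symm.injective.comp Sum.inl_injective)
    have hinj : Function.Injective (Matrix.toLin' g.1) := fun x y h => by
      have := congrArg (fun z => (g⁻¹).1 *ᵥ z) h
      simp only [Matrix.toLin'_apply, ← SympGen.mul_apply, inv_mul_cancel, SympGen.one_apply] at this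
      exact this
    have hfr : Module.finrank F (W0'.map (Matrix.toLin' g.1)) = 2 * k := by
      rw [← LinearEquiv.finrank_eq (Submodule.equivMapOfInjective _ hinj W0'), finrank_span_eq_card hli,
        Fintype.card_sum, Fintype.card_fin]
      omega
    have heq : W0'.map (Matrix.toLin' g.1) = W := by
      refine Submodule.eq_of_le_of_finrank_eq ?_ (hfr.trans hWk.symm)
      rw [Submodule.map_span, Submodule.span_le]
      rintro _ ⟨_, ⟨i, rfl⟩, rfl⟩
      exact hcW i
    intro z hz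
    rw [← heq] at hz
    obtain ⟨x, hx, rfl⟩ := hz
    rw [Matrix.toLin'_apply, ← SympGen.mul_apply, inv_mul_cancel, SympGen.one_apply]
    intro i
    induction hx using Submodule.span_induction with
    | mem y hy => obtain ⟨l, rfl⟩ := hy; simp [c, bas]
    | zero => rfl
    | add y y' _ _ h h' => simp [h, h']
    | smul r y _ h => simp [h]
  have hiff : ∀ z, z ∈ W ↔ (g⁻¹).1 *ᵥ z ∈ W0 F k b := fun z => ⟨hout z, fun h => by
    have := hin _ h
    rwa [← SympGen.mul_apply, mul_inv_cancel, SympGen.one_apply] at this⟩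
  have hstab : Cfsg.stabilizing (Cfsg.spToMat (k + b) F) (W : Set (Fin (k + b) ⊕ Fin (k + b) → F)) =
      (Φ (F := F) k b).range.map (MulAut.conj g).toMonoidHom := by
    rw [← stabilizing_W0]
    ext x
    rw [Subgroup.mem_map]
    constructor
    · intro hx
      refine ⟨g⁻¹ * x * g, fun v => ?_, by simp [MulAut.conj_apply]; group⟩
      show v ∈ W0 F k b ↔ (g⁻¹ * x * g).1 *ᵥ v ∈ W0 F k b
      have h' : g.1 *ᵥ v ∈ W ↔ x.1 *ᵥ (g.1 *ᵥ v) ∈ W := hx (g.1 *ᵥ v)
      rw [SympGen.mul_apply, SympGen.mul_apply, ← hiff, ← h', hiff, ← SympGen.mul_apply, inv_mul_cancel,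
        SympGen.one_apply]
    · rintro ⟨y, hy, rfl⟩ v
      show v ∈ W ↔ ((MulAut.conj g) y).1 *ᵥ v ∈ W
      rw [MulAut.conj_apply, hiff, hiff, SympGen.mul_apply, SympGen.mul_apply, hy ((g⁻¹).1 *ᵥ v),
        ← SympGen.mul_apply g⁻¹ g, inv_mul_cancel, SympGen.one_apply]
      rfl
  exact ⟨((MulEquiv.subgroupCongr hstab).trans
    ((Φ (F := F) k b).range.equivMapOfInjective _ (MulEquiv.injective (MulAut.conj g))).symm).trans
      (MonoidHom.ofInjective Φ_injective).symm⟩

/-! ### The order -/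

theorem card_step [Fintype F] (n : ℕ) :
    Nat.card (Matrix.symplecticGroup (Fin (n + 1)) F) =
      (Fintype.card F ^ (2 * (n + 1)) - 1) * Fintype.card F ^ (2 * n + 1) *
        Nat.card (Matrix.symplecticGroup (Fin n) F) := by
  classical
  let a : Fin (n + 1) := Fin.natAdd n 0
  let E : Fin (n + 1) ⊕ Fin (n + 1) → F := bas (Sum.inr a)
  let G : Fin (n + 1) ⊕ Fin (n + 1) → F := bas (Sum.inl a)
  have hEG : B E G = 1 := by show B (bas _) (bas _) = 1; rw [B_bas_inl_inr, if_pos rfl]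
  let X := {p : (Fin (n + 1) ⊕ Fin (n + 1) → F) × (Fin (n + 1) ⊕ Fin (n + 1) → F) // B p.1 p.2 = 1}
  have hs : ∀ x : X, ∃ g : Matrix.symplecticGroup (Fin (n + 1)) F, g.1 *ᵥ E = x.1.1 ∧ g.1 *ᵥ G = x.1.2 := by
    intro x
    obtain ⟨g, -, h1, h2, -⟩ := pair hEG x.2
    exact ⟨g, h1, h2⟩
  choose s hs1 hs2 using hs
  have hfix : ∀ A : Matrix.symplecticGroup (Fin n) F,
      (Φ n 1 (A, 1)).1 *ᵥ E = E ∧ (Φ n 1 (A, 1)).1 *ᵥ G = G := by
    intro A
    have key : ∀ j : Fin 1 ⊕ Fin 1, (Φ n 1 (A, 1)).1 *ᵥ (bas ((e n 1).symm (Sum.inr j))) =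
        (bas ((e n 1).symm (Sum.inr j)) : _ → F) := by
      intro j
      funext r
      obtain ⟨r, rfl⟩ := (e n 1).symm.surjective r
      rw [Matrix.mulVec_single_one]
      simp only [Matrix.col_apply]
      have := congrFun (congrFun (blk_Φ (F := F) (A, (1 : Matrix.symplecticGroup (Fin 1) F))) r) (Sum.inr j)
      simp only [blk, Matrix.submatrix_apply] at this
      rw [this]
      rcases r with r | r <;> simp [bas, Pi.single_apply, Matrix.one_apply]
    have e1 : (e n 1).symm (Sum.inr (Sum.inr 0)) = Sum.inr a := by simp [e, Equiv.sumSumSumComm, a]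
    have e2 : (e n 1).symm (Sum.inr (Sum.inl 0)) = Sum.inl a := by simp [e, Equiv.sumSumSumComm, a]
    constructor
    · have := key (Sum.inr 0); rwa [e1] at this
    · have := key (Sum.inl 0); rwa [e2] at this
  let f : X × Matrix.symplecticGroup (Fin n) F → Matrix.symplecticGroup (Fin (n + 1)) F :=
    fun p => s p.1 * Φ n 1 (p.2, 1)
  have hf : Function.Bijective f := by
    constructor
    · rintro ⟨x, A⟩ ⟨y, A'⟩ h
      have h1 := congrArg (fun g : Matrix.symplecticGroup (Fin (n + 1)) F => (g.1 *ᵥ E, g.1 *ᵥ G)) h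
      simp only [f, SympGen.mul_apply, (hfix A).1, (hfix A).2, (hfix A').1, (hfix A').2, hs1, hs2] at h1
      have hxy : x = y := Subtype.ext h1
      subst hxy
      have := Φ_injective (mul_left_cancel h)
      simp only [Prod.mk.injEq, and_true] at this
      rw [this]
    · intro g
      let x : X := ⟨(g.1 *ᵥ E, g.1 *ᵥ G), by show B _ _ = 1; rw [B_map, hEG]⟩
      set h := (s x)⁻¹ * g with hh
      have hE : h.1 *ᵥ E = E := by
        rw [hh, SympGen.mul_apply, show g.1 *ᵥ E = (s x).1 *ᵥ E from (hs1 x).symm, ← SympGen.mul_apply,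
          inv_mul_cancel, SympGen.one_apply]
      have hG : h.1 *ᵥ G = G := by
        rw [hh, SympGen.mul_apply, show g.1 *ᵥ G = (s x).1 *ᵥ G from (hs2 x).symm, ← SympGen.mul_apply,
          inv_mul_cancel, SympGen.one_apply]
      have e1 : (e n 1).symm (Sum.inr (Sum.inr 0)) = Sum.inr a := by simp [e, Equiv.sumSumSumComm, a]
      have e2 : (e n 1).symm (Sum.inr (Sum.inl 0)) = Sum.inl a := by simp [e, Equiv.sumSumSumComm, a]
      have hcol : ∀ (r : (Fin n ⊕ Fin n) ⊕ (Fin 1 ⊕ Fin 1)) (j : Fin 1 ⊕ Fin 1),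
          blk h.1 r (Sum.inr j) = if r = Sum.inr j then 1 else 0 := by
        intro r j
        have hj : h.1 *ᵥ bas ((e n 1).symm (Sum.inr j)) = bas ((e n 1).symm (Sum.inr j)) := by
          rcases j with j | j <;> rw [Subsingleton.elim j 0]
          · rw [e2]; exact hG
          · rw [e1]; exact hE
        have := congrFun hj ((e n 1).symm r)
        rw [Matrix.mulVec_single_one, Matrix.col_apply] at this
        rw [blk, Matrix.submatrix_apply, this, bas, Pi.single_apply]
        simp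
      obtain ⟨⟨A, D⟩, hp, -, hD⟩ := mem_range h (Or.inr (by
        ext i j; simp [Matrix.toBlocks₁₂, hcol]))
      have hD1 : D = 1 := by
        apply Subtype.ext
        show D.1 = 1
        rw [hD]
        ext i j
        simp [Matrix.toBlocks₂₂, hcol, Matrix.one_apply]
      refine ⟨(x, A), ?_⟩
      show s x * Φ n 1 (A, 1) = g
      rw [← hD1, hp, hh, mul_inv_cancel_left]
  rw [← Nat.card_eq_of_bijective f hf, Nat.card_prod]
  congr 1
  let Y := {u : Fin (n + 1) ⊕ Fin (n + 1) → F // u ≠ 0}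
  let eX : X ≃ Σ u : Y, {v : Fin (n + 1) ⊕ Fin (n + 1) → F // B u.1 v = 1} :=
    { toFun := fun p => ⟨⟨p.1.1, fun h => by
          have := p.2; rw [h] at this; simp [B] at this⟩, ⟨p.1.2, p.2⟩⟩
      invFun := fun s => ⟨(s.1.1, s.2.1), s.2.2⟩
      left_inv := fun p => rfl
      right_inv := fun s => rfl }
  rw [Nat.card_congr eX, Nat.card_sigma]
  have hfib : ∀ u : Y, Nat.card {v : Fin (n + 1) ⊕ Fin (n + 1) → F // B u.1 v = 1} =
      Fintype.card F ^ (2 * n + 1) := by
    intro u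
    let φ : (Fin (n + 1) ⊕ Fin (n + 1) → F) →ₗ[F] F :=
      { toFun := fun v => B u.1 v
        map_add' := fun v w => B_add_right _ _ _
        map_smul' := fun c v => by simp [B_smul_right] }
    obtain ⟨z, hz⟩ := SympTransvection.exists_dot_ne u.2
    have hz' : B u.1 z ≠ 0 := by rw [B_swap]; exact neg_ne_zero.mpr hz
    let v₀ := (B u.1 z)⁻¹ • z
    have hv₀ : φ v₀ = 1 := by show B u.1 _ = 1; rw [B_smul_right, inv_mul_cancel₀ hz']
    let eK : {v : Fin (n + 1) ⊕ Fin (n + 1) → F // B u.1 v = 1} ≃ LinearMap.ker φ :=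
      { toFun := fun v => ⟨v.1 - v₀, by
          rw [LinearMap.mem_ker, map_sub, hv₀]; exact sub_eq_zero.mpr v.2⟩
        invFun := fun w => ⟨w.1 + v₀, by
          show φ _ = 1; rw [map_add, hv₀, LinearMap.mem_ker.mp w.2, zero_add]⟩
        left_inv := fun v => Subtype.ext (sub_add_cancel _ _)
        right_inv := fun w => Subtype.ext (add_sub_cancel_right _ _) }
    have hsurj : Function.Surjective φ := fun c => ⟨c • v₀, by rw [map_smul, hv₀, smul_eq_mul, mul_one]⟩
    have hrank := LinearMap.finrank_range_add_finrank_ker φ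
    rw [LinearMap.range_eq_top.mpr hsurj, finrank_top, Module.finrank_self,
      Module.finrank_fintype_fun_eq_card, Fintype.card_sum, Fintype.card_fin] at hrank
    rw [Nat.card_congr eK, Nat.card_eq_fintype_card, Module.card_eq_pow_finrank (K := F)]
    congr 1
    omega
  rw [Finset.sum_congr rfl fun u _ => hfib u, Finset.sum_const, Finset.card_univ, smul_eq_mul]
  congr 1
  rw [Fintype.card_subtype_compl, Fintype.card_subtype_eq, Fintype.card_fun, Fintype.card_sum, Fintype.card_fin]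
  congr 2
  omega

end CfsgLib.SympBlocks
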