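import Mathlib
import Cfsg.Prelude.Def_ClassicalGeometry
import Cfsg.Agent.Lib.SympGen

/-! Perfectness of `Sp`, primitivity on projective space, simplicity of `PSp`. -/

set_option autoImplicit false

namespace CfsgLib.SympSimple

open Matrix MulAction
open CfsgLib.SympTransvection (tv exists_dot_ne transitive scalar_of_central)
open CfsgLib.SympGen
open scoped commutatorElement LinearAlgebra.Projectivization

variable {F : Type*} [Field F] {m : ℕ}

local notation "Vec" => (Fin m ⊕ Fin m → F)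
local notation "Sp" => Matrix.symplecticGroup (Fin m) F

theorem ext_apply {g h : Sp} (e : ∀ x, g.1 *ᵥ x = h.1 *ᵥ x) : g = h :=
  Subtype.ext (Matrix.ext_of_mulVec_single fun _ => e _)

theorem tv_zero (u : Vec) : tv u (0 : F) = 1 :=
  ext_apply fun x => by rw [tv_apply, zero_mul, zero_smul, add_zero, SympGen.one_apply]

theorem tv_zero_vec (c : F) : tv (0 : Vec) c = 1 :=
  ext_apply fun x => by rw [tv_apply, smul_zero, add_zero, SympGen.one_apply]

theorem tv_inv (u : Vec) (c : F) : (tv u c)⁻¹ = tv u (-c) :=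
  inv_eq_of_mul_eq_one_right (by rw [tv_add, add_neg_cancel, tv_zero])

/-- The transvection group of a vector. -/
def tvHom (u : Vec) : Multiplicative F →* Sp where
  toFun c := tv u c.toAdd
  map_one' := tv_zero u
  map_mul' c d := (tv_add u c.toAdd d.toAdd).symm

theorem comm_tv (g : Sp) (u : Vec) (c : F) : ⁅g, tv u c⁆ = tv (g.1 *ᵥ u) c * tv u (-c) := by
  rw [commutatorElement_def, conj_tv, tv_inv]

/-- The element `x ↦ x + B(x,p)q + B(x,q)p`. -/
def shear (p q : Vec) : Sp := tv (p + q) 1 * tv p (-1) * tv q (-1)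

theorem shear_apply {p q : Vec} (h : B p q = 0) (x : Vec) :
    (shear p q).1 *ᵥ x = x + B x p • q + B x q • p := by
  have h' : B q p = 0 := by rw [B_swap, h, neg_zero]
  simp only [shear, SympGen.mul_apply, tv_apply, B_add_left, B_add_right, B_smul_left, B_self, h, h']
  module

theorem mem_commutator (g h : Sp) : ⁅g, h⁆ ∈ commutator Sp :=
  Subgroup.commutator_mem_commutator (Subgroup.mem_top g) (Subgroup.mem_top h)

theorem tv_mem_of_sq {a : F} (ha : a ≠ 0) (ha2 : a ^ 2 ≠ 1) (u : Vec) (c : F) :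
    tv u c ∈ commutator Sp := by
  by_cases hu : u = 0
  · rw [hu, tv_zero_vec]; exact one_mem _
  obtain ⟨g, hg⟩ := transitive hu (smul_ne_zero ha hu : a • u ≠ 0)
  have h := mem_commutator g (tv u (c / (a ^ 2 - 1)))
  rw [comm_tv, hg, tv_smul, tv_add] at h
  convert h using 2
  field_simp [sub_ne_zero_of_ne ha2]
  ring

theorem tv_mem_of_one {e : Vec} (he : e ≠ 0) (h : ∀ c : F, tv e c ∈ commutator Sp) (u : Vec) (c : F) :
    tv u c ∈ commutator Sp := by
  by_cases hu : u = 0
  · rw [hu, tv_zero_vec]; exact one_mem _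
  obtain ⟨g, hg⟩ := transitive he hu
  rw [← hg, ← conj_tv]
  exact (inferInstance : (commutator Sp).Normal).conj_mem _ (h c) g

theorem tv_mem_of_odd (hm : 2 ≤ m) (h2 : (2 : F) ≠ 0) (u : Vec) (c : F) : tv u c ∈ commutator Sp := by
  let i0 : Fin m := ⟨0, by omega⟩
  let i1 : Fin m := ⟨1, by omega⟩
  have h01 : i0 ≠ i1 := by simp [i0, i1]
  refine tv_mem_of_one (e := bas (Sum.inr i0)) (by simp [bas]) (fun c => ?_) u c
  set e : Vec := bas (Sum.inr i0) with he
  set v : Vec := bas (Sum.inr i1) with hv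
  set p : Vec := bas (Sum.inl i1) with hp
  have hev : B e v = 0 := B_bas_inr_inr _ _
  have hve : B v e = 0 := B_bas_inr_inr _ _
  have hvp : B v p = 1 := by rw [hv, hp, B_bas_inl_inr, if_pos rfl]
  have hep : B e p = 0 := by rw [he, hp, B_bas_inl_inr, if_neg h01]
  have key : ∀ t : F, tv (v + t • e) (c / 2) * tv v (-(c / 2)) ∈ commutator Sp := by
    intro t
    have h := mem_commutator (shear p (t • e)) (tv v (c / 2))
    rwa [comm_tv, shear_apply (by rw [B_smul_right, B_swap, hep, neg_zero, mul_zero]), hvp, one_smul,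
      B_smul_right, hve, mul_zero, zero_smul, add_zero] at h
  have := mul_mem (key 1) (key (-1))
  convert this using 1
  apply ext_apply
  intro x
  simp only [SympGen.mul_apply, tv_apply, B_add_left, B_add_right, B_smul_left, B_smul_right, B_self, hev, hve]
  match_scalars <;> field_simp <;> ring

theorem tv_mem_of_three (hm : 3 ≤ m) (u : Vec) (c : F) : tv u c ∈ commutator Sp := by
  let i0 : Fin m := ⟨0, by omega⟩
  let i1 : Fin m := ⟨1, by omega⟩
  let i2 : Fin m := ⟨2, by omega⟩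
  have h01 : i0 ≠ i1 := by simp [i0, i1]
  have h02 : i0 ≠ i2 := by simp [i0, i2]
  have h12 : i1 ≠ i2 := by simp [i1, i2]
  refine tv_mem_of_one (e := bas (Sum.inr i0)) (by simp [bas]) (fun c => ?_) u c
  set e : Vec := bas (Sum.inr i0) with he
  set v : Vec := bas (Sum.inr i1) with hv
  set w : Vec := bas (Sum.inr i2) with hw
  set p : Vec := bas (Sum.inl i2) with hp
  set p' : Vec := bas (Sum.inl i1) with hp'
  have hev : B e v = 0 := B_bas_inr_inr _ _
  have hve : B v e = 0 := B_bas_inr_inr _ _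
  have hew : B e w = 0 := B_bas_inr_inr _ _
  have hwe : B w e = 0 := B_bas_inr_inr _ _
  have hvw : B v w = 0 := B_bas_inr_inr _ _
  have hwv : B w v = 0 := B_bas_inr_inr _ _
  have hwp : B w p = 1 := by rw [hw, hp, B_bas_inl_inr, if_pos rfl]
  have hep : B e p = 0 := by rw [he, hp, B_bas_inl_inr, if_neg h02]
  have hvp : B v p = 0 := by rw [hv, hp, B_bas_inl_inr, if_neg h12]
  have hvp' : B v p' = 1 := by rw [hv, hp', B_bas_inl_inr, if_pos rfl]
  have hep' : B e p' = 0 := by rw [he, hp', B_bas_inl_inr, if_neg h01]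
  set g := shear p v with hg
  have hpv : B p v = 0 := by rw [B_swap, hvp, neg_zero]
  have g_e : g.1 *ᵥ e = e := by rw [hg, shear_apply hpv, hep, hev, zero_smul, zero_smul, add_zero, add_zero]
  have g_w : g.1 *ᵥ w = w + v := by rw [hg, shear_apply hpv, hwp, hwv, one_smul, zero_smul, add_zero]
  have g_ew : g.1 *ᵥ (e + w) = e + w + v := by rw [Matrix.mulVec_add, g_e, g_w, add_assoc]
  have h1 := mem_commutator g (tv (e + w) (-c) * (tv e c * tv w c))
  rw [commutatorElement_def, show g * (tv (e + w) (-c) * (tv e c * tv w c)) * g⁻¹ =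
      g * tv (e + w) (-c) * g⁻¹ * ((g * tv e c * g⁻¹) * (g * tv w c * g⁻¹)) by group,
    conj_tv, conj_tv, conj_tv, g_e, g_w, g_ew, _root_.mul_inv_rev, _root_.mul_inv_rev, tv_inv, tv_inv,
    tv_inv, neg_neg] at h1
  have h2 := mem_commutator (shear p' e) (tv v c)
  rw [comm_tv, shear_apply (by rw [B_swap, hep', neg_zero]), hvp', one_smul, hve, zero_smul, add_zero] at h2
  convert mul_mem h2 h1 using 1
  apply ext_apply
  intro x
  simp only [SympGen.mul_apply, tv_apply, B_add_left, B_add_right, B_smul_left, B_self, hev, hve, hew,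
    hwe, hvw, hwv]
  match_scalars <;> ring

theorem perfect (h : (∃ a : F, a ≠ 0 ∧ a ^ 2 ≠ 1) ∨ (2 ≤ m ∧ (2 : F) ≠ 0) ∨ 3 ≤ m) :
    commutator Sp = ⊤ := by
  rw [eq_top_iff, ← TV_eq_top, TV, Subgroup.closure_le]
  rintro A ⟨w, c, hA⟩
  have : A = tv w c := Subtype.ext hA
  rw [this]
  rcases h with ⟨a, ha, ha2⟩ | ⟨hm, h2⟩ | hm
  · exact tv_mem_of_sq ha ha2 w c
  · exact tv_mem_of_odd hm h2 w c
  · exact tv_mem_of_three hm w c

theorem field_cond [Fintype F] (h : 4 ≤ Fintype.card F) : ∃ a : F, a ≠ 0 ∧ a ^ 2 ≠ 1 := by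
  classical
  by_contra hc
  push Not at hc
  have hsub : (Finset.univ : Finset F) ⊆ {0, 1, -1} := by
    intro a _
    by_cases ha : a = 0
    · simp [ha]
    · rcases sq_eq_one_iff.mp (hc a ha) with h | h <;> simp [h]
  have h1 := (Finset.card_le_card hsub).trans Finset.card_le_three
  rw [Finset.card_univ] at h1
  omega

theorem perfect_fintype [Fintype F] (h : 3 ≤ m ∨ (m = 2 ∧ 3 ≤ Fintype.card F) ∨ 4 ≤ Fintype.card F) :
    commutator Sp = ⊤ := by
  apply perfect
  by_cases h4 : 4 ≤ Fintype.card F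
  · exact Or.inl (field_cond h4)
  · rcases h with h | ⟨hm, h3⟩ | h
    · exact Or.inr (Or.inr h)
    · refine Or.inr (Or.inl ⟨hm.ge, fun h2 => ?_⟩)
      have : ringChar F = 2 := CharP.ringChar_of_prime_eq_zero Nat.prime_two (by exact_mod_cast h2)
      have := FiniteField.even_card_of_char_two this
      omega
    · exact absurd h h4

/-! ### Projective space -/

/-- A common non-orthogonal vector. -/
theorem exists_both {v w : Vec} (hv : v ≠ 0) (hw : w ≠ 0) : ∃ z, B z v ≠ 0 ∧ B z w ≠ 0 := by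
  obtain ⟨z₁, h₁⟩ := exists_dot_ne hv
  obtain ⟨z₂, h₂⟩ := exists_dot_ne hw
  by_cases h₁' : B z₁ w = 0
  · by_cases h₂' : B z₂ v = 0
    · exact ⟨z₁ + z₂, by rw [B_add_left, h₂', add_zero]; exact h₁, by rw [B_add_left, h₁', zero_add]; exact h₂⟩
    · exact ⟨z₂, h₂', h₂⟩
  · exact ⟨z₁, h₁, h₁'⟩

theorem exists_perp_ne {v w : Vec} (hv : v ≠ 0) (hind : ∀ c : F, w ≠ c • v) :
    ∃ z, B z v = 0 ∧ B z w ≠ 0 := by
  obtain ⟨y, hy⟩ := exists_dot_ne hv
  have hne : w - (B y w / B y v) • v ≠ 0 := sub_ne_zero.mpr (hind _)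
  obtain ⟨x, hx⟩ := exists_dot_ne hne
  change B x (w - (B y w / B y v) • v) ≠ 0 at hx
  refine ⟨x - (B x v / B y v) • y, ?_, ?_⟩
  · have : B y v ≠ 0 := hy
    rw [B_sub_left, B_smul_left, div_mul_cancel₀ _ this, sub_self]
  · rw [B_sub_left, B_smul_left]
    rw [B_sub_right, B_smul_right] at hx
    intro h
    apply hx
    rw [← h]
    ring

theorem stab_perp {v w w' : Vec} (hv : v ≠ 0) (h : B v w = 0) (h' : B v w' = 0)
    (hw : ∀ c : F, w ≠ c • v) (hw' : ∀ c : F, w' ≠ c • v) :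
    ∃ g : Sp, g.1 *ᵥ v = v ∧ g.1 *ᵥ w = w' := by
  by_cases hd : B w w' = 0
  · obtain ⟨z₁, a₁, b₁⟩ := exists_perp_ne hv hw
    obtain ⟨z₂, a₂, b₂⟩ := exists_perp_ne hv hw'
    obtain ⟨z, hz, hzw, hzw'⟩ : ∃ z, B z v = 0 ∧ B z w ≠ 0 ∧ B z w' ≠ 0 := by
      by_cases c₁ : B z₁ w' = 0
      · by_cases c₂ : B z₂ w = 0
        · exact ⟨z₁ + z₂, by rw [B_add_left, a₁, a₂, add_zero], by rw [B_add_left, c₂, add_zero]; exact b₁,
            by rw [B_add_left, c₁, zero_add]; exact b₂⟩
        · exact ⟨z₂, a₂, c₂, b₂⟩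
      · exact ⟨z₁, a₁, b₁, c₁⟩
    obtain ⟨a, -, ae, afix⟩ := step (v := w) (w := z) (by rw [B_swap]; exact neg_ne_zero.mpr hzw)
    obtain ⟨b, -, bz, bfix⟩ := step (v := z) (w := w') hzw'
    have hvz : B v z = 0 := by rw [B_swap, hz, neg_zero]
    exact ⟨b * a, by rw [SympGen.mul_apply, afix v (h.trans hvz.symm), bfix v (hvz.trans h'.symm)],
      by rw [SympGen.mul_apply, ae, bz]⟩
  · obtain ⟨a, -, ae, afix⟩ := step hd
    exact ⟨a, afix v (h.trans h'.symm), ae⟩

theorem stab_nonperp {v w w' : Vec} (h : B v w ≠ 0) (h' : B v w' ≠ 0) :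
    ∃ (g : Sp) (a : F), a ≠ 0 ∧ g.1 *ᵥ v = v ∧ g.1 *ᵥ w = a • w' := by
  obtain ⟨g, -, gv, gw, -⟩ := pair (e := v) (f := (B v w)⁻¹ • w) (e' := v) (f' := (B v w')⁻¹ • w')
    (by rw [B_smul_right, inv_mul_cancel₀ h]) (by rw [B_smul_right, inv_mul_cancel₀ h'])
  refine ⟨g, B v w * (B v w')⁻¹, mul_ne_zero h (inv_ne_zero h'), gv, ?_⟩
  have := congrArg (fun x => B v w • x) gw
  simp only [Matrix.mulVec_smul, smul_smul] at this
  rwa [mul_inv_cancel₀ h, one_smul] at this

/-- `Sp` as a subgroup of `GL`. -/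
def toSpGL : Sp →* Cfsg.spGL m F where
  toFun g := ⟨⟨g.1, (g⁻¹).1, congrArg Subtype.val (mul_inv_cancel g), congrArg Subtype.val (inv_mul_cancel g)⟩,
    fun u v => B_map g u v⟩
  map_one' := Subtype.ext (Units.ext rfl)
  map_mul' _ _ := Subtype.ext (Units.ext rfl)

theorem toSpGL_coe (g : Sp) : (toSpGL g).1.1 = g.1 := rfl

theorem toSpGL_surjective : Function.Surjective (toSpGL (F := F) (m := m)) := by
  intro x
  have hmem : x.1.1 ∈ Matrix.symplecticGroup (Fin m) F := by
    rw [SymplecticGroup.mem_iff']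
    ext a b
    have h := x.2 (Pi.single a 1) (Pi.single b 1)
    change x.1.1 *ᵥ Pi.single a 1 ⬝ᵥ Matrix.J (Fin m) F *ᵥ (x.1.1 *ᵥ Pi.single b 1) =
      Pi.single a 1 ⬝ᵥ Matrix.J (Fin m) F *ᵥ Pi.single b 1 at h
    rw [Matrix.mulVec_mulVec, ← Matrix.vecMul_transpose, ← dotProduct_mulVec, Matrix.mulVec_mulVec,
      single_one_dotProduct, single_one_dotProduct, Matrix.mulVec_single_one, Matrix.mulVec_single_one,
      ← Matrix.mul_assoc] at h
    simpa [Matrix.col_apply] using h
  exact ⟨⟨x.1.1, hmem⟩, Subtype.ext (Units.ext rfl)⟩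

theorem smul_mk' (g : Sp) {v : Vec} (hv : v ≠ 0) (hgv : g.1 *ᵥ v ≠ 0) :
    toSpGL g • Projectivization.mk F v hv = Projectivization.mk F (g.1 *ᵥ v) hgv := rfl

theorem mulVec_ne_zero (g : Sp) {v : Vec} (hv : v ≠ 0) : g.1 *ᵥ v ≠ 0 := by
  intro h
  apply hv
  have : (g⁻¹ * g).1 *ᵥ v = 0 := by rw [SympGen.mul_apply, h, Matrix.mulVec_zero]
  rwa [inv_mul_cancel, SympGen.one_apply] at this

theorem block_step {S : Set (ℙ F Vec)} (hS : IsBlock (Cfsg.spGL m F) S) {v w w' : Vec} (hv : v ≠ 0)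
    (hw : w ≠ 0) (hw' : w' ≠ 0) (hvS : Projectivization.mk F v hv ∈ S) (hwS : Projectivization.mk F w hw ∈ S)
    (g : Sp) (a : F) (gv : g.1 *ᵥ v = v) (gw : g.1 *ᵥ w = a • w') : Projectivization.mk F w' hw' ∈ S := by
  open scoped Pointwise in
  have e : toSpGL g • S = S := by
    have := hS.smul_eq_smul_of_nonempty (g₁ := toSpGL g) (g₂ := 1) ⟨Projectivization.mk F v hv,
      ⟨⟨_, hvS, by simp only [smul_mk' g hv (mulVec_ne_zero g hv), gv]⟩, by rw [one_smul]; exact hvS⟩⟩
    rwa [one_smul] at this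
  open scoped Pointwise in
  have : toSpGL g • Projectivization.mk F w hw ∈ toSpGL g • S := Set.smul_mem_smul_set hwS
  rw [e, smul_mk' g hw (mulVec_ne_zero g hw)] at this
  convert this using 1
  rw [eq_comm, Projectivization.mk_eq_mk_iff']
  exact ⟨a, gw.symm⟩

theorem primitive (hm : 1 ≤ m) : IsPreprimitive (Cfsg.spGL m F) (ℙ F Vec) := by
  haveI : IsPretransitive (Cfsg.spGL m F) (ℙ F Vec) := ⟨fun x y => by
    induction x using Projectivization.ind with | _ v hv =>
    induction y using Projectivization.ind with | _ w hw =>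
    obtain ⟨g, hg⟩ := transitive hv hw
    exact ⟨toSpGL g, by simp only [smul_mk' g hv (mulVec_ne_zero g hv), hg]⟩⟩
  refine ⟨fun {S} hS => ?_⟩
  by_cases hsub : S.Subsingleton
  · exact Or.inl hsub
  right
  obtain ⟨x, hx, y, hy, hxy⟩ := Set.not_subsingleton_iff.mp hsub
  have full : ∀ (v w : Vec) (hv : v ≠ 0) (hw : w ≠ 0), Projectivization.mk F v hv ∈ S →
      Projectivization.mk F w hw ∈ S → B v w ≠ 0 → S = Set.univ := by
    intro v w hv hw hvS hwS h
    rw [Set.eq_univ_iff_forall]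
    intro r
    induction r using Projectivization.ind with | _ u hu =>
    obtain ⟨z, hzv, hzu⟩ := exists_both hv hu
    have hz : z ≠ 0 := fun e => hzv (by rw [e]; exact zero_dotProduct _)
    obtain ⟨g, a, -, gv, gw⟩ := stab_nonperp h (w' := z) (by rw [B_swap]; exact neg_ne_zero.mpr hzv)
    have hzS := block_step hS hv hw hz hvS hwS g a gv gw
    obtain ⟨g', a', -, gz, gu⟩ := stab_nonperp hzv hzu
    exact block_step hS hz hv hu hzS hvS g' a' gz gu
  induction x using Projectivization.ind with | _ v hv =>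
  induction y using Projectivization.ind with | _ w hw =>
  by_cases h : B v w = 0
  · have hind : ∀ c : F, w ≠ c • v := fun c e => hxy (by
      rw [eq_comm, Projectivization.mk_eq_mk_iff']; exact ⟨c, e.symm⟩)
    obtain ⟨t, htv, htw⟩ := exists_perp_ne hv hind
    have ht : t ≠ 0 := fun e => htw (by rw [e]; exact zero_dotProduct _)
    have hvt : B v t = 0 := by rw [B_swap, htv, neg_zero]
    have htind : ∀ c : F, t ≠ c • v := fun c e => htw (by rw [e, B_smul_left, h, mul_zero])
    obtain ⟨g, gv, gw⟩ := stab_perp hv h hvt hind htind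
    have htS := block_step hS hv hw ht hx hy g 1 gv (by rw [one_smul, gw])
    exact full t w ht hw htS hy htw
  · exact full v w hv hw hx hy h

/-! ### `PSp` -/

instance : MulAction Sp (ℙ F Vec) := MulAction.compHom _ (toSpGL (F := F) (m := m))

theorem smul_def (g : Sp) (x : ℙ F Vec) : g • x = toSpGL g • x := rfl

theorem ker_perm : (MulAction.toPermHom Sp (ℙ F Vec)).ker = Subgroup.center Sp := by
  ext g
  rw [MonoidHom.mem_ker]
  constructor
  · intro h
    have key : ∀ v : Vec, ∃ a : F, g.1 *ᵥ v = a • v := by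
      intro v
      by_cases hv : v = 0
      · exact ⟨0, by rw [hv]; simp⟩
      have := Equiv.ext_iff.mp h (Projectivization.mk F v hv)
      change toSpGL g • Projectivization.mk F v hv = Projectivization.mk F v hv at this
      rw [smul_mk' g hv (mulVec_ne_zero g hv)] at this
      obtain ⟨a, ha⟩ := (Projectivization.mk_eq_mk_iff' F _ _ _ _).mp this
      exact ⟨a, ha.symm⟩
    obtain ⟨a, ha⟩ := (Matrix.toLin' g.1).exists_eq_smul_id_of_forall_notLinearIndependent (by
      intro v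
      by_cases hv : v = 0
      · simp [hv, linearIndependent_fin2]
      · obtain ⟨a, ha⟩ := key v
        rw [LinearIndependent.pair_iff' hv]
        push Not
        exact ⟨a, by rw [Matrix.toLin'_apply, ha]⟩)
    have hg : ∀ v, g.1 *ᵥ v = a • v := fun v => by
      rw [← Matrix.toLin'_apply, ha]; rfl
    rw [Subgroup.mem_center_iff]
    intro x
    apply ext_apply
    intro v
    rw [SympGen.mul_apply, SympGen.mul_apply, hg, hg, Matrix.mulVec_smul]
  · intro h
    obtain ⟨r, hr⟩ := scalar_of_central g h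
    ext x
    induction x using Projectivization.ind with | _ v hv =>
    show toSpGL g • Projectivization.mk F v hv = Projectivization.mk F v hv
    rw [smul_mk' g hv (mulVec_ne_zero g hv)]
    apply (Projectivization.mk_eq_mk_iff' F _ _ _ _).mpr
    exact ⟨r, by rw [hr]; ext i; simp [Matrix.mulVec_diagonal]⟩

/-- The permutation representation of `PSp`. -/
def pspPerm : Cfsg.PSp m F →* Equiv.Perm (ℙ F Vec) :=
  QuotientGroup.lift _ (MulAction.toPermHom Sp (ℙ F Vec)) ker_perm.ge

instance : MulAction (Cfsg.PSp m F) (ℙ F Vec) := MulAction.compHom _ (pspPerm (F := F) (m := m))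

theorem psp_smul_mk (g : Sp) (x : ℙ F Vec) : (g : Cfsg.PSp m F) • x = g • x := rfl

theorem simple [Fintype F] (hm : 2 ≤ m) (h : m = 2 → 3 ≤ Fintype.card F) : IsSimpleGroup (Cfsg.PSp m F) := by
  haveI := primitive (F := F) (m := m) (by omega)
  haveI : IsPreprimitive Sp (ℙ F Vec) :=
    (isPreprimitive_congr (φ := toSpGL (F := F) (m := m)) (f := ⟨id, fun _ _ => rfl⟩) toSpGL_surjective
      Function.bijective_id).mpr inferInstance
  haveI : IsPreprimitive (Cfsg.PSp m F) (ℙ F Vec) :=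
    IsPreprimitive.of_surjective (f := (⟨id, fun _ _ => rfl⟩ :
      ℙ F Vec →ₑ[(QuotientGroup.mk' (Subgroup.center Sp) : Sp → Cfsg.PSp m F)] ℙ F Vec)) Function.surjective_id
  have hperf : commutator Sp = ⊤ := perfect_fintype (by
    rcases (lt_or_eq_of_le hm) with h3 | h2
    · exact Or.inl h3
    · exact Or.inr (Or.inl ⟨h2.symm, h h2.symm⟩))
  have hperf' : commutator (Cfsg.PSp m F) = ⊤ := by
    have : Group.IsPerfect Sp := ⟨hperf⟩
    exact (inferInstance : Group.IsPerfect (Cfsg.PSp m F)).commutator_eq_top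
  have hfaith : FaithfulSMul (Cfsg.PSp m F) (ℙ F Vec) := ⟨fun {a b} hab => by
    have hinj : Function.Injective (pspPerm (F := F) (m := m)) :=
      (QuotientGroup.injective_lift_iff _ _ _).mpr ker_perm.symm
    exact hinj (Equiv.ext hab)⟩
  haveI : Nontrivial (Cfsg.PSp m F) := by
    let i0 : Fin m := ⟨0, by omega⟩
    refine ⟨⟨((tv (bas (Sum.inr i0)) 1 : Sp) : Cfsg.PSp m F), 1, fun hc => ?_⟩⟩
    rw [QuotientGroup.eq_one_iff] at hc
    obtain ⟨r, hr⟩ := scalar_of_central _ hc
    have h1 := tv_apply (bas (F := F) (Sum.inr i0)) (1 : F) (bas (Sum.inl i0))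
    rw [hr, B_bas_inr_inl, if_pos rfl] at h1
    have h2 := congrFun h1 (Sum.inr i0)
    simp [bas, Matrix.scalar_apply, Matrix.mulVec_diagonal] at h2
  let T : ℙ F Vec → Subgroup (Cfsg.PSp m F) := fun x =>
    ((QuotientGroup.mk' (Subgroup.center Sp)).comp (tvHom x.rep)).range
  have hrange : ∀ (u : Vec) (a : F), a ≠ 0 →
      ((QuotientGroup.mk' (Subgroup.center Sp)).comp (tvHom (a • u))).range =
        ((QuotientGroup.mk' (Subgroup.center Sp)).comp (tvHom u)).range := by
    intro u a ha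
    ext y
    constructor
    · rintro ⟨c, rfl⟩
      exact ⟨Multiplicative.ofAdd (a ^ 2 * c.toAdd),
        congrArg (QuotientGroup.mk' (Subgroup.center Sp)) (tv_smul u a c.toAdd).symm⟩
    · rintro ⟨c, rfl⟩
      refine ⟨Multiplicative.ofAdd ((a ^ 2)⁻¹ * c.toAdd), congrArg (QuotientGroup.mk' (Subgroup.center Sp)) ?_⟩
      show tv (a • u) _ = tv u c.toAdd
      rw [tv_smul]
      congr 1
      simp only [toAdd_ofAdd]
      field_simp
  refine IwasawaStructure.isSimpleGroup hperf' (⟨T, fun x => ?_, fun g x => ?_, ?_⟩ :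
    IwasawaStructure (Cfsg.PSp m F) (ℙ F Vec)) hfaith
  · exact ⟨⟨fun a b => by
      obtain ⟨_, c, rfl⟩ := a
      obtain ⟨_, d, rfl⟩ := b
      apply Subtype.ext
      show _ * _ = _ * _
      rw [← map_mul, ← map_mul, mul_comm]⟩⟩
  · obtain ⟨g, rfl⟩ := QuotientGroup.mk_surjective g
    obtain ⟨a, ha⟩ := Projectivization.exists_smul_eq_mk_rep F (g.1 *ᵥ x.rep) (mulVec_ne_zero g x.rep_nonzero)
    have hx : (g : Cfsg.PSp m F) • x = Projectivization.mk F (g.1 *ᵥ x.rep) (mulVec_ne_zero g x.rep_nonzero) := by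
      conv_lhs => rw [← Projectivization.mk_rep x]
      exact smul_mk' g x.rep_nonzero _
    show ((QuotientGroup.mk' (Subgroup.center Sp)).comp (tvHom ((g : Cfsg.PSp m F) • x).rep)).range = _
    rw [hx, ← ha, Units.smul_def, hrange _ _ a.ne_zero]
    open scoped Pointwise in
    show _ = Subgroup.map (MulAut.conj (g : Cfsg.PSp m F)).toMonoidHom
      ((QuotientGroup.mk' (Subgroup.center Sp)).comp (tvHom x.rep)).range
    rw [MonoidHom.map_range]
    congr 1
    refine MonoidHom.ext fun c => ?_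
    show QuotientGroup.mk' (Subgroup.center Sp) (tv (g.1 *ᵥ x.rep) c.toAdd) = _
    rw [← conj_tv, map_mul, map_mul, map_inv]
    rfl
  · rw [eq_top_iff]
    intro y _
    obtain ⟨g, rfl⟩ := QuotientGroup.mk_surjective y
    have hg : g ∈ TV F m := by rw [TV_eq_top]; trivial
    show QuotientGroup.mk' (Subgroup.center Sp) g ∈ _
    refine (Subgroup.closure_le (K := (iSup T).comap (QuotientGroup.mk' (Subgroup.center Sp)))).mpr ?_ hg
    rintro A ⟨w, c, hA⟩
    have hA' : A = tv w c := Subtype.ext hA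
    rw [hA', SetLike.mem_coe, Subgroup.mem_comap]
    by_cases hw : w = 0
    · rw [hw, tv_zero_vec, map_one]; exact one_mem _
    refine Subgroup.mem_iSup_of_mem (Projectivization.mk F w hw) ?_
    obtain ⟨a, ha⟩ := Projectivization.exists_smul_eq_mk_rep F w hw
    show _ ∈ ((QuotientGroup.mk' (Subgroup.center Sp)).comp (tvHom (Projectivization.mk F w hw).rep)).range
    rw [← ha, Units.smul_def, hrange _ _ a.ne_zero]
    exact ⟨Multiplicative.ofAdd c, rfl⟩

end CfsgLib.SympSimple
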