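import Mathlib

/-!
Two-groups with a fixed-point-free automorphism of order three have class at most two.
-/

set_option autoImplicit false

namespace CfsgLib.FpfThree

open scoped commutatorElement

universe u

/-- In a ring, two square zero elements whose combined element squares to zero anticommute. -/
theorem anticomm {R : Type u} [Ring R] {a b : R} (ha : a * a = 0) (hb : b * b = 0)
    (h : (a + b + a * b) * (a + b + a * b) = 0) : a * b * a = 0 ∧ b * a * b = 0 ∧ a * b + b * a = 0 := by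
  have e : a * b + b * a + b * a * b + a * b * a + a * b * a * b = 0 := by
    rw [← h]
    simp only [add_mul, mul_add, ← mul_assoc, ha, zero_mul, mul_assoc _ b b, hb, mul_zero]
    abel
  have h1 : a * b * a + a * b * a * b = 0 := by
    have := congrArg (a * ·) e
    simp only [mul_add, ← mul_assoc, ha, zero_mul, mul_zero, add_zero, zero_add] at this
    exact this
  have haba : a * b * a = 0 := by
    have := congrArg (· * (1 - b)) h1
    simp only [add_mul, mul_sub, mul_one, zero_mul, mul_assoc _ b b, hb, mul_zero, add_zero] at this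
    simpa using this
  have h2 : b * a * b + a * b * a * b = 0 := by
    have := congrArg (· * b) e
    simp only [add_mul, mul_assoc _ b b, hb, mul_zero, zero_mul, add_zero, zero_add] at this
    exact this
  have hbab : b * a * b = 0 := by
    rw [haba, zero_mul, add_zero] at h2
    exact h2
  refine ⟨haba, hbab, ?_⟩
  rw [hbab, haba, zero_mul, add_zero, add_zero, add_zero] at e
  exact e

variable {G : Type u} [Group G]

theorem engel (h : ∀ x y : G, Commute x (y * x * y⁻¹)) (g a : G) : Commute g ⁅g, a⁆ := by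
  rw [commutatorElement_def, show g * a * g⁻¹ * a⁻¹ = g * (a * g * a⁻¹)⁻¹ by group]
  exact (Commute.refl g).mul_right (h g a).inv_right

/-- The normal abelian closure data: the operators attached to the elements anticommute. -/
theorem triple_props (h : ∀ x y : G, Commute x (y * x * y⁻¹)) :
    (∀ g a : G, ⁅g⁻¹, a⁆ = ⁅g, a⁆⁻¹) ∧ (∀ g k x : G, ⁅g, ⁅k, x⁆⁆ = ⁅k, ⁅g, x⁆⁆⁻¹) ∧
      (∀ g k x : G, ⁅g, ⁅k, x⁆⁆ = ⁅g, ⁅x, k⁆⁆⁻¹) ∧ (∀ g k x : G, Commute k ⁅g, ⁅k, x⁆⁆) := by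
  suffices main : ∀ x : G, (∀ g : G, ⁅g⁻¹, x⁆ = ⁅g, x⁆⁻¹) ∧ (∀ g k : G, ⁅g, ⁅k, x⁆⁆ = ⁅k, ⁅g, x⁆⁆⁻¹) ∧
      (∀ g k : G, ⁅g, ⁅k, x⁆⁻¹⁆ = ⁅g, ⁅k, x⁆⁆⁻¹) ∧ (∀ g k : G, Commute k ⁅g, ⁅k, x⁆⁆) from
    ⟨fun g a => (main a).1 g, fun g k x => (main x).2.1 g k, fun g k x => by
      rw [← commutatorElement_inv x k, (main k).2.2.1],
      fun g k x => (main x).2.2.2 g k⟩
  intro x
  let A : Subgroup G := Subgroup.normalClosure {x}
  have hAc : IsMulCommutative A := by
    refine Subgroup.isMulCommutative_closure fun u hu v hv => ?_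
    rw [Group.mem_conjugatesOfSet_iff] at hu hv
    obtain ⟨w, hw, hu⟩ := hu
    obtain ⟨w', hw', hv⟩ := hv
    rw [Set.mem_singleton_iff] at hw hw'
    subst w w'
    obtain ⟨c, rfl⟩ := isConj_iff.mp hu
    obtain ⟨e, rfl⟩ := isConj_iff.mp hv
    have h2 := (h x (c⁻¹ * e)).map (MulAut.conj c).toMonoidHom
    simp only [MulEquiv.coe_toMonoidHom, MulAut.conj_apply] at h2
    have : c * (c⁻¹ * e * x * (c⁻¹ * e)⁻¹) * c⁻¹ = e * x * e⁻¹ := by group
    rw [this] at h2
    exact h2.eq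
  letI : CommGroup A := { (inferInstance : Group A) with mul_comm := fun a b => hAc.is_comm.comm a b }
  let σ : G → AddMonoid.End (Additive A) := fun g =>
    MonoidHom.toAdditive (((MulAut.conj g).toMonoidHom.comp A.subtype).codRestrict A fun z =>
      Subgroup.normalClosure_normal.conj_mem _ z.2 g)
  have hσ : ∀ g k, σ (g * k) = σ g * σ k := fun g k => AddMonoidHom.ext fun z => by
    refine congrArg Additive.ofMul (Subtype.ext ?_)
    show g * k * (z.toMul : G) * (g * k)⁻¹ = g * (k * (z.toMul : G) * k⁻¹) * g⁻¹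
    group
  let D : G → AddMonoid.End (Additive A) := fun g => σ g - 1
  have hD : ∀ g (z : A), ((Additive.toMul (D g (Additive.ofMul z)) : A) : G) = ⁅g, (z : G)⁆ := fun g z => by
    show ((Additive.toMul (σ g (Additive.ofMul z) - Additive.ofMul z) : A) : G) = _
    rw [toMul_sub, toMul_ofMul, Subgroup.coe_div, div_eq_mul_inv, commutatorElement_def]
    rfl
  have hD2 : ∀ g, D g * D g = 0 := fun g => AddMonoidHom.ext fun z => by
    refine congrArg Additive.ofMul (Subtype.ext ?_ : Additive.toMul ((D g * D g) z) = 1)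
    show ((Additive.toMul (D g (D g z)) : A) : G) = 1
    obtain ⟨y, rfl⟩ : ∃ y, Additive.ofMul y = z := ⟨z.toMul, rfl⟩
    rw [← ofMul_toMul (D g (Additive.ofMul y)), hD, hD]
    exact commutatorElement_eq_one_iff_commute.mpr (engel h g _)
  have hDm : ∀ g k, D (g * k) = D g + D k + D g * D k := fun g k => by
    show σ (g * k) - 1 = (σ g - 1) + (σ k - 1) + (σ g - 1) * (σ k - 1)
    rw [hσ, sub_mul, mul_sub, mul_one, one_mul]; abel
  have hD1 : D 1 = 0 := AddMonoidHom.ext fun z => by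
    refine congrArg Additive.ofMul (Subtype.ext ?_ : Additive.toMul (D 1 z) = 1)
    obtain ⟨y, rfl⟩ : ∃ y, Additive.ofMul y = z := ⟨z.toMul, rfl⟩
    rw [hD, commutatorElement_one_left]; rfl
  have hkey : ∀ g k, D g * D k * D g = 0 ∧ D k * D g * D k = 0 ∧ D g * D k + D k * D g = 0 := fun g k =>
    anticomm (hD2 g) (hD2 k) (by rw [← hDm]; exact hD2 _)
  have hinv : ∀ g, D g⁻¹ = - D g := fun g => by
    have e := hDm g g⁻¹
    rw [mul_inv_cancel, hD1] at e
    have e2 := congrArg ((1 - D g) * ·) e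
    simp only [mul_zero, mul_add, sub_mul, one_mul, ← mul_assoc, hD2, zero_mul, sub_zero] at e2
    exact eq_neg_of_add_eq_zero_right (by rw [e2]; abel)
  let x' : A := ⟨x, Subgroup.subset_normalClosure rfl⟩
  have hDD : ∀ g k, ((Additive.toMul ((D g * D k) (Additive.ofMul x')) : A) : G) = ⁅g, ⁅k, x⁆⁆ := fun g k => by
    show ((Additive.toMul (D g (D k (Additive.ofMul x'))) : A) : G) = _
    rw [← ofMul_toMul (D k (Additive.ofMul x')), hD, hD]
  refine ⟨fun g => ?_, fun g k => ?_, fun g k => ?_, fun g k => ?_⟩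
  · rw [← hD g⁻¹ x', hinv, ← hD g x']
    rfl
  · rw [← hDD, ← hDD, eq_neg_of_add_eq_zero_left (hkey g k).2.2]
    rfl
  · have e := congrArg (fun z : Additive A => ((Additive.toMul z : A) : G)) (map_neg (D g) (D k (Additive.ofMul x')))
    simp only [toMul_neg, Subgroup.coe_inv] at e
    rw [← hDD]
    show _ = ((Additive.toMul (D g (D k (Additive.ofMul x'))) : A) : G)⁻¹
    rw [← e, ← ofMul_toMul (-D k (Additive.ofMul x')), hD, toMul_neg, Subgroup.coe_inv, hD]
  · rw [← commutatorElement_eq_one_iff_commute, ← hDD g k]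
    rw [← hD k (Additive.toMul ((D g * D k) (Additive.ofMul x')))]
    show ((Additive.toMul ((D k * D g * D k) (Additive.ofMul x')) : A) : G) = 1
    rw [(hkey g k).2.1]
    rfl

/-- A 2-group in which all conjugates commute has class at most two. -/
theorem class_two_of_engel [Finite G] (hG : IsPGroup 2 G) (h : ∀ x y : G, Commute x (y * x * y⁻¹)) :
    ∀ x y z : G, Commute z ⁅x, y⁆ := by
  obtain ⟨hinvL, hswap, hin, hcom⟩ := triple_props h
  intro x y z
  have hR : ∀ a b : G, ⁅a, b⁻¹⁆ = ⁅a, b⁆⁻¹ := fun a b => by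
    rw [← commutatorElement_inv b⁻¹ a, hinvL, inv_inv, ← commutatorElement_inv b a, inv_inv]
  have hterm : ∀ a b c : G, b * ⁅⁅a, b⁻¹⁆⁻¹, c⁆ * b⁻¹ = ⁅c, ⁅a, b⁆⁆⁻¹ := fun a b c => by
    rw [hR, inv_inv, ← commutatorElement_inv c ⁅a, b⁆]
    have hb : Commute b ⁅c, ⁅a, b⁆⁆ := by
      rw [hin c a b]
      exact (hcom c b a).inv_right
    rw [hb.inv_right.eq, mul_inv_cancel_right]
  have e : y * ⁅⁅x, y⁻¹⁆⁻¹, z⁆ * y⁻¹ * (z * ⁅⁅y, z⁻¹⁆⁻¹, x⁆ * z⁻¹) * (x * ⁅⁅z, x⁻¹⁆⁻¹, y⁆ * x⁻¹) = 1 := by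
    simp only [commutatorElement_def]; group
  rw [hterm, hterm, hterm] at e
  set T := ⁅z, ⁅x, y⁆⁆
  have e1 : ⁅x, ⁅y, z⁆⁆ = T := by rw [hin x y z, hswap x z y, inv_inv]
  have e2 : ⁅y, ⁅z, x⁆⁆ = T := by rw [hswap y z x, hin z y x, inv_inv]
  rw [e1, e2] at e
  have h3 : T ^ 3 = 1 := by
    rw [← inv_eq_one, ← inv_pow, pow_succ, pow_succ, pow_one, e]
  have hT : T = 1 := by
    refine orderOf_eq_one_iff.mp (Nat.eq_one_of_dvd_coprimes ?_ dvd_rfl (orderOf_dvd_of_pow_eq_one h3))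
    obtain ⟨k, hk⟩ := IsPGroup.iff_orderOf.mp hG T
    rw [hk]
    exact Nat.Coprime.pow_left k (by norm_num)
  exact commutatorElement_eq_one_iff_commute.mp hT

variable [Finite G] {N : Subgroup G} [N.Normal] {d : G}

/-- Every element is a commutator with a fixed-point-free element. -/
theorem exists_preimage (hfpf : ∀ x ∈ N, Commute d x → x = 1) {v : G} (hv : v ∈ N) :
    ∃ n ∈ N, n⁻¹ * (d * n * d⁻¹) = v := by
  let f : N → N := fun n => ⟨n.1⁻¹ * (d * n.1 * d⁻¹), mul_mem (inv_mem n.2) ((inferInstance : N.Normal).conj_mem _ n.2 d)⟩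
  have hf : Function.Injective f := by
    intro a b hab
    have e : a.1⁻¹ * (d * a.1 * d⁻¹) = b.1⁻¹ * (d * b.1 * d⁻¹) := congrArg Subtype.val hab
    refine Subtype.ext (mul_inv_eq_one.mp (hfpf _ (mul_mem a.2 (inv_mem b.2)) ?_))
    calc d * (a.1 * b.1⁻¹) = a.1 * (a.1⁻¹ * (d * a.1 * d⁻¹)) * (b.1⁻¹ * (d * b.1 * d⁻¹))⁻¹ * b.1⁻¹ * d := by group
      _ = a.1 * b.1⁻¹ * d := by rw [e]; group
  obtain ⟨n, hn⟩ := Finite.surjective_of_injective hf ⟨v, hv⟩
  exact ⟨n.1, n.2, congrArg Subtype.val hn⟩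

variable (hd : d ^ 3 = 1) (hfpf : ∀ x ∈ N, Commute d x → x = 1)
include hd hfpf

/-- The product over an orbit is trivial. -/
theorem orbit_prod {v : G} (hv : v ∈ N) : v * (d * v * d⁻¹) * (d * d * v * (d * d)⁻¹) = 1 := by
  obtain ⟨n, -, rfl⟩ := exists_preimage hfpf hv
  have h3 : d * d * d = 1 := by rw [← hd, pow_three, mul_assoc]
  calc n⁻¹ * (d * n * d⁻¹) * (d * (n⁻¹ * (d * n * d⁻¹)) * d⁻¹) * (d * d * (n⁻¹ * (d * n * d⁻¹)) * (d * d)⁻¹)
      = n⁻¹ * ((d * d * d) * n * (d * d * d)⁻¹) := by group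
    _ = 1 := by rw [h3]; group

theorem fpf_inv : d⁻¹ ^ 3 = 1 ∧ ∀ x ∈ N, Commute d⁻¹ x → x = 1 :=
  ⟨by rw [inv_pow, hd, inv_one], fun x hx h => hfpf x hx (by simpa using h.inv_left)⟩

theorem comm_orbit {v : G} (hv : v ∈ N) : Commute v (d * v * d⁻¹) := by
  have h1 := orbit_prod hd hfpf hv
  obtain ⟨hd', hf'⟩ := fpf_inv hd hfpf
  have h2 := orbit_prod (d := d⁻¹) hd' hf' ((inferInstance : N.Normal).conj_mem v hv d)
  have hinv : d⁻¹ = d * d := inv_eq_of_mul_eq_one_right (by rw [← hd, pow_three])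
  have e : d⁻¹ * d⁻¹ = d := by rw [← mul_inv_rev, ← hinv, inv_inv]
  rw [e, show d⁻¹ * (d * v * d⁻¹) * d⁻¹⁻¹ = v by group] at h2
  rw [show d * (d * v * d⁻¹) * d⁻¹ = d * d * v * (d * d)⁻¹ by group] at h2
  exact mul_right_cancel (h1.trans h2.symm)

/-- All conjugates commute. -/
theorem comm_conj {x y : G} (hx : x ∈ N) (hy : y ∈ N) : Commute x (y * x * y⁻¹) := by
  have key : ∀ e : G, e ^ 3 = 1 → (∀ z ∈ N, Commute e z → z = 1) → Commute x (y * (e * x * e⁻¹) * y⁻¹) := by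
    intro e he hef
    obtain ⟨n', hn', hny⟩ := exists_preimage (d := e) hef hy
    obtain ⟨n, rfl⟩ : ∃ n : G, n' = n⁻¹ := ⟨n'⁻¹, (inv_inv n').symm⟩
    have hn : n ∈ N := by simpa using inv_mem hn'
    have hye : n * e * n⁻¹ = y * e := by rw [← hny]; group
    have h3 : (y * e) ^ 3 = 1 := by rw [← hye, conj_pow, he, mul_one, mul_inv_cancel]
    have hf3 : ∀ z ∈ N, Commute (y * e) z → z = 1 := fun z hz hc => by
      have h4 := hef (n⁻¹ * z * n) (by simpa using (inferInstance : N.Normal).conj_mem z hz n⁻¹) (by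
        rw [← hye] at hc
        have := hc.map (MulAut.conj n⁻¹).toMonoidHom
        simpa [mul_assoc] using this)
      have : z = n * (n⁻¹ * z * n) * n⁻¹ := by group
      rw [this, h4]; group
    have h5 := comm_orbit h3 hf3 hx
    rwa [show y * e * x * (y * e)⁻¹ = y * (e * x * e⁻¹) * y⁻¹ by group] at h5
  obtain ⟨hd', hf'⟩ := fpf_inv hd hfpf
  have h1 := key d hd hfpf
  have h2 := key d⁻¹ hd' hf'
  have h0 := orbit_prod hd hfpf hx
  have hinv : d⁻¹ = d * d := inv_eq_of_mul_eq_one_right (by rw [← hd, pow_three])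
  have ex : (y * (d * x * d⁻¹) * y⁻¹) * (y * (d⁻¹ * x * d⁻¹⁻¹) * y⁻¹) = (y * x * y⁻¹)⁻¹ := by
    rw [show d⁻¹ * x * d⁻¹⁻¹ = d * d * x * (d * d)⁻¹ by rw [← hinv]]
    rw [mul_assoc x] at h0
    have h6 := inv_eq_of_mul_eq_one_right h0
    calc _ = y * ((d * x * d⁻¹) * (d * d * x * (d * d)⁻¹)) * y⁻¹ := by group
      _ = (y * x * y⁻¹)⁻¹ := by rw [← h6]; group
  have h7 := h1.mul_right h2
  rw [ex] at h7
  simpa using h7.inv_right

/-- The class is at most two. -/
theorem class_two (hN : IsPGroup 2 N) : ∀ x ∈ N, ∀ y ∈ N, ∀ z ∈ N, Commute z ⁅x, y⁆ := by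
  intro x hx y hy z hz
  have h := class_two_of_engel hN (fun a b => Subtype.ext (comm_conj hd hfpf a.2 b.2).eq) ⟨x, hx⟩ ⟨y, hy⟩ ⟨z, hz⟩
  exact congrArg Subtype.val h.eq

end CfsgLib.FpfThree
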