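import Mathlib

/-!
Elementary tools to exclude orders of finite simple groups.
-/

set_option autoImplicit false

namespace CfsgLib.SmallOrder

variable {G : Type*} [Group G] [Finite G]

/-- `|G|` divides `[G:H]!` for a proper subgroup `H` of a simple group. -/
theorem card_dvd_factorial_index [IsSimpleGroup G] {H : Subgroup G} (hH : H ≠ ⊤) :
    Nat.card G ∣ H.index.factorial := by
  classical
  let φ := MulAction.toPermHom G (G ⧸ H)
  have hφ : Function.Injective φ := by
    rw [← MonoidHom.ker_eq_bot_iff]
    rcases (Subgroup.Normal.eq_bot_or_eq_top (inferInstance : φ.ker.Normal)) with h | h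
    · exact h
    · exfalso; apply hH
      rw [← Subgroup.normalCore_eq_ker] at h
      exact top_le_iff.mp (h.ge.trans H.normalCore_le)
  have := Subgroup.card_dvd_of_injective φ hφ
  rwa [Nat.card_perm] at this

/-- A simple group with a Sylow subgroup central in its normalizer has prime-power order. -/
theorem card_eq_sylow_of_normalizer_le_centralizer [IsSimpleGroup G] {p : ℕ} [Fact p.Prime]
    (P : Sylow p G) (hP : Subgroup.normalizer (P : Set G) ≤ Subgroup.centralizer (P : Set G))
    (hne : (P : Subgroup G) ≠ ⊥) : Nat.card G = Nat.card P := by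
  set K := (MonoidHom.transferSylow P hP).ker
  have h := (MonoidHom.ker_transferSylow_isComplement' P hP).card_mul
  change Nat.card K * _ = _ at h
  rcases Subgroup.Normal.eq_bot_or_eq_top (inferInstance : K.Normal) with e | e
  · rw [← h, e, Subgroup.card_bot, one_mul]
  · exfalso
    rw [e, Subgroup.card_top] at h
    have h0 : 0 < Nat.card G := Nat.card_pos
    have : Nat.card (P : Subgroup G) = 1 := Nat.eq_of_mul_eq_mul_left h0 (by rw [h, mul_one])
    exact hne (Subgroup.card_eq_one.mp this)

/-- For `P` of prime order, `N(P) = C(P)` if `|N(P):P|` is prime to `p - 1`. -/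
theorem normalizer_le_centralizer_of_coprime {p : ℕ} [Fact p.Prime] (P : Subgroup G)
    (hP : Nat.card P = p)
    (h : (P.subgroupOf (Subgroup.normalizer (P : Set G))).index.Coprime (p - 1)) :
    Subgroup.normalizer (P : Set G) ≤ Subgroup.centralizer (P : Set G) := by
  haveI : IsCyclic P := isCyclic_of_prime_card hP
  have key := Subgroup.card_dvd_of_injective _ (QuotientGroup.kerLift_injective P.normalizerMonoidHom)
  rw [Subgroup.normalizerMonoidHom_ker, ← Subgroup.index, ← Subgroup.relIndex,
    (inferInstance : IsCyclic P).card_mulAut, hP, Nat.totient_prime Fact.out] at key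
  refine Subgroup.relIndex_eq_one.mp (Nat.eq_one_of_dvd_coprimes h ?_ key)
  exact Subgroup.relIndex_dvd_of_le_left _ P.le_centralizer

/-- The order of the normalizer of a Sylow subgroup. -/
theorem card_normalizer_mul_card_sylow {p : ℕ} [Fact p.Prime] (P : Sylow p G) :
    Nat.card (Subgroup.normalizer (P : Set G)) * Nat.card (Sylow p G) = Nat.card G := by
  rw [P.card_eq_index_normalizer, Subgroup.card_mul_index]

/-- The order of a Sylow subgroup from the exact power of `p` dividing `|G|`. -/
theorem card_sylow_eq {p k : ℕ} [hp : Fact p.Prime] (P : Sylow p G) (h : p ^ k ∣ Nat.card G)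
    (h' : ¬ p ^ (k + 1) ∣ Nat.card G) : Nat.card P = p ^ k := by
  obtain ⟨m, hm⟩ := P.2.exists_card_eq
  have h1 : p ^ k ∣ Nat.card P := P.pow_dvd_card_of_pow_dvd_card h
  have h2 : m < k + 1 := by
    by_contra hcon
    exact h' ((pow_dvd_pow p (not_lt.mp hcon)).trans (hm ▸ Subgroup.card_subgroup_dvd_card _))
  rw [hm] at h1 ⊢
  have h3 : k ≤ m := (Nat.pow_dvd_pow_iff_le_right hp.out.one_lt).mp h1
  rw [show m = k by omega]

/-- A simple group whose order is not a power of `p` does not have just one Sylow `p`-subgroup. -/
theorem card_sylow_ne_one [IsSimpleGroup G] {p : ℕ} [Fact p.Prime] (P : Sylow p G)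
    (hP : Nat.card P ≠ 1) (hne : Nat.card G ≠ Nat.card P) : Nat.card (Sylow p G) ≠ 1 := by
  intro h
  haveI : Subsingleton (Sylow p G) := (Nat.card_eq_one_iff_unique.mp h).1
  haveI := Sylow.characteristic_of_subsingleton P
  rcases Subgroup.Normal.eq_bot_or_eq_top (inferInstance : (P : Subgroup G).Normal) with e | e
  · exact hP (Subgroup.card_eq_one.mpr e)
  · apply hne
    show Nat.card G = Nat.card (P : Subgroup G)
    rw [e, Subgroup.card_top]

/-- The number of Sylow subgroups divides the index and is `1` mod `p`. -/
theorem card_sylow_mem_filter {p k n : ℕ} [Fact p.Prime] (P : Sylow p G)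
    (hP : Nat.card P = k) (hG : Nat.card G = k * n) (hk : k ≠ 0) :
    Nat.card (Sylow p G) ∈ n.divisors.filter (fun d => d % p = 1) := by
  have hn : (P : Subgroup G).index = n := by
    have := (P : Subgroup G).card_mul_index
    change Nat.card P * _ = _ at this
    rw [hP, hG] at this
    exact Nat.eq_of_mul_eq_mul_left (Nat.pos_of_ne_zero hk) this
  rw [Finset.mem_filter, Nat.mem_divisors]
  refine ⟨⟨hn ▸ P.card_dvd_index, fun e => ?_⟩, ?_⟩
  · rw [e, mul_zero] at hG; exact Nat.card_pos.ne' hG
  · have h := card_sylow_modEq_one p G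
    rw [Nat.ModEq, Nat.mod_eq_of_lt (Fact.out : p.Prime).one_lt] at h
    exact h

end CfsgLib.SmallOrder
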