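import Mathlib

/-! Commutator formulas for transvections in `SL_n(F)` over any field; perfectness for `n ≥ 3`. -/

set_option autoImplicit false

namespace CfsgLib.SLPerfect

open Matrix
open scoped commutatorElement

variable {F : Type*} [Field F] {n : ℕ}

local notation "SLn" => Matrix.SpecialLinearGroup (Fin n) F

theorem tr_coe {i j : Fin n} (hij : i ≠ j) (a : F) :
    (SpecialLinearGroup.transvection hij a : SLn).1 = 1 + single i j a := rfl

theorem comm_transvection {i k j : Fin n} (hik : i ≠ k) (hkj : k ≠ j) (hij : i ≠ j) (a b : F) :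
    ⁅(SpecialLinearGroup.transvection hik a : SLn), SpecialLinearGroup.transvection hkj b⁆ =
      SpecialLinearGroup.transvection hij (a * b) := by
  rw [commutatorElement_def, mul_inv_eq_iff_eq_mul, mul_inv_eq_iff_eq_mul]
  apply Subtype.ext
  show (1 + single i k a) * (1 + single k j b) =
    (1 + single i j (a * b)) * (1 + single k j b) * (1 + single i k a)
  simp only [ mul_add, add_mul, mul_one, one_mul,
    single_mul_single_same, single_mul_single_of_ne _ _ _ _ hij.symm,
    single_mul_single_of_ne _ _ _ _ hkj.symm, zero_mul, add_zero]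
  abel

theorem mul_tr_apply {i j : Fin n} (hij : i ≠ j) (c : F) (A : SLn) (k l : Fin n) :
    ((A * SpecialLinearGroup.transvection hij c : SLn) : Matrix (Fin n) (Fin n) F) k l = A.1 k l + (if l = j then A.1 k i * c else 0) := by
  show (A.1 * (1 + single i j c)) k l = _
  rw [Matrix.mul_add, Matrix.mul_one, Matrix.add_apply]
  congr 1
  split_ifs with h
  · subst h; rw [Matrix.mul_single_apply_same]
  · rw [Matrix.mul_single_apply_of_ne (hbj := h)]

theorem diag2n_eq {i j : Fin n} (hij : i ≠ j) {t : F} (ht : t ≠ 0) :
    (SpecialLinearGroup.diag2n hij t ht : SLn) =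
      SpecialLinearGroup.transvection hij t * SpecialLinearGroup.transvection hij.symm (-t⁻¹) *
        SpecialLinearGroup.transvection hij (t - 1) * SpecialLinearGroup.transvection hij.symm 1 *
        SpecialLinearGroup.transvection hij (-1) := by
  apply Subtype.ext
  ext k l
  rw [SpecialLinearGroup.diag2n_coe]
  simp only [mul_tr_apply, tr_coe, Matrix.add_apply]
  rcases eq_or_ne k i with rfl | hki <;> rcases eq_or_ne l j with rfl | hlj
  all_goals simp [Matrix.one_apply, Matrix.single_apply, Matrix.diagonal_apply, *, Ne.symm, eq_comm]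
  all_goals split_ifs <;> simp_all
  all_goals field_simp <;> ring

/-- For `n ≥ 3` every group containing all transvections is everything, and transvections are commutators. -/
theorem transvection_mem_commutatorSet (hn : 3 ≤ n) {i j : Fin n} (hij : i ≠ j) (c : F) :
    (SpecialLinearGroup.transvection hij c : SLn) ∈ commutatorSet SLn := by
  obtain ⟨k, hk⟩ : ∃ k, k ∉ ({i, j} : Finset (Fin n)) := by
    by_contra h
    push Not at h
    have h1 := Finset.card_le_card (fun k _ => h k : (Finset.univ : Finset (Fin n)) ⊆ {i, j})
    have h2 : ({i, j} : Finset (Fin n)).card ≤ 2 := Finset.card_le_two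
    simp at h1
    omega
  simp only [Finset.mem_insert, Finset.mem_singleton, not_or] at hk
  exact ⟨_, _, by rw [comm_transvection (Ne.symm hk.1) hk.2 hij c 1, mul_one]⟩

theorem commutator_eq_top (hn : 3 ≤ n) : commutator SLn = ⊤ := by
  haveI : Nontrivial (Fin n) := Fin.nontrivial_iff_two_le.mpr (by omega)
  rw [eq_top_iff]
  intro M _
  have htr : ∀ (i j : Fin n) (hij : i ≠ j) (a : F),
      (SpecialLinearGroup.transvection hij a : SLn) ∈ commutator SLn := fun i j hij a => by
    rw [commutator_eq_closure]
    exact Subgroup.subset_closure (transvection_mem_commutatorSet hn hij a)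
  refine SpecialLinearGroup.diagonal_transvection_induction' (fun A => A ∈ commutator SLn) M
    (fun i j hij c hc => ?_) htr (fun A B => mul_mem)
  rw [diag2n_eq hij hc]
  exact mul_mem (mul_mem (mul_mem (mul_mem (htr _ _ _ _) (htr _ _ _ _)) (htr _ _ _ _)) (htr _ _ _ _))
    (htr _ _ _ _)

end CfsgLib.SLPerfect

namespace CfsgLib.SLPerfect

open Matrix MulAction
open scoped LinearAlgebra.Projectivization

variable {F : Type*} [Field F] {n : ℕ}

local notation "SLn" => Matrix.SpecialLinearGroup (Fin n) F

theorem iSup_lineStab (hn : 2 ≤ n) :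
    (⨆ p : ℙ F (Fin n → F), SpecialLinearGroup.lineStab p.submodule) = (⊤ : Subgroup SLn) := by
  haveI : Nontrivial (Fin n) := Fin.nontrivial_iff_two_le.mpr hn
  rw [eq_top_iff]
  intro M _
  have htr : ∀ (i j : Fin n) (hij : i ≠ j) (a : F), (SpecialLinearGroup.transvection hij a : SLn) ∈
      ⨆ p : ℙ F (Fin n → F), SpecialLinearGroup.lineStab p.submodule := by
    intro i j hij a
    refine Subgroup.mem_iSup_of_mem (Projectivization.mk F (Pi.single i (1 : F))
      (Pi.single_ne_zero_iff.2 one_ne_zero)) ?_
    rw [Projectivization.submodule_mk]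
    exact SL2Gen.transvection_mem_lineStab hij a
  refine SpecialLinearGroup.diagonal_transvection_induction'
    (fun A => A ∈ ⨆ p : ℙ F (Fin n → F), SpecialLinearGroup.lineStab p.submodule) M
    (fun i j hij c hc => ?_) htr (fun A B => mul_mem)
  rw [diag2n_eq hij hc]
  exact mul_mem (mul_mem (mul_mem (mul_mem (htr _ _ _ _) (htr _ _ _ _)) (htr _ _ _ _)) (htr _ _ _ _))
    (htr _ _ _ _)

/-- Iwasawa structure of `PSL_n` on projective space. -/
noncomputable def iwasawa (hn : 2 ≤ n) :
    IwasawaStructure (Matrix.ProjectiveSpecialLinearGroup (Fin n) F) (ℙ F (Fin n → F)) where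
  T := PSL.iwasawaT
  is_comm p := by
    have hSL : IsMulCommutative (SpecialLinearGroup.lineStab (F := F) (ι := Fin n) p.submodule) := by
      rw [← Projectivization.mk_rep p, Projectivization.submodule_mk]
      exact SpecialLinearGroup.lineStab_isMulCommutative_of_span p.rep p.rep_nonzero
    exact Subgroup.map_isMulCommutative _ _
  is_conj g p := by
    obtain ⟨g, rfl⟩ := QuotientGroup.mk_surjective g
    rw [Matrix.ProjectiveSpecialLinearGroup.smul_proj_mk]
    change Subgroup.map _ _ = _
    rw [PSL.smul_submodule, Matrix.SpecialLinearGroup.lineStab_smul, PSL.iwasawaT_map_conj]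
  is_generator := by
    have step1 : iSup (PSL.iwasawaT (F := F) (ι := Fin n)) =
        Subgroup.map (QuotientGroup.mk' (Subgroup.center SLn))
          (⨆ p : ℙ F (Fin n → F), SpecialLinearGroup.lineStab (F := F) (ι := Fin n) p.submodule) := by
      rw [Subgroup.map_iSup]
    rw [step1, iSup_lineStab hn]
    exact Subgroup.map_top_of_surjective _ (QuotientGroup.mk'_surjective _)

theorem isSimpleGroup (hn : 3 ≤ n) : IsSimpleGroup (Matrix.ProjectiveSpecialLinearGroup (Fin n) F) := by
  have : Nontrivial (Fin n) := Fin.nontrivial_iff_two_le.mpr (by omega)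
  have : Group.IsPerfect SLn := ⟨commutator_eq_top hn⟩
  have h : Group.IsPerfect (Matrix.ProjectiveSpecialLinearGroup (Fin n) F) := inferInstance
  exact MulAction.IwasawaStructure.isSimpleGroup h.commutator_eq_top (iwasawa (by omega)) inferInstance

end CfsgLib.SLPerfect
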