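import Cfsg.Agent.Lib.HallWielandt
import Cfsg.Agent.Lib.Elementary

/-! Yoshida's form of the Hall-Wielandt theorem: it is enough that the iterated commutators lie in Frattini subgroups. -/

set_option autoImplicit false

namespace CfsgLib.YoshidaTransfer

open CfsgLib.HallWielandt
open scoped commutatorElement Pointwise

variable {G : Type*} [Group G] {A : Type*} [CommGroup A]

/-- No iterated commutator `[x, z; p - 1]` lies in a maximal subgroup of `W` outside its Frattini subgroup. -/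
def Good (p : ℕ) (P : Sylow p G) (W : Subgroup G) : Prop :=
  ∀ x ∈ (P : Subgroup G), ∀ z ∈ W, ∀ W₀ : Subgroup ↥W, IsCoatom W₀ →
    (fun y : G => y⁻¹ * z⁻¹ * y * z)^[p - 1] x ∈ W₀.map W.subtype →
      (fun y : G => y⁻¹ * z⁻¹ * y * z)^[p - 1] x ∈ ((frattini ↥W₀).map W₀.subtype).map W.subtype

theorem isCoatom_of_index_prime {H : Type*} [Group H] {p : ℕ} (hp : p.Prime) {M : Subgroup H} (h : M.index = p) : IsCoatom M := by
  refine ⟨fun e => ?_, fun L hL => ?_⟩
  · rw [e, Subgroup.index_top] at h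
    exact hp.ne_one h.symm
  · have h1 := Subgroup.relIndex_mul_index hL.le
    rw [h] at h1
    rcases (Nat.dvd_prime hp).mp (Dvd.intro_left _ h1) with h2 | h2
    · exact Subgroup.index_eq_one.mp h2
    · rw [h2] at h1
      have h3 : M.relIndex L = 1 := Nat.eq_of_mul_eq_mul_right hp.pos (h1.trans (one_mul p).symm)
      exact absurd (Subgroup.relIndex_eq_one.mp h3) hL.not_ge

theorem coatom_data {H : Type*} [Group H] [Finite H] {p : ℕ} [hp : Fact p.Prime] (hH : IsPGroup p H) {M : Subgroup H} (h : IsCoatom M) :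
    M.Normal ∧ M.index = p := by
  haveI := hH.isNilpotent
  haveI hn : M.Normal := Subgroup.NormalizerCondition.normal_of_coatom M Group.normalizerCondition_of_isNilpotent h
  refine ⟨hn, ?_⟩
  haveI : Nontrivial (H ⧸ M) := QuotientGroup.nontrivial_iff.mpr h.1
  obtain ⟨a, ha0, ha⟩ := (hH.to_quotient M).nontrivial_iff_card.mp inferInstance
  obtain ⟨y, hy⟩ := exists_prime_orderOf_dvd_card' (G := H ⧸ M) p (ha ▸ dvd_pow_self p ha0.ne')
  obtain ⟨x, rfl⟩ := QuotientGroup.mk'_surjective M y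
  have hxM : x ∉ M := fun e => hp.out.ne_one (by
    rw [← hy, show QuotientGroup.mk' M x = 1 from (QuotientGroup.eq_one_iff x).mpr e, orderOf_one])
  have htop : (Subgroup.zpowers (QuotientGroup.mk' M x)).comap (QuotientGroup.mk' M) = ⊤ := by
    refine h.2 _ (lt_of_le_of_ne (fun m hm => ?_) fun e => hxM (e ▸ Subgroup.mem_zpowers _))
    rw [Subgroup.mem_comap, show QuotientGroup.mk' M m = 1 from (QuotientGroup.eq_one_iff m).mpr hm]
    exact Subgroup.one_mem _
  have hz : Subgroup.zpowers (QuotientGroup.mk' M x) = ⊤ := by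
    rw [← Subgroup.map_comap_eq_self_of_surjective (QuotientGroup.mk'_surjective M) (Subgroup.zpowers _), htop,
      Subgroup.map_top_of_surjective _ (QuotientGroup.mk'_surjective M)]
  rw [Subgroup.index_eq_card, ← Subgroup.card_top, ← hz, Nat.card_zpowers, hy]

/-- The Frattini subgroup dies under a map to a group of exponent `p`. -/
theorem frattini_le_ker {H : Type*} [Group H] [Finite H] {p : ℕ} [hp : Fact p.Prime] (hA : ∀ a : A, a ^ p = 1) (f : H →* A) :
    frattini H ≤ f.ker := by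
  by_contra hne
  obtain ⟨x, hx, hxk⟩ := SetLike.not_le_iff_exists.mp hne
  obtain ⟨L, ⟨hkL, hxL⟩, hmax⟩ := (Set.toFinite {L : Subgroup H | f.ker ≤ L ∧ x ∉ L}).exists_maximal ⟨f.ker, le_rfl, hxk⟩
  haveI hLn : L.Normal := ⟨fun l hl g => by
    have h1 : g * l * g⁻¹ * l⁻¹ ∈ L := hkL (by
      rw [MonoidHom.mem_ker, map_mul, map_mul, map_mul, map_inv, map_inv, mul_comm (f g), mul_inv_cancel_right, mul_inv_cancel])
    simpa using L.mul_mem h1 hl⟩
  have hcover : L ⊔ Subgroup.zpowers x = ⊤ := by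
    refine eq_top_iff.mpr fun a _ => ?_
    by_cases haL : a ∈ L
    · exact Subgroup.mem_sup_left haL
    have hxa : x ∈ L ⊔ Subgroup.zpowers a := by
      by_contra hn
      exact haL (hmax ⟨hkL.trans le_sup_left, hn⟩ le_sup_left (Subgroup.mem_sup_right (Subgroup.mem_zpowers a)))
    obtain ⟨l, hl, _, ⟨i, rfl⟩, e⟩ := Subgroup.mem_sup_of_normal_left.mp hxa
    have hap : a ^ (p : ℤ) ∈ L := hkL (by rw [zpow_natCast, MonoidHom.mem_ker, map_pow, hA])
    have hi : ¬ (p : ℤ) ∣ i := by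
      rintro ⟨k, rfl⟩
      exact hxL (e ▸ L.mul_mem hl (by
        show a ^ ((p : ℤ) * k) ∈ L
        rw [zpow_mul]; exact L.zpow_mem hap k))
    have hai : a ^ i ∈ L ⊔ Subgroup.zpowers x := by
      rw [show a ^ i = l⁻¹ * x by rw [← e]; exact (inv_mul_cancel_left l _).symm]
      exact Subgroup.mul_mem _ (Subgroup.mem_sup_left (L.inv_mem hl)) (Subgroup.mem_sup_right (Subgroup.mem_zpowers x))
    obtain ⟨s, t, hst⟩ := (Nat.prime_iff_prime_int.mp hp.out).coprime_iff_not_dvd.mpr hi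
    rw [show a = a ^ (s * (p : ℤ) + t * i) by rw [hst, zpow_one], zpow_add, mul_comm s, zpow_mul, mul_comm t, zpow_mul]
    exact Subgroup.mul_mem _ (Subgroup.zpow_mem _ (Subgroup.mem_sup_left hap) s) (Subgroup.zpow_mem _ hai t)
  refine hxL (frattini_le_coatom (show IsCoatom L from ⟨fun e => hxL (e ▸ Subgroup.mem_top x), fun L' hL' => ?_⟩) hx)
  by_cases hx' : x ∈ L'
  · exact eq_top_iff.mpr (hcover ▸ sup_le hL'.le (Subgroup.zpowers_le.mpr hx'))
  · exact absurd (hmax ⟨hkL.trans hL'.le, hx'⟩ hL'.le) hL'.not_ge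

/-- Transitivity of the transfer. -/
theorem transfer_trans {Pp : Type*} [Group Pp] [Finite Pp] {S R : Subgroup Pp} (hSR : S ≤ R) (φ₀ : ↥S →* A) (a : Pp) :
    MonoidHom.transfer φ₀ a =
      MonoidHom.transfer (MonoidHom.transfer (φ₀.comp (Subgroup.subgroupOfEquivOfLe hSR).toMonoidHom)) a := by
  classical
  set ψ := φ₀.comp (Subgroup.subgroupOfEquivOfLe hSR).toMonoidHom with hψ
  have := Fintype.ofFinite (Pp ⧸ R)
  have := Fintype.ofFinite (R ⧸ S.subgroupOf R)
  have := Fintype.ofFinite (Pp ⧸ S)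
  let t : Pp ⧸ R → Pp := Quotient.out
  let s : R ⧸ S.subgroupOf R → R := Quotient.out
  have ht : ∀ j, (t j : Pp ⧸ R) = j := QuotientGroup.out_eq'
  have hs : ∀ i, (s i : R ⧸ S.subgroupOf R) = i := QuotientGroup.out_eq'
  have hmk : ∀ b c : Pp, (b : Pp ⧸ S) = c → (b : Pp ⧸ R) = c :=
    fun b c h => QuotientGroup.eq.mpr (hSR (QuotientGroup.eq.mp h))
  have hmkR : ∀ (j : Pp ⧸ R) (r : R), ((t j * r : Pp) : Pp ⧸ R) = j :=
    fun j r => (QuotientGroup.mk_mul_of_mem _ r.2).trans (ht j)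
  let e : (Pp ⧸ R) × (R ⧸ S.subgroupOf R) ≃ Pp ⧸ S :=
    Equiv.ofBijective (fun ji => ((t ji.1 * (s ji.2 : Pp) : Pp) : Pp ⧸ S))
      (by
        constructor
        · rintro ⟨j, i⟩ ⟨j', i'⟩ heq
          have hj : j = j' := by
            have := hmk _ _ heq
            rwa [hmkR, hmkR] at this
          subst hj
          refine Prod.ext rfl ?_
          have h2 := QuotientGroup.eq.mp heq
          rw [mul_inv_rev, mul_assoc, inv_mul_cancel_left] at h2
          exact (hs i).symm.trans ((QuotientGroup.eq.mpr (show (s i)⁻¹ * s i' ∈ S.subgroupOf R from h2)).trans (hs i'))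
        · intro q
          induction q using QuotientGroup.induction_on with
          | H b =>
            have hr : (t (b : Pp ⧸ R))⁻¹ * b ∈ R := QuotientGroup.eq.mp (ht _)
            refine ⟨((b : Pp ⧸ R), ((⟨_, hr⟩ : R) : R ⧸ S.subgroupOf R)), ?_⟩
            refine QuotientGroup.eq.mpr ?_
            have h2 : ((s ((⟨_, hr⟩ : R) : R ⧸ S.subgroupOf R))⁻¹ * ⟨_, hr⟩ : R) ∈ S.subgroupOf R :=
              QuotientGroup.eq.mp (hs _)
            rw [mul_inv_rev, mul_assoc]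
            exact h2)
  let f : Pp ⧸ S → Pp := fun q => t (e.symm q).1 * (s (e.symm q).2 : Pp)
  rw [transfer_eq_prod_section _ f (fun q => e.apply_symm_apply q), transfer_eq_prod_section _ t ht,
    ← e.prod_comp, Fintype.prod_prod_type]
  refine Finset.prod_congr rfl fun j _ => ?_
  have hk : (t (a • j))⁻¹ * a * t j ∈ R := by
    rw [mul_assoc, ← QuotientGroup.eq, ht]
    show a • j = ((a * t j : Pp) : Pp ⧸ R)
    conv_lhs => rw [← ht j]
    rfl
  set k : R := ⟨_, hk⟩ with hkdef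
  rw [ext_of_mem _ hk, transfer_eq_prod_section ψ s hs]
  refine Finset.prod_congr rfl fun i _ => ?_
  have hsmul : a • e (j, i) = e (a • j, k • i) := by
    show ((a * (t j * (s i : Pp)) : Pp) : Pp ⧸ S) =
      ((t (a • j) * (s (k • i) : Pp) : Pp) : Pp ⧸ S)
    rw [QuotientGroup.eq]
    have h2 : ((k * s i)⁻¹ * s (k • i) : R) ∈ S.subgroupOf R := by
      rw [← QuotientGroup.eq, hs]
      conv_rhs => rw [← hs i]
      rfl
    have h3 : (((k * s i)⁻¹ * s (k • i) : R) : Pp) ∈ S := h2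
    convert h3 using 1
    simp only [Subgroup.coe_mul, Subgroup.coe_inv, hkdef]
    group
  have hmemR : (s (k • i))⁻¹ * k * s i ∈ S.subgroupOf R := by
    rw [mul_assoc, ← QuotientGroup.eq, hs]
    conv_lhs => rw [← hs i]
    rfl
  have hfe : ∀ ji, f (e ji) = t ji.1 * (s ji.2 : Pp) := fun ji => by
    simp only [f, Equiv.symm_apply_apply]
  rw [hsmul, hfe, hfe, ext_of_mem ψ hmemR]
  show ext φ₀ _ = φ₀ _
  rw [← ext_of_mem]
  congr 1
  show _ = ((((s (k • i))⁻¹ * k * s i : R)) : Pp)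
  simp only [Subgroup.coe_mul, Subgroup.coe_inv, hkdef]
  group

/-- The transfer through a subgroup of index `p`. -/
theorem index_prime_transfer {R : Type*} [Group R] [Finite R] {p : ℕ} [hp : Fact p.Prime] (hA : ∀ a : A, a ^ p = 1)
    {S : Subgroup R} [S.Normal] (hidx : S.index = p) (ψ : S →* A) {z : R} (hz : z ∉ S)
    (hcomm : ∀ u ∈ S, ext ψ ((fun y => y⁻¹ * z⁻¹ * y * z)^[p - 1] u) = 1) :
    (∀ u ∈ S, MonoidHom.transfer ψ u = 1) ∧ (∀ c, c ∉ S → MonoidHom.transfer ψ c = ext ψ (c ^ p)) := by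
  classical
  have := Fintype.ofFinite (R ⧸ S)
  have hQ : Nat.card (R ⧸ S) = p := hidx
  have hbij : ∀ c : R, c ∉ S → Function.Bijective (fun i : Fin p => ((c ^ (i : ℕ) : R) : R ⧸ S)) := by
    intro c hc
    have hord : orderOf (c : R ⧸ S) = p :=
      ((Nat.dvd_prime hp.out).mp (hQ ▸ orderOf_dvd_natCard _)).resolve_left
        (fun h => hc ((QuotientGroup.eq_one_iff c).mp (orderOf_eq_one_iff.mp h)))
    rw [Nat.bijective_iff_injective_and_card]
    refine ⟨fun i j h => Fin.ext (pow_injOn_Iio_orderOf (x := (c : R ⧸ S)) ?_ ?_ ?_), ?_⟩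
    · simp [hord]
    · simp [hord]
    · simpa using h
    · rw [Nat.card_fin, hQ]
  constructor
  · intro u hu
    let e := Equiv.ofBijective _ (hbij z hz)
    have hf : ∀ q, ((z ^ ((e.symm q : Fin p) : ℕ) : R) : R ⧸ S) = q := fun q => e.apply_symm_apply q
    have hfix : ∀ q : R ⧸ S, u • q = q := by
      intro q
      induction q using QuotientGroup.induction_on with
      | H a =>
        show ((u * a : R) : R ⧸ S) = (a : R ⧸ S)
        rw [QuotientGroup.mk_mul, (QuotientGroup.eq_one_iff u).mpr hu, one_mul]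
    rw [transfer_eq_prod_section ψ _ hf]
    simp only [hfix]
    rw [← e.prod_comp, ]
    simp only [Equiv.symm_apply_apply]
    rw [Fin.prod_univ_eq_prod_range (fun i => ext ψ ((z ^ i)⁻¹ * u * z ^ i)) p]
    refine prod_range_eq_one hA _ fun n => ?_
    set cm := fun y : R => y⁻¹ * z⁻¹ * y * z with hcm
    have hconj : ∀ w ∈ S, ∀ i : ℕ, (z ^ i)⁻¹ * w * z ^ i ∈ S := fun w hw i => by
      simpa using (inferInstance : S.Normal).conj_mem w hw (z ^ i)⁻¹
    have hmemk : ∀ k, cm^[k] u ∈ S := by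
      intro k
      induction k with
      | zero => exact hu
      | succ k ih =>
        rw [Function.iterate_succ_apply']
        show (cm^[k] u)⁻¹ * z⁻¹ * (cm^[k] u) * z ∈ S
        have := mul_mem (inv_mem ih) (hconj _ ih 1)
        simpa [mul_assoc] using this
    have hk : ∀ k i, (fun f : ℕ → A => fun n => (f n)⁻¹ * f (n + 1))^[k]
        (fun i => ext ψ ((z ^ i)⁻¹ * u * z ^ i)) i = ext ψ ((z ^ i)⁻¹ * cm^[k] u * z ^ i) := by
      intro k
      induction k with
      | zero => intro i; rfl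
      | succ k ih =>
        intro i
        rw [Function.iterate_succ_apply', Function.iterate_succ_apply']
        simp only [ih]
        rw [← ext_inv ψ (hconj _ (hmemk k) i), ← ext_mul ψ (inv_mem (hconj _ (hmemk k) i)) (hconj _ (hmemk k) (i + 1))]
        congr 1
        simp only [hcm, pow_succ]
        group
    have hcj : ∀ k, cm^[k] ((z ^ n)⁻¹ * u * z ^ n) = (z ^ n)⁻¹ * cm^[k] u * z ^ n := by
      intro k
      induction k with
      | zero => rfl
      | succ k ih =>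
        rw [Function.iterate_succ_apply', ih, Function.iterate_succ_apply']
        have hzc : ((z ^ n) * z⁻¹) = z⁻¹ * z ^ n := ((Commute.refl z).pow_left n).inv_right.eq
        have hzc' : (z ^ n) * z = z * z ^ n := ((Commute.refl z).pow_left n).eq
        simp only [hcm]
        calc ((z ^ n)⁻¹ * cm^[k] u * z ^ n)⁻¹ * z⁻¹ * ((z ^ n)⁻¹ * cm^[k] u * z ^ n) * z
            = (z ^ n)⁻¹ * (cm^[k] u)⁻¹ * (z ^ n * z⁻¹) * (z ^ n)⁻¹ * cm^[k] u * (z ^ n * z) := by group
          _ = (z ^ n)⁻¹ * ((cm^[k] u)⁻¹ * z⁻¹ * cm^[k] u * z) * z ^ n := by rw [hzc, hzc']; group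
    rw [hk, ← hcj]
    exact hcomm _ (hconj u hu n)
  · intro c hc
    let e := Equiv.ofBijective _ (hbij c hc)
    have hf : ∀ q, ((c ^ ((e.symm q : Fin p) : ℕ) : R) : R ⧸ S) = q := fun q => e.apply_symm_apply q
    rw [transfer_eq_prod_section ψ _ hf, ← e.prod_comp]
    simp only [Equiv.symm_apply_apply]
    have hlast : p - 1 < p := by have := hp.out.two_le; omega
    have hcp : (c ^ p : R) ∈ S := by
      rw [← QuotientGroup.eq_one_iff, QuotientGroup.mk_pow, ← hQ, pow_card_eq_one']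
    have hnext : ∀ i : Fin p, c • e i = ((c ^ ((i : ℕ) + 1) : R) : R ⧸ S) := fun i => by
      rw [pow_succ']
      rfl
    rw [Fintype.prod_eq_single (⟨p - 1, hlast⟩ : Fin p)]
    · have h0 : e.symm (c • e ⟨p - 1, hlast⟩) = ⟨0, hp.out.pos⟩ := by
        rw [Equiv.symm_apply_eq, hnext]
        show ((c ^ (p - 1 + 1) : R) : R ⧸ S) = ((c ^ 0 : R) : R ⧸ S)
        rw [Nat.sub_add_cancel hp.out.one_le, pow_zero, QuotientGroup.mk_one]
        exact (QuotientGroup.eq_one_iff _).mpr hcp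
      rw [h0]
      congr 1
      rw [pow_zero, inv_one, one_mul, ← pow_succ', Nat.sub_add_cancel hp.out.one_le]
    · intro i hi
      have hi' : (i : ℕ) + 1 < p := by
        have := i.2
        have : (i : ℕ) ≠ p - 1 := fun h => hi (Fin.ext h)
        omega
      have h0 : e.symm (c • e i) = ⟨(i : ℕ) + 1, hi'⟩ := by
        rw [Equiv.symm_apply_eq, hnext]
        rfl
      rw [h0]
      rw [show (c ^ ((i : ℕ) + 1))⁻¹ * c * c ^ (i : ℕ) = 1 by rw [mul_assoc, ← pow_succ', inv_mul_cancel]]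
      exact ext_one ψ


/-- The key consequence of the hypothesis on iterated commutators. -/
theorem good_kills [Finite G] {p : ℕ} [hp : Fact p.Prime] (P : Sylow p G) {Q : Subgroup G}
    (hQ : Cfsg.IsWeaklyClosed Q (P : Subgroup G)) (h : Good p P Q) (hA : ∀ a : A, a ^ p = 1)
    {T : Subgroup (P : Subgroup G)} (S₀ : Subgroup T) [S₀.Normal] (hidx : S₀.index = p) (ψ₀ : S₀ →* A)
    (hQT : ∀ q (hq : q ∈ Q), (⟨q, hQ.1 hq⟩ : (P : Subgroup G)) ∈ T) (z : T)
    (hzQ : (z : (P : Subgroup G)) ∈ Q.subgroupOf (P : Subgroup G)) (hzS : z ∉ S₀)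
    (hPN : (P : Subgroup G) ≤ Subgroup.normalizer (Q : Set G)) :
    ∀ u ∈ S₀, ext ψ₀ ((fun y => y⁻¹ * z⁻¹ * y * z)^[p - 1] u) = 1 := by
  intro u hu
  let j : ↥Q →* T :=
    { toFun := fun q => ⟨⟨q, hQ.1 q.2⟩, hQT q q.2⟩
      map_one' := rfl
      map_mul' := fun _ _ => rfl }
  set zq : ↥Q := ⟨((z : (P : Subgroup G)) : G), hzQ⟩ with hzq
  have hjz : j zq = z := rfl
  set W₀ := S₀.comap j with hW₀
  have hW₀c : IsCoatom W₀ := by
    refine isCoatom_of_index_prime hp.out ?_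
    rw [hW₀, Subgroup.index_comap]
    refine ((Nat.dvd_prime hp.out).mp ((Subgroup.relIndex_dvd_index_of_normal S₀ j.range).trans hidx.dvd)).resolve_left fun e => ?_
    exact hzS (Subgroup.relIndex_eq_one.mp e ⟨zq, hjz⟩)
  set cm := fun y : T => y⁻¹ * z⁻¹ * y * z with hcm
  have hmemS : ∀ k, cm^[k] u ∈ S₀ := by
    intro k
    induction k with
    | zero => exact hu
    | succ k ih =>
      rw [Function.iterate_succ_apply']
      have := S₀.mul_mem (S₀.inv_mem ih) ((inferInstance : S₀.Normal).conj_mem _ ih z⁻¹)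
      simpa [hcm, mul_assoc] using this
  have key : ∀ k, (((cm^[k] u : T) : (P : Subgroup G)) : G) =
      (fun y : G => y⁻¹ * ((zq : G))⁻¹ * y * (zq : G))^[k] (((u : T) : (P : Subgroup G)) : G) := by
    intro k
    induction k with
    | zero => rfl
    | succ k ih => rw [Function.iterate_succ_apply', Function.iterate_succ_apply', ← ih]; rfl
  obtain ⟨n, hn⟩ := Nat.exists_eq_succ_of_ne_zero (show p - 1 ≠ 0 by have := hp.out.two_le; omega)
  have hvQ : (((cm^[p - 1] u : T) : (P : Subgroup G)) : G) ∈ Q := by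
    rw [hn, Function.iterate_succ_apply']
    set y := cm^[n] u
    have := Q.mul_mem ((Subgroup.mem_normalizer_iff.mp (hPN ((y : (P : Subgroup G))⁻¹).2) _).mp (Q.inv_mem zq.2)) zq.2
    simpa [hcm, hzq, mul_assoc] using this
  have hjv : j ⟨_, hvQ⟩ = cm^[p - 1] u := rfl
  have hv₀ : (⟨_, hvQ⟩ : ↥Q) ∈ W₀ := by
    show j _ ∈ S₀
    rw [hjv]; exact hmemS _
  have hg := h _ ((u : T) : (P : Subgroup G)).2 _ zq.2 W₀ hW₀c (by rw [← key]; exact ⟨_, hv₀, rfl⟩)
  rw [← key] at hg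
  obtain ⟨_, ⟨w, hw, rfl⟩, hwv⟩ := hg
  rw [ext_of_mem _ (hmemS _)]
  let f : ↥W₀ →* A := ψ₀.comp ((j.comp W₀.subtype).codRestrict S₀ fun w => w.2)
  have h1 : f w = 1 := frattini_le_ker hA f hw
  refine Eq.trans (congrArg ψ₀ (Subtype.ext ?_)) h1
  exact Subtype.ext (Subtype.ext hwv.symm)

/-- Every homomorphism of the normalizer into a group of exponent `p` agrees with its transfer on `P`. -/
theorem transfer_eq [Finite G] {p : ℕ} [hp : Fact p.Prime] (P : Sylow p G) {Q H : Subgroup G}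
    (hQ : Cfsg.IsWeaklyClosed Q (P : Subgroup G)) (hPH : (P : Subgroup G) ≤ H) (hPN : (P : Subgroup G) ≤ Subgroup.normalizer (Q : Set G))
    (hself : ∀ g : G, (∀ y ∈ Q, g⁻¹ * y * g ∈ H) → g ∈ H)
    (h : Good p P Q)
    (hA : ∀ a : A, a ^ p = 1) (φ : ↥H →* A) {x : G} (hx : x ∈ (P : Subgroup G)) :
    MonoidHom.transfer φ x = ext φ x := by
  classical
  induction hn : orderOf x using Nat.strong_induction_on generalizing x with
  | _ n ih =>
  subst hn
  have hp1 := hp.out.one_lt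
  have : Fintype (MulAction.orbitRel.Quotient (P : Subgroup G) (G ⧸ H)) := Fintype.ofFinite _
  show MonoidHom.transfer φ ((⟨x, hx⟩ : (P : Subgroup G)) : G) = _
  rw [transfer_eq_prod_orbits φ (P : Subgroup G) ⟨x, hx⟩]
  let O₁ : MulAction.orbitRel.Quotient (P : Subgroup G) (G ⧸ H) := ⟦((1 : G) : G ⧸ H)⟧
  rw [Fintype.prod_eq_single O₁]
  · set g := Quotient.out (Quotient.out O₁ : G ⧸ H) with hg
    have hgH : g ∈ H := by
      have h1 : (Quotient.out O₁ : G ⧸ H) ∈ MulAction.orbit (P : Subgroup G) ((1 : G) : G ⧸ H) :=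
        MulAction.orbitRel_apply.mp (Quotient.exact (Quotient.out_eq O₁))
      obtain ⟨a, ha⟩ := h1
      have h2 : ((g : G) : G ⧸ H) = (((a : G) * 1 : G) : G ⧸ H) := (QuotientGroup.out_eq' _).trans ha.symm
      rw [mul_one, QuotientGroup.eq] at h2
      have := mul_mem (hPH a.2) (inv_mem h2)
      simpa using this
    set S := MulAction.stabilizer (P : Subgroup G) (g : G ⧸ H) with hS
    have hS1 : ∀ a : (P : Subgroup G), a ∈ S := fun a => by
      show (((a : G) * g : G) : G ⧸ H) = (g : G ⧸ H)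
      rw [QuotientGroup.eq]
      exact mul_mem (inv_mem (mul_mem (hPH a.2) hgH)) hgH
    have := Fintype.ofFinite ((P : Subgroup G) ⧸ S)
    rw [transfer_eq_prod_section _ (fun _ => 1) (fun q => by
      induction q using QuotientGroup.induction_on with
      | H a => exact QuotientGroup.eq.mpr (hS1 _))]
    rw [Fintype.prod_eq_single ((1 : (P : Subgroup G)) : (P : Subgroup G) ⧸ S)]
    · rw [inv_one, one_mul, mul_one, ext_of_mem _ (hS1 _), conjHom_apply]
      have hgx : g⁻¹ * x * g = g⁻¹ * x * g := rfl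
      rw [ext_mul φ (mul_mem (inv_mem hgH) (hPH hx)) hgH, ext_mul φ (inv_mem hgH) (hPH hx), ext_inv φ hgH,
        mul_comm (ext φ g)⁻¹, inv_mul_cancel_right]
    · intro q hq
      refine absurd ?_ hq
      induction q using QuotientGroup.induction_on with
      | H a => exact QuotientGroup.eq.mpr (hS1 _)
  intro O hO
  set g := Quotient.out (Quotient.out O : G ⧸ H) with hg
  set S := MulAction.stabilizer (P : Subgroup G) (g : G ⧸ H) with hS
  set QP := Q.subgroupOf (P : Subgroup G) with hQP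
  have hQPn : QP.Normal := (Subgroup.normal_subgroupOf_iff_le_normalizer hQ.1).mpr hPN
  have hconjS : ∀ a : (P : Subgroup G), a ∈ S → g⁻¹ * (a : G) * g ∈ H := fun a ha => by
    have h2 : ((((a : G)) * g : G) : G ⧸ H) = (g : G ⧸ H) := ha
    rw [QuotientGroup.eq] at h2
    convert inv_mem h2 using 1
    group
  have hnle : ¬ QP ≤ S := by
    intro hle
    refine hO ?_
    have hgH : g ∈ H := hself g fun y hy => hconjS ⟨y, hQ.1 hy⟩ (hle hy)
    rw [← Quotient.out_eq O, ← QuotientGroup.out_eq' (Quotient.out O : G ⧸ H)]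
    show (⟦((g : G) : G ⧸ H)⟧ : MulAction.orbitRel.Quotient (P : Subgroup G) (G ⧸ H)) = O₁
    rw [show ((g : G) : G ⧸ H) = ((1 : G) : G ⧸ H) from QuotientGroup.eq.mpr (by simpa using hgH)]
  -- the elements of smaller order are killed
  have hkill : ∀ (w : (P : Subgroup G)) (hw : w ∈ S), orderOf (w : G) < orderOf x → (∃ v : G, (w : G) = v ^ p) →
      conjHom φ (P : Subgroup G) g ⟨w, hw⟩ = 1 := by
    intro w hw hlt0 hpow
    rw [conjHom_apply]
    set y := g⁻¹ * (w : G) * g with hy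
    have hyH : y ∈ H := hconjS w hw
    have hyp : IsPGroup p (Subgroup.zpowers (⟨y, hyH⟩ : H)) := by
      obtain ⟨j, hj⟩ := IsPGroup.iff_orderOf.mp P.2 w
      rw [← Subgroup.orderOf_coe] at hj
      refine IsPGroup.of_card (n := j) ?_
      rw [Nat.card_zpowers, Subgroup.orderOf_mk, show y = MulAut.conj g⁻¹ (w : G) by rw [MulAut.conj_apply, inv_inv],
        MulEquiv.orderOf_eq, hj]
    obtain ⟨T, hT⟩ := hyp.exists_le_sylow
    obtain ⟨r, hr⟩ := MulAction.exists_smul_eq H T (P.subtype hPH)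
    have h2 : r * ⟨y, hyH⟩ * r⁻¹ ∈ ((r • T : Sylow p H) : Subgroup H) := by
      rw [Sylow.coe_subgroup_smul]
      exact ⟨_, hT (Subgroup.mem_zpowers _), rfl⟩
    rw [hr] at h2
    have hy' : (r : G) * y * (r : G)⁻¹ ∈ (P : Subgroup G) := h2
    have e : (r : G) * y * (r : G)⁻¹ = MulAut.conj ((r : G) * g⁻¹) (w : G) := by
      rw [hy, MulAut.conj_apply]; group
    have hlt : orderOf ((r : G) * y * (r : G)⁻¹) < orderOf x := by rwa [e, MulEquiv.orderOf_eq]
    have h3 := ih _ hlt hy' rfl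
    rw [ext_mul φ (mul_mem r.2 hyH) (inv_mem r.2), ext_mul φ r.2 hyH, ext_inv φ r.2,
      mul_comm (ext φ (r : G)), mul_inv_cancel_right, e, MulAut.conj_apply, map_mul, map_mul, map_inv,
      mul_comm (MonoidHom.transfer φ ((r : G) * g⁻¹)), mul_inv_cancel_right] at h3
    obtain ⟨v, hv⟩ := hpow
    rw [← h3, hv, map_pow, hA]
  set T := S ⊔ QP with hT
  have hST : S ≤ T := le_sup_left
  have hne : S.subgroupOf T ≠ ⊤ := fun e => hnle (le_sup_right.trans (Subgroup.subgroupOf_eq_top.mp e))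
  obtain ⟨S₀, hS₀, hSS₀⟩ := (eq_top_or_exists_le_coatom (S.subgroupOf T)).resolve_left hne
  have hTp : IsPGroup p ↥T := P.2.to_subgroup T
  obtain ⟨hS₀n, hidx⟩ := coatom_data hTp hS₀
  obtain ⟨z, hzQ, hzS⟩ : ∃ z : ↥T, (z : (P : Subgroup G)) ∈ QP ∧ z ∉ S₀ := by
    by_contra hcon
    push Not at hcon
    refine hS₀.1 (eq_top_iff.mpr fun t _ => ?_)
    obtain ⟨s, hs, q, hq, e⟩ := Subgroup.mem_sup_of_normal_right.mp t.2
    have : t = ⟨s, hST hs⟩ * ⟨q, Subgroup.mem_sup_right hq⟩ := Subtype.ext e.symm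
    rw [this]
    exact S₀.mul_mem (hSS₀ hs) (hcon _ hq)
  let ψ : S.subgroupOf T →* A :=
    (conjHom φ (P : Subgroup G) g).comp (Subgroup.subgroupOfEquivOfLe hST).toMonoidHom
  let ψ₀ : S₀ →* A := MonoidHom.transfer (ψ.comp (Subgroup.subgroupOfEquivOfLe hSS₀).toMonoidHom)
  obtain ⟨hT1, hT2⟩ := index_prime_transfer hA hidx ψ₀ (z := z) hzS (good_kills P hQ h hA S₀ hidx ψ₀
    (fun q hq => Subgroup.mem_sup_right (show (⟨q, hQ.1 hq⟩ : (P : Subgroup G)) ∈ QP from hq))
    z hzQ hzS hPN)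
  rw [transfer_trans hST (conjHom φ (P : Subgroup G) g)]
  have := Fintype.ofFinite (Quotient (MulAction.orbitRel (Subgroup.zpowers (⟨x, hx⟩ : (P : Subgroup G))) ((P : Subgroup G) ⧸ T)))
  rw [MonoidHom.transfer_eq_prod_quotient_orbitRel_zpowers_quot]
  refine Finset.prod_eq_one fun q _ => ?_
  set m := Function.minimalPeriod ((⟨x, hx⟩ : (P : Subgroup G)) • ·) q.out
  set b := (q.out.out : (P : Subgroup G))
  set c : T := ⟨b⁻¹ * (⟨x, hx⟩ : (P : Subgroup G)) ^ m * b,
    QuotientGroup.out_conj_pow_minimalPeriod_mem T (⟨x, hx⟩ : (P : Subgroup G)) q.out⟩ with hcdef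
  show MonoidHom.transfer ψ c = 1
  rw [transfer_trans hSS₀ ψ]
  show MonoidHom.transfer ψ₀ c = 1
  by_cases hcS : c ∈ S₀
  · exact hT1 c hcS
  rw [hT2 c hcS]
  have hcp : c ^ p ∈ S₀ := by
    rw [← QuotientGroup.eq_one_iff, QuotientGroup.mk_pow]
    exact orderOf_dvd_iff_pow_eq_one.mp ((orderOf_dvd_natCard _).trans hidx.dvd)
  rw [ext_of_mem _ hcp]
  set cG : G := ((c : (P : Subgroup G)) : G) with hcG
  have hc1 : cG ≠ 1 := fun e => hcS (by
    rw [show c = 1 from Subtype.ext (Subtype.ext e)]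
    exact one_mem _)
  have hord : orderOf (cG ^ p) < orderOf x := by
    have h1 : orderOf cG ∣ orderOf x := by
      have e : cG = MulAut.conj (b : G)⁻¹ (x ^ m) := by
        rw [hcG, hcdef, MulAut.conj_apply, inv_inv]
        rfl
      rw [e, MulEquiv.orderOf_eq]
      exact orderOf_pow_dvd m
    obtain ⟨j, hj⟩ := IsPGroup.iff_orderOf.mp P.2 (c : (P : Subgroup G))
    rw [← Subgroup.orderOf_coe, ← hcG] at hj
    have hj0 : j ≠ 0 := fun e => hc1 (orderOf_eq_one_iff.mp (by rw [hj, e, pow_zero]))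
    rw [orderOf_pow, hj, Nat.gcd_eq_right (dvd_pow_self p hj0)]
    exact lt_of_lt_of_le (Nat.div_lt_self (pow_pos hp.out.pos _) hp1)
      (Nat.le_of_dvd (orderOf_pos x) (hj ▸ h1))
  show MonoidHom.transfer _ (⟨c ^ p, hcp⟩ : S₀) = 1
  have := Fintype.ofFinite (Quotient (MulAction.orbitRel (Subgroup.zpowers (⟨c ^ p, hcp⟩ : S₀)) (↥S₀ ⧸ (S.subgroupOf T).subgroupOf S₀)))
  rw [MonoidHom.transfer_eq_prod_quotient_orbitRel_zpowers_quot]
  refine Finset.prod_eq_one fun o _ => ?_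
  have hgen : ∀ (e : S₀) (k : ℕ),
      orderOf ((((e⁻¹ * (⟨c ^ p, hcp⟩ : S₀) ^ k * e : S₀) : T) : (P : Subgroup G)) : G) ∣ orderOf (cG ^ p) ∧
      ∃ v : G, ((((e⁻¹ * (⟨c ^ p, hcp⟩ : S₀) ^ k * e : S₀) : T) : (P : Subgroup G)) : G) = v ^ p := by
    intro e k
    set eG : G := (((e : T) : (P : Subgroup G)) : G) with heG
    have heq : ((((e⁻¹ * (⟨c ^ p, hcp⟩ : S₀) ^ k * e : S₀) : T) : (P : Subgroup G)) : G) = (eG⁻¹ * cG ^ k * eG⁻¹⁻¹) ^ p := by
      rw [conj_pow, inv_inv, ← pow_mul, mul_comm k p, pow_mul]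
      push_cast
      rfl
    refine ⟨?_, _, heq⟩
    rw [heq, ← MulAut.conj_apply, ← map_pow, MulEquiv.orderOf_eq, ← pow_mul, mul_comm k p, pow_mul]
    exact orderOf_pow_dvd k
  exact hkill _ _ (lt_of_le_of_lt (Nat.le_of_dvd (orderOf_pos _) (hgen o.out.out _).1) hord) (hgen o.out.out _).2

/-- Tate's lifting: if all such homomorphisms extend, the residuals agree. -/
theorem pResidualOf_normalizer_eq [Finite G] {p : ℕ} [hp : Fact p.Prime] (P : Sylow p G) {Q : Subgroup G}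
    (hQ : Cfsg.IsWeaklyClosed Q (P : Subgroup G))
    (h : Good p P Q) :
    Cfsg.pResidualOf p (Subgroup.normalizer (Q : Set G)) =
      Cfsg.pResidual p G ⊓ Subgroup.normalizer (Q : Set G) := by
  classical
  obtain ⟨hPH, hself⟩ := normalizer_data P hQ
  set H := Subgroup.normalizer (Q : Set G) with hHdef
  set K := Cfsg.pResidual p G with hK
  refine le_antisymm (le_inf (CfsgLib.Transfer.map_pResidual_le H.subtype) (Subgroup.map_subtype_le _)) ?_
  by_contra hne
  set O := Cfsg.pResidual p H with hO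
  let π₁ := QuotientGroup.mk' O
  set KB := (K.subgroupOf H).map π₁ with hKB
  have hKBn : KB.Normal := Subgroup.Normal.map inferInstance _ (QuotientGroup.mk'_surjective O)
  have hKBne : KB ≠ ⊥ := by
    intro e
    rw [hKB, Subgroup.map_eq_bot_iff, QuotientGroup.ker_mk'] at e
    exact hne fun x hx => ⟨⟨x, hx.2⟩, e hx.1, rfl⟩
  obtain ⟨R, hRn, -, hZc, hZcen⟩ :=
    CfsgLib.exists_normal_maximal_below (CfsgLib.Transfer.isPGroup_quotient_pResidual (G := H) (p := p)) hKBne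
  let π : H →* (H ⧸ O) ⧸ R := (QuotientGroup.mk' R).comp π₁
  let W := (H ⧸ O) ⧸ R
  set Z : Subgroup W := KB.map (QuotientGroup.mk' R) with hZ
  have hWp : IsPGroup p W := CfsgLib.Transfer.isPGroup_quotient_pResidual.to_quotient R
  have hπKH : ∀ k : H, (k : G) ∈ K → π k ∈ Z := fun k hk => ⟨π₁ k, ⟨k, hk, rfl⟩, rfl⟩
  have hcent : ∀ w ∈ Z, ∀ v : W, v * w = w * v := fun w hw v => Subgroup.mem_center_iff.mp (hZcen hw) v
  -- the fibre product
  let Gh : Subgroup (G × W) :=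
    { carrier := {gw | ∃ h : H, gw.1 * (h : G)⁻¹ ∈ K ∧ (π h)⁻¹ * gw.2 ∈ Z}
      one_mem' := ⟨1, by simp, by simp⟩
      mul_mem' := by
        rintro ⟨g, w⟩ ⟨g', w'⟩ ⟨h₁, a1, b1⟩ ⟨h₂, a2, b2⟩
        refine ⟨h₁ * h₂, ?_, ?_⟩
        · show g * g' * ((h₁ : G) * (h₂ : G))⁻¹ ∈ K
          have := mul_mem a1 ((inferInstance : K.Normal).conj_mem _ a2 (h₁ : G))
          convert this using 1
          group
        · show (π (h₁ * h₂))⁻¹ * (w * w') ∈ Z
          have hc := hcent _ b1 (π h₂)⁻¹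
          have := mul_mem b1 b2
          convert this using 1
          rw [map_mul, mul_inv_rev, mul_assoc, ← mul_assoc (π h₁)⁻¹ w, ← mul_assoc, hc, mul_assoc]
      inv_mem' := by
        rintro ⟨g, w⟩ ⟨h₁, a1, b1⟩
        refine ⟨h₁⁻¹, ?_, ?_⟩
        · show g⁻¹ * ((h₁⁻¹ : H) : G)⁻¹ ∈ K
          rw [Subgroup.coe_inv, inv_inv]
          have := (inferInstance : K.Normal).conj_mem _ (inv_mem a1) g⁻¹
          convert this using 1
          group
        · show (π h₁⁻¹)⁻¹ * w⁻¹ ∈ Z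
          have hc := hcent _ (inv_mem b1) w
          rw [mul_inv_rev, inv_inv, mul_inv_cancel_left] at hc
          rw [map_inv, inv_inv]
          convert inv_mem b1 using 1
          rw [mul_inv_rev, inv_inv]
          conv_lhs => rw [hc, mul_inv_cancel_right] }
  -- a complement on top of the normalizer
  let fst : Gh →* G := (MonoidHom.fst G W).comp Gh.subtype
  have hfst : Function.Surjective fst := by
    intro g
    obtain ⟨a, ha, k, hk, rfl⟩ : g ∈ ((P : Subgroup G) : Set G) * (K : Set G) := by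
      rw [← Subgroup.mul_normal, CfsgLib.Transfer.sylow_sup_pResidual]
      trivial
    refine ⟨⟨(a * k, π ⟨a, hPH ha⟩), ⟨⟨a, hPH ha⟩, ?_, ?_⟩⟩, rfl⟩
    · exact (inferInstance : K.Normal).conj_mem k hk a
    · simp
  set Hh : Subgroup Gh := H.comap fst with hHh
  have hidx : Hh.index = H.index := Subgroup.index_comap_of_surjective H hfst
  have hval : ∀ v : Hh, (π ⟨fst v.1, v.2⟩)⁻¹ * v.1.1.2 ∈ Z := by
    intro v
    obtain ⟨h₁, a1, b1⟩ := v.1.2
    have h2 : (π ⟨fst v.1, v.2⟩ * (π h₁)⁻¹) ∈ Z := by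
      rw [← map_inv, ← map_mul]
      exact hπKH _ a1
    have hc := hcent _ (inv_mem h2)
    have := mul_mem b1 (inv_mem h2)
    rwa [show (π h₁)⁻¹ * v.1.1.2 * (π ⟨fst v.1, v.2⟩ * (π h₁)⁻¹)⁻¹ =
      (π ⟨fst v.1, v.2⟩)⁻¹ * v.1.1.2 by
        rw [mul_assoc, hc]; group] at this
  let _ : CommGroup Z := { (inferInstance : Group Z) with
    mul_comm := fun a b => Subtype.ext (hcent _ b.2 a) }
  let pr : Hh →* Z :=
    { toFun := fun v => ⟨_, hval v⟩
      map_one' := Subtype.ext (by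
        show (π ⟨fst (1 : Hh).1, (1 : Hh).2⟩)⁻¹ * (1 : W) = 1
        rw [mul_one, inv_eq_one]
        exact map_one π)
      map_mul' := fun v v' => by
        refine Subtype.ext ?_
        show (π ⟨fst (v * v').1, (v * v').2⟩)⁻¹ * (v.1.1.2 * v'.1.1.2) =
          (π ⟨fst v.1, v.2⟩)⁻¹ * v.1.1.2 * ((π ⟨fst v'.1, v'.2⟩)⁻¹ * v'.1.1.2)
        rw [show (⟨fst (v * v').1, (v * v').2⟩ : H) = ⟨fst v.1, v.2⟩ * ⟨fst v'.1, v'.2⟩ from Subtype.ext rfl,
          map_mul, mul_inv_rev]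
        have hc := hcent _ (hval v) (π ⟨fst v'.1, v'.2⟩)⁻¹
        rw [mul_assoc, ← mul_assoc (π ⟨fst v.1, v.2⟩)⁻¹, ← mul_assoc, hc, mul_assoc] }
  let V : Gh →* Z := MonoidHom.transfer pr
  have hZp : ∀ z : Z, z ^ p = 1 := fun z => orderOf_dvd_iff_pow_eq_one.mp ((orderOf_dvd_natCard z).trans hZc.dvd)
  have hZpg : IsPGroup p Z := hWp.to_subgroup Z
  have hVZ : ∀ (w : W) (hw : w ∈ Z) (hm : ((1 : G), w) ∈ Gh), V ⟨(1, w), hm⟩ = (⟨w, hw⟩ : Z) ^ H.index := by
    intro w hw hm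
    have hcen : ∀ v : Gh, v * ⟨(1, w), hm⟩ = ⟨(1, w), hm⟩ * v := fun v =>
      Subtype.ext (Prod.ext (show v.1.1 * 1 = 1 * v.1.1 by rw [mul_one, one_mul]) (hcent w hw v.1.2))
    have hcong : ∀ (k : ℕ) (g₀ : Gh), g₀⁻¹ * ⟨(1, w), hm⟩ ^ k * g₀ ∈ Hh →
        g₀⁻¹ * ⟨(1, w), hm⟩ ^ k * g₀ = ⟨(1, w), hm⟩ ^ k := fun k g₀ _ => by
      rw [mul_assoc, ← (Commute.pow_right (hcen g₀) k).eq, inv_mul_cancel_left]
    show MonoidHom.transfer pr _ = _
    rw [MonoidHom.transfer_eq_pow pr _ hcong, ← hidx]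
    have hm' : (⟨(1, w), hm⟩ : Gh) ∈ Hh := one_mem H
    refine (congrArg pr (show _ = (⟨_, hm'⟩ : Hh) ^ Hh.index from Subtype.ext rfl)).trans ?_
    rw [map_pow]
    congr 1
    refine Subtype.ext ?_
    show (π ⟨fst ⟨(1, w), hm⟩, hm'⟩)⁻¹ * w = w
    rw [show (⟨fst ⟨(1, w), hm⟩, hm'⟩ : H) = 1 from Subtype.ext rfl, map_one, inv_one, one_mul]
  let graph : H →* Gh :=
    { toFun := fun h₁ => ⟨((h₁ : G), π h₁), ⟨h₁, by simp, by simp⟩⟩
      map_one' := Subtype.ext (by simp)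
      map_mul' := fun a b => Subtype.ext (by simp) }
  let inK : K →* Gh :=
    { toFun := fun k => ⟨((k : G), 1), ⟨1, by simp, by simp⟩⟩
      map_one' := Subtype.ext (by simp)
      map_mul' := fun a b => Subtype.ext (by simp) }
  let θ : H →* Z := V.comp graph
  have hθK : ∀ k : H, ∀ hk : (k : G) ∈ K, θ k = ⟨π k, hπKH k hk⟩ ^ H.index := by
    intro k hk
    have hm : ((1 : G), π k) ∈ Gh := ⟨1, by simp, by simpa using hπKH k hk⟩
    have h1 : graph k = inK ⟨k, hk⟩ * ⟨(1, π k), hm⟩ := Subtype.ext (Prod.ext (mul_one _).symm (one_mul _).symm)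
    have h2 : V (inK ⟨k, hk⟩) = 1 := by
      have h3 := CfsgLib.Transfer.le_ker_of_isPGroup (p := p) hZpg (V.comp inK)
      rw [CfsgLib.Transfer.pResidual_pResidual] at h3
      exact h3 (Subgroup.mem_top _)
    show V (graph k) = _
    rw [h1, map_mul, h2, one_mul, hVZ _ (hπKH k hk)]
  have hθ1 : ∀ k : H, (k : G) ∈ K → θ k = 1 := by
    intro k hk
    obtain ⟨a, ha, o, ho, rfl⟩ : k ∈ (((P : Subgroup G).subgroupOf H : Subgroup H) : Set H) * (O : Set H) := by
      have h1 := CfsgLib.Transfer.sylow_sup_pResidual (P.subtype hPH)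
      rw [← Subgroup.mul_normal]
      rw [show (((P : Subgroup G).subgroupOf H) ⊔ O : Subgroup H) = ⊤ from h1]
      trivial
    have hoK : (o : G) ∈ K := CfsgLib.Transfer.map_pResidual_le H.subtype ⟨o, ho, rfl⟩
    have haK : (a : G) ∈ K := by
      have := mul_mem hk (inv_mem hoK)
      simpa using this
    have h1 : θ o = 1 := CfsgLib.Transfer.le_ker_of_isPGroup hZpg θ ho
    have h2 : θ a = 1 := by
      have h3 := transfer_eq P hQ hPH hPH hself h hZp θ ha
      rw [Subgroup.subtype_apply, ext_of_mem θ a.2] at h3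
      have h4 : MonoidHom.transfer θ (H.subtype a) = 1 := CfsgLib.Transfer.le_ker_of_isPGroup hZpg _ haK
      rw [Subgroup.subtype_apply] at h4
      rw [h4] at h3
      exact h3.symm
    rw [map_mul, h1, h2, one_mul]
  have hcop : ¬ p ∣ H.index := fun hd => P.not_dvd_index (hd.trans (Subgroup.index_dvd_of_le hPH))
  obtain ⟨w, hw⟩ : ∃ w : Z, w ≠ 1 := by
    have : Nontrivial Z := by rw [← Finite.one_lt_card_iff_nontrivial, hZc]; exact hp.out.one_lt
    exact exists_ne 1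
  obtain ⟨_, ⟨k, hk, rfl⟩, hkw⟩ := w.2
  have h1 := (hθK k hk).symm.trans (hθ1 k hk)
  rw [show (⟨π k, hπKH k hk⟩ : Z) = w from Subtype.ext hkw] at h1
  have h2 : w ^ Nat.gcd H.index p = 1 := pow_gcd_eq_one.mpr ⟨h1, hZp w⟩
  rw [(hp.out.coprime_iff_not_dvd.mpr hcop).symm.gcd_eq_one, pow_one] at h2
  exact hw h2

end CfsgLib.YoshidaTransfer
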