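import Mathlib

/-! The coset table of the `(2,3,5)` triangle presentation. -/

namespace CfsgLib.Triangle235

variable {G α : Type*} [Group G] [MulAction G α]

set_option linter.unusedSimpArgs false in
set_option linter.unusedVariables false in
theorem twelve (x y : G) (c0 : α) (hy0 : y • c0 = c0) (rxxx : ∀ q : α, x • x • x • q = q)
    (ryyyyy : ∀ q : α, y • y • y • y • y • q = q) (rxyxy : ∀ q : α, x • y • x • y • q = q) :
    ∃ S : Finset α, S.card ≤ 12 ∧ c0 ∈ S ∧ (∀ q ∈ S, x • q ∈ S) ∧ ∀ q ∈ S, y • q ∈ S := by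
  classical
  have ryxyx : ∀ q : α, y • x • y • x • q = q := fun q => smul_left_cancel x (rxyxy (x • q))
  have ey0 : y • c0 = c0 := hy0
  obtain ⟨c1, ex0⟩ : ∃ c, x • c0 = c := ⟨_, rfl⟩
  obtain ⟨c2, ex1⟩ : ∃ c, x • c1 = c := ⟨_, rfl⟩
  have ex2 : x • c2 = c0 := by
    have h := rxxx c0
    rwa [ex0, ex1] at h
  have ey1 : y • c1 = c2 := by
    have h := ryxyx c2
    rwa [ex2, ey0, ex0] at h
  obtain ⟨c3, ey2⟩ : ∃ c, y • c2 = c := ⟨_, rfl⟩
  obtain ⟨c4, ex3⟩ : ∃ c, x • c3 = c := ⟨_, rfl⟩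
  have ey4 : y • c4 = c1 := by
    have h := ryxyx c1
    rwa [ex1, ey2, ex3] at h
  obtain ⟨c5, ey3⟩ : ∃ c, y • c3 = c := ⟨_, rfl⟩
  have ey5 : y • c5 = c4 := by
    have h := ryyyyy c4
    rwa [ey4, ey1, ey2, ey3] at h
  obtain ⟨c6, ex4⟩ : ∃ c, x • c4 = c := ⟨_, rfl⟩
  have ex6 : x • c6 = c3 := by
    have h := rxxx c3
    rwa [ex3, ex4] at h
  obtain ⟨c7, ex5⟩ : ∃ c, x • c5 = c := ⟨_, rfl⟩
  have ey7 : y • c7 = c6 := by
    have h := ryxyx c6
    rwa [ex6, ey3, ex5] at h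
  obtain ⟨c8, ey6⟩ : ∃ c, y • c6 = c := ⟨_, rfl⟩
  have ex8 : x • c8 = c5 := by
    have h := rxyxy c5
    rwa [ey5, ex4, ey6] at h
  have ex7 : x • c7 = c8 := by
    have h := rxxx c8
    rwa [ex8, ex5] at h
  obtain ⟨c9, ey8⟩ : ∃ c, y • c8 = c := ⟨_, rfl⟩
  obtain ⟨c10, ex9⟩ : ∃ c, x • c9 = c := ⟨_, rfl⟩
  have ey10 : y • c10 = c7 := by
    have h := ryxyx c7
    rwa [ex7, ey8, ex9] at h
  have ey9 : y • c9 = c10 := by
    have h := ryyyyy c10
    rwa [ey10, ey7, ey6, ey8] at h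
  obtain ⟨c11, ex10⟩ : ∃ c, x • c10 = c := ⟨_, rfl⟩
  have ex11 : x • c11 = c9 := by
    have h := rxxx c9
    rwa [ex9, ex10] at h
  have ey11 : y • c11 = c11 := by
    have h := ryxyx c11
    rwa [ex11, ey9, ex10] at h
  refine ⟨[c0, c1, c2, c3, c4, c5, c6, c7, c8, c9, c10, c11].toFinset, (List.toFinset_card_le _).trans (by simp), by simp, fun q hq => ?_, fun q hq => ?_⟩ <;>
    (simp only [List.mem_toFinset, List.mem_cons, List.not_mem_nil, or_false] at hq
     rcases hq with rfl | rfl | rfl | rfl | rfl | rfl | rfl | rfl | rfl | rfl | rfl | rfl) <;>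
    simp [ex0, ex1, ex2, ex3, ex4, ex5, ex6, ex7, ex8, ex9, ex10, ex11, ey0, ey1, ey2, ey3, ey4, ey5, ey6, ey7, ey8, ey9, ey10, ey11]

open scoped Pointwise in
/-- A group generated by `x`, `y` and a central subgroup `C` modulo which the relations
`x³ = y⁵ = (xy)² = 1` hold has order at most `60 |C|`. -/
theorem card_le {G : Type*} [Group G] (x y : G) (C : Subgroup G) (hC : C ≤ Subgroup.center G) [Finite C]
    (hgen : ∀ T : Subgroup G, x ∈ T → y ∈ T → C ≤ T → T = ⊤) (hx : x ^ 3 ∈ C) (hy : y ^ 5 = 1)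
    (hxy : (x * y) ^ 2 ∈ C) : Finite G ∧ Nat.card G ≤ 60 * Nat.card C := by
  classical
  haveI hCn : C.Normal := ⟨fun c hc g => by rw [Subgroup.mem_center_iff.1 (hC hc) g, mul_inv_cancel_right]; exact hc⟩
  set H := Subgroup.zpowers y ⊔ C
  have hyfin : IsOfFinOrder y := isOfFinOrder_iff_pow_eq_one.2 ⟨5, by norm_num, hy⟩
  haveI : Finite (Subgroup.zpowers y) := hyfin.finite_zpowers.to_subtype
  have hyc : Nat.card (Subgroup.zpowers y) ≤ 5 := by
    rw [Nat.card_zpowers]; exact Nat.le_of_dvd (by norm_num) (orderOf_dvd_of_pow_eq_one hy)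
  have hHset : (H : Set G) = (Subgroup.zpowers y : Set G) * (C : Set G) := Subgroup.mul_normal _ _
  haveI hHfin : Finite H := by
    have : ((H : Set G)).Finite := hHset ▸ (Set.toFinite _).mul (Set.toFinite _)
    exact this.to_subtype
  have hHcard : Nat.card H ≤ 5 * Nat.card C := by
    have h1 : Nat.card H = Nat.card ((Subgroup.zpowers y : Set G) * (C : Set G) : Set G) := by
      rw [← hHset]; rfl
    rw [h1]
    exact Set.natCard_mul_le.trans (Nat.mul_le_mul hyc le_rfl)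
  have hCfix : ∀ c ∈ C, ∀ q : G ⧸ H, c • q = q := by
    intro c hc q
    induction q using QuotientGroup.induction_on with
    | _ g =>
      refine QuotientGroup.eq.2 ?_
      show (c * g)⁻¹ * g ∈ H
      rw [← Subgroup.mem_center_iff.1 (hC hc) g, mul_inv_rev, mul_assoc, inv_mul_cancel, mul_one]
      exact Subgroup.mem_sup_right (inv_mem hc)
  obtain ⟨S, hS, hc0, hSx, hSy⟩ := twelve x y ((1 : G) : G ⧸ H)
    (QuotientGroup.eq.2 (by
      show (y * 1)⁻¹ * 1 ∈ H
      rw [mul_one, mul_one]; exact Subgroup.mem_sup_left (inv_mem (Subgroup.mem_zpowers y))))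
    (fun q => by rw [smul_smul, smul_smul, show x * x * x = x ^ 3 by simp [pow_succ, mul_assoc]]; exact hCfix _ hx q)
    (fun q => by rw [smul_smul, smul_smul, smul_smul, smul_smul, show y * y * y * y * y = y ^ 5 by simp [pow_succ, mul_assoc], hy, one_smul])
    (fun q => by rw [smul_smul, smul_smul, smul_smul, show x * y * x * y = (x * y) ^ 2 by simp [pow_succ, mul_assoc]]; exact hCfix _ hxy q)
  let T := MulAction.stabilizer G S
  have hmem : ∀ g : G, (∀ q ∈ S, g • q ∈ S) → g ∈ T := by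
    intro g hg
    refine MulAction.mem_stabilizer_iff.2 (Finset.eq_of_subset_of_card_le ?_ ?_)
    · intro q hq
      obtain ⟨r, hr, rfl⟩ := Finset.mem_smul_finset.1 hq
      exact hg r hr
    · rw [Finset.card_smul_finset]
  have hT : T = ⊤ := hgen T (hmem x hSx) (hmem y hSy) fun c hc => hmem c fun q hq => by rw [hCfix c hc]; exact hq
  have hall : ∀ q : G ⧸ H, q ∈ S := by
    intro q
    induction q using QuotientGroup.induction_on with
    | _ g =>
      have h1 : g • S = S := MulAction.mem_stabilizer_iff.1 (hT ▸ Subgroup.mem_top g : g ∈ T)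
      rw [← h1, show ((g : G) : G ⧸ H) = g • ((1 : G) : G ⧸ H) from congrArg QuotientGroup.mk (mul_one g).symm]
      exact Finset.smul_mem_smul_finset hc0
  haveI : Finite (G ⧸ H) := Finite.of_finite_univ ((S.finite_toSet).subset fun q _ => hall q)
  have hQ : Nat.card (G ⧸ H) ≤ 12 := by
    haveI := Fintype.ofFinite (G ⧸ H)
    rw [Nat.card_eq_fintype_card, ← Finset.card_univ]
    exact (Finset.card_le_card fun q _ => hall q).trans hS
  refine ⟨Finite.of_equiv _ (Subgroup.groupEquivQuotientProdSubgroup (s := H)).symm, ?_⟩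
  rw [Subgroup.card_eq_card_quotient_mul_card_subgroup H]
  calc Nat.card (G ⧸ H) * Nat.card H ≤ 12 * (5 * Nat.card C) := Nat.mul_le_mul hQ hHcard
    _ = 60 * Nat.card C := by ring

end CfsgLib.Triangle235
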