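import Cfsg.Agent.Lib.Transfer
import Cfsg.Agent.Lib.CoprimeAbelian
import Mathlib.GroupTheory.SchurZassenhaus

/-!
Consequences of transfer: abelian Sylow subgroups, weakly closed central subgroups, small automizers.
-/

set_option autoImplicit false

open scoped commutatorElement

namespace CfsgLib.TransferApps

variable {G : Type*} [Group G] {p : ℕ}

theorem mem_smul_iff {P : Sylow p G} {g x : G} :
    x ∈ ((g • P : Sylow p G) : Subgroup G) ↔ g⁻¹ * x * g ∈ (P : Subgroup G) := by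
  rw [Sylow.coe_subgroup_smul, Subgroup.mem_pointwise_smul_iff_inv_smul_mem]
  simp [MulAut.conj_symm_apply]

/-- Two conjugates of a weakly closed subgroup in one `p`-subgroup coincide. -/
theorem eq_of_weaklyClosed [Finite G] [Fact p.Prime] (P : Sylow p G) {Z R : Subgroup G}
    (hW : Cfsg.IsWeaklyClosed Z (P : Subgroup G)) (hR : IsPGroup p R) (hZR : Z ≤ R) {g : G}
    (hg : ∀ z ∈ Z, g * z * g⁻¹ ∈ R) : g ∈ Subgroup.normalizer (Z : Set G) := by
  obtain ⟨T, hT⟩ := hR.exists_le_sylow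
  obtain ⟨k, hk⟩ := MulAction.exists_smul_eq G T P
  have hmove : ∀ x ∈ R, k * x * k⁻¹ ∈ (P : Subgroup G) := fun x hx => by
    rw [← hk, mem_smul_iff]
    simpa [mul_assoc] using hT hx
  have key : ∀ a : G, (∀ z ∈ Z, a * z * a⁻¹ ∈ R) → ∀ z, z ∈ Z ↔ k * a * z * (k * a)⁻¹ ∈ Z := by
    intro a ha z
    have h1 := hW.2 (k * a) (by
      rintro _ ⟨w, hw, rfl⟩
      have := hmove _ (ha w hw)
      show k * a * w * (k * a)⁻¹ ∈ (P : Subgroup G)
      simpa [mul_assoc] using this)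
    refine ⟨fun hz => h1.le ⟨z, hz, rfl⟩, fun hz => ?_⟩
    obtain ⟨w, hw, hwe⟩ := h1.ge hz
    exact (mul_left_cancel (mul_right_cancel hwe) : w = z) ▸ hw
  refine Subgroup.mem_normalizer_iff.mpr fun z => ?_
  rw [key g hg z, key 1 (by simpa using fun z hz => hZR hz) (g * z * g⁻¹)]
  rw [mul_one, mul_inv_rev]
  simp [mul_assoc]

/-- Elements of `P` conjugate in `G` are conjugate in `N(Z)`, `Z` central in `P` and weakly closed. -/
theorem exists_normalizer_conj [Finite G] [Fact p.Prime] (P : Sylow p G) {Z : Subgroup G}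
    (hW : Cfsg.IsWeaklyClosed Z (P : Subgroup G))
    (hZ : Z ≤ Subgroup.centralizer ((P : Subgroup G) : Set G)) {x : G} (hx : x ∈ (P : Subgroup G)) {g : G}
    (hg : g * x * g⁻¹ ∈ (P : Subgroup G)) :
    ∃ n ∈ Subgroup.normalizer (Z : Set G), n * x * n⁻¹ = g * x * g⁻¹ := by
  set y := g * x * g⁻¹ with hy
  set C := Subgroup.centralizer ({y} : Set G)
  have hZC : Z ≤ C := fun z hz => Subgroup.mem_centralizer_singleton_iff.mpr
    (Subgroup.mem_centralizer_iff.mp (hZ hz) y hg).symm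
  set Z' := Z.map (MulAut.conj g).toMonoidHom
  have hZ'C : Z' ≤ C := by
    rintro _ ⟨z, hz, rfl⟩
    refine Subgroup.mem_centralizer_singleton_iff.mpr ?_
    have h1 := Subgroup.mem_centralizer_iff.mp (hZ hz) x hx
    show g * z * g⁻¹ * y = y * (g * z * g⁻¹)
    calc g * z * g⁻¹ * y = g * (z * x) * g⁻¹ := by rw [hy]; group
      _ = _ := by rw [← h1, hy]; group
  have hZp : IsPGroup p Z := P.2.to_le hW.1
  obtain ⟨R, hR⟩ := (hZp.of_equiv (Subgroup.subgroupOfEquivOfLe hZC).symm).exists_le_sylow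
  obtain ⟨R', hR'⟩ :=
    ((hZp.map (MulAut.conj g).toMonoidHom).of_equiv (Subgroup.subgroupOfEquivOfLe hZ'C).symm).exists_le_sylow
  obtain ⟨c, hc⟩ := MulAction.exists_smul_eq C R' R
  refine ⟨(c : G) * g, eq_of_weaklyClosed P hW (R.2.map C.subtype)
    (fun z hz => ⟨⟨z, hZC hz⟩, hR hz, rfl⟩) fun z hz => ?_, ?_⟩
  · refine ⟨c * ⟨g * z * g⁻¹, hZ'C ⟨z, hz, rfl⟩⟩ * c⁻¹, ?_, by simp [mul_assoc]⟩
    rw [SetLike.mem_coe, ← hc, mem_smul_iff]
    simpa [mul_assoc] using hR' (show (⟨g * z * g⁻¹, hZ'C ⟨z, hz, rfl⟩⟩ : C) ∈ Z'.subgroupOf C from ⟨z, hz, rfl⟩)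
  · have hcy := Subgroup.mem_centralizer_singleton_iff.mp c.2
    calc (c : G) * g * x * ((c : G) * g)⁻¹ = c * y * (c : G)⁻¹ := by rw [hy]; group
      _ = y := by rw [hcy]; group

/-- Burnside: elements of an abelian Sylow subgroup conjugate in `G` are conjugate in its normalizer. -/
theorem exists_normalizer_conj_of_abelian [Finite G] [Fact p.Prime] (P : Sylow p G)
    (hP : IsMulCommutative (P : Subgroup G)) {x : G} (hx : x ∈ (P : Subgroup G)) {g : G}
    (hg : g * x * g⁻¹ ∈ (P : Subgroup G)) :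
    ∃ n ∈ Subgroup.normalizer ((P : Subgroup G) : Set G), n * x * n⁻¹ = g * x * g⁻¹ := by
  have hcomm : ∀ a ∈ (P : Subgroup G), ∀ b ∈ (P : Subgroup G), a * b * a⁻¹ = b := fun a ha b hb => by
    have := congrArg Subtype.val (hP.1.comm ⟨a, ha⟩ ⟨b, hb⟩)
    rw [mul_inv_eq_iff_eq_mul]
    exact this
  obtain ⟨n, hn, hne⟩ := CfsgLib.Transfer.exists_normalizer_conj_of_normal_subsets P {x} {g * x * g⁻¹}
    (fun a ha z hz => by rw [Set.mem_singleton_iff] at hz ⊢; rw [hz, hcomm a ha x hx])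
    (fun a ha z hz => by rw [Set.mem_singleton_iff] at hz ⊢; rw [hz, hcomm a ha _ hg])
    (g := g) (by simp)
  refine ⟨n, hn, ?_⟩
  simpa using hne

/-- A conjugate-controlled generator of the focal subgroup. -/
theorem commutator_eq_of_conj {x u n : G} (h : n * x⁻¹ * n⁻¹ = u * x⁻¹ * u⁻¹) : ⁅x, u⁆ = ⁅x, n⁆ := by
  rw [commutatorElement_def, commutatorElement_def, mul_assoc x u, mul_assoc x (u * x⁻¹), ← h,
    mul_assoc, mul_assoc, mul_assoc x n]

theorem conj_inv_mem {P : Subgroup G} {x u : G} (hx : x ∈ P) (h : ⁅x, u⁆ ∈ P) : u * x⁻¹ * u⁻¹ ∈ P := by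
  have := mul_mem (inv_mem hx) h
  rw [commutatorElement_def] at this
  convert this using 1
  group

/-- The focal subgroup when `N` controls the fusion of elements of `P`. -/
theorem focalSubgroup_le_of_control (P : Subgroup G) (N M : Subgroup G)
    (hc : ∀ x ∈ P, ∀ g : G, g * x * g⁻¹ ∈ P → ∃ n ∈ N, n * x * n⁻¹ = g * x * g⁻¹)
    (hM : ∀ x ∈ P, ∀ n ∈ N, ⁅x, n⁆ ∈ P → ⁅x, n⁆ ∈ M) : P.focalSubgroup ≤ M := by
  rw [Subgroup.focalSubgroup_def, Subgroup.closure_le]
  rintro _ ⟨hgP, x, hx, u, rfl⟩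
  obtain ⟨n, hn, hne⟩ := hc x⁻¹ (inv_mem hx) u (conj_inv_mem hx hgP)
  rw [commutator_eq_of_conj hne] at hgP ⊢
  exact hM x hx n hn hgP

theorem commutator_inf_sylow_eq_of_control [Finite G] [Fact p.Prime] (P : Sylow p G) (N : Subgroup G)
    (hc : ∀ x ∈ (P : Subgroup G), ∀ g : G, g * x * g⁻¹ ∈ (P : Subgroup G) → ∃ n ∈ N, n * x * n⁻¹ = g * x * g⁻¹)
    (hPN : (P : Subgroup G) ≤ N) :
    commutator G ⊓ (P : Subgroup G) = ⁅N, N⁆ ⊓ (P : Subgroup G) := by
  refine le_antisymm ?_ (inf_le_inf_right _ (Subgroup.commutator_mono le_top le_top))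
  rw [Subgroup.commutator_inf_eq_focalSubgroup P]
  exact focalSubgroup_le_of_control _ N _ hc fun x hx n hn h =>
    ⟨Subgroup.commutator_mem_commutator (hPN hx) hn, h⟩

theorem inf_pResidual_eq_of_abelian [Finite G] [Fact p.Prime] (T : Sylow p G)
    (hT : IsMulCommutative (T : Subgroup G)) :
    (T : Subgroup G) ⊓ Cfsg.pResidual p G =
      ⁅(T : Subgroup G), Subgroup.normalizer ((T : Subgroup G) : Set G)⁆ := by
  refine le_antisymm ((CfsgLib.Transfer.inf_pResidual_le_closure T).trans ?_) ?_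
  · rw [Subgroup.closure_le]
    rintro _ ⟨x, u, hx, -, rfl, hg⟩
    obtain ⟨n, hn, hne⟩ := exists_normalizer_conj_of_abelian T hT (inv_mem hx.1) (conj_inv_mem hx.1 hg.1)
    rw [commutator_eq_of_conj hne]
    exact Subgroup.commutator_mem_commutator hx.1 hn
  · refine le_inf ?_ ?_
    · rw [Subgroup.commutator_le]
      intro a ha b hb
      have := mul_mem ha ((Subgroup.mem_normalizer_iff.mp hb a⁻¹).mp (inv_mem ha))
      rw [commutatorElement_def]
      simpa [mul_assoc] using this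
    · refine (Subgroup.commutator_mono le_top le_top).trans ?_
      rw [← commutator_def]
      refine Subgroup.Normal.quotient_commutative_iff_commutator_le.mp ?_
      have hsurj : Function.Surjective ((QuotientGroup.mk' (Cfsg.pResidual p G)).comp (T : Subgroup G).subtype) := by
        intro q
        obtain ⟨g, rfl⟩ := QuotientGroup.mk'_surjective _ q
        have hg : g ∈ ((T : Subgroup G) ⊔ Cfsg.pResidual p G : Subgroup G) := by
          rw [CfsgLib.Transfer.sylow_sup_pResidual T]; trivial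
        rw [← SetLike.mem_coe, Subgroup.mul_normal] at hg
        obtain ⟨a, ha, k, hk, rfl⟩ := hg
        refine ⟨⟨a, ha⟩, ?_⟩
        show QuotientGroup.mk' _ a = QuotientGroup.mk' _ (a * k)
        rw [map_mul, show QuotientGroup.mk' (Cfsg.pResidual p G) k = 1 from (QuotientGroup.eq_one_iff k).mpr hk,
          mul_one]
      refine ⟨⟨fun a b => ?_⟩⟩
      obtain ⟨x, rfl⟩ := hsurj a
      obtain ⟨y, rfl⟩ := hsurj b
      rw [← map_mul, ← map_mul, hT.1.comm]

/-- A `p`-element normalizing a Sylow subgroup lies in it. -/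
theorem mem_sylow_of_mem_normalizer [Finite G] [Fact p.Prime] (P : Sylow p G) {x : G}
    (hx : x ∈ Subgroup.normalizer ((P : Subgroup G) : Set G)) (hp : ∃ k : ℕ, x ^ p ^ k = 1) :
    x ∈ (P : Subgroup G) := by
  obtain ⟨k, hk⟩ := hp
  have hX : IsPGroup p (Subgroup.zpowers x) := by
    rintro ⟨y, m, rfl⟩
    refine ⟨k, Subtype.ext ?_⟩
    show (x ^ m) ^ p ^ k = 1
    rw [← zpow_natCast, ← zpow_mul, mul_comm, zpow_mul, zpow_natCast, hk, one_zpow]
  have h2 := P.3 (hX.to_sup_of_normal_right' P.2 (Subgroup.zpowers_le.mpr hx)) le_sup_right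
  exact h2.le (Subgroup.mem_sup_left (Subgroup.mem_zpowers x))

/-- If the `p'`-elements of the normalizer centralize an abelian Sylow subgroup, all of it does. -/
theorem normalizer_le_centralizer [Finite G] [Fact p.Prime] (P : Sylow p G)
    (hP : IsMulCommutative (P : Subgroup G))
    (h : ∀ g ∈ Subgroup.normalizer ((P : Subgroup G) : Set G), (orderOf g).Coprime p →
      g ∈ Subgroup.centralizer ((P : Subgroup G) : Set G)) :
    Subgroup.normalizer ((P : Subgroup G) : Set G) ≤ Subgroup.centralizer ((P : Subgroup G) : Set G) := by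
  intro g hg
  set a := (orderOf g).factorization p
  have h1 : g ^ p ^ a ∈ Subgroup.centralizer ((P : Subgroup G) : Set G) := by
    refine h _ (pow_mem hg _) ?_
    rw [orderOf_pow, Nat.gcd_eq_right (Nat.ordProj_dvd _ _)]
    exact (Nat.coprime_ordCompl Fact.out (orderOf_pos g).ne').symm
  have h2 : g ^ (orderOf g / p ^ a) ∈ Subgroup.centralizer ((P : Subgroup G) : Set G) := by
    have hmem : g ^ (orderOf g / p ^ a) ∈ (P : Subgroup G) := by
      refine mem_sylow_of_mem_normalizer P (pow_mem hg _) ⟨a, ?_⟩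
      rw [← pow_mul, Nat.div_mul_cancel (Nat.ordProj_dvd _ _), pow_orderOf_eq_one]
    exact Subgroup.mem_centralizer_iff.mpr fun y hy => congrArg Subtype.val (hP.1.comm ⟨y, hy⟩ ⟨_, hmem⟩)
  have hc : (p ^ a).Coprime (orderOf g / p ^ a) :=
    (Nat.coprime_ordCompl Fact.out (orderOf_pos g).ne').pow_left _
  obtain ⟨u, v, huv⟩ : ∃ u v : ℤ, u * (p ^ a : ℕ) + v * (orderOf g / p ^ a : ℕ) = 1 := by
    refine ⟨Nat.gcdA (p ^ a) (orderOf g / p ^ a), Nat.gcdB (p ^ a) (orderOf g / p ^ a), ?_⟩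
    have := Nat.gcd_eq_gcd_ab (p ^ a) (orderOf g / p ^ a)
    rw [hc.gcd_eq_one] at this
    rw [mul_comm _ ((p ^ a : ℕ) : ℤ), mul_comm _ ((orderOf g / p ^ a : ℕ) : ℤ)]
    exact_mod_cast this.symm
  have h3 := mul_mem (zpow_mem h1 u) (zpow_mem h2 v)
  rwa [← zpow_natCast g, ← zpow_natCast g, ← zpow_mul, ← zpow_mul, ← zpow_add, mul_comm _ u, mul_comm _ v,
    huv, zpow_one] at h3

/-- An automorphism of prime order `q ≠ p` of a group of order `p ^ k` makes `q` divide `p ^ k - p ^ j`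
for some `j < k`. -/
theorem exists_dvd_sub_of_orderOf [Finite G] [Fact p.Prime] {k : ℕ} (hG : Nat.card G = p ^ k) {q : ℕ}
    [Fact q.Prime] {β : MulAut G} (hβ : orderOf β = q) : ∃ j < k, q ∣ p ^ k - p ^ j := by
  let F : Subgroup G := MonoidHom.eqLocus β.toMonoidHom (MonoidHom.id G)
  have hQ : IsPGroup q (Subgroup.zpowers β) := IsPGroup.of_card (n := 1) (by rw [Nat.card_zpowers, hβ, pow_one])
  have hfix : MulAction.fixedPoints (Subgroup.zpowers β) G = (F : Set G) := by
    ext x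
    constructor
    · intro h
      exact h ⟨β, Subgroup.mem_zpowers β⟩
    · intro hx
      rintro ⟨_, n, rfl⟩
      have hst : β ∈ MulAction.stabilizer (MulAut G) x := hx
      exact zpow_mem hst n
  have h1 := hQ.card_modEq_card_fixedPoints (α := G)
  rw [hfix] at h1
  change Nat.card G ≡ Nat.card F [MOD q] at h1
  obtain ⟨j, hj, hjc⟩ := (Nat.dvd_prime_pow Fact.out).mp (hG ▸ Subgroup.card_subgroup_dvd_card F)
  rw [hG, hjc] at h1
  refine ⟨j, lt_of_le_of_ne hj fun e => ?_, (Nat.modEq_iff_dvd' (Nat.pow_le_pow_right (Fact.out : p.Prime).pos hj)).mp h1.symm⟩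
  have htop : F = ⊤ := Subgroup.eq_top_of_card_eq F (by rw [hjc, e, hG])
  have : β = 1 := MulEquiv.ext fun x => (htop.ge (Subgroup.mem_top x) : _)
  rw [this, orderOf_one] at hβ
  exact (Fact.out : q.Prime).ne_one hβ.symm

/-- Elements of the normalizer of order prime to the possible automorphism orders centralize. -/
theorem mem_centralizer_of_small [Finite G] [Fact p.Prime] {P : Subgroup G} {k : ℕ}
    (hP : Nat.card P = p ^ k) {g : G} (hg : g ∈ Subgroup.normalizer (P : Set G))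
    (h : ∀ q : ℕ, q.Prime → q ∣ orderOf g → ∀ j < k, ¬ q ∣ p ^ k - p ^ j) :
    g ∈ Subgroup.centralizer (P : Set G) := by
  set α := P.normalizerMonoidHom ⟨g, hg⟩ with hα
  suffices hone : α = 1 by
    refine Subgroup.mem_centralizer_iff.mpr fun x hx => ?_
    have h1 := congrArg (fun f : MulAut P => ((f ⟨x, hx⟩ : P) : G)) hone
    have h2 : g * x * g⁻¹ = x := h1
    exact (mul_inv_eq_iff_eq_mul.mp h2).symm
  by_contra hne
  have : Finite P := inferInstance
  have hord : orderOf α ≠ 1 := fun e => hne (orderOf_eq_one_iff.mp e)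
  obtain ⟨q, hq, hqd⟩ := Nat.exists_prime_and_dvd hord
  have := Fact.mk hq
  have hdvd : orderOf α ∣ orderOf g := by
    have := orderOf_map_dvd P.normalizerMonoidHom (⟨g, hg⟩ : Subgroup.normalizer (P : Set G))
    rwa [← Subgroup.orderOf_coe (⟨g, hg⟩ : Subgroup.normalizer (P : Set G))] at this
  have hβ : orderOf (α ^ (orderOf α / q)) = q := by
    refine orderOf_pow_orderOf_div ?_ hqd
    exact (orderOf_pos α).ne'
  obtain ⟨j, hj, hjd⟩ := exists_dvd_sub_of_orderOf hP hβ
  exact h q hq (hqd.trans hdvd) j hj hjd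

/-- Abelian Hall subgroups of the same order are conjugate. -/
theorem abelian_hall_conj : ∀ (n : ℕ) {G : Type*} [Group G] [Finite G] (A B : Subgroup G),
    Nat.card A = n → IsMulCommutative A → IsMulCommutative B → Nat.card B = Nat.card A →
    (Nat.card A).Coprime A.index → ∃ g : G, ∀ b ∈ B, g * b * g⁻¹ ∈ A := by
  intro n
  induction n using Nat.strong_induction_on with
  | _ n ih =>
  intro G _ _ A B hn hA hB hcard hcop
  by_cases h1 : Nat.card A = 1
  · refine ⟨1, fun b hb => ?_⟩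
    have : B = ⊥ := Subgroup.card_eq_one.mp (hcard.trans h1)
    rw [this, Subgroup.mem_bot] at hb
    simp [hb]
  obtain ⟨p, hp, hpA⟩ := Nat.exists_prime_and_dvd h1
  have := Fact.mk hp
  have hidx : B.index = A.index := by
    have e1 := A.card_mul_index
    have e2 := B.card_mul_index
    rw [hcard, ← e1] at e2
    exact Nat.eq_of_mul_eq_mul_left Nat.card_pos e2
  have hpi : ¬ p ∣ A.index := fun h => hp.ne_one (Nat.eq_one_of_dvd_coprimes hcop hpA h)
  obtain ⟨P, hPA⟩ := CfsgLib.exists_sylow_le_of_not_dvd_index A hpi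
  obtain ⟨Q, hQB⟩ := CfsgLib.exists_sylow_le_of_not_dvd_index B (hidx ▸ hpi)
  obtain ⟨k, hk⟩ := MulAction.exists_smul_eq G Q P
  set B' := B.map (MulAut.conj k).toMonoidHom with hB'
  have hPB' : (P : Subgroup G) ≤ B' := by
    intro x hx
    rw [← hk, mem_smul_iff] at hx
    exact ⟨_, hQB hx, by simp [mul_assoc]⟩
  set C := Subgroup.centralizer ((P : Subgroup G) : Set G) with hC
  have hAC : A ≤ C := fun a ha => Subgroup.mem_centralizer_iff.mpr fun y hy =>
    congrArg Subtype.val (hA.1.comm ⟨y, hPA hy⟩ ⟨a, ha⟩)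
  have hB'c : IsMulCommutative B' := ⟨⟨fun a b => by
    obtain ⟨a, a', ha', rfl⟩ := a
    obtain ⟨b, b', hb', rfl⟩ := b
    apply Subtype.ext
    show (MulAut.conj k).toMonoidHom a' * _ = (MulAut.conj k).toMonoidHom b' * _
    rw [← map_mul, ← map_mul]
    exact congrArg _ (congrArg Subtype.val (hB.1.comm ⟨a', ha'⟩ ⟨b', hb'⟩))⟩⟩
  have hB'C : B' ≤ C := fun a ha => Subgroup.mem_centralizer_iff.mpr fun y hy =>
    congrArg Subtype.val (hB'c.1.comm ⟨y, hPB' hy⟩ ⟨a, ha⟩)
  have hPC : (P : Subgroup G) ≤ C := hPA.trans hAC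
  set P' := (P : Subgroup G).subgroupOf C
  have : P'.Normal := ⟨fun x hx c => by
    show (c : G) * x * (c : G)⁻¹ ∈ (P : Subgroup G)
    rw [← Subgroup.mem_centralizer_iff.mp c.2 x hx, mul_inv_cancel_right]
    exact hx⟩
  set f := QuotientGroup.mk' P'
  set A₀ := (A.subgroupOf C).map f
  set B₀ := (B'.subgroupOf C).map f
  have hcardmap : ∀ H : Subgroup G, (P : Subgroup G) ≤ H → H ≤ C →
      Nat.card ((H.subgroupOf C).map f) * Nat.card P = Nat.card H := by
    intro H h1 h2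
    have e1 := Subgroup.card_mul_index (P'.subgroupOf (H.subgroupOf C))
    rw [Nat.card_congr (Subgroup.subgroupOfEquivOfLe (fun x hx => h1 hx : P' ≤ H.subgroupOf C)).toEquiv,
      Nat.card_congr (Subgroup.subgroupOfEquivOfLe hPC).toEquiv,
      Nat.card_congr (Subgroup.subgroupOfEquivOfLe h2).toEquiv] at e1
    rw [← e1, mul_comm]
    congr 1
    have e3 := Subgroup.index_ker (f.comp (H.subgroupOf C).subtype)
    rw [MonoidHom.range_comp, Subgroup.range_subtype] at e3
    rw [← e3, ← MonoidHom.comap_ker, QuotientGroup.ker_mk']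
    rfl
  have hcA := hcardmap A hPA hAC
  have hcB := hcardmap B' hPB' hB'C
  have hcard' : Nat.card B' = Nat.card A := by
    rw [← hcard]
    exact Subgroup.card_map_of_injective (f := (MulAut.conj k : G ≃* G).toMonoidHom) (MulEquiv.injective _)
  have hlt : Nat.card A₀ < n := by
    rw [← hn, ← hcA]
    refine lt_mul_of_one_lt_right Nat.card_pos (lt_of_lt_of_le hp.one_lt (Nat.le_of_dvd Nat.card_pos ?_))
    exact P.dvd_card_of_dvd_card (hpA.trans (Subgroup.card_subgroup_dvd_card A))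
  have hcop₀ : (Nat.card A₀).Coprime A₀.index := by
    refine (hcop.coprime_dvd_left ⟨_, hcA.symm⟩).coprime_dvd_right ?_
    refine (Subgroup.index_map_dvd _ (QuotientGroup.mk'_surjective P')).trans ?_
    show A.relIndex C ∣ A.index
    exact Subgroup.relIndex_dvd_index_of_le hAC
  have hmapc : ∀ H : Subgroup G, IsMulCommutative H → IsMulCommutative ((H.subgroupOf C).map f) := by
    intro H hH
    refine ⟨⟨fun a b => ?_⟩⟩
    obtain ⟨a, a', ha', rfl⟩ := a
    obtain ⟨b, b', hb', rfl⟩ := b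
    apply Subtype.ext
    show f a' * f b' = f b' * f a'
    rw [← map_mul, ← map_mul]
    have h0 : a' * b' = b' * a' := by
      apply Subtype.ext
      exact congrArg (fun x : H => (x : G)) (hH.1.comm ⟨_, ha'⟩ ⟨_, hb'⟩)
    exact congrArg f h0
  obtain ⟨q, hq⟩ := ih _ hlt A₀ B₀ rfl (hmapc A hA) (hmapc B' hB'c)
    (Nat.eq_of_mul_eq_mul_right Nat.card_pos (hcB.trans (hcard'.trans hcA.symm))) hcop₀
  obtain ⟨c, rfl⟩ := QuotientGroup.mk'_surjective P' q
  refine ⟨(c : G) * k, fun b hb => ?_⟩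
  have hkb : k * b * k⁻¹ ∈ B' := ⟨b, hb, rfl⟩
  have h2 := hq _ ⟨⟨k * b * k⁻¹, hB'C hkb⟩, hkb, rfl⟩
  rw [← map_inv, ← map_mul, ← map_mul] at h2
  obtain ⟨a, ha, hae⟩ := h2
  have h3 : ((a⁻¹ * (c * ⟨k * b * k⁻¹, hB'C hkb⟩ * c⁻¹) : C) : G) ∈ A :=
    hPA ((QuotientGroup.eq (s := P')).mp hae)
  have h4 : (a : G) * _ ∈ A := A.mul_mem ha h3
  rw [Subgroup.coe_mul, Subgroup.coe_inv, mul_inv_cancel_left] at h4
  simpa [mul_assoc] using h4

end CfsgLib.TransferApps
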