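import Cfsg.Agent.Lib.Qd
import Cfsg.Agent.Lib.Basic
import Cfsg.Prelude.Def_LocalEven
import Mathlib.GroupTheory.SemidirectProduct
import Mathlib.GroupTheory.Sylow
import Mathlib.LinearAlgebra.Matrix.SpecialLinearGroup

/-!
When is `Qd(p)` a section: a `p`-subgroup with an abelian quotient of rank two whose automisers induce
all of `SL₂(p)` on it.
-/

set_option autoImplicit false
set_option linter.unusedSectionVars false

namespace CfsgLib.QdSection

open CfsgLib
open scoped Matrix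

variable {p : ℕ} [hp : Fact p.Prime]

/-- Column vectors, written multiplicatively. -/
abbrev Vec (p : ℕ) := Multiplicative (Fin 2 → ZMod p)

local notation "SL2" => Matrix.SpecialLinearGroup (Fin 2) (ZMod p)

/-- The matrix acting on a vector. -/
def act (M : SL2) (v : Vec p) : Vec p :=
  Multiplicative.ofAdd ((M : Matrix (Fin 2) (Fin 2) (ZMod p)).mulVec v.toAdd)

theorem act_mul (M N : SL2) (v : Vec p) : act (M * N) v = act M (act N v) := by
  unfold act
  rw [toAdd_ofAdd, Matrix.mulVec_mulVec]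
  rfl

theorem act_one (v : Vec p) : act (1 : SL2) v = v := by simp [act]

theorem act_map_mul (M : SL2) (v w : Vec p) : act M (v * w) = act M v * act M w := by
  unfold act
  rw [toAdd_mul, Matrix.mulVec_add, ofAdd_add]

theorem act_ext {M N : SL2} (h : ∀ v, act M v = act N v) : M = N := by
  refine Subtype.ext (Matrix.ext fun i j => ?_)
  have := congrArg (fun v : Vec p => v.toAdd i) (h (Multiplicative.ofAdd (Pi.single j 1)))
  simpa [act] using this

/-- Translations of `Qd(p)`. -/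
def trHom : Vec p →* Cfsg.qd p where
  toFun v := Qd.tr (v.toAdd 0) (v.toAdd 1)
  map_one' := Qd.tr_zero
  map_mul' v w := by simp [Qd.tr_mul]

/-- The linear part of `Qd(p)`. -/
def linHom : SL2 →* Cfsg.qd p where
  toFun M := Qd.el (M.1 0 0) (M.1 0 1) (M.1 1 0) (M.1 1 1) 0 0 (by
    have := M.2
    rw [Matrix.det_fin_two] at this
    exact this)
  map_one' := by
    rw [Qd.el_one]
    exact Qd.el_congr (by simp) (by simp) (by simp) (by simp) rfl rfl
  map_mul' M N := by
    rw [Qd.el_mul]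
    exact Qd.el_congr (by simp [Matrix.mul_apply, Fin.sum_univ_two]) (by simp [Matrix.mul_apply, Fin.sum_univ_two])
      (by simp [Matrix.mul_apply, Fin.sum_univ_two]) (by simp [Matrix.mul_apply, Fin.sum_univ_two])
      (by simp) (by simp)

theorem linHom_conj (M : SL2) (v : Vec p) : linHom M * trHom v * (linHom M)⁻¹ = trHom (act M v) := by
  rw [mul_inv_eq_iff_eq_mul]
  simp only [linHom, trHom, MonoidHom.coe_mk, OneHom.coe_mk, Qd.el_mul_tr, act, toAdd_ofAdd,
    Matrix.mulVec, dotProduct, Fin.sum_univ_two]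

theorem exists_eq_mul (g : Cfsg.qd p) : ∃ (v : Vec p) (M : SL2), g = trHom v * linHom M := by
  obtain ⟨a, b, c, d, x, y, h, rfl⟩ := Qd.exists_el g
  refine ⟨Multiplicative.ofAdd ![x, y], ⟨!![a, b; c, d], by rw [Matrix.det_fin_two]; simpa using h⟩, ?_⟩
  simp only [linHom, trHom, MonoidHom.coe_mk, OneHom.coe_mk, Qd.tr, Qd.el_mul]
  exact Qd.el_congr (by simp) (by simp) (by simp) (by simp) (by simp) (by simp)

theorem exists_act_of_conj_tr (g : Cfsg.qd p) : ∃ M : SL2, ∀ v, g * trHom v * g⁻¹ = trHom (act M v) := by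
  obtain ⟨w, M, rfl⟩ := exists_eq_mul g
  refine ⟨M, fun v => ?_⟩
  calc trHom w * linHom M * trHom v * (trHom w * linHom M)⁻¹
      = trHom w * (linHom M * trHom v * (linHom M)⁻¹) * (trHom w)⁻¹ := by group
    _ = trHom (act M v) := by
      rw [linHom_conj, ← map_mul, ← map_inv, ← map_mul, mul_comm w, mul_inv_cancel_right]

theorem two_key : ∀ x : Matrix (Fin 2) (Fin 2) (ZMod 2), x.det = 1 →
    x * !![0, 1; 1, 1] = !![0, 1; 1, 1] * x ∨
      x * !![0, 1; 1, 1] = (!![0, 1; 1, 1] * !![0, 1; 1, 1]) * x := by decide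

theorem two_fix : ∀ x : Fin 2 → ZMod 2,
    (!![0, 1; 1, 1] : Matrix (Fin 2) (Fin 2) (ZMod 2)).mulVec x = x → x = 0 := by decide

theorem two_det : (!![0, 1; 1, 1] : Matrix (Fin 2) (Fin 2) (ZMod 2)).det = 1 := by decide

theorem two_cube : (!![0, 1; 1, 1] : Matrix (Fin 2) (Fin 2) (ZMod 2)) ^ 3 = 1 := by decide

/-- An element of order three of `SL₂(2)`. -/
def twoA : Matrix.SpecialLinearGroup (Fin 2) (ZMod 2) := ⟨!![0, 1; 1, 1], two_det⟩

theorem twoA_cube : twoA ^ 3 = 1 := Subtype.ext two_cube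

theorem twoA_conj (M : Matrix.SpecialLinearGroup (Fin 2) (ZMod 2)) :
    M * twoA * M⁻¹ ∈ Subgroup.zpowers twoA := by
  rcases two_key M.1 M.2 with h | h
  · rw [show M * twoA * M⁻¹ = twoA from mul_inv_eq_iff_eq_mul.mpr (Subtype.ext h)]
    exact Subgroup.mem_zpowers _
  · rw [show M * twoA * M⁻¹ = twoA * twoA from mul_inv_eq_iff_eq_mul.mpr (Subtype.ext h)]
    exact Subgroup.mul_mem _ (Subgroup.mem_zpowers _) (Subgroup.mem_zpowers _)

/-- The scalar `-1`. -/
def negA : SL2 := ⟨-1, by simp [Matrix.det_neg]⟩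

theorem negA_sq : (negA : SL2) ^ 2 = 1 := by
  rw [pow_two]
  exact Subtype.ext (show (-1 : Matrix (Fin 2) (Fin 2) (ZMod p)) * -1 = 1 by simp)

theorem negA_comm (M : SL2) : M * negA * M⁻¹ = negA :=
  mul_inv_eq_iff_eq_mul.mpr (Subtype.ext (show (M : Matrix (Fin 2) (Fin 2) (ZMod p)) * -1 = -1 * _ by simp))

theorem act_negA (v : Vec p) : (act negA v).toAdd = -v.toAdd := by
  show ((-1 : Matrix (Fin 2) (Fin 2) (ZMod p))).mulVec v.toAdd = _
  rw [Matrix.neg_mulVec, Matrix.one_mulVec]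

/-- A normal subgroup of `SL₂(p)` of prime order other than `p`, without fixed vectors. -/
theorem exists_fixedPointFree :
    ∃ (q : ℕ) (a : SL2), q.Prime ∧ q ≠ p ∧ a ^ q = 1 ∧ (∀ M : SL2, M * a * M⁻¹ ∈ Subgroup.zpowers a) ∧
      ∀ v, act a v = v → v = 1 := by
  by_cases h2 : p = 2
  · subst h2
    exact ⟨3, twoA, Nat.prime_three, by norm_num, twoA_cube, twoA_conj,
      fun v hv => Multiplicative.toAdd.injective (two_fix _ (congrArg Multiplicative.toAdd hv))⟩
  · have hne : (2 : ZMod p) ≠ 0 := by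
      intro h
      have : ((2 : ℕ) : ZMod p) = 0 := by exact_mod_cast h
      rw [ZMod.natCast_eq_zero_iff] at this
      exact h2 ((Nat.prime_dvd_prime_iff_eq hp.out Nat.prime_two).mp this)
    refine ⟨2, negA, Nat.prime_two, fun h => h2 h.symm, negA_sq,
      fun M => by rw [negA_comm]; exact Subgroup.mem_zpowers _, ?_⟩
    intro v hv
    refine Multiplicative.toAdd.injective (funext fun i => ?_)
    have h3 : -v.toAdd i = v.toAdd i := by
      have := congrFun (congrArg Multiplicative.toAdd hv) i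
      rwa [act_negA] at this
    have h4 : (2 : ZMod p) * v.toAdd i = 0 := by linear_combination -h3
    simpa [hne] using h4

variable {G : Type*} [Group G]

theorem involves_of_surjective {H : Type*} [Group H] (K : Subgroup G) (f : K →* H)
    (hf : Function.Surjective f) : Cfsg.Involves H G := by
  have e : (f.ker.map K.subtype).subgroupOf K = f.ker := by
    rw [Subgroup.subgroupOf, Subgroup.comap_map_eq_self_of_injective K.subtype_injective]
  haveI hn : ((f.ker.map K.subtype).subgroupOf K).Normal := by rw [e]; infer_instance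
  exact ⟨K, f.ker.map K.subtype, hn,
    ⟨(QuotientGroup.quotientMulEquivOfEq e).trans (QuotientGroup.quotientKerEquivOfSurjective f hf)⟩⟩

variable [Finite G]

/-- Automisers inducing `SL₂(p)` on a section give `Qd(p)` as a section. -/
theorem involves_of_witness (Y : Subgroup G) (hY : IsPGroup p Y) (e : Y →* Vec p) (he : Function.Surjective e)
    (hM : ∀ M : SL2, ∃ g ∈ Subgroup.normalizer (Y : Set G),
      ∀ (y : Y) (h : g * (y : G) * g⁻¹ ∈ Y), e ⟨_, h⟩ = act M (e y)) :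
    Cfsg.Involves (Cfsg.qd p) G := by
  classical
  let Good : G → SL2 → Prop := fun g M =>
    ∀ (y : Y) (h : g * (y : G) * g⁻¹ ∈ Y), e ⟨_, h⟩ = act M (e y)
  have hconj : ∀ {g : G}, g ∈ Subgroup.normalizer (Y : Set G) → ∀ y : Y, g * (y : G) * g⁻¹ ∈ Y :=
    fun hg y => (Subgroup.mem_normalizer_iff.mp hg _).mp y.2
  let H : Subgroup G :=
    { carrier := {g | g ∈ Subgroup.normalizer (Y : Set G) ∧ ∃ M, Good g M}
      one_mem' := ⟨one_mem _, 1, fun y h => by rw [act_one]; congr 1; exact Subtype.ext (by simp)⟩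
      mul_mem' := by
        rintro a b ⟨ha, M, hM'⟩ ⟨hb, N, hN⟩
        refine ⟨mul_mem ha hb, M * N, fun y h => ?_⟩
        rw [act_mul, ← hN y (hconj hb y), ← hM' ⟨_, hconj hb y⟩ (hconj ha ⟨_, hconj hb y⟩)]
        congr 1
        exact Subtype.ext (by group)
      inv_mem' := by
        rintro a ⟨ha, M, hM'⟩
        refine ⟨Subgroup.inv_mem _ ha, M⁻¹, fun y h => ?_⟩
        have h1 := hM' ⟨_, h⟩ (by simp [mul_assoc])
        rw [show (⟨a * (a⁻¹ * (y : G) * a⁻¹⁻¹) * a⁻¹, _⟩ : Y) = y from Subtype.ext (by group)] at h1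
        rw [h1, ← act_mul, inv_mul_cancel, act_one] }
  have hHN : ∀ h : H, (h : G) ∈ Subgroup.normalizer (Y : Set G) := fun h => h.2.1
  choose ρ hρ using fun h : H => h.2.2
  have huniq : ∀ (h : H) (M : SL2), Good h M → ρ h = M := fun h M hg => act_ext fun v => by
    obtain ⟨y, rfl⟩ := he v
    rw [← hρ h y (hconj (hHN h) y), hg y (hconj (hHN h) y)]
  let ρh : H →* SL2 := MonoidHom.mk' ρ fun a b => huniq _ _ fun y h => by
    rw [act_mul, ← hρ b y (hconj (hHN b) y), ← hρ a ⟨_, hconj (hHN b) y⟩ (hconj (hHN a) _)]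
    congr 1
    exact Subtype.ext (by simp only [Subgroup.coe_mul]; group)
  have hYH : Y ≤ H := fun y hy => ⟨Subgroup.le_normalizer hy, 1, fun z h => by
    rw [act_one, show (⟨y * (z : G) * y⁻¹, h⟩ : Y) = ⟨y, hy⟩ * z * ⟨y, hy⟩⁻¹ from rfl, map_mul, map_mul,
      map_inv, mul_comm (e _) (e z), mul_inv_cancel_right]⟩
  have hsurj : Function.Surjective ρh := fun M => by
    obtain ⟨g, hg, hgM⟩ := hM M
    exact ⟨⟨g, hg, M, hgM⟩, huniq _ _ hgM⟩
  obtain ⟨q, a, hq, hqp, haq, han, hfix⟩ := exists_fixedPointFree (p := p)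
  haveI := Fact.mk hq
  set A : Subgroup SL2 := Subgroup.zpowers a with hA
  haveI hAn : A.Normal := ⟨fun x hx M => by
    obtain ⟨i, rfl⟩ := Subgroup.mem_zpowers_iff.mp hx
    rw [← conj_zpow]
    exact Subgroup.zpow_mem _ (han M) i⟩
  haveI : (A.comap ρh).Normal := Subgroup.normal_comap _
  obtain ⟨P⟩ := (inferInstance : Nonempty (Sylow q (A.comap ρh)))
  set Pq : Subgroup H := (P : Subgroup (A.comap ρh)).map (A.comap ρh).subtype with hPq
  have hPqA : A ≤ Pq.map ρh := by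
    let r : (A.comap ρh) →* A := (ρh.comp (A.comap ρh).subtype).codRestrict A fun x => x.2
    have hr : Function.Surjective r := fun x => by
      obtain ⟨h, hh⟩ := hsurj x
      exact ⟨⟨h, by show ρh h ∈ A; rw [hh]; exact x.2⟩, Subtype.ext hh⟩
    have hAq : IsPGroup q A := by
      rintro ⟨x, hx⟩
      obtain ⟨i, rfl⟩ := Subgroup.mem_zpowers_iff.mp hx
      refine ⟨1, Subtype.ext ?_⟩
      rw [SubmonoidClass.coe_pow, pow_one, OneMemClass.coe_one, ← zpow_natCast, ← zpow_mul, mul_comm, zpow_mul,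
        zpow_natCast, haq, one_zpow]
    intro x hx
    have htop : ((P.mapSurjective hr : Sylow q A) : Subgroup A) = ⊤ :=
      ((P.mapSurjective hr).3 (hAq.of_equiv Subgroup.topEquiv.symm) le_top).symm
    have h1 : (⟨x, hx⟩ : A) ∈ (P : Subgroup (A.comap ρh)).map r := htop.ge (Subgroup.mem_top _)
    obtain ⟨w, hw, hwe⟩ := h1
    exact ⟨w, ⟨w, hw, rfl⟩, congrArg Subtype.val hwe⟩
  set N : Subgroup H := Subgroup.normalizer (Pq : Set H) with hN
  have hNρ : ∀ M : SL2, ∃ n ∈ N, ρh n = M := by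
    intro M
    obtain ⟨h, rfl⟩ := hsurj M
    have h1 : h ∈ N ⊔ A.comap ρh := by
      rw [hN, hPq, Sylow.normalizer_sup_eq_top P]
      exact Subgroup.mem_top h
    rw [← SetLike.mem_coe, Subgroup.mul_normal] at h1
    obtain ⟨n, hn, m, hm, rfl⟩ := h1
    obtain ⟨w, hw, hwe⟩ := hPqA (show ρh m ∈ A from hm)
    exact ⟨n * w, N.mul_mem hn (Subgroup.le_normalizer hw), by rw [map_mul, map_mul, hwe]⟩
  -- the homomorphism to `Qd(p)`
  let φ : N →* MulAut Y := Y.normalizerMonoidHom.comp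
    ((H.subtype.comp N.subtype).codRestrict _ fun n => hHN n.1)
  let f : Y ⋊[φ] N →* Cfsg.qd p := SemidirectProduct.lift (trHom.comp e) (linHom.comp (ρh.comp N.subtype))
    fun n => by
      refine MonoidHom.ext fun y => ?_
      show trHom (e (φ n y)) = linHom (ρ n) * trHom (e y) * (linHom (ρ n))⁻¹
      rw [linHom_conj, ← hρ n y (hconj (hHN n.1) y)]
      rfl
  let Φ : Y ⋊[φ] N →* G := SemidirectProduct.lift Y.subtype (H.subtype.comp N.subtype)
    fun n => MonoidHom.ext fun y => rfl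
  have hf : Function.Surjective f := by
    intro g
    obtain ⟨v, M, rfl⟩ := exists_eq_mul g
    obtain ⟨y, rfl⟩ := he v
    obtain ⟨n, hn, rfl⟩ := hNρ M
    exact ⟨SemidirectProduct.inl y * SemidirectProduct.inr ⟨n, hn⟩, by
      simp [f, SemidirectProduct.lift_inl, SemidirectProduct.lift_inr]⟩
  have hker : Φ.rangeRestrict.ker ≤ f.ker := by
    intro x hx
    rw [MonoidHom.ker_rangeRestrict, MonoidHom.mem_ker] at hx
    obtain ⟨⟨y, hy⟩, ⟨n, hn⟩⟩ := x
    have h1 : y * (n : G) = 1 := hx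
    have hny : n = (⟨y⁻¹, hYH (Y.inv_mem hy)⟩ : H) := Subtype.ext (eq_inv_of_mul_eq_one_right h1)
    subst hny
    have hρ1 : ρh ⟨y⁻¹, hYH (Y.inv_mem hy)⟩ = 1 := huniq _ _ fun z h => by
      rw [act_one, show (⟨y⁻¹ * (z : G) * y⁻¹⁻¹, h⟩ : Y) = (⟨y, hy⟩ : Y)⁻¹ * z * ((⟨y, hy⟩ : Y)⁻¹)⁻¹ from rfl,
        map_mul, map_mul, map_inv e ((⟨y, hy⟩ : Y)⁻¹), mul_comm (e _) (e z), mul_inv_cancel_right]
    -- `y` centralises the `q`-group
    have hey : e ⟨y, hy⟩ = 1 := by
      refine hfix _ ?_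
      obtain ⟨w, hw, hwe⟩ := hPqA (Subgroup.mem_zpowers a)
      rw [← hwe]
      show act (ρ w) _ = _
      rw [← hρ w ⟨y, hy⟩ (hconj (hHN w) ⟨y, hy⟩)]
      congr 1
      refine Subtype.ext ?_
      -- the commutator lies in both groups
      have hPqq : IsPGroup q Pq := P.2.map _
      set c : G := (w : G) * y * (w : G)⁻¹ * y⁻¹ with hc
      have hcY : c ∈ Y := Y.mul_mem (hconj (hHN w) ⟨y, hy⟩) (Y.inv_mem hy)
      have hcP : (⟨c, hYH hcY⟩ : H) ∈ Pq := by
        have hyN : (⟨y, hYH hy⟩ : H) ∈ N := by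
          have := N.inv_mem hn
          convert this using 1
          exact Subtype.ext (inv_inv y).symm
        have := Pq.mul_mem hw ((Subgroup.mem_normalizer_iff.mp hyN _).mp (Pq.inv_mem hw))
        convert this using 1
        exact Subtype.ext (by simp [hc, mul_assoc])
      obtain ⟨i, hi⟩ := hPqq ⟨_, hcP⟩
      obtain ⟨j, hj⟩ := hY ⟨c, hcY⟩
      have hi' : c ^ q ^ i = 1 := congrArg (fun z : Pq => (((z : H)) : G)) hi
      have hj' : c ^ p ^ j = 1 := congrArg Subtype.val hj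
      have hcop : (q ^ i).Coprime (p ^ j) :=
        Nat.Coprime.pow _ _ ((Nat.coprime_primes hq hp.out).mpr hqp)
      have hc1 : c = 1 := orderOf_eq_one_iff.mp (Nat.eq_one_of_dvd_coprimes hcop
        (orderOf_dvd_of_pow_eq_one hi') (orderOf_dvd_of_pow_eq_one hj'))
      exact mul_inv_eq_one.mp hc1
    rw [MonoidHom.mem_ker]
    show trHom (e ⟨y, hy⟩) * linHom (ρh ⟨y⁻¹, hYH (Y.inv_mem hy)⟩) = 1
    rw [hey, hρ1, map_one, map_one, one_mul]
  refine involves_of_surjective Φ.range (Φ.rangeRestrict.liftOfSurjective Φ.rangeRestrict_surjective ⟨f, hker⟩) ?_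
  intro g
  obtain ⟨x, rfl⟩ := hf g
  exact ⟨Φ.rangeRestrict x, MonoidHom.liftOfRightInverse_comp_apply _ _ _ ⟨f, hker⟩ x⟩

/-- A `Qd(p)` section gives a `p`-subgroup of a given Sylow subgroup with automisers inducing `SL₂(p)`. -/
theorem exists_witness_of_involves (T : Sylow p G) (h : Cfsg.Involves (Cfsg.qd p) G) :
    ∃ (Y : Subgroup G) (_ : Y ≤ (T : Subgroup G)) (e : Y →* Vec p), Function.Surjective e ∧
      ∀ M : SL2, ∃ g ∈ Subgroup.normalizer (Y : Set G),
        ∀ (y : Y) (h : g * (y : G) * g⁻¹ ∈ Y), e ⟨_, h⟩ = act M (e y) := by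
  classical
  obtain ⟨K, R, hR, ⟨iso⟩⟩ := h
  let π : K →* Cfsg.qd p := iso.toMonoidHom.comp (QuotientGroup.mk' _)
  have hπ : Function.Surjective π := iso.surjective.comp (QuotientGroup.mk'_surjective _)
  haveI : ((Qd.W p).comap π).Normal := Subgroup.normal_comap _
  obtain ⟨P⟩ := (inferInstance : Nonempty (Sylow p ((Qd.W p).comap π)))
  set Pk : Subgroup K := (P : Subgroup ((Qd.W p).comap π)).map ((Qd.W p).comap π).subtype with hPk
  have hPW : ∀ w ∈ Qd.W p, ∃ x ∈ Pk, π x = w := by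
    let r : ((Qd.W p).comap π) →* Qd.W p := (π.comp ((Qd.W p).comap π).subtype).codRestrict _ fun x => x.2
    have hr : Function.Surjective r := fun x => by
      obtain ⟨h, hh⟩ := hπ x
      exact ⟨⟨h, by show π h ∈ Qd.W p; rw [hh]; exact x.2⟩, Subtype.ext hh⟩
    intro x hx
    have htop : ((P.mapSurjective hr : Sylow p (Qd.W p)) : Subgroup (Qd.W p)) = ⊤ :=
      ((P.mapSurjective hr).3 (Qd.isPGroup_W.of_equiv Subgroup.topEquiv.symm) le_top).symm
    have h1 : (⟨x, hx⟩ : Qd.W p) ∈ (P : Subgroup ((Qd.W p).comap π)).map r := htop.ge (Subgroup.mem_top _)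
    obtain ⟨w, hw, hwe⟩ := h1
    exact ⟨w, ⟨w, hw, rfl⟩, congrArg Subtype.val hwe⟩
  -- coordinates
  have hcoord : ∀ x : Pk, ∃ v : Vec p, π (x : K) = trHom v := by
    rintro ⟨x, w, hw, rfl⟩
    obtain ⟨a, b, hab⟩ := w.2
    exact ⟨Multiplicative.ofAdd ![a, b], by simpa [trHom] using hab⟩
  have htrinj : Function.Injective (trHom (p := p)) := fun v w h => by
    obtain ⟨h1, h2⟩ := Qd.tr_injective h
    exact Multiplicative.toAdd.injective (funext (by simp [Fin.forall_fin_two, h1, h2]))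
  choose crd hcrd using hcoord
  let eK : Pk →* Vec p := MonoidHom.mk' crd fun a b => htrinj (by
    rw [← hcrd, map_mul, ← hcrd a, ← hcrd b, ← map_mul]; rfl)
  -- move into the Sylow subgroup
  have hPkp : IsPGroup p (Pk.map K.subtype) := (P.2.map _).map _
  obtain ⟨T', hT'⟩ := hPkp.exists_le_sylow
  obtain ⟨g, hg⟩ := MulAction.exists_smul_eq G T' T
  let c : Pk →* G := (MulAut.conj g).toMonoidHom.comp (K.subtype.comp Pk.subtype)
  have hc : Function.Injective c :=
    (MulAut.conj g).injective.comp (K.subtype_injective.comp Pk.subtype_injective)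
  let i : Pk ≃* c.range := MonoidHom.ofInjective hc
  refine ⟨c.range, ?_, eK.comp i.symm.toMonoidHom, ?_, fun M => ?_⟩
  · rintro _ ⟨x, rfl⟩
    rw [← hg, Sylow.coe_subgroup_smul, Subgroup.pointwise_smul_def]
    exact ⟨_, hT' ⟨x, x.2, rfl⟩, rfl⟩
  · intro v
    obtain ⟨x, hx, hxe⟩ := hPW (trHom v) (Qd.tr_mem _ _)
    refine ⟨i ⟨x, hx⟩, htrinj ?_⟩
    show trHom (crd (i.symm (i ⟨x, hx⟩))) = _
    rw [MulEquiv.symm_apply_apply, ← hcrd]
    exact hxe
  obtain ⟨k, hk⟩ := hπ (linHom M)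
  have hk1 : k ∈ Subgroup.normalizer (Pk : Set K) ⊔ (Qd.W p).comap π := by
    rw [hPk, Sylow.normalizer_sup_eq_top P]
    exact Subgroup.mem_top k
  rw [← SetLike.mem_coe, Subgroup.mul_normal] at hk1
  obtain ⟨n, hn, u, hu, rfl⟩ := hk1
  have hn' : ∀ x : Pk, π (n * (x : K) * n⁻¹) = trHom (act M (crd x)) := by
    intro x
    have hW : π u * trHom (crd x) * (π u)⁻¹ = trHom (crd x) := by
      obtain ⟨a, b, hab⟩ := (show π u ∈ Qd.W p from hu)
      rw [hab, show Qd.tr a b = trHom (Multiplicative.ofAdd ![a, b]) by simp [trHom], ← map_inv, ← map_mul,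
        ← map_mul, mul_comm _ (crd x), mul_inv_cancel_right]
    rw [← linHom_conj, ← hk, map_mul, map_mul, map_mul, map_inv, hcrd x]
    conv_lhs => rw [← hW]
    group
  have hnc : ∀ x : Pk, n * (x : K) * n⁻¹ ∈ Pk := fun x => (Subgroup.mem_normalizer_iff.mp hn _).mp x.2
  refine ⟨g * (n : G) * g⁻¹, ?_, ?_⟩
  · refine Subgroup.mem_normalizer_iff.mpr fun y => ⟨?_, ?_⟩
    · rintro ⟨x, rfl⟩
      exact ⟨⟨_, hnc x⟩, by simp [c, mul_assoc]⟩
    · rintro ⟨x, hx⟩
      refine ⟨⟨n⁻¹ * (x : K) * n⁻¹⁻¹, (Subgroup.mem_normalizer_iff.mp (Subgroup.inv_mem _ hn) _).mp x.2⟩, ?_⟩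
      have hx' : c x = g * (n : G) * g⁻¹ * y * (g * (n : G) * g⁻¹)⁻¹ := hx
      calc c ⟨n⁻¹ * (x : K) * n⁻¹⁻¹, _⟩ = (g * (n : G) * g⁻¹)⁻¹ * c x * (g * (n : G) * g⁻¹) := by
            simp [c, mul_assoc]
        _ = y := by rw [hx']; group
  · rintro ⟨_, x, rfl⟩ h
    refine htrinj ?_
    show trHom (crd (i.symm _)) = trHom (act M (crd (i.symm (i x))))
    rw [MulEquiv.symm_apply_apply, ← hn']
    rw [show (i.symm ⟨g * (n : G) * g⁻¹ * c x * (g * (n : G) * g⁻¹)⁻¹, h⟩) = ⟨_, hnc x⟩ from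
      i.symm_apply_eq.mpr (Subtype.ext (by
        simp only [c, i, MonoidHom.ofInjective_apply, MonoidHom.comp_apply, Subgroup.coe_subtype,
          MulAut.conj_apply, MulEquiv.coe_toMonoidHom, Subgroup.coe_mul, Subgroup.coe_inv]
        group))]
    exact (hcrd ⟨_, hnc x⟩).symm

end CfsgLib.QdSection
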