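import Mathlib.FieldTheory.Finite.Extension
import Mathlib.RingTheory.Norm.Defs
import Mathlib.LinearAlgebra.Matrix.GeneralLinearGroup.Defs
import Mathlib.LinearAlgebra.Matrix.SpecialLinearGroup
import Mathlib.RingTheory.IntegralDomain
import Mathlib.GroupTheory.SpecificGroups.Cyclic

/-!
Singer elements of `SL₂(q)`: an element of order `q + 1`.
-/

set_option autoImplicit false

namespace CfsgLib.NonSplitTorus

open Matrix

variable {F : Type*} [Field F] [Fintype F]

theorem exists_orderOf_card_add_one (p : ℕ) [Fact p.Prime] [CharP F p] :
    ∃ g : SpecialLinearGroup (Fin 2) F, orderOf g = Fintype.card F + 1 := by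
  classical
  haveI : Finite F := Finite.of_fintype F
  let K := FiniteField.Extension F p 2
  let b : Module.Basis (Fin 2) F K := Module.finBasisOfFinrankEq F K (FiniteField.finrank_extension F p 2)
  let N : Kˣ →* Fˣ := Units.map (Algebra.norm F (S := K))
  have hN : Function.Surjective N := FiniteField.unitsMap_norm_surjective F K
  have hq : 1 < Fintype.card F := Fintype.one_lt_card
  have hker : Nat.card N.ker = Fintype.card F + 1 := by
    have h := N.ker.card_mul_index
    rw [Subgroup.index_ker, MonoidHom.range_eq_top.mpr hN, Subgroup.card_top, Nat.card_units,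
      Nat.card_units, FiniteField.natCard_extension, Nat.card_eq_fintype_card (α := F)] at h
    refine Nat.eq_of_mul_eq_mul_right (show 0 < Fintype.card F - 1 by omega) ?_
    rw [h, sq, Nat.mul_comm (Fintype.card F + 1), Nat.sub_mul, Nat.mul_add, Nat.mul_one,
      Nat.one_mul]
    omega
  let f : N.ker →* SpecialLinearGroup (Fin 2) F :=
    { toFun := fun x => ⟨Algebra.leftMulMatrix b ((x : Kˣ) : K), by
        rw [← Algebra.norm_eq_matrix_det b]
        exact congrArg Units.val x.2⟩
      map_one' := Subtype.ext (map_one (Algebra.leftMulMatrix b))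
      map_mul' := fun x y => Subtype.ext (map_mul (Algebra.leftMulMatrix b) _ _) }
  have hf : Function.Injective f := fun x y h =>
    Subtype.ext (Units.ext (Algebra.leftMulMatrix_injective b (congrArg Subtype.val h)))
  obtain ⟨t, ht⟩ := IsCyclic.exists_ofOrder_eq_natCard (α := N.ker)
  exact ⟨f t, by rw [orderOf_injective f hf, ht, hker]⟩

end CfsgLib.NonSplitTorus
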