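import Cfsg.Agent.Lib.SL2Orders
import Cfsg.Agent.Lib.SLCard
import Cfsg.Agent.Lib.NonSplitTorus
import Cfsg.Agent.Lib.PrimeGraphExt

/-! Element orders of `SL(2,q)` and `PSL(2,q)`. -/

set_option autoImplicit false

namespace CfsgLib.PSL2Spectrum

open Matrix

variable {F : Type*} [Field F] [Fintype F]

local notation "SL2" => SpecialLinearGroup (Fin 2) F

/-- The split torus: an element of order `q - 1`. -/
theorem exists_orderOf_card_sub_one : ∃ g : SL2, orderOf g = Fintype.card F - 1 := by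
  classical
  obtain ⟨u, hu⟩ := IsCyclic.exists_ofOrder_eq_natCard (α := Fˣ)
  let f : Fˣ →* SL2 :=
    { toFun := fun x => ⟨Matrix.diagonal ![(x : F), ((x⁻¹ : Fˣ) : F)], by
        rw [Matrix.det_diagonal, Fin.prod_univ_two]; simp⟩
      map_one' := by
        ext i j
        fin_cases i <;> fin_cases j <;> simp
      map_mul' := fun x y => by
        apply Subtype.ext
        show Matrix.diagonal _ = Matrix.diagonal ![(x : F), ((x⁻¹ : Fˣ) : F)] * Matrix.diagonal ![(y : F), ((y⁻¹ : Fˣ) : F)]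
        rw [Matrix.diagonal_mul_diagonal]
        congr 1
        funext i
        fin_cases i <;> simp [mul_comm] }
  have hf : Function.Injective f := fun x y h =>
    Units.ext (by
      have h0 : Matrix.diagonal ![(x : F), ((x⁻¹ : Fˣ) : F)] 0 0 = Matrix.diagonal ![(y : F), ((y⁻¹ : Fˣ) : F)] 0 0 :=
        congrArg (fun g : SL2 => g.1 0 0) h
      simpa using h0)
  exact ⟨f u, by rw [orderOf_injective f hf, hu, Nat.card_units, Nat.card_eq_fintype_card]⟩

theorem mk_pow_eq_one_iff {p : ℕ} [Fact p.Prime] [CharP F p] (hodd : Odd (Fintype.card F)) (g : SL2) (k : ℕ) :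
    ((g : ProjectiveSpecialLinearGroup (Fin 2) F) ^ k = 1) ↔ g ^ (k * 2) = 1 := by
  rw [← QuotientGroup.mk_pow, QuotientGroup.eq_one_iff]
  constructor
  · intro h
    obtain ⟨r, hr, hg⟩ := Matrix.SpecialLinearGroup.mem_center_iff.mp h
    rw [Fintype.card_fin] at hr
    rw [pow_mul]
    apply Subtype.ext
    show (g ^ k : SL2).1 ^ 2 = 1
    rw [← hg, ← map_pow, hr, map_one]
  · intro h
    rw [pow_mul, pow_two] at h
    rcases SL2Orders.eq_one_or_neg_one_of_sq (SL2Orders.two_ne_zero_of_odd hodd) _ h with e | e <;> rw [e]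
    · exact one_mem _
    · rw [Subgroup.mem_center_iff]; intro x; simp

theorem orderOf_mk_of_even {p : ℕ} [Fact p.Prime] [CharP F p] (hodd : Odd (Fintype.card F)) {g : SL2} {m : ℕ}
    (hg : orderOf g = m * 2) : orderOf (g : ProjectiveSpecialLinearGroup (Fin 2) F) = m := by
  apply Nat.dvd_antisymm
  · exact orderOf_dvd_of_pow_eq_one ((mk_pow_eq_one_iff (p := p) hodd g m).mpr (by rw [← hg, pow_orderOf_eq_one]))
  · have h := (mk_pow_eq_one_iff (p := p) hodd g _).mp
      (pow_orderOf_eq_one (g : ProjectiveSpecialLinearGroup (Fin 2) F))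
    have h' := orderOf_dvd_of_pow_eq_one h
    rw [hg] at h'
    exact Nat.dvd_of_mul_dvd_mul_right (by norm_num) h'

theorem mem_range_of_dvd {G : Type*} [Group G] [Finite G] {m n : ℕ} (hm : ∃ g : G, orderOf g = m) (hn : n ∣ m) :
    ∃ g : G, orderOf g = n := by
  obtain ⟨g, hg⟩ := hm
  have hm0 : m ≠ 0 := hg ▸ (orderOf_pos g).ne'
  obtain ⟨c, rfl⟩ := hn
  refine ⟨g ^ c, ?_⟩
  rw [orderOf_pow, hg, Nat.gcd_eq_right (dvd_mul_left c n), Nat.mul_div_cancel _ (Nat.pos_of_ne_zero (right_ne_zero_of_mul hm0))]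

/-- The element orders of `PSL(2,q)`. -/
theorem psl_orders (p : ℕ) [hp : Fact p.Prime] [CharP F p] (n : ℕ) :
    (∃ x : ProjectiveSpecialLinearGroup (Fin 2) F, orderOf x = n) ↔
      n ∣ (Fintype.card F - 1) / Nat.gcd 2 (Fintype.card F - 1) ∨
      n ∣ (Fintype.card F + 1) / Nat.gcd 2 (Fintype.card F - 1) ∨ n = p := by
  classical
  obtain ⟨f, -, hq⟩ := FiniteField.card F p
  have hcard : Nat.card (ProjectiveSpecialLinearGroup (Fin 2) F) * Nat.gcd (Fintype.card F - 1) 2 =
      Fintype.card F * (Fintype.card F ^ 2 - 1) := by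
    rw [← SLCard.card_SL_two, ← SLCard.gcd_mul_card_PSL (n := 2) (by norm_num), mul_comm, Nat.gcd_comm]
  have hpdvd : ∃ x : ProjectiveSpecialLinearGroup (Fin 2) F, orderOf x = p := by
    refine exists_prime_orderOf_dvd_card' p ?_
    have h1 : p ∣ Nat.card (ProjectiveSpecialLinearGroup (Fin 2) F) * Nat.gcd (Fintype.card F - 1) 2 :=
      hcard ▸ (hq ▸ dvd_pow_self p f.2.ne').mul_right _
    rcases hp.out.dvd_mul.mp h1 with h | h
    · exact h
    · exfalso
      have h2 : p ∣ Fintype.card F - 1 := h.trans (Nat.gcd_dvd_left _ _)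
      have h3 : p ∣ Fintype.card F := hq ▸ dvd_pow_self p f.2.ne'
      have h4 := Nat.dvd_sub h3 h2
      rw [Nat.sub_sub_self Fintype.card_pos] at h4
      exact hp.out.one_lt.ne' (Nat.dvd_one.mp h4)
  rcases Nat.even_or_odd (Fintype.card F) with heven | hodd
  · have hp2 : p = 2 := by
      have h2 : 2 ∣ p ^ (f : ℕ) := hq ▸ heven.two_dvd
      exact ((Nat.prime_dvd_prime_iff_eq Nat.prime_two hp.out).mp (Nat.prime_two.dvd_of_dvd_pow h2)).symm
    subst hp2
    have hd : Nat.gcd 2 (Fintype.card F - 1) = 1 := by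
      refine (Nat.prime_two.coprime_iff_not_dvd.mpr ?_ : Nat.Coprime 2 _)
      have := Fintype.card_pos (α := F)
      obtain ⟨j, hj⟩ := heven
      omega
    simp only [hd, Nat.div_one]
    let e := PrimeGraphExt.pslEquiv (F := F)
    constructor
    · rintro ⟨x, rfl⟩
      rw [← MulEquiv.orderOf_eq e x]
      rcases SL2Orders.pow_cases_char_two (e x) with h | h | h
      · exact Or.inl (orderOf_dvd_of_pow_eq_one h)
      · exact Or.inr (Or.inl (orderOf_dvd_of_pow_eq_one h))
      · rcases (Nat.dvd_prime Nat.prime_two).mp (orderOf_dvd_of_pow_eq_one h) with h' | h'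
        · exact Or.inl (by rw [h']; exact one_dvd _)
        · exact Or.inr (Or.inr h')
    · rintro (h | h | rfl)
      · obtain ⟨g, hg⟩ := exists_orderOf_card_sub_one (F := F)
        exact mem_range_of_dvd ⟨e.symm g, by rw [MulEquiv.orderOf_eq, hg]⟩ h
      · obtain ⟨g, hg⟩ := NonSplitTorus.exists_orderOf_card_add_one (F := F) 2
        exact mem_range_of_dvd ⟨e.symm g, by rw [MulEquiv.orderOf_eq, hg]⟩ h
      · exact hpdvd
  · have hd : Nat.gcd 2 (Fintype.card F - 1) = 2 := by
      obtain ⟨j, hj⟩ := hodd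
      exact Nat.gcd_eq_left ⟨j, by omega⟩
    simp only [hd]
    obtain ⟨j, hj⟩ := hodd
    constructor
    · rintro ⟨x, rfl⟩
      rcases SL2Orders.psl_pow_cases p ⟨j, hj⟩ x with h | h | h
      · exact Or.inl (orderOf_dvd_of_pow_eq_one h)
      · exact Or.inr (Or.inl (orderOf_dvd_of_pow_eq_one h))
      · rcases (Nat.dvd_prime hp.out).mp (orderOf_dvd_of_pow_eq_one h) with h' | h'
        · exact Or.inl (by rw [h']; exact one_dvd _)
        · exact Or.inr (Or.inr h')
    · rintro (h | h | rfl)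
      · obtain ⟨g, hg⟩ := exists_orderOf_card_sub_one (F := F)
        exact mem_range_of_dvd ⟨_, orderOf_mk_of_even (p := p) ⟨j, hj⟩ (m := (Fintype.card F - 1) / 2) (by omega : orderOf g = _)⟩ h
      · obtain ⟨g, hg⟩ := NonSplitTorus.exists_orderOf_card_add_one (F := F) p
        exact mem_range_of_dvd ⟨_, orderOf_mk_of_even (p := p) ⟨j, hj⟩ (m := (Fintype.card F + 1) / 2) (by omega : orderOf g = _)⟩ h
      · exact hpdvd

end CfsgLib.PSL2Spectrum
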