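import Mathlib.LinearAlgebra.Matrix.Charpoly.Coeff
import Mathlib.LinearAlgebra.Matrix.CharP
import Mathlib.Algebra.CharP.Lemmas
import Mathlib.Data.Nat.Log
import Mathlib.LinearAlgebra.Matrix.GeneralLinearGroup.Defs
import Mathlib.GroupTheory.OrderOfElement

/-!
Orders of unipotent matrices in positive characteristic.
-/

set_option autoImplicit false

namespace CfsgLib.Unipotent

open Matrix

variable {F : Type*} [Field F] {n : ℕ}

theorem pow_eq_zero_of_isNilpotent {M : Matrix (Fin n) (Fin n) F} (h : IsNilpotent M) :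
    M ^ n = 0 := by
  have h1 := sub_eq_zero.mp (Matrix.isNilpotent_charpoly_sub_pow_of_isNilpotent h).eq_zero
  have h2 := Matrix.aeval_self_charpoly M
  rw [h1, map_pow, Polynomial.aeval_X, Fintype.card_fin] at h2
  exact h2

theorem sub_one_pow_char_pow (p : ℕ) [Fact p.Prime] [CharP F p] (hn : 0 < n)
    (M : Matrix (Fin n) (Fin n) F) (k : ℕ) : (M - 1) ^ p ^ k = M ^ p ^ k - 1 := by
  have : Nonempty (Fin n) := ⟨⟨0, hn⟩⟩
  rw [sub_pow_char_pow_of_commute (p := p) (n := k) (Commute.one_right M), one_pow]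

/-- An element of `p`-power order is unipotent. -/
theorem isNilpotent_of_pow (p : ℕ) [Fact p.Prime] [CharP F p] {g : GL (Fin n) F} {j : ℕ}
    (h : g ^ p ^ j = 1) : IsNilpotent (g.1 - 1) := by
  rcases Nat.eq_zero_or_pos n with rfl | hn
  · exact ⟨1, Subsingleton.elim _ _⟩
  exact ⟨p ^ j, by rw [sub_one_pow_char_pow p hn, ← Units.val_pow_eq_pow_val, h, Units.val_one,
    sub_self]⟩

/-- A unipotent element has order dividing `p ^ clog p n`. -/
theorem pow_clog_eq_one (p : ℕ) [Fact p.Prime] [CharP F p] {g : GL (Fin n) F}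
    (h : IsNilpotent (g.1 - 1)) : g ^ p ^ Nat.clog p n = 1 := by
  rcases Nat.eq_zero_or_pos n with rfl | hn
  · exact Units.ext (Subsingleton.elim _ _)
  apply Units.ext
  rw [Units.val_pow_eq_pow_val, Units.val_one, ← sub_eq_zero, ← sub_one_pow_char_pow p hn]
  exact pow_eq_zero_of_le (Nat.le_pow_clog (Fact.out : p.Prime).one_lt n)
    (pow_eq_zero_of_isNilpotent h)

/-- A unipotent element whose nilpotent part has maximal index has order `p ^ clog p n`. -/
theorem orderOf_eq_of_pow_ne_zero (p : ℕ) [Fact p.Prime] [CharP F p] {g : GL (Fin n) F}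
    (h : IsNilpotent (g.1 - 1)) (hne : (g.1 - 1) ^ (n - 1) ≠ 0) :
    orderOf g = p ^ Nat.clog p n := by
  have hp := (Fact.out : p.Prime)
  obtain ⟨i, hi, he⟩ := (Nat.dvd_prime_pow hp).mp (orderOf_dvd_of_pow_eq_one (pow_clog_eq_one p h))
  rcases lt_or_eq_of_le hi with hlt | heq
  · exfalso
    have hn : 1 < n := by
      by_contra hh
      rw [Nat.clog_of_right_le_one (by omega)] at hlt
      omega
    have h1 : p ^ i < n := (Nat.pow_le_pow_right hp.pos (Nat.le_pred_of_lt hlt)).trans_lt
      (Nat.pow_pred_clog_lt_self hp.one_lt hn)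
    refine hne (pow_eq_zero_of_le (by omega : p ^ i ≤ n - 1) ?_)
    rw [sub_one_pow_char_pow p (by omega), ← Units.val_pow_eq_pow_val, ← he, pow_orderOf_eq_one,
      Units.val_one, sub_self]
  · rw [he, heq]

/-- The shift matrix. -/
def shift (F : Type*) [Field F] (n : ℕ) : Matrix (Fin n) (Fin n) F :=
  Matrix.of fun i j => if i.val + 1 = j.val then 1 else 0

theorem shift_pow (k : ℕ) (i j : Fin n) :
    (shift F n ^ k) i j = if i.val + k = j.val then 1 else 0 := by
  induction k generalizing j with
  | zero => simp [Matrix.one_apply, Fin.ext_iff]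
  | succ k ih =>
    rw [pow_succ, Matrix.mul_apply]
    have e : ∀ b : Fin n, (shift F n ^ k) i b * shift F n b j =
        if i.val + k = b.val ∧ b.val + 1 = j.val then 1 else 0 := fun b => by
      rw [ih b, show shift F n b j = if b.val + 1 = j.val then 1 else 0 from rfl, ite_and]
      split_ifs <;> simp
    simp only [e]
    by_cases hk : i.val + (k + 1) = j.val
    · rw [Finset.sum_eq_single (⟨i.val + k, by omega⟩ : Fin n), if_pos hk,
        if_pos ⟨rfl, by simp only; omega⟩]
      · intro b _ hb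
        exact if_neg fun e => hb (Fin.ext e.1.symm)
      · simp
    · rw [if_neg hk]
      exact Finset.sum_eq_zero fun b _ => if_neg (by omega)

end CfsgLib.Unipotent
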