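import Cfsg.Agent.Lib.PSL2.Aut
import Cfsg.Agent.Lib.PSLn.Extend
import Cfsg.Agent.Lib.Unipotent
import Mathlib.GroupTheory.Rank
import Mathlib.GroupTheory.GroupAction.Quotient

/-!
Unipotent elements of `GL_2` and `SL_2`: normal form, conjugacy of upper unitriangular elements.
-/

set_option autoImplicit false

namespace CfsgLib.TwoByTwo

open Matrix
open CfsgLib.PSL2 (uSL coe_uSL dSL coe_dSL)

variable {F : Type*} [Field F]

/-- An element of `p`-power order of `GL_2` is `1 + N` with `N ^ 2 = 0`. -/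
theorem sub_one_sq (p : ℕ) [Fact p.Prime] [CharP F p] {g : GL (Fin 2) F} (h : g ^ p = 1) :
    (g.1 - 1) * (g.1 - 1) = 0 := by
  rw [← sq]
  exact Unipotent.pow_eq_zero_of_isNilpotent
    (Unipotent.isNilpotent_of_pow p (j := 1) (by rwa [pow_one]))

/-- A nontrivial unipotent matrix is conjugate to the standard one. -/
theorem exists_conj_std {M : Matrix (Fin 2) (Fin 2) F} (h : (M - 1) * (M - 1) = 0) (hne : M ≠ 1) :
    ∃ P : GL (Fin 2) F, M * P.1 = P.1 * !![1, 1; 0, 1] := by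
  obtain ⟨u, hu⟩ : ∃ u, (M - 1) *ᵥ u ≠ 0 := by
    by_contra hh
    push Not at hh
    refine hne (sub_eq_zero.mp (Matrix.mulVec_injective ?_))
    funext v
    rw [hh v, zero_mulVec]
  set v := (M - 1) *ᵥ u with hv
  have hNv : (M - 1) *ᵥ v = 0 := by rw [hv, mulVec_mulVec, h, zero_mulVec]
  have hMv : M *ᵥ v = v := by rwa [sub_mulVec, one_mulVec, sub_eq_zero] at hNv
  have hMu : M *ᵥ u = u + v := by rw [hv, sub_mulVec, one_mulVec, add_sub_cancel]
  have hind : LinearIndependent F ![v, u] := by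
    rw [LinearIndependent.pair_iff]
    intro a b hab
    have hb := congrArg ((M - 1) *ᵥ ·) hab
    simp only [mulVec_add, mulVec_smul, hNv, smul_zero, zero_add, mulVec_zero, ← hv] at hb
    have hb0 : b = 0 := (smul_eq_zero.mp hb).resolve_right hu
    subst hb0
    rw [zero_smul, add_zero] at hab
    exact ⟨(smul_eq_zero.mp hab).resolve_right hu, rfl⟩
  have hind0 : LinearIndependent F ![(Pi.single 0 1 : Fin 2 → F), Pi.single 1 1] := by
    rw [LinearIndependent.pair_iff]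
    intro a b hab
    have e0 := congrFun hab 0
    have e1 := congrFun hab 1
    simp at e0 e1
    exact ⟨e0, e1⟩
  obtain ⟨P, hP⟩ := PSLn.exists_GL_mulVec hind0 hind
  have hP0 : P.1 *ᵥ Pi.single 0 1 = v := hP 0
  have hP1 : P.1 *ᵥ Pi.single 1 1 = u := hP 1
  refine ⟨P, Matrix.ext_of_mulVec_single fun i => ?_⟩
  rw [← mulVec_mulVec, ← mulVec_mulVec]
  fin_cases i
  · have e : (!![1, 1; 0, 1] : Matrix (Fin 2) (Fin 2) F) *ᵥ Pi.single 0 1 = Pi.single 0 1 := by
      funext j; fin_cases j <;> simp [mulVec, dotProduct, Fin.sum_univ_two]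
    show M *ᵥ (P.1 *ᵥ Pi.single 0 1) = P.1 *ᵥ (_ *ᵥ Pi.single 0 1)
    rw [e, hP0, hMv]
  · have e : (!![1, 1; 0, 1] : Matrix (Fin 2) (Fin 2) F) *ᵥ Pi.single 1 1 =
        Pi.single 0 1 + Pi.single 1 1 := by
      funext j; fin_cases j <;> simp [mulVec, dotProduct, Fin.sum_univ_two]
    show M *ᵥ (P.1 *ᵥ Pi.single 1 1) = P.1 *ᵥ (_ *ᵥ Pi.single 1 1)
    rw [e, mulVec_add, hP0, hP1, hMu, add_comm]

theorem uSL_ne_one {d : F} (hd : d ≠ 0) : (uSL d : SpecialLinearGroup (Fin 2) F) ≠ 1 := fun h =>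
  hd (by simpa [coe_uSL] using congrFun (congrFun (congrArg Subtype.val h) 0) 1)

theorem uSL_mul (a b : F) : uSL a * uSL b = uSL (a + b) :=
  Subtype.ext (by simp [coe_uSL, Matrix.mul_fin_two, add_comm])

theorem uSL_zero : (uSL 0 : SpecialLinearGroup (Fin 2) F) = 1 :=
  Subtype.ext (by simp [coe_uSL, Matrix.one_fin_two])

theorem uSL_pow (a : F) (k : ℕ) : uSL a ^ k = uSL (k * a) := by
  induction k with
  | zero => simp [uSL_zero]
  | succ k ih => rw [pow_succ, ih, uSL_mul]; congr 1; push_cast; ring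

theorem orderOf_uSL (p : ℕ) [Fact p.Prime] [CharP F p] {d : F} (hd : d ≠ 0) :
    orderOf (uSL d) = p :=
  orderOf_eq_prime (by rw [uSL_pow, CharP.cast_eq_zero, zero_mul, uSL_zero]) (uSL_ne_one hd)

/-- A nontrivial unipotent element of `SL_2` is conjugate to some `uSL d`. -/
theorem exists_isConj_uSL {g : SpecialLinearGroup (Fin 2) F} (h : (g.1 - 1) * (g.1 - 1) = 0)
    (hne : g ≠ 1) : ∃ d : F, d ≠ 0 ∧ IsConj (uSL d) g := by
  obtain ⟨P, hP⟩ := exists_conj_std h (fun e => hne (Subtype.ext e))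
  set d := P.1.det with hdd
  have hd : d ≠ 0 := ((Matrix.isUnit_iff_isUnit_det _).mp P.isUnit).ne_zero
  let A : SpecialLinearGroup (Fin 2) F := ⟨P.1 * !![d⁻¹, 0; 0, 1], by
    rw [det_mul, det_fin_two_of, ← hdd]; simp [hd]⟩
  refine ⟨d, hd, isConj_iff.mpr ⟨A, ?_⟩⟩
  rw [mul_inv_eq_iff_eq_mul]
  apply Subtype.ext
  simp only [SpecialLinearGroup.coe_mul]
  show P.1 * !![d⁻¹, 0; 0, 1] * !![1, d; 0, 1] = g.1 * (P.1 * !![d⁻¹, 0; 0, 1])
  rw [← Matrix.mul_assoc g.1, hP, Matrix.mul_assoc, Matrix.mul_assoc]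
  congr 1
  simp [Matrix.mul_fin_two, hd]

theorem isConj_uSL_sq {a : F} (ha : a ≠ 0) (b : F) : IsConj (uSL b) (uSL (a ^ 2 * b)) := by
  refine isConj_iff.mpr ⟨dSL a ha, ?_⟩
  rw [mul_inv_eq_iff_eq_mul]
  refine Subtype.ext ?_
  simp [coe_uSL, coe_dSL, Matrix.mul_fin_two]
  field_simp

theorem isConj_uSL_iff {b b' : F} (hb : b ≠ 0) :
    IsConj (uSL b) (uSL b') ↔ ∃ a : F, a ≠ 0 ∧ b' = a ^ 2 * b := by
  refine ⟨fun h => ?_, fun ⟨a, ha, e⟩ => e ▸ isConj_uSL_sq ha b⟩
  obtain ⟨c, hc⟩ := isConj_iff.mp h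
  rw [mul_inv_eq_iff_eq_mul] at hc
  have e := congrArg Subtype.val hc
  have hdet : c.1 0 0 * c.1 1 1 - c.1 0 1 * c.1 1 0 = 1 := by rw [← det_fin_two]; exact c.2
  have e11 := congrFun (congrFun e 1) 1
  have e01 := congrFun (congrFun e 0) 1
  simp [coe_uSL, Matrix.mul_apply, Fin.sum_univ_two, hb] at e11 e01
  rw [e11, mul_zero, sub_zero] at hdet
  refine ⟨c.1 0 0, fun h0 => by simp [h0] at hdet, ?_⟩
  linear_combination (-(c.1 0 0)) * e01 - b' * hdet

/-- The centraliser of `uSL b`. -/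
theorem card_centralizer_uSL [Fintype F] {b : F} (hb : b ≠ 0) :
    Nat.card (Subgroup.centralizer ({uSL b} : Set (SpecialLinearGroup (Fin 2) F))) =
      Nat.card {a : F // a * a = 1} * Fintype.card F := by
  rw [← Nat.card_eq_fintype_card (α := F), ← Nat.card_prod]
  let f : {a : F // a * a = 1} × F →
      Subgroup.centralizer ({uSL b} : Set (SpecialLinearGroup (Fin 2) F)) := fun x =>
    ⟨⟨!![x.1.1, x.2; 0, x.1.1], by rw [det_fin_two_of]; simp [x.1.2]⟩, by
      refine Subgroup.mem_centralizer_singleton_iff.mpr (Subtype.ext ?_)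
      show !![x.1.1, x.2; 0, x.1.1] * !![1, b; 0, 1] = !![1, b; 0, 1] * !![x.1.1, x.2; 0, x.1.1]
      simp [Matrix.mul_fin_two, mul_comm b, add_comm]⟩
  refine (Nat.card_congr (Equiv.ofBijective f ⟨?_, ?_⟩)).symm
  · intro x y h
    have e : (f x).1.1 = (f y).1.1 := congrArg (fun z => z.1.1) h
    have e00 := congrFun (congrFun e 0) 0
    have e01 := congrFun (congrFun e 0) 1
    simp [f] at e00 e01
    exact Prod.ext (Subtype.ext e00) e01
  · rintro ⟨c, hc⟩
    rw [Subgroup.mem_centralizer_singleton_iff] at hc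
    have e := congrArg Subtype.val hc
    have hdet : c.1 0 0 * c.1 1 1 - c.1 0 1 * c.1 1 0 = 1 := by rw [← det_fin_two]; exact c.2
    have e00 := congrFun (congrFun e 0) 0
    have e01 := congrFun (congrFun e 0) 1
    simp [coe_uSL, Matrix.mul_apply, Fin.sum_univ_two] at e00 e01
    have h10 : c.1 1 0 = 0 := e00.resolve_left hb
    have h11 : c.1 1 1 = c.1 0 0 := mul_left_cancel₀ hb (by linear_combination -e01)
    rw [h10, h11, mul_zero, sub_zero] at hdet
    refine ⟨⟨⟨c.1 0 0, hdet⟩, c.1 0 1⟩, Subtype.ext (Subtype.ext ?_)⟩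
    ext i j
    fin_cases i <;> fin_cases j <;> simp [f, h10, h11]

theorem card_carrier_mul_centralizer {G : Type*} [Group G] [Finite G] (g : G) :
    Nat.card (ConjClasses.mk g).carrier * Nat.card (Subgroup.centralizer ({g} : Set G)) =
      Nat.card G := by
  rw [Subgroup.nat_card_centralizer_nat_card_stabilizer, ← ConjAct.orbit_eq_carrier_conjClasses,
    ← Nat.card_prod, Nat.card_congr (MulAction.orbitProdStabilizerEquivGroup (ConjAct G) g)]
  exact Nat.card_congr ConjAct.ofConjAct.toEquiv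

theorem card_carrier_eq_of_isConj {G : Type*} [Group G] {g h : G} (hgh : IsConj g h) :
    Nat.card (ConjClasses.mk g).carrier = Nat.card (ConjClasses.mk h).carrier := by
  rw [ConjClasses.mk_eq_mk_iff_isConj.mpr hgh]

end CfsgLib.TwoByTwo
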