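import Mathlib
import Cfsg.Agent.Lib.SL2Centralizer
import Cfsg.Agent.Lib.SL2Orders
import Cfsg.Agent.Lib.PSL2.ClassProduct
import Cfsg.Agent.Lib.TwoByTwo

/-! Involutions and four-groups of `PSL₂(q)`, `q` odd. -/

set_option autoImplicit false
set_option linter.style.haveILetI false

namespace CfsgLib.PSL2Klein

open Matrix CfsgLib.PSL2

variable {F : Type*} [Field F] [Fintype F]

local notation "M2" => Matrix (Fin 2) (Fin 2) F
local notation "SL2" => Matrix.SpecialLinearGroup (Fin 2) F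
local notation "PSL" => Matrix.ProjectiveSpecialLinearGroup (Fin 2) F

variable (h2 : (2 : F) ≠ 0)

omit [Fintype F] in
include h2 in
theorem zero_sq_ne_four : (0 : F) ^ 2 ≠ 4 := fun e => mul_ne_zero h2 h2 (by linear_combination -e)

omit [Fintype F] in
theorem mk_eq_iff {A B : SL2} : PSL2.mk A = PSL2.mk B ↔ B = A ∨ B = -A := by
  rw [mk_eq_mk]
  constructor
  · rintro (h | h)
    · exact Or.inl (Subtype.ext h)
    · exact Or.inr (Subtype.ext h)
  · rintro (h | h) <;> subst h
    · exact Or.inl rfl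
    · exact Or.inr rfl

omit [Fintype F] in
include h2 in
theorem trace_one_ne : (1 : SL2).1.trace ≠ 0 ∧ (-1 : SL2).1.trace ≠ 0 := by
  have e : (-1 : SL2).1 = -1 := rfl
  constructor
  · show (1 : M2).trace ≠ 0
    simpa [Matrix.trace_fin_two, ← two_mul, one_add_one_eq_two] using h2
  · rw [e]
    simp [Matrix.trace_neg, Matrix.trace_fin_two, one_add_one_eq_two, h2]

omit [Fintype F] in
include h2 in
theorem sq_of_trace {G : SL2} (h : G.1.trace = 0) : G * G = -1 ∧ G ≠ 1 ∧ G ≠ -1 := by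
  refine ⟨Subtype.ext ?_, fun e => (trace_one_ne h2).1 (e ▸ h), fun e => (trace_one_ne h2).2 (e ▸ h)⟩
  show G.1 * G.1 = -1
  rw [SL2Orders.sq_eq, h, zero_smul, zero_sub]

omit [Fintype F] in
include h2 in
theorem trace_of_sq {G : SL2} (h : G * G = -1) : G.1.trace = 0 := by
  have e : G.1 * G.1 = -1 := congrArg Subtype.val h
  rw [SL2Orders.sq_eq, sub_eq_neg_self] at e
  rcases smul_eq_zero.mp e with e | e
  · exact e
  · exact absurd G.2 (by rw [e]; simp)

omit [Fintype F] in
include h2 in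
/-- The involutions of `PSL₂` are the images of the elements of trace `0`. -/
theorem invol_iff {G : SL2} : (PSL2.mk G ≠ 1 ∧ PSL2.mk G * PSL2.mk G = 1) ↔ G.1.trace = 0 := by
  constructor
  · rintro ⟨h1, h⟩
    rw [← map_one (PSL2.mk : SL2 →* PSL), Ne, mk_eq_iff] at h1
    rw [← map_mul, ← map_one (PSL2.mk : SL2 →* PSL), mk_eq_iff] at h
    refine trace_of_sq h2 ?_
    rcases h with h | h
    · exfalso
      rcases SL2Orders.eq_one_or_neg_one_of_sq h2 G h.symm with e | e
      · exact h1 (Or.inl e.symm)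
      · exact h1 (Or.inr (by rw [e, neg_neg]))
    · rw [h, neg_neg]
  · intro h
    obtain ⟨hs, hn1, hn2⟩ := sq_of_trace h2 h
    rw [← map_mul, ← map_one (PSL2.mk : SL2 →* PSL), Ne, mk_eq_iff, mk_eq_iff, hs, neg_neg]
    exact ⟨fun e => e.elim (fun e => hn1 e.symm) (fun e => hn2 (by rw [e, neg_neg])), Or.inr rfl⟩

include h2 in
theorem isConj_trace_zero {g k : SL2} (hg : g.1.trace = 0) (hk : k.1.trace = 0) : IsConj g k :=
  PSL2Product.isConj_of_trace (by rw [hg]; exact zero_sq_ne_four h2) (by rw [hk, hg])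

include h2 in
theorem card_centralizer_one {g : SL2} (hg : g.1.trace = 0) (hq : Fintype.card F % 4 = 1) :
    Nat.card (Subgroup.centralizer ({g} : Set SL2)) = Fintype.card F - 1 := by
  have h := SL2Centralizer.card_centralizer (g := g) (by rw [hg]; exact zero_sq_ne_four h2)
  rw [hg] at h
  obtain ⟨i, hi⟩ : IsSquare (-1 : F) := FiniteField.isSquare_neg_one_iff.mpr (by omega)
  haveI : Nonempty {s : F // s * s + 0 * s + 1 = 0} := ⟨⟨i, by rw [← hi]; ring⟩⟩
  have h0 : 0 < Nat.card {s : F // s * s + 0 * s + 1 = 0} := Nat.card_pos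
  rcases SL2Centralizer.card_roots (F := F) (zero_sq_ne_four h2) with e | e <;> omega

include h2 in
theorem card_centralizer_three {g : SL2} (hg : g.1.trace = 0) (hq : Fintype.card F % 4 = 3) :
    Nat.card (Subgroup.centralizer ({g} : Set SL2)) = Fintype.card F + 1 := by
  have h := SL2Centralizer.card_centralizer (g := g) (by rw [hg]; exact zero_sq_ne_four h2)
  rw [hg] at h
  haveI : IsEmpty {s : F // s * s + 0 * s + 1 = 0} := ⟨fun s =>
    FiniteField.isSquare_neg_one_iff.mp ⟨s.1, by linear_combination -s.2⟩ hq⟩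
  rw [Nat.card_of_isEmpty (α := {s : F // s * s + 0 * s + 1 = 0})] at h
  omega

omit [Fintype F] in
include h2 in
theorem trace_of_anti {g k : SL2} (hk : k * g = -g * k) : k.1.trace = 0 := by
  have e : g⁻¹ * k * g = -k := by
    rw [mul_assoc, hk, neg_mul, mul_neg, inv_mul_cancel_left]
  have e2 : (g⁻¹ * k * g).1.trace = k.1.trace := by
    show ((g⁻¹).1 * k.1 * g.1).trace = _
    rw [Matrix.trace_mul_comm, ← Matrix.mul_assoc]
    show ((g * g⁻¹).1 * k.1).trace = _
    rw [mul_inv_cancel]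
    exact congrArg Matrix.trace (one_mul _)
  rw [e] at e2
  have e3 : (-k : SL2).1.trace = -k.1.trace := Matrix.trace_neg _
  rw [e3] at e2
  exact (mul_eq_zero.mp (show (2 : F) * k.1.trace = 0 by linear_combination -e2)).resolve_left h2

omit [Fintype F] in
include h2 in
theorem not_anti_of_comm {g k : SL2} (hk : k * g = g * k) : k * g ≠ -g * k := by
  rw [hk, neg_mul]
  intro e
  have e1 : (1 : SL2) = -1 := by
    have := congrArg (fun x => x * (g * k)⁻¹) e
    simpa using this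
  exact (trace_one_ne h2).1 (by
    have e2 : (1 : SL2).1.trace = -(1 : SL2).1.trace := by
      conv_lhs => rw [e1]
      exact Matrix.trace_neg _
    exact (mul_eq_zero.mp (show (2 : F) * (1 : SL2).1.trace = 0 by linear_combination e2)).resolve_left h2)

omit [Fintype F] in
include h2 in
theorem eq_or_eq_neg {g k : SL2} (hg : g.1.trace = 0) (hk : k.1.trace = 0) (hc : k * g = g * k) :
    k = g ∨ k = -g := by
  obtain ⟨hs, -, -⟩ := sq_of_trace h2 hg
  obtain ⟨ks, -, -⟩ := sq_of_trace h2 hk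
  have h1 : (k * g) * (k * g) = 1 := by
    calc (k * g) * (k * g) = (k * g) * (g * k) := by rw [hc]
      _ = k * (g * g) * k := by simp only [mul_assoc]
      _ = 1 := by rw [hs, mul_neg, mul_one, neg_mul, ks, neg_neg]
  rcases SL2Orders.eq_one_or_neg_one_of_sq h2 _ h1 with e | e
  · right
    calc k = k * g * g⁻¹ := by rw [mul_inv_cancel_right]
      _ = g⁻¹ := by rw [e, one_mul]
      _ = -g := inv_eq_of_mul_eq_one_right (by rw [mul_neg, hs, neg_neg])
  · left
    calc k = k * g * g⁻¹ := by rw [mul_inv_cancel_right]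
      _ = -g⁻¹ := by rw [e, neg_one_mul]
      _ = g := by rw [inv_eq_of_mul_eq_one_right (b := -g) (by rw [mul_neg, hs, neg_neg]), neg_neg]

include h2 in
theorem card_anti {g : SL2} (hg : g.1.trace = 0) :
    Nat.card {k : SL2 // k * g = -g * k} = Nat.card (Subgroup.centralizer ({g} : Set SL2)) := by
  obtain ⟨k₀, hk₀⟩ := SL2Centralizer.exists_conj_neg h2 hg
  refine (Nat.card_congr ((Equiv.mulLeft k₀).subtypeEquiv fun c => ?_)).symm
  show c ∈ Subgroup.centralizer {g} ↔ k₀ * c * g = -g * (k₀ * c)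
  rw [Subgroup.mem_centralizer_singleton_iff, ← mul_assoc, ← hk₀, mul_assoc, mul_assoc, mul_left_cancel_iff]

include h2 in
theorem card_normalizer {g : SL2} (hg : g.1.trace = 0) :
    Nat.card {k : SL2 // k * g = g * k ∨ k * g = -g * k} = 2 * Nat.card (Subgroup.centralizer ({g} : Set SL2)) := by
  classical
  rw [Nat.card_eq_fintype_card, Fintype.card_subtype_or_disjoint (p := fun k : SL2 => k * g = g * k)
    (q := fun k : SL2 => k * g = -g * k) (by
      rw [Pi.disjoint_iff]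
      intro k
      rw [Prop.disjoint_iff, not_and]
      exact fun h h' => not_anti_of_comm h2 h h'), ← Nat.card_eq_fintype_card, ← Nat.card_eq_fintype_card,
    card_anti h2 hg, two_mul]
  congr 1
  exact Nat.card_congr (Equiv.subtypeEquivRight fun k => Subgroup.mem_centralizer_singleton_iff.symm)

/-- A group of order four of `SL₂(q)` is generated by an element of trace `0`. -/
theorem exists_gen (h2 : (2 : F) ≠ 0) {A : Subgroup SL2} (hA : Nat.card A = 4) :
    ∃ g : SL2, g.1.trace = 0 ∧ A = Subgroup.zpowers g ∧ ∀ a ∈ A, a = 1 ∨ a = -1 ∨ a = g ∨ a = -g := by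
  classical
  have hex : ∃ g ∈ A, g ≠ 1 ∧ g ≠ -1 := by
    by_contra! hcon
    have hsub : (A : Set SL2) ⊆ ({1, -1} : Set SL2) := fun a ha => by
      by_cases e : a = 1
      · exact Or.inl e
      · exact Or.inr (hcon a ha e)
    have := Set.ncard_le_ncard hsub (Set.toFinite _)
    have h' := Set.ncard_insert_le (1 : SL2) ({-1} : Set SL2)
    rw [Set.ncard_singleton] at h'
    rw [← Nat.card_coe_set_eq] at this
    have : Nat.card A ≤ 2 := this.trans h'
    omega
  obtain ⟨g, hgA, h1, h1'⟩ := hex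
  have h4 : g ^ 4 = 1 := by
    have := pow_card_eq_one' (x := (⟨g, hgA⟩ : A))
    rw [hA] at this
    exact congrArg Subtype.val this
  have hsq : g * g = -1 := by
    rcases SL2Orders.eq_one_or_neg_one_of_sq h2 (g * g) (by rw [← h4]; simp [pow_succ, mul_assoc]) with e | e
    · exfalso
      rcases SL2Orders.eq_one_or_neg_one_of_sq h2 g e with e | e
      · exact h1 e
      · exact h1' e
    · exact e
  have ho : orderOf g = 4 := by
    rw [show (4 : ℕ) = 2 ^ (1 + 1) from rfl]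
    refine orderOf_eq_prime_pow (hnot := ?_) (hfin := by simpa using h4)
    rw [pow_one, pow_two, hsq]
    intro e
    have := (sq_of_trace h2 (trace_of_sq h2 hsq)).2.1
    rcases SL2Orders.eq_one_or_neg_one_of_sq h2 g (hsq.trans e) with e | e
    · exact h1 e
    · exact h1' e
  have hAg : A = Subgroup.zpowers g :=
    (Subgroup.eq_of_le_of_card_ge (Subgroup.zpowers_le.mpr hgA) (by rw [Nat.card_zpowers, ho, hA])).symm
  refine ⟨g, trace_of_sq h2 hsq, hAg, fun a ha => ?_⟩
  rw [hAg] at ha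
  obtain ⟨n, rfl⟩ := ((isOfFinOrder_of_finite g).mem_powers_iff_mem_zpowers).mpr ha
  simp only
  rw [← pow_mod_orderOf, ho]
  have := Nat.mod_lt n (show 4 > 0 by norm_num)
  interval_cases n % 4
  · exact Or.inl (pow_zero g)
  · exact Or.inr (Or.inr (Or.inl (pow_one g)))
  · exact Or.inr (Or.inl (by rw [pow_two, hsq]))
  · exact Or.inr (Or.inr (Or.inr (by rw [pow_succ, pow_two, hsq, neg_one_mul])))

/-! ### Counting four-groups -/

/-- The four-group of two commuting involutions. -/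
def four {G : Type*} [Group G] (x y : G) (hx : x * x = 1) (hy : y * y = 1) (hxy : x * y = y * x) : Subgroup G where
  carrier := {1, x, y, x * y}
  one_mem' := Or.inl rfl
  mul_mem' := by
    have ex : ∀ t, x * (x * t) = t := fun t => by rw [← mul_assoc, hx, one_mul]
    have ey : ∀ t, y * (y * t) = t := fun t => by rw [← mul_assoc, hy, one_mul]
    have eyx : ∀ t, y * (x * t) = x * (y * t) := fun t => by rw [← mul_assoc, ← hxy, mul_assoc]
    rintro a b (rfl | rfl | rfl | rfl) (rfl | rfl | rfl | rfl) <;>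
      simp [hx, hy, ← hxy, ex, ey, eyx, mul_assoc]
  inv_mem' := by
    have e1 : x⁻¹ = x := inv_eq_of_mul_eq_one_right hx
    have e2 : y⁻¹ = y := inv_eq_of_mul_eq_one_right hy
    rintro a (rfl | rfl | rfl | rfl) <;> simp [e1, e2, _root_.mul_inv_rev, ← hxy]

theorem four_klein {G : Type*} [Group G] {x y : G} (hx : x * x = 1) (hy : y * y = 1) (hxy : x * y = y * x)
    (hx1 : x ≠ 1) (hy1 : y ≠ 1) (hne : x ≠ y) : IsKleinFour (four x y hx hy hxy) := by
  have hcard : Nat.card (four x y hx hy hxy) = 4 := by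
    show Nat.card ↥({1, x, y, x * y} : Set G) = 4
    rw [Nat.card_coe_set_eq]
    have e1 : y⁻¹ = y := inv_eq_of_mul_eq_one_right hy
    have n1 : x * y ≠ 1 := fun e => hne ((mul_eq_one_iff_eq_inv.mp e).trans e1)
    have n2 : x * y ≠ x := fun e => hy1 (by simpa using e)
    have n3 : x * y ≠ y := fun e => hx1 (by simpa using e)
    have : ({1, x, y, x * y} : Set G).ncard = 4 := by
      rw [Set.ncard_eq_four]
      exact ⟨1, x, y, x * y, hx1.symm, hy1.symm, n1.symm, hne, n2.symm, n3.symm, rfl⟩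
    exact this
  haveI : Finite (four x y hx hy hxy) := Nat.finite_of_card_ne_zero (by omega)
  refine IsKleinFour.mk hcard (Nat.dvd_antisymm (Monoid.exponent_dvd_of_forall_pow_eq_one fun a => ?_) ?_)
  · obtain ⟨a, ha⟩ := a
    refine Subtype.ext ?_
    show a ^ 2 = 1
    have ey : ∀ t, y * (x * t) = x * (y * t) := fun t => by rw [← mul_assoc, ← hxy, mul_assoc]
    rcases ha with rfl | rfl | rfl | rfl <;> simp [pow_two, hx, hy, mul_assoc, ey]
  · haveI : Fact (Nat.Prime 2) := ⟨Nat.prime_two⟩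
    have h := Monoid.order_dvd_exponent (⟨x, Or.inr (Or.inl rfl)⟩ : four x y hx hy hxy)
    rwa [orderOf_eq_prime (p := 2) (Subtype.ext (by show x ^ 2 = 1; rw [pow_two, hx]))
      (fun e => hx1 (congrArg Subtype.val e))] at h

/-- Ordered pairs of non-identity distinct elements of four-groups. -/
theorem card_pairs {G : Type*} [Group G] [Finite G] :
    Nat.card {p : G × G // p.1 ≠ 1 ∧ p.2 ≠ 1 ∧ p.1 ≠ p.2 ∧ p.1 * p.1 = 1 ∧ p.2 * p.2 = 1 ∧ p.1 * p.2 = p.2 * p.1} =
      6 * Nat.card {V : Subgroup G // IsKleinFour V} := by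
  classical
  have : Fintype G := Fintype.ofFinite G
  have key : ∀ s t : (V : {V : Subgroup G // IsKleinFour V}) × {p : V.1 × V.1 // p.1 ≠ 1 ∧ p.2 ≠ 1 ∧ p.1 ≠ p.2},
      s.1.1 = t.1.1 → ((s.2.1.1 : G), (s.2.1.2 : G)) = ((t.2.1.1 : G), (t.2.1.2 : G)) → s = t := by
    rintro ⟨⟨V, _⟩, ⟨⟨a, _⟩, ⟨b, _⟩⟩, _⟩ ⟨⟨W, _⟩, ⟨⟨a', _⟩, ⟨b', _⟩⟩, _⟩ e1 e2
    simp only at e1 e2
    subst e1
    cases e2
    rfl
  let e : {p : G × G // p.1 ≠ 1 ∧ p.2 ≠ 1 ∧ p.1 ≠ p.2 ∧ p.1 * p.1 = 1 ∧ p.2 * p.2 = 1 ∧ p.1 * p.2 = p.2 * p.1} ≃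
      (V : {V : Subgroup G // IsKleinFour V}) × {p : V.1 × V.1 // p.1 ≠ 1 ∧ p.2 ≠ 1 ∧ p.1 ≠ p.2} :=
    { toFun := fun p => ⟨⟨four p.1.1 p.1.2 p.2.2.2.2.1 p.2.2.2.2.2.1 p.2.2.2.2.2.2,
          four_klein _ _ _ p.2.1 p.2.2.1 p.2.2.2.1⟩,
        ⟨(⟨p.1.1, Or.inr (Or.inl rfl)⟩, ⟨p.1.2, Or.inr (Or.inr (Or.inl rfl))⟩),
          fun h => p.2.1 (congrArg Subtype.val h), fun h => p.2.2.1 (congrArg Subtype.val h),
          fun h => p.2.2.2.1 (congrArg Subtype.val h)⟩⟩
      invFun := fun s => ⟨(s.2.1.1.1, s.2.1.2.1), fun h => s.2.2.1 (Subtype.ext h),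
        fun h => s.2.2.2.1 (Subtype.ext h), fun h => s.2.2.2.2 (Subtype.ext h),
        haveI := s.1.2; congrArg Subtype.val (IsKleinFour.mul_self s.2.1.1),
        haveI := s.1.2; congrArg Subtype.val (IsKleinFour.mul_self s.2.1.2),
        haveI := s.1.2; congrArg Subtype.val (mul_comm_of_exponent_two (G := s.1.1) IsKleinFour.exponent_two s.2.1.1 s.2.1.2)⟩
      left_inv := fun p => rfl
      right_inv := by
        rintro ⟨⟨V, hV⟩, ⟨⟨x, hx⟩, ⟨y, hy⟩⟩, h1, h2, h3⟩
        have hle : ∀ z, z ∈ ({1, x, y, x * y} : Set G) → z ∈ V := by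
          rintro z (rfl | rfl | rfl | rfl)
          · exact one_mem V
          · exact hx
          · exact hy
          · exact mul_mem hx hy
        haveI := hV
        have hK := four_klein (x := x) (y := y) (congrArg Subtype.val (IsKleinFour.mul_self (⟨x, hx⟩ : V)))
          (congrArg Subtype.val (IsKleinFour.mul_self (⟨y, hy⟩ : V)))
          (congrArg Subtype.val (mul_comm_of_exponent_two IsKleinFour.exponent_two (⟨x, hx⟩ : V) ⟨y, hy⟩))
          (fun h => h1 (Subtype.ext h)) (fun h => h2 (Subtype.ext h)) (fun h => h3 (Subtype.ext h))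
        have heq := Subgroup.eq_of_le_of_card_ge (H := four x y _ _ _) hle
          (by rw [hK.card_four, hV.card_four])
        exact key _ _ heq rfl }
  rw [Nat.card_congr e, Nat.card_sigma, Finset.sum_congr rfl (g := fun _ => 6), Finset.sum_const, smul_eq_mul,
    mul_comm, Nat.card_eq_fintype_card]
  · rfl
  · intro V _
    haveI := V.2
    have hc : Fintype.card V.1 = 4 := by rw [← Nat.card_eq_fintype_card]; exact V.2.card_four
    rw [Nat.card_eq_fintype_card, Fintype.card_subtype]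
    have hset : (Finset.univ.filter fun p : V.1 × V.1 => p.1 ≠ 1 ∧ p.2 ≠ 1 ∧ p.1 ≠ p.2) =
        (Finset.univ.erase 1).offDiag := by
      ext p
      simp [and_assoc]
    rw [hset, Finset.offDiag_card, Finset.card_erase_of_mem (Finset.mem_univ _), Finset.card_univ, hc]

include h2 in
theorem card_lift_pairs :
    Nat.card {p : SL2 × SL2 // p.1.1.trace = 0 ∧ p.2 * p.1 = -p.1 * p.2} = Nat.card SL2 := by
  classical
  obtain ⟨g₀, hg₀⟩ : ∃ g : SL2, g.1.trace = 0 := ⟨⟨!![0, 1; -1, 0], by simp [Matrix.det_fin_two]⟩, by simp [Matrix.trace_fin_two]⟩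
  let e : {p : SL2 × SL2 // p.1.1.trace = 0 ∧ p.2 * p.1 = -p.1 * p.2} ≃
      (g : {g : SL2 // g.1.trace = 0}) × {k : SL2 // k * g.1 = -g.1 * k} :=
    { toFun := fun p => ⟨⟨p.1.1, p.2.1⟩, ⟨p.1.2, p.2.2⟩⟩
      invFun := fun s => ⟨(s.1.1, s.2.1), s.1.2, s.2.2⟩
      left_inv := fun p => rfl
      right_inv := fun s => rfl }
  have hcl : Nat.card {g : SL2 // g.1.trace = 0} = Nat.card (ConjClasses.mk g₀).carrier :=
    Nat.card_congr (Equiv.subtypeEquivRight fun g => by
      rw [ConjClasses.mem_carrier_iff_mk_eq, ConjClasses.mk_eq_mk_iff_isConj]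
      refine ⟨fun hg => isConj_trace_zero h2 hg hg₀, fun hg => ?_⟩
      obtain ⟨c, rfl⟩ := isConj_iff.mp hg.symm
      show (c.1 * g₀.1 * (c⁻¹).1).trace = 0
      rw [Matrix.trace_mul_comm, ← Matrix.mul_assoc]
      show ((c⁻¹ * c).1 * g₀.1).trace = 0
      rw [inv_mul_cancel]
      exact (congrArg Matrix.trace (one_mul _)).trans hg₀)
  rw [Nat.card_congr e, Nat.card_sigma,
    Finset.sum_congr rfl (g := fun _ => Nat.card (Subgroup.centralizer ({g₀} : Set SL2))), Finset.sum_const,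
    smul_eq_mul, Finset.card_univ, ← Nat.card_eq_fintype_card, hcl]
  · exact CfsgLib.TwoByTwo.card_carrier_mul_centralizer g₀
  · intro g _
    rw [card_anti h2 g.2]
    obtain ⟨c, hc⟩ := isConj_iff.mp (isConj_trace_zero h2 hg₀ g.2)
    exact (Nat.card_congr ((MulAut.conj c).toEquiv.subtypeEquiv fun k => by
      show k ∈ Subgroup.centralizer {g₀} ↔ c * k * c⁻¹ ∈ Subgroup.centralizer {g.1}
      rw [Subgroup.mem_centralizer_singleton_iff, Subgroup.mem_centralizer_singleton_iff, ← hc]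
      simp only [mul_assoc, inv_mul_cancel_left, mul_left_cancel_iff]
      rw [← mul_assoc k, ← mul_assoc g₀, mul_left_inj])).symm

include h2 in
theorem twelve_mul_card : 24 * Nat.card {V : Subgroup PSL // IsKleinFour V} = Nat.card SL2 := by
  classical
  rw [← card_lift_pairs h2, show (24 : ℕ) = 4 * 6 from rfl, mul_assoc, ← card_pairs]
  set L := {p : SL2 × SL2 // p.1.1.trace = 0 ∧ p.2 * p.1 = -p.1 * p.2}
  set Q := {p : PSL × PSL // p.1 ≠ 1 ∧ p.2 ≠ 1 ∧ p.1 ≠ p.2 ∧ p.1 * p.1 = 1 ∧ p.2 * p.2 = 1 ∧ p.1 * p.2 = p.2 * p.1}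
  let f : L → Q := fun l => ⟨(PSL2.mk l.1.1, PSL2.mk l.1.2), ((invol_iff h2).mpr l.2.1).1,
    ((invol_iff h2).mpr (trace_of_anti h2 l.2.2)).1, fun e => by
      rcases mk_eq_iff.mp e with e | e
      · exact not_anti_of_comm h2 (by rw [e]) l.2.2
      · exact not_anti_of_comm h2 (by rw [e, neg_mul, mul_neg]) l.2.2,
    ((invol_iff h2).mpr l.2.1).2, ((invol_iff h2).mpr (trace_of_anti h2 l.2.2)).2, by
      show PSL2.mk l.1.1 * PSL2.mk l.1.2 = PSL2.mk l.1.2 * PSL2.mk l.1.1
      rw [← map_mul, ← map_mul, mk_eq_iff, l.2.2, neg_mul]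
      exact Or.inr rfl⟩
  rw [Nat.card_congr (Equiv.sigmaFiberEquiv f).symm, Nat.card_sigma, Finset.sum_congr rfl (g := fun _ => 4),
    Finset.sum_const, smul_eq_mul, Finset.card_univ, ← Nat.card_eq_fintype_card, mul_comm]
  intro x _
  obtain ⟨⟨x1, x2⟩, hx⟩ := x
  obtain ⟨g, rfl⟩ := PSL2Product.mk_surjective x1
  obtain ⟨k, rfl⟩ := PSL2Product.mk_surjective x2
  have hg := (invol_iff h2).mp ⟨hx.1, hx.2.2.2.1⟩
  have hk := (invol_iff h2).mp ⟨hx.2.1, hx.2.2.2.2.1⟩
  have hanti : k * g = -g * k := by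
    have := hx.2.2.2.2.2
    simp only at this
    rw [← map_mul, ← map_mul, mk_eq_iff] at this
    rcases this with e | e
    · exfalso
      refine hx.2.2.1 (mk_eq_iff.mpr ?_)
      exact eq_or_eq_neg h2 hg hk e
    · rw [e, neg_mul]
  have htr : ∀ a : SL2, (-a : SL2).1.trace = -a.1.trace := fun a => Matrix.trace_neg _
  let sg : Bool → SL2 → SL2 := fun b a => if b then a else -a
  have hsg : ∀ b a, PSL2.mk (sg b a) = PSL2.mk a := fun b a => by
    cases b
    · exact mk_eq_iff.mpr (Or.inr (by simp [sg]))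
    · rfl
  have hsg2 : ∀ {a a' : SL2}, PSL2.mk a' = PSL2.mk a → ∃ b, sg b a = a' := fun {a a'} e => by
    rcases mk_eq_iff.mp e with e | e
    · exact ⟨true, by simp [sg, e]⟩
    · exact ⟨false, by simp [sg, e]⟩
  have hne : ∀ a : SL2, a.1.trace = 0 → Function.Injective fun b => sg b a := fun a ha b b' e => by
    cases b <;> cases b' <;> simp [sg] at e ⊢
    all_goals exact not_anti_of_comm h2 (rfl : a * a = a * a) (by rw [neg_mul]; first | (conv_lhs => arg 1; rw [← e]); simp [neg_mul] | (conv_lhs => arg 1; rw [e]); simp [neg_mul])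
  have : Nat.card {l : L // f l = ⟨(PSL2.mk g, PSL2.mk k), hx⟩} = Nat.card (Bool × Bool) := by
    symm
    refine Nat.card_congr (Equiv.ofBijective (fun b => ⟨⟨(sg b.1 g, sg b.2 k), ?_, ?_⟩, ?_⟩) ⟨?_, ?_⟩)
    · obtain ⟨a, c⟩ := b
      cases a <;> simp [sg, htr, hg]
    · obtain ⟨a, c⟩ := b
      cases a <;> cases c <;> simp [sg, hanti]
    · exact Subtype.ext (Prod.ext (hsg _ _) (hsg _ _))
    · rintro ⟨a, c⟩ ⟨a', c'⟩ e
      have e' := congrArg (fun l => l.1.1) e
      exact Prod.ext (hne g hg (congrArg Prod.fst e')) (hne k hk (congrArg Prod.snd e'))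
    · rintro ⟨l, hl⟩
      have e := congrArg Subtype.val hl
      obtain ⟨a, ha⟩ := hsg2 (congrArg Prod.fst e)
      obtain ⟨c, hc⟩ := hsg2 (congrArg Prod.snd e)
      exact ⟨(a, c), Subtype.ext (Subtype.ext (Prod.ext ha hc))⟩
  rw [this, Nat.card_prod, Nat.card_eq_fintype_card, Fintype.card_bool]

end CfsgLib.PSL2Klein
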