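import Mathlib
import Cfsg.Agent.Lib.PSL2Klein

/-! Subfield subgroups of `PSL₂`. -/

set_option autoImplicit false
set_option linter.style.haveILetI false

namespace CfsgLib.PSL2Subfield

/-- Embedding of the smaller field. -/
theorem exists_emb {F K : Type*} [Field F] [Fintype F] [Field K] [Fintype K] (m : ℕ) (hm : 1 ≤ m)
    (hK : Fintype.card K ^ m = Fintype.card F) : Nonempty (K →+* F) := by
  obtain ⟨p, hp⟩ := CharP.exists K
  haveI : Fact p.Prime := ⟨CharP.char_is_prime K p⟩
  haveI : NeZero m := ⟨by omega⟩
  letI := Fintype.ofFinite (FiniteField.Extension K p m)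
  have e : FiniteField.Extension K p m ≃+* F := FiniteField.ringEquivOfCardEq (by
    rw [Fintype.card_eq_nat_card, FiniteField.natCard_extension, ← Fintype.card_eq_nat_card, hK])
  exact ⟨e.toRingHom.comp (algebraMap K (FiniteField.Extension K p m))⟩

/-- `PSL₂` of the smaller field embeds. -/
theorem exists_sub {F K : Type*} [Field F] [Fintype F] [Field K] [Fintype K] (m : ℕ) (hm : 1 ≤ m)
    (hK : Fintype.card K ^ m = Fintype.card F) :
    ∃ H : Subgroup (Matrix.ProjectiveSpecialLinearGroup (Fin 2) F),
      Nonempty (H ≃* Matrix.ProjectiveSpecialLinearGroup (Fin 2) K) := by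
  obtain ⟨φ⟩ := exists_emb m hm hK
  have hφ : Function.Injective (Matrix.SpecialLinearGroup.map (n := Fin 2) φ) := fun A B e => by
    refine Subtype.ext (Matrix.ext fun i j => φ.injective ?_)
    exact congrFun (congrFun (congrArg Subtype.val e) i) j
  let f : Matrix.SpecialLinearGroup (Fin 2) K →* Matrix.ProjectiveSpecialLinearGroup (Fin 2) F :=
    CfsgLib.PSL2.mk.comp (Matrix.SpecialLinearGroup.map φ)
  have hker : f.ker = Subgroup.center _ := by
    ext A
    rw [MonoidHom.mem_ker]
    constructor
    · intro h
      have h' : CfsgLib.PSL2.mk (Matrix.SpecialLinearGroup.map φ A) = CfsgLib.PSL2.mk 1 := by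
        rw [map_one]; exact h
      have hA : A = 1 ∨ A = -1 := by
        rcases CfsgLib.PSL2Klein.mk_eq_iff.mp h' with e | e
        · exact Or.inl (hφ (e.symm.trans (map_one _).symm))
        · refine Or.inr (hφ ?_)
          have e' : Matrix.SpecialLinearGroup.map φ A = -1 := by rw [e, neg_neg]
          rw [e']
          refine Subtype.ext (Matrix.ext fun i j => ?_)
          show (-1 : Matrix (Fin 2) (Fin 2) F) i j = φ ((-1 : Matrix (Fin 2) (Fin 2) K) i j)
          by_cases hij : i = j <;> simp [hij]
      rw [Subgroup.mem_center_iff]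
      rcases hA with rfl | rfl <;> intro g <;> simp
    · intro h
      obtain ⟨r, hr, hA⟩ := Matrix.SpecialLinearGroup.mem_center_iff.mp h
      rw [Fintype.card_fin, sq_eq_one_iff] at hr
      show CfsgLib.PSL2.mk (Matrix.SpecialLinearGroup.map φ A) = 1
      rw [← map_one (CfsgLib.PSL2.mk : _ →* Matrix.ProjectiveSpecialLinearGroup (Fin 2) F), CfsgLib.PSL2.mk_eq_mk]
      have hval : (Matrix.SpecialLinearGroup.map φ A).1 = A.1.map φ := rfl
      rw [hval, ← hA]
      rcases hr with rfl | rfl
      · left; simp
      · right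
        show (1 : Matrix (Fin 2) (Fin 2) F) = _
        ext i j
        by_cases hij : i = j <;> simp [hij, Matrix.one_apply]
  let g := QuotientGroup.lift (Subgroup.center (Matrix.SpecialLinearGroup (Fin 2) K)) f hker.ge
  have hg : Function.Injective g := (QuotientGroup.injective_lift_iff _ _ _).mpr hker.symm
  exact ⟨g.range, ⟨(MonoidHom.ofInjective hg).symm⟩⟩

end CfsgLib.PSL2Subfield
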