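import Mathlib
import Cfsg.Agent.Lib.PSL2Klein

/-! The binary tetrahedral, octahedral and icosahedral groups inside `SL₂(q)`, `q` odd. -/

set_option autoImplicit false
set_option linter.style.haveILetI false
set_option maxRecDepth 20000

namespace CfsgLib.PSL2Platonic

open Matrix

/-- Twice a quaternion with coefficients in `ℤ[r]`. -/
abbrev Q := (ℤ × ℤ) × (ℤ × ℤ) × (ℤ × ℤ) × (ℤ × ℤ)

/-- Product in `ℤ[r]`, `r² = c.1 + c.2 r`. -/
def zmul (c p q : ℤ × ℤ) : ℤ × ℤ :=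
  (p.1 * q.1 + c.1 * (p.2 * q.2), p.1 * q.2 + p.2 * q.1 + c.2 * (p.2 * q.2))

/-- Sum. -/
def zadd (p q : ℤ × ℤ) : ℤ × ℤ := (p.1 + q.1, p.2 + q.2)

/-- Negation. -/
def zneg (p : ℤ × ℤ) : ℤ × ℤ := (-p.1, -p.2)

/-- Scaling. -/
def zscale (k : ℤ) (p : ℤ × ℤ) : ℤ × ℤ := (k * p.1, k * p.2)

/-- Product of quaternions. -/
def qmul (c : ℤ × ℤ) (u v : Q) : Q :=
  let (a, b, x, d) := u
  let (e, f, g, h) := v
  (zadd (zadd (zmul c a e) (zneg (zmul c b f))) (zadd (zneg (zmul c x g)) (zneg (zmul c d h))),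
   zadd (zadd (zmul c a f) (zmul c b e)) (zadd (zmul c x h) (zneg (zmul c d g))),
   zadd (zadd (zmul c a g) (zneg (zmul c b h))) (zadd (zmul c x e) (zmul c d f)),
   zadd (zadd (zmul c a h) (zmul c b g)) (zadd (zneg (zmul c x f)) (zmul c d e)))

/-- Scaling of quaternions. -/
def qscale (k : ℤ) (u : Q) : Q := (zscale k u.1, zscale k u.2.1, zscale k u.2.2.1, zscale k u.2.2.2)

/-- The norm. -/
def qnorm (c : ℤ × ℤ) (u : Q) : ℤ × ℤ :=
  zadd (zadd (zmul c u.1 u.1) (zmul c u.2.1 u.2.1)) (zadd (zmul c u.2.2.1 u.2.2.1) (zmul c u.2.2.2 u.2.2.2))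

/-- The norm of `ℤ[r]`. -/
def znorm (c p : ℤ × ℤ) : ℤ := p.1 * p.1 + c.2 * (p.1 * p.2) - c.1 * (p.2 * p.2)

/-- A unit up to powers of two. -/
def twoUnit (c p : ℤ × ℤ) : Bool := znorm c p ∈ [1, -1, 2, -2, 4, -4]

/-- Composition of lists of images. -/
def comp (l m : List ℕ) : List ℕ := m.map fun x => l.getD x 0

/-- Lookup. -/
def look (L : List (List ℕ × Q)) (l : List ℕ) : Option Q := L.lookup l

/-- The check of a table. -/
def check (c : ℤ × ℤ) (L : List (List ℕ × Q)) : Bool :=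
  (L.all fun p => L.all fun s =>
    match look L (comp p.1 s.1) with
    | some w => qmul c p.2 s.2 == qscale 2 w || qmul c p.2 s.2 == qscale (-2) w
    | none => false) &&
  (L.all fun p => qnorm c p.2 == (4, 0) && look L p.1 == some p.2 &&
    (p.1 == List.range p.1.length || twoUnit c p.2.2.1 || twoUnit c p.2.2.2.1 || twoUnit c p.2.2.2.2))

/-- Table. -/
def tA4 : List (List ℕ × Q) :=
  [([0, 1, 2, 3], ((2, 0), (0, 0), (0, 0), (0, 0))),
   ([0, 2, 3, 1], ((1, 0), (1, 0), (1, 0), (1, 0))),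
   ([0, 3, 1, 2], ((1, 0), (-1, 0), (-1, 0), (-1, 0))),
   ([1, 0, 3, 2], ((0, 0), (2, 0), (0, 0), (0, 0))),
   ([1, 2, 0, 3], ((1, 0), (1, 0), (1, 0), (-1, 0))),
   ([1, 3, 2, 0], ((1, 0), (-1, 0), (1, 0), (-1, 0))),
   ([2, 0, 1, 3], ((1, 0), (-1, 0), (-1, 0), (1, 0))),
   ([2, 1, 3, 0], ((1, 0), (-1, 0), (1, 0), (1, 0))),
   ([2, 3, 0, 1], ((0, 0), (0, 0), (2, 0), (0, 0))),
   ([3, 0, 2, 1], ((1, 0), (1, 0), (-1, 0), (1, 0))),
   ([3, 1, 0, 2], ((1, 0), (1, 0), (-1, 0), (-1, 0))),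
   ([3, 2, 1, 0], ((0, 0), (0, 0), (0, 0), (2, 0)))]

/-- Table. -/
def tS4 : List (List ℕ × Q) :=
  [([0, 1, 2, 3], ((2, 0), (0, 0), (0, 0), (0, 0))),
   ([0, 1, 3, 2], ((0, 0), (0, 1), (0, 0), (0, -1))),
   ([0, 2, 1, 3], ((0, 0), (0, 1), (0, -1), (0, 0))),
   ([0, 2, 3, 1], ((1, 0), (-1, 0), (-1, 0), (-1, 0))),
   ([0, 3, 1, 2], ((1, 0), (1, 0), (1, 0), (1, 0))),
   ([0, 3, 2, 1], ((0, 0), (0, 0), (0, 1), (0, -1))),
   ([1, 0, 2, 3], ((0, 0), (0, 1), (0, 0), (0, 1))),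
   ([1, 0, 3, 2], ((0, 0), (0, 0), (2, 0), (0, 0))),
   ([1, 2, 0, 3], ((1, 0), (-1, 0), (-1, 0), (1, 0))),
   ([1, 2, 3, 0], ((0, 1), (0, 1), (0, 0), (0, 0))),
   ([1, 3, 0, 2], ((0, 1), (0, 0), (0, 0), (0, -1))),
   ([1, 3, 2, 0], ((1, 0), (-1, 0), (1, 0), (1, 0))),
   ([2, 0, 1, 3], ((1, 0), (1, 0), (1, 0), (-1, 0))),
   ([2, 0, 3, 1], ((0, 1), (0, 0), (0, 0), (0, 1))),
   ([2, 1, 0, 3], ((0, 0), (0, 0), (0, 1), (0, 1))),
   ([2, 1, 3, 0], ((1, 0), (-1, 0), (1, 0), (-1, 0))),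
   ([2, 3, 0, 1], ((0, 0), (2, 0), (0, 0), (0, 0))),
   ([2, 3, 1, 0], ((0, 1), (0, 0), (0, -1), (0, 0))),
   ([3, 0, 1, 2], ((0, 1), (0, -1), (0, 0), (0, 0))),
   ([3, 0, 2, 1], ((1, 0), (1, 0), (-1, 0), (-1, 0))),
   ([3, 1, 0, 2], ((1, 0), (1, 0), (-1, 0), (1, 0))),
   ([3, 1, 2, 0], ((0, 0), (0, 1), (0, 1), (0, 0))),
   ([3, 2, 0, 1], ((0, 1), (0, 0), (0, 1), (0, 0))),
   ([3, 2, 1, 0], ((0, 0), (0, 0), (0, 0), (2, 0)))]

/-- Table. -/
def tA5 : List (List ℕ × Q) :=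
  [([0, 1, 2, 3, 4], ((2, 0), (0, 0), (0, 0), (0, 0))),
   ([0, 1, 3, 4, 2], ((1, 0), (1, 0), (1, 0), (1, 0))),
   ([0, 1, 4, 2, 3], ((1, 0), (-1, 0), (-1, 0), (-1, 0))),
   ([0, 2, 1, 4, 3], ((0, 0), (0, 1), (1, -1), (1, 0))),
   ([0, 2, 3, 1, 4], ((1, 0), (0, 1), (0, 0), (1, -1))),
   ([0, 2, 4, 3, 1], ((1, 0), (0, 0), (-1, 1), (0, -1))),
   ([0, 3, 1, 2, 4], ((1, 0), (0, -1), (0, 0), (-1, 1))),
   ([0, 3, 2, 4, 1], ((1, 0), (1, -1), (0, 1), (0, 0))),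
   ([0, 3, 4, 1, 2], ((0, 0), (1, 0), (0, 1), (1, -1))),
   ([0, 4, 1, 3, 2], ((1, 0), (0, 0), (1, -1), (0, 1))),
   ([0, 4, 2, 1, 3], ((1, 0), (-1, 1), (0, -1), (0, 0))),
   ([0, 4, 3, 2, 1], ((0, 0), (1, -1), (1, 0), (0, 1))),
   ([1, 0, 2, 4, 3], ((0, 0), (0, 1), (1, -1), (-1, 0))),
   ([1, 0, 3, 2, 4], ((0, 0), (1, -1), (-1, 0), (0, 1))),
   ([1, 0, 4, 3, 2], ((0, 0), (1, 0), (0, -1), (-1, 1))),
   ([1, 2, 0, 3, 4], ((1, 0), (-1, 1), (0, 1), (0, 0))),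
   ([1, 2, 3, 4, 0], ((1, -1), (0, 1), (1, 0), (0, 0))),
   ([1, 2, 4, 0, 3], ((0, 1), (-1, 0), (-1, 1), (0, 0))),
   ([1, 3, 0, 4, 2], ((1, -1), (0, 0), (0, 1), (1, 0))),
   ([1, 3, 2, 0, 4], ((1, 0), (0, 0), (-1, 1), (0, 1))),
   ([1, 3, 4, 2, 0], ((0, 1), (0, 0), (-1, 0), (-1, 1))),
   ([1, 4, 0, 2, 3], ((0, 1), (-1, 1), (0, 0), (-1, 0))),
   ([1, 4, 2, 3, 0], ((1, 0), (0, 1), (0, 0), (-1, 1))),
   ([1, 4, 3, 0, 2], ((1, -1), (1, 0), (0, 0), (0, 1))),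
   ([2, 0, 1, 3, 4], ((1, 0), (1, -1), (0, -1), (0, 0))),
   ([2, 0, 3, 4, 1], ((0, 1), (1, -1), (0, 0), (1, 0))),
   ([2, 0, 4, 1, 3], ((1, -1), (0, 0), (0, -1), (-1, 0))),
   ([2, 1, 0, 4, 3], ((0, 0), (0, 0), (0, 0), (2, 0))),
   ([2, 1, 3, 0, 4], ((1, 0), (1, 0), (-1, 0), (1, 0))),
   ([2, 1, 4, 3, 0], ((1, 0), (1, 0), (-1, 0), (-1, 0))),
   ([2, 3, 0, 1, 4], ((0, 0), (0, 1), (-1, 1), (1, 0))),
   ([2, 3, 1, 4, 0], ((0, 1), (1, -1), (0, 0), (-1, 0))),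
   ([2, 3, 4, 0, 1], ((0, 1), (1, 0), (-1, 1), (0, 0))),
   ([2, 4, 0, 3, 1], ((0, 0), (0, 1), (-1, 1), (-1, 0))),
   ([2, 4, 1, 0, 3], ((1, -1), (0, 0), (0, -1), (1, 0))),
   ([2, 4, 3, 1, 0], ((1, -1), (0, 1), (-1, 0), (0, 0))),
   ([3, 0, 1, 4, 2], ((0, 1), (1, 0), (1, -1), (0, 0))),
   ([3, 0, 2, 1, 4], ((1, 0), (0, 0), (1, -1), (0, -1))),
   ([3, 0, 4, 2, 1], ((1, -1), (-1, 0), (0, 0), (0, -1))),
   ([3, 1, 0, 2, 4], ((1, 0), (-1, 0), (1, 0), (-1, 0))),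
   ([3, 1, 2, 4, 0], ((1, 0), (1, 0), (1, 0), (-1, 0))),
   ([3, 1, 4, 0, 2], ((0, 0), (2, 0), (0, 0), (0, 0))),
   ([3, 2, 0, 4, 1], ((1, -1), (0, 0), (0, 1), (-1, 0))),
   ([3, 2, 1, 0, 4], ((0, 0), (1, 0), (0, -1), (1, -1))),
   ([3, 2, 4, 1, 0], ((1, -1), (1, 0), (0, 0), (0, -1))),
   ([3, 4, 0, 1, 2], ((0, 1), (-1, 0), (1, -1), (0, 0))),
   ([3, 4, 1, 2, 0], ((0, 1), (0, 0), (1, 0), (-1, 1))),
   ([3, 4, 2, 0, 1], ((0, 0), (1, 0), (0, 1), (-1, 1))),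
   ([4, 0, 1, 2, 3], ((1, -1), (0, -1), (-1, 0), (0, 0))),
   ([4, 0, 2, 3, 1], ((1, 0), (0, -1), (0, 0), (1, -1))),
   ([4, 0, 3, 1, 2], ((0, 1), (0, 0), (1, 0), (1, -1))),
   ([4, 1, 0, 3, 2], ((1, 0), (-1, 0), (1, 0), (1, 0))),
   ([4, 1, 2, 0, 3], ((1, 0), (-1, 0), (-1, 0), (1, 0))),
   ([4, 1, 3, 2, 0], ((0, 0), (0, 0), (2, 0), (0, 0))),
   ([4, 2, 0, 1, 3], ((0, 1), (-1, 1), (0, 0), (1, 0))),
   ([4, 2, 1, 3, 0], ((0, 0), (1, -1), (-1, 0), (0, -1))),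
   ([4, 2, 3, 0, 1], ((0, 1), (0, 0), (-1, 0), (1, -1))),
   ([4, 3, 0, 2, 1], ((1, -1), (0, -1), (1, 0), (0, 0))),
   ([4, 3, 1, 0, 2], ((1, -1), (-1, 0), (0, 0), (0, 1))),
   ([4, 3, 2, 1, 0], ((0, 0), (1, -1), (1, 0), (0, -1)))]

theorem check_A4 : check (0, 0) tA4 = true := by decide +kernel

theorem check_S4 : check (2, 0) tS4 = true := by decide +kernel

theorem check_A5 : check (1, 1) tA5 = true := by decide +kernel

/-- The images of a permutation. -/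
def code {n : ℕ} (σ : Equiv.Perm (Fin n)) : List ℕ := List.ofFn fun i => (σ i : ℕ)

theorem code_mul {n : ℕ} (σ τ : Equiv.Perm (Fin n)) : code (σ * τ) = comp (code σ) (code τ) := by
  unfold code comp
  rw [List.map_ofFn]
  refine congrArg List.ofFn (funext fun i => ?_)
  simp

theorem cover_A4 : ∀ σ : Equiv.Perm (Fin 4), Equiv.Perm.sign σ = 1 → (look tA4 (code σ)).isSome = true := by
  decide +kernel

theorem cover_S4 : ∀ σ : Equiv.Perm (Fin 4), (look tS4 (code σ)).isSome = true := by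
  decide +kernel

theorem cover_A5 : ∀ σ : Equiv.Perm (Fin 5), Equiv.Perm.sign σ = 1 → (look tA5 (code σ)).isSome = true := by
  decide +kernel

section

variable {F : Type*} [Field F] [Fintype F]

/-- Evaluation of `ℤ[r]`. -/
def ev (r : F) (p : ℤ × ℤ) : F := p.1 + p.2 * r

/-- The matrix of a quaternion. -/
def toM (r a b : F) (u : Q) : Matrix (Fin 2) (Fin 2) F :=
  !![(2 : F)⁻¹ * (ev r u.1 + ev r u.2.2.1 * a + ev r u.2.2.2 * b),
     (2 : F)⁻¹ * (ev r u.2.1 + ev r u.2.2.1 * b - ev r u.2.2.2 * a);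
     (2 : F)⁻¹ * (-ev r u.2.1 + ev r u.2.2.1 * b - ev r u.2.2.2 * a),
     (2 : F)⁻¹ * (ev r u.1 - ev r u.2.2.1 * a - ev r u.2.2.2 * b)]

omit [Fintype F] in
theorem ev_zmul {c : ℤ × ℤ} {r : F} (hr : r * r = c.1 + c.2 * r) (p q : ℤ × ℤ) :
    ev r (zmul c p q) = ev r p * ev r q := by
  simp only [ev, zmul]
  push_cast
  linear_combination (-((p.2 : F) * q.2)) * hr

omit [Fintype F] in
theorem ev_zadd (r : F) (p q : ℤ × ℤ) : ev r (zadd p q) = ev r p + ev r q := by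
  simp only [ev, zadd]; push_cast; ring

omit [Fintype F] in
theorem ev_zneg (r : F) (p : ℤ × ℤ) : ev r (zneg p) = -ev r p := by
  simp only [ev, zneg]; push_cast; ring

omit [Fintype F] in
theorem ev_zscale (r : F) (k : ℤ) (p : ℤ × ℤ) : ev r (zscale k p) = k * ev r p := by
  simp only [ev, zscale]; push_cast; ring

omit [Fintype F] in
theorem toM_qscale (r a b : F) (k : ℤ) (u : Q) : toM r a b (qscale k u) = (k : F) • toM r a b u := by
  ext i j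
  fin_cases i <;> fin_cases j <;> simp [toM, qscale, ev_zscale] <;> ring

omit [Fintype F] in
theorem toM_mul {c : ℤ × ℤ} {r a b : F} (hr : r * r = c.1 + c.2 * r) (hab : a * a + b * b = -1) (h2 : (2 : F) ≠ 0)
    (u v : Q) : (2 : F) • (toM r a b u * toM r a b v) = toM r a b (qmul c u v) := by
  obtain ⟨u0, u1, u2, u3⟩ := u
  obtain ⟨v0, v1, v2, v3⟩ := v
  have hi : (2 : F) * 2⁻¹ = 1 := mul_inv_cancel₀ h2
  ext i j
  fin_cases i <;> fin_cases j <;>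
    simp [toM, qmul, ev_zadd, ev_zneg, ev_zmul hr, Matrix.mul_apply, Fin.sum_univ_two] <;> field_simp
  · linear_combination (ev r u2 * ev r v2 + ev r u3 * ev r v3) * hab
  · linear_combination (ev r u3 * ev r v2 - ev r u2 * ev r v3) * hab
  · linear_combination (ev r u2 * ev r v3 - ev r u3 * ev r v2) * hab
  · linear_combination (ev r u2 * ev r v2 + ev r u3 * ev r v3) * hab

omit [Fintype F] in
theorem det_toM {c : ℤ × ℤ} {r a b : F} (hr : r * r = c.1 + c.2 * r) (hab : a * a + b * b = -1) (h2 : (2 : F) ≠ 0)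
    {u : Q} (hu : qnorm c u = (4, 0)) : (toM r a b u).det = 1 := by
  have h := congrArg (ev r) hu
  simp only [qnorm, ev_zadd, ev_zmul hr] at h
  simp only [ev] at h
  simp only [toM, Matrix.det_fin_two_of, ev]
  field_simp
  push_cast at h
  linear_combination h - ((((u.2.2.1.1 : F) + u.2.2.1.2 * r)) ^ 2 + (((u.2.2.2.1 : F) + u.2.2.2.2 * r)) ^ 2) * hab

omit [Fintype F] in
theorem coords_of_scalar {r a b : F} (hab : a * a + b * b = -1) (h2 : (2 : F) ≠ 0) {u : Q} {e : F}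
    (h : toM r a b u = e • 1) : ev r u.2.1 = 0 ∧ ev r u.2.2.1 = 0 ∧ ev r u.2.2.2 = 0 := by
  have hi : (2 : F)⁻¹ ≠ 0 := inv_ne_zero h2
  have e00 := congrFun (congrFun h 0) 0
  have e11 := congrFun (congrFun h 1) 1
  have e01 := congrFun (congrFun h 0) 1
  have e10 := congrFun (congrFun h 1) 0
  simp [toM] at e00 e11 e01 e10
  have i01 := e01.resolve_left h2
  have i10 := e10.resolve_left h2
  set x := ev r u.2.1
  set y := ev r u.2.2.1
  set z := ev r u.2.2.2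
  have hx : x = 0 := (mul_eq_zero.mp (show (2 : F) * x = 0 by linear_combination i01 - i10)).resolve_left h2
  have p : (2 : F) * (y * a + z * b) = 0 :=
    (mul_eq_zero.mp (show (2 : F)⁻¹ * (2 * (y * a + z * b)) = 0 by linear_combination e00 - e11)).resolve_left hi
  have p' := (mul_eq_zero.mp p).resolve_left h2
  have s : y * b - z * a = 0 := by linear_combination i01 - hx
  exact ⟨hx, by linear_combination (-a) * p' - b * s + y * hab, by linear_combination (-b) * p' + a * s + z * hab⟩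

omit [Fintype F] in
theorem ev_ne_zero {c : ℤ × ℤ} {r : F} (hr : r * r = c.1 + c.2 * r) (h2 : (2 : F) ≠ 0) {p : ℤ × ℤ}
    (hp : twoUnit c p = true) : ev r p ≠ 0 := by
  intro e
  have h : ((znorm c p : ℤ) : F) = ev r p * ((p.1 : F) + p.2 * (c.2 - r)) := by
    simp only [znorm, ev]
    push_cast
    linear_combination ((p.2 : F) * p.2) * hr
  rw [e, zero_mul] at h
  simp only [twoUnit, List.mem_cons, List.not_mem_nil, or_false, decide_eq_true_eq] at hp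
  have h4 : (4 : F) ≠ 0 := by
    rw [show (4 : F) = 2 * 2 by norm_num]; exact mul_ne_zero h2 h2
  rcases hp with hp | hp | hp | hp | hp | hp <;> rw [hp] at h <;> simp [h2, h4] at h

/-- A table gives an embedding. -/
theorem exists_hom {c : ℤ × ℤ} {L : List (List ℕ × Q)} (hL : check c L = true) {r : F}
    (hr : r * r = c.1 + c.2 * r) (h2 : (2 : F) ≠ 0) {n : ℕ} (G : Subgroup (Equiv.Perm (Fin n)))
    (hcov : ∀ σ ∈ G, (look L (code σ)).isSome = true) :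
    ∃ H : Subgroup (Matrix.ProjectiveSpecialLinearGroup (Fin 2) F), Nonempty (H ≃* G) := by
  classical
  have hodd : Fintype.card F % 2 = 1 := by
    refine FiniteField.odd_card_of_char_ne_two fun hc => h2 ?_
    have := ringChar.Nat.cast_ringChar (R := F)
    rw [hc] at this
    exact_mod_cast this
  obtain ⟨a, b, hab'⟩ := FiniteField.exists_root_sum_quadratic
    (f := (Polynomial.X ^ 2 : Polynomial F)) (g := Polynomial.X ^ 2 + Polynomial.C 1)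
    (Polynomial.degree_X_pow 2) (Polynomial.degree_X_pow_add_C (by norm_num) _) hodd
  simp at hab'
  have hab : a * a + b * b = -1 := by linear_combination hab'
  simp only [check, Bool.and_eq_true, List.all_eq_true] at hL
  obtain ⟨hmul, hel⟩ := hL
  have hmem : ∀ σ ∈ G, ∀ u, look L (code σ) = some u → (code σ, u) ∈ L := by
    intro σ _ u hu
    obtain ⟨l₁, l₂, e, -⟩ := List.lookup_eq_some_iff.mp hu
    simp [e]
  choose! u hu using fun σ hσ => Option.isSome_iff_exists.mp (hcov σ hσ)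
  have hdet : ∀ σ ∈ G, (toM r a b (u σ)).det = 1 := fun σ hσ => by
    have h := (hel _ (hmem σ hσ _ (hu σ hσ))).1
    simp only [beq_iff_eq] at h
    exact det_toM hr hab h2 h.1
  let lift : G → Matrix.SpecialLinearGroup (Fin 2) F := fun σ => ⟨toM r a b (u σ.1), hdet σ.1 σ.2⟩
  let f : G →* Matrix.ProjectiveSpecialLinearGroup (Fin 2) F := MonoidHom.mk' (fun σ => PSL2.mk (lift σ))
    fun σ τ => by
      rw [← map_mul, PSL2.mk_eq_mk]
      have h := hmul _ (hmem σ.1 σ.2 _ (hu σ.1 σ.2)) _ (hmem τ.1 τ.2 _ (hu τ.1 τ.2))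
      rw [← code_mul] at h
      simp only at h
      rw [hu (σ.1 * τ.1) (mul_mem σ.2 τ.2)] at h
      simp only [Bool.or_eq_true, beq_iff_eq] at h
      show toM r a b (u σ.1) * toM r a b (u τ.1) = toM r a b (u (σ.1 * τ.1)) ∨
        toM r a b (u σ.1) * toM r a b (u τ.1) = -toM r a b (u (σ.1 * τ.1))
      rcases h with h | h
      · left
        refine smul_right_injective _ h2 ?_
        simp only
        rw [toM_mul hr hab h2, h, toM_qscale]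
        norm_num
      · right
        refine smul_right_injective _ h2 ?_
        simp only
        rw [toM_mul hr hab h2, h, toM_qscale]
        simp
  have hf : Function.Injective f := by
    rw [injective_iff_map_eq_one]
    intro σ hσ
    have h' : PSL2.mk (lift σ) = PSL2.mk 1 := by rw [map_one]; exact hσ
    have hsc : ∃ e : F, toM r a b (u σ.1) = e • 1 := by
      rcases PSL2Klein.mk_eq_iff.mp h' with e | e
      · exact ⟨1, by rw [one_smul]; exact congrArg Subtype.val e.symm⟩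
      · refine ⟨-1, ?_⟩
        have e' : lift σ = -1 := by rw [e, neg_neg]
        rw [neg_smul, one_smul]
        exact congrArg Subtype.val e'
    obtain ⟨e, he⟩ := hsc
    obtain ⟨h1, h2', h3⟩ := coords_of_scalar hab h2 he
    have h := (hel _ (hmem σ.1 σ.2 _ (hu σ.1 σ.2))).2
    simp only [Bool.or_eq_true, beq_iff_eq] at h
    rcases h with ((h | h) | h) | h
    · refine Subtype.ext (Equiv.ext fun i => Fin.ext ?_)
      have := congrArg (fun l : List ℕ => l[i.val]?) h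
      simpa [code] using this
    · exact absurd h1 (ev_ne_zero hr h2 h)
    · exact absurd h2' (ev_ne_zero hr h2 h)
    · exact absurd h3 (ev_ne_zero hr h2 h)
  exact ⟨f.range, ⟨(MonoidHom.ofInjective hf).symm⟩⟩

theorem exists_A4 (h2 : (2 : F) ≠ 0) :
    ∃ H : Subgroup (Matrix.ProjectiveSpecialLinearGroup (Fin 2) F), Nonempty (H ≃* alternatingGroup (Fin 4)) :=
  exists_hom check_A4 (r := 0) (by simp) h2 _ fun σ hσ => cover_A4 σ (Equiv.Perm.mem_alternatingGroup.mp hσ)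

theorem exists_A5 (h2 : (2 : F) ≠ 0) (h5 : IsSquare (5 : F)) :
    ∃ H : Subgroup (Matrix.ProjectiveSpecialLinearGroup (Fin 2) F), Nonempty (H ≃* alternatingGroup (Fin 5)) := by
  obtain ⟨t, ht⟩ := h5
  refine exists_hom check_A5 (r := (1 + t) / 2) ?_ h2 _ fun σ hσ => cover_A5 σ (Equiv.Perm.mem_alternatingGroup.mp hσ)
  push_cast
  field_simp
  linear_combination -ht

theorem exists_S4 (h2 : (2 : F) ≠ 0) (hs : IsSquare (2 : F)) :
    ∃ H : Subgroup (Matrix.ProjectiveSpecialLinearGroup (Fin 2) F), Nonempty (H ≃* Equiv.Perm (Fin 4)) := by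
  obtain ⟨t, ht⟩ := hs
  obtain ⟨H, ⟨e⟩⟩ := exists_hom check_S4 (r := t) (by rw [← ht]; simp) h2 (⊤ : Subgroup (Equiv.Perm (Fin 4)))
    fun σ _ => cover_S4 σ
  exact ⟨H, ⟨e.trans Subgroup.topEquiv⟩⟩

end

end CfsgLib.PSL2Platonic
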