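import Cfsg.Agent.Lib.S4Criterion
import Cfsg.Agent.Lib.QdSection
import Cfsg.Agent.Lib.CoprimeGen
import Cfsg.Agent.Lib.Elementary

/-!
`S₄` is a section exactly when some 2-local automiser has a section `S₃`.
-/

set_option autoImplicit false
set_option linter.unusedSectionVars false

namespace CfsgLib.S4InvolvedLocal

open scoped Pointwise commutatorElement

local notation "P4" => Equiv.Perm (Fin 4)
local notation "P3" => Equiv.Perm (Fin 3)

/-- The pairings of four points. -/
abbrev Pairing : Type := {τ : Equiv.Perm (Fin 4) // τ * τ = 1 ∧ ∀ x, τ x ≠ x}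

/-- The action on the pairings. -/
def pairAct : P4 →* Equiv.Perm Pairing where
  toFun σ :=
    { toFun := fun τ => ⟨σ * τ.1 * σ⁻¹, by
        obtain ⟨h2, hx⟩ := τ.2
        refine ⟨?_, fun x he => hx (σ⁻¹ x) ?_⟩
        · rw [show σ * τ.1 * σ⁻¹ * (σ * τ.1 * σ⁻¹) = σ * (τ.1 * τ.1) * σ⁻¹ by group, h2, mul_one, mul_inv_cancel]
        · have := congrArg (σ⁻¹ : P4) he
          simpa using this⟩
      invFun := fun τ => ⟨σ⁻¹ * τ.1 * σ, by
        obtain ⟨h2, hx⟩ := τ.2
        refine ⟨?_, fun x he => hx (σ x) ?_⟩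
        · rw [show σ⁻¹ * τ.1 * σ * (σ⁻¹ * τ.1 * σ) = σ⁻¹ * (τ.1 * τ.1) * σ by group, h2, mul_one, inv_mul_cancel]
        · have := congrArg σ he
          simpa using this⟩
      left_inv := fun τ => Subtype.ext (by group)
      right_inv := fun τ => Subtype.ext (by group) }
  map_one' := Equiv.ext fun τ => Subtype.ext (by show (1 : P4) * τ.1 * 1⁻¹ = τ.1; group)
  map_mul' σ π := Equiv.ext fun τ => Subtype.ext (by
    show σ * π * τ.1 * (σ * π)⁻¹ = σ * (π * τ.1 * π⁻¹) * σ⁻¹; group)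

theorem card_pairing : Fintype.card Pairing = 3 := by decide +kernel

theorem pairAct_surjective : Function.Surjective pairAct := by
  intro π
  have h : ∀ π : Equiv.Perm Pairing, ∃ σ : P4, ∀ τ : Pairing, σ * τ.1 * σ⁻¹ = (π τ).1 := by decide +kernel
  obtain ⟨σ, hσ⟩ := h π
  exact ⟨σ, Equiv.ext fun τ => Subtype.ext (hσ τ)⟩

theorem pairAct_ker_card : ∀ σ : P4, (∀ τ : Pairing, σ * τ.1 * σ⁻¹ = τ.1) → σ * σ = 1 := by decide +kernel

/-- The homomorphism `S₄ → S₃`. -/
noncomputable def pairHom : P4 →* P3 :=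
  ((Equiv.permCongrHom (Fintype.equivFinOfCardEq card_pairing)) : Equiv.Perm Pairing →* P3).comp pairAct

theorem pairHom_surjective : Function.Surjective pairHom :=
  (Equiv.permCongrHom (Fintype.equivFinOfCardEq card_pairing)).surjective.comp pairAct_surjective

theorem pairHom_ker {σ : P4} : pairHom σ = 1 ↔ ∀ τ : Pairing, σ * τ.1 * σ⁻¹ = τ.1 := by
  constructor
  · intro h τ
    have h1 : pairAct σ = 1 :=
      (Equiv.permCongrHom (Fintype.equivFinOfCardEq card_pairing)).injective (h.trans (map_one _).symm)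
    exact congrArg Subtype.val (Equiv.ext_iff.mp h1 τ)
  · intro h
    show (Equiv.permCongrHom (Fintype.equivFinOfCardEq card_pairing)) (pairAct σ) = 1
    rw [show pairAct σ = 1 from Equiv.ext fun τ => Subtype.ext (h τ), map_one]

theorem pairing_mem_ker (τ : Pairing) : pairHom τ.1 = 1 :=
  pairHom_ker.mpr (show ∀ ρ : Pairing, τ.1 * ρ.1 * τ.1⁻¹ = ρ.1 by
    have h : ∀ τ ρ : Pairing, τ.1 * ρ.1 * τ.1⁻¹ = ρ.1 := by decide +kernel
    exact h τ)

variable {G : Type*} [Group G] [Finite G]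

theorem forward (h : Cfsg.Involves P4 G) : ∃ T : Subgroup G, IsPGroup 2 T ∧
    Cfsg.Involves P3 (↥(Subgroup.normalizer (T : Set G)) ⧸
      (Subgroup.centralizer (T : Set G)).subgroupOf (Subgroup.normalizer (T : Set G))) := by
  classical
  haveI : Fact (Nat.Prime 2) := ⟨Nat.prime_two⟩
  obtain ⟨K, R, hR, ⟨e⟩⟩ := h
  let f : K →* P4 := e.toMonoidHom.comp (QuotientGroup.mk' _)
  have hf : Function.Surjective f := e.surjective.comp (QuotientGroup.mk'_surjective _)
  let g : K →* P3 := pairHom.comp f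
  have hg : Function.Surjective g := pairHom_surjective.comp hf
  let L : Subgroup K := g.ker
  obtain ⟨T⟩ : Nonempty (Sylow 2 L) := inferInstance
  have hfro : Subgroup.normalizer (((T : Subgroup L).map L.subtype : Subgroup K) : Set K) ⊔ L = ⊤ :=
    Sylow.normalizer_sup_eq_top T
  set TK := (T : Subgroup L).map L.subtype with hTK
  set TG := TK.map K.subtype with hTG
  -- the image of the Sylow subgroup is the whole kernel of `pairHom`
  have hL : Function.Surjective (fun l : L => (⟨f l, l.2⟩ : pairHom.ker)) := fun z => by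
    obtain ⟨k, hk⟩ := hf z
    exact ⟨⟨k, by show pairHom (f k) = 1; rw [hk]; exact z.2⟩, Subtype.ext hk⟩
  let fL : L →* pairHom.ker :=
    { toFun := fun l => ⟨f l, l.2⟩
      map_one' := Subtype.ext (map_one f)
      map_mul' := fun a b => Subtype.ext (map_mul f _ _) }
  have hV : IsPGroup 2 pairHom.ker := fun z => ⟨1, Subtype.ext (by
    show (z : P4) ^ 2 ^ 1 = 1
    rw [pow_one, pow_two]
    exact pairAct_ker_card _ (pairHom_ker.mp z.2))⟩
  have himg : ∀ τ : Pairing, ∃ t : K, t ∈ TK ∧ f t = τ.1 := by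
    intro τ
    have h1 : ((T.mapSurjective (f := fL) hL) : Subgroup pairHom.ker) = ⊤ :=
      (((T.mapSurjective (f := fL) hL)).is_maximal' (Q := ⊤) (fun z => by
        obtain ⟨j, hj⟩ := hV z.1
        exact ⟨j, Subtype.ext hj⟩) le_top).symm
    have h2 : (⟨τ.1, pairing_mem_ker τ⟩ : pairHom.ker) ∈ ((T.mapSurjective (f := fL) hL) : Subgroup pairHom.ker) := by
      rw [h1]; trivial
    obtain ⟨l, hl, hle⟩ := h2
    exact ⟨l.1, ⟨l, hl, rfl⟩, congrArg Subtype.val hle⟩
  let N : Subgroup K := Subgroup.normalizer (TK : Set K)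
  have hgN : Function.Surjective (g.comp N.subtype) := fun π => by
    obtain ⟨k, hk⟩ := hg π
    have hk' : k ∈ N ⊔ L := by rw [hfro]; trivial
    obtain ⟨n, hn, l, hl, hnl⟩ := Subgroup.mem_sup_of_normal_right.mp hk'
    exact ⟨⟨n, hn⟩, by
      rw [← hk, ← hnl, map_mul, show g l = 1 from hl, mul_one]
      rfl⟩
  have hNG : ∀ n : N, ((n : K) : G) ∈ Subgroup.normalizer (TG : Set G) := fun n =>
    Subgroup.le_normalizer_map K.subtype ⟨(n : K), n.2, rfl⟩
  refine ⟨TG, ((T.isPGroup'.map L.subtype).map K.subtype), ?_⟩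
  set NG := Subgroup.normalizer (TG : Set G)
  let j : N →* NG :=
    { toFun := fun n => ⟨((n : K) : G), hNG n⟩
      map_one' := rfl
      map_mul' := fun _ _ => rfl }
  haveI : ((Subgroup.centralizer (TG : Set G)).subgroupOf NG).Normal := inferInstance
  let q := (QuotientGroup.mk' ((Subgroup.centralizer (TG : Set G)).subgroupOf NG)).comp j
  have hker : q.ker ≤ (g.comp N.subtype).ker := by
    intro n hn
    have hc : ((n : K) : G) ∈ Subgroup.centralizer (TG : Set G) := (QuotientGroup.eq_one_iff (j n)).mp hn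
    show pairHom (f (n : K)) = 1
    refine pairHom_ker.mpr fun τ => ?_
    obtain ⟨t, ht, hte⟩ := himg τ
    have h1 : (n : K) * t = t * (n : K) := Subtype.ext (Subgroup.mem_centralizer_iff.mp hc _ ⟨t, ht, rfl⟩).symm
    rw [← hte, ← map_mul, h1, map_mul, mul_inv_cancel_right]
  let up : q.range →* P3 :=
    (QuotientGroup.lift q.ker (g.comp N.subtype) hker).comp (QuotientGroup.quotientKerEquivRange q).symm.toMonoidHom
  refine CfsgLib.QdSection.involves_of_surjective q.range up fun π => ?_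
  obtain ⟨n, hn⟩ := hgN π
  refine ⟨QuotientGroup.quotientKerEquivRange q (n : N ⧸ q.ker), ?_⟩
  show QuotientGroup.lift q.ker _ hker ((QuotientGroup.quotientKerEquivRange q).symm _) = π
  rw [MulEquiv.symm_apply_apply]
  exact hn

theorem perm3_facts : ∀ σ τ : P3, Equiv.Perm.sign τ = -1 →
    τ * τ = 1 ∧ (σ ^ 3 = 1 → σ ≠ 1 → σ⁻¹ * (τ * σ * τ⁻¹) ≠ 1) := by decide +kernel

theorem backward (T : Subgroup G) (hT : IsPGroup 2 T)
    (h : Cfsg.Involves P3 (↥(Subgroup.normalizer (T : Set G)) ⧸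
      (Subgroup.centralizer (T : Set G)).subgroupOf (Subgroup.normalizer (T : Set G)))) :
    Cfsg.Involves P4 G := by
  classical
  haveI : Fact (Nat.Prime 3) := ⟨Nat.prime_three⟩
  haveI : Fact (Nat.Prime 2) := ⟨Nat.prime_two⟩
  set N := Subgroup.normalizer (T : Set G) with hN
  set C := (Subgroup.centralizer (T : Set G)).subgroupOf N with hC
  obtain ⟨K₀, R₀, hR, ⟨e⟩⟩ := h
  let π := QuotientGroup.mk' C
  let K : Subgroup N := K₀.comap π
  let πK : K →* K₀ := (π.comp K.subtype).codRestrict K₀ fun k => k.2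
  have hπK : Function.Surjective πK := fun z => by
    obtain ⟨n, hn⟩ := QuotientGroup.mk'_surjective C (z : N ⧸ C)
    exact ⟨⟨n, show π n ∈ K₀ by rw [show π n = _ from hn]; exact z.2⟩, Subtype.ext hn⟩
  let f : K →* P3 := e.toMonoidHom.comp ((QuotientGroup.mk' _).comp πK)
  have hf : Function.Surjective f := e.surjective.comp ((QuotientGroup.mk'_surjective _).comp hπK)
  have hcent : ∀ k : K, (∀ v ∈ T, ((k : N) : G) * v = v * ((k : N) : G)) → f k = 1 := by
    intro k hk
    have h1 : πK k = 1 := Subtype.ext ((QuotientGroup.eq_one_iff (k : N)).mpr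
      (Subgroup.mem_centralizer_iff.mpr fun v hv => (hk v hv).symm))
    show e (QuotientGroup.mk' _ (πK k)) = 1
    rw [h1, map_one, map_one]
  -- a Sylow 3-subgroup of the even part and an element inverting it modulo the kernel
  let s₃ : K →* ℤˣ := Equiv.Perm.sign.comp f
  let L : Subgroup K := s₃.ker
  obtain ⟨P₀⟩ : Nonempty (Sylow 3 L) := inferInstance
  have hfro : Subgroup.normalizer (((P₀ : Subgroup L).map L.subtype : Subgroup K) : Set K) ⊔ L = ⊤ :=
    Sylow.normalizer_sup_eq_top P₀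
  set P := (P₀ : Subgroup L).map L.subtype with hP
  have hPp : IsPGroup 3 P := P₀.isPGroup'.map _
  obtain ⟨t₀, ht₀N, ht₀⟩ : ∃ t ∈ Subgroup.normalizer (P : Set K), Equiv.Perm.sign (f t) = -1 := by
    obtain ⟨k, hk⟩ := hf (Equiv.swap 0 1)
    have hk' : k ∈ Subgroup.normalizer (P : Set K) ⊔ L := by rw [hfro]; trivial
    obtain ⟨n, hn, l, hl, hnl⟩ := Subgroup.mem_sup_of_normal_right.mp hk'
    refine ⟨n, hn, ?_⟩
    have h1 : s₃ k = -1 := by
      show Equiv.Perm.sign (f k) = -1
      rw [hk]; exact Equiv.Perm.sign_swap (by decide)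
    rw [← hnl, map_mul, show s₃ l = 1 from hl, mul_one] at h1
    exact h1
  obtain ⟨j, m, hm, hjm⟩ := Nat.exists_eq_pow_mul_and_not_dvd (orderOf_pos t₀).ne' 2 (by norm_num)
  set t := t₀ ^ m with ht
  have htN : t ∈ Subgroup.normalizer (P : Set K) := Subgroup.pow_mem _ ht₀N m
  have htsign : Equiv.Perm.sign (f t) = -1 := by
    rw [ht, map_pow, map_pow, ht₀]
    exact (Nat.odd_iff.mpr (by omega)).neg_one_pow
  have ht2 : t ^ 2 ^ j = 1 := by rw [ht, ← pow_mul, mul_comm, ← hjm, pow_orderOf_eq_one]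
  set s := t * t with hs
  have hsf : f s = 1 := by rw [hs, map_mul]; exact (perm3_facts 1 _ htsign).1
  have hsN : s ∈ Subgroup.normalizer (P : Set K) := Subgroup.mul_mem _ htN htN
  have hsA : IsPGroup 2 (Subgroup.zpowers s) := by
    refine IsPGroup.of_card_dvd_pow (n := j) ?_
    rw [Nat.card_zpowers]
    exact orderOf_dvd_of_pow_eq_one (by rw [hs, (Commute.refl t).mul_pow, ht2, one_mul])
  have hcop : (Nat.card (Subgroup.zpowers s)).Coprime (Nat.card P) := by
    obtain ⟨a, ha⟩ := IsPGroup.iff_card.mp hsA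
    obtain ⟨b, hb⟩ := IsPGroup.iff_card.mp hPp
    rw [ha, hb]
    exact (Nat.coprime_pow_primes _ _ Nat.prime_two Nat.prime_three (by norm_num))
  -- the Sylow 3-subgroup maps onto the elements of order three
  obtain ⟨a₀, ha₀P, ha₀⟩ : ∃ a ∈ P, f a ≠ 1 := by
    let fA : L →* alternatingGroup (Fin 3) :=
      { toFun := fun l => ⟨f l, l.2⟩
        map_one' := Subtype.ext (map_one f)
        map_mul' := fun a b => Subtype.ext (map_mul f _ _) }
    have hfA : Function.Surjective fA := fun z => by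
      obtain ⟨k, hk⟩ := hf z
      exact ⟨⟨k, by show Equiv.Perm.sign (f k) = 1; rw [hk]; exact z.2⟩, Subtype.ext hk⟩
    by_contra hno
    push Not at hno
    have h3 : IsPGroup 3 (alternatingGroup (Fin 3)) := fun z => ⟨1, by
      have : ∀ z : alternatingGroup (Fin 3), z ^ 3 ^ 1 = 1 := by decide +kernel
      exact this z⟩
    have h1 : ((P₀.mapSurjective (f := fA) hfA) : Subgroup (alternatingGroup (Fin 3))) = ⊤ :=
      (((P₀.mapSurjective (f := fA) hfA)).is_maximal' (Q := ⊤) (fun z => by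
        obtain ⟨i, hi⟩ := h3 z.1
        exact ⟨i, Subtype.ext hi⟩) le_top).symm
    obtain ⟨z, hz⟩ : ∃ z : alternatingGroup (Fin 3), z ≠ 1 := by decide +kernel
    obtain ⟨l, hl, hle⟩ : z ∈ ((P₀.mapSurjective (f := fA) hfA) : Subgroup _) := by rw [h1]; trivial
    exact hz (hle.symm.trans (Subtype.ext (hno l.1 ⟨l, hl, rfl⟩)))
  obtain ⟨x, hx, a, ha, hxa⟩ := CfsgLib.coprime_decomp (Subgroup.zpowers_le.mpr hsN) hcop (Or.inl inferInstance) ha₀P
  have hfx : f x = 1 := by
    have hle : ⁅P, Subgroup.zpowers s⁆ ≤ f.ker := Subgroup.commutator_le.mpr fun u _ v hv => by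
      obtain ⟨i, rfl⟩ := Subgroup.mem_zpowers_iff.mp hv
      rw [MonoidHom.mem_ker, map_commutatorElement, map_zpow, hsf, one_zpow, commutatorElement_one_right]
    exact hle hx
  have hfa : f a ≠ 1 := fun h0 => ha₀ (by rw [hxa, map_mul, hfx, h0, one_mul])
  obtain ⟨haP, has⟩ := ha
  have hsa : s * a = a * s := (Subgroup.mem_centralizer_iff.mp has s (Subgroup.mem_zpowers s))
  set y := a⁻¹ * (t * a * t⁻¹) with hy
  have hyP : y ∈ P := P.mul_mem (P.inv_mem haP) ((Subgroup.mem_normalizer_iff.mp htN a).mp haP)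
  have hfa3 : f a ^ 3 = 1 := by
    have h3 : ∀ σ : P3, Equiv.Perm.sign σ = 1 → σ ^ 3 = 1 := by decide +kernel
    obtain ⟨l, hl, rfl⟩ := haP
    exact h3 _ l.2
  have hfy : f y ≠ 1 := by
    rw [hy, map_mul, map_inv, map_mul, map_mul, map_inv]
    exact (perm3_facts (f a) (f t) htsign).2 hfa3 hfa
  have hty : t * y * t⁻¹ = y⁻¹ := by
    calc t * y * t⁻¹ = (t * a * t⁻¹)⁻¹ * ((t * t) * a * (t * t)⁻¹) := by rw [hy]; group
      _ = (t * a * t⁻¹)⁻¹ * a := by rw [← hs, hsa, mul_inv_cancel_right]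
      _ = y⁻¹ := by rw [hy]; group
  have hsy : s * y = y * s := by
    have h1 : Commute s a := hsa
    have h2 : Commute s t := by show t * t * t = t * (t * t); group
    exact (h1.inv_right.mul_right ((h2.mul_right h1).mul_right h2.inv_right)).eq
  -- pass to the Frattini quotient
  let φ := (frattini T).map T.subtype
  obtain ⟨hNφ, -⟩ := CfsgLib.le_normalizer_map_characteristic (le_refl N) (frattini T)
  haveI hφn : (φ.subgroupOf N).Normal :=
    (Subgroup.normal_subgroupOf_iff_le_normalizer ((Subgroup.map_subtype_le _).trans Subgroup.le_normalizer)).mpr hNφ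
  let ρ := QuotientGroup.mk' (φ.subgroupOf N)
  set V := (T.subgroupOf N).map ρ with hV
  haveI : (T.subgroupOf N).Normal :=
    (Subgroup.normal_subgroupOf_iff_le_normalizer Subgroup.le_normalizer).mpr le_rfl
  haveI hVn : V.Normal := Subgroup.Normal.map inferInstance _ (QuotientGroup.mk'_surjective _)
  have hTN : T ≤ N := Subgroup.le_normalizer
  have hV2 : IsPGroup 2 V :=
    (hT.of_injective (Subgroup.subgroupOfEquivOfLe hTN).toMonoidHom (MulEquiv.injective _)).map _
  have hVc : ∀ v ∈ V, ∀ w ∈ V, v * w = w * v := by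
    rintro _ ⟨v, hv, rfl⟩ _ ⟨w, hw, rfl⟩
    apply commutatorElement_eq_one_iff_mul_comm.mp
    rw [← map_commutatorElement]
    refine (QuotientGroup.eq_one_iff _).mpr ?_
    exact ⟨⁅(⟨v, hv⟩ : T), ⟨w, hw⟩⁆, CfsgLib.commutator_le_frattini_pGroup hT
      (Subgroup.commutator_mem_commutator (Subgroup.mem_top _) (Subgroup.mem_top _)), rfl⟩
  set z : N ⧸ φ.subgroupOf N := ρ (y : N) with hz
  set u : N ⧸ φ.subgroupOf N := ρ (t : N) with hu
  have hyord : ∃ i, y ^ 3 ^ i = 1 := by
    obtain ⟨i, hi⟩ := hPp ⟨y, hyP⟩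
    exact ⟨i, congrArg Subtype.val hi⟩
  have hzC : z ∉ Subgroup.centralizer (V : Set _) := by
    intro hzc
    apply hfy
    refine hcent y fun v hv => ?_
    have hA : Subgroup.zpowers ((y : N) : G) ≤ Subgroup.centralizer (T : Set G) := by
      refine CfsgLib.centralize_of_trivial_mod_frattini (Subgroup.zpowers_le.mpr (y : N).2) ?_ ?_
      · obtain ⟨i, hi⟩ := hyord
        obtain ⟨b, hb⟩ := IsPGroup.iff_card.mp (hT.to_subgroup (frattini T))
        rw [Nat.card_zpowers, hb]
        refine Nat.Coprime.coprime_dvd_left (orderOf_dvd_of_pow_eq_one (n := 3 ^ i) ?_)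
          (Nat.coprime_pow_primes _ _ Nat.prime_three Nat.prime_two (by norm_num))
        exact congrArg (fun k : K => ((k : N) : G)) hi
      · intro g hg k hk
        obtain ⟨i, rfl⟩ := Subgroup.mem_zpowers_iff.mp hg
        have h1 : z ^ i * ρ ⟨k, hTN hk⟩ = ρ ⟨k, hTN hk⟩ * z ^ i :=
          (Subgroup.mem_centralizer_iff.mp (Subgroup.zpow_mem _ hzc i) _ ⟨⟨k, hTN hk⟩, hk, rfl⟩).symm
        have h2 : ρ ((y : N) ^ i * ⟨k, hTN hk⟩ * ((y : N) ^ i)⁻¹ * (⟨k, hTN hk⟩ : N)⁻¹) = 1 := by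
          simp only [map_mul, map_inv, map_zpow, ← hz]
          rw [h1]
          group
        have h3 := (QuotientGroup.eq_one_iff (N := φ.subgroupOf N) _).mp h2
        exact h3
    exact (Subgroup.mem_centralizer_iff.mp (hA (Subgroup.mem_zpowers _)) v hv).symm
  -- a power of `z` acting with order three
  obtain ⟨i, hi⟩ := hyord
  have hzi : z ^ 3 ^ i ∈ Subgroup.centralizer (V : Set _) := by
    rw [hz, ← map_pow, show ((y : N) ^ 3 ^ i) = 1 from congrArg (fun k : K => (k : N)) hi, map_one]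
    exact one_mem _
  obtain ⟨r, hrz, hrC, hr3, hur, husr⟩ : ∃ r, (∃ c : ℕ, r = z ^ c) ∧ r ∉ Subgroup.centralizer (V : Set _) ∧
      r ^ 3 ∈ Subgroup.centralizer (V : Set _) ∧ u * r * u⁻¹ = r⁻¹ ∧ Commute (u * u) r := by
    classical
    have hex : ∃ c, z ^ 3 ^ c ∈ Subgroup.centralizer (V : Set _) := ⟨i, hzi⟩
    obtain ⟨c, hc⟩ : ∃ c, Nat.find hex = c + 1 := by
      refine ⟨Nat.find hex - 1, ?_⟩
      have : Nat.find hex ≠ 0 := fun h0 => hzC (by
        have := Nat.find_spec hex
        rwa [h0, pow_zero, pow_one] at this)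
      omega
    refine ⟨z ^ 3 ^ c, ⟨_, rfl⟩, Nat.find_min hex (by omega), ?_, ?_, ?_⟩
    · rw [← pow_mul, ← pow_succ, ← hc]
      exact Nat.find_spec hex
    · have h1 : u * z * u⁻¹ = z⁻¹ := by
        rw [hu, hz, ← map_inv, ← map_mul, ← map_mul, ← map_inv]
        exact congrArg (fun k : K => ρ (k : N)) hty
      rw [← conj_pow, h1, inv_pow]
    · refine Commute.pow_right ?_ _
      show ρ (t : N) * ρ (t : N) * ρ (y : N) = ρ (y : N) * (ρ (t : N) * ρ (t : N))
      rw [← map_mul, ← map_mul, ← map_mul]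
      exact congrArg (fun k : K => ρ (k : N)) (hs ▸ hsy)
  -- the fixed points of the square
  set V₁ := V ⊓ Subgroup.centralizer ({u * u} : Set (N ⧸ φ.subgroupOf N)) with hV₁
  have hrn : ∀ {c : N ⧸ φ.subgroupOf N}, Commute (u * u) c → ∀ v ∈ V₁, c * v * c⁻¹ ∈ V₁ := by
    intro c hc v hv
    refine ⟨hVn.conj_mem v hv.1 c, Subgroup.mem_centralizer_singleton_iff.mpr ?_⟩
    have hv' : v * (u * u) = u * u * v := Subgroup.mem_centralizer_singleton_iff.mp hv.2
    calc c * v * c⁻¹ * (u * u) = c * v * ((u * u) * c⁻¹) := by rw [mul_assoc, (hc.inv_right).eq]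
      _ = c * (v * (u * u)) * c⁻¹ := by group
      _ = (c * (u * u)) * v * c⁻¹ := by rw [hv']; group
      _ = u * u * (c * v * c⁻¹) := by rw [← hc.eq]; group
  have huu : Commute (u * u) u := by unfold Commute SemiconjBy; group
  let M : Subgroup (N ⧸ φ.subgroupOf N) := Subgroup.normalizer (V₁ : Set _)
  have hmem : ∀ {c : N ⧸ φ.subgroupOf N}, Commute (u * u) c → c ∈ M := fun {c} hc =>
    Subgroup.mem_normalizer_iff.mpr fun v => ⟨hrn hc v, fun hv => by
      have := hrn hc.inv_right _ hv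
      simpa [mul_assoc] using this⟩
  have hrV₁ : r ∉ Subgroup.centralizer (V₁ : Set _) := by
    intro hr
    refine hrC ?_
    have hP2 : IsPGroup 2 (Subgroup.zpowers (u * u)) := by
      refine IsPGroup.of_card_dvd_pow (n := j) ?_
      rw [Nat.card_zpowers]
      refine orderOf_dvd_of_pow_eq_one ?_
      rw [(Commute.refl u).mul_pow, hu, ← map_pow, show ((t : N) ^ 2 ^ j) = 1 from congrArg (fun k : K => (k : N)) ht2,
        map_one, one_mul]
    have hQ : (Nat.card (Subgroup.zpowers r)).Coprime 2 := by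
      rw [Nat.card_zpowers]
      have h1 : orderOf r ∣ 3 ^ i := by
        refine orderOf_dvd_of_pow_eq_one ?_
        have hz1 : z ^ 3 ^ i = 1 := by
          rw [hz, ← map_pow, show ((y : N) ^ 3 ^ i) = 1 from congrArg (fun k : K => (k : N)) hi, map_one]
        obtain ⟨c, rfl⟩ := hrz
        rw [← pow_mul, mul_comm, pow_mul, hz1, one_pow]
      exact Nat.Coprime.coprime_dvd_left h1 (by simpa using Nat.Coprime.pow_left i (by norm_num : Nat.Coprime 3 2))
    refine CfsgLib.thompson_PxQ hP2 hQ (Subgroup.zpowers_le.mpr (Subgroup.mem_centralizer_iff.mpr fun q hq => ?_)) V hV2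
      (by rw [Subgroup.normalizer_eq_top]; exact le_top) (by rw [Subgroup.normalizer_eq_top]; exact le_top)
      ?_ (Subgroup.mem_zpowers r)
    · obtain ⟨k, rfl⟩ := Subgroup.mem_zpowers_iff.mp hq
      exact (husr.zpow_right k).eq.symm
    · rintro v ⟨hv1, hv2⟩
      refine Subgroup.mem_centralizer_iff.mpr fun q hq => ?_
      obtain ⟨k, rfl⟩ := Subgroup.mem_zpowers_iff.mp hq
      have hv : v ∈ V₁ := ⟨hv1, Subgroup.mem_centralizer_singleton_iff.mpr
        (Subgroup.mem_centralizer_iff.mp hv2 _ (Subgroup.mem_zpowers _)).symm⟩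
      exact (((show Commute r v from (Subgroup.mem_centralizer_iff.mp hr v hv).symm)).zpow_left k).eq
  have hV₁M : V₁ ≤ M := Subgroup.le_normalizer
  haveI : (V₁.subgroupOf M).Normal := (Subgroup.normal_subgroupOf_iff_le_normalizer hV₁M).mpr le_rfl
  have hVc1 : ∀ c : M, c ∈ Subgroup.centralizer ((V₁.subgroupOf M : Subgroup M) : Set M) ↔
      (c : N ⧸ φ.subgroupOf N) ∈ Subgroup.centralizer (V₁ : Set _) := fun c => by
    rw [Subgroup.mem_centralizer_iff, Subgroup.mem_centralizer_iff]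
    exact ⟨fun hh v hv => congrArg Subtype.val (hh ⟨v, hV₁M hv⟩ hv), fun hh v hv => Subtype.ext (hh v hv)⟩
  refine CfsgLib.ThompsonComplement.involves_of_subgroup (X := N)
    (CfsgLib.ClassTwoSylow.involves_of_quotient (CfsgLib.ThompsonComplement.involves_of_subgroup (X := M) ?_))
  refine CfsgLib.S4Criterion.involves_of_inverting (V := V₁.subgroupOf M)
    ((hV2.to_le inf_le_left).of_injective (Subgroup.subgroupOfEquivOfLe hV₁M).toMonoidHom (MulEquiv.injective _))
    (fun v hv w hw => Subtype.ext (hVc _ hv.1 _ hw.1))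
    (r := ⟨r, hmem husr⟩) (b := ⟨u, hmem huu⟩) ?_ (fun hh => hrV₁ ((hVc1 _).mp hh)) ?_ ?_
  · rw [hVc1]
    exact Subgroup.centralizer_le inf_le_left hr3
  · rw [hVc1]
    refine Subgroup.mem_centralizer_iff.mpr fun v hv => ?_
    exact Subgroup.mem_centralizer_singleton_iff.mp hv.2
  · rw [hVc1]
    show u * r * u⁻¹ * r ∈ _
    rw [hur, inv_mul_cancel]
    exact one_mem _

end CfsgLib.S4InvolvedLocal
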