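import Cfsg.Prelude.Def_CaseTheorems
import Mathlib.GroupTheory.Transfer
import Mathlib.GroupTheory.Sylow

/-!
Involutions of an abelian Sylow 2-subgroup fuse into every subgroup of corank one.
-/

set_option autoImplicit false
set_option linter.unusedSectionVars false

namespace CfsgLib.AbelianInvolutions

open Subgroup Cfsg

universe u
variable {G : Type u} [Group G] [Finite G]

/-- A non-identity element of an abelian Sylow `2`-subgroup centralised by its normaliser gives a subgroup of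
index `2`. -/
theorem exists_index_two_of_fixed (S : Sylow 2 G) [IsMulCommutative (S : Subgroup G)] {z : G}
    (hz : z ∈ (S : Subgroup G)) (hz1 : z ≠ 1)
    (hfix : ∀ n ∈ Subgroup.normalizer ((S : Subgroup G) : Set G), n * z = z * n) :
    ∃ H : Subgroup G, H.index = 2 := by
  haveI : Fact (Nat.Prime 2) := ⟨Nat.prime_two⟩
  letI : CommGroup (S : Subgroup G) := { (inferInstance : Group (S : Subgroup G)) with
    mul_comm := fun a b => (inferInstance : IsMulCommutative (S : Subgroup G)).1.comm a b }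
  let v : G →* (S : Subgroup G) := MonoidHom.transfer (MonoidHom.id (S : Subgroup G))
  have hv : v z = (⟨z, hz⟩ : (S : Subgroup G)) ^ (S : Subgroup G).index := by
    refine (MonoidHom.transfer_eq_pow _ z fun k g₀ hk => ?_).trans (Subtype.ext (by simp))
    obtain ⟨m, hm, he⟩ := S.conj_eq_normalizer_conj_of_mem (z ^ k) g₀ (pow_mem hz k) hk
    rw [he, mul_assoc, ← (Commute.pow_right (hfix m hm : Commute m z) k).eq, inv_mul_cancel_left]
  have hne : v z ≠ 1 := fun e => by
    rw [hv] at e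
    have h1 := orderOf_dvd_of_pow_eq_one e
    obtain ⟨k, hk⟩ := IsPGroup.iff_orderOf.mp S.2 ⟨z, hz⟩
    rw [hk] at h1
    rcases Nat.eq_zero_or_pos k with rfl | hk0
    · rw [pow_zero, orderOf_eq_one_iff] at hk
      exact hz1 (congrArg Subtype.val hk)
    · exact S.not_dvd_index ((dvd_pow_self 2 hk0.ne').trans h1)
  obtain ⟨n, hn⟩ := IsPGroup.iff_card.mp (S.2.to_subgroup v.range)
  have hn0 : n ≠ 0 := fun e => hne (Subgroup.mem_bot.mp (by
    rw [e, pow_zero, Subgroup.card_eq_one] at hn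
    exact hn ▸ ⟨z, rfl⟩))
  obtain ⟨K, hK⟩ := Sylow.exists_subgroup_card_pow_prime (G := v.range) 2 (n := n - 1)
    (by rw [hn]; exact pow_dvd_pow 2 (Nat.sub_le n 1))
  refine ⟨K.comap v.rangeRestrict, ?_⟩
  rw [Subgroup.index_comap_of_surjective _ v.rangeRestrict_surjective]
  have h2 := K.card_mul_index
  rw [hK, hn, show 2 ^ n = 2 ^ (n - 1) * 2 by rw [← pow_succ, Nat.sub_add_cancel (Nat.one_le_iff_ne_zero.mpr hn0)]]
    at h2
  exact mul_left_cancel₀ (pow_ne_zero _ two_ne_zero) h2

/-- The elements of order at most two. -/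
def invol (A : Subgroup G) [IsMulCommutative A] : Subgroup G where
  carrier := {x | x ∈ A ∧ x ^ 2 = 1}
  one_mem' := ⟨one_mem A, one_pow 2⟩
  mul_mem' := fun {a b} ha hb => ⟨mul_mem ha.1 hb.1, by
    rw [Commute.mul_pow (show Commute a b from Subgroup.mul_comm_of_mem_isMulCommutative A ha.1 hb.1), ha.2, hb.2, one_mul]⟩
  inv_mem' := fun {a} ha => ⟨inv_mem ha.1, by rw [inv_pow, ha.2, inv_one]⟩

theorem card_invol_eq {A : Subgroup G} [IsMulCommutative A] {k : ℕ}
    (h : PRankLE 2 k A) (h' : k = 0 ∨ ¬ PRankLE 2 (k - 1) A) : Nat.card (invol A) = 2 ^ k := by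
  haveI : Fact (Nat.Prime 2) := ⟨Nat.prime_two⟩
  have hle : invol A ≤ A := fun x hx => hx.1
  have hc := Nat.card_congr (Subgroup.subgroupOfEquivOfLe hle).toEquiv
  have hub : Nat.card (invol A) ≤ 2 ^ k := by
    rw [← hc]
    exact h _ ⟨⟨fun a b => Subtype.ext ((inferInstance : IsMulCommutative A).1.comm a.1 b.1)⟩⟩
      fun a ha => Subtype.ext ha.2
  obtain ⟨m, hm⟩ := IsPGroup.iff_card.mp
    (fun x : invol A => ⟨1, Subtype.ext (by simpa using x.2.2)⟩ : IsPGroup 2 (invol A))
  rcases h' with rfl | h'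
  · exact le_antisymm hub (by rw [pow_zero]; exact Nat.card_pos)
  rw [PRankLE] at h'
  push Not at h'
  obtain ⟨E, hEc, hE2, hE⟩ := h'
  have h1 : Nat.card E ≤ Nat.card (invol A) := by
    rw [← hc]
    exact Subgroup.card_le_of_le fun a ha => show (a : G) ∈ invol A from ⟨a.2, congrArg Subtype.val (hE2 a ha)⟩
  rw [hm] at h1 hub ⊢
  have h2 : k - 1 < m := (Nat.pow_lt_pow_iff_right one_lt_two).mp (hE.trans_le h1)
  have h3 : m ≤ k := (Nat.pow_le_pow_iff_right one_lt_two).mp hub
  congr 1; omega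

theorem exists_conj_mem (hG : ∀ H : Subgroup G, H.index ≠ 2) (S : Sylow 2 G)
    [IsMulCommutative (S : Subgroup G)] {r : ℕ} (hr1 : 1 ≤ r)
    (hSr : PRankLE 2 r (S : Subgroup G) ∧ ¬ PRankLE 2 (r - 1) (S : Subgroup G))
    {R : Subgroup G} (hRS : R ≤ S) (hRr : PRankLE 2 (r - 1) R ∧ (r = 1 ∨ ¬ PRankLE 2 (r - 2) R))
    {t : G} (ht : orderOf t = 2) (htS : t ∈ (S : Subgroup G)) :
    ∃ n ∈ Subgroup.normalizer ((S : Subgroup G) : Set G), n * t * n⁻¹ ∈ R := by
  classical
  haveI : IsMulCommutative R := ⟨⟨fun a b => Subtype.ext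
    (Subgroup.mul_comm_of_mem_isMulCommutative (S : Subgroup G) (hRS a.2) (hRS b.2))⟩⟩
  set V := invol (S : Subgroup G) with hV
  set W := (invol R).subgroupOf V with hW
  have hWV : invol R ≤ V := fun x hx => ⟨hRS hx.1, hx.2⟩
  have hcV : Nat.card V = 2 ^ r := card_invol_eq hSr.1 (Or.inr hSr.2)
  have hWi : W.index = 2 := by
    have h1 := W.card_mul_index
    rw [Nat.card_congr (Subgroup.subgroupOfEquivOfLe hWV).toEquiv, card_invol_eq hRr.1
      (hRr.2.imp (fun e => by omega) fun h => by rwa [show r - 1 - 1 = r - 2 by omega]),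
      hcV, show 2 ^ r = 2 ^ (r - 1) * 2 by rw [← pow_succ, Nat.sub_add_cancel hr1]]
      at h1
    exact mul_left_cancel₀ (pow_ne_zero _ two_ne_zero) h1
  by_contra hcon
  push Not at hcon
  set N := Subgroup.normalizer ((S : Subgroup G) : Set G) with hN
  letI : CommGroup V := { (inferInstance : Group V) with
    mul_comm := fun a b => Subtype.ext (Subgroup.mul_comm_of_mem_isMulCommutative (S : Subgroup G) a.2.1 b.2.1) }
  have hVN : ∀ n ∈ N, ∀ v ∈ V, n * v * n⁻¹ ∈ V := fun n hn v hv =>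
    ⟨(Subgroup.mem_normalizer_iff.mp hn v).mp hv.1, by rw [conj_pow, hv.2, mul_one, mul_inv_cancel]⟩
  have htV : t ∈ V := ⟨htS, ht ▸ pow_orderOf_eq_one t⟩
  letI : MulAction N V :=
    { smul := fun n v => ⟨n * v * (n : G)⁻¹, hVN n n.2 v v.2⟩
      one_smul := fun v => Subtype.ext (show (1 : G) * v * (1 : G)⁻¹ = v by simp)
      mul_smul := fun m n v => Subtype.ext
        (show (m : G) * n * v * ((m : G) * n)⁻¹ = m * (n * v * (n : G)⁻¹) * (m : G)⁻¹ by simp [mul_assoc]) }
  have hsmul : ∀ (n : N) (v : V), ((n • v : V) : G) = n * v * (n : G)⁻¹ := fun _ _ => rfl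
  haveI : Fintype (MulAction.orbit N (⟨t, htV⟩ : V)) := Fintype.ofFinite _
  let P : V := ∏ o : MulAction.orbit N (⟨t, htV⟩ : V), (o : V)
  have hout : ∀ o : MulAction.orbit N (⟨t, htV⟩ : V), (o : V) ∉ W := by
    rintro ⟨_, n, rfl⟩ h
    have h' : (((n • (⟨t, htV⟩ : V)) : V) : G) ∈ invol R := h
    rw [hsmul] at h'
    exact hcon n n.2 h'.1
  have hodd : Odd (Fintype.card (MulAction.orbit N (⟨t, htV⟩ : V))) := by
    rw [Fintype.card_eq_nat_card, Nat.card_congr (MulAction.orbitEquivQuotientStabilizer N (⟨t, htV⟩ : V))]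
    rw [← Subgroup.index_eq_card]
    have h1 : (S : Subgroup G).subgroupOf N ≤ MulAction.stabilizer N (⟨t, htV⟩ : V) := fun n hn =>
      Subtype.ext (by
        rw [hsmul]
        show (n : G) * t * (n : G)⁻¹ = t
        rw [Subgroup.mul_comm_of_mem_isMulCommutative (S : Subgroup G) (show (n : G) ∈ (S : Subgroup G) from hn) htS,
          mul_inv_cancel_right])
    have h2 : ¬ 2 ∣ ((S : Subgroup G).subgroupOf N).index :=
      fun h => S.not_dvd_index (h.trans (Dvd.intro _ (Subgroup.relIndex_mul_index (Subgroup.le_normalizer : (S : Subgroup G) ≤ N))))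
    exact Nat.odd_iff.mpr (Nat.two_dvd_ne_zero.mp fun h => h2 (h.trans (Subgroup.index_dvd_of_le h1)))
  have hP : P ∉ W := by
    let f : V →* Multiplicative (ZMod 2) :=
      { toFun := fun v => if v ∈ W then 1 else Multiplicative.ofAdd 1
        map_one' := if_pos (one_mem W)
        map_mul' := fun a b => by
          have h := Subgroup.mul_mem_iff_of_index_two hWi (a := a) (b := b)
          by_cases ha : a ∈ W <;> by_cases hb : b ∈ W <;> simp [ha, hb, h]
          rfl }
    intro h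
    have h1 : f P = 1 := if_pos h
    rw [map_prod, Finset.prod_congr rfl (fun (o : MulAction.orbit N (⟨t, htV⟩ : V)) (_ : o ∈ Finset.univ) =>
      show f (o : V) = Multiplicative.ofAdd 1 from if_neg (hout o)), Finset.prod_const,
      Finset.card_univ] at h1
    obtain ⟨k, hk⟩ := hodd
    rw [hk, pow_succ, pow_mul] at h1
    exact absurd h1 (by
      rw [show (Multiplicative.ofAdd (1 : ZMod 2)) ^ 2 = 1 from rfl, one_pow, one_mul]
      decide)
  have hfix : ∀ n ∈ N, n * (P : G) = P * n := by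
    intro n hn
    let e : V →* V :=
      { toFun := fun v => (⟨n, hn⟩ : N) • v
        map_one' := Subtype.ext (by rw [hsmul]; simp)
        map_mul' := fun a b => Subtype.ext (by rw [Subgroup.coe_mul, hsmul, hsmul, hsmul, Subgroup.coe_mul]; group) }
    have h1 : e P = P := by
      rw [map_prod]
      refine Fintype.prod_equiv (MulAction.toPerm (⟨n, hn⟩ : N)) _ _ fun o => ?_
      rfl
    have h2 : n * (P : G) * n⁻¹ = P := congrArg Subtype.val h1
    exact mul_inv_eq_iff_eq_mul.mp h2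
  obtain ⟨H, hH⟩ := exists_index_two_of_fixed S P.2.1 (fun e => hP (by
    rw [show P = 1 from Subtype.ext e]; exact one_mem W)) hfix
  exact hG H hH

end CfsgLib.AbelianInvolutions
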