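import Mathlib
import Cfsg.Agent.Lib.Elementary
import Cfsg.Agent.Lib.CoprimeGen

/-!
For an odd prime `p`, an automorphism of `p'`-order of a `p`-group which fixes all elements of order `p`
is trivial.
-/

set_option autoImplicit false

namespace CfsgLib

open scoped commutatorElement

universe u
variable {G : Type u} [Group G] [Finite G]

theorem pow_mul_central {x y c : G} (hc : y * x = c * (x * y)) (hcy : c * y = y * c) :
    ∀ n : ℕ, y ^ n * x = c ^ n * (x * y ^ n) := by
  have hcy' : ∀ i j : ℕ, c ^ i * y ^ j = y ^ j * c ^ i := fun i j => (Commute.pow_pow hcy i j).eq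
  intro n
  induction n with
  | zero => simp
  | succ n ih =>
    calc y ^ (n + 1) * x = y * (y ^ n * x) := by rw [pow_succ', mul_assoc]
      _ = y * (c ^ n * (x * y ^ n)) := by rw [ih]
      _ = (y ^ 1 * c ^ n) * (x * y ^ n) := by group
      _ = (c ^ n * y ^ 1) * (x * y ^ n) := by rw [hcy']
      _ = c ^ n * (y * x) * y ^ n := by group
      _ = c ^ n * (c * (x * y)) * y ^ n := by rw [hc]
      _ = c ^ (n + 1) * (x * y ^ (n + 1)) := by rw [pow_succ c, pow_succ' y]; group


theorem mul_pow_central {x y : G} {c : G} (hc : y * x = c * (x * y))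
    (hcx : c * x = x * c) (hcy : c * y = y * c) :
    ∀ n : ℕ, (x * y) ^ n = c ^ (n * (n - 1) / 2) * (x ^ n * y ^ n) := by
  have hcx' : ∀ i j : ℕ, c ^ i * x ^ j = x ^ j * c ^ i := fun i j => (Commute.pow_pow hcx i j).eq
  have hcy' : ∀ i j : ℕ, c ^ i * y ^ j = y ^ j * c ^ i := fun i j => (Commute.pow_pow hcy i j).eq
  have hmove := pow_mul_central hc hcy
  intro n
  induction n with
  | zero => simp
  | succ n ih =>
    have harith : (n + 1) * (n + 1 - 1) / 2 = n * (n - 1) / 2 + n := by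
      rcases n with _ | m
      · rfl
      · have : (m + 1 + 1) * (m + 1 + 1 - 1) = (m + 1) * (m + 1 - 1) + 2 * (m + 1) := by
          simp only [Nat.add_sub_cancel]; ring
        rw [this, Nat.add_mul_div_left _ _ (by norm_num)]
    calc (x * y) ^ (n + 1) = c ^ (n * (n - 1) / 2) * (x ^ n * y ^ n) * (x * y) := by rw [pow_succ, ih]
      _ = c ^ (n * (n - 1) / 2) * (x ^ n * (y ^ n * x) * y) := by group
      _ = c ^ (n * (n - 1) / 2) * (x ^ n * (c ^ n * (x * y ^ n)) * y) := by rw [hmove]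
      _ = c ^ (n * (n - 1) / 2) * ((x ^ n * c ^ n) * (x * y ^ n) * y) := by group
      _ = c ^ (n * (n - 1) / 2) * ((c ^ n * x ^ n) * (x * y ^ n) * y) := by rw [hcx']
      _ = (c ^ (n * (n - 1) / 2) * c ^ n) * ((x ^ n * x) * (y ^ n * y)) := by group
      _ = c ^ ((n + 1) * (n + 1 - 1) / 2) * (x ^ (n + 1) * y ^ (n + 1)) := by
        rw [← pow_add, ← harith, ← pow_succ, ← pow_succ]

/-- A `p'`-element normalizing a `p`-group (`p` odd) and fixing its elements of order `p` centralizes it. -/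
theorem centralizes_of_fixes_order_p {p : ℕ} [Fact p.Prime] (hp2 : p ≠ 2) (g : G)
    (hg : (orderOf g).Coprime p) (Q : Subgroup G) (hQ : IsPGroup p Q)
    (hgQ : g ∈ Subgroup.normalizer (Q : Set G))
    (hfixp : ∀ x ∈ Q, x ^ p = 1 → g * x * g⁻¹ = x) : ∀ y ∈ Q, g * y * g⁻¹ = y := by
  induction hn : Nat.card Q using Nat.strong_induction_on generalizing Q with
  | h n ih =>
  subst hn
  have hp := (Fact.out : p.Prime)
  have hsub : ∀ Q' : Subgroup G, Q' < Q → (∀ y ∈ Q', g * y * g⁻¹ ∈ Q') → ∀ y ∈ Q', g * y * g⁻¹ = y := by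
    intro Q' hlt hinv
    have hle : Q'.map (MulAut.conj g).toMonoidHom ≤ Q' := by
      rintro _ ⟨y, hy, rfl⟩; exact hinv y hy
    have heq := Subgroup.eq_of_le_of_card_ge hle (le_of_eq (Subgroup.card_map_of_injective
      (f := (MulAut.conj g).toMonoidHom) (MulAut.conj g).injective).symm)
    refine ih _ ?_ Q' (hQ.to_le hlt.le) ?_ (fun x hx => hfixp x (hlt.le hx)) rfl
    · rcases lt_or_eq_of_le (Nat.le_of_dvd Nat.card_pos (Subgroup.card_dvd_of_le hlt.le)) with h1 | h1
      · exact h1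
      · exact absurd (Subgroup.eq_of_le_of_card_ge hlt.le h1.ge) hlt.ne
    · rw [Subgroup.mem_normalizer_iff]
      intro z
      conv_rhs => rw [← heq]
      exact (Subgroup.mem_map_iff_mem (f := (MulAut.conj g).toMonoidHom) (MulAut.conj g).injective).symm
  have hconj : ∀ y ∈ Q, g * y * g⁻¹ ∈ Q := fun y hy => (Subgroup.mem_normalizer_iff.mp hgQ y).mp hy
  by_contra hcon
  push Not at hcon
  obtain ⟨x, hx, hxg⟩ := hcon
  set S := Subgroup.closure {s : G | ∃ y ∈ Q, s = y⁻¹ * (g * y * g⁻¹)} with hS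
  have hgen : ∀ y ∈ Q, y⁻¹ * (g * y * g⁻¹) ∈ S := fun y hy => Subgroup.subset_closure ⟨y, hy, rfl⟩
  have hSQ : S = Q := by
    have hle : S ≤ Q := (Subgroup.closure_le _).mpr (by
      rintro _ ⟨y, hy, rfl⟩; exact mul_mem (inv_mem hy) (hconj y hy))
    by_contra hne
    have hinv : S ≤ S.comap (MulAut.conj g).toMonoidHom := (Subgroup.closure_le _).mpr (by
      rintro _ ⟨y, hy, rfl⟩
      rw [SetLike.mem_coe, Subgroup.mem_comap]
      show g * (y⁻¹ * (g * y * g⁻¹)) * g⁻¹ ∈ S
      rw [show g * (y⁻¹ * (g * y * g⁻¹)) * g⁻¹ = (g * y * g⁻¹)⁻¹ * (g * (g * y * g⁻¹) * g⁻¹) by group]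
      exact hgen _ (hconj y hy))
    have hfix := hsub S (lt_of_le_of_ne hle hne) (fun y hy => hinv hy)
    set s := x⁻¹ * (g * x * g⁻¹) with hs
    have hgs : g * s = s * g := by
      have := hfix s (hgen x hx)
      calc g * s = (g * s * g⁻¹) * g := by group
        _ = s * g := by rw [this]
    have hxs : g * x * g⁻¹ = x * s := by rw [hs]; group
    have hiter : ∀ m : ℕ, g ^ m * x * (g ^ m)⁻¹ = x * s ^ m := by
      intro m
      induction m with
      | zero => simp
      | succ m ihm =>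
        calc g ^ (m + 1) * x * (g ^ (m + 1))⁻¹ = g * (g ^ m * x * (g ^ m)⁻¹) * g⁻¹ := by rw [pow_succ']; group
          _ = g * (x * s ^ m) * g⁻¹ := by rw [ihm]
          _ = (g * x * g⁻¹) * (g * s ^ m) * g⁻¹ := by group
          _ = (g * x * g⁻¹) * (s ^ m * g) * g⁻¹ := by rw [(Commute.pow_right hgs m).eq]
          _ = x * s ^ (m + 1) := by rw [hxs, pow_succ']; group
    have h1 := hiter (orderOf g)
    rw [pow_orderOf_eq_one, one_mul, inv_one, mul_one, left_eq_mul] at h1
    have h2 : s = 1 := by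
      obtain ⟨k, hk⟩ := hQ ⟨s, hle (hgen x hx)⟩
      exact orderOf_eq_one_iff.mp (Nat.eq_one_of_dvd_coprimes (hg.pow_right k)
        (orderOf_dvd_of_pow_eq_one h1) (orderOf_dvd_of_pow_eq_one (congrArg Subtype.val hk)))
    apply hxg
    rw [hxs, h2, mul_one]
  have hx1 : x ≠ 1 := fun e => hxg (by rw [e]; group)
  have : Nontrivial Q := ⟨⟨⟨x, hx⟩, 1, fun e => hx1 (congrArg Subtype.val e)⟩⟩
  set W := (frattini Q).map Q.subtype with hW
  have hWlt : W < Q := by
    refine lt_of_le_of_ne (Subgroup.map_subtype_le _) fun e => ?_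
    have h1 : frattini Q = ⊤ := Subgroup.map_injective Q.subtype_injective (by
      rw [← hW, e, ← MonoidHom.range_eq_map, Subgroup.range_subtype])
    rcases IsCoatomic.eq_top_or_exists_le_coatom (⊥ : Subgroup Q) with h0 | ⟨M, hM, -⟩
    · exact bot_ne_top h0
    · exact hM.1 (top_le_iff.mp (h1 ▸ frattini_le_coatom hM))
  have hWn := le_normalizer_map_characteristic (A := Subgroup.zpowers g)
    (Subgroup.zpowers_le.mpr hgQ) (frattini Q)
  have hWfix : ∀ w ∈ W, g * w * g⁻¹ = w := hsub W hWlt fun w hw =>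
    (Subgroup.mem_normalizer_iff.mp (hWn.1 (Subgroup.mem_zpowers g)) w).mp hw
  have hWc : ∀ w ∈ W, ∀ y ∈ Q, w * y = y * w := by
    intro w hw
    have hle : S ≤ Subgroup.centralizer ({w} : Set G) := (Subgroup.closure_le _).mpr (by
      rintro _ ⟨y, hy, rfl⟩
      rw [SetLike.mem_coe, Subgroup.mem_centralizer_singleton_iff]
      have h1 : y * w * y⁻¹ ∈ W := (Subgroup.mem_normalizer_iff.mp (hWn.2 hy) w).mp hw
      have h2 := hWfix _ h1
      have h3 := hWfix _ hw
      have h5 : g⁻¹ * w * g = w := by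
        conv_lhs => rw [← h3]
        group
      calc y⁻¹ * (g * y * g⁻¹) * w = y⁻¹ * (g * y) * (g⁻¹ * w * g) * g⁻¹ := by group
        _ = y⁻¹ * (g * (y * w * y⁻¹) * g⁻¹) * (g * y * g⁻¹) := by rw [h5]; group
        _ = y⁻¹ * (y * w * y⁻¹) * (g * y * g⁻¹) := by rw [h2]
        _ = w * (y⁻¹ * (g * y * g⁻¹)) := by group)
    intro y hy
    exact (Subgroup.mem_centralizer_singleton_iff.mp (hle (hSQ.symm ▸ hy))).symm
  have hpW : ∀ a ∈ Q, a ^ p ∈ W := fun a ha =>
    ⟨(⟨a, ha⟩ : Q) ^ p, pow_mem_frattini_pGroup hQ _, rfl⟩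
  have hcomW : ∀ a ∈ Q, ∀ b ∈ Q, a * b * a⁻¹ * b⁻¹ ∈ W := fun a ha b hb =>
    ⟨⁅(⟨a, ha⟩ : Q), ⟨b, hb⟩⁆, commutator_le_frattini_pGroup hQ
      (Subgroup.commutator_mem_commutator (Subgroup.mem_top _) (Subgroup.mem_top _)), rfl⟩
  have hle : S ≤ Subgroup.centralizer ({g} : Set G) := (Subgroup.closure_le _).mpr (by
    rintro _ ⟨y, hy, rfl⟩
    set s := y⁻¹ * (g * y * g⁻¹) with hs
    have hsQ : s ∈ Q := mul_mem (inv_mem hy) (hconj y hy)
    set c := s * y * s⁻¹ * y⁻¹ with hcdef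
    have hcQ : c ∈ W := hcomW s hsQ y hy
    have hsy : s * y = c * (y * s) := by rw [hcdef]; group
    -- the commutator has order dividing `p`
    have hcp : c ^ p = 1 := by
      have h1 := pow_mul_central hsy (hWc c hcQ s hsQ) p
      rw [hWc _ (hpW s hsQ) y hy] at h1
      exact right_eq_mul.mp h1
    have hys : (y * s) ^ p = y ^ p := by
      rw [show y * s = g * y * g⁻¹ by rw [hs]; group, conj_pow, hWfix _ (hpW y hy)]
    rw [mul_pow_central hsy (hWc c hcQ y hy) (hWc c hcQ s hsQ) p] at hys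
    have hdiv : p ∣ p * (p - 1) / 2 := by
      obtain ⟨t, ht⟩ := (hp.eq_two_or_odd'.resolve_left hp2)
      refine ⟨t, ?_⟩
      rw [show p - 1 = 2 * t by omega, show p * (2 * t) = 2 * (p * t) by ring,
        Nat.mul_div_cancel_left _ (by norm_num)]
    obtain ⟨t, ht⟩ := hdiv
    rw [ht, pow_mul, hcp, one_pow, one_mul, mul_eq_left] at hys
    rw [SetLike.mem_coe, Subgroup.mem_centralizer_singleton_iff]
    have h2 := hfixp s hsQ hys
    calc s * g = (g * s * g⁻¹) * g := by rw [h2]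
      _ = g * s := by group)
  have h3 := Subgroup.mem_centralizer_singleton_iff.mp (hle (hSQ.symm ▸ hx))
  exact hxg (by rw [← h3, mul_inv_cancel_right])

end CfsgLib
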