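import Mathlib
import Cfsg.Agent.Lib.PRegularClass

/-!
Counting Sylow subgroups along a normal subgroup:
`n_p(G) = n_p(G/M) * |M : M ∩ N_G(P)|`.
-/

set_option autoImplicit false

namespace CfsgLib

open Subgroup MulAction

variable {G : Type*} [Group G] [Finite G] {p : ℕ} [Fact p.Prime]

/-- The image of a Sylow subgroup in a quotient. -/
noncomputable def sylowQuotient (P : Sylow p G) (M : Subgroup G) [M.Normal] : Sylow p (G ⧸ M) :=
  P.mapSurjective (QuotientGroup.mk'_surjective M)

@[simp] theorem coe_sylowQuotient (P : Sylow p G) (M : Subgroup G) [M.Normal] :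
    (sylowQuotient P M : Subgroup (G ⧸ M)) = (P : Subgroup G).map (QuotientGroup.mk' M) := rfl

theorem comap_normalizer_sylowQuotient (P : Sylow p G) (M : Subgroup G) [hM : M.Normal] :
    (Subgroup.normalizer ((sylowQuotient P M : Subgroup (G ⧸ M)) : Set (G ⧸ M))).comap
      (QuotientGroup.mk' M) = Subgroup.normalizer ((P : Subgroup G) : Set G) ⊔ M := by
  refine le_antisymm (fun g hg => ?_) (sup_le ?_ ?_)
  · set L := (P : Subgroup G) ⊔ M with hL
    have hLeq : L = ((P : Subgroup G).map (QuotientGroup.mk' M)).comap (QuotientGroup.mk' M) := by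
      rw [Subgroup.comap_map_eq, QuotientGroup.ker_mk']
    have hgP : ((g • P : Sylow p G) : Subgroup G) ≤ L := by
      intro x hx
      rw [Sylow.coe_subgroup_smul] at hx
      obtain ⟨y, hy, rfl⟩ := Subgroup.mem_map.mp hx
      rw [hLeq, Subgroup.mem_comap]
      show QuotientGroup.mk' M (g * y * g⁻¹) ∈ _
      rw [map_mul, map_mul, map_inv]
      exact (Subgroup.mem_normalizer_iff.mp hg _).mp (Subgroup.mem_map_of_mem _ hy)
    obtain ⟨l, hl⟩ := MulAction.exists_smul_eq L ((g • P).subtype hgP) (P.subtype le_sup_left)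
    have hl' : ((l : G) * g) • P = P := by
      rw [mul_smul]
      apply Sylow.ext
      have h1 := congrArg (fun S : Sylow p L => (S : Subgroup L).map L.subtype) hl
      simp only [Sylow.coe_subtype, Sylow.coe_subgroup_smul] at h1
      rw [Subgroup.map_subgroupOf_eq_of_le (show (P : Subgroup G) ≤ L from le_sup_left)] at h1
      rw [← h1, Sylow.coe_subgroup_smul]
      ext x
      constructor
      · intro hx
        obtain ⟨y, hy, rfl⟩ := Subgroup.mem_map.mp hx
        exact ⟨l * ⟨y, hgP hy⟩ * l⁻¹, Subgroup.mem_map.mpr ⟨⟨y, hgP hy⟩,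
          Subgroup.mem_subgroupOf.mpr hy, rfl⟩, rfl⟩
      · rintro ⟨z, hz, rfl⟩
        obtain ⟨y, hy, rfl⟩ := Subgroup.mem_map.mp hz
        exact Subgroup.mem_map.mpr ⟨(y : G), Subgroup.mem_subgroupOf.mp hy, rfl⟩
    have hlN : (l : G) * g ∈ Subgroup.normalizer ((P : Subgroup G) : Set G) :=
      Sylow.smul_eq_iff_mem_normalizer.mp hl'
    have hLN : L ≤ Subgroup.normalizer ((P : Subgroup G) : Set G) ⊔ M :=
      sup_le_sup_right Subgroup.le_normalizer M
    rw [show g = (l : G)⁻¹ * ((l : G) * g) by group]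
    exact mul_mem (hLN (inv_mem l.2)) (Subgroup.mem_sup_left hlN)
  · rw [← Subgroup.map_le_iff_le_comap]
    exact Subgroup.le_normalizer_map _
  · intro m hm
    rw [Subgroup.mem_comap, show QuotientGroup.mk' M m = 1 from (QuotientGroup.eq_one_iff m).mpr hm]
    exact one_mem _

theorem index_normalizer_sup (P : Sylow p G) (M : Subgroup G) [M.Normal] :
    (Subgroup.normalizer ((P : Subgroup G) : Set G) ⊔ M).index = Nat.card (Sylow p (G ⧸ M)) := by
  rw [← comap_normalizer_sylowQuotient P M,
    Subgroup.index_comap_of_surjective _ (QuotientGroup.mk'_surjective M)]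
  exact (sylowQuotient P M).card_eq_index_normalizer.symm

theorem card_sylow_eq_mul_relIndex (P : Sylow p G) (M : Subgroup G) [M.Normal] :
    Nat.card (Sylow p G) =
      Nat.card (Sylow p (G ⧸ M)) * (Subgroup.normalizer ((P : Subgroup G) : Set G)).relIndex M := by
  rw [← index_normalizer_sup P M, ← relIndex_sup_normal_eq, mul_comm,
    Subgroup.relIndex_mul_index le_sup_left]
  exact P.card_eq_index_normalizer

/-- An element of a normal subgroup meeting `P` trivially normalises `P` only by centralising it. -/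
theorem commute_of_mem_normalizer (P : Sylow p G) (M : Subgroup G) [hM : M.Normal]
    (hPM : (P : Subgroup G) ⊓ M = ⊥) {m : G} (hm : m ∈ M)
    (hmN : m ∈ Subgroup.normalizer ((P : Subgroup G) : Set G)) {x : G} (hx : x ∈ (P : Subgroup G)) :
    m * x = x * m := by
  have h1 : x * m * x⁻¹ * m⁻¹ ∈ (P : Subgroup G) ⊓ M := by
    refine Subgroup.mem_inf.mpr ⟨?_, mul_mem (hM.conj_mem m hm x) (inv_mem hm)⟩
    have h2 := ((Subgroup.mem_normalizer_iff (H := (P : Subgroup G))).mp hmN x⁻¹).mp ((P : Subgroup G).inv_mem hx)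
    have h3 := mul_mem hx h2
    rwa [show x * (m * x⁻¹ * m⁻¹) = x * m * x⁻¹ * m⁻¹ by group] at h3
  rw [hPM, Subgroup.mem_bot, mul_inv_eq_one, mul_inv_eq_iff_eq_mul] at h1
  exact h1.symm

end CfsgLib
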