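import Mathlib
import Cfsg.Agent.Lib.Local
import Cfsg.Agent.Lib.Elementary

/-!
Averaging over the cosets of a Sylow subgroup in its action on an abelian normal subgroup (Gaschütz).
-/

set_option autoImplicit false
set_option linter.unusedVariables false

namespace CfsgLib.AbelianTrace

variable {G : Type*} [Group G] [Finite G]

/-- The norm from the fixed points of `S` to the fixed points of `K` on the abelian subgroup `V`. -/
theorem exists_trace (V K S : Subgroup G) (hV : IsMulCommutative ↥V) (hKV : K ≤ Subgroup.normalizer (V : Set G))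
    (hSK : S ≤ K) :
    ∃ f : G → G,
      (∀ u ∈ V ⊓ Subgroup.centralizer (S : Set G), f u ∈ V ⊓ Subgroup.centralizer (K : Set G)) ∧
      (∀ u ∈ V ⊓ Subgroup.centralizer (S : Set G), ∀ v ∈ V ⊓ Subgroup.centralizer (S : Set G), f (u * v) = f u * f v) ∧
      (∀ u ∈ V ⊓ Subgroup.centralizer (K : Set G), f u = u ^ S.relIndex K) ∧
      (∀ u ∈ V ⊓ Subgroup.centralizer (S : Set G), ∀ D : Subgroup G, (∀ k ∈ K, k * u * k⁻¹ * u⁻¹ ∈ D) →
        f u * (u ^ S.relIndex K)⁻¹ ∈ D) ∧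
      (∀ t ∈ Subgroup.normalizer (V : Set G), t ∈ Subgroup.normalizer (K : Set G) → t ∈ Subgroup.normalizer (S : Set G) →
        ∀ u ∈ V ⊓ Subgroup.centralizer (S : Set G), t * f u * t⁻¹ = f (t * u * t⁻¹)) := by
  classical
  letI : CommGroup ↥V := { (inferInstance : Group ↥V) with mul_comm := fun x y => hV.is_comm.comm x y }
  set C := V ⊓ Subgroup.centralizer (S : Set G) with hC
  have := Fintype.ofFinite (↥K ⧸ S.subgroupOf K)
  set ι := ↥K ⧸ S.subgroupOf K
  have hmem : ∀ k ∈ K, ∀ v ∈ V, k * v * k⁻¹ ∈ V := fun k hk v hv => (Subgroup.mem_normalizer_iff.mp (hKV hk) v).mp hv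
  let a : G → ι → ↥V := fun u q =>
    if h : u ∈ V then ⟨(q.out : G) * u * (q.out : G)⁻¹, hmem _ q.out.2 u h⟩ else 1
  have ha : ∀ u ∈ C, ∀ k : ↥K, ((a u (QuotientGroup.mk k) : ↥V) : G) = (k : G) * u * (k : G)⁻¹ := by
    intro u hu k
    have hu1 : u ∈ V := hu.1
    simp only [a, hu1, dite_true]
    set o := (QuotientGroup.mk k : ι).out
    have hs : o⁻¹ * k ∈ S.subgroupOf K := QuotientGroup.eq.mp (QuotientGroup.out_eq' _)
    have hs' : (o : G)⁻¹ * (k : G) ∈ S := hs
    have hc := Subgroup.mem_centralizer_iff.mp hu.2 _ hs'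
    calc (o : G) * u * (o : G)⁻¹ = (o : G) * (u * ((o : G)⁻¹ * (k : G))) * (k : G)⁻¹ := by group
      _ = (o : G) * ((o : G)⁻¹ * (k : G) * u) * (k : G)⁻¹ := by rw [hc]
      _ = (k : G) * u * (k : G)⁻¹ := by group
  let F : G → ↥V := fun u => ∏ q : ι, a u q
  have hcard : Finset.card (Finset.univ : Finset ι) = S.relIndex K := by
    rw [Finset.card_univ, ← Nat.card_eq_fintype_card]; rfl
  refine ⟨fun u => (F u : G), ?_, ?_, ?_, ?_, ?_⟩
  · intro u hu
    refine ⟨(F u).2, Subgroup.mem_centralizer_iff.mpr fun k hk => ?_⟩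
    let φ : ↥V →* ↥V := MonoidHom.mk' (fun v => ⟨k * v * k⁻¹, hmem k hk v v.2⟩) fun v w => Subtype.ext (by simp [mul_assoc])
    have h1 : φ (F u) = F u := by
      simp only [F, map_prod]
      refine Fintype.prod_equiv (MulAction.toPerm (⟨k, hk⟩ : ↥K)) _ _ fun q => ?_
      induction q using QuotientGroup.induction_on with
      | H k' =>
        refine Subtype.ext ?_
        show k * ((a u (QuotientGroup.mk k') : ↥V) : G) * k⁻¹ = ((a u (QuotientGroup.mk (⟨k, hk⟩ * k')) : ↥V) : G)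
        rw [ha u hu, ha u hu, Subgroup.coe_mul]
        group
    have h2 : k * (F u : G) * k⁻¹ = F u := congrArg Subtype.val h1
    exact eq_mul_of_mul_inv_eq h2
  · intro u hu v hv
    show (F (u * v) : G) = (F u : G) * (F v : G)
    rw [← Subgroup.coe_mul]
    refine congrArg Subtype.val ?_
    simp only [F, ← Finset.prod_mul_distrib]
    refine Finset.prod_congr rfl fun q _ => Subtype.ext ?_
    induction q using QuotientGroup.induction_on with
    | H k => rw [Subgroup.coe_mul, ha _ (C.mul_mem hu hv), ha u hu, ha v hv]; group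
  · intro u hu
    have huC : u ∈ C := ⟨hu.1, Subgroup.centralizer_le hSK hu.2⟩
    show (F u : G) = _
    have h1 : F u = (⟨u, hu.1⟩ : ↥V) ^ S.relIndex K := by
      rw [← hcard, ← Finset.prod_const]
      refine Finset.prod_congr rfl fun q _ => Subtype.ext ?_
      induction q using QuotientGroup.induction_on with
      | H k => rw [ha u huC, Subgroup.mem_centralizer_iff.mp hu.2 k k.2, mul_inv_cancel_right]
    rw [h1]; rfl
  · intro u hu D hD
    have h1 : F u * ((⟨u, hu.1⟩ : ↥V) ^ S.relIndex K)⁻¹ ∈ D.subgroupOf V := by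
      rw [← hcard, ← Finset.prod_const, ← div_eq_mul_inv, ← Finset.prod_div_distrib]
      refine Subgroup.prod_mem _ fun q _ => ?_
      induction q using QuotientGroup.induction_on with
      | H k =>
        rw [Subgroup.mem_subgroupOf, div_eq_mul_inv, Subgroup.coe_mul, Subgroup.coe_inv, ha u hu]
        exact hD k k.2
    exact Subgroup.mem_subgroupOf.mp h1
  · intro t htV htK htS u hu
    have htu : t * u * t⁻¹ ∈ C := by
      refine ⟨(Subgroup.mem_normalizer_iff.mp htV u).mp hu.1, Subgroup.mem_centralizer_iff.mpr fun s hs => ?_⟩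
      have hs' : t⁻¹ * s * t ∈ S := by
        simpa using (Subgroup.mem_normalizer_iff.mp ((Subgroup.normalizer _).inv_mem htS) s).mp hs
      have hc := Subgroup.mem_centralizer_iff.mp hu.2 _ hs'
      calc s * (t * u * t⁻¹) = t * ((t⁻¹ * s * t) * u) * t⁻¹ := by group
        _ = t * (u * (t⁻¹ * s * t)) * t⁻¹ := by rw [hc]
        _ = t * u * t⁻¹ * s := by group
    let e : ι → ι := fun q => QuotientGroup.mk ⟨t * (q.out : G) * t⁻¹, (Subgroup.mem_normalizer_iff.mp htK _).mp q.out.2⟩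
    have hinj : Function.Injective e := by
      intro q q' h
      have h1 : (t * (q.out : G) * t⁻¹)⁻¹ * (t * (q'.out : G) * t⁻¹) ∈ S := (QuotientGroup.eq (s := S.subgroupOf K)).mp h
      rw [show (t * (q.out : G) * t⁻¹)⁻¹ * (t * (q'.out : G) * t⁻¹) = t * ((q.out : G)⁻¹ * (q'.out : G)) * t⁻¹ by group,
        ← Subgroup.mem_normalizer_iff.mp htS] at h1
      rw [← QuotientGroup.out_eq' q, ← QuotientGroup.out_eq' q']
      exact QuotientGroup.eq.mpr h1
    let φ : ↥V →* ↥V := MonoidHom.mk' (fun v => ⟨t * v * t⁻¹, (Subgroup.mem_normalizer_iff.mp htV v).mp v.2⟩)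
      fun v w => Subtype.ext (by simp [mul_assoc])
    have h1 : φ (F u) = F (t * u * t⁻¹) := by
      simp only [F, map_prod]
      refine Fintype.prod_bijective e (Finite.injective_iff_bijective.mp hinj) _ _ fun q => Subtype.ext ?_
      show t * ((a u q : ↥V) : G) * t⁻¹ = _
      rw [← QuotientGroup.out_eq' q, ha u hu, QuotientGroup.out_eq', ha _ htu]
      group
    exact congrArg Subtype.val h1

/-- A nontrivial `p`-subgroup normalised by a `p`-subgroup has a nontrivial fixed point. -/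
theorem exists_fixed {p : ℕ} [Fact p.Prime] {W Q : Subgroup G} (hW : IsPGroup p ↥W) (hQ : IsPGroup p ↥Q)
    (hQW : Q ≤ Subgroup.normalizer (W : Set G)) (hW1 : W ≠ ⊥) : ∃ w ∈ W, w ≠ 1 ∧ ∀ q ∈ Q, q * w = w * q := by
  set J := W ⊔ Q
  have hJ : IsPGroup p ↥J := hW.to_sup_of_normal_left' hQ hQW
  haveI : Group.IsNilpotent ↥J := hJ.isNilpotent
  haveI : (W.subgroupOf J).Normal := by
    rw [Subgroup.normal_subgroupOf_iff_le_normalizer le_sup_left]
    exact sup_le Subgroup.le_normalizer hQW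
  obtain ⟨⟨w, hwJ⟩, ⟨hwW, hwC⟩, hw1⟩ := (Subgroup.bot_or_exists_ne_one _).resolve_left
    (CfsgLib.inf_center_ne_bot_of_nilpotent (N := W.subgroupOf J) fun h => hW1 (by
      rw [← Subgroup.map_subgroupOf_eq_of_le (le_sup_left : W ≤ J), h, Subgroup.map_bot]))
  exact ⟨w, hwW, fun e => hw1 (Subtype.ext e), fun q hq =>
    congrArg Subtype.val (Subgroup.mem_center_iff.mp hwC ⟨q, (le_sup_right : Q ≤ J) hq⟩)⟩

theorem mem_of_pow_mem {p : ℕ} [hp : Fact p.Prime] {H : Subgroup G} {u : G} {m : ℕ} (hu : ∃ k, u ^ p ^ k = 1)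
    (hm : ¬ p ∣ m) (h : u ^ m ∈ H) : u ∈ H := by
  obtain ⟨k, hk⟩ := hu
  obtain ⟨j, hj⟩ := exists_pow_eq_self_of_coprime (n := m) (x := u)
    (Nat.Coprime.of_dvd_right (orderOf_dvd_of_pow_eq_one hk) ((hp.out.coprime_iff_not_dvd.mpr hm).symm.pow_right k))
  rw [← hj]; exact H.pow_mem h j

variable {p : ℕ} [hp : Fact p.Prime]

/-- If every fixed point of the `p`-group `Q` among the fixed points of `S` is centralized by `K`, all of them are. -/
theorem le_centralizer_of_fixed (V K S Q : Subgroup G) (hV : IsMulCommutative ↥V) (hVp : IsPGroup p ↥V)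
    (hKV : K ≤ Subgroup.normalizer (V : Set G)) (hSK : S ≤ K) (hidx : ¬ p ∣ S.relIndex K) (hQ : IsPGroup p ↥Q)
    (hQV : Q ≤ Subgroup.normalizer (V : Set G)) (hQK : Q ≤ Subgroup.normalizer (K : Set G))
    (hQS : Q ≤ Subgroup.normalizer (S : Set G))
    (h : ∀ u ∈ V ⊓ Subgroup.centralizer (S : Set G), (∀ q ∈ Q, q * u = u * q) → u ∈ Subgroup.centralizer (K : Set G)) :
    V ⊓ Subgroup.centralizer (S : Set G) ≤ Subgroup.centralizer (K : Set G) := by
  obtain ⟨f, hf1, hf2, hf3, -, hf5⟩ := exists_trace V K S hV hKV hSK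
  set m := S.relIndex K
  set C := V ⊓ Subgroup.centralizer (S : Set G) with hC
  have hCK : V ⊓ Subgroup.centralizer (K : Set G) ≤ C := inf_le_inf_left V (Subgroup.centralizer_le hSK)
  have f1 : f 1 = 1 := by rw [hf3 1 (Subgroup.one_mem _), one_pow]
  let W : Subgroup G :=
    { carrier := {u | u ∈ C ∧ f u = 1}
      one_mem' := ⟨C.one_mem, f1⟩
      mul_mem' := fun {a b} ha hb => ⟨C.mul_mem ha.1 hb.1, by rw [hf2 a ha.1 b hb.1, ha.2, hb.2, one_mul]⟩
      inv_mem' := fun {a} ha => ⟨C.inv_mem ha.1, by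
        have h1 := hf2 a ha.1 a⁻¹ (C.inv_mem ha.1)
        rw [mul_inv_cancel, f1, ha.2, one_mul] at h1
        exact h1.symm⟩ }
  have hW : W = ⊥ := by
    by_contra hW
    have hQW : Q ≤ Subgroup.normalizer (W : Set G) := fun q hq => Local.mem_normalizer_of_map_conj_eq
      (Subgroup.eq_of_le_of_card_ge (Local.map_conj_le fun w hw => by
        have hqw : q * w * q⁻¹ ∈ C := ⟨(Subgroup.mem_normalizer_iff.mp (hQV hq) w).mp hw.1.1,
          Subgroup.mem_centralizer_iff.mpr fun s hs => by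
            have hs' : q⁻¹ * s * q ∈ S := by
              simpa using (Subgroup.mem_normalizer_iff.mp (hQS (Q.inv_mem hq)) s).mp hs
            have hc := Subgroup.mem_centralizer_iff.mp hw.1.2 _ hs'
            calc s * (q * w * q⁻¹) = q * ((q⁻¹ * s * q) * w) * q⁻¹ := by group
              _ = q * (w * (q⁻¹ * s * q)) * q⁻¹ := by rw [hc]
              _ = q * w * q⁻¹ * s := by group⟩
        exact ⟨hqw, by rw [← hf5 q (hQV hq) (hQK hq) (hQS hq) w hw.1, hw.2, mul_one, mul_inv_cancel]⟩)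
        (Subgroup.card_map_of_injective (MulEquiv.injective (MulAut.conj q))).ge)
    obtain ⟨w, hwW, hw1, hwQ⟩ := exists_fixed (hVp.to_le fun x (hx : x ∈ W) => hx.1.1) hQ hQW hW
    have hwK : w ∈ V ⊓ Subgroup.centralizer (K : Set G) := ⟨hwW.1.1, h w hwW.1 hwQ⟩
    have e := hf3 w hwK
    rw [hwW.2] at e
    obtain ⟨k, hk⟩ := hVp ⟨w, hwK.1⟩
    exact hw1 (Subgroup.mem_bot.mp (mem_of_pow_mem (H := ⊥) ⟨k, congrArg Subtype.val hk⟩ hidx (Subgroup.mem_bot.mpr e.symm)))
  intro u hu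
  have hfu := hf1 u hu
  have hinj : ∀ v ∈ C, f v = 1 → v = 1 := fun v hv e => Subgroup.mem_bot.mp (hW ▸ (⟨hv, e⟩ : v ∈ W))
  have hpow : ∀ n : ℕ, f (u ^ n) = f u ^ n := by
    intro n
    induction n with
    | zero => rw [pow_zero, pow_zero, f1]
    | succ n ih => rw [pow_succ, pow_succ, hf2 _ (C.pow_mem hu n) _ hu, ih]
  have hinv : f (f u)⁻¹ = (f (f u))⁻¹ := by
    refine eq_inv_of_mul_eq_one_left ?_
    rw [← hf2 _ (C.inv_mem (hCK hfu)) _ (hCK hfu), inv_mul_cancel, f1]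
  have e : u ^ m = f u := mul_inv_eq_one.mp (hinj _ (C.mul_mem (C.pow_mem hu m) (C.inv_mem (hCK hfu))) (by
    rw [hf2 _ (C.pow_mem hu m) _ (C.inv_mem (hCK hfu)), hpow, hinv, hf3 _ hfu, mul_inv_cancel]))
  obtain ⟨k, hk⟩ := hVp ⟨u, hu.1⟩
  exact mem_of_pow_mem ⟨k, congrArg Subtype.val hk⟩ hidx (e ▸ hfu.2)

/-- A fixed point of `S` splits into a fixed point of `K` and an element of `D ⊇ [K, u]`; both parts keep the symmetries
of `u`. -/
theorem exists_decomp (V K S : Subgroup G) (hV : IsMulCommutative ↥V) (hVp : IsPGroup p ↥V)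
    (hKV : K ≤ Subgroup.normalizer (V : Set G)) (hSK : S ≤ K) (hidx : ¬ p ∣ S.relIndex K) {u : G}
    (hu : u ∈ V ⊓ Subgroup.centralizer (S : Set G)) (D : Subgroup G) (hD : ∀ k ∈ K, k * u * k⁻¹ * u⁻¹ ∈ D) :
    ∃ d ∈ D ⊓ (V ⊓ Subgroup.centralizer (S : Set G)), ∃ c ∈ V ⊓ Subgroup.centralizer (K : Set G), u = d * c ∧
      ∀ t ∈ Subgroup.normalizer (V : Set G), t ∈ Subgroup.normalizer (K : Set G) → t ∈ Subgroup.normalizer (S : Set G) →
        t * u = u * t → t * d = d * t ∧ t * c = c * t := by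
  obtain ⟨f, hf1, -, -, hf4, hf5⟩ := exists_trace V K S hV hKV hSK
  set m := S.relIndex K
  set C := V ⊓ Subgroup.centralizer (S : Set G) with hC
  have hCK : V ⊓ Subgroup.centralizer (K : Set G) ≤ C := inf_le_inf_left V (Subgroup.centralizer_le hSK)
  have hfu := hf1 u hu
  have hd := D.inv_mem (hf4 u hu D hD)
  rw [mul_inv_rev, inv_inv] at hd
  obtain ⟨k, hk⟩ := hVp ⟨u, hu.1⟩
  obtain ⟨j, hj⟩ := exists_pow_eq_self_of_coprime (n := m) (x := u)
    (Nat.Coprime.of_dvd_right (orderOf_dvd_of_pow_eq_one (congrArg Subtype.val hk : u ^ p ^ k = 1))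
      ((hp.out.coprime_iff_not_dvd.mpr hidx).symm.pow_right k))
  refine ⟨(u ^ m * (f u)⁻¹) ^ j, ⟨D.pow_mem hd j, C.pow_mem (C.mul_mem (C.pow_mem hu m) (C.inv_mem (hCK hfu))) j⟩,
    f u ^ j, Subgroup.pow_mem _ hfu j, ?_, ?_⟩
  · have hc : Commute (u ^ m * (f u)⁻¹) (f u) :=
      congrArg Subtype.val (hV.is_comm.comm (⟨_, V.mul_mem (V.pow_mem hu.1 m) (V.inv_mem hfu.1)⟩ : ↥V) ⟨_, hfu.1⟩)
    rw [← hc.mul_pow, inv_mul_cancel_right, hj]
  · intro t htV htK htS htu
    have h1 : Commute t (f u) := by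
      have h2 := hf5 t htV htK htS u hu
      rw [show t * u * t⁻¹ = u by rw [htu, mul_inv_cancel_right]] at h2
      exact eq_mul_of_mul_inv_eq h2
    exact ⟨(((Commute.pow_right htu m).mul_right h1.inv_right).pow_right j).eq, (h1.pow_right j).eq⟩

end CfsgLib.AbelianTrace
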