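import Mathlib
import Cfsg.Agent.Lib.Comp.CharPType
import Cfsg.Agent.Lib.Fusion.ConstrainedGroups
import Cfsg.Agent.Lib.AbelianTrace
import Cfsg.Agent.Lib.Local
import Cfsg.Prelude.Def_LocalStructure
import Cfsg.Prelude.Def_LocalEven
import Cfsg.Prelude.Def_PLocal

/-!
Characteristic `p` of local subgroups, read off from centralizers of elements of order `p`.
-/

set_option autoImplicit false
set_option linter.unusedVariables false

namespace CfsgLib.CharPLocal

open Cfsg CfsgLib

variable {G : Type*} [Group G] [Finite G] {p : ℕ} [Fact p.Prime]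

omit [Fact p.Prime] [Finite G] in
theorem centralizer_zpowers (z : G) :
    Subgroup.centralizer (Subgroup.zpowers z : Set G) = Subgroup.centralizer ({z} : Set G) := by
  rw [Subgroup.zpowers_eq_closure, Subgroup.centralizer_closure]

/-- From `C(T)` to `N(T)`. -/
theorem normalizer_of_centralizer {T : Subgroup G} (hT : IsPGroup p ↥T)
    (h : IsPGroup p ↥(generalizedFittingSubgroup ↥(Subgroup.centralizer (T : Set G)))) :
    IsPGroup p ↥(generalizedFittingSubgroup ↥(Subgroup.normalizer (T : Set G))) := by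
  rw [Comp.isPGroup_gfit_iff]
  set N := Subgroup.normalizer (T : Set G) with hN
  haveI : (pCore p ↥N).Normal := Subgroup.sSup_normal _ (fun _ h => h.1)
  set Y := Subgroup.centralizer (pCore p ↥N : Set ↥N) with hY
  have hTR : T.subgroupOf N ≤ pCore p ↥N := by
    haveI : (T.subgroupOf N).Normal :=
      (Subgroup.normal_subgroupOf_iff_le_normalizer Subgroup.le_normalizer).mpr le_rfl
    exact le_pCore (hT.of_equiv (Subgroup.subgroupOfEquivOfLe Subgroup.le_normalizer).symm)
  have hYC : ∀ y ∈ Y, (y : G) ∈ Subgroup.centralizer (T : Set G) := fun y hy x hx =>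
    congrArg Subtype.val (hy ⟨x, Subgroup.le_normalizer hx⟩ (hTR hx))
  set D := (Subgroup.centralizer (T : Set G)).subgroupOf N with hD
  have hYD : Y ≤ D := fun y hy => hYC y hy
  have hDp := Comp.gfit_pGroup_equiv p (Subgroup.subgroupOfEquivOfLe (Comp.centralizer_le_normalizer' T)).symm h
  have hYp : IsPGroup p ↥(generalizedFittingSubgroup ↥Y) :=
    Comp.gfit_pGroup_equiv p (Subgroup.subgroupOfEquivOfLe hYD) (Comp.charP_normal p (Y.subgroupOf D) hDp)
  have hYC' := (Comp.isPGroup_gfit_iff p).mp hYp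
  have hcen : (pCore p ↥Y).map Y.subtype ≤ pCore p ↥N := map_pCore_le p Y
  refine le_pCore fun ⟨y, hy⟩ => ?_
  have hyR : (⟨y, hy⟩ : Y) ∈ pCore p ↥Y := hYC' fun z hz => Subtype.ext
    (hy (z : ↥N) (hcen ⟨z, hz, rfl⟩))
  obtain ⟨j, hj⟩ := isPGroup_pCore p ⟨_, hyR⟩
  exact ⟨j, congrArg (fun z : pCore p ↥Y => (z : ↥Y)) hj⟩

/-- From `N(T)` to `C(T)`. -/
theorem centralizer_of_normalizer {T : Subgroup G}
    (h : IsPGroup p ↥(generalizedFittingSubgroup ↥(Subgroup.normalizer (T : Set G)))) :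
    IsPGroup p ↥(generalizedFittingSubgroup ↥(Subgroup.centralizer (T : Set G))) := by
  haveI : ((Subgroup.centralizer (T : Set G)).subgroupOf (Subgroup.normalizer (T : Set G))).Normal :=
    centralizer_subgroupOf_normalizer_normal T
  exact Comp.gfit_pGroup_equiv p (Subgroup.subgroupOfEquivOfLe (Comp.centralizer_le_normalizer' T))
    (Comp.charP_normal p _ h)

/-- A subgroup `X` inherits from a central element. -/
theorem normalizer_of_mem {X : Subgroup G} (hX : IsPGroup p ↥X) {z : G} (hz : z ∈ X)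
    (h : IsPGroup p ↥(generalizedFittingSubgroup ↥(Subgroup.centralizer ({z} : Set G)))) :
    IsPGroup p ↥(generalizedFittingSubgroup ↥(Subgroup.normalizer (X : Set G))) :=
  normalizer_of_centralizer hX (Comp.charP_centralizer p X hX (Subgroup.zpowers z) (Subgroup.zpowers_le.mpr hz)
    (by rw [centralizer_zpowers]; exact h))

/-- Conjugate centralizers. -/
theorem centralizer_conj {z : G} (g : G)
    (h : IsPGroup p ↥(generalizedFittingSubgroup ↥(Subgroup.centralizer ({z} : Set G)))) :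
    IsPGroup p ↥(generalizedFittingSubgroup ↥(Subgroup.centralizer ({g * z * g⁻¹} : Set G))) := by
  have e : (Subgroup.centralizer ({z} : Set G)).map (MulAut.conj g).toMonoidHom =
      Subgroup.centralizer ({g * z * g⁻¹} : Set G) := by
    ext x
    rw [Local.mem_map_conj, Subgroup.mem_centralizer_singleton_iff, Subgroup.mem_centralizer_singleton_iff]
    constructor
    · intro hh
      calc x * (g * z * g⁻¹) = g * (g⁻¹ * x * g * z) * g⁻¹ := by group
        _ = g * (z * (g⁻¹ * x * g)) * g⁻¹ := by rw [hh]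
        _ = g * z * g⁻¹ * x := by group
    · intro hh
      calc g⁻¹ * x * g * z = g⁻¹ * (x * (g * z * g⁻¹)) * g := by group
        _ = g⁻¹ * (g * z * g⁻¹ * x) * g := by rw [hh]
        _ = z * (g⁻¹ * x * g) := by group
  exact Comp.gfit_pGroup_equiv p ((Subgroup.equivMapOfInjective _ _ (MulEquiv.injective (MulAut.conj g))).trans
    (MulEquiv.subgroupCongr e)) h

theorem charP_subnormal {H : Subgroup G} (hH : H.IsSubnormal)
    (h : IsPGroup p ↥(generalizedFittingSubgroup G)) : IsPGroup p ↥(generalizedFittingSubgroup ↥H) := by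
  induction hH with
  | top => exact Comp.gfit_pGroup_equiv p Subgroup.topEquiv.symm h
  | step A B hle _ hn ih =>
    haveI := hn
    exact Comp.gfit_pGroup_equiv p (Subgroup.subgroupOfEquivOfLe hle) (Comp.charP_normal p _ ih)

/-- Elements of `Ω₁(Z(S))`. -/
theorem mem_omegaZ {S : Subgroup G} {z : G} (hz : z ∈ omegaOne p (S ⊓ Subgroup.centralizer (S : Set G))) :
    z ∈ S ∧ (∀ s ∈ S, s * z = z * s) ∧ z ^ p = 1 := by
  rw [omegaOne] at hz
  induction hz using Subgroup.closure_induction with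
  | mem x hx => exact ⟨hx.1.1, Subgroup.mem_centralizer_iff.mp hx.1.2, hx.2⟩
  | one => exact ⟨S.one_mem, fun s _ => by simp, one_pow _⟩
  | mul x y _ _ hx hy =>
    refine ⟨S.mul_mem hx.1 hy.1, fun s hs => ?_, ?_⟩
    · rw [← mul_assoc, hx.2.1 s hs, mul_assoc, hy.2.1 s hs, mul_assoc]
    · rw [(show Commute x y from hy.2.1 x hx.1).mul_pow, hx.2.2, hy.2.2, one_mul]
  | inv x _ hx =>
    refine ⟨S.inv_mem hx.1, fun s hs => ?_, by rw [inv_pow, hx.2.2, inv_one]⟩
    exact ((show Commute s x from hx.2.1 s hs).inv_right).eq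

/-- A normal `p`-subgroup of a parabolic subgroup has a central element of the Sylow subgroup, of order `p`. -/
theorem exists_central {R : Subgroup G} (hR : IsPGroup p ↥R) (hR1 : R ≠ ⊥) (T : Sylow p G)
    (hT : (T : Subgroup G) ≤ Subgroup.normalizer (R : Set G)) :
    ∃ z ∈ R, z ∈ (T : Subgroup G) ∧ orderOf z = p ∧ ∀ t ∈ (T : Subgroup G), t * z = z * t := by
  have hRT : R ≤ (T : Subgroup G) := le_sup_right.trans (T.3 (T.2.to_sup_of_normal_right' hR hT) le_sup_left).le
  obtain ⟨w, hw, hw1, hwc⟩ := AbelianTrace.exists_fixed hR T.2 hT hR1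
  obtain ⟨k, hk⟩ := hR ⟨w, hw⟩
  have hd : p ∣ orderOf w := by
    obtain ⟨i, -, e⟩ := (Nat.dvd_prime_pow Fact.out).mp (orderOf_dvd_of_pow_eq_one (congrArg Subtype.val hk : w ^ p ^ k = 1))
    rw [e]
    refine dvd_pow_self p fun h0 => hw1 (orderOf_eq_one_iff.mp ?_)
    rw [e, h0, pow_zero]
  refine ⟨w ^ (orderOf w / p), R.pow_mem hw _, hRT (R.pow_mem hw _), orderOf_pow_orderOf_div (orderOf_pos w).ne' hd,
    fun t ht => ?_⟩
  exact ((show Commute t w from hwc t ht).pow_right _).eq

theorem parabolic_of_centralizers (S : Sylow p G)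
    (h : ∀ z : G, orderOf z = p → z ∈ (S : Subgroup G) → (∀ s ∈ (S : Subgroup G), s * z = z * s) →
      IsPGroup p ↥(generalizedFittingSubgroup ↥(Subgroup.centralizer ({z} : Set G)))) :
    IsOfParabolicCharacteristic p G := by
  intro R hR hR1 hpar
  obtain ⟨T, hT⟩ := hpar
  rw [← Comp.isPGroup_gfit_iff]
  obtain ⟨z, hzR, hzT, hzo, hzc⟩ := exists_central hR hR1 T hT
  obtain ⟨g, hg⟩ := MulAction.exists_smul_eq G S T
  refine normalizer_of_mem hR hzR ?_
  have hmem : ∀ x ∈ (S : Subgroup G), g * x * g⁻¹ ∈ (T : Subgroup G) := fun x hx => by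
    rw [← hg, Sylow.coe_subgroup_smul]
    exact Subgroup.smul_mem_pointwise_smul x (MulAut.conj g) _ hx
  have hzS : g⁻¹ * z * g ∈ (S : Subgroup G) := by
    rw [← hg, Sylow.coe_subgroup_smul, Subgroup.pointwise_smul_def] at hzT
    obtain ⟨y, hy, e⟩ := hzT
    have e' : g * y * g⁻¹ = z := e
    rw [show g⁻¹ * z * g = y by rw [← e']; group]
    exact hy
  have h1 := h (g⁻¹ * z * g) (by
      rw [← hzo]
      simpa using (MulEquiv.orderOf_eq (MulAut.conj g⁻¹) z)) hzS fun s hs => by
    have := hzc _ (hmem s hs)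
    calc s * (g⁻¹ * z * g) = g⁻¹ * ((g * s * g⁻¹) * z) * g := by group
      _ = g⁻¹ * (z * (g * s * g⁻¹)) * g := by rw [this]
      _ = g⁻¹ * z * g * s := by group
  have h2 := centralizer_conj g h1
  rwa [show g * (g⁻¹ * z * g) * g⁻¹ = z by group] at h2

theorem centralizer_of_parabolic (hG : IsOfParabolicCharacteristic p G) (S : Sylow p G) {z : G} (hz1 : z ≠ 1)
    (hzp : z ^ p = 1) (hc : ∀ s ∈ (S : Subgroup G), s * z = z * s) :
    IsPGroup p ↥(generalizedFittingSubgroup ↥(Subgroup.centralizer ({z} : Set G))) := by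
  have hp : IsPGroup p ↥(Subgroup.zpowers z) :=
    IsPGroup.of_card (n := 1) (by rw [Nat.card_zpowers, orderOf_eq_prime hzp hz1, pow_one])
  have hS : (S : Subgroup G) ≤ Subgroup.normalizer (Subgroup.zpowers z : Set G) := fun s hs =>
    Comp.centralizer_le_normalizer' _ (by
      rw [centralizer_zpowers]
      exact Subgroup.mem_centralizer_singleton_iff.mpr (hc s hs))
  have h := hG (Subgroup.zpowers z) hp (Subgroup.zpowers_ne_bot.mpr hz1) ⟨S, hS⟩
  rw [← Comp.isPGroup_gfit_iff] at h
  rw [← centralizer_zpowers]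
  exact centralizer_of_normalizer h

theorem exists_sylow_subnormal (S : Sylow p G) {L : Subgroup G} (hL : L.IsSubnormal) :
    ∃ P : Sylow p ↥L, (P : Subgroup ↥L).map L.subtype = (S : Subgroup G) ⊓ L := by
  obtain ⟨hle, hp, hidx⟩ := Cfsg.FusionSystem.isSylowIn_inf_of_isSubnormal S hL
  refine ⟨IsPGroup.toSylow (hp.comap_of_injective L.subtype L.subtype_injective) ?_, ?_⟩
  · exact hidx
  · exact Subgroup.map_subgroupOf_eq_of_le inf_le_right

/-- Parabolic characteristic `p` passes to suitable subnormal subgroups. -/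
theorem parabolic_subnormal (hG : IsOfParabolicCharacteristic p G) (S : Sylow p G) {L : Subgroup G} (hL : L.IsSubnormal)
    (h : ∀ z ∈ (S : Subgroup G) ⊓ L, z ^ p = 1 → (∀ s ∈ (S : Subgroup G) ⊓ L, s * z = z * s) →
      ∀ s ∈ (S : Subgroup G), s * z = z * s) : IsOfParabolicCharacteristic p ↥L := by
  obtain ⟨P, hP⟩ := exists_sylow_subnormal S hL
  refine parabolic_of_centralizers P fun z hzo hzP hzc => ?_
  have hzS : (z : G) ∈ (S : Subgroup G) ⊓ L := hP ▸ ⟨z, hzP, rfl⟩
  have hzp : (z : G) ^ p = 1 := by rw [← hzo, ← Subgroup.orderOf_coe]; exact pow_orderOf_eq_one _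
  have hz1 : (z : G) ≠ 1 := fun e => (Fact.out : p.Prime).one_lt.ne' (by rw [← hzo, ← Subgroup.orderOf_coe, e, orderOf_one])
  have hC := centralizer_of_parabolic hG S hz1 hzp (h z hzS hzp fun s hs => by
    obtain ⟨s, hs', rfl⟩ := (hP.symm ▸ hs : s ∈ (P : Subgroup ↥L).map L.subtype)
    exact congrArg Subtype.val (hzc s hs'))
  set C := Subgroup.centralizer ({(z : G)} : Set G)
  have h1 := charP_subnormal (hL.subgroupOf (K := C)) hC
  let e : ↥(L.subgroupOf C) ≃* ↥(Subgroup.centralizer ({z} : Set ↥L)) :=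
    { toFun := fun x => ⟨⟨((x : ↥C) : G), x.2⟩, Subgroup.mem_centralizer_singleton_iff.mpr
        (Subtype.ext (Subgroup.mem_centralizer_singleton_iff.mp (x : ↥C).2))⟩
      invFun := fun y => ⟨⟨((y : ↥L) : G), Subgroup.mem_centralizer_singleton_iff.mpr
        (congrArg Subtype.val (Subgroup.mem_centralizer_singleton_iff.mp y.2))⟩, (y : ↥L).2⟩
      left_inv := fun x => rfl
      right_inv := fun y => rfl
      map_mul' := fun x y => rfl }
  exact Comp.gfit_pGroup_equiv p e h1

end CfsgLib.CharPLocal
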