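import Cfsg.Agent.Lib.Local
import Cfsg.Agent.Lib.Products
import Cfsg.Agent.Lib.Coprime
import Mathlib.Data.Set.Finite.Lemmas

/-!
Minimal offenders of an abelian group on an abelian p-subgroup, inside an ambient group.
-/

set_option autoImplicit false

namespace CfsgLib.AbelianOffender

open CfsgLib CfsgLib.Local
open scoped commutatorElement

variable {G : Type*} [Group G] [Finite G] {p : ℕ} [Fact p.Prime]

/-- A subgroup `K` of a normal `p`-subgroup with `K ≤ [B, K]` for a `p`-group `B` is trivial. -/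
theorem eq_bot_of_le_commutator {B W K : Subgroup G} (hB : IsPGroup p B) (hW : IsPGroup p W)
    (hBW : B ≤ Subgroup.normalizer (W : Set G)) (hKW : K ≤ W) (h : K ≤ ⁅B, K⁆) : K = ⊥ := by
  set U := W ⊔ B
  haveI : Group.IsNilpotent U := (hW.to_sup_of_normal_left' hB hBW).isNilpotent
  obtain ⟨m, f, ⟨hf0, hfstep⟩, hfm⟩ :=
    (Subgroup.nilpotent_iff_finite_descending_central_series U).mp inferInstance
  have hall : ∀ i, K ≤ (f i).map U.subtype := by
    intro i
    induction i with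
    | zero =>
      rw [hf0, ← MonoidHom.range_eq_map, Subgroup.range_subtype]
      exact hKW.trans le_sup_left
    | succ i hi =>
      refine h.trans (Subgroup.commutator_le.2 fun b hb k hk => ?_)
      obtain ⟨x, hx, rfl⟩ := hi hk
      have h1 := (f (i + 1)).inv_mem (hfstep x i hx ⟨b, Subgroup.mem_sup_right hb⟩)
      exact ⟨_, h1, by simp [commutatorElement_def, mul_assoc]⟩
  rw [eq_bot_iff]
  intro k hk
  obtain ⟨x, hx, rfl⟩ := hall m hk
  rw [hfm] at hx
  rw [Subgroup.mem_bot.1 hx]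
  simp

/-- A minimal offender containing the kernel `C₀`. -/
structure Min (p : ℕ) (W C₀ B : Subgroup G) : Prop where
  lt : C₀ < B
  pgrp : IsPGroup p B
  comm : ∀ a ∈ B, ∀ b ∈ B, a * b = b * a
  norm : B ≤ Subgroup.normalizer (W : Set G)
  wcomm : ∀ v ∈ W, ∀ w ∈ W, v * w = w * v
  wp : IsPGroup p W
  ker : C₀ = B ⊓ Subgroup.centralizer (W : Set G)
  big : Nat.card W * Nat.card C₀ ≤ Nat.card B * Nat.card ↥(W ⊓ Subgroup.centralizer (B : Set G))
  minimal : ∀ B₁ : Subgroup G, C₀ < B₁ → B₁ < B →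
    Nat.card B₁ * Nat.card ↥(W ⊓ Subgroup.centralizer (B₁ : Set G)) < Nat.card W * Nat.card C₀

/-- Existence of a minimal offender inside an abelian offender. -/
theorem exists_min {W A : Subgroup G} (hA : IsPGroup p A) (hAc : ∀ a ∈ A, ∀ b ∈ A, a * b = b * a)
    (hAW : A ≤ Subgroup.normalizer (W : Set G)) (hWp : IsPGroup p W)
    (hWc : ∀ v ∈ W, ∀ w ∈ W, v * w = w * v) (hnot : ¬ A ≤ Subgroup.centralizer (W : Set G))
    (hbig : Nat.card W * Nat.card ↥(A ⊓ Subgroup.centralizer (W : Set G)) ≤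
      Nat.card A * Nat.card ↥(W ⊓ Subgroup.centralizer (A : Set G))) :
    ∃ B ≤ A, Min p W (A ⊓ Subgroup.centralizer (W : Set G)) B := by
  set C₀ := A ⊓ Subgroup.centralizer (W : Set G)
  have hC : C₀ < A := lt_of_le_of_ne inf_le_left fun e => hnot (e ▸ inf_le_right)
  obtain ⟨B, ⟨hB1, hB2, hB3⟩, hBm⟩ := Set.exists_min_image
    {B : Subgroup G | B ≤ A ∧ C₀ < B ∧
      Nat.card W * Nat.card C₀ ≤ Nat.card B * Nat.card ↥(W ⊓ Subgroup.centralizer (B : Set G))}
    (fun B => Nat.card B) (Set.toFinite _) ⟨A, le_rfl, hC, hbig⟩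
  refine ⟨B, hB1, hB2, isPGroup_of_le hB1 hA, fun a ha b hb => hAc a (hB1 ha) b (hB1 hb),
    hB1.trans hAW, hWc, hWp, ?_, hB3, fun B₁ h1 h2 => ?_⟩
  · exact le_antisymm (le_inf hB2.le inf_le_right) (inf_le_inf_right _ hB1)
  · by_contra h
    push Not at h
    exact h2.ne (Subgroup.eq_of_le_of_card_ge h2.le (hBm B₁ ⟨h2.le.trans hB1, h1, h⟩))

variable {W C₀ B : Subgroup G}

/-- A minimal offender acts quadratically. -/
theorem Min.quad (h : Min p W C₀ B) {v : G} (hv : v ∈ W) {b c : G} (hb : b ∈ B) (hc : c ∈ B) :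
    c * (b * v * b⁻¹ * v⁻¹) * c⁻¹ = b * v * b⁻¹ * v⁻¹ := by
  set F := W ⊓ Subgroup.centralizer (B : Set G) with hF
  set K := Subgroup.closure {w | ∃ a ∈ B, w = a * v * a⁻¹ * v⁻¹} with hK
  have hmem : ∀ a ∈ B, a * v * a⁻¹ * v⁻¹ ∈ W := fun a ha =>
    W.mul_mem ((Subgroup.mem_normalizer_iff.1 (h.norm ha) v).1 hv) (W.inv_mem hv)
  have hKW : K ≤ W := (Subgroup.closure_le _).2 (by rintro _ ⟨a, ha, rfl⟩; exact hmem a ha)
  have hgen : ∀ a ∈ B, a * v * a⁻¹ * v⁻¹ ∈ K := fun a ha => Subgroup.subset_closure ⟨a, ha, rfl⟩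
  set B' := B ⊓ Subgroup.centralizer (K : Set G) with hB'
  by_cases hBB : B' = B
  · have hk := (show c ∈ B' from hBB ▸ hc).2 _ (hgen b hb)
    rw [← hk, mul_inv_cancel_right]
  exfalso
  have hB'lt : B' < B := lt_of_le_of_ne inf_le_left hBB
  have hC0B' : C₀ ≤ B' := by
    rw [h.ker]
    exact fun x hx => ⟨hx.1, fun k hk => hx.2 k (hKW hk)⟩
  set E := F ⊔ K with hE
  have hEW : E ≤ W := sup_le inf_le_left hKW
  have hEfix : E ≤ W ⊓ Subgroup.centralizer (B' : Set G) := by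
    refine le_inf hEW (sup_le (fun x hx y hy => hx.2 y hy.1) fun x hx y hy => (hy.2 x hx).symm)
  -- `a ↦ [a, v]` separates the cosets of `B'`
  have hcount : Nat.card B * Nat.card F ≤ Nat.card B' * Nat.card E := by
    let f : B ⧸ B'.subgroupOf B → E ⧸ F.subgroupOf E := fun q =>
      QuotientGroup.mk ⟨(q.out : G) * v * (q.out : G)⁻¹ * v⁻¹, Subgroup.mem_sup_right (hgen _ q.out.2)⟩
    have hinj : Function.Injective f := by
      intro q q' e
      have hm : ((q.out : G) * v * (q.out : G)⁻¹ * v⁻¹)⁻¹ * ((q'.out : G) * v * (q'.out : G)⁻¹ * v⁻¹) ∈ F :=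
        Subgroup.mem_subgroupOf.1 (QuotientGroup.eq.1 (show QuotientGroup.mk _ = QuotientGroup.mk _ from e))
      rw [← q.out_eq, ← q'.out_eq]
      refine QuotientGroup.eq.2 ?_
      show ((q.out : G))⁻¹ * (q'.out : G) ∈ B'
      generalize hu : (q.out : G) = u at hm
      generalize hw : (q'.out : G) = w at hm
      have huB : u ∈ B := hu ▸ q.out.2
      have hwB : w ∈ B := hw ▸ q'.out.2
      set x := u⁻¹ * w
      have hxB : x ∈ B := B.mul_mem (B.inv_mem huB) hwB
      set c₀ := (u * v * u⁻¹ * v⁻¹)⁻¹ * (w * v * w⁻¹ * v⁻¹) with hc₀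
      have hc₀W : c₀ ∈ W := hm.1
      have hwv : w * v * w⁻¹ = u * v * u⁻¹ * c₀ := by
        calc w * v * w⁻¹ = (u * v * u⁻¹) * (v⁻¹ * c₀) * v := by rw [hc₀]; group
          _ = (u * v * u⁻¹) * (c₀ * v⁻¹) * v := by rw [h.wcomm _ (W.inv_mem hv) _ hc₀W]
          _ = _ := by group
      have hxv : x * v * x⁻¹ = v * c₀ := by
        have hu0 : u⁻¹ * c₀ * u = c₀ := by
          rw [mul_assoc, ← hm.2 u huB, inv_mul_cancel_left]
        calc x * v * x⁻¹ = u⁻¹ * (w * v * w⁻¹) * u := by simp only [x]; group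
          _ = u⁻¹ * (u * v * u⁻¹ * c₀) * u := by rw [hwv]
          _ = v * (u⁻¹ * c₀ * u) := by group
          _ = v * c₀ := by rw [hu0]
      refine ⟨hxB, ?_⟩
      suffices K ≤ Subgroup.centralizer ({x} : Set G) from
        fun k hk => Subgroup.mem_centralizer_singleton_iff.1 (this hk)
      refine (Subgroup.closure_le _).2 ?_
      rintro _ ⟨d, hd, rfl⟩
      refine Subgroup.mem_centralizer_singleton_iff.2 ?_
      have e1 : x * (d * v * d⁻¹ * v⁻¹) * x⁻¹ = d * v * d⁻¹ * v⁻¹ := by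
        have hxd : x * d = d * x := h.comm x hxB d hd
        calc x * (d * v * d⁻¹ * v⁻¹) * x⁻¹ = (x * d) * v * (x * d)⁻¹ * (x * v * x⁻¹)⁻¹ := by group
          _ = (d * x) * v * (d * x)⁻¹ * (v * c₀)⁻¹ := by rw [hxd, hxv]
          _ = d * (x * v * x⁻¹) * d⁻¹ * (v * c₀)⁻¹ := by group
          _ = d * v * (c₀ * d⁻¹) * c₀⁻¹ * v⁻¹ := by rw [hxv]; group
          _ = d * v * (d⁻¹ * c₀) * c₀⁻¹ * v⁻¹ := by rw [hm.2 d⁻¹ (B.inv_mem hd)]
          _ = _ := by group
      calc d * v * d⁻¹ * v⁻¹ * x = x * (d * v * d⁻¹ * v⁻¹) * x⁻¹ * x := by rw [e1]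
        _ = _ := by group
    have h1 := Nat.card_le_card_of_injective f hinj
    have hBidx : Nat.card B' * (B'.subgroupOf B).index = Nat.card B :=
      CfsgLib.Products.card_mul_relIndex_of_le inf_le_left
    have hEidx : Nat.card F * (F.subgroupOf E).index = Nat.card E :=
      CfsgLib.Products.card_mul_relIndex_of_le le_sup_left
    calc Nat.card B * Nat.card F = Nat.card B' * (B'.subgroupOf B).index * Nat.card F := by rw [hBidx]
      _ ≤ Nat.card B' * (F.subgroupOf E).index * Nat.card F :=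
          Nat.mul_le_mul_right _ (Nat.mul_le_mul_left _ h1)
      _ = Nat.card B' * Nat.card E := by rw [← hEidx]; ring
  have hbig := h.big.trans hcount
  by_cases hCB : C₀ = B'
  · rw [← hCB, mul_comm (Nat.card W)] at hbig
    have hEW' : E = W :=
      Subgroup.eq_of_le_of_card_ge hEW (Nat.le_of_mul_le_mul_left hbig Nat.card_pos)
    -- then `K ≤ [B, K]`
    have hK0 : K = ⊥ := by
      refine eq_bot_of_le_commutator h.pgrp h.wp h.norm hKW ((Subgroup.closure_le _).2 ?_)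
      rintro _ ⟨a, ha, rfl⟩
      have hFn : K ≤ Subgroup.normalizer (F : Set G) := fun k hk =>
        mem_normalizer_of_map_conj_eq (Subgroup.eq_of_le_of_card_ge (map_conj_le fun x hx => by
          rw [h.wcomm k (hKW hk) x hx.1, mul_inv_cancel_right]; exact hx)
          (Subgroup.card_map_of_injective (MulAut.conj k).injective).ge)
      obtain ⟨f, hf, k, hk, hfk⟩ := mem_sup_of_le_normalizer hFn (show v ∈ F ⊔ K by rw [← hE, hEW']; exact hv)
      have hfa : a * f * a⁻¹ = f := by rw [hf.2 a ha, mul_inv_cancel_right]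
      have hfk' : f * k = k * f := h.wcomm f hf.1 k (hKW hk)
      have e : a * v * a⁻¹ * v⁻¹ = ⁅a, k⁆ := by
        rw [← hfk, hfk', commutatorElement_def]
        calc a * (k * f) * a⁻¹ * (k * f)⁻¹ = a * k * a⁻¹ * (a * f * a⁻¹) * f⁻¹ * k⁻¹ := by group
          _ = _ := by rw [hfa]; group
      rw [e]
      exact Subgroup.commutator_mem_commutator ha hk
    refine hBB (le_antisymm inf_le_left fun x hx => ⟨hx, fun k hk => ?_⟩)
    rw [hK0, SetLike.mem_coe, Subgroup.mem_bot] at hk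
    simp [hk]
  · have := h.minimal B' (lt_of_le_of_ne hC0B' hCB) hB'lt
    have h2 : Nat.card B' * Nat.card E ≤
        Nat.card B' * Nat.card ↥(W ⊓ Subgroup.centralizer (B' : Set G)) :=
      Nat.mul_le_mul_left _ (Subgroup.card_le_of_le hEfix)
    omega

theorem conj_pow_eq {g v d : G} (h : g * v * g⁻¹ = d * v) (hd : g * d * g⁻¹ = d) (n : ℕ) :
    g ^ n * v * (g ^ n)⁻¹ = d ^ n * v := by
  induction n with
  | zero => simp
  | succ n ih =>
    calc g ^ (n + 1) * v * (g ^ (n + 1))⁻¹ = g * (g ^ n * v * (g ^ n)⁻¹) * g⁻¹ := by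
          rw [pow_succ' g n]; group
      _ = (g * d ^ n * g⁻¹) * (g * v * g⁻¹) := by rw [ih]; group
      _ = d ^ (n + 1) * v := by rw [← conj_pow, hd, h, pow_succ, mul_assoc]

theorem Min.pow_mem (h : Min p W C₀ B) (he : ∀ v ∈ W, v ^ p = 1) {b : G} (hb : b ∈ B) : b ^ p ∈ C₀ := by
  rw [h.ker]
  refine ⟨B.pow_mem hb p, fun v hv => ?_⟩
  have hd := h.quad hv hb hb
  have hdW : b * v * b⁻¹ * v⁻¹ ∈ W :=
    W.mul_mem ((Subgroup.mem_normalizer_iff.1 (h.norm hb) v).1 hv) (W.inv_mem hv)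
  have e := conj_pow_eq (g := b) (v := v) (d := b * v * b⁻¹ * v⁻¹) (by group) hd p
  rw [he _ hdW, one_mul, mul_inv_eq_iff_eq_mul] at e
  exact e.symm

/-- Subgroups of index `p` above the kernel have the same fixed points as the offender. -/
theorem Min.fix_eq (h : Min p W C₀ B) {B₁ : Subgroup G} (h1 : C₀ < B₁) (h2 : B₁ < B)
    (hidx : Nat.card B = p * Nat.card B₁) :
    W ⊓ Subgroup.centralizer (B₁ : Set G) = W ⊓ Subgroup.centralizer (B : Set G) := by
  refine (Subgroup.eq_of_le_of_card_ge (inf_le_inf_left _ (Subgroup.centralizer_le h2.le)) ?_).symm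
  have hmin := h.minimal B₁ h1 h2
  have hbig := h.big
  rw [hidx] at hbig
  have h1p : IsPGroup p B₁ := isPGroup_of_le h2.le h.pgrp
  have h0p : IsPGroup p C₀ := isPGroup_of_le h1.le h1p
  have hFp : IsPGroup p ↥(W ⊓ Subgroup.centralizer (B₁ : Set G)) := isPGroup_of_le inf_le_left h.wp
  obtain ⟨i, hi⟩ := h1p.exists_card_eq
  obtain ⟨j, hj⟩ := h0p.exists_card_eq
  obtain ⟨k, hk⟩ := hFp.exists_card_eq
  obtain ⟨l, hl⟩ := h.wp.exists_card_eq
  rw [hi, hj, hk, hl, ← pow_add, ← pow_add,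
    Nat.pow_lt_pow_iff_right (Fact.out : p.Prime).one_lt] at hmin
  have hstep : p * (Nat.card B₁ * Nat.card ↥(W ⊓ Subgroup.centralizer (B₁ : Set G))) ≤
      Nat.card W * Nat.card C₀ := by
    rw [hi, hj, hk, hl, ← pow_add, ← pow_add, ← pow_succ']
    exact Nat.pow_le_pow_right (Fact.out : p.Prime).pos hmin
  have := hstep.trans hbig
  rw [← mul_assoc] at this
  exact Nat.le_of_mul_le_mul_left this (Nat.mul_pos (Fact.out : p.Prime).pos Nat.card_pos)

end CfsgLib.AbelianOffender
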