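import Mathlib

/-!
Self-dual irreducible modules of abelian groups over finite fields.
-/

set_option autoImplicit false

namespace CfsgLib.AbelianSelfDual

variable {F : Type*} [Field F] [Fintype F]

/-- A field extension generated by a group of units with a ring endomorphism inverting the group. -/
theorem inverting_cases {K : Type*} [Field K] [Finite K] [Algebra F K] [FiniteDimensional F K]
    {H : Type*} [CommGroup H] [Finite H] (ι : H →* K) (hι : Function.Injective ι)
    (hgen : Algebra.adjoin F (Set.range ι) = ⊤) (σ : K →ₐ[F] K) (hσ : ∀ h, σ (ι h) = ι h⁻¹) :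
    (Module.finrank F K = 1 ∧ Nat.card H ≤ 2) ∨ (Even (Module.finrank F K) ∧
      Nat.card H ∣ Fintype.card F ^ (Module.finrank F K / 2) + 1) := by
  classical
  set φ := FiniteField.frobeniusAlgHom F K with hφdef
  set n := Module.finrank F K with hndef
  obtain ⟨i, hi⟩ : ∃ i : Fin n, φ ^ i.1 = σ := (FiniteField.bijective_frobeniusAlgHom_pow F K).2 σ
  have hφ : ∀ (j : ℕ) (x : K), (φ ^ j) x = x ^ (Fintype.card F ^ j) := by
    intro j
    induction j with
    | zero => intro x; simp
    | succ j ih =>
      intro x
      rw [pow_succ, AlgHom.mul_apply, ih, FiniteField.coe_frobeniusAlgHom, ← pow_mul, pow_succ']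
  have hsq : φ ^ (2 * i.1) = 1 := by
    rw [two_mul, pow_add, hi]
    refine AlgHom.ext_of_adjoin_eq_top hgen ?_
    rintro _ ⟨h, rfl⟩
    rw [AlgHom.mul_apply, hσ, hσ, inv_inv, AlgHom.one_apply]
  have hn : n ∣ 2 * i.1 := by
    have h1 := orderOf_dvd_of_pow_eq_one hsq
    rwa [FiniteField.orderOf_frobeniusAlgHom F K] at h1
  rcases Nat.eq_zero_or_pos i.1 with h0 | hpos
  · left
    have hsq1 : ∀ h : H, ι h = 1 ∨ ι h = -1 := fun h => by
      have h1 : ι h * ι h = 1 := by
        have h2 := hσ h
        rw [← hi, h0, pow_zero, AlgHom.one_apply] at h2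
        calc ι h * ι h = ι h * ι h⁻¹ := by rw [← h2]
          _ = 1 := by rw [← map_mul, mul_inv_cancel, map_one]
      exact mul_self_eq_one_iff.mp h1
    constructor
    · have hbot : (⊤ : Subalgebra F K) = ⊥ := by
        rw [← hgen, eq_bot_iff, Algebra.adjoin_le_iff]
        rintro _ ⟨h, rfl⟩
        rcases hsq1 h with e | e <;> rw [e]
        · exact one_mem _
        · exact neg_mem (one_mem _)
      exact Subalgebra.bot_eq_top_iff_finrank_eq_one.mp hbot.symm
    · have h2 : Nat.card H ≤ Nat.card ({1, -1} : Finset K) :=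
        Nat.card_le_card_of_injective (fun h => ⟨ι h, by simpa using hsq1 h⟩)
          (fun a b e => hι (congrArg Subtype.val e))
      exact h2.trans (by rw [Nat.card_eq_finsetCard]; exact Finset.card_le_two)
  · right
    have h2 : 2 * i.1 = n := by
      obtain ⟨c, hc⟩ := hn
      have hlt : i.1 < n := i.2
      rcases c with _ | _ | c
      · omega
      · omega
      · exfalso
        nlinarith
    refine ⟨⟨i.1, by omega⟩, ?_⟩
    rw [show n / 2 = i.1 by omega]
    have hu : Function.Injective (Units.coeHom K |>.comp (MonoidHom.toHomUnits ι)) := by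
      intro a b e; exact hι e
    haveI : IsCyclic H := isCyclic_of_subgroup_isDomain (R := K) ι hι
    obtain ⟨g, hg⟩ := IsCyclic.exists_generator (α := H)
    rw [← orderOf_eq_card_of_forall_mem_zpowers hg]
    refine orderOf_dvd_of_pow_eq_one (hι ?_)
    have h3 := hσ g
    rw [← hi, hφ] at h3
    rw [map_pow, pow_succ, h3, ← map_mul, inv_mul_cancel, map_one]

/-- The converse: an inverting automorphism. -/
theorem exists_inverting {K : Type*} [Field K] [Algebra F K] [FiniteDimensional F K]
    {H : Type*} [CommGroup H] (ι : H →* K) {m : ℕ}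
    (hd : Nat.card H ∣ Fintype.card F ^ m + 1) :
    ∃ σ : K →ₐ[F] K, ∀ h, σ (ι h) = ι h⁻¹ := by
  haveI : Finite K := Module.finite_of_finite F
  set φ := FiniteField.frobeniusAlgHom F K
  have hφ : ∀ (j : ℕ) (x : K), (φ ^ j) x = x ^ (Fintype.card F ^ j) := by
    intro j
    induction j with
    | zero => intro x; simp
    | succ j ih =>
      intro x
      rw [pow_succ, AlgHom.mul_apply, ih, FiniteField.coe_frobeniusAlgHom, ← pow_mul, pow_succ']
  refine ⟨φ ^ m, fun h => ?_⟩
  rw [hφ, ← map_pow]
  congr 1
  refine eq_inv_of_mul_eq_one_left ?_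
  rw [← pow_succ]
  exact orderOf_dvd_iff_pow_eq_one.mp ((orderOf_dvd_natCard h).trans hd)

variable {H : Type*} [CommGroup H] [Finite H] {V : Type*} [AddCommGroup V] [Module F V] [FiniteDimensional F V]

/-- Self-duality of a faithful irreducible module of an abelian group. -/
theorem self_dual_iff (ρ : Representation F H V) (hfaith : Function.Injective ρ)
    (hirr : ∀ U : Submodule F V, (∀ h : H, ∀ u ∈ U, ρ h u ∈ U) → U = ⊥ ∨ U = ⊤)
    (hpos : 0 < Module.finrank F V) :
    ((∃ B : LinearMap.BilinForm F V, B.Nondegenerate ∧ ∀ h : H, ∀ x y : V, B (ρ h x) (ρ h y) = B x y) →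
      (Module.finrank F V = 1 ∧ Nat.card H ≤ 2) ∨
        (Even (Module.finrank F V) ∧ Nat.card H ∣ Fintype.card F ^ (Module.finrank F V / 2) + 1)) ∧
    (Even (Module.finrank F V) → Nat.card H ∣ Fintype.card F ^ (Module.finrank F V / 2) + 1 →
      ∃ B : LinearMap.BilinForm F V, B.Nondegenerate ∧ ∀ h : H, ∀ x y : V, B (ρ h x) (ρ h y) = B x y) := by
  classical
  haveI : Nontrivial V := Module.nontrivial_of_finrank_pos hpos
  haveI : Finite F := inferInstance
  haveI : Finite V := Module.finite_of_finite F
  have hρc : ∀ a ∈ Set.range (ρ : H → Module.End F V), ∀ b ∈ Set.range (ρ : H → Module.End F V),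
      a * b = b * a := by
    rintro _ ⟨a, rfl⟩ _ ⟨b, rfl⟩
    rw [← map_mul, ← map_mul, mul_comm]
  set K := Algebra.adjoin F (Set.range (ρ : H → Module.End F V)) with hK
  letI : CommRing K := Algebra.adjoinCommRingOfComm F hρc
  have hmem : ∀ h, ρ h ∈ K := fun h => Algebra.subset_adjoin ⟨h, rfl⟩
  have hcomm : ∀ (k : K) (h : H) (x : V), ρ h ((k : Module.End F V) x) = (k : Module.End F V) (ρ h x) := by
    intro k h x
    have := congrArg Subtype.val (mul_comm (⟨ρ h, hmem h⟩ : K) k)
    exact LinearMap.congr_fun this x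
  have hinj : ∀ k : K, k ≠ 0 → Function.Injective (k : Module.End F V) := by
    intro k hk
    rcases hirr (LinearMap.ker (k : Module.End F V)) (fun h u hu => by
      rw [LinearMap.mem_ker] at hu ⊢
      rw [← hcomm, hu, map_zero]) with e | e
    · exact LinearMap.ker_eq_bot.mp e
    · exact absurd (Subtype.ext (LinearMap.ker_eq_top.mp e)) hk
  haveI : Nontrivial K := ⟨⟨0, 1, fun e => by
    obtain ⟨x, hx⟩ := exists_ne (0 : V)
    exact hx (LinearMap.congr_fun (congrArg Subtype.val e) x).symm⟩⟩
  haveI : NoZeroDivisors K := ⟨fun {a b} e => by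
    by_contra hc
    rw [not_or] at hc
    refine hc.2 (Subtype.ext (LinearMap.ext fun x => hinj a hc.1 ?_))
    show (a : Module.End F V) ((b : Module.End F V) x) = (a : Module.End F V) 0
    rw [map_zero]
    exact LinearMap.congr_fun (congrArg Subtype.val e) x⟩
  haveI : IsDomain K := NoZeroDivisors.to_isDomain K
  haveI : Finite K := Finite.of_injective (fun k : K => ((k : Module.End F V) : V → V))
    fun a b e => Subtype.ext (DFunLike.coe_injective e)
  letI : Field K := (Finite.isDomain_to_isField K).toField
  let ι : H →* K :=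
    { toFun := fun h => ⟨ρ h, hmem h⟩
      map_one' := Subtype.ext (map_one ρ)
      map_mul' := fun a b => Subtype.ext (map_mul ρ a b) }
  have hι : Function.Injective ι := fun a b e => hfaith (congrArg Subtype.val e)
  have hgen : Algebra.adjoin F (Set.range ι) = ⊤ := by
    apply Subalgebra.map_injective (f := K.val) Subtype.val_injective
    rw [AlgHom.map_adjoin, Algebra.map_top, Subalgebra.range_val, ← Set.range_comp]
    rfl
  -- `V` is a line over `K`
  obtain ⟨v, hv⟩ := exists_ne (0 : V)
  let ev : K →ₗ[F] V :=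
    { toFun := fun k => (k : Module.End F V) v
      map_add' := fun a b => rfl
      map_smul' := fun c a => rfl }
  have hev : Function.Bijective ev := by
    refine ⟨fun a b e => ?_, ?_⟩
    · by_contra hne
      refine hv (hinj (a - b) (sub_ne_zero.mpr hne) ?_)
      show (a : Module.End F V) v - (b : Module.End F V) v = _
      rw [map_zero]
      exact sub_eq_zero.mpr e
    · rw [← LinearMap.range_eq_top]
      rcases hirr (LinearMap.range ev) (fun h u hu => by
        obtain ⟨k, rfl⟩ := hu
        exact ⟨ι h * k, rfl⟩) with e | e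
      · exfalso
        have h1 : ev 1 ∈ LinearMap.range ev := ⟨1, rfl⟩
        rw [e, Submodule.mem_bot] at h1
        exact hv h1
      · exact e
  let E : K ≃ₗ[F] V := LinearEquiv.ofBijective ev hev
  have hE : ∀ (h : H) (x : V), E.symm (ρ h x) = ι h * E.symm x := by
    intro h x
    apply E.injective
    rw [E.apply_symm_apply]
    conv_lhs => rw [← E.apply_symm_apply x]
    rfl
  have hdim : Module.finrank F V = Module.finrank F K := (E.finrank_eq).symm
  haveI : FiniteDimensional F K := E.symm.finiteDimensional
  rw [hdim]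
  constructor
  · rintro ⟨B, hB, hinv⟩
    have hadj : ∀ k : K, ∃ k' : K, ∀ x y, B ((k : Module.End F V) x) y = B x ((k' : Module.End F V) y) := by
      rintro ⟨k, hk⟩
      refine Algebra.adjoin_induction (p := fun k _ => ∃ k' : K, ∀ x y, B (k x) y = B x ((k' : Module.End F V) y))
        ?_ ?_ ?_ ?_ hk
      · rintro _ ⟨h, rfl⟩
        refine ⟨ι h⁻¹, fun x y => ?_⟩
        show B (ρ h x) y = B x (ρ h⁻¹ y)
        rw [← hinv h x (ρ h⁻¹ y), ← Module.End.mul_apply, ← map_mul, mul_inv_cancel, map_one, Module.End.one_apply]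
      · intro c
        refine ⟨algebraMap F K c, fun x y => ?_⟩
        show B (c • x) y = B x (c • y)
        rw [map_smul, map_smul, LinearMap.smul_apply]
      · rintro a b - - ⟨a', ha⟩ ⟨b', hb⟩
        exact ⟨a' + b', fun x y => by
          rw [LinearMap.add_apply, map_add, LinearMap.add_apply, ha, hb]
          show _ = B x ((a' : Module.End F V) y + (b' : Module.End F V) y)
          rw [map_add]⟩
      · rintro a b - - ⟨a', ha⟩ ⟨b', hb⟩
        exact ⟨b' * a', fun x y => by rw [Module.End.mul_apply, ha, hb]; rfl⟩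
    choose σ hσ using hadj
    have huniq : ∀ (k k' : K), (∀ x y, B ((k : Module.End F V) x) y = B x ((k' : Module.End F V) y)) → σ k = k' := by
      intro k k' h
      refine Subtype.ext (LinearMap.ext fun y => ?_)
      rw [← sub_eq_zero]
      refine hB.2 _ fun x => ?_
      rw [map_sub, ← hσ, ← h, sub_self]
    let σ' : K →ₐ[F] K :=
      { toFun := σ
        map_one' := huniq _ _ fun x y => rfl
        map_mul' := fun a b => huniq _ _ fun x y => by
          rw [mul_comm a b]
          show B ((b : Module.End F V) ((a : Module.End F V) x)) y = B x ((σ a : Module.End F V) ((σ b : Module.End F V) y))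
          rw [hσ, hσ]
        map_zero' := huniq _ _ fun x y => by
          show B (0 : V) y = B x (0 : V)
          simp
        map_add' := fun a b => huniq _ _ fun x y => by
          show B ((a : Module.End F V) x + (b : Module.End F V) x) y =
            B x ((σ a : Module.End F V) y + (σ b : Module.End F V) y)
          rw [map_add, map_add, LinearMap.add_apply, hσ, hσ]
        commutes' := fun c => huniq _ _ fun x y => by
          show B (c • x) y = B x (c • y)
          rw [map_smul, map_smul, LinearMap.smul_apply] }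
    refine inverting_cases ι hι hgen σ' fun h => ?_
    refine huniq _ _ fun x y => ?_
    show B (ρ h x) y = B x (ρ h⁻¹ y)
    rw [← hinv h x (ρ h⁻¹ y), ← Module.End.mul_apply, ← map_mul, mul_inv_cancel, map_one, Module.End.one_apply]
  · intro _ hd
    obtain ⟨σ, hσ⟩ := exists_inverting ι hd
    have hσb : Function.Bijective σ := Finite.injective_iff_bijective.mp σ.toRingHom.injective
    let B : LinearMap.BilinForm F V :=
      LinearMap.compl₁₂ (Algebra.traceForm F K) E.symm.toLinearMap (σ.toLinearMap.comp E.symm.toLinearMap)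
    have hBapply : ∀ x y, B x y = Algebra.trace F K (E.symm x * σ (E.symm y)) := fun x y => rfl
    refine ⟨B, ?_, fun h x y => ?_⟩
    · have hT := traceForm_nondegenerate F K
      refine ⟨fun x hx => ?_, fun y hy => ?_⟩
      · refine E.symm.map_eq_zero_iff.mp (hT.1 _ fun z => ?_)
        obtain ⟨w, rfl⟩ := hσb.2 z
        simpa [hBapply] using hx (E w)
      · refine E.symm.map_eq_zero_iff.mp ((map_eq_zero_iff σ hσb.1).mp (hT.2 _ fun z => ?_))
        simpa [hBapply] using hy (E z)
    · rw [hBapply, hBapply, hE, hE, map_mul σ, hσ]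
      congr 1
      rw [mul_mul_mul_comm, ← map_mul, mul_inv_cancel, map_one, one_mul]

end CfsgLib.AbelianSelfDual
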