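import Mathlib
import Cfsg.Agent.S4040
import Cfsg.Agent.Lib.Frobenius.More
import Cfsg.Agent.Lib.CyclicSylowAbelian.Basic

/-!
Groups in which the centralisers of non-central elements are maximal subgroups.
-/

set_option autoImplicit false

namespace CfsgLib.CentMax

open Subgroup CfsgLib CfsgLib.Frob Cfsg
open scoped Pointwise

universe u
variable {G : Type u} [Group G]

/-- The hypothesis. -/
def Hyp (G : Type u) [Group G] : Prop :=
  ∀ x : G, x ∉ center G → IsCoatom (centralizer ({x} : Set G))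

/-- The second alternative. -/
def Alt (G : Type u) [Group G] : Prop :=
  ¬ IsMulCommutative (G ⧸ center G) ∧ (∀ H : Subgroup (G ⧸ center G), H ≠ ⊤ → IsMulCommutative ↥H) ∧
    ∃ p q a : ℕ, p.Prime ∧ q.Prime ∧ p ≠ q ∧ Nat.card (G ⧸ center G) = p ^ a * q ∧
      ∀ P : Subgroup (G ⧸ center G), Nat.card ↥P = p ^ a → P.Normal

theorem mem_cz {x y : G} : y ∈ centralizer ({x} : Set G) ↔ y * x = x * y := mem_centralizer_singleton_iff

theorem cz_le_of_mem_zpowers {x u : G} (h : u ∈ zpowers x) :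
    centralizer ({x} : Set G) ≤ centralizer {u} := by
  intro t ht
  obtain ⟨i, rfl⟩ := h
  exact mem_cz.mpr ((show Commute t x from mem_cz.mp ht).zpow_right i).eq

theorem self_mem_cz (x : G) : x ∈ centralizer ({x} : Set G) := mem_cz.mpr rfl

theorem center_le_cz (x : G) : center G ≤ centralizer ({x} : Set G) := center_le_centralizer _

theorem cz_eq_of_le (h : Hyp G) {u v : G} (hu : u ∉ center G) (hv : v ∉ center G)
    (hle : centralizer ({u} : Set G) ≤ centralizer {v}) : centralizer ({u} : Set G) = centralizer {v} := by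
  rcases (h u hu).le_iff.mp hle with e | e
  · exact absurd e (h v hv).1
  · exact e.symm

theorem cz_eq_of_zpowers (h : Hyp G) {x u : G} (hu : u ∉ center G) (hux : u ∈ zpowers x) :
    centralizer ({x} : Set G) = centralizer {u} := by
  refine cz_eq_of_le h (fun hx => hu ?_) hu (cz_le_of_mem_zpowers hux)
  exact (zpowers_le.mpr hx) hux

variable [Finite G]

theorem cz_eq_of_coprime (h : Hyp G) {u v : G} (hu : u ∉ center G) (hv : v ∉ center G) (hc : Commute u v)
    (hco : (orderOf u).Coprime (orderOf v)) : centralizer ({u} : Set G) = centralizer {v} := by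
  have key : ∀ a b : G, Commute a b → (orderOf a).Coprime (orderOf b) → a ∈ zpowers (a * b) := by
    intro a b hab habc
    obtain ⟨m, hm⟩ := exists_pow_eq_self_of_coprime habc.symm
    refine ⟨((orderOf b * m : ℕ) : ℤ), ?_⟩
    show (a * b) ^ ((orderOf b * m : ℕ) : ℤ) = a
    rw [zpow_natCast, pow_mul, hab.mul_pow, pow_orderOf_eq_one, mul_one, hm]
  rw [← cz_eq_of_zpowers h hu (key u v hc hco)]
  exact cz_eq_of_zpowers h hv (hc.eq ▸ key v u hc.symm hco.symm)

/-- A primary non-central element in `⟨x⟩`. -/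
theorem exists_primary {x : G} (hx : x ∉ center G) :
    ∃ p : ℕ, p.Prime ∧ ∃ u ∈ zpowers x, (∃ k : ℕ, u ^ p ^ k = 1) ∧ u ∉ center G := by
  induction hn : orderOf x using Nat.strong_induction_on generalizing x with
  | h n ih =>
    subst hn
    have hx1 : x ≠ 1 := fun e => hx (e ▸ one_mem _)
    obtain ⟨p, hp, hpd⟩ := Nat.exists_prime_and_dvd (n := orderOf x) (mt orderOf_eq_one_iff.mp hx1)
    haveI := Fact.mk hp
    obtain ⟨a, b, hab, ha, hb, hak, hbo⟩ := CycSyl.split (p := p) x
    by_cases haz : a ∈ center G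
    · have hbz : b ∉ center G := fun hbz => hx (hab ▸ mul_mem haz hbz)
      have hdvd : orderOf b ∣ orderOf x := orderOf_dvd_of_mem_zpowers hb
      have hlt : orderOf b < orderOf x := lt_of_le_of_ne (Nat.le_of_dvd (orderOf_pos x) hdvd) fun e =>
        hp.ne_one (Nat.eq_one_of_dvd_coprimes hbo (e ▸ hpd) dvd_rfl)
      obtain ⟨q, hq, u, hu, huk, huz⟩ := ih _ hlt hbz rfl
      exact ⟨q, hq, u, (zpowers_le.mpr hb) hu, huk, huz⟩
    · exact ⟨p, hp, a, ha, hak, haz⟩

theorem coprime_of_primary {p q : ℕ} (hp : p.Prime) (hq : q.Prime) (hpq : p ≠ q) {u v : G}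
    (hu : ∃ k : ℕ, u ^ p ^ k = 1) (hv : ∃ k : ℕ, v ^ q ^ k = 1) : (orderOf u).Coprime (orderOf v) := by
  obtain ⟨k, hk⟩ := hu
  obtain ⟨l, hl⟩ := hv
  exact (Nat.Coprime.pow k l ((Nat.coprime_primes hp hq).mpr hpq)).coprime_dvd_left
    (orderOf_dvd_of_pow_eq_one hk) |>.coprime_dvd_right (orderOf_dvd_of_pow_eq_one hl)

theorem normal_coatom {N : Subgroup G} [N.Normal] (hN : IsCoatom N) :
    N.index.Prime ∧ ∀ a b : G, a * b * a⁻¹ * b⁻¹ ∈ N := by
  have hgen : ∀ a : G, a ∉ N → ∀ y : G, (y : G ⧸ N) ∈ zpowers (a : G ⧸ N) := by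
    intro a ha y
    have h1 : (zpowers (a : G ⧸ N)).comap (QuotientGroup.mk' N) = ⊤ := by
      refine hN.2 _ (lt_of_le_of_ne (fun z hz => ?_) fun e => ha ?_)
      · show (z : G ⧸ N) ∈ zpowers (a : G ⧸ N)
        rw [(QuotientGroup.eq_one_iff z).mpr hz]; exact one_mem _
      · exact e.symm ▸ (mem_zpowers (a : G ⧸ N))
    exact (h1.symm ▸ mem_top y : y ∈ (zpowers (a : G ⧸ N)).comap (QuotientGroup.mk' N))
  obtain ⟨a, -, ha⟩ := SetLike.exists_of_lt hN.lt_top
  constructor
  · obtain ⟨r, hr, hrd⟩ := Nat.exists_prime_and_dvd (n := N.index) (mt index_eq_one.mp hN.1)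
    haveI := Fact.mk hr
    obtain ⟨y, hy⟩ := exists_prime_orderOf_dvd_card' (G := G ⧸ N) r (index_eq_card N ▸ hrd)
    obtain ⟨b, rfl⟩ := QuotientGroup.mk_surjective y
    have hb : b ∉ N := fun hb => hr.ne_one (by
      rw [← hy, (QuotientGroup.eq_one_iff b).mpr hb, orderOf_one])
    have h1 : zpowers (b : G ⧸ N) = ⊤ := eq_top_iff.mpr fun z _ => by
      obtain ⟨c, rfl⟩ := QuotientGroup.mk_surjective z
      exact hgen b hb c
    rw [index_eq_card, ← Subgroup.card_top (G := G ⧸ N), ← h1, Nat.card_zpowers, hy]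
    exact hr
  · intro x y
    rw [← QuotientGroup.eq_one_iff]
    obtain ⟨i, hi⟩ := hgen a ha x
    obtain ⟨j, hj⟩ := hgen a ha y
    simp only [QuotientGroup.mk_mul, QuotientGroup.mk_inv, ← hi, ← hj]
    rw [((Commute.refl (a : G ⧸ N)).zpow_zpow i j).eq, mul_inv_cancel_right, mul_inv_cancel]

/-- All centralisers normal. -/
theorem all_normal (hna : ¬ IsMulCommutative G) (h : Hyp G)
    (hn : ∀ x : G, x ∉ center G → (centralizer ({x} : Set G)).Normal) :
    ∃ p : ℕ, p.Prime ∧ IsElementaryAbelian p (⊤ : Subgroup (G ⧸ center G)) := by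
  have hcen : ∀ a b : G, a * b * a⁻¹ * b⁻¹ ∈ center G := by
    intro a b
    rw [mem_center_iff]
    intro x
    by_cases hx : x ∈ center G
    · exact (mem_center_iff.mp hx _).symm
    · haveI := hn x hx
      exact (mem_cz.mp ((normal_coatom (h x hx)).2 a b)).symm
  have hpow : ∀ x : G, x ∉ center G → ∃ r : ℕ, r.Prime ∧ x ^ r ∈ center G := by
    intro x hx
    haveI := hn x hx
    obtain ⟨hr, -⟩ := normal_coatom (h x hx)
    refine ⟨_, hr, mem_center_iff.mpr fun y => ?_⟩
    set r := (centralizer ({x} : Set G)).index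
    set c := y * x * y⁻¹ * x⁻¹ with hc
    have hcc : ∀ z : G, Commute z c := fun z => mem_center_iff.mp (hcen y x) z
    have h1 : y ^ r ∈ centralizer ({x} : Set G) := by
      rw [← QuotientGroup.eq_one_iff, QuotientGroup.mk_pow]
      exact orderOf_dvd_iff_pow_eq_one.mp ((_root_.orderOf_dvd_natCard _).trans (index_eq_card _).symm.dvd)
    have e0 : y * x * y⁻¹ = c * x := by rw [hc]; group
    have e1 : ∀ n : ℕ, y * x ^ n * y⁻¹ = c ^ n * x ^ n := fun n => by
      rw [← conj_pow, e0, (hcc x).symm.mul_pow]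
    have e2 : ∀ n : ℕ, y ^ n * x * (y ^ n)⁻¹ = c ^ n * x := by
      intro n
      induction n with
      | zero => simp
      | succ n ih =>
        calc y ^ (n + 1) * x * (y ^ (n + 1))⁻¹ = y ^ n * (y * x * y⁻¹) * (y ^ n)⁻¹ := by
              rw [pow_succ]; group
          _ = c * (y ^ n * x * (y ^ n)⁻¹) := by
              rw [e0, ← mul_assoc, (hcc (y ^ n)).eq]; group
          _ = c ^ (n + 1) * x := by rw [ih, ← mul_assoc, ← pow_succ']
    have h2 : c ^ r = 1 := by
      have h4 := e2 r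
      rw [mem_cz.mp h1, mul_inv_cancel_right] at h4
      exact right_eq_mul.mp h4
    have h3 := e1 r
    rw [h2, one_mul, mul_inv_eq_iff_eq_mul] at h3
    exact h3
  obtain ⟨x₀, hx₀⟩ : ∃ x : G, x ∉ center G := by
    by_contra hall
    push Not at hall
    exact hna ⟨⟨fun a b => (mem_center_iff.mp (hall b) a)⟩⟩
  obtain ⟨p, hp, hpx⟩ := hpow x₀ hx₀
  have hord : ∀ (x : G) (r : ℕ), r.Prime → x ∉ center G → x ^ r ∈ center G → orderOf (x : G ⧸ center G) = r := by
    intro x r hr hx hxr
    haveI := Fact.mk hr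
    refine orderOf_eq_prime ?_ fun e => hx ((QuotientGroup.eq_one_iff x).mp e)
    rw [← QuotientGroup.mk_pow, QuotientGroup.eq_one_iff]; exact hxr
  have hcomm : ∀ a b : G ⧸ center G, a * b = b * a := by
    intro a b
    obtain ⟨a, rfl⟩ := QuotientGroup.mk_surjective a
    obtain ⟨b, rfl⟩ := QuotientGroup.mk_surjective b
    have h1 := (QuotientGroup.eq_one_iff _).mpr (hcen a b)
    simp only [QuotientGroup.mk_mul, QuotientGroup.mk_inv, mul_inv_eq_iff_eq_mul, one_mul] at h1
    exact h1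
  refine ⟨p, hp, ⟨⟨fun a b => Subtype.ext (hcomm a b)⟩⟩, fun a _ => ?_⟩
  obtain ⟨y, rfl⟩ := QuotientGroup.mk_surjective a
  by_cases hy : y ∈ center G
  · rw [(QuotientGroup.eq_one_iff y).mpr hy, one_pow]
  obtain ⟨r, hr, hyr⟩ := hpow y hy
  suffices r = p by subst this; rw [← QuotientGroup.mk_pow, QuotientGroup.eq_one_iff]; exact hyr
  by_contra hne
  have e1 := hord x₀ p hp hx₀ hpx
  have e2 := hord y r hr hy hyr
  have e3 : orderOf ((x₀ * y : G) : G ⧸ center G) = p * r := by
    rw [QuotientGroup.mk_mul, Commute.orderOf_mul_eq_mul_orderOf_of_coprime (hcomm _ _)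
      (by rw [e1, e2]; exact (Nat.coprime_primes hp hr).mpr (Ne.symm hne)), e1, e2]
  have hxy : x₀ * y ∉ center G := fun hc => by
    rw [(QuotientGroup.eq_one_iff _).mpr hc, orderOf_one] at e3
    exact hp.ne_one (Nat.eq_one_of_mul_eq_one_right e3.symm)
  obtain ⟨s, hs, hxys⟩ := hpow _ hxy
  rw [hord _ s hs hxy hxys] at e3
  exact Nat.not_prime_mul hp.ne_one hr.ne_one (e3 ▸ hs)

/-- An abelian non-normal centraliser: the Frobenius alternative. -/
theorem abelian_case (h : Hyp G) {x : G} (hx : x ∉ center G) (hnn : ¬ (centralizer ({x} : Set G)).Normal)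
    (hab : ∀ a ∈ centralizer ({x} : Set G), ∀ b ∈ centralizer ({x} : Set G), a * b = b * a) : Alt G := by
  classical
  set C := centralizer ({x} : Set G) with hC
  set π := QuotientGroup.mk' (center G) with hπ
  have hπs : Function.Surjective π := QuotientGroup.mk'_surjective _
  have hmem : ∀ g : G, π g ∈ C.map π ↔ g ∈ C := fun g => by
    rw [← Subgroup.mem_comap, Subgroup.comap_map_eq, QuotientGroup.ker_mk',
      sup_eq_left.mpr (center_le_cz x)]
  have hC0 : C.map π ≠ ⊥ := fun e => hx ((QuotientGroup.eq_one_iff x).mp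
    (Subgroup.mem_bot.mp (e ▸ mem_map_of_mem π (self_mem_cz x))))
  have hCt : C.map π ≠ ⊤ := fun e => (h x hx).1 (eq_top_iff.mpr fun g _ => (hmem g).mp (e ▸ mem_top _))
  have hfr : IsFrobeniusComplement (C.map π) := by
    refine ⟨hC0, hCt, fun g hg => ?_⟩
    obtain ⟨g, rfl⟩ := hπs g
    rw [Subgroup.eq_bot_iff_forall]
    rintro u ⟨hu1, hu2⟩
    obtain ⟨u, rfl⟩ := hπs u
    change _ ∈ C.map π at hu1
    change _ ∈ MulAut.conj (π g) • C.map π at hu2
    rw [mem_conj_smul_iff, ← map_inv, ← map_mul, ← map_mul, hmem] at hu2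
    rw [hmem] at hu1
    by_contra hne
    have huz : u ∉ center G := fun hz => hne ((QuotientGroup.eq_one_iff u).mpr hz)
    have hu : C = centralizer {u} :=
      cz_eq_of_le h hx huz fun t ht => mem_cz.mpr (hab t ht u hu1)
    refine hg ((hmem g).mpr ?_)
    have hsub : ∀ c ∈ C, g * c * g⁻¹ ∈ C := by
      intro c hc
      rw [hu, mem_cz]
      calc g * c * g⁻¹ * u = g * (c * (g⁻¹ * u * g)) * g⁻¹ := by group
        _ = g * ((g⁻¹ * u * g) * c) * g⁻¹ := by rw [hab c hc _ hu2]
        _ = u * (g * c * g⁻¹) := by group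
    have hgN : g ∈ normalizer (C : Set G) := by
      refine mem_normalizer_iff.mpr fun c => ⟨hsub c, fun hc => ?_⟩
      have heq : C.map (MulAut.conj g).toMonoidHom = C :=
        eq_of_le_of_card_ge (by rintro _ ⟨d, hd, rfl⟩; exact hsub d hd)
          (card_map_of_injective (MulAut.conj g).injective).ge
      obtain ⟨d, hd, hde⟩ := heq.ge hc
      have : d = c := (MulAut.conj g).injective (show MulAut.conj g d = MulAut.conj g c from hde)
      exact this ▸ hd
    rcases (h x hx).le_iff.mp (le_normalizer : C ≤ normalizer (C : Set G)) with e | e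
    · exact absurd (normalizer_eq_top_iff.mp e) hnn
    · exact e.le hgN
  obtain ⟨K, hKk, hKn, hc, hKnil⟩ := exists_nilpotent_kernel hfr
  have hK0 : K ≠ ⊥ := kernel_ne_bot hfr hc
  have hCco : IsCoatom (C.map π) := by
    refine ⟨hCt, fun L hL => ?_⟩
    have h1 : L.comap π = ⊤ := by
      refine (h x hx).2 _ (lt_of_le_of_ne (fun c hc => hL.le (mem_map_of_mem π hc)) fun e => hL.ne ?_)
      rw [← map_comap_eq_self_of_surjective hπs L, ← e]
    rw [eq_top_iff]
    intro z _
    obtain ⟨g, rfl⟩ := hπs z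
    exact (h1.symm ▸ mem_top g : g ∈ L.comap π)
  have hmin : ∀ N : Subgroup (G ⧸ center G), N.Normal → N ≤ K → N ≠ ⊥ → N = K := by
    intro N hN hNK hN0
    refine le_antisymm hNK fun k hk => ?_
    have htop : N ⊔ C.map π = ⊤ := by
      refine hCco.2 _ (lt_of_le_of_ne le_sup_right fun e => hN0 ?_)
      rw [eq_bot_iff]
      intro n hn
      exact Subgroup.mem_bot.mpr (disjoint_def.mp hc.disjoint (hNK hn) (e.ge (mem_sup_left hn)))
    obtain ⟨n, hn, c, hc', rfl⟩ := Subgroup.mem_sup_of_normal_left.mp (htop ▸ mem_top k)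
    have hcK : c ∈ K := by simpa using K.mul_mem (K.inv_mem (hNK hn)) hk
    rw [disjoint_def.mp hc.disjoint hcK hc', mul_one]
    exact hn
  -- the kernel is elementary abelian
  obtain ⟨p, hp, hpd⟩ := Nat.exists_prime_and_dvd (n := Nat.card K) (fun e => hK0 (eq_bot_of_card_eq _ e))
  haveI := Fact.mk hp
  have hKc : ∀ a ∈ K, ∀ b ∈ K, a * b = b * a := by
    have h1 : ⁅K, K⁆ ≠ K := fun e => by
      haveI : Nontrivial K := (Subgroup.nontrivial_iff_ne_bot K).mpr hK0
      refine Group.IsSolvable.commutator_lt_top_of_nontrivial K |>.ne ?_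
      refine Subgroup.map_injective K.subtype_injective ?_
      rw [_root_.commutator_def, Subgroup.map_commutator, ← MonoidHom.range_eq_map, range_subtype, e]
    have h2 : ⁅K, K⁆ = ⊥ := by_contra fun h2 => h1 (hmin _ inferInstance (commutator_le_right K K) h2)
    intro a ha b hb
    exact Subgroup.mem_centralizer_iff.mp ((Subgroup.commutator_eq_bot_iff_le_centralizer.mp h2) hb) a ha
  set E : Subgroup (G ⧸ center G) :=
    { carrier := {k | k ∈ K ∧ k ^ p = 1}
      one_mem' := ⟨one_mem _, one_pow _⟩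
      mul_mem' := fun {a b} ha hb => ⟨mul_mem ha.1 hb.1, by
        rw [(show Commute a b from hKc a ha.1 b hb.1).mul_pow, ha.2, hb.2, one_mul]⟩
      inv_mem' := fun {a} ha => ⟨inv_mem ha.1, by rw [inv_pow, ha.2, inv_one]⟩ } with hE
  have hEK : E = K := by
    refine hmin E ⟨fun e he g => ⟨hKn.conj_mem e he.1 g, by rw [conj_pow, he.2]; group⟩⟩ (fun e he => he.1) ?_
    obtain ⟨k, hk⟩ := exists_prime_orderOf_dvd_card' (G := K) p hpd
    intro e
    have h1 : (k : G ⧸ center G) ∈ E := ⟨k.2, by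
      have := pow_orderOf_eq_one k; rw [hk] at this; exact congrArg Subtype.val this⟩
    rw [e, Subgroup.mem_bot] at h1
    rw [show k = 1 from Subtype.ext h1, orderOf_one] at hk
    exact hp.ne_one hk.symm
  have hKp : IsPGroup p K := fun k => ⟨1, Subtype.ext (by
    rw [pow_one]; exact ((hEK.symm ▸ k.2 : (k : G ⧸ center G) ∈ E)).2)⟩
  obtain ⟨a, ha⟩ := IsPGroup.iff_card.mp hKp
  -- `[G : K]` is prime
  obtain ⟨k, hk, hk1⟩ := SetLike.exists_of_lt (bot_lt_iff_ne_bot.mpr hK0)
  obtain ⟨k, rfl⟩ := hπs k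
  have hkz : k ∉ center G := fun hz => hk1 (Subgroup.mem_bot.mpr ((QuotientGroup.eq_one_iff k).mpr hz))
  have hle : centralizer ({k} : Set G) ≤ K.comap π := by
    intro t ht
    show π t ∈ K
    by_contra htK
    have htk : π t ∉ frobeniusKernel (C.map π) := fun h' => htK (hKk.symm ▸ h' : π t ∈ (K : Set _))
    obtain ⟨g, hg⟩ : ∃ g, π t ∈ MulAut.conj g • C.map π :=
      Classical.not_not.mp fun hno => htk (Or.inr (not_exists.mp hno))
    rw [mem_conj_smul_iff] at hg
    have ht1 : g⁻¹ * π t * g ≠ 1 := fun e => htK (by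
      rw [show π t = g * (g⁻¹ * π t * g) * g⁻¹ by group, e]; simp)
    have h1 : g⁻¹ * π k * g ∈ K ⊓ centralizer {g⁻¹ * π t * g} := by
      refine ⟨by simpa using hKn.conj_mem _ hk g⁻¹, mem_cz.mpr ?_⟩
      have e : π k * π t = π t * π k := by rw [← map_mul, ← map_mul, mem_cz.mp ht]
      calc g⁻¹ * π k * g * (g⁻¹ * π t * g) = g⁻¹ * (π k * π t) * g := by group
        _ = _ := by rw [e]; group
    rw [fpf_of_frob hc.disjoint hfr hg ht1, Subgroup.mem_bot] at h1
    exact hk1 (Subgroup.mem_bot.mpr (by rw [show π k = g * (g⁻¹ * π k * g) * g⁻¹ by group, h1]; group))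
  have hKt : K ≠ ⊤ := fun e => hC0 (by
    rw [eq_bot_iff]; intro c hc'
    exact Subgroup.mem_bot.mpr (disjoint_def.mp hc.disjoint (e ▸ mem_top c) hc'))
  have hKco : IsCoatom (K.comap π) := by
    rcases (h k hkz).le_iff.mp hle with e | e
    · exfalso
      refine hKt (eq_top_iff.mpr fun z _ => ?_)
      obtain ⟨g, rfl⟩ := hπs z
      exact (e.symm ▸ mem_top g : g ∈ K.comap π)
    · exact e ▸ h k hkz
  have hq : K.index.Prime := by
    rw [← index_comap_of_surjective K hπs]
    exact (normal_coatom hKco).1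
  have hCK : Nat.card (C.map π) = K.index := hc.symm.index_eq_card.symm
  have hpq : p ≠ K.index := by
    intro e
    have h1 := coprime_index hfr
    rw [hCK, hc.index_eq_card, ← e] at h1
    exact hp.ne_one (Nat.eq_one_of_dvd_coprimes h1 dvd_rfl hpd)
  refine ⟨?_, ?_, p, K.index, a, hp, hq, hpq, by rw [← ha, card_mul_index], ?_⟩
  · intro hcomm
    refine hnn ⟨fun c hc' g => ?_⟩
    rw [← hmem, map_mul, map_mul, map_inv, IsMulCommutative.is_comm.comm (π g) (π c), mul_inv_cancel_right, hmem]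
    exact hc'
  · intro H hH
    by_cases hHK : H ≤ K
    · exact ⟨⟨fun u v => Subtype.ext (hKc u (hHK u.2) v (hHK v.2))⟩⟩
    have hn' : (H ⊓ K).Normal := by
      rw [← normalizer_eq_top_iff, eq_top_iff]
      have h1 : K ≤ normalizer ((H ⊓ K : Subgroup _) : Set _) := fun u hu => mem_normalizer_iff.mpr fun v => by
        constructor
        · rintro ⟨hv1, hv2⟩
          rw [hKc u hu v hv2, mul_inv_cancel_right]; exact ⟨hv1, hv2⟩
        · rintro ⟨hv1, hv2⟩
          have hvK : v ∈ K := by simpa [mul_assoc] using K.mul_mem (K.mul_mem (K.inv_mem hu) hv2) hu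
          rw [hKc u hu v hvK, mul_inv_cancel_right] at hv1
          exact ⟨hv1, hvK⟩
      have h2 : H ≤ normalizer ((H ⊓ K : Subgroup _) : Set _) := fun u hu => mem_normalizer_iff.mpr fun v => by
        refine and_congr ⟨fun hv => H.mul_mem (H.mul_mem hu hv) (H.inv_mem hu), fun hv => ?_⟩
          ⟨fun hv => hKn.conj_mem v hv u, fun hv => ?_⟩
        · simpa [mul_assoc] using H.mul_mem (H.mul_mem (H.inv_mem hu) hv) hu
        · simpa [mul_assoc] using hKn.conj_mem _ hv u⁻¹
      refine le_trans ?_ (sup_le h2 h1)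
      rw [← comap_le_comap_of_surjective hπs, comap_top]
      refine (hKco.2 _ (lt_of_le_of_ne (comap_mono le_sup_right) fun e => hHK ?_)).ge
      exact le_sup_left.trans (comap_injective hπs e).ge
    rcases eq_or_ne (H ⊓ K) ⊥ with e | e
    · have hcard : Nat.card H ∣ K.index := by
        rw [index_eq_card]
        refine card_dvd_of_injective ((QuotientGroup.mk' K).comp H.subtype) ((injective_iff_map_eq_one _).mpr
          fun u hu => Subtype.ext (Subgroup.mem_bot.mp (e ▸ ⟨u.2, (QuotientGroup.eq_one_iff _).mp hu⟩)))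
      rcases (Nat.dvd_prime hq).mp hcard with h1 | h1
      · exact absurd (eq_bot_of_card_eq _ h1 ▸ bot_le) hHK
      · haveI := Fact.mk hq
        haveI : IsCyclic H := isCyclic_of_prime_card h1
        infer_instance
    · exfalso
      have hKH : K ≤ H := (hmin _ hn' inf_le_right e).ge.trans inf_le_left
      have h1 : H.comap π = ⊤ := hKco.2 _ (lt_of_le_of_ne (comap_mono hKH) fun e' =>
        hHK (comap_injective hπs e').ge)
      exact hH (comap_injective hπs (h1.trans (comap_top π).symm))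
  · intro P hP
    suffices P = K by subst this; exact hKn
    refine eq_of_le_of_card_ge (fun u hu => ?_) (by rw [hP, ha])
    rw [← QuotientGroup.eq_one_iff, ← orderOf_eq_one_iff]
    refine Nat.eq_one_of_dvd_coprimes (((Nat.coprime_primes hp hq).mpr hpq).pow_left a) ?_
      ((_root_.orderOf_dvd_natCard _).trans (index_eq_card K).symm.dvd)
    exact (orderOf_map_dvd (QuotientGroup.mk' K) u).trans (hP ▸ Subgroup.orderOf_dvd_natCard P hu)

/-- A non-normal centraliser. -/
theorem non_normal (h : Hyp G) (hex : ∃ x : G, x ∉ center G ∧ ¬ (centralizer ({x} : Set G)).Normal) : Alt G := by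
  by_contra halt
  set π := QuotientGroup.mk' (center G) with hπ
  have hπs : Function.Surjective π := QuotientGroup.mk'_surjective _
  -- non-normal centralisers are nilpotent of prime type
  have hnab : ∀ x : G, x ∉ center G → ¬ (centralizer ({x} : Set G)).Normal → ∀ p : ℕ, p.Prime →
      (∃ k : ℕ, x ^ p ^ k = 1) → ∀ q : ℕ, q.Prime → q ≠ p → ∀ y ∈ centralizer ({x} : Set G),
        (∃ k : ℕ, y ^ q ^ k = 1) → y ∈ center G := by
    intro x hx hnn p hp hxp q hq hqp y hy hyq
    by_contra hyz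
    have e := cz_eq_of_coprime h hx hyz (mem_cz.mp hy).symm (coprime_of_primary hp hq hqp.symm hxp hyq)
    refine halt (abelian_case h hx hnn fun a ha b hb => ?_)
    by_cases hbz : b ∈ center G
    · exact mem_center_iff.mp hbz a
    -- a primary part of `b` has the same centraliser
    obtain ⟨r, hr, u, hu, hur, huz⟩ := exists_primary hbz
    have huC : u ∈ centralizer ({x} : Set G) := (zpowers_le.mpr hb) hu
    have hu' : centralizer ({u} : Set G) = centralizer {x} := by
      by_cases hrp : r = p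
      · subst hrp
        rw [e]
        exact cz_eq_of_coprime h huz hyz (mem_cz.mp (e ▸ huC)) (coprime_of_primary hr hq hqp.symm hur hyq)
      · exact cz_eq_of_coprime h huz hx (mem_cz.mp huC) (coprime_of_primary hr hp hrp hur hxp)
    exact mem_cz.mp ((cz_eq_of_zpowers h huz hu).trans hu' ▸ ha)
  have hpgrp : ∀ x : G, x ∉ center G → ¬ (centralizer ({x} : Set G)).Normal → ∀ p : ℕ, p.Prime →
      (∃ k : ℕ, x ^ p ^ k = 1) → IsPGroup p ((centralizer ({x} : Set G)).map π) := by
    intro x hx hnn p hp hxp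
    haveI := Fact.mk hp
    rintro ⟨_, c, hc, rfl⟩
    obtain ⟨a, b, hab, ha, hb, ⟨k, hk⟩, hbo⟩ := CycSyl.split (p := p) c
    have hbz : b ∈ center G := by
      by_contra hbz
      obtain ⟨q, hq, u, hu, hur, huz⟩ := exists_primary hbz
      refine huz (hnab x hx hnn p hp hxp q hq (fun e => ?_) u ((zpowers_le.mpr ((zpowers_le.mpr hc) hb)) hu) hur)
      subst e
      obtain ⟨j, hj⟩ := hur
      have h1 : orderOf u ∣ orderOf b := orderOf_dvd_of_mem_zpowers hu
      have h2 := Nat.eq_one_of_dvd_coprimes (hbo.pow_right j) h1 (orderOf_dvd_of_pow_eq_one hj)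
      exact huz (orderOf_eq_one_iff.mp h2 ▸ one_mem _)
    refine ⟨k, Subtype.ext ?_⟩
    show π c ^ p ^ k = 1
    rw [← hab, map_mul, show π b = 1 from (QuotientGroup.eq_one_iff b).mpr hbz, mul_one, ← map_pow, hk, map_one]
  have hco : ∀ x : G, x ∉ center G → IsCoatom ((centralizer ({x} : Set G)).map π) := by
    intro x hx
    have e : ((centralizer ({x} : Set G)).map π).comap π = centralizer {x} := by
      rw [Subgroup.comap_map_eq, QuotientGroup.ker_mk', sup_eq_left.mpr (center_le_cz x)]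
    refine ⟨fun e' => (h x hx).1 (by rw [← e, e', comap_top]), fun L hL => ?_⟩
    have h1 : L.comap π = ⊤ := (h x hx).2 _ (e ▸ lt_of_le_of_ne (comap_mono hL.le) fun e' =>
      hL.ne (comap_injective hπs e'))
    exact comap_injective hπs (h1.trans (comap_top π).symm)
  -- solvable quotient from an odd type
  have hodd : ∀ x : G, x ∉ center G → ¬ (centralizer ({x} : Set G)).Normal → ∀ p : ℕ, p.Prime → p ≠ 2 →
      (∃ k : ℕ, x ^ p ^ k = 1) → Group.IsSolvable (G ⧸ center G) := by
    intro x hx hnn p hp hp2 hxp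
    haveI := Fact.mk hp
    obtain ⟨n, hn⟩ := IsPGroup.iff_card.mp (hpgrp x hx hnn p hp hxp)
    exact Cfsg.Agent.S4040.main _ (G ⧸ center G) rfl _ (hco x hx) (hpgrp x hx hnn p hp hxp).isNilpotent
      (hn ▸ (hp.odd_of_ne_two hp2).pow)
  have hpart : ∀ x : G, x ∉ center G → ¬ (centralizer ({x} : Set G)).Normal → ∃ p : ℕ, p.Prime ∧ ∃ u : G,
      u ∉ center G ∧ ¬ (centralizer ({u} : Set G)).Normal ∧ ∃ k : ℕ, u ^ p ^ k = 1 := by
    intro x hx hnn
    obtain ⟨p, hp, u, hu, hup, huz⟩ := exists_primary hx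
    exact ⟨p, hp, u, huz, cz_eq_of_zpowers h huz hu ▸ hnn, hup⟩
  obtain ⟨x₀, hx₀, hnn₀⟩ := hex
  obtain ⟨p, hp, x, hx, hnn, hxp⟩ := hpart x₀ hx₀ hnn₀
  haveI := Fact.mk hp
  have hP := hpgrp x hx hnn p hp hxp
  obtain ⟨n, hn⟩ := IsPGroup.iff_card.mp hP
  haveI hPnil := hP.isNilpotent
  have hPco := hco x hx
  have hPnn : ¬ ((centralizer ({x} : Set G)).map π).Normal := fun hn' => hnn (by
    have := hn'.comap π
    rwa [Subgroup.comap_map_eq, QuotientGroup.ker_mk', sup_eq_left.mpr (center_le_cz x)] at this)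
  -- another prime
  obtain ⟨q, hq, hqp, y, hy, hyq⟩ : ∃ q : ℕ, q.Prime ∧ q ≠ p ∧ ∃ y : G, y ∉ center G ∧ ∃ k : ℕ, y ^ q ^ k = 1 := by
    by_contra hno
    push Not at hno
    have hG : IsPGroup p (G ⧸ center G) := by
      intro z
      obtain ⟨g, rfl⟩ := hπs z
      obtain ⟨a, b, hab, ha, hb, ⟨k, hk⟩, hbo⟩ := CycSyl.split (p := p) g
      have hbz : b ∈ center G := by
        by_contra hbz
        obtain ⟨r, hr, u, hu, ⟨j, hj⟩, huz⟩ := exists_primary hbz
        by_cases hrp : r = p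
        · subst hrp
          exact huz (orderOf_eq_one_iff.mp (Nat.eq_one_of_dvd_coprimes (hbo.pow_right j)
            (orderOf_dvd_of_mem_zpowers hu) (orderOf_dvd_of_pow_eq_one hj)) ▸ one_mem _)
        · exact hno r hr hrp u huz j hj
      refine ⟨k, ?_⟩
      rw [← hab, map_mul, show π b = 1 from (QuotientGroup.eq_one_iff b).mpr hbz, mul_one, ← map_pow, hk, map_one]
    haveI := hG.isNilpotent
    exact hPnn (NormalizerCondition.normal_of_coatom _ Group.normalizerCondition_of_isNilpotent hPco)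
  by_cases hN : ∃ N : Subgroup (G ⧸ center G), N.Normal ∧ IsCoatom N
  swap
  · -- no normal maximal subgroup
    haveI : Nontrivial (G ⧸ center G) := ⟨⟨π y, 1, fun e => hy ((QuotientGroup.eq_one_iff y).mp e)⟩⟩
    have hsol : ¬ Group.IsSolvable (G ⧸ center G) := fun hs => hN (by
      obtain ⟨N, hN', hle⟩ := (eq_top_or_exists_le_coatom (commutator (G ⧸ center G))).resolve_left
        (Group.IsSolvable.commutator_lt_top_of_nontrivial _).ne
      refine ⟨N, ⟨fun a ha g => ?_⟩, hN'⟩
      have := N.mul_mem (hle (commutator_mem_commutator (mem_top g) (mem_top a))) ha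
      simpa [commutatorElement_def, mul_assoc] using this)
    have hp2 : p = 2 := by_contra fun h2 => hsol (hodd x hx hnn p hp h2 hxp)
    refine hsol (hodd y hy (fun hyn => hN ?_) q hq (hp2 ▸ hqp) hyq)
    exact ⟨_, hyn.map π hπs, hco y hy⟩
  obtain ⟨N, hNn, hNco⟩ := hN
  -- every normal maximal subgroup has index `p`
  have hidx : ∀ M : Subgroup (G ⧸ center G), M.Normal → IsCoatom M → M.index = p := by
    intro M hMn hMco
    obtain ⟨hr, -⟩ := normal_coatom hMco
    have hsup : M ⊔ (centralizer ({x} : Set G)).map π = ⊤ := hMco.2 _ (lt_of_le_of_ne le_sup_left fun e => by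
      rcases hPco.le_iff.mp (e.symm ▸ le_sup_right : _ ≤ M) with e' | e'
      · exact hMco.1 e'
      · exact hPnn (e' ▸ hMn))
    have hd : M.index ∣ p ^ n := by
      rw [← hn, ← relIndex_top_right, ← hsup, sup_comm, relIndex_sup_right]
      exact relIndex_dvd_card _ _
    exact (Nat.prime_dvd_prime_iff_eq hr hp).mp (hr.dvd_of_dvd_pow hd)
  -- centralisers of `p'`-elements
  have hnorm : ∀ v : G, v ∉ center G → ∀ r : ℕ, r.Prime → r ≠ p → (∃ k : ℕ, v ^ r ^ k = 1) →
      (centralizer ({v} : Set G)).Normal ∧ (centralizer ({v} : Set G)).index = p := by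
    intro v hv r hr hrp hvr
    haveI := Fact.mk hr
    have hvn : (centralizer ({v} : Set G)).Normal := by
      by_contra hvn
      obtain ⟨m, hm⟩ := IsPGroup.iff_card.mp (hpgrp v hv hvn r hr hvr)
      have hNp := hidx N hNn hNco
      have hne : N ≠ (centralizer ({v} : Set G)).map π := fun e => hvn (by
        have := (e ▸ hNn).comap π
        rwa [Subgroup.comap_map_eq, QuotientGroup.ker_mk', sup_eq_left.mpr (center_le_cz v)] at this)
      have hsup : N ⊔ (centralizer ({v} : Set G)).map π = ⊤ := hNco.2 _ (lt_of_le_of_ne le_sup_left fun e => by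
        rcases (hco v hv).le_iff.mp (e.symm ▸ le_sup_right : _ ≤ N) with e' | e'
        · exact hNco.1 e'
        · exact hne e')
      have hd : p ∣ r ^ m := by
        rw [← hm, ← hNp, ← relIndex_top_right, ← hsup, sup_comm, relIndex_sup_right]
        exact relIndex_dvd_card _ _
      exact hrp ((Nat.prime_dvd_prime_iff_eq hp hr).mp (hp.dvd_of_dvd_pow hd)).symm
    refine ⟨hvn, ?_⟩
    have := hidx _ (hvn.map π hπs) (hco v hv)
    rwa [index_map_eq _ hπs (by rw [QuotientGroup.ker_mk']; exact center_le_cz v)] at this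
  -- the abelian normal `p'`-subgroup
  set S : Set G := {v | ∃ r : ℕ, r.Prime ∧ r ≠ p ∧ ∃ k : ℕ, v ^ r ^ k = 1} with hS
  have hScom : ∀ u ∈ S, ∀ v ∈ S, u * v = v * u := by
    rintro u ⟨r, hr, hrp, k, hk⟩ v hv
    by_cases hvz : v ∈ center G
    · exact mem_center_iff.mp hvz u
    obtain ⟨s, hs, hsp, hvs⟩ := hv
    obtain ⟨hvn, hvi⟩ := hnorm v hvz s hs hsp hvs
    refine mem_cz.mp ?_
    haveI := hvn
    rw [← QuotientGroup.eq_one_iff, ← orderOf_eq_one_iff]
    refine Nat.eq_one_of_dvd_coprimes (((Nat.coprime_primes hr hp).mpr hrp).pow_left k)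
      (orderOf_dvd_of_pow_eq_one (by rw [← QuotientGroup.mk_pow, hk, QuotientGroup.mk_one]))
      ((_root_.orderOf_dvd_natCard _).trans ?_)
    rw [← index_eq_card, hvi]
  set Q := closure S with hQ
  haveI hQc : IsMulCommutative Q := Subgroup.isMulCommutative_closure hScom
  have hQcomm : ∀ a ∈ Q, ∀ b ∈ Q, a * b = b * a := fun a ha b hb =>
    congrArg Subtype.val (IsMulCommutative.is_comm.comm (⟨a, ha⟩ : Q) ⟨b, hb⟩)
  haveI hQn : Q.Normal := by
    refine ⟨fun a ha g => (closure_le (Q.comap (MulAut.conj g).toMonoidHom)).mpr ?_ ha⟩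
    rintro v ⟨r, hr, hrp, k, hk⟩
    exact subset_closure ⟨r, hr, hrp, k, by
      rw [MulEquiv.coe_toMonoidHom, MulAut.conj_apply, conj_pow, hk]; group⟩
  have hQord : ∀ a ∈ Q, (orderOf a).Coprime p := by
    intro a ha
    induction ha using closure_induction with
    | mem v hv =>
      obtain ⟨r, hr, hrp, k, hk⟩ := hv
      exact (((Nat.coprime_primes hr hp).mpr hrp).pow_left k).coprime_dvd_left (orderOf_dvd_of_pow_eq_one hk)
    | one => rw [orderOf_one]; exact Nat.coprime_one_left p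
    | mul a b ha hb iha ihb =>
      exact ((Nat.Coprime.mul_left iha ihb).coprime_dvd_left
        ((show Commute a b from hQcomm a ha b hb).orderOf_mul_dvd_mul_orderOf))
    | inv a _ iha => rwa [orderOf_inv]
  set C := centralizer ({x} : Set G) with hC
  have hQC : ∀ a ∈ Q, a ∈ C → a ∈ center G := by
    intro a ha haC
    obtain ⟨k, hk⟩ := hP ⟨π a, mem_map_of_mem π haC⟩
    have h1 : π a ^ p ^ k = 1 := congrArg Subtype.val hk
    exact (QuotientGroup.eq_one_iff a).mp (orderOf_eq_one_iff.mp (Nat.eq_one_of_dvd_coprimes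
      ((hQord a ha).pow_right k) (orderOf_map_dvd π a) (orderOf_dvd_of_pow_eq_one h1)))
  have hyQ : y ∈ Q := subset_closure ⟨q, hq, hqp, hyq⟩
  obtain ⟨hYn, hYi⟩ := hnorm y hy q hq hqp hyq
  set Y := centralizer ({y} : Set G) with hY
  -- `Y` centralises `Q`
  have hdec : ∀ g : G, ∃ a ∈ Q, ∃ c ∈ C, a * c = g := fun g =>
    mem_sup_of_normal_left.mp ((h x hx).2 (Q ⊔ C) (lt_of_le_of_ne le_sup_right fun e => hy
      (hQC y hyQ (e.ge (mem_sup_left hyQ)))) ▸ mem_top g)
  have hYQ : Q ≤ centralizer (Y : Set G) := by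
    haveI := hYn
    set R := Q ⊓ centralizer (Y : Set G) with hR
    have hyR : y ∈ R := ⟨hyQ, mem_centralizer_iff.mpr fun t ht => mem_cz.mp ht⟩
    have htop : R ⊔ C = ⊤ := (h x hx).2 _ (lt_of_le_of_ne le_sup_right fun e => hy
      (hQC y hyQ (e.ge (mem_sup_left hyR))))
    intro a ha
    obtain ⟨b, hb, c, hc, rfl⟩ := mem_sup_of_normal_left.mp (htop ▸ mem_top a)
    refine mul_mem hb.2 (center_le_centralizer _ (hQC c ?_ hc))
    simpa using Q.mul_mem (Q.inv_mem hb.1) ha
  have hcentC : ∀ c ∈ C, c ∈ Y → c ∈ center G := by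
    intro z hz hzY
    by_contra hzz
    -- `C(xz) = C`, so `z` is central in `C`
    have hxz : x * z ∉ center G := fun hc => by
      have hxY : x ∈ Y := by
        have h1 : x * z ∈ Y := center_le_cz y hc
        simpa using Y.mul_mem h1 (Y.inv_mem hzY)
      exact hy (hQC y hyQ (mem_cz.mpr (mem_cz.mp hxY).symm))
    have hle : centralizer ({x * z} : Set G) ≤ C := by
      intro t ht
      obtain ⟨a, ha, c, hc, rfl⟩ := hdec t
      have hza : z * a = a * z := mem_centralizer_iff.mp (hYQ ha) z hzY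
      have hxc : c * x = x * c := mem_cz.mp hc
      have hxzc : z * x = x * z := mem_cz.mp hz
      have e0 : a * c * (x * z) = x * z * (a * c) := mem_cz.mp ht
      have e1 : a * x * (c * z) = x * a * (z * c) := by
        calc a * x * (c * z) = a * (x * c) * z := by group
          _ = a * (c * x) * z := by rw [hxc]
          _ = a * c * (x * z) := by group
          _ = x * z * (a * c) := e0
          _ = x * (z * a) * c := by group
          _ = x * (a * z) * c := by rw [hza]
          _ = x * a * (z * c) := by group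
      have e2 : x⁻¹ * a * x * a⁻¹ = a * (z * c) * (c * z)⁻¹ * a⁻¹ := by
        calc x⁻¹ * a * x * a⁻¹ = x⁻¹ * (a * x * (c * z)) * (c * z)⁻¹ * a⁻¹ := by group
          _ = _ := by rw [e1]; group
      have hzcQ : z * c * (c * z)⁻¹ ∈ Q := by
        have h1 : x⁻¹ * a * x * a⁻¹ ∈ Q := Q.mul_mem (by simpa using hQn.conj_mem a ha x⁻¹) (Q.inv_mem ha)
        rw [e2] at h1
        simpa [mul_assoc] using hQn.conj_mem _ h1 a⁻¹
      have hcz : z * c * (c * z)⁻¹ ∈ center G :=
        hQC _ hzcQ (C.mul_mem (C.mul_mem hz hc) (C.inv_mem (C.mul_mem hc hz)))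
      set d := z * c * (c * z)⁻¹ with hd
      have e3 : x⁻¹ * a * x = d * a := by
        calc x⁻¹ * a * x = x⁻¹ * a * x * a⁻¹ * a := by group
          _ = a * (z * c) * (c * z)⁻¹ * a⁻¹ * a := by rw [e2]
          _ = a * d := by rw [hd]; group
          _ = d * a := mem_center_iff.mp hcz a
      have hdcop : (orderOf d).Coprime p := hQord d hzcQ
      obtain ⟨k, hk⟩ := hxp
      have hiter : ∀ m : ℕ, (x ^ m)⁻¹ * a * x ^ m = d ^ m * a := by
        intro m
        induction m with
        | zero => simp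
        | succ m ih =>
          calc (x ^ (m + 1))⁻¹ * a * x ^ (m + 1) = x⁻¹ * ((x ^ m)⁻¹ * a * x ^ m) * x := by rw [pow_succ]; group
            _ = d ^ m * (x⁻¹ * a * x) := by
                rw [ih, ← mul_assoc, show x⁻¹ * d ^ m = d ^ m * x⁻¹ from
                  mem_center_iff.mp (pow_mem hcz m) x⁻¹]
                group
            _ = d ^ (m + 1) * a := by rw [e3, ← mul_assoc, ← pow_succ]
      have h1 := hiter (p ^ k)
      rw [hk] at h1
      simp only [inv_one, one_mul, mul_one] at h1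
      have hd1 : d = 1 := orderOf_eq_one_iff.mp (Nat.eq_one_of_dvd_coprimes (hdcop.pow_right k) dvd_rfl
        (orderOf_dvd_of_pow_eq_one (right_eq_mul.mp h1)))
      rw [hd1, one_mul] at e3
      have haC : a ∈ C := mem_cz.mpr (by
        calc a * x = x * (x⁻¹ * a * x) := by group
          _ = x * a := by rw [e3])
      exact C.mul_mem haC hc
    have heq := (cz_eq_of_le h hxz hx hle).symm
    have hzZ : ∀ c ∈ C, c * z = z * c := fun c hc => by
      have h1 : c * (x * z) = x * z * c := mem_cz.mp (heq ▸ hc)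
      rw [← mul_assoc, mem_cz.mp hc, mul_assoc, mul_assoc] at h1
      exact mul_left_cancel h1
    refine hzz (mem_center_iff.mpr fun g => ?_)
    obtain ⟨a, ha, c, hc, rfl⟩ := hdec g
    rw [mul_assoc, hzZ c hc, ← mul_assoc, ← mem_centralizer_iff.mp (hYQ ha) z hzY, mul_assoc]
  -- so `C` is abelian
  haveI := hYn
  refine halt (abelian_case h hx hnn fun a ha b hb => ?_)
  have hxY : x ∉ Y := fun hxY => hy (hQC y hyQ (mem_cz.mpr (mem_cz.mp hxY).symm))
  haveI : Fact (Nat.Prime Y.index) := ⟨hYi ▸ hp⟩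
  have hgen : ∀ g : G, ∃ i : ℤ, (x ^ i)⁻¹ * g ∈ Y := fun g => by
    obtain ⟨i, hi⟩ := mem_zpowers_of_prime_card (index_eq_card Y).symm (g := (x : G ⧸ Y)) (g' := (g : G ⧸ Y))
      (fun e => hxY ((QuotientGroup.eq_one_iff x).mp e))
    exact ⟨i, QuotientGroup.eq.mp hi⟩
  obtain ⟨i, hi⟩ := hgen a
  obtain ⟨j, hj⟩ := hgen b
  have hai := hcentC _ (C.mul_mem (C.inv_mem (C.zpow_mem (self_mem_cz x) i)) ha) hi
  have hbj := hcentC _ (C.mul_mem (C.inv_mem (C.zpow_mem (self_mem_cz x) j)) hb) hj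
  calc a * b = x ^ i * ((x ^ i)⁻¹ * a) * (x ^ j * ((x ^ j)⁻¹ * b)) := by group
    _ = x ^ i * ((x ^ i)⁻¹ * a * x ^ j) * ((x ^ j)⁻¹ * b) := by group
    _ = x ^ i * (x ^ j * ((x ^ i)⁻¹ * a)) * ((x ^ j)⁻¹ * b) := by rw [← mem_center_iff.mp hai (x ^ j)]
    _ = x ^ j * x ^ i * (((x ^ i)⁻¹ * a) * ((x ^ j)⁻¹ * b)) := by
        rw [← mul_assoc (x ^ i) (x ^ j), ((Commute.refl x).zpow_zpow i j).eq]; group
    _ = x ^ j * x ^ i * (((x ^ j)⁻¹ * b) * ((x ^ i)⁻¹ * a)) := by rw [mem_center_iff.mp hbj ((x ^ i)⁻¹ * a)]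
    _ = x ^ j * (x ^ i * ((x ^ j)⁻¹ * b)) * ((x ^ i)⁻¹ * a) := by group
    _ = b * a := by rw [mem_center_iff.mp hbj (x ^ i)]; group

end CfsgLib.CentMax
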