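import Mathlib
import Cfsg.Prelude.Def_Solvable
import Cfsg.Agent.Lib.Frobenius.Kernel
import Cfsg.Agent.Lib.Frobenius.Complement
import Cfsg.Agent.Lib.CentralizerMaximal

/-!
Translations between conjugacy classes of coprime sizes, and groups whose two largest class sizes are coprime.
-/

set_option autoImplicit false

namespace CfsgLib.CopClass

open Subgroup
open scoped Pointwise

universe u
variable {G : Type u} [Group G] [Finite G]

/-- The centraliser of an element. -/
abbrev cz (g : G) : Subgroup G := centralizer ({g} : Set G)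

/-- The class size. -/
noncomputable abbrev cs (g : G) : ℕ := (centralizer ({g} : Set G)).index

/-- The conjugacy class. -/
def cls (g : G) : Set G := Set.range fun h : G => h * g * h⁻¹

omit [Finite G] in
theorem mem_cz {g h : G} : h ∈ cz g ↔ h * g = g * h := mem_centralizer_singleton_iff

omit [Finite G] in
theorem mem_cz_iff_conj {g h : G} : h ∈ cz g ↔ h * g * h⁻¹ = g := by
  rw [mem_cz, mul_inv_eq_iff_eq_mul]

theorem cs_pos (g : G) : 0 < cs g := Nat.pos_of_ne_zero index_ne_zero_of_finite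

theorem eq_of_le_of_index {H K : Subgroup G} (h : H ≤ K) (hi : H.index ≤ K.index) : H = K := by
  refine Subgroup.eq_of_le_of_card_ge h ?_
  have h1 := H.card_mul_index
  rw [← K.card_mul_index] at h1
  by_contra hlt
  have := Nat.mul_lt_mul_of_lt_of_le (not_le.mp hlt) hi (Nat.pos_of_ne_zero index_ne_zero_of_finite)
  omega

omit [Finite G] in
theorem cs_one_iff {g : G} : cs g = 1 ↔ g ∈ center G := by
  rw [cs, index_eq_one]
  refine ⟨fun h => mem_center_iff.mpr fun x => mem_cz.mp (show x ∈ centralizer ({g} : Set G) by rw [h]; exact mem_top x), fun h => ?_⟩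
  exact eq_top_iff.mpr fun x _ => mem_cz.mpr (mem_center_iff.mp h x)

theorem ncard_cls (g : G) : (cls g).ncard = cs g := by
  have hf : ∀ a b : G, a⁻¹ * b ∈ cz g → a * g * a⁻¹ = b * g * b⁻¹ := fun a b hab => by
    calc a * g * a⁻¹ = a * ((a⁻¹ * b) * g * (a⁻¹ * b)⁻¹) * a⁻¹ := by rw [mem_cz_iff_conj.mp hab]
      _ = _ := by group
  let f : G ⧸ cz g → cls g := fun q => Quotient.liftOn' q (fun a => ⟨a * g * a⁻¹, a, rfl⟩) fun a b hab =>
    Subtype.ext (hf a b (QuotientGroup.leftRel_apply.mp hab))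
  have hb : Function.Bijective f := by
    refine ⟨?_, fun ⟨_, a, ha⟩ => ⟨(a : G ⧸ cz g), Subtype.ext ha⟩⟩
    intro q r
    induction q using Quotient.inductionOn'
    induction r using Quotient.inductionOn'
    rename_i a b
    intro h
    have h' : a * g * a⁻¹ = b * g * b⁻¹ := congrArg Subtype.val h
    refine Quotient.sound' (QuotientGroup.leftRel_apply.mpr (mem_cz_iff_conj.mpr ?_))
    calc (a⁻¹ * b) * g * (a⁻¹ * b)⁻¹ = a⁻¹ * (b * g * b⁻¹) * a := by group
      _ = g := by rw [← h']; group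
  rw [← Nat.card_coe_set_eq, ← Nat.card_congr (Equiv.ofBijective f hb), ← Subgroup.index_eq_card]

/-- Coprime indices: the group is a product. -/
theorem exists_eq_mul {A B : Subgroup G} (h : A.index.Coprime B.index) (g : G) :
    ∃ a ∈ A, ∃ b ∈ B, g = b * a := by
  have h1 : (A ⊓ B).index = A.index * B.index := Nat.le_antisymm index_inf_le
    (Nat.le_of_dvd (Nat.pos_of_ne_zero index_ne_zero_of_finite)
      (h.mul_dvd_of_dvd_of_dvd (index_dvd_of_le inf_le_left) (index_dvd_of_le inf_le_right)))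
  have h2 : (A.subgroupOf B).index = A.index := by
    have := relIndex_mul_index (inf_le_right : A ⊓ B ≤ B)
    rw [inf_relIndex_right, h1] at this
    exact Nat.eq_of_mul_eq_mul_right (Nat.pos_of_ne_zero index_ne_zero_of_finite) this
  let f : B ⧸ A.subgroupOf B → G ⧸ A := fun q => Quotient.liftOn' q (fun b => ((b : G) : G ⧸ A))
    fun a b hab => QuotientGroup.eq.mpr (by simpa [mem_subgroupOf] using QuotientGroup.leftRel_apply.mp hab)
  have hinj : Function.Injective f := by
    intro q r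
    induction q using Quotient.inductionOn'
    induction r using Quotient.inductionOn'
    rename_i a b
    intro hab
    exact Quotient.sound' (QuotientGroup.leftRel_apply.mpr (mem_subgroupOf.mpr (by simpa using QuotientGroup.eq.mp hab)))
  obtain ⟨q, hq⟩ := (hinj.bijective_of_nat_card_le (le_of_eq h2.symm)).surjective (g : G ⧸ A)
  induction q using Quotient.inductionOn'
  rename_i b
  exact ⟨(b : G)⁻¹ * g, QuotientGroup.eq.mp hq, b, b.2, by group⟩

/-- Two classes of coprime sizes are conjugated simultaneously. -/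
theorem exists_conj_both {a b : G} (h : (cs a).Coprime (cs b)) (g k : G) :
    ∃ w : G, w * a * w⁻¹ = g * a * g⁻¹ ∧ w * b * w⁻¹ = k * b * k⁻¹ := by
  obtain ⟨c, hc, d, hd, e⟩ := exists_eq_mul h.symm (g⁻¹ * k)
  refine ⟨g * d, ?_, ?_⟩
  · calc g * d * a * (g * d)⁻¹ = g * (d * a * d⁻¹) * g⁻¹ := by group
      _ = g * a * g⁻¹ := by rw [mem_cz_iff_conj.mp hd]
  · have ek : k = g * d * c := by rw [mul_assoc, ← e]; group
    calc g * d * b * (g * d)⁻¹ = g * d * (c * b * c⁻¹) * (g * d)⁻¹ := by rw [mem_cz_iff_conj.mp hc]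
      _ = k * b * k⁻¹ := by rw [ek]; group

theorem translate_subset {a b : G} (h : (cs a).Coprime (cs b)) (g : G) :
    (fun u => (g * a * g⁻¹) * u) '' cls b ⊆ cls (a * b) := by
  rintro _ ⟨_, ⟨k, rfl⟩, rfl⟩
  obtain ⟨w, hwa, hwb⟩ := exists_conj_both h g k
  refine ⟨w, ?_⟩
  show w * (a * b) * w⁻¹ = g * a * g⁻¹ * (k * b * k⁻¹)
  rw [← hwa, ← hwb]; group

theorem cs_mul_ge {a b : G} (h : (cs a).Coprime (cs b)) : cs b ≤ cs (a * b) := by
  rw [← ncard_cls b, ← ncard_cls (a * b), ← Set.ncard_image_of_injective (cls b) (mul_right_injective (1 * a * 1⁻¹))]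
  exact Set.ncard_le_ncard (translate_subset h 1) (Set.toFinite _)

theorem cs_mul_comm (a b : G) : cs (b * a) = cs (a * b) := by
  rw [← ncard_cls, ← ncard_cls]
  congr 1
  ext x
  constructor <;> rintro ⟨h, rfl⟩
  · exact ⟨h * b, by group⟩
  · exact ⟨h * b⁻¹, by group⟩

theorem cs_mul_ge' {a b : G} (h : (cs a).Coprime (cs b)) : cs a ≤ cs (a * b) :=
  cs_mul_comm a b ▸ cs_mul_ge h.symm

omit [Finite G] in
theorem cs_mul_inf_le (a b : G) : cz a ⊓ cz b ≤ cz (a * b) := fun x ⟨hx, hx'⟩ => by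
  rw [mem_cz, ← mul_assoc, mem_cz.mp hx, mul_assoc, mem_cz.mp hx', mul_assoc]

theorem cs_mul_dvd {a b : G} (h : (cs a).Coprime (cs b)) : cs (a * b) ∣ cs a * cs b := by
  have h1 : (cz a ⊓ cz b).index = cs a * cs b := Nat.le_antisymm index_inf_le
    (Nat.le_of_dvd (Nat.pos_of_ne_zero index_ne_zero_of_finite)
      (h.mul_dvd_of_dvd_of_dvd (index_dvd_of_le inf_le_left) (index_dvd_of_le inf_le_right)))
  exact h1 ▸ index_dvd_of_le (cs_mul_inf_le a b)

/-- The subgroup of translations attached to `a`. -/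
def kk (a : G) : Subgroup G := closure (Set.range fun g : G => a⁻¹ * (g * a * g⁻¹))

omit [Finite G] in
theorem gen_mem_kk (a g : G) : a⁻¹ * (g * a * g⁻¹) ∈ kk a := subset_closure ⟨g, rfl⟩

omit [Finite G] in
theorem kk_normal (a : G) : (kk a).Normal := ⟨fun x hx h => by
  induction hx using closure_induction with
  | mem y hy =>
    obtain ⟨g, rfl⟩ := hy
    show h * (a⁻¹ * (g * a * g⁻¹)) * h⁻¹ ∈ kk a
    have e : h * (a⁻¹ * (g * a * g⁻¹)) * h⁻¹
        = (a⁻¹ * (h * a * h⁻¹))⁻¹ * (a⁻¹ * ((h * g) * a * (h * g)⁻¹)) := by group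
    rw [e]; exact mul_mem (inv_mem (gen_mem_kk a h)) (gen_mem_kk a _)
  | one => simp
  | mul p q _ _ hp hq =>
    have e : h * (p * q) * h⁻¹ = (h * p * h⁻¹) * (h * q * h⁻¹) := by group
    rw [e]; exact mul_mem hp hq
  | inv p _ hp =>
    have e : h * p⁻¹ * h⁻¹ = (h * p * h⁻¹)⁻¹ := by group
    rw [e]; exact inv_mem hp⟩

/-- If `a` translates the class of `b`, then `kk a` acts freely on it. -/
theorem kk_translate {a b : G} (h : (cs a).Coprime (cs b)) (he : cs (a * b) = cs b) :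
    (∀ k ∈ kk a, ∀ u ∈ cls b, k * u ∈ cls b) ∧ Nat.card (kk a) ∣ cs b := by
  have himg : ∀ g : G, (fun u => (g * a * g⁻¹) * u) '' cls b = cls (a * b) := fun g =>
    Set.eq_of_subset_of_ncard_le (translate_subset h g) (by
      rw [Set.ncard_image_of_injective (cls b) (mul_right_injective (g * a * g⁻¹)), ncard_cls, ncard_cls, he])
      (Set.toFinite _)
  have hkk : ∀ k ∈ kk a, ∀ u, u ∈ cls b ↔ k * u ∈ cls b := by
    intro k hk
    induction hk using closure_induction with
    | mem y hy =>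
      obtain ⟨g, rfl⟩ := hy
      intro u
      have h1 : u ∈ cls b ↔ g * a * g⁻¹ * u ∈ cls (a * b) := by
        rw [← himg g]; exact ((mul_right_injective _).mem_set_image).symm
      have h2 : a⁻¹ * (g * a * g⁻¹) * u ∈ cls b ↔ g * a * g⁻¹ * u ∈ cls (a * b) := by
        have e : g * a * g⁻¹ * u = (fun u => 1 * a * 1⁻¹ * u) (a⁻¹ * (g * a * g⁻¹) * u) := by group
        rw [e, ← himg 1]; exact ((mul_right_injective _).mem_set_image).symm
      exact h1.trans h2.symm
    | one => intro u; rw [one_mul]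
    | mul p q _ _ hp hq => intro u; rw [hq u, hp, mul_assoc]
    | inv p _ hp => intro u; rw [hp (p⁻¹ * u), mul_inv_cancel_left]
  refine ⟨fun k hk u hu => (hkk k hk u).mp hu, ?_⟩
  classical
  letI act : MulAction (kk a) (cls b) :=
    { smul := fun k u => ⟨(k : G) * u, (hkk k k.2 u).mp u.2⟩
      one_smul := fun u => Subtype.ext (one_mul _)
      mul_smul := fun k l u => Subtype.ext (mul_assoc _ _ _) }
  have hstab : ∀ u : cls b, MulAction.stabilizer (kk a) u = ⊥ := fun u => by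
    rw [Subgroup.eq_bot_iff_forall]
    intro k hk
    have : (k : G) * u = u := congrArg Subtype.val hk
    exact Subtype.ext (mul_eq_right.mp this)
  haveI : Fintype (MulAction.orbitRel.Quotient (kk a) (cls b)) := Fintype.ofFinite _
  have e := Nat.card_congr (MulAction.selfEquivSigmaOrbitsQuotientStabilizer (kk a) (cls b))
  rw [Nat.card_sigma] at e
  simp only [hstab, ← Subgroup.index_eq_card, Subgroup.index_bot, Finset.sum_const, smul_eq_mul] at e
  rw [← ncard_cls b, ← Nat.card_coe_set_eq, e]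
  exact dvd_mul_left _ _

theorem le_cz_of_coprime {N : Subgroup G} [N.Normal] {a : G} (h : (Nat.card N).Coprime (cs a)) :
    N ≤ cz a := by
  have h1 : (cz a).relIndex N ∣ Nat.card N := relIndex_dvd_card _ _
  have h2 : (cz a).relIndex N ∣ cs a := by
    have hm : ((cz a).map (QuotientGroup.mk' N)).index * N.relIndex (cz a ⊔ N)
        = ((cz a).map (QuotientGroup.mk' N)).index * N.relIndex (cz a) := by rw [relIndex_sup_right]
    refine Dvd.intro ((cz a ⊔ N).index) ?_
    have e1 := relIndex_mul_index (le_sup_left : cz a ≤ cz a ⊔ N)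
    have e2 : (cz a).relIndex (cz a ⊔ N) = (cz a).relIndex N := by
      have p1 := relIndex_mul_relIndex (cz a ⊓ N) (cz a) (cz a ⊔ N) inf_le_left le_sup_left
      have p2 := relIndex_mul_relIndex (cz a ⊓ N) N (cz a ⊔ N) inf_le_right le_sup_right
      rw [inf_relIndex_left] at p1
      rw [inf_relIndex_right, relIndex_sup_right] at p2
      rw [← p2, mul_comm _ (N.relIndex (cz a))] at p1
      exact Nat.eq_of_mul_eq_mul_left (Nat.pos_of_ne_zero (index_ne_zero_of_finite (H := N.subgroupOf (cz a)))) p1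
    rw [← e2]; exact e1
  exact relIndex_eq_one.mp (Nat.eq_one_of_dvd_coprimes h h1 h2)

/-- The translation group of an element of coprime class size. -/
theorem kk_abelian {a : G} (h : (Nat.card (kk a)).Coprime (cs a)) :
    (∀ g : G, kk a ≤ cz (g * a * g⁻¹)) ∧ (∀ x ∈ kk a, ∀ y ∈ kk a, x * y = y * x) := by
  haveI := kk_normal a
  have h1 : ∀ g : G, ∀ k ∈ kk a, k * (g * a * g⁻¹) = g * a * g⁻¹ * k := fun g k hk => by
    have h2 := mem_cz.mp (le_cz_of_coprime h ((kk_normal a).conj_mem k hk g⁻¹))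
    rw [inv_inv] at h2
    calc k * (g * a * g⁻¹) = g * ((g⁻¹ * k * g) * a) * g⁻¹ := by group
      _ = g * (a * (g⁻¹ * k * g)) * g⁻¹ := by rw [h2]
      _ = _ := by group
  refine ⟨fun g k hk => mem_cz.mpr (h1 g k hk), fun x hx y hy => ?_⟩
  induction hy using closure_induction with
  | mem v hv =>
    obtain ⟨g, rfl⟩ := hv
    have h3 : Commute x a := by
      have := h1 1 x hx; rwa [one_mul, inv_one, mul_one] at this
    exact (h3.inv_right.mul_right (show Commute x (g * a * g⁻¹) from h1 g x hx)).eq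
  | one => rw [mul_one, one_mul]
  | mul p q _ _ hp hq => exact (Commute.mul_right (show Commute x p from hp) (show Commute x q from hq)).eq
  | inv p _ hp => exact (Commute.inv_right (show Commute x p from hp)).eq

/-- An element of coprime class size is central times a translation. -/
theorem exists_center_mul {a : G} (h : (Nat.card (kk a)).Coprime (cs a)) :
    ∃ z ∈ center G, ∃ k ∈ kk a, a = z * k := by
  classical
  obtain ⟨hc, hab⟩ := kk_abelian h
  haveI hn := kk_normal a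
  letI : CommGroup (kk a) :=
    { (inferInstance : Group (kk a)) with mul_comm := fun x y => Subtype.ext (hab x x.2 y y.2) }
  haveI : Fintype (G ⧸ cz a) := Fintype.ofFinite _
  let f : G ⧸ cz a → kk a := fun q => Quotient.liftOn' q (fun g => ⟨a⁻¹ * (g * a * g⁻¹), gen_mem_kk a g⟩)
    fun g l hgl => Subtype.ext (by
      show a⁻¹ * (g * a * g⁻¹) = a⁻¹ * (l * a * l⁻¹)
      congr 1
      calc g * a * g⁻¹ = g * ((g⁻¹ * l) * a * (g⁻¹ * l)⁻¹) * g⁻¹ := by
            rw [mem_cz_iff_conj.mp (QuotientGroup.leftRel_apply.mp hgl)]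
        _ = _ := by group)
  set P := ∏ q, f q with hP
  have hkey : ∀ l : G, (⟨l * P * l⁻¹, hn.conj_mem P P.2 l⟩ : kk a) =
      (f (l : G ⧸ cz a))⁻¹ ^ cs a * P := by
    intro l
    let ι : kk a →* kk a :=
      { toFun := fun x => ⟨l * x * l⁻¹, hn.conj_mem x x.2 l⟩
        map_one' := Subtype.ext (by simp)
        map_mul' := fun x y => Subtype.ext (by
          show l * ((x : G) * y) * l⁻¹ = (l * x * l⁻¹) * (l * y * l⁻¹); group) }
    have h2 : ∀ q : G ⧸ cz a, ι (f q) = (f (l : G ⧸ cz a))⁻¹ * f (l • q) := by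
      intro q
      induction q using Quotient.inductionOn'
      rename_i g
      refine Subtype.ext ?_
      show l * (a⁻¹ * (g * a * g⁻¹)) * l⁻¹ = (a⁻¹ * (l * a * l⁻¹))⁻¹ * (a⁻¹ * ((l * g) * a * (l * g)⁻¹))
      group
    show ι P = _
    rw [hP, map_prod, Finset.prod_congr rfl fun q _ => h2 q, Finset.prod_mul_distrib, Finset.prod_const,
      Finset.card_univ, ← Nat.card_eq_fintype_card]
    congr 1
    exact Fintype.prod_equiv (MulAction.toPerm l) _ _ fun q => rfl
  obtain ⟨j, hj⟩ := (show ∃ j : ℕ, cs a * j ≡ 1 [MOD Nat.card (kk a)] from by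
    obtain ⟨j, hj⟩ := Int.mod_coprime h.symm
    refine ⟨(j % (Nat.card (kk a) : ℤ)).toNat, ?_⟩
    rw [← Int.natCast_modEq_iff, Nat.cast_mul, Int.toNat_of_nonneg (Int.emod_nonneg _ (Int.natCast_ne_zero.mpr Nat.card_pos.ne'))]
    exact ((Int.mod_modEq j _).mul_left _).trans hj)
  refine ⟨a * (P : G) ^ j, mem_center_iff.mpr fun l => ?_, ((P : G) ^ j)⁻¹, inv_mem (pow_mem P.2 j), by group⟩
  rw [← mul_inv_eq_iff_eq_mul]
  have h3 : l * (P : G) ^ j * l⁻¹ = ((f (l : G ⧸ cz a))⁻¹ : kk a) * (P : G) ^ j := by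
    rw [← conj_pow]
    have h4 := congrArg (fun x : kk a => x ^ j) (hkey l)
    rw [mul_pow, ← pow_mul] at h4
    rw [show ∀ y : kk a, y ^ (cs a * j) = y from fun y => by
      rw [← pow_mod_natCard y (cs a * j), show cs a * j % Nat.card (kk a) = 1 % Nat.card (kk a) from hj, pow_mod_natCard, pow_one]] at h4
    exact congrArg Subtype.val h4
  calc l * (a * (P : G) ^ j) * l⁻¹ = (l * a * l⁻¹) * (l * (P : G) ^ j * l⁻¹) := by group
    _ = (l * a * l⁻¹) * ((a⁻¹ * (l * a * l⁻¹))⁻¹ * (P : G) ^ j) := by rw [h3]; rfl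
    _ = a * (P : G) ^ j := by group

/-! ### The two largest class sizes -/

omit [Finite G] in
theorem cz_conj (g a : G) {x : G} : x ∈ cz (g * a * g⁻¹) ↔ g⁻¹ * x * g ∈ cz a := by
  rw [mem_cz, mem_cz]
  constructor <;> intro h
  · calc g⁻¹ * x * g * a = g⁻¹ * (x * (g * a * g⁻¹)) * g := by group
      _ = _ := by rw [h]; group
  · calc x * (g * a * g⁻¹) = g * (g⁻¹ * x * g * a) * g⁻¹ := by group
      _ = _ := by rw [h]; group

theorem cs_conj (g a : G) : cs (g * a * g⁻¹) = cs a := by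
  rw [← ncard_cls, ← ncard_cls]
  congr 1
  ext x
  constructor <;> rintro ⟨h, rfl⟩
  · exact ⟨h * g, by group⟩
  · exact ⟨h * g⁻¹, by group⟩

omit [Finite G] in
theorem inf_cz_eq {a b : G} (hab : Commute a b) (hco : (orderOf a).Coprime (orderOf b)) :
    cz (a * b) = cz a ⊓ cz b := by
  have key : ∀ c d : G, Commute c d → (orderOf d).Coprime (orderOf c) → cz (c * d) ≤ cz c := by
    intro c d hcd hco' x hx
    obtain ⟨j, hj⟩ := exists_pow_eq_self_of_coprime hco'
    rw [← hj]
    have h1 : Commute x (c * d) := mem_cz.mp hx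
    have h2 := h1.pow_right (orderOf d)
    rw [hcd.mul_pow, pow_orderOf_eq_one, mul_one] at h2
    exact mem_cz.mpr (h2.pow_right j).eq
  exact le_antisymm (le_inf (key a b hab hco.symm) (hab.eq ▸ key b a hab.symm hco)) (cs_mul_inf_le a b)

/-- `g` is an `n`-element. -/
def Pn (n : ℕ) (g : G) : Prop := ∃ e : ℕ, g ^ n ^ e = 1

/-- `g` is an element of order coprime to `n`. -/
def Co (n : ℕ) (g : G) : Prop := (orderOf g).Coprime n

omit [Finite G] in
theorem coprime_of_pn_co {n : ℕ} {a b : G} (ha : Pn n a) (hb : Co n b) :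
    (orderOf a).Coprime (orderOf b) := by
  obtain ⟨e, he⟩ := ha
  exact (Nat.Coprime.pow_left e hb.symm).coprime_dvd_left (orderOf_dvd_of_pow_eq_one he)

omit [Finite G] in
theorem eq_one_of_pn_co {n : ℕ} {a : G} (ha : Pn n a) (hb : Co n a) : a = 1 :=
  orderOf_eq_one_iff.mp (Nat.coprime_self _ |>.mp (coprime_of_pn_co ha hb))

omit [Finite G] in
theorem pn_of_mem_zpowers {n : ℕ} {a b : G} (ha : Pn n a) (hb : b ∈ zpowers a) : Pn n b := by
  obtain ⟨e, he⟩ := ha
  obtain ⟨i, rfl⟩ := hb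
  exact ⟨e, by rw [← zpow_natCast, ← zpow_mul, mul_comm, zpow_mul, zpow_natCast, he, one_zpow]⟩

omit [Finite G] in
theorem pn_conj {n : ℕ} {a : G} (ha : Pn n a) (g : G) : Pn n (g * a * g⁻¹) := by
  obtain ⟨e, he⟩ := ha
  exact ⟨e, by rw [conj_pow, he]; group⟩

omit [Finite G] in
theorem pn_of_prime {n q e : ℕ} (hq : q ∣ n) {a : G} (ha : a ^ q ^ e = 1) : Pn n a := by
  obtain ⟨c, hc⟩ := pow_dvd_pow_of_dvd hq e
  exact ⟨e, by rw [hc, pow_mul, ha, one_pow]⟩

theorem split_pn (n : ℕ) (g : G) :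
    ∃ a b : G, a * b = g ∧ a ∈ zpowers g ∧ b ∈ zpowers g ∧ Pn n a ∧ Co n b := by
  set N := orderOf g with hN
  have hN0 : 0 < N := orderOf_pos g
  set u := Nat.gcd N (n ^ N) with hu
  obtain ⟨v, hv⟩ : u ∣ N := Nat.gcd_dvd_left _ _
  have hv0 : v ≠ 0 := fun h => by rw [h, mul_zero] at hv; omega
  have hu0 : u ≠ 0 := fun h => by rw [h, zero_mul] at hv; omega
  have hvn : v.Coprime n := by
    refine Nat.coprime_of_dvd fun r hr hrv hrn => ?_
    haveI := Fact.mk hr
    obtain ⟨c, hc, hrc⟩ := (Nat.finiteMultiplicity_iff.mpr ⟨hr.ne_one, Nat.pos_of_ne_zero hu0⟩).exists_eq_pow_mul_and_not_dvd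
    set e := multiplicity r u with he
    have h1 : r ^ (e + 1) ∣ N := by
      rw [hv, hc, pow_succ, mul_assoc (r ^ e)]
      exact Nat.mul_dvd_mul_left _ (hrv.trans (dvd_mul_left v c))
    have h2 : e + 1 ≤ N := ((Nat.lt_pow_self hr.one_lt).le).trans (Nat.le_of_dvd hN0 h1)
    have h3 : r ^ (e + 1) ∣ r ^ e * c := hc ▸ Nat.dvd_gcd h1 ((pow_dvd_pow r h2).trans (pow_dvd_pow_of_dvd hrn N))
    rw [pow_succ] at h3
    exact hrc (Nat.dvd_of_mul_dvd_mul_left (pow_pos hr.pos _) h3)
  have hcop : u.Coprime v :=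
    ((Nat.Coprime.pow_right N hvn).coprime_dvd_right (Nat.gcd_dvd_right N (n ^ N))).symm
  obtain ⟨i, hi1, hi2⟩ := Nat.chineseRemainder hcop 1 0
  obtain ⟨j, hj1, hj2⟩ := Nat.chineseRemainder hcop 0 1
  refine ⟨g ^ i, g ^ j, ?_, pow_mem (mem_zpowers g) i, pow_mem (mem_zpowers g) j, ⟨N, ?_⟩, ?_⟩
  · rw [← pow_add]
    conv_rhs => rw [← pow_one g]
    refine pow_eq_pow_iff_modEq.2 ?_
    rw [← hN, hv]
    exact (Nat.modEq_and_modEq_iff_modEq_mul hcop).1
      ⟨by simpa using hi1.add hj1, by simpa using hi2.add hj2⟩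
  · obtain ⟨c, hc⟩ := Nat.modEq_zero_iff_dvd.1 hi2
    obtain ⟨d, hd⟩ := Nat.gcd_dvd_right N (n ^ N)
    rw [← hu] at hd
    rw [← pow_mul, hc, hd, show v * c * (u * d) = u * v * (c * d) by ring, ← hv, pow_mul, pow_orderOf_eq_one, one_pow]
  · refine Nat.Coprime.coprime_dvd_left ?_ hvn
    obtain ⟨c, hc⟩ := Nat.modEq_zero_iff_dvd.1 hj1
    rw [orderOf_dvd_iff_pow_eq_one, ← pow_mul, hc, show u * c * v = u * v * c by ring, ← hv, pow_mul,
      pow_orderOf_eq_one, one_pow]

/-- An element which is, modulo the centre, of coprime order to its own order, is central. -/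
theorem central_of_pn_co {n : ℕ} {t z k : G} (hz : z ∈ center G) (ht : t = z * k) (hPn : Pn n t)
    (hk : Co n k) : k ∈ center G := by
  obtain ⟨e, he⟩ := hPn
  rw [ht, (show Commute z k from (mem_center_iff.mp hz k).symm).mul_pow] at he
  have h1 : k ^ n ^ e ∈ center G := by
    rw [eq_inv_of_mul_eq_one_right he]; exact inv_mem (pow_mem hz _)
  obtain ⟨j, hj⟩ := exists_pow_eq_self_of_coprime (Nat.Coprime.pow_left e hk.symm)
  rw [← hj]; exact pow_mem h1 j

theorem co_conj {n : ℕ} {a : G} (ha : Co n a) (g : G) : Co n (g * a * g⁻¹) := by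
  unfold Co at *
  have : orderOf (g * a * g⁻¹) = orderOf a := orderOf_injective (MulAut.conj g).toMonoidHom (MulAut.conj g).injective a
  rwa [this]

theorem conj_translate_fixed {K : Subgroup G} {n : ℕ} (hK : ∀ k ∈ K, Co n k) {w : G} (hw : Pn n w)
    (ht : ∀ k ∈ K, ∀ u ∈ cls w, k * u ∈ cls w) {k : G} (hk : k ∈ K) (hkw : Commute k w) : k = 1 := by
  obtain ⟨g, hg⟩ := ht k hk w ⟨1, by group⟩
  have h1 : orderOf (g * w * g⁻¹) = orderOf w :=
    orderOf_injective (MulAut.conj g).toMonoidHom (MulAut.conj g).injective w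
  have hg' : g * w * g⁻¹ = k * w := hg
  rw [hg', hkw.orderOf_mul_eq_mul_orderOf_of_coprime (coprime_of_pn_co hw (hK k hk)).symm] at h1
  exact orderOf_eq_one_iff.mp ((Nat.mul_eq_right (orderOf_pos w).ne').mp h1)

/-- The two largest class sizes are coprime. -/
structure Hyp (x y : G) (n m : ℕ) : Prop where
  hn : 1 < n
  hnm : n < m
  cop : m.Coprime n
  le_m : ∀ z : G, cs z ≤ m
  le_n : ∀ z : G, cs z < m → cs z ≤ n
  hx : cs x = n
  hy : cs y = m

namespace Hyp

variable {x y : G} {n m : ℕ}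

theorem dichotomy (h : Hyp x y n m) (z : G) : cs z ≤ n ∨ cs z = m := by
  rcases lt_or_eq_of_le (h.le_m z) with h1 | h1
  · exact Or.inl (h.le_n z h1)
  · exact Or.inr h1

theorem eq_n (h : Hyp x y n m) {z : G} (hd : n ∣ cs z) : cs z = n := by
  rcases h.dichotomy z with h1 | h1
  · exact le_antisymm h1 (Nat.le_of_dvd (cs_pos z) hd)
  · exfalso
    rw [h1] at hd
    have := h.hn
    have := Nat.eq_one_of_dvd_coprimes h.cop hd dvd_rfl
    omega

theorem eq_m (h : Hyp x y n m) {z : G} (hd : m ∣ cs z) : cs z = m :=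
  le_antisymm (h.le_m z) (Nat.le_of_dvd (cs_pos z) hd)

theorem translate_top (h : Hyp x y n m) {a w : G} (hw : cs w = m) (ha : (cs a).Coprime m) :
    (∀ k ∈ kk a, ∀ u ∈ cls w, k * u ∈ cls w) ∧ Nat.card (kk a) ∣ m := by
  have h1 : (cs a).Coprime (cs w) := by rw [hw]; exact ha
  have h2 : cs (a * w) = cs w := le_antisymm (hw ▸ h.le_m _) (cs_mul_ge h1)
  obtain ⟨p, q⟩ := kk_translate h1 h2
  exact ⟨p, hw ▸ q⟩

theorem kk_top (h : Hyp x y n m) {a : G} (ha : (cs a).Coprime m) :
    (Nat.card (kk a)).Coprime (cs a) :=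
  ha.symm.coprime_dvd_left (h.translate_top h.hy ha).2

theorem co_kk (h : Hyp x y n m) {a k : G} (ha : (cs a).Coprime m) (hk : k ∈ kk a) : Co n k :=
  h.cop.coprime_dvd_left (((kk a).orderOf_dvd_natCard hk).trans (h.translate_top h.hy ha).2)

theorem cs_x_coprime (h : Hyp x y n m) : (cs x).Coprime m := h.hx ▸ h.cop.symm

theorem exists_k0 (h : Hyp x y n m) : ∃ k0 ∈ kk x, cz k0 = cz x := by
  obtain ⟨z, hz, k, hk, e⟩ := exists_center_mul (h.kk_top h.cs_x_coprime)
  refine ⟨k, hk, ?_⟩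
  ext g
  rw [mem_cz, mem_cz, e]
  have hzg := mem_center_iff.mp hz g
  constructor
  · intro h1; rw [← mul_assoc, hzg, mul_assoc, h1, mul_assoc]
  · intro h1
    refine mul_left_cancel (a := z) ?_
    rw [← mul_assoc, ← hzg, mul_assoc, h1, mul_assoc]

/-- Step A: the `n`-elements of `C(x)` are central. -/
theorem pn_central (h : Hyp x y n m) {t : G} (ht : t ∈ cz x) (hPn : Pn n t) : t ∈ center G := by
  obtain ⟨k0, hk0, hc⟩ := h.exists_k0
  have hcomm : Commute t k0 := by rw [← hc] at ht; exact mem_cz.mp ht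
  have hco := coprime_of_pn_co hPn (h.co_kk h.cs_x_coprime hk0)
  have h1 : cz (t * k0) = cz t ⊓ cz x := by rw [inf_cz_eq hcomm hco, hc]
  have h2 : cs (t * k0) = n := h.eq_n (by
    rw [← h.hx]; exact index_dvd_of_le ((le_of_eq h1).trans inf_le_right))
  have h3 : cz (t * k0) = cz x := eq_of_le_of_index ((le_of_eq h1).trans inf_le_right) (by
    change cs (t * k0) ≤ cs x; rw [h2, h.hx])
  have h4 : cs t ∣ n := by
    rw [← h.hx]; exact index_dvd_of_le ((le_of_eq h3.symm).trans ((le_of_eq h1).trans inf_le_left))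
  have h5 : (cs t).Coprime m := h.cop.symm.coprime_dvd_left h4
  obtain ⟨z, hz, k, hk, e⟩ := exists_center_mul (h.kk_top h5)
  rw [e]
  exact mul_mem hz (central_of_pn_co hz e hPn (h.co_kk h5 hk))

/-- An element whose class size is coprime to `n` has class size `1` or `m`. -/
theorem cs_eq_m (h : Hyp x y n m) {b : G} (hb : (cs b).Coprime n) (hb1 : b ∉ center G) : cs b = m := by
  have hxb : (cs x).Coprime (cs b) := by rw [h.hx]; exact hb.symm
  rcases h.dichotomy (x * b) with h1 | h1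
  · exfalso
    have h2 : cs (x * b) = cs x := le_antisymm (h.hx ▸ h1) (cs_mul_ge' hxb)
    have h2' : cs (b * x) = cs x := (cs_mul_comm x b).trans h2
    have hdvd : Nat.card (kk b) ∣ n := h.hx ▸ (kk_translate hxb.symm h2').2
    obtain ⟨z, hz, k, hk, e⟩ := exists_center_mul (hb.symm.coprime_dvd_left hdvd)
    obtain ⟨k0, hk0, hc⟩ := h.exists_k0
    have hkn : orderOf k ∣ n := ((kk b).orderOf_dvd_natCard hk).trans hdvd
    have hcomm : Commute k k0 :=
      Subgroup.commute_of_normal_of_disjoint _ _ (kk_normal b) (kk_normal x)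
        (disjoint_iff.mpr (Subgroup.inf_eq_bot_of_coprime
          ((h.cop.coprime_dvd_left (h.translate_top h.hy h.cs_x_coprime).2).symm.coprime_dvd_left hdvd))) k k0 hk hk0
    have hkC : k ∈ cz x := hc ▸ mem_cz.mpr hcomm.eq
    obtain ⟨d, hd⟩ := hkn
    have hkP : Pn n k := ⟨1, by rw [pow_one, hd, pow_mul, pow_orderOf_eq_one, one_pow]⟩
    exact hb1 (e ▸ mul_mem hz (h.pn_central hkC hkP))
  · have h2 := cs_mul_dvd hxb
    rw [h1, h.hx] at h2
    exact h.eq_m (h.cop.dvd_of_dvd_mul_left h2)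

theorem cz_eq_of_top (h : Hyp x y n m) {v w : G} (hv : cs v = m) (hle : cz v ≤ cz w)
    (hw : w ∉ center G) : cz v = cz w ∧ cs w = m := by
  have h1 : cs w ∣ m := hv ▸ index_dvd_of_le hle
  have h2 := h.cs_eq_m (h.cop.coprime_dvd_left h1) hw
  exact ⟨eq_of_le_of_index hle (le_of_eq (by change cs v = cs w; rw [hv, h2])), h2⟩

theorem exists_sylow_pn (h : Hyp x y n m) {w : G} (hw : (cs w).Coprime n) {q : ℕ} (hq : q.Prime)
    (hqn : q ∣ n) : ∃ t ∈ cz w, Pn n t ∧ t ∉ center G := by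
  haveI := Fact.mk hq
  let Q : Sylow q (cz w) := default
  by_contra hne
  push Not at hne
  have hle : (Q : Subgroup (cz w)).map (cz w).subtype ≤ center G := by
    rintro _ ⟨⟨t, ht⟩, htQ, rfl⟩
    obtain ⟨k, hk⟩ := Q.isPGroup' ⟨_, htQ⟩
    have hk' : t ^ q ^ k = 1 := congrArg (fun s : (Q : Subgroup (cz w)) => ((s : cz w) : G)) hk
    exact hne t ht (pn_of_prime hqn hk')
  have h1 : ((Q : Subgroup (cz w)).map (cz w).subtype).index = (Q : Subgroup (cz w)).index * cs w :=
    Subgroup.index_map_subtype _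
  have h2 : q ∣ ((Q : Subgroup (cz w)).map (cz w).subtype).index := by
    refine hqn.trans (((dvd_of_eq h.hx.symm).trans (index_dvd_of_le (center_le_centralizer ({x} : Set G)))).trans (index_dvd_of_le hle))
  rw [h1] at h2
  rcases (Nat.Prime.dvd_mul hq).mp h2 with h3 | h3
  · exact Q.not_dvd_index h3
  · exact hq.ne_one (Nat.eq_one_of_dvd_coprimes hw h3 hqn)

/-- Step B: the centraliser of `y` is the centraliser of an `n`-element. -/
theorem exists_y0 (h : Hyp x y n m) : ∃ y0 : G, Pn n y0 ∧ cz y0 = cz y := by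
  obtain ⟨a, b, hab, ha, hb, hPn, hCo⟩ := split_pn n y
  have hcy : Commute a b := by
    obtain ⟨i, rfl⟩ := ha; obtain ⟨j, rfl⟩ := hb; exact Commute.zpow_zpow_self y i j
  have hinf := inf_cz_eq hcy (coprime_of_pn_co hPn hCo)
  rw [hab] at hinf
  by_cases haz : a ∈ center G
  · have htop : cz a = ⊤ := eq_top_iff.mpr fun g _ => mem_cz.mpr (mem_center_iff.mp haz g)
    rw [htop, top_inf_eq] at hinf
    obtain ⟨q, hq, hqn⟩ := Nat.exists_prime_and_dvd (show n ≠ 1 by have := h.hn; omega)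
    obtain ⟨t, ht, htP, htz⟩ := h.exists_sylow_pn (w := y) (h.hy ▸ h.cop) hq hqn
    have htb : Commute t b := mem_cz.mp (hinf ▸ ht)
    have h1 := inf_cz_eq htb (coprime_of_pn_co htP hCo)
    have h2 : cs (t * b) = m := h.eq_m (h.hy ▸ index_dvd_of_le (show cz (t * b) ≤ cz y by
      rw [h1, hinf]; exact inf_le_right))
    have h3 : cz (t * b) = cz y := eq_of_le_of_index (by rw [h1, hinf]; exact inf_le_right) (by
      change cs (t * b) ≤ cs y; rw [h2, h.hy])
    exact ⟨t, htP, ((h.cz_eq_of_top h.hy ((le_of_eq h3.symm).trans ((le_of_eq h1).trans inf_le_left)) htz).1).symm⟩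
  · exact ⟨a, hPn, ((h.cz_eq_of_top h.hy ((le_of_eq hinf).trans inf_le_left) haz).1).symm⟩

theorem kk_fixed_eq_one (h : Hyp x y n m) {a w k : G} (ha : (cs a).Coprime m) (hw : cs w = m) (hwP : Pn n w)
    (hk : k ∈ kk a) (hkw : Commute k w) : k = 1 :=
  conj_translate_fixed (fun _ hl => h.co_kk ha hl) hwP (h.translate_top hw ha).1 hk hkw

/-- Step C: the `n'`-elements centralising an `n`-element of class size `m` are central. -/
theorem co_central (h : Hyp x y n m) {w t : G} (hw : cs w = m) (hwP : Pn n w) (ht : t ∈ cz w) (htC : Co n t) :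
    t ∈ center G := by
  by_contra htz
  have hcomm : Commute w t := (mem_cz.mp ht).symm
  have h1 := inf_cz_eq hcomm (coprime_of_pn_co hwP htC)
  have h2 : cz (w * t) = cz w := eq_of_le_of_index ((le_of_eq h1).trans inf_le_left) (by
    change cs (w * t) ≤ cs w; rw [hw]; exact h.le_m _)
  have hwt : cz w ≤ cz t := (le_of_eq h2.symm).trans ((le_of_eq h1).trans inf_le_right)
  obtain ⟨r, hr, u, hu, ⟨k, huk⟩, huz⟩ := CentMax.exists_primary htz
  have huo : orderOf u ∣ r ^ k := orderOf_dvd_of_pow_eq_one huk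
  have hu1 : u ≠ 1 := fun e => huz (e ▸ one_mem _)
  have hrn : ¬ r ∣ n := by
    intro hrn
    refine hu1 (eq_one_of_pn_co (pn_of_prime hrn huk) ?_)
    exact htC.coprime_dvd_left (orderOf_dvd_of_mem_zpowers hu)
  haveI := Fact.mk hr
  obtain ⟨hwu, hucs⟩ := h.cz_eq_of_top hw (hwt.trans (CentMax.cz_le_of_mem_zpowers hu)) huz
  -- move `u` into `cz x`
  have hR : IsPGroup r (zpowers u) := by
    obtain ⟨j, -, hj⟩ := (Nat.dvd_prime_pow hr).mp huo
    exact IsPGroup.of_card (by rw [Nat.card_zpowers, hj])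
  obtain ⟨T, hT⟩ := hR.exists_le_sylow
  let S : Sylow r (cz x) := default
  have hSi : ¬ r ∣ ((S : Subgroup (cz x)).map (cz x).subtype).index := by
    rw [Subgroup.index_map_subtype]
    intro hd
    rcases (Nat.Prime.dvd_mul hr).mp hd with h3 | h3
    · exact S.not_dvd_index h3
    · exact hrn (h.hx ▸ h3)
  have hS : IsPGroup r ((S : Subgroup (cz x)).map (cz x).subtype) := S.isPGroup'.map _
  obtain ⟨T', hT'⟩ := hS.exists_le_sylow
  have hT'eq : (T' : Subgroup G) = (S : Subgroup (cz x)).map (cz x).subtype := by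
    refine (Subgroup.eq_of_le_of_card_ge hT' ?_).symm
    rw [Sylow.card_eq_multiplicity]
    refine Nat.le_of_dvd Nat.card_pos ?_
    have hd := Nat.ordProj_dvd (Nat.card G) r
    rw [← ((S : Subgroup (cz x)).map (cz x).subtype).card_mul_index] at hd ⊢
    exact (Nat.Coprime.pow_left _ ((Nat.Prime.coprime_iff_not_dvd hr).mpr hSi)).dvd_of_dvd_mul_right hd
  obtain ⟨g, hg⟩ := MulAction.exists_smul_eq G T T'
  have hgu : g * u * g⁻¹ ∈ cz x := by
    have h3 : g * u * g⁻¹ ∈ (T' : Subgroup G) := by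
      rw [← hg, Sylow.coe_subgroup_smul]
      exact Subgroup.smul_mem_pointwise_smul u (MulAut.conj g) _ (hT (mem_zpowers u))
    exact map_subtype_le _ (hT'eq ▸ h3)
  set u1 := g * u * g⁻¹ with hu1def
  set w1 := g * w * g⁻¹ with hw1
  have hu1cs : cs u1 = m := by rw [hu1def, cs_conj]; exact hucs
  have hw1cs : cs w1 = m := by rw [hw1, cs_conj]; exact hw
  have hw1P : Pn n w1 := pn_conj hwP g
  obtain ⟨k0, hk0, hc⟩ := h.exists_k0
  have huc : Commute u1 k0 := by rw [← hc] at hgu; exact mem_cz.mp hgu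
  have hu1o : orderOf u1 ∣ r ^ k := orderOf_dvd_of_pow_eq_one (by rw [hu1def, conj_pow, huk]; group)
  by_cases hrK : r ∣ Nat.card (kk x)
  · haveI := kk_normal x
    letI act : MulAction (zpowers u1) (kk x) :=
      MulAction.compHom (kk x) ((MulAut.conjNormal (H := kk x)).comp (zpowers u1).subtype)
    have hP : IsPGroup r (zpowers u1) := by
      obtain ⟨j, -, hj⟩ := (Nat.dvd_prime_pow hr).mp hu1o
      exact IsPGroup.of_card (by rw [Nat.card_zpowers, hj])
    have h1mem : (1 : kk x) ∈ MulAction.fixedPoints (zpowers u1) (kk x) := fun v => by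
      show MulAut.conjNormal (v : G) (1 : kk x) = 1
      exact map_one _
    obtain ⟨b, hb, hb1⟩ := hP.exists_fixed_point_of_prime_dvd_card_of_fixed_point (kk x) hrK h1mem
    have hbfix : u1 * (b : G) * u1⁻¹ = b := congrArg Subtype.val (hb ⟨u1, mem_zpowers u1⟩)
    have hbw : (b : G) ∈ cz u1 := mem_cz.mpr (mul_inv_eq_iff_eq_mul.mp hbfix).symm
    have hbw' : (b : G) ∈ cz w1 := by
      rw [hw1, cz_conj, hwu, ← cz_conj]; exact hbw
    exact hb1 (Subtype.ext (h.kk_fixed_eq_one h.cs_x_coprime hw1cs hw1P b.2 (mem_cz.mp hbw')).symm)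
  · have hco : (orderOf u1).Coprime (orderOf k0) :=
      ((Nat.Coprime.pow_left k ((Nat.Prime.coprime_iff_not_dvd hr).mpr hrK)).coprime_dvd_left hu1o).coprime_dvd_right
        ((kk x).orderOf_dvd_natCard hk0)
    have h4 := inf_cz_eq huc hco
    have h5 : m * n ∣ cs (u1 * k0) := by
      refine h.cop.mul_dvd_of_dvd_of_dvd ?_ ?_
      · rw [← hu1cs]; exact index_dvd_of_le ((le_of_eq h4).trans inf_le_left)
      · rw [← h.hx]; exact index_dvd_of_le ((le_of_eq h4).trans (inf_le_right.trans (le_of_eq hc)))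
    have h6 := Nat.le_of_dvd (cs_pos _) h5
    have h7 := h.le_m (u1 * k0)
    have := h.hn
    have := h.hnm
    nlinarith

theorem mem_center_of_mem_both (h : Hyp x y n m) {g : G} (hx' : g ∈ cz x) (hy' : g ∈ cz y) : g ∈ center G := by
  obtain ⟨y0, hy0P, hy0⟩ := h.exists_y0
  obtain ⟨a, b, hab, ha, hb, hPn, hCo⟩ := split_pn n g
  rw [← hab]
  refine mul_mem (h.pn_central (zpowers_le.mpr hx' ha) hPn) (h.co_central ?_ hy0P ?_ hCo)
  · rw [← h.hy]; exact congrArg Subgroup.index hy0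
  · rw [hy0]; exact zpowers_le.mpr hy' hb

theorem center_index (h : Hyp x y n m) : (center G).index = n * m := by
  have e : cz x ⊓ cz y = center G :=
    le_antisymm (fun g hg => h.mem_center_of_mem_both (mem_inf.mp hg).1 (mem_inf.mp hg).2)
      (le_inf (center_le_centralizer _) (center_le_centralizer _))
  refine le_antisymm ?_ (Nat.le_of_dvd (Nat.pos_of_ne_zero index_ne_zero_of_finite) ?_)
  · rw [← e, ← h.hx, ← h.hy]; exact index_inf_le
  · refine h.cop.symm.mul_dvd_of_dvd_of_dvd ?_ ?_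
    · rw [← h.hx]; exact index_dvd_of_le (center_le_centralizer _)
    · rw [← h.hy]; exact index_dvd_of_le (center_le_centralizer _)

theorem relIndex_center_y (h : Hyp x y n m) : (center G).relIndex (cz y) = n := by
  have e := relIndex_mul_index (center_le_centralizer ({y} : Set G))
  rw [h.center_index] at e
  have hy := h.hy
  exact Nat.eq_of_mul_eq_mul_right (cs_pos y) (e.trans (by rw [← hy]))

theorem relIndex_center_x (h : Hyp x y n m) : (center G).relIndex (cz x) = m := by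
  have e := relIndex_mul_index (center_le_centralizer ({x} : Set G))
  rw [h.center_index] at e
  refine Nat.eq_of_mul_eq_mul_right (cs_pos x) (e.trans ?_)
  rw [h.hx, mul_comm]

theorem pn_part (h : Hyp x y n m) {g : G} (hg : g ∈ cz y) :
    ∃ a b : G, a * b = g ∧ a ∈ cz y ∧ Pn n a ∧ b ∈ center G := by
  obtain ⟨y0, hy0P, hy0⟩ := h.exists_y0
  obtain ⟨a, b, hab, ha, hb, hPn, hCo⟩ := split_pn n g
  refine ⟨a, b, hab, zpowers_le.mpr hg ha, hPn, h.co_central ?_ hy0P ?_ hCo⟩
  · rw [← h.hy]; exact congrArg Subgroup.index hy0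
  · rw [hy0]; exact zpowers_le.mpr hg hb

/-- The commutator with `d`, as an endomorphism of the abelian normal subgroup `kk x`. -/
theorem exists_theta (h : Hyp x y n m) (d : G) :
    ∃ θ : kk x →* kk x, ∀ k : kk x, ((θ k : kk x) : G) = k * (d * (k : G)⁻¹ * d⁻¹) := by
  obtain ⟨-, hab⟩ := kk_abelian (h.kk_top h.cs_x_coprime)
  have hn := kk_normal x
  refine ⟨⟨⟨fun k => ⟨k * (d * (k : G)⁻¹ * d⁻¹), mul_mem k.2 (hn.conj_mem _ (inv_mem k.2) d)⟩, Subtype.ext (by simp)⟩, fun k l => Subtype.ext ?_⟩, fun k => rfl⟩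
  show (k : G) * l * (d * ((k : G) * l)⁻¹ * d⁻¹) = (k * (d * (k : G)⁻¹ * d⁻¹)) * (l * (d * (l : G)⁻¹ * d⁻¹))
  have h1 := hab _ (hn.conj_mem _ (inv_mem k.2) d) _ (mul_mem l.2 (hn.conj_mem _ (inv_mem l.2) d))
  calc (k : G) * l * (d * ((k : G) * l)⁻¹ * d⁻¹)
      = k * ((l * (d * (l : G)⁻¹ * d⁻¹)) * (d * (k : G)⁻¹ * d⁻¹)) := by group
    _ = _ := by rw [← h1]; group

theorem y_ne_center (h : Hyp x y n m) : y ∉ center G := fun hy' => by
  have h1 := cs_one_iff.mpr hy'
  rw [h.hy] at h1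
  have := h.hn; have := h.hnm; omega

theorem x_ne_center (h : Hyp x y n m) : x ∉ center G := fun hx' => by
  have h1 := cs_one_iff.mpr hx'
  rw [h.hx] at h1
  have := h.hn; omega

theorem cz_inf_kk (h : Hyp x y n m) {k : G} (hk : k ∈ kk x) (hky : k ∈ cz y) : k = 1 := by
  obtain ⟨y0, hy0P, hy0⟩ := h.exists_y0
  refine h.kk_fixed_eq_one h.cs_x_coprime ?_ hy0P hk (mem_cz.mp (hy0 ▸ hky))
  rw [← h.hy]; exact congrArg Subgroup.index hy0

theorem centralize_kk_mem (h : Hyp x y n m) {g : G} (hg : g ∈ cz y) (hc : ∀ k ∈ kk x, g * k = k * g) :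
    g ∈ center G := by
  obtain ⟨k0, hk0, hc0⟩ := h.exists_k0
  exact h.mem_center_of_mem_both (hc0 ▸ mem_cz.mpr (hc k0 hk0)) hg

/-- The `n`-elements of `C(y)` outside the centre have class size `m`. -/
theorem cs_of_mem (h : Hyp x y n m) {d : G} (hd : d ∈ cz y) (hdP : Pn n d) (hdz : d ∉ center G) : cs d = m := by
  classical
  obtain ⟨k0, hk0, hc0⟩ := h.exists_k0
  obtain ⟨θ, hθ⟩ := h.exists_theta d
  obtain ⟨-, hab⟩ := kk_abelian (h.kk_top h.cs_x_coprime)
  have hkn := kk_normal x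
  have hker : ∀ k : kk x, θ k = 1 ↔ (k : G) * d = d * k := by
    intro k
    rw [Subtype.ext_iff, hθ]
    show (k : G) * (d * (k : G)⁻¹ * d⁻¹) = 1 ↔ _
    rw [← mul_assoc, ← mul_assoc, mul_inv_eq_one, mul_inv_eq_iff_eq_mul]
  have hdis : ∀ k : kk x, θ (θ k) = 1 → θ k = 1 := by
    intro k hk
    rw [hker, hθ] at hk
    set v : G := k * (d * (k : G)⁻¹ * d⁻¹) with hv
    have hvK : v ∈ kk x := mul_mem k.2 (hkn.conj_mem _ (inv_mem k.2) d)
    have h1 : d * k * d⁻¹ = k * v⁻¹ := by
      have e1 := hab _ k.2 _ (hkn.conj_mem _ k.2 d)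
      calc d * (k : G) * d⁻¹ = ((k : G) * (d * k * d⁻¹)) * (k : G)⁻¹ := by rw [e1]; group
        _ = _ := by rw [hv]; group
    have h2 : ∀ j : ℕ, d ^ j * k * (d ^ j)⁻¹ = k * (v⁻¹) ^ j := by
      intro j
      induction j with
      | zero => simp
      | succ j ih =>
        have hcv : Commute d ((v⁻¹) ^ j) := ((show Commute d v from hk.symm).inv_right).pow_right j
        rw [pow_succ' d, pow_succ' v⁻¹]
        calc d * d ^ j * k * (d * d ^ j)⁻¹ = d * (d ^ j * k * (d ^ j)⁻¹) * d⁻¹ := by group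
          _ = (d * k) * ((v⁻¹) ^ j * d⁻¹) := by rw [ih]; group
          _ = (d * k) * (d⁻¹ * (v⁻¹) ^ j) := by rw [hcv.inv_left.eq]
          _ = (d * k * d⁻¹) * (v⁻¹) ^ j := by group
          _ = k * (v⁻¹ * (v⁻¹) ^ j) := by rw [h1]; group
    have h3 := h2 (orderOf d)
    rw [pow_orderOf_eq_one, one_mul, inv_one, mul_one, left_eq_mul, inv_pow, inv_eq_one] at h3
    have h4 : (orderOf d).Coprime (orderOf v) := coprime_of_pn_co hdP (h.co_kk h.cs_x_coprime hvK)
    exact Subtype.ext (orderOf_eq_one_iff.mp (Nat.eq_one_of_dvd_coprimes h4.symm (dvd_of_eq (by rw [hθ])) ((orderOf_dvd_of_pow_eq_one (x := ((θ k : kk x) : G)) (n := orderOf d) (by rw [hθ]; exact h3)))))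
  -- the decomposition of `k0`
  let Φ : θ.ker × θ.range → kk x := fun p => (p.1 : kk x) * (p.2 : kk x)
  have hΦi : Function.Injective Φ := by
    rintro ⟨a, b⟩ ⟨a', b'⟩ hab'
    have e : ((a' : kk x))⁻¹ * (a : kk x) = (b' : kk x) * ((b : kk x))⁻¹ := by
      have hab'' : (a : kk x) * (b : kk x) = (a' : kk x) * (b' : kk x) := hab'
      rw [inv_mul_eq_iff_eq_mul, ← mul_assoc, ← hab'', mul_inv_cancel_right]
    obtain ⟨c, hc⟩ := mul_mem b'.2 (inv_mem b.2)
    have h1 : θ (θ c) = 1 := by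
      rw [hc, ← e]; exact mul_mem (inv_mem a'.2) a.2
    have h2 := hdis c h1
    rw [hc] at h2
    rw [h2, inv_mul_eq_one] at e
    have h3 : (b' : kk x) = b := mul_inv_eq_one.mp h2
    exact Prod.ext (Subtype.ext e.symm) (Subtype.ext h3.symm)
  have hΦcard : Nat.card (kk x) ≤ Nat.card (θ.ker × θ.range) := by
    rw [Nat.card_prod]
    have := θ.ker.card_mul_index
    rw [Subgroup.index_ker] at this
    exact this.ge
  obtain ⟨⟨⟨a, ha⟩, ⟨v0, hv0⟩⟩, hk0e⟩ := (hΦi.bijective_of_nat_card_le hΦcard).surjective ⟨k0, hk0⟩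
  have hk0e' : (a : G) * (v0 : G) = k0 := congrArg Subtype.val hk0e
  have had : Commute (a : G) d := (hker a).mp ha
  set H : Subgroup G := cz y ⊓ cz d ⊓ cz (a : G) with hH
  have hHy : H ≤ cz y := inf_le_left.trans inf_le_left
  have hZH : center G ≤ H := le_inf (le_inf (center_le_centralizer _) (center_le_centralizer _)) (center_le_centralizer _)
  have hconjV : ∀ g ∈ cz d, ∀ v : θ.range, ∃ v' : θ.range, ((v' : kk x) : G) = g * (v : kk x) * g⁻¹ := by
    rintro g hg ⟨_, c, rfl⟩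
    refine ⟨⟨θ ⟨g * c * g⁻¹, hkn.conj_mem _ c.2 g⟩, _, rfl⟩, ?_⟩
    show ((θ _ : kk x) : G) = g * ((θ c : kk x) : G) * g⁻¹
    rw [hθ, hθ]
    have hgd : Commute g d := mem_cz.mp hg
    calc g * (c : G) * g⁻¹ * (d * (g * (c : G) * g⁻¹)⁻¹ * d⁻¹)
        = g * c * g⁻¹ * ((d * g) * (c : G)⁻¹ * (d * g)⁻¹) := by group
      _ = g * c * g⁻¹ * ((g * d) * (c : G)⁻¹ * (g * d)⁻¹) := by rw [hgd.eq]
      _ = _ := by group
  -- `[H : Z] < |V|`
  have hVnt : 1 < Nat.card θ.range := by
    rw [Finite.one_lt_card_iff_nontrivial, Subgroup.nontrivial_iff_ne_bot]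
    intro hb
    refine hdz (h.centralize_kk_mem hd fun k hk => ((hker ⟨k, hk⟩).mp ?_).symm)
    exact Subgroup.mem_bot.mp (hb ▸ ⟨⟨k, hk⟩, rfl⟩)
  have hHV : (center G).relIndex H < Nat.card θ.range := by
    by_cases hv1 : (v0 : kk x) = 1
    · have hHZ : H ≤ center G := fun g hg => by
        refine h.mem_center_of_mem_both ?_ (hHy hg)
        have e : k0 = (a : G) := by rw [← hk0e', hv1]; simp
        rw [← hc0, e]; exact (mem_inf.mp hg).2
      rw [relIndex_eq_one.mpr hHZ]; exact hVnt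
    · let Ψ : H ⧸ (center G).subgroupOf H → {v : θ.range // v ≠ 1} := fun q => Quotient.liftOn' q
        (fun g => ⟨(hconjV (g : G) (mem_inf.mp (mem_inf.mp g.2).1).2 ⟨v0, hv0⟩).choose, by
          intro e
          have := (hconjV (g : G) (mem_inf.mp (mem_inf.mp g.2).1).2 ⟨v0, hv0⟩).choose_spec
          rw [e] at this
          refine hv1 (Subtype.ext ?_)
          have e2 : (g : G) * (v0 : G) * (g : G)⁻¹ = 1 := this.symm
          rw [mul_inv_eq_one, mul_eq_left] at e2
          exact e2⟩)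
        fun g l hgl => by
          refine Subtype.ext (Subtype.ext (Subtype.ext ?_))
          simp only []
          rw [(hconjV (g : G) (mem_inf.mp (mem_inf.mp g.2).1).2 ⟨v0, hv0⟩).choose_spec, (hconjV (l : G) (mem_inf.mp (mem_inf.mp l.2).1).2 ⟨v0, hv0⟩).choose_spec]
          have hz : (g : G)⁻¹ * l ∈ center G := by simpa [mem_subgroupOf] using QuotientGroup.leftRel_apply.mp hgl
          show (g : G) * (v0 : G) * (g : G)⁻¹ = l * (v0 : G) * (l : G)⁻¹
          calc (g : G) * (v0 : G) * (g : G)⁻¹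
              = g * (((g : G)⁻¹ * l) * v0 * ((g : G)⁻¹ * l)⁻¹) * (g : G)⁻¹ := by
                rw [show ((g : G)⁻¹ * l) * v0 * ((g : G)⁻¹ * l)⁻¹ = v0 by
                  rw [← mem_center_iff.mp hz, mul_inv_cancel_right]]
            _ = _ := by group
      have hΨ : Function.Injective Ψ := by
        intro q r
        induction q using Quotient.inductionOn'
        induction r using Quotient.inductionOn'
        rename_i g l
        intro hgl
        have e : (g : G) * (v0 : G) * (g : G)⁻¹ = l * (v0 : G) * (l : G)⁻¹ := by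
          rw [← (hconjV (g : G) (mem_inf.mp (mem_inf.mp g.2).1).2 ⟨v0, hv0⟩).choose_spec,
            ← (hconjV (l : G) (mem_inf.mp (mem_inf.mp l.2).1).2 ⟨v0, hv0⟩).choose_spec]
          exact congrArg (fun w : {v : θ.range // v ≠ 1} => (((w : θ.range) : kk x) : G)) hgl
        refine Quotient.sound' (QuotientGroup.leftRel_apply.mpr (mem_subgroupOf.mpr ?_))
        set f : G := (g : G)⁻¹ * l with hf
        have hfH : f ∈ H := mul_mem (inv_mem g.2) l.2
        have hfv : f * v0 * f⁻¹ = v0 := by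
          calc f * v0 * f⁻¹ = (g : G)⁻¹ * ((l : G) * v0 * (l : G)⁻¹) * g := by rw [hf]; group
            _ = _ := by rw [← e]; group
        refine h.mem_center_of_mem_both ?_ (hHy hfH)
        rw [← hc0, mem_cz_iff_conj, ← hk0e']
        calc f * ((a : G) * v0) * f⁻¹ = (f * a * f⁻¹) * (f * v0 * f⁻¹) := by group
          _ = _ := by rw [hfv, mem_cz_iff_conj.mp (mem_inf.mp hfH).2]
      have h1 := Nat.card_le_card_of_injective Ψ hΨ
      have h2 : Nat.card {v : θ.range // v ≠ 1} < Nat.card θ.range :=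
        Finite.card_subtype_lt (x := (1 : θ.range)) (by simp)
      exact lt_of_le_of_lt h1 h2
  -- `[D : H] |V| ≤ cs (a d)`
  let Θ : (cz y ⧸ H.subgroupOf (cz y)) × θ.range → cls ((a : G) * d) := fun p =>
    ⟨(p.1.out : G) * ((a : G) * (p.2 : kk x) * d) * (p.1.out : G)⁻¹, by
      obtain ⟨c, hc⟩ := p.2.2
      refine ⟨(p.1.out : G) * c, ?_⟩
      show (p.1.out : G) * c * (a * d) * ((p.1.out : G) * c)⁻¹ = _
      rw [← hc, hθ]
      have e1 : (c : G) * a = a * c := hab _ c.2 _ a.2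
      calc (p.1.out : G) * c * (a * d) * ((p.1.out : G) * c)⁻¹
          = (p.1.out : G) * ((c * a) * (d * (c : G)⁻¹)) * (p.1.out : G)⁻¹ := by group
        _ = _ := by rw [e1]; group⟩
  have hΘ : Function.Injective Θ := by
    rintro ⟨q, v⟩ ⟨r, v'⟩ hqr
    have e : (q.out : G) * ((a : G) * (v : kk x) * d) * (q.out : G)⁻¹
        = (r.out : G) * ((a : G) * (v' : kk x) * d) * (r.out : G)⁻¹ := congrArg Subtype.val hqr
    set f : G := (r.out : G)⁻¹ * q.out with hf
    have hfy : f ∈ cz y := mul_mem (inv_mem r.out.2) q.out.2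
    have e2 : (f * a * f⁻¹) * (f * (v : kk x) * f⁻¹) * (f * d * f⁻¹) = (a : G) * (v' : kk x) * d := by
      calc (f * a * f⁻¹) * (f * (v : kk x) * f⁻¹) * (f * d * f⁻¹)
          = (r.out : G)⁻¹ * ((q.out : G) * ((a : G) * (v : kk x) * d) * (q.out : G)⁻¹) * r.out := by rw [hf]; group
        _ = _ := by rw [e]; group
    have hmemK : (f * d * f⁻¹) * d⁻¹ ∈ kk x := by
      have e3 : f * d * f⁻¹ * d⁻¹ = ((f * a * f⁻¹) * (f * (v : kk x) * f⁻¹))⁻¹ * ((a : G) * (v' : kk x)) := by
        calc f * d * f⁻¹ * d⁻¹ = ((f * a * f⁻¹) * (f * (v : kk x) * f⁻¹))⁻¹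
            * ((f * a * f⁻¹) * (f * (v : kk x) * f⁻¹) * (f * d * f⁻¹)) * d⁻¹ := by group
          _ = _ := by rw [e2]; group
      rw [e3]
      exact mul_mem (inv_mem (mul_mem (hkn.conj_mem _ a.2 f) (hkn.conj_mem _ (v : kk x).2 f)))
        (mul_mem a.2 (v' : kk x).2)
    have hfd : f * d * f⁻¹ = d := mul_inv_eq_one.mp
      (h.cz_inf_kk hmemK (mul_mem (mul_mem (mul_mem hfy hd) (inv_mem hfy)) (inv_mem hd)))
    have hfd' : f ∈ cz d := mem_cz_iff_conj.mpr hfd
    rw [hfd, mul_right_cancel_iff] at e2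
    have hker' : θ ⟨f * a * f⁻¹, hkn.conj_mem _ a.2 f⟩ = 1 := by
      rw [hker]
      show Commute (f * a * f⁻¹) d
      have h4 : Commute (f * a * f⁻¹) (f * d * f⁻¹) := had.map (MulAut.conj f).toMonoidHom
      rwa [hfd] at h4
    obtain ⟨w, hw⟩ := hconjV f hfd' v
    have e4 := @hΦi (⟨⟨f * a * f⁻¹, hkn.conj_mem _ a.2 f⟩, hker'⟩, w) (⟨a, ha⟩, v') (Subtype.ext (by
      show f * a * f⁻¹ * ((w : kk x) : G) = a * (v' : kk x)
      rw [hw]; exact e2))
    have hfa : f * a * f⁻¹ = a := congrArg (fun p : θ.ker × θ.range => ((p.1 : kk x) : G)) e4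
    have hqr' : r = q := by
      rw [← q.out_eq, ← r.out_eq]
      exact Quotient.sound (QuotientGroup.leftRel_apply.mpr (mem_subgroupOf.mpr
        (mem_inf.mpr ⟨mem_inf.mpr ⟨hfy, hfd'⟩, mem_cz_iff_conj.mpr hfa⟩)))
    subst hqr'
    have hf1 : f = 1 := by rw [hf]; exact inv_mul_cancel _
    rw [hf1] at e2
    simp only [one_mul, inv_one, mul_one, mul_right_inj] at e2
    exact Prod.ext rfl (Subtype.ext (Subtype.ext e2))
  have hlow := Nat.card_le_card_of_injective Θ hΘ
  rw [Nat.card_prod, Nat.card_coe_set_eq, ncard_cls, ← Subgroup.index_eq_card] at hlow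
  have hn' := relIndex_mul_relIndex (center G) H (cz y) hZH hHy
  rw [h.relIndex_center_y] at hn'
  have hgt : n < cs ((a : G) * d) := by
    rw [← hn']
    refine lt_of_lt_of_le ?_ hlow
    rw [mul_comm]
    exact Nat.mul_lt_mul_of_pos_left hHV (Nat.pos_of_ne_zero index_ne_zero_of_finite)
  have hadm : cs ((a : G) * d) = m := (h.dichotomy _).resolve_left (not_le.mpr hgt)
  have hco := (coprime_of_pn_co hdP (h.co_kk h.cs_x_coprime a.2)).symm
  have hle : cz ((a : G) * d) ≤ cz d := (le_of_eq (inf_cz_eq had hco)).trans inf_le_right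
  exact (h.cz_eq_of_top hadm hle hdz).2

theorem exists_prime_power (h : Hyp x y n m) {q k : ℕ} (hq : q ∣ n) {u : G} (hu : cs u = m) (huk : u ^ q ^ k = 1)
    (huz : u ∉ center G) : ∃ w : G, cz u = cz w ∧ w ∈ zpowers u ∧ w ∉ center G ∧ w ^ q ∈ center G := by
  classical
  have hex : ∃ j, u ^ q ^ j ∈ center G := ⟨k, huk ▸ one_mem _⟩
  have hpos : Nat.find hex ≠ 0 := fun e => huz (by simpa [e] using Nat.find_spec hex)
  have hw : u ^ q ^ (Nat.find hex - 1) ∉ center G := Nat.find_min hex (by omega)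
  refine ⟨_, (h.cz_eq_of_top hu (CentMax.cz_le_of_mem_zpowers (pow_mem (mem_zpowers u) _)) hw).1,
    pow_mem (mem_zpowers u) _, hw, ?_⟩
  rw [← pow_mul, ← pow_succ, Nat.sub_add_cancel (Nat.pos_of_ne_zero hpos)]
  exact Nat.find_spec hex

/-- The `n`-elements of `C(y)` outside the centre all have centraliser `C(y)`. -/
theorem cz_of_mem (h : Hyp x y n m) {d : G} (hd : d ∈ cz y) (hdP : Pn n d) (hdz : d ∉ center G) :
    cz d = cz y := by
  classical
  obtain ⟨y0, hy0P, hy0⟩ := h.exists_y0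
  have hy0m : cs y0 = m := by rw [← h.hy]; exact congrArg Subgroup.index hy0
  have hy0z : y0 ∉ center G := fun e => by
    have h1 := cs_one_iff.mpr e
    rw [hy0m] at h1
    have := h.hn; have := h.hnm; omega
  have hprime : ∀ {q k : ℕ} {u g : G}, q.Prime → Pn n g → u ∈ zpowers g → u ^ q ^ k = 1 → u ∉ center G → q ∣ n := by
    intro q k u g hq hg hu huk huz
    by_contra hqn
    refine huz (eq_one_of_pn_co (pn_of_mem_zpowers hg hu) ?_ ▸ one_mem _)
    exact (Nat.Coprime.pow_left k ((Nat.Prime.coprime_iff_not_dvd hq).mpr hqn)).coprime_dvd_left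
      (orderOf_dvd_of_pow_eq_one huk)
  obtain ⟨q, hq, u, hu, ⟨k, huk⟩, huz⟩ := CentMax.exists_primary hdz
  have hdm := h.cs_of_mem hd hdP hdz
  obtain ⟨hcu, hum⟩ := h.cz_eq_of_top hdm (CentMax.cz_le_of_mem_zpowers hu) huz
  obtain ⟨r, hr, v, hv, ⟨l, hvl⟩, hvz⟩ := CentMax.exists_primary hy0z
  obtain ⟨hcv, hvm⟩ := h.cz_eq_of_top hy0m (CentMax.cz_le_of_mem_zpowers hv) hvz
  have hqn := hprime hq hdP hu huk huz
  have hrn := hprime hr hy0P hv hvl hvz
  rw [hcu]
  have huy : u ∈ cz y := zpowers_le.mpr hd hu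
  have hvy : cz v = cz y := hcv.symm.trans hy0
  by_cases hqr : q = r
  · subst hqr
    obtain ⟨w, hcw, hwu, hwz, hwq⟩ := h.exists_prime_power hqn hum huk huz
    obtain ⟨z0, hcz, hzv, hzz, hzq⟩ := h.exists_prime_power hrn hvm hvl hvz
    rw [hcw]
    have hz0y : cz z0 = cz y := hcz.symm.trans hvy
    have hwy : w ∈ cz y := zpowers_le.mpr huy hwu
    have hzy : z0 ∈ cz y := by rw [← hz0y]; exact mem_cz.mpr rfl
    set π := QuotientGroup.mk' (center G) with hπ
    obtain ⟨k0, hk0, hc0⟩ := h.exists_k0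
    haveI := kk_normal x
    haveI hkc : IsMulCommutative (kk x) := ⟨⟨fun p s => Subtype.ext ((kk_abelian (h.kk_top h.cs_x_coprime)).2 p p.2 s s.2)⟩⟩
    haveI hVc : IsMulCommutative ((kk x).map π) := Subgroup.map_isMulCommutative _ _
    haveI hVn : ((kk x).map π).Normal := (kk_normal x).map _ (QuotientGroup.mk'_surjective _)
    have hV : (kk x).map π ≠ ⊥ := by
      intro e
      rw [Subgroup.map_eq_bot_iff, QuotientGroup.ker_mk'] at e
      refine h.x_ne_center (cs_one_iff.mp ?_)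
      show (cz x).index = 1
      rw [← hc0]; exact cs_one_iff.mpr (e hk0)
    have hfpf : ∀ b ∈ (cz y).map π, b ≠ 1 → (kk x).map π ⊓ centralizer {b} = ⊥ := by
      rintro _ ⟨g, hg, rfl⟩ hb
      obtain ⟨e1, e2, hge, he1y, he1P, he2⟩ := h.pn_part hg
      have hge' : π g = π e1 := by
        rw [← hge, map_mul, show π e2 = 1 from (QuotientGroup.eq_one_iff _).mpr he2, mul_one]
      have he1z : e1 ∉ center G := fun e => hb (hge'.trans ((QuotientGroup.eq_one_iff _).mpr e))
      rw [eq_bot_iff]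
      rintro _ ⟨⟨c, hc, rfl⟩, hcc⟩
      replace hcc : π c * π g = π g * π c := mem_centralizer_singleton_iff.mp hcc
      rw [hge'] at hcc
      have h1 : c * e1 * c⁻¹ * e1⁻¹ ∈ center G := (QuotientGroup.eq_one_iff _).mp (show π (c * e1 * c⁻¹ * e1⁻¹) = 1 by
        rw [map_mul, map_mul, map_mul, map_inv, map_inv, hcc]; group)
      have h2 : c * e1 * c⁻¹ * e1⁻¹ ∈ kk x := by
        rw [mul_assoc, mul_assoc, ← mul_assoc e1]
        exact mul_mem hc ((kk_normal x).conj_mem _ (inv_mem hc) e1)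
      have h3 := h.cz_inf_kk h2 (center_le_centralizer _ h1)
      rw [mul_inv_eq_one, mul_inv_eq_iff_eq_mul] at h3
      rw [Subgroup.mem_bot, h.kk_fixed_eq_one h.cs_x_coprime (h.cs_of_mem he1y he1P he1z) he1P hc h3, map_one]
    haveI := Fact.mk hq
    have hord : ∀ g : G, g ∉ center G → g ^ q ∈ center G → orderOf (π g) = q := fun g hg hgq =>
      orderOf_eq_prime (by rw [← map_pow]; exact (QuotientGroup.eq_one_iff _).mpr hgq)
        (fun e => hg ((QuotientGroup.eq_one_iff _).mp e))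
    have hwz0 : Commute w z0 := by rw [← hz0y] at hwy; exact mem_cz.mp hwy
    obtain ⟨i, hi⟩ := Frob.no_elementary_fpf hV hq (by rw [Subgroup.normalizer_eq_top]; exact le_top) hfpf
      (mem_map_of_mem π hzy) (mem_map_of_mem π hwy) (hord z0 hzz hzq) (hord w hwz hwq)
      (by rw [← map_mul, ← map_mul, hwz0.eq])
    have hmem : (z0 ^ i)⁻¹ * w ∈ center G := (QuotientGroup.eq_one_iff _).mp (show π ((z0 ^ i)⁻¹ * w) = 1 by
      rw [map_mul, map_inv, map_zpow]; exact inv_mul_eq_one.mpr hi)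
    have hle : cz z0 ≤ cz w := by
      intro g hg
      have e : w = z0 ^ i * ((z0 ^ i)⁻¹ * w) := by group
      rw [e]
      exact cs_mul_inf_le _ _ ⟨mem_cz.mpr ((show Commute g z0 from mem_cz.mp hg).zpow_right i).eq,
        mem_cz.mpr (mem_center_iff.mp hmem g)⟩
    rw [← hz0y]
    exact ((h.cz_eq_of_top (by rw [← h.hy]; exact congrArg Subgroup.index hz0y) hle hwz).1).symm
  · have hco := CentMax.coprime_of_primary hq hr hqr ⟨k, huk⟩ ⟨l, hvl⟩
    have hcomm : Commute u v := by rw [← hvy] at huy; exact mem_cz.mp huy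
    have he := inf_cz_eq hcomm hco
    have h2 : cs (u * v) = m := h.eq_m (hvm ▸ index_dvd_of_le ((le_of_eq he).trans inf_le_right))
    have h3 : cz (u * v) = cz v := eq_of_le_of_index ((le_of_eq he).trans inf_le_right) (le_of_eq (by
      change cs (u * v) = cs v; rw [h2, hvm]))
    exact (((h.cz_eq_of_top hvm ((le_of_eq h3.symm).trans ((le_of_eq he).trans inf_le_left)) huz).1).symm).trans hvy

theorem cz_of_mem' (h : Hyp x y n m) {d : G} (hd : d ∈ cz y) (hdz : d ∉ center G) : cz d = cz y := by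
  obtain ⟨a, b, hab, ha, haP, hb⟩ := h.pn_part hd
  have haz : a ∉ center G := fun e => hdz (hab ▸ mul_mem e hb)
  rw [← h.cz_of_mem ha haP haz, ← hab]
  ext g
  rw [mem_cz, mem_cz, ← mul_assoc, mul_assoc a, ← mem_center_iff.mp hb g, ← mul_assoc]
  exact mul_left_inj b

theorem abelian_y (h : Hyp x y n m) {p q : G} (hp : p ∈ cz y) (hq : q ∈ cz y) : p * q = q * p := by
  by_cases hz : q ∈ center G
  · exact mem_center_iff.mp hz p
  · exact mem_cz.mp (show p ∈ cz q from h.cz_of_mem' hq hz ▸ hp)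

theorem mem_of_normalize (h : Hyp x y n m) {g : G} (hg : ∀ d, d ∈ cz y ↔ g * d * g⁻¹ ∈ cz y) : g ∈ cz y := by
  classical
  obtain ⟨a, ha, b, hb, rfl⟩ := exists_eq_mul (show (cz x).index.Coprime (cz y).index by
    change (cs x).Coprime (cs y); rw [h.hx, h.hy]; exact h.cop.symm) g
  suffices a ∈ center G from mul_mem hb (center_le_centralizer _ this)
  have haN : a ∈ normalizer (cz y : Set G) := by
    rw [mem_normalizer_iff]
    intro d
    have hbd : ∀ e, e ∈ cz y ↔ b * e * b⁻¹ ∈ cz y := fun e =>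
      (mem_normalizer_iff.mp (le_normalizer hb)) e
    rw [hg d, hbd (a * d * a⁻¹)]
    simp only [mul_inv_rev, mul_assoc]
  obtain ⟨p, c, hpc, hp, hcp, hpP, hcC⟩ := split_pn n a
  suffices c ∈ center G from hpc ▸ mul_mem (h.pn_central (zpowers_le.mpr ha hp) hpP) this
  by_contra hcz
  have hcN : c ∈ normalizer (cz y : Set G) := zpowers_le.mpr haN hcp
  have hcx : c ∈ cz x := zpowers_le.mpr ha hcp
  have hcd : ∀ d ∈ cz y, c * d = d * c → d ∈ center G := by
    intro d hd e
    by_contra hdz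
    exact hcz (h.mem_center_of_mem_both hcx (h.cz_of_mem' hd hdz ▸ mem_cz.mpr e))
  obtain ⟨θ, hθ⟩ := h.exists_theta c
  by_cases hbot : θ.range = ⊥
  · obtain ⟨y0, hy0P, hy0⟩ := h.exists_y0
    have hy0y : y0 ∈ cz y := hy0 ▸ mem_cz.mpr rfl
    set z := c * y0 * c⁻¹ * y0⁻¹ with hzdef
    have hcK : ∀ k ∈ kk x, c * k = k * c := by
      intro k hk
      have h1 : ((θ ⟨k, hk⟩ : kk x) : G) = 1 := by
        have h0 : θ ⟨k, hk⟩ ∈ θ.range := ⟨⟨k, hk⟩, rfl⟩
        rw [hbot, Subgroup.mem_bot] at h0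
        rw [h0]; rfl
      rw [hθ, ← mul_assoc, ← mul_assoc, mul_inv_eq_one, mul_inv_eq_iff_eq_mul] at h1
      exact h1.symm
    have hzy : z ∈ cz y := mul_mem ((mem_normalizer_iff.mp hcN y0).mp hy0y) (inv_mem hy0y)
    have hzz : z ∈ center G := h.centralize_kk_mem hzy fun k hk => by
      have hk' := (kk_normal x).conj_mem k hk y0⁻¹
      have e1 := hcK _ hk'
      have e2 := hcK k hk
      have e3 : Commute c (y0⁻¹ * k * y0⁻¹⁻¹) := e1
      calc z * k = c * y0 * (c⁻¹ * (y0⁻¹ * k * y0⁻¹⁻¹)) * y0⁻¹ := by rw [hzdef]; group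
        _ = c * y0 * ((y0⁻¹ * k * y0⁻¹⁻¹) * c⁻¹) * y0⁻¹ := by rw [e3.inv_left.eq]
        _ = (c * k) * y0 * c⁻¹ * y0⁻¹ := by group
        _ = k * z := by rw [e2, hzdef]; group
    have hconj : ∀ j : ℕ, c ^ j * y0 * (c ^ j)⁻¹ = z ^ j * y0 := by
      intro j
      induction j with
      | zero => simp
      | succ j ih =>
        have hzc : c * z ^ j = z ^ j * c := mem_center_iff.mp (pow_mem hzz j) c
        calc c ^ (j + 1) * y0 * (c ^ (j + 1))⁻¹ = c * (c ^ j * y0 * (c ^ j)⁻¹) * c⁻¹ := by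
              rw [pow_succ']; group
          _ = (c * z ^ j) * y0 * c⁻¹ := by rw [ih]; group
          _ = z ^ j * (c * y0 * c⁻¹ * y0⁻¹) * y0 := by rw [hzc]; group
          _ = z ^ (j + 1) * y0 := by rw [← hzdef, pow_succ]
    have h1 := hconj (orderOf c)
    rw [pow_orderOf_eq_one, one_mul, inv_one, mul_one, right_eq_mul] at h1
    obtain ⟨e, he⟩ := hy0P
    have h2 : z ^ n ^ e = 1 := by
      have hcy : z * y0 = c * y0 * c⁻¹ := by rw [hzdef]; group
      have h3 : (z * y0) ^ n ^ e = 1 := by rw [hcy, conj_pow, he]; group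
      rwa [(show Commute z y0 from (mem_center_iff.mp hzz y0).symm).mul_pow, he, mul_one] at h3
    have hz1 : z = 1 := orderOf_eq_one_iff.mp (Nat.eq_one_of_dvd_coprimes
      ((Nat.Coprime.pow_right e hcC)) (orderOf_dvd_of_pow_eq_one h1) (orderOf_dvd_of_pow_eq_one h2))
    rw [hzdef, mul_inv_eq_one, mul_inv_eq_iff_eq_mul] at hz1
    refine hcz (h.mem_center_of_mem_both hcx (hy0 ▸ mem_cz.mpr hz1))
  · let Θ : (cz y ⧸ (center G).subgroupOf (cz y)) × θ.range → cls c := fun p =>
      ⟨(p.1.out : G) * ((p.2 : kk x) * c) * (p.1.out : G)⁻¹, by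
        obtain ⟨e, he⟩ := p.2.2
        refine ⟨(p.1.out : G) * e, ?_⟩
        show (p.1.out : G) * e * c * ((p.1.out : G) * e)⁻¹ = _
        rw [← he, hθ]; group⟩
    have hΘ : Function.Injective Θ := by
      rintro ⟨q, v⟩ ⟨r, v'⟩ hqr
      have e : (q.out : G) * ((v : kk x) * c) * (q.out : G)⁻¹ = (r.out : G) * ((v' : kk x) * c) * (r.out : G)⁻¹ :=
        congrArg Subtype.val hqr
      set f : G := (r.out : G)⁻¹ * q.out with hf
      have hfy : f ∈ cz y := mul_mem (inv_mem r.out.2) q.out.2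
      have e2 : (f * (v : kk x) * f⁻¹) * (f * c * f⁻¹) = (v' : kk x) * c := by
        calc (f * (v : kk x) * f⁻¹) * (f * c * f⁻¹)
            = (r.out : G)⁻¹ * ((q.out : G) * ((v : kk x) * c) * (q.out : G)⁻¹) * r.out := by rw [hf]; group
          _ = _ := by rw [e]; group
      have hK : f * (c * f⁻¹ * c⁻¹) ∈ kk x := by
        have e3 : f * (c * f⁻¹ * c⁻¹) = (f * (v : kk x) * f⁻¹)⁻¹ * (v' : kk x) := by
          calc f * (c * f⁻¹ * c⁻¹) = (f * (v : kk x) * f⁻¹)⁻¹ * ((f * (v : kk x) * f⁻¹) * (f * c * f⁻¹)) * c⁻¹ := by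
                group
            _ = _ := by rw [e2]; group
        rw [e3]
        exact mul_mem (inv_mem ((kk_normal x).conj_mem _ (v : kk x).2 f)) (v' : kk x).2
      have h1 := h.cz_inf_kk hK (mul_mem hfy ((mem_normalizer_iff.mp hcN _).mp (inv_mem hfy)))
      have hfz : f ∈ center G := by
        refine hcd f hfy ?_
        rw [← mul_assoc, ← mul_assoc, mul_inv_eq_one, mul_inv_eq_iff_eq_mul] at h1
        exact h1.symm
      have hqr' : r = q := by
        rw [← q.out_eq, ← r.out_eq]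
        exact Quotient.sound (QuotientGroup.leftRel_apply.mpr (mem_subgroupOf.mpr hfz))
      subst hqr'
      have hf1 : f = 1 := by rw [hf]; exact inv_mul_cancel _
      rw [hf1] at e2
      simp only [one_mul, inv_one, mul_one, mul_left_inj] at e2
      exact Prod.ext rfl (Subtype.ext (Subtype.ext e2))
    have hlow := Nat.card_le_card_of_injective Θ hΘ
    rw [Nat.card_prod, Nat.card_coe_set_eq, ncard_cls, ← Subgroup.index_eq_card] at hlow
    change (center G).relIndex (cz y) * _ ≤ _ at hlow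
    rw [h.relIndex_center_y] at hlow
    have h2 : 1 < Nat.card θ.range :=
      Finite.one_lt_card_iff_nontrivial.mpr ((Subgroup.nontrivial_iff_ne_bot _).mpr hbot)
    have hgt : n < cs c := lt_of_lt_of_le (lt_mul_of_one_lt_right (by have := h.hn; omega) h2) hlow
    have hcm : cs c = m := (h.dichotomy c).resolve_left (not_le.mpr hgt)
    obtain ⟨q, hq, hqn⟩ := Nat.exists_prime_and_dvd (show n ≠ 1 by have := h.hn; omega)
    obtain ⟨t, ht, htP, htz⟩ := h.exists_sylow_pn (w := c) (hcm ▸ h.cop) hq hqn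
    have he := inf_cz_eq (show Commute t c from mem_cz.mp ht) (coprime_of_pn_co htP hcC)
    have h3 : cz (t * c) = cz c := eq_of_le_of_index ((le_of_eq he).trans inf_le_right) (by
      change cs (t * c) ≤ cs c; rw [hcm]; exact h.le_m _)
    obtain ⟨hct, htm⟩ := h.cz_eq_of_top hcm ((le_of_eq h3.symm).trans ((le_of_eq he).trans inf_le_left)) htz
    exact hcz (h.co_central htm htP (hct ▸ mem_cz.mpr rfl) hcC)

theorem ti (h : Hyp x y n m) {g d : G} (hd : d ∈ cz y) (hd' : g * d * g⁻¹ ∈ cz y) (hdz : d ∉ center G) :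
    g ∈ cz y := by
  have e1 := h.cz_of_mem' hd hdz
  have hz2 : g * d * g⁻¹ ∉ center G := fun e => hdz (by
    have := mem_center_iff.mp e g
    have e2 : d = g⁻¹ * ((g * d * g⁻¹) * g) := by group
    rw [e2, ← this, inv_mul_cancel_left]; exact e)
  have e3 := h.cz_of_mem' hd' hz2
  refine h.mem_of_normalize fun v => ?_
  conv_rhs => rw [← e3, cz_conj]
  rw [show g⁻¹ * (g * v * g⁻¹) * g = v by group, e1]

theorem frobenius (h : Hyp x y n m) :
    IsMulCommutative (cz x) ∧ IsMulCommutative (cz y) ∧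
    Cfsg.IsFrobeniusComplement ((cz y).map (QuotientGroup.mk' (center G))) ∧
    Cfsg.frobeniusKernel ((cz y).map (QuotientGroup.mk' (center G))) =
      ((cz x).map (QuotientGroup.mk' (center G)) : Set (G ⧸ center G)) := by
  classical
  set π := QuotientGroup.mk' (center G) with hπ
  have hπs : Function.Surjective π := QuotientGroup.mk'_surjective _
  set H := (cz y).map π with hH
  have hHm : ∀ g : G, π g ∈ H ↔ g ∈ cz y := by
    intro g
    refine ⟨?_, mem_map_of_mem π⟩
    rintro ⟨e, he, hge⟩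
    have := (QuotientGroup.eq_one_iff _).mp (show π (e⁻¹ * g) = 1 by rw [map_mul, map_inv, hge, inv_mul_cancel])
    have e2 : g = e * (e⁻¹ * g) := by group
    rw [e2]; exact mul_mem he (center_le_centralizer _ this)
  have hidx : H.index = m := by
    rw [hH, Subgroup.index_map_eq _ hπs (by rw [QuotientGroup.ker_mk']; exact center_le_centralizer _)]
    exact h.hy
  have hF : Cfsg.IsFrobeniusComplement H := by
    refine ⟨fun e => ?_, fun e => ?_, fun g hg => ?_⟩
    · refine h.y_ne_center ((QuotientGroup.eq_one_iff y).mp ?_)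
      exact Subgroup.mem_bot.mp (e ▸ (hHm y).mpr (mem_cz.mpr rfl))
    · rw [e, index_top] at hidx
      have := h.hn; have := h.hnm; omega
    · rw [eq_bot_iff]
      intro a ha
      obtain ⟨ha1, ha2⟩ := Subgroup.mem_inf.mp ha
      rw [CfsgLib.mem_conj_smul_iff] at ha2
      obtain ⟨g, rfl⟩ := hπs g
      obtain ⟨v, rfl⟩ := hπs a
      rw [← map_inv, ← map_mul, ← map_mul, hHm] at ha2
      rw [hHm] at ha1
      rw [Subgroup.mem_bot]
      by_contra hv
      have hvz : g⁻¹ * v * g ∉ center G := fun e => hv (by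
        refine (QuotientGroup.eq_one_iff v).mpr ?_
        have e2 := (inferInstance : (center G).Normal).conj_mem _ e g
        simpa [mul_assoc] using e2)
      exact hg ((hHm g).mpr (h.ti ha2 (by simpa [mul_assoc] using ha1) hvz))
  have hCm : (Nat.card ((cz x).map π)) = m := by
    have := Subgroup.relIndex_ker (f := π) (K := cz x)
    rw [QuotientGroup.ker_mk', h.relIndex_center_x] at this
    exact this.symm
  have hker : Cfsg.frobeniusKernel H = ((cz x).map π : Set (G ⧸ center G)) := by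
    symm
    refine Set.eq_of_subset_of_ncard_le ?_ ?_ (Set.toFinite _)
    · rintro _ ⟨c, hc, rfl⟩
      by_cases hc1 : π c = 1
      · exact Or.inl hc1
      · refine Or.inr fun g hg => hc1 ?_
        rw [CfsgLib.mem_conj_smul_iff] at hg
        obtain ⟨g, rfl⟩ := hπs g
        rw [← map_inv, ← map_mul, ← map_mul, hHm] at hg
        obtain ⟨a, b, hab, -, haP, hb⟩ := h.pn_part hg
        obtain ⟨p, s, hps, hp, -, hpP, hsC⟩ := split_pn n c
        have hπp : π p = 1 := (QuotientGroup.eq_one_iff _).mpr (h.pn_central (zpowers_le.mpr hc hp) hpP)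
        have hπb : π b = 1 := (QuotientGroup.eq_one_iff _).mpr hb
        have h1 : Co n (π c) := by
          rw [← hps, map_mul, hπp, one_mul]; exact hsC.coprime_dvd_left (orderOf_map_dvd π s)
        have h2 : Pn n (π c) := by
          have e : π c = π g * π a * (π g)⁻¹ := by
            have e2 : c = g * (g⁻¹ * c * g) * g⁻¹ := by group
            conv_lhs => rw [e2, ← hab]
            rw [map_mul, map_mul, map_mul, hπb, mul_one, map_inv]
          rw [e]
          refine pn_conj ?_ _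
          obtain ⟨k, hk⟩ := haP
          exact ⟨k, by rw [← map_pow, hk, map_one]⟩
        exact eq_one_of_pn_co h2 h1
    · rw [← Nat.card_coe_set_eq, ← Nat.card_coe_set_eq, Frob.card_kernel hF, hidx]
      exact hCm.ge
  refine ⟨⟨⟨fun a b => Subtype.ext ?_⟩⟩, ⟨⟨fun a b => Subtype.ext (h.abelian_y a.2 b.2)⟩⟩, hF, hker⟩
  -- `C(x)` is abelian
  have hnorm : ∀ g c : G, c ∈ cz x → g * c * g⁻¹ ∈ cz x := by
    intro g c hc
    have h1 : π (g * c * g⁻¹) ∈ Cfsg.frobeniusKernel H := by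
      have h2 : π c ∈ Cfsg.frobeniusKernel H := hker ▸ mem_map_of_mem π hc
      rcases h2 with h2 | h2
      · left; rw [map_mul, map_mul, h2, mul_one, map_inv, mul_inv_cancel]
      · refine Or.inr fun v hv => h2 ((π g)⁻¹ * v) ?_
        rw [CfsgLib.mem_conj_smul_iff] at hv ⊢
        rw [map_mul, map_mul, map_inv] at hv
        have e : ((π g)⁻¹ * v)⁻¹ * π c * ((π g)⁻¹ * v) = v⁻¹ * (π g * π c * (π g)⁻¹) * v := by group
        rw [e]; exact hv
    rw [hker] at h1
    obtain ⟨e, he, hge⟩ := h1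
    have h3 := (QuotientGroup.eq_one_iff _).mp (show π (e⁻¹ * (g * c * g⁻¹)) = 1 by
      rw [map_mul, map_inv, hge, inv_mul_cancel])
    have e2 : g * c * g⁻¹ = e * (e⁻¹ * (g * c * g⁻¹)) := by group
    rw [e2]; exact mul_mem he (center_le_centralizer _ h3)
  show (a : G) * b = b * a
  by_cases hb : (b : G) ∈ center G
  · exact mem_center_iff.mp hb a
  have hle : cz (b : G) ≤ cz x := by
    intro g hg
    by_contra hgx
    have h1 : π g ∉ Cfsg.frobeniusKernel H := by
      rw [hker]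
      rintro ⟨e, he, hge⟩
      have h3 := (QuotientGroup.eq_one_iff _).mp (show π (e⁻¹ * g) = 1 by rw [map_mul, map_inv, hge, inv_mul_cancel])
      have e2 : g = e * (e⁻¹ * g) := by group
      exact hgx (e2 ▸ mul_mem he (center_le_centralizer _ h3))
    unfold Cfsg.frobeniusKernel at h1
    simp only [Set.mem_setOf_eq, not_or, not_forall, not_not] at h1
    obtain ⟨hne, v, hv⟩ := h1
    rw [CfsgLib.mem_conj_smul_iff] at hv
    obtain ⟨v, rfl⟩ := hπs v
    rw [← map_inv, ← map_mul, ← map_mul, hHm] at hv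
    have hgz : v⁻¹ * g * v ∉ center G := fun e => hne ((QuotientGroup.eq_one_iff g).mpr (by
      have e2 := (inferInstance : (center G).Normal).conj_mem _ e v
      simpa [mul_assoc] using e2))
    have hb' : v⁻¹ * (b : G) * v ∈ cz y := by
      rw [← h.cz_of_mem' hv hgz, mem_cz]
      have e1 : g * (b : G) = b * g := mem_cz.mp hg
      calc v⁻¹ * (b : G) * v * (v⁻¹ * g * v) = v⁻¹ * ((b : G) * g) * v := by group
        _ = v⁻¹ * (g * b) * v := by rw [e1]
        _ = _ := by group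
    have hb'' : v⁻¹ * (b : G) * v ∈ cz x := by simpa using hnorm v⁻¹ b b.2
    have h4 := (inferInstance : (center G).Normal).conj_mem _ (h.mem_center_of_mem_both hb'' hb') v
    exact hb (by simpa [mul_assoc] using h4)
  have hbn : cs (b : G) = n := h.eq_n (h.hx ▸ index_dvd_of_le hle)
  have heq : cz (b : G) = cz x := eq_of_le_of_index hle (le_of_eq (by change cs (b : G) = cs x; rw [hbn, h.hx]))
  exact mem_cz.mp (heq.ge a.2)

end Hyp

end CfsgLib.CopClass
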