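import Cfsg.Agent.Lib.Kazarin
import Cfsg.Agent.Lib.CoprimeClassSizes
import Cfsg.Agent.Lib.ZJ.Complement

/-!
# The normal closure of an element with class of prime power size
-/

namespace CfsgLib.Kazarin

open Cfsg
open scoped commutatorElement

set_option linter.unusedVariables false
set_option linter.style.haveILetI false
set_option linter.unusedSectionVars false

universe u v

variable {G : Type u} [Group G] [Finite G]

theorem index_map_dvd_of_surjective {H : Type v} [Group H] (f : G →* H)
    (hf : Function.Surjective f) (x : G) :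
    (Subgroup.centralizer ({f x} : Set H)).index ∣ (Subgroup.centralizer ({x} : Set G)).index := by
  refine dvd_trans (Subgroup.index_dvd_of_le ?_) (Subgroup.index_map_dvd (f := f) _ hf)
  rintro _ ⟨c, hc, rfl⟩
  rw [Subgroup.mem_centralizer_singleton_iff]
  rw [← map_mul, ← map_mul, Subgroup.mem_centralizer_singleton_iff.1 hc]

theorem relIndex_dvd_index {N : Subgroup G} [N.Normal] (C : Subgroup G) :
    C.relIndex N ∣ C.index := by
  obtain ⟨k, hk⟩ : N.relIndex C ∣ N.index := Subgroup.relIndex_dvd_index_of_normal N C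
  have h1 := Subgroup.relIndex_mul_index (inf_le_left : C ⊓ N ≤ C)
  have h2 := Subgroup.relIndex_mul_index (inf_le_right : C ⊓ N ≤ N)
  rw [Subgroup.inf_relIndex_left] at h1
  rw [Subgroup.inf_relIndex_right, ← h1, hk] at h2
  have hne : N.relIndex C ≠ 0 := Subgroup.index_ne_zero_of_finite
  refine ⟨k, (mul_left_cancel₀ hne ?_).symm⟩
  rw [← h2]; ring

theorem index_subgroup_dvd {N : Subgroup G} [N.Normal] (y : N) :
    (Subgroup.centralizer ({y} : Set N)).index ∣
      (Subgroup.centralizer ({(y : G)} : Set G)).index := by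
  have e : Subgroup.centralizer ({y} : Set N) =
      (Subgroup.centralizer ({(y : G)} : Set G)).subgroupOf N := by
    ext z
    simp [Subgroup.mem_subgroupOf, Subgroup.mem_centralizer_singleton_iff, Subtype.ext_iff]
  rw [e]
  exact relIndex_dvd_index _

theorem index_pow_of_mem_zpowers {p a : ℕ} (hp : p.Prime) {x y : G}
    (hy : y ∈ Subgroup.zpowers x) (hx : (Subgroup.centralizer ({x} : Set G)).index = p ^ a) :
    ∃ b : ℕ, (Subgroup.centralizer ({y} : Set G)).index = p ^ b := by
  obtain ⟨n, rfl⟩ := hy
  have hle : Subgroup.centralizer ({x} : Set G) ≤ Subgroup.centralizer ({x ^ n} : Set G) := by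
    intro c hc
    rw [Subgroup.mem_centralizer_singleton_iff] at hc ⊢
    exact (Commute.zpow_right (show Commute c x from hc) n).eq
  obtain ⟨b, -, hb⟩ := (Nat.dvd_prime_pow hp).1 (hx ▸ Subgroup.index_dvd_of_le hle)
  exact ⟨b, hb⟩

/-- A `p`-element with class of `p`-power size lies in the `p`-core. -/
theorem mem_pCore_of_class {p : ℕ} [Fact p.Prime] {x : G} {a k : ℕ} (hx : orderOf x = p ^ k)
    (hcl : (Subgroup.centralizer ({x} : Set G)).index = p ^ a) : x ∈ pCore p G := by
  obtain ⟨P, hP⟩ := (IsPGroup.of_card (n := k) (show Nat.card (Subgroup.zpowers x) = p ^ k by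
    rw [Nat.card_zpowers, hx])).exists_le_sylow
  have hle : Subgroup.normalClosure ({x} : Set G) ≤ (P : Subgroup G) := by
    rw [Subgroup.normalClosure, Subgroup.closure_le]
    intro z hz
    obtain ⟨w, hw, hwz⟩ := Group.mem_conjugatesOfSet_iff.1 hz
    rw [Set.mem_singleton_iff] at hw
    subst hw
    obtain ⟨g, rfl⟩ := isConj_iff.1 hwz
    obtain ⟨c, hc, u, hu, rfl⟩ := CfsgLib.CopClass.exists_eq_mul
      (A := Subgroup.centralizer ({w} : Set G)) (B := (P : Subgroup G))
      (by rw [hcl]
          exact Nat.Coprime.pow_left a (((Fact.out : p.Prime).coprime_iff_not_dvd).2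
            P.not_dvd_index)) g
    rw [show u * c * w * (u * c)⁻¹ = u * (c * w * c⁻¹) * u⁻¹ by group,
      CfsgLib.CopClass.mem_cz_iff_conj.1 hc]
    have hwP : w ∈ (P : Subgroup G) := hP (Subgroup.mem_zpowers w)
    exact (P : Subgroup G).mul_mem ((P : Subgroup G).mul_mem hu hwP)
      ((P : Subgroup G).inv_mem hu)
  exact CfsgLib.le_pCore (P.2.to_le hle) (Subgroup.subset_normalClosure rfl)

theorem isSolvable_normalClosure_pprime {p : ℕ} (hp : p.Prime) :
    ∀ (n : ℕ) (G : Type u) [Group G] [Finite G], Nat.card G = n → ∀ (x : G) (a : ℕ),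
      ¬ p ∣ orderOf x → (Subgroup.centralizer ({x} : Set G)).index = p ^ a →
      Group.IsSolvable ↥(Subgroup.normalClosure ({x} : Set G)) := by
  intro n
  induction n using Nat.strong_induction_on with
  | _ n ih =>
  intro G _ _ hn x a hx hcl
  subst hn
  haveI := Fact.mk hp
  set C := Subgroup.normalClosure ({x} : Set G) with hC
  haveI : C.Normal := Subgroup.normalClosure_normal
  have hxC : x ∈ C := Subgroup.subset_normalClosure rfl
  rcases eq_or_ne C ⊤ with htop | htop
  · -- the group is generated by the class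
    set K := Subgroup.normalClosure (Set.range fun g : G => g * x * g⁻¹ * x⁻¹) with hK
    haveI : K.Normal := Subgroup.normalClosure_normal
    have hmem : ∀ g : G, g * x * g⁻¹ * x⁻¹ ∈ K := fun g =>
      Subgroup.subset_normalClosure ⟨g, rfl⟩
    have hnorm : (K ⊔ Subgroup.zpowers x).Normal := by
      refine ⟨fun z hz g => ?_⟩
      have : MulAut.conj g z ∈ (K ⊔ Subgroup.zpowers x).map (MulAut.conj g).toMonoidHom :=
        ⟨z, hz, rfl⟩
      rw [Subgroup.map_sup] at this
      refine (sup_le ?_ ?_ : _ ≤ K ⊔ Subgroup.zpowers x) this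
      · rintro _ ⟨k, hk, rfl⟩
        exact Subgroup.mem_sup_left ((inferInstance : K.Normal).conj_mem k hk g)
      · rw [MonoidHom.map_zpowers, Subgroup.zpowers_le]
        show g * x * g⁻¹ ∈ _
        rw [show g * x * g⁻¹ = g * x * g⁻¹ * x⁻¹ * x by group]
        exact mul_mem (Subgroup.mem_sup_left (hmem g))
          (Subgroup.mem_sup_right (Subgroup.mem_zpowers x))
    have hgen : K ⊔ Subgroup.zpowers x = ⊤ := top_le_iff.1 (htop ▸
      Subgroup.normalClosure_le_normal (Set.singleton_subset_iff.2
        (Subgroup.mem_sup_right (Subgroup.mem_zpowers x))))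
    by_cases hKs : Group.IsSolvable ↥K
    · rw [htop, ← hgen, sup_comm]
      exact CfsgLib.isSolvable_sup_of_normal inferInstance hKs
    exfalso
    obtain ⟨r, hr, hrp, hrK⟩ : ∃ r : ℕ, r.Prime ∧ r ≠ p ∧ r ∣ Nat.card K := by
      by_contra hc
      push Not at hc
      have hpg : IsPGroup p K := IsPGroup.of_card (Nat.eq_prime_pow_of_unique_prime_dvd
        Nat.card_pos.ne' fun {q} hq hqd => by
          by_contra hne
          exact hc q hq hne hqd)
      haveI := hpg.isNilpotent
      exact hKs inferInstance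
    obtain ⟨χ, ⟨m, hm, hne⟩, hall⟩ := exists_scalar_character hp K x hgen hx hcl hr hrp hrK
    have hle : K ≤ CfsgLib.CharTheory.charKernel (χ : G → ℂ)
        (CfsgLib.CharTheory.isCharacter_of_irr χ.2) :=
      Subgroup.normalClosure_le_normal (by
        rintro _ ⟨g, rfl⟩
        exact (CfsgLib.CharTheory.mem_charKernel _ _).2 (hall g))
    exact hne ((CfsgLib.CharTheory.mem_charKernel _ _).1 (hle hm))
  · -- induction
    have hlt : Nat.card C < Nat.card G := lt_of_le_of_ne (Subgroup.card_le_card_group C)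
      fun h => htop (Subgroup.eq_top_of_card_eq C h)
    obtain ⟨b, -, hb⟩ := (Nat.dvd_prime_pow hp).1 (hcl ▸ index_subgroup_dvd ⟨x, hxC⟩)
    have hD := ih _ hlt C rfl ⟨x, hxC⟩ b (by rwa [Subgroup.orderOf_mk]) hb
    have hxR : x ∈ (CfsgLib.solvableRadical C).map C.subtype :=
      ⟨⟨x, hxC⟩, CfsgLib.le_solvableRadical hD (Subgroup.subset_normalClosure rfl), rfl⟩
    have hle : C ≤ (CfsgLib.solvableRadical C).map C.subtype :=
      Subgroup.normalClosure_le_normal (Set.singleton_subset_iff.2 hxR)
    haveI := CfsgLib.isSolvable_solvableRadical (G := C)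
    haveI : Group.IsSolvable ↥((CfsgLib.solvableRadical C).map C.subtype) :=
      Group.isSolvable_of_surjective (f := C.subtype.subgroupMap _)
        (C.subtype.subgroupMap_surjective _)
    exact Group.isSolvable_of_isSolvable_injective (f := Subgroup.inclusion hle)
      (Subgroup.inclusion_injective hle)

/-- **Kazarin**: an element with class of prime power size generates a solvable normal subgroup. -/
theorem isSolvable_normalClosure {p : ℕ} (hp : p.Prime) (x : G) {a : ℕ}
    (hcl : (Subgroup.centralizer ({x} : Set G)).index = p ^ a) :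
    Group.IsSolvable ↥(Subgroup.normalClosure ({x} : Set G)) := by
  haveI := Fact.mk hp
  obtain ⟨z, w, hzw, -, ⟨k, hk⟩, hw, hzx, hwx⟩ := CfsgLib.Blocks.exists_pPart hp x
  obtain ⟨b, hb⟩ := index_pow_of_mem_zpowers hp hzx hcl
  obtain ⟨c, hc⟩ := index_pow_of_mem_zpowers hp hwx hcl
  have hzc := mem_pCore_of_class hk hb
  have hB := isSolvable_normalClosure_pprime hp _ G rfl w c hw hc
  haveI : Group.IsNilpotent ↥(pCore p G) := (CfsgLib.isPGroup_pCore p).isNilpotent
  have hAB := CfsgLib.isSolvable_sup_of_normal (A := pCore p G)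
    (B := Subgroup.normalClosure ({w} : Set G)) inferInstance hB
  have hle : Subgroup.normalClosure ({x} : Set G) ≤
      pCore p G ⊔ Subgroup.normalClosure ({w} : Set G) := by
    refine Subgroup.normalClosure_le_normal (Set.singleton_subset_iff.2 ?_)
    rw [← hzw]
    exact mul_mem (Subgroup.mem_sup_left hzc)
      (Subgroup.mem_sup_right (Subgroup.subset_normalClosure rfl))
  exact Group.isSolvable_of_isSolvable_injective (f := Subgroup.inclusion hle)
    (Subgroup.inclusion_injective hle)

/-- An element with class of `p`-power size commutes with its conjugates modulo the `p`-core. -/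
theorem commutator_mem_pCore {p : ℕ} [Fact p.Prime] (x : G) {a : ℕ}
    (hcl : (Subgroup.centralizer ({x} : Set G)).index = p ^ a) (g h : G) :
    (g * x * g⁻¹) * (h * x * h⁻¹) * (g * x * g⁻¹)⁻¹ * (h * x * h⁻¹)⁻¹ ∈ pCore p G := by
  have hp : p.Prime := Fact.out
  set f := QuotientGroup.mk' (pCore p G) with hf
  have hsurj : Function.Surjective f := QuotientGroup.mk'_surjective _
  obtain ⟨b, -, hb⟩ := (Nat.dvd_prime_pow hp).1 (hcl ▸ index_map_dvd_of_surjective f hsurj x)
  set y := f x with hy
  set M := Subgroup.normalClosure ({y} : Set (G ⧸ pCore p G)) with hM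
  haveI : M.Normal := Subgroup.normalClosure_normal
  haveI := isSolvable_normalClosure hp y hb
  have hcore : ∀ (q : Nat.Primes), (pCore (q : ℕ) M).map M.subtype ≤
      Subgroup.centralizer ({y} : Set (G ⧸ pCore p G)) := by
    intro q
    by_cases hqp : (q : ℕ) = p
    · refine (CfsgLib.map_pCore_le _ M).trans ?_
      rw [hqp, CfsgLib.ZJ.pCore_quotient_pCore_eq_bot]
      exact bot_le
    · haveI : ((pCore (q : ℕ) M).map M.subtype).Normal :=
        ConjAct.normal_of_characteristic_of_normal
      haveI := Fact.mk q.2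
      obtain ⟨e, he⟩ := IsPGroup.iff_card.1 ((CfsgLib.isPGroup_pCore (G := M) (q : ℕ)).map M.subtype)
      have h1 : (Subgroup.centralizer ({y} : Set (G ⧸ pCore p G))).relIndex
          ((pCore (q : ℕ) M).map M.subtype) = 1 :=
        Nat.eq_one_of_dvd_coprimes
          (Nat.Coprime.pow b e ((Nat.coprime_primes hp q.2).2 (fun h => hqp h.symm)))
          (hb ▸ relIndex_dvd_index _) (he ▸ Subgroup.index_dvd_card _)
      exact Subgroup.relIndex_eq_one.1 h1
  have hyM : y ∈ M := Subgroup.subset_normalClosure rfl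
  have hyF : (⟨y, hyM⟩ : M) ∈ fittingSubgroup M := by
    apply CfsgLib.centralizer_fitting_le
    rw [Subgroup.mem_centralizer_iff]
    intro m hm
    have hle : fittingSubgroup M ≤
        (Subgroup.centralizer ({y} : Set (G ⧸ pCore p G))).subgroupOf M := by
      rw [CfsgLib.fittingSubgroup_eq_iSup_pCore]
      exact iSup_le fun q m hm => hcore q ⟨m, hm, rfl⟩
    exact Subtype.ext (Subgroup.mem_centralizer_singleton_iff.1 (hle hm))
  haveI : (fittingSubgroup M).Characteristic := Subgroup.characteristic_iff_map_le.mpr fun f => by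
    haveI : ((fittingSubgroup M).map f.toMonoidHom).Normal :=
      Subgroup.Normal.map CfsgLib.fittingSubgroup_normal f.toMonoidHom f.surjective
    refine CfsgLib.le_fittingSubgroup ?_
    haveI := CfsgLib.isNilpotent_fittingSubgroup (G := M)
    exact Group.nilpotent_of_surjective ((fittingSubgroup M).equivMapOfInjective f.toMonoidHom
      f.injective).toMonoidHom (MulEquiv.surjective _)
  haveI : ((fittingSubgroup M).map M.subtype).Normal := ConjAct.normal_of_characteristic_of_normal
  have hc : ∀ u : G ⧸ pCore p G, Commute y (u * y * u⁻¹) := by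
    intro u
    have hle : (fittingSubgroup M).map M.subtype ≤
        Subgroup.centralizer ({y} : Set (G ⧸ pCore p G)) := by
      rw [CfsgLib.fittingSubgroup_eq_iSup_pCore, Subgroup.map_iSup]
      exact iSup_le hcore
    have := hle ((inferInstance : ((fittingSubgroup M).map M.subtype).Normal).conj_mem y
      ⟨⟨y, hyM⟩, hyF, rfl⟩ u)
    exact (Subgroup.mem_centralizer_singleton_iff.1 this).symm
  rw [← QuotientGroup.eq_one_iff]
  show f _ = 1
  simp only [map_mul, map_inv]
  rw [← hy]
  have h2 := hc ((f g)⁻¹ * f h)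
  rw [Commute, SemiconjBy] at h2
  have h3 : Commute (f g * y * (f g)⁻¹) (f h * y * (f h)⁻¹) := by
    show _ * _ = _ * _
    calc f g * y * (f g)⁻¹ * (f h * y * (f h)⁻¹)
        = f g * (y * ((f g)⁻¹ * f h * y * ((f g)⁻¹ * f h)⁻¹)) * (f g)⁻¹ := by group
      _ = f g * (((f g)⁻¹ * f h * y * ((f g)⁻¹ * f h)⁻¹) * y) * (f g)⁻¹ := by rw [h2]
      _ = f h * y * (f h)⁻¹ * (f g * y * (f g)⁻¹) := by group
  have h4 : f g * y * (f g)⁻¹ * (f h * y * (f h)⁻¹) =
      f h * y * (f h)⁻¹ * (f g * y * (f g)⁻¹) := h3
  rw [h4]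
  group

end CfsgLib.Kazarin
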