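import Cfsg.Agent.Lib.SmallElements
import Mathlib.NumberTheory.Multiplicity
import Mathlib.FieldTheory.Finite.Basic

/-!
Elements of order `p` in metacyclic `p`-groups for odd `p`, and inversion from two transvections.
-/

set_option autoImplicit false

universe u

namespace CfsgLib.Metacyclic

open scoped commutatorElement

theorem prime_pow_dvd_mul {p : ℕ} [hp : Fact p.Prime] (h2 : p ≠ 2) {r : ℤ} {n : ℕ}
    (h : (p : ℤ) ^ n ∣ r ^ p - 1) : (p : ℤ) ^ n ∣ (r - 1) * p := by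
  rcases Nat.eq_zero_or_pos n with rfl | hn
  · simp
  have hp' : Prime (p : ℤ) := Nat.prime_iff_prime_int.mp hp.out
  have h1 : (p : ℤ) ∣ r - 1 := by
    have h3 := (dvd_pow_self (p : ℤ) (Nat.pos_iff_ne_zero.mp hn)).trans h
    rw [← ZMod.intCast_zmod_eq_zero_iff_dvd] at h3 ⊢
    push_cast at h3 ⊢
    rwa [ZMod.pow_card] at h3
  have hr : ¬ (p : ℤ) ∣ r := fun hr => hp'.not_dvd_one (by simpa using dvd_sub hr h1)
  have key := Int.emultiplicity_pow_sub_pow (p := p) hp.out (hp.out.odd_of_ne_two h2) h1 hr p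
  rw [one_pow] at key
  rw [pow_dvd_iff_le_emultiplicity, emultiplicity_mul hp', Int.natCast_emultiplicity p p, ← key,
    ← pow_dvd_iff_le_emultiplicity]
  exact h

/-- In a cyclic group, elements of order `p` are powers of each other. -/
theorem mem_zpowers_of_isCyclic {G : Type*} [Group G] [Finite G] [IsCyclic G] {p : ℕ} [hp : Fact p.Prime] {a b : G}
    (ha : a ^ p = 1) (ha1 : a ≠ 1) (hb : b ^ p = 1) : b ∈ Subgroup.zpowers a := by
  let _ : CommGroup G := IsCyclic.commGroup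
  have he : Subgroup.zpowers a = (powMonoidHom p : G →* G).ker := by
    refine Subgroup.eq_of_le_of_card_ge (Subgroup.zpowers_le.mpr ha) ?_
    rw [IsCyclic.card_powMonoidHom_ker, Nat.card_zpowers, orderOf_eq_prime ha ha1]
    exact Nat.le_of_dvd hp.out.pos (Nat.gcd_dvd_right _ _)
  rw [he]
  exact hb

theorem mem_zpowers_swap {G : Type*} [Group G] [Finite G] {p : ℕ} [Fact p.Prime] {a b : G}
    (ha : a ^ p = 1) (hb : b ∈ Subgroup.zpowers a) (hb1 : b ≠ 1) : a ∈ Subgroup.zpowers b := by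
  have hbp : b ^ p = 1 := by
    obtain ⟨k, rfl⟩ := hb
    rw [← zpow_natCast, ← zpow_mul, mul_comm, zpow_mul, zpow_natCast, ha, one_zpow]
  have ha1 : a ≠ 1 := by
    rintro rfl
    simp at hb
    exact hb1 hb
  have he : Subgroup.zpowers b = Subgroup.zpowers a := by
    refine Subgroup.eq_of_le_of_card_ge (Subgroup.zpowers_le.mpr hb) ?_
    rw [Nat.card_zpowers, Nat.card_zpowers, orderOf_eq_prime ha ha1, orderOf_eq_prime hbp hb1]
  rw [he]
  exact Subgroup.mem_zpowers a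

variable {X : Type u} [Group X] [Finite X] {p : ℕ} [Fact p.Prime] {N : Subgroup X} [N.Normal]

theorem exists_power [IsCyclic N] (g : X) : ∃ r : ℕ, ∀ c ∈ N, ∀ k : ℕ, g ^ k * c * (g ^ k)⁻¹ = c ^ r ^ k := by
  obtain ⟨⟨c0, hc0⟩, hgen⟩ := IsCyclic.exists_generator (α := N)
  obtain ⟨r, hr⟩ := mem_powers_iff_mem_zpowers.mpr (hgen ⟨g * c0 * g⁻¹, ‹N.Normal›.conj_mem c0 hc0 g⟩)
  have hr' : c0 ^ r = g * c0 * g⁻¹ := congrArg Subtype.val hr
  refine ⟨r, fun c hc k => ?_⟩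
  induction k with
  | zero => simp
  | succ k ih =>
    have h1 : ∀ d ∈ N, g * d * g⁻¹ = d ^ r := by
      intro d hd
      obtain ⟨j, hj⟩ := mem_powers_iff_mem_zpowers.mpr (hgen ⟨d, hd⟩)
      have hj' : c0 ^ j = d := congrArg Subtype.val hj
      rw [← hj', ← conj_pow, ← hr', ← pow_mul, ← pow_mul, mul_comm]
    calc g ^ (k + 1) * c * (g ^ (k + 1))⁻¹ = g * (g ^ k * c * (g ^ k)⁻¹) * g⁻¹ := by rw [pow_succ']; group
      _ = c ^ r ^ (k + 1) := by rw [ih, h1 _ (N.pow_mem hc _), ← pow_mul, pow_succ]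

/-- Elements of order `p` of a cyclic normal subgroup are central. -/
theorem commute_of_mem [IsCyclic N] (hX : IsPGroup p X) {c : X} (hc : c ∈ N) (hcp : c ^ p = 1) (g : X) :
    Commute g c := by
  obtain ⟨r, hr⟩ := exists_power (N := N) g
  obtain ⟨k, hk⟩ := hX g
  have h1 := hr c hc (p ^ k)
  rw [hk, one_mul, inv_one, mul_one] at h1
  have h2 : g * c * g⁻¹ = c := by
    have h := hr c hc 1
    rw [pow_one, pow_one] at h
    rw [h]
    by_cases hc1 : c = 1
    · simp [hc1]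
    nth_rw 2 [← pow_one c]
    have hord := orderOf_eq_prime hcp hc1
    rw [pow_eq_pow_iff_modEq, hord, ← ZMod.natCast_eq_natCast_iff]
    nth_rw 1 [← pow_one c] at h1
    rw [pow_eq_pow_iff_modEq, hord, ← ZMod.natCast_eq_natCast_iff, Nat.cast_pow, ZMod.pow_card_pow] at h1
    exact h1.symm
  exact mul_inv_eq_iff_eq_mul.mp h2

theorem commutator_pow_eq_one [IsCyclic N] (hX : IsPGroup p X) (h2 : p ≠ 2) {x c : X} (hx : x ^ p = 1)
    (hc : c ∈ N) : ⁅x, c⁆ ∈ N ∧ ⁅x, c⁆ ^ p = 1 := by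
  obtain ⟨r, hr⟩ := exists_power (N := N) x
  obtain ⟨n, hn⟩ := IsPGroup.iff_orderOf.mp hX c
  have h1 : ⁅x, c⁆ = c ^ ((r : ℤ) - 1) := by
    have h := hr c hc 1
    rw [pow_one, pow_one] at h
    rw [commutatorElement_def, h, zpow_sub, zpow_natCast, zpow_one]
  have h3 : (p : ℤ) ^ n ∣ (r : ℤ) ^ p - 1 := by
    have h := hr c hc p
    rw [hx, one_mul, inv_one, mul_one] at h
    have h4 : c ^ ((r : ℤ) ^ p - 1) = 1 := by
      rw [zpow_sub, zpow_one, ← Nat.cast_pow, zpow_natCast, ← h, mul_inv_cancel]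
    rw [← orderOf_dvd_iff_zpow_eq_one, hn] at h4
    exact_mod_cast h4
  refine ⟨h1 ▸ N.zpow_mem hc _, ?_⟩
  rw [h1, ← zpow_natCast, ← zpow_mul, ← orderOf_dvd_iff_zpow_eq_one, hn]
  exact_mod_cast prime_pow_dvd_mul h2 h3

theorem mul_pow_eq [IsCyclic N] (hX : IsPGroup p X) (h2 : p ≠ 2) {x c : X} (hx : x ^ p = 1) (hc : c ∈ N) :
    (x * c) ^ p = c ^ p := by
  obtain ⟨h1, h1'⟩ := commutator_pow_eq_one hX h2 (show x⁻¹ ^ p = 1 by rw [inv_pow, hx, inv_one]) (N.inv_mem hc)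
  have hd : c * x = x * c * ⁅x⁻¹, c⁻¹⁆⁻¹ := by rw [commutatorElement_def]; group
  rw [Small.mul_pow_class_two hd ((commute_of_mem hX h1 h1' _).symm.inv_left)
      ((commute_of_mem hX h1 h1' _).symm.inv_left) p, hx, one_mul]
  obtain ⟨k, hk⟩ : p ∣ p.choose 2 := by
    have hp := (Fact.out : p.Prime).two_le
    exact (Fact.out : p.Prime).dvd_choose_self two_ne_zero (by omega)
  rw [hk, pow_mul, inv_pow, h1', inv_one, one_pow, mul_one]

/-- The elements of order `p` are the products of powers of one of them outside `N` with central ones in `N`. -/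
theorem exists_decomp [IsCyclic N] [IsCyclic (X ⧸ N)] (hX : IsPGroup p X) (h2 : p ≠ 2) {x b : X} (hx : x ^ p = 1)
    (hxN : x ∉ N) (hb : b ^ p = 1) : ∃ i : ℕ, ∃ c ∈ N, c ^ p = 1 ∧ b = x ^ i * c := by
  have h1 : (b : X ⧸ N) ∈ Subgroup.zpowers (x : X ⧸ N) := by
    refine mem_zpowers_of_isCyclic (p := p) ?_ (fun h => hxN ((QuotientGroup.eq_one_iff x).mp h)) ?_
    · rw [← QuotientGroup.mk_pow, hx, QuotientGroup.mk_one]
    · rw [← QuotientGroup.mk_pow, hb, QuotientGroup.mk_one]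
  obtain ⟨i, hi⟩ := mem_powers_iff_mem_zpowers.mpr h1
  have hc : (x ^ i)⁻¹ * b ∈ N := QuotientGroup.eq.mp (by simpa using hi)
  refine ⟨i, _, hc, ?_, by simp⟩
  have h := mul_pow_eq hX h2 (show (x ^ i) ^ p = 1 by rw [← pow_mul, mul_comm, pow_mul, hx, one_pow]) hc
  rw [mul_inv_cancel_left, hb] at h
  exact h.symm

theorem commute_of_pow_eq_one [IsCyclic N] [IsCyclic (X ⧸ N)] (hX : IsPGroup p X) (h2 : p ≠ 2) {a b : X}
    (ha : a ^ p = 1) (hb : b ^ p = 1) : Commute a b := by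
  by_cases haN : a ∈ N
  · exact (commute_of_mem hX haN ha b).symm
  obtain ⟨i, c, hc, hcp, rfl⟩ := exists_decomp hX h2 ha haN hb
  exact (Commute.self_pow a i).mul_right (commute_of_mem hX hc hcp a)

theorem commutator_mem [IsCyclic N] [IsCyclic (X ⧸ N)] (hX : IsPGroup p X) (h2 : p ≠ 2) {a : X} (ha : a ^ p = 1)
    (g : X) : ⁅a, g⁆ ∈ N ∧ ⁅a, g⁆ ^ p = 1 := by
  have h1 : ⁅a, g⁆ = a * (g * a⁻¹ * g⁻¹) := by rw [commutatorElement_def]; group
  refine ⟨(QuotientGroup.eq_one_iff _).mp ?_, ?_⟩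
  · let _ : CommGroup (X ⧸ N) := IsCyclic.commGroup
    rw [h1]
    simp [mul_comm]
  · have h3 : (g * a⁻¹ * g⁻¹) ^ p = 1 := by rw [conj_pow, inv_pow, ha]; simp
    rw [h1, (commute_of_pow_eq_one (N := N) hX h2 ha h3).mul_pow, ha, h3, one_mul]

/-- A noncentral element of order `p` and a nontrivial commutator of it generate all elements of order `p`. -/
theorem exists_structure [IsCyclic N] [IsCyclic (X ⧸ N)] (hX : IsPGroup p X) (h2 : p ≠ 2) {a g : X}
    (ha : a ^ p = 1) (h : ⁅a, g⁆ ≠ 1) :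
    ⁅a, g⁆ ^ p = 1 ∧ (∀ y, Commute y ⁅a, g⁆) ∧
      (∀ b y : X, b ^ p = 1 → ⁅b, y⁆ ∈ Subgroup.zpowers ⁅a, g⁆) ∧
      ∀ b : X, b ^ p = 1 → b ∈ Subgroup.closure ({a, ⁅a, g⁆} : Set X) := by
  obtain ⟨hzN, hzp⟩ := commutator_mem (N := N) hX h2 ha g
  have hZ : ∀ c ∈ N, c ^ p = 1 → c ∈ Subgroup.zpowers ⁅a, g⁆ := by
    intro c hc hcp
    have hne : (⟨_, hzN⟩ : N) ≠ 1 := fun e => h (congrArg Subtype.val e)
    obtain ⟨k, hk⟩ := mem_zpowers_of_isCyclic (a := (⟨_, hzN⟩ : N)) (b := ⟨c, hc⟩) (Subtype.ext hzp) hne (Subtype.ext hcp)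
    exact ⟨k, by simpa using congrArg Subtype.val hk⟩
  have haN : a ∉ N := fun haN => h (commutatorElement_eq_one_iff_commute.mpr (commute_of_mem hX haN ha g).symm)
  refine ⟨hzp, fun y => commute_of_mem hX hzN hzp y, fun b y hb => ?_, fun b hb => ?_⟩
  · exact hZ _ (commutator_mem (N := N) hX h2 hb y).1 (commutator_mem (N := N) hX h2 hb y).2
  · obtain ⟨i, c, hc, hcp, rfl⟩ := exists_decomp hX h2 ha haN hb
    refine mul_mem (pow_mem (Subgroup.subset_closure (Set.mem_insert _ _)) i) ?_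
    exact Subgroup.zpowers_le.mpr (Subgroup.subset_closure (Set.mem_insert_of_mem a (Set.mem_singleton ⁅a, g⁆))) (hZ c hc hcp)

/-- Two transvections with different centres generate the inversion of a plane. -/
theorem exists_inversion {E : Type u} [Group E] [Finite E] (hcomm : ∀ a b : E, a * b = b * a)
    (hexp : ∀ a : E, a ^ p = 1) (H : Subgroup (MulAut E)) {u α : MulAut E} (hu : u ∈ H) (hα : α ∈ H) {z0 : E}
    (hgen : Subgroup.closure ({z0, α z0} : Set E) = ⊤) (hfix : u z0 = z0)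
    (hU : ∀ y, u y * y⁻¹ ∈ Subgroup.zpowers z0) (hne : u ≠ 1) : ∃ τ ∈ H, ∀ y, τ y = y⁻¹ := by
  set x := α z0 with hx
  have hext : ∀ f f' : MulAut E, f z0 = f' z0 → f x = f' x → f = f' := by
    intro f f' h1 h2
    refine MulEquiv.ext fun y => ?_
    have hy : y ∈ Subgroup.closure ({z0, x} : Set E) := hgen ▸ Subgroup.mem_top y
    exact (Subgroup.closure_le ((f : E →* E).eqLocus (f' : E →* E))).mpr
      (by rintro _ (rfl | rfl); exacts [h1, h2]) hy
  set z := u x * x⁻¹ with hz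
  have hz1 : z ≠ 1 := fun e => hne (hext _ _ hfix (mul_inv_eq_one.mp e))
  have hz0 : z0 ∈ Subgroup.zpowers z := mem_zpowers_swap (hexp z0) (hU x) hz1
  have huz : u z = z := by
    obtain ⟨k, hk⟩ : z ∈ Subgroup.zpowers z0 := hU x
    rw [← hk]
    exact (map_zpow u z0 k).trans (congrArg (· ^ k) hfix)
  have hux : u x = z * x := by rw [hz, inv_mul_cancel_right]
  have hext' : ∀ f f' : MulAut E, f z = f' z → f x = f' x → f = f' := by
    intro f f' h1 h2
    refine hext f f' ?_ h2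
    obtain ⟨k, hk⟩ := hz0
    rw [← hk]
    exact (map_zpow f z k).trans ((congrArg (· ^ k) h1).trans (map_zpow f' z k).symm)
  set v := α * u * α⁻¹ with hv
  have hvH : v ∈ H := mul_mem (mul_mem hα hu) (inv_mem hα)
  have hvx : v x = x := by simp [hv, hx, hfix]
  have hvz : v z * z⁻¹ ∈ Subgroup.zpowers x := by
    obtain ⟨k, hk⟩ := hU (α⁻¹ z)
    refine ⟨k, ?_⟩
    have h1 := congrArg α hk
    simp only [map_zpow, map_mul, map_inv, MulAut.apply_inv_self] at h1
    exact h1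
  have hvz1 : v z * z⁻¹ ≠ 1 := fun e => hne (by
    have : v = 1 := hext' _ _ (mul_inv_eq_one.mp e) hvx
    rwa [hv, conj_eq_one_iff] at this)
  obtain ⟨m, hm⟩ := mem_powers_iff_mem_zpowers.mpr
    (mem_zpowers_swap (hexp x) hvz hvz1)
  obtain ⟨l, hl⟩ := hvz
  have hpow : ∀ k : ℕ, (v ^ k) z = (v z * z⁻¹) ^ k * z := by
    intro k
    induction k with
    | zero => simp
    | succ k ih =>
      have h1 : v ((v z * z⁻¹) ^ k) = (v z * z⁻¹) ^ k := by
        rw [map_pow, ← hl]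
        exact congrArg (· ^ k) ((map_zpow v x l).trans (congrArg (· ^ l) hvx))
      rw [pow_succ', MulAut.mul_apply, ih, map_mul, h1, pow_succ]
      simp [mul_assoc]
  have hvmx : ∀ k : ℕ, (v ^ k) x = x := by
    intro k
    induction k with
    | zero => simp
    | succ k ih => rw [pow_succ, MulAut.mul_apply, hvx, ih]
  have hmz : (v ^ m) z = x * z := by rw [hpow]; exact congrArg (· * z) hm
  have hix : (v ^ m)⁻¹ x = x := (v ^ m).injective (by rw [MulAut.apply_inv_self, hvmx])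
  have hiz : (v ^ m)⁻¹ z = x⁻¹ * z := (v ^ m).injective (by
    rw [MulAut.apply_inv_self, map_mul, map_inv, hvmx, hmz, inv_mul_cancel_left])
  set w := u * (v ^ m)⁻¹ * u with hw
  have hwx : w x = z := by
    simp only [hw, MulAut.mul_apply]
    rw [hux, map_mul, hix, hiz, hcomm x⁻¹ z, inv_mul_cancel_right, huz]
  have hwz : w z = x⁻¹ := by
    simp only [hw, MulAut.mul_apply]
    rw [huz, hiz, map_mul, map_inv, huz, hux, mul_inv_rev, inv_mul_cancel_right]
  refine ⟨w * w, mul_mem (mul_mem (mul_mem hu (inv_mem (pow_mem hvH m))) hu)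
    (mul_mem (mul_mem hu (inv_mem (pow_mem hvH m))) hu), fun y => ?_⟩
  let ι : MulAut E :=
    { toFun := fun a => a⁻¹, invFun := fun a => a⁻¹, left_inv := inv_inv, right_inv := inv_inv,
      map_mul' := fun a b => by rw [mul_inv_rev, hcomm] }
  refine congrArg (fun f : MulAut E => f y) (hext' (w * w) ι ?_ ?_)
  · rw [MulAut.mul_apply, hwz, map_inv, hwx]; rfl
  · rw [MulAut.mul_apply, hwx, hwz]; rfl


/-- Two transvections generate an element inverting the centre of the first and commuting with it. -/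
theorem exists_semi_inversion {E : Type u} [Group E] [Finite E] (hcomm : ∀ a b : E, a * b = b * a)
    (hexp : ∀ a : E, a ^ p = 1) (H : Subgroup (MulAut E)) {u α : MulAut E} (hu : u ∈ H) (hα : α ∈ H) {z0 : E}
    (hfix : u z0 = z0) (hU : ∀ y, u y * y⁻¹ ∈ Subgroup.zpowers z0) (h1 : u (α z0) ≠ α z0)
    (h2 : u (α⁻¹ z0) ≠ α⁻¹ z0) : ∃ τ ∈ H, τ z0 = z0⁻¹ ∧ ∀ c, τ (u c) = u (τ c) := by
  set x := α z0 with hx
  set z := u x * x⁻¹ with hz
  have hz1 : z ≠ 1 := fun e => h1 (mul_inv_eq_one.mp e)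
  have hz0 : z0 ∈ Subgroup.zpowers z := mem_zpowers_swap (hexp z0) (hU x) hz1
  have huz : u z = z := by
    obtain ⟨k, hk⟩ : z ∈ Subgroup.zpowers z0 := hU x
    rw [← hk]
    exact (map_zpow u z0 k).trans (congrArg (· ^ k) hfix)
  have hux : u x = z * x := by rw [hz, inv_mul_cancel_right]
  clear_value z
  set v := α * u * α⁻¹ with hv
  have hvH : v ∈ H := mul_mem (mul_mem hα hu) (inv_mem hα)
  have hvx : v x = x := by simp [hv, hx, hfix]
  have hvU : ∀ y, v y * y⁻¹ ∈ Subgroup.zpowers x := by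
    intro y
    obtain ⟨k, hk⟩ := hU (α⁻¹ y)
    refine ⟨k, ?_⟩
    have h := congrArg α hk
    simp only [map_zpow, map_mul, map_inv, MulAut.apply_inv_self] at h
    exact h
  have hvz1 : v z * z⁻¹ ≠ 1 := by
    intro e
    have hvz0 : v z0 = z0 := by
      obtain ⟨k, hk⟩ := hz0
      rw [← hk]
      exact (map_zpow v z k).trans (congrArg (· ^ k) (mul_inv_eq_one.mp e))
    refine h2 ?_
    have h := congrArg (α⁻¹ : MulAut E) hvz0
    simpa [hv] using h
  obtain ⟨m, hm⟩ := mem_powers_iff_mem_zpowers.mpr (mem_zpowers_swap (hexp x) (hvU z) hvz1)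
  have hvmx : ∀ k : ℕ, (v ^ k) x = x := by
    intro k
    induction k with
    | zero => simp
    | succ k ih => rw [pow_succ, MulAut.mul_apply, hvx, ih]
  have hpow : ∀ (k : ℕ) (y : E), (v ^ k) y = (v y * y⁻¹) ^ k * y := by
    intro k y
    induction k with
    | zero => simp
    | succ k ih =>
      have h' : v ((v y * y⁻¹) ^ k) = (v y * y⁻¹) ^ k := by
        obtain ⟨l, hl⟩ := hvU y
        rw [map_pow, ← hl]
        exact congrArg (· ^ k) ((map_zpow v x l).trans (congrArg (· ^ l) hvx))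
      rw [pow_succ', MulAut.mul_apply, ih, map_mul, h', pow_succ]
      simp [mul_assoc]
  have hmz : (v ^ m) z = x * z := by rw [hpow]; exact congrArg (· * z) hm
  have hix : (v ^ m)⁻¹ x = x := (v ^ m).injective (by rw [MulAut.apply_inv_self, hvmx])
  have hiz : (v ^ m)⁻¹ z = x⁻¹ * z := (v ^ m).injective (by
    rw [MulAut.apply_inv_self, map_mul, map_inv, hvmx, hmz, inv_mul_cancel_left])
  set w := u * (v ^ m)⁻¹ * u with hw
  have hwx : w x = z := by
    simp only [hw, MulAut.mul_apply]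
    rw [hux, map_mul, hix, hiz, hcomm x⁻¹ z, inv_mul_cancel_right, huz]
  have hwz : w z = x⁻¹ := by
    simp only [hw, MulAut.mul_apply]
    rw [huz, hiz, map_mul, map_inv, huz, hux, mul_inv_rev, inv_mul_cancel_right]
  have hτx : (w * w) x = x⁻¹ := by rw [MulAut.mul_apply, hwx, hwz]
  have hτz : (w * w) z = z⁻¹ := by rw [MulAut.mul_apply, hwz, map_inv, hwx]
  have hwH : w ∈ H := mul_mem (mul_mem hu (inv_mem (pow_mem hvH m))) hu
  refine ⟨w * w, mul_mem hwH hwH, ?_, fun c => ?_⟩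
  · obtain ⟨k, hk⟩ := hz0
    rw [← hk]
    exact (map_zpow (w * w) z k).trans ((congrArg (· ^ k) hτz).trans (inv_zpow z k))
  obtain ⟨f, hf⟩ : u c * c⁻¹ ∈ Subgroup.zpowers z :=
    (Subgroup.zpowers_le.mpr hz0 : Subgroup.zpowers z0 ≤ Subgroup.zpowers z) (hU c)
  obtain ⟨g, hg⟩ : (v ^ m) c * c⁻¹ ∈ Subgroup.zpowers x := by
    rw [hpow, mul_inv_cancel_right]
    exact pow_mem (hvU c) m
  let _ : CommGroup E := { ‹Group E› with mul_comm := hcomm }
  have huc : u c = z ^ f * c := eq_mul_of_mul_inv_eq hf.symm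
  have hvc : (v ^ m) c = x ^ g * c := eq_mul_of_mul_inv_eq hg.symm
  set c0 := c * (x ^ f)⁻¹ * (z ^ g)⁻¹ with hc0
  have hu0 : u c0 = c0 := by
    rw [hc0, map_mul, map_mul, map_inv, map_inv, map_zpow, map_zpow, huc, hux, huz, mul_zpow, mul_inv_rev,
      mul_comm (x ^ f)⁻¹ (z ^ f)⁻¹, ← mul_assoc, mul_comm (z ^ f) c, mul_inv_cancel_right]
  have hv0 : (v ^ m) c0 = c0 := by
    rw [hc0, map_mul, map_mul, map_inv, map_inv, map_zpow, map_zpow, hvc, hvmx, hmz, mul_zpow, mul_inv]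
    calc x ^ g * c * (x ^ f)⁻¹ * ((x ^ g)⁻¹ * (z ^ g)⁻¹)
        = x ^ g * (x ^ g)⁻¹ * (c * (x ^ f)⁻¹ * (z ^ g)⁻¹) := by simp only [mul_assoc, mul_comm, mul_left_comm]
      _ = c * (x ^ f)⁻¹ * (z ^ g)⁻¹ := by rw [mul_inv_cancel, one_mul]
  have hw0 : w c0 = c0 := by
    have hi : (v ^ m)⁻¹ c0 = c0 := (v ^ m).injective (by rw [MulAut.apply_inv_self, hv0])
    simp only [hw, MulAut.mul_apply]
    rw [hu0, hi, hu0]
  have hτ0 : (w * w) c0 = c0 := by rw [MulAut.mul_apply, hw0, hw0]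
  have hcdec : c = c0 * z ^ g * x ^ f := by rw [hc0]; group
  have hτc : (w * w) c = c0 * (z ^ g)⁻¹ * (x ^ f)⁻¹ := by
    rw [hcdec, map_mul (w * w), map_mul (w * w), map_zpow, map_zpow, hτ0, hτz, hτx, inv_zpow, inv_zpow]
  rw [huc, map_mul (w * w), map_zpow, hτz, hτc, map_mul, map_mul, map_inv, map_inv, map_zpow, map_zpow, hu0, huz,
    hux, mul_zpow, mul_inv, inv_zpow]
  simp only [mul_assoc, mul_comm, mul_left_comm]

end CfsgLib.Metacyclic
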