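import Mathlib
import Cfsg.Prelude.Def_Classical

/-! Counting zeros of the standard quadratic forms. -/

set_option autoImplicit false

namespace CfsgLib.QuadCount

variable {F : Type*} [Field F] [Fintype F] [DecidableEq F]

/-- Adding a hyperbolic plane. -/
theorem card_hyp {W : Type*} [Fintype W] (f : W → F) (c : F) :
    Nat.card {p : (F × F) × W // p.1.1 * p.1.2 + f p.2 = c} =
      Fintype.card F * Nat.card {w : W // f w = c} + (Fintype.card F - 1) * Fintype.card W := by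
  classical
  let e : {p : (F × F) × W // p.1.1 * p.1.2 + f p.2 = c} ≃
      (F × {w : W // f w = c}) ⊕ ({x : F // x ≠ 0} × W) :=
    { toFun := fun p => if h : p.1.1.1 = 0
        then Sum.inl (p.1.1.2, ⟨p.1.2, by have := p.2; rw [h, zero_mul, zero_add] at this; exact this⟩)
        else Sum.inr (⟨p.1.1.1, h⟩, p.1.2)
      invFun := Sum.elim (fun a => ⟨((0, a.1), a.2.1), by simp [a.2.2]⟩)
        (fun a => ⟨((a.1.1, (c - f a.2) / a.1.1), a.2), by
          rw [mul_div_cancel₀ _ a.1.2, sub_add_cancel]⟩)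
      left_inv := fun p => by
        obtain ⟨⟨⟨x, y⟩, w⟩, hp⟩ := p
        by_cases h : x = 0
        · simp [h]
        · simp only [h, dite_false, Sum.elim_inr]
          have e : (c - f w) / x = y := by rw [← hp, add_sub_cancel_right, mul_div_cancel_left₀ _ h]
          simp [e]
      right_inv := fun a => by
        rcases a with ⟨y, w⟩ | ⟨⟨x, hx⟩, w⟩
        · simp
        · simp [hx] }
  rw [Nat.card_congr e, Nat.card_sum, Nat.card_prod, Nat.card_prod, Nat.card_eq_fintype_card (α := F),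
    Nat.card_eq_fintype_card (α := W)]
  congr 2
  rw [Nat.card_eq_fintype_card, Fintype.card_subtype_compl, Fintype.card_subtype_eq]

/-- Splitting off the first hyperbolic pair of coordinates. -/
def splitHyp (m : ℕ) (F : Type*) : (Fin (m + 1) ⊕ Fin (m + 1) → F) ≃ (F × F) × (Fin m ⊕ Fin m → F) where
  toFun v := ((v (.inl 0), v (.inr 0)), Sum.elim (fun i => v (.inl i.succ)) (fun i => v (.inr i.succ)))
  invFun p := Sum.elim (Fin.cons p.1.1 fun i => p.2 (.inl i)) (Fin.cons p.1.2 fun i => p.2 (.inr i))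
  left_inv v := by
    funext s
    rcases s with i | i <;> refine Fin.cases ?_ (fun j => ?_) i <;> simp
  right_inv p := by
    refine Prod.ext (by simp) (funext fun s => ?_)
    rcases s with i | i <;> simp

/-- Zeros of a form `hyperbolic + g` in `2m + d` variables. -/
theorem card_zeros {D : Type*} [Fintype D] (g : D → F) (m : ℕ) :
    (Nat.card {p : (Fin m ⊕ Fin m → F) × D // (∑ i, p.1 (.inl i) * p.1 (.inr i)) + g p.2 = 0} : ℤ) =
      (Fintype.card F : ℤ) ^ m * Nat.card {d : D // g d = 0} +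
        ((Fintype.card F : ℤ) ^ m - 1) * (Fintype.card F : ℤ) ^ m *
          Fintype.card D / (Fintype.card F : ℤ) := by
  classical
  set q := Fintype.card F with hq
  have hq1 : 1 < q := Fintype.one_lt_card
  suffices h : (q : ℤ) * Nat.card {p : (Fin m ⊕ Fin m → F) × D //
      (∑ i, p.1 (.inl i) * p.1 (.inr i)) + g p.2 = 0} =
      (q : ℤ) * ((q : ℤ) ^ m * Nat.card {d : D // g d = 0}) +
        ((q : ℤ) ^ m - 1) * (q : ℤ) ^ m * Fintype.card D by
    have hd : ((q : ℤ) ^ m - 1) * (q : ℤ) ^ m * Fintype.card D =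
        (q : ℤ) * ((Nat.card {p : (Fin m ⊕ Fin m → F) × D //
          (∑ i, p.1 (.inl i) * p.1 (.inr i)) + g p.2 = 0} : ℤ) -
            (q : ℤ) ^ m * Nat.card {d : D // g d = 0}) := by linear_combination -h
    rw [hd, Int.mul_ediv_cancel_left _ (by exact_mod_cast (by omega : q ≠ 0))]
    ring
  induction m with
  | zero =>
    have e : {p : (Fin 0 ⊕ Fin 0 → F) × D // (∑ i, p.1 (.inl i) * p.1 (.inr i)) + g p.2 = 0} ≃
        {d : D // g d = 0} :=
      { toFun := fun p => ⟨p.1.2, by simpa using p.2⟩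
        invFun := fun d => ⟨(fun s => s.elim Fin.elim0 Fin.elim0, d.1), by simpa using d.2⟩
        left_inv := fun p => by
          apply Subtype.ext
          exact Prod.ext (funext fun s => s.elim (fun i => i.elim0) (fun i => i.elim0)) rfl
        right_inv := fun d => rfl }
    rw [Nat.card_congr e]
    simp
  | succ m ih =>
    let f : (Fin m ⊕ Fin m → F) × D → F := fun p => (∑ i, p.1 (.inl i) * p.1 (.inr i)) + g p.2
    have e : {p : (Fin (m + 1) ⊕ Fin (m + 1) → F) × D //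
          (∑ i, p.1 (.inl i) * p.1 (.inr i)) + g p.2 = 0} ≃
        {p : (F × F) × ((Fin m ⊕ Fin m → F) × D) // p.1.1 * p.1.2 + f p.2 = 0} :=
      (((splitHyp m F).prodCongr (Equiv.refl D)).trans (Equiv.prodAssoc _ _ _)).subtypeEquiv fun p => by
        simp [splitHyp, f, Fin.sum_univ_succ, add_assoc]
    rw [Nat.card_congr e, card_hyp, ← hq, Fintype.card_prod, Fintype.card_fun, Fintype.card_sum,
      Fintype.card_fin, ← hq]
    push_cast [Nat.cast_sub (show 1 ≤ q by omega)]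
    linear_combination (q : ℤ) * ih

/-- Zeros of the plus-type form. -/
theorem card_plus (m : ℕ) (hm : 1 ≤ m) :
    Nat.card {v : Fin m ⊕ Fin m → F // Cfsg.quadFormPlus m F v = 0} =
      Fintype.card F ^ (2 * m - 1) + Fintype.card F ^ m - Fintype.card F ^ (m - 1) := by
  classical
  set q := Fintype.card F with hq
  have hq1 : 1 < q := Fintype.one_lt_card
  have h := card_zeros (F := F) (fun _ : Unit => (0 : F)) m
  have e : {p : (Fin m ⊕ Fin m → F) × Unit //
        (∑ i, p.1 (.inl i) * p.1 (.inr i)) + (fun _ : Unit => (0 : F)) p.2 = 0} ≃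
      {v : Fin m ⊕ Fin m → F // Cfsg.quadFormPlus m F v = 0} :=
    (Equiv.prodPUnit _).subtypeEquiv fun p => by simp [Cfsg.quadFormPlus]
  rw [Nat.card_congr e] at h
  rw [Nat.card_eq_fintype_card (α := {d : Unit // (0 : F) = 0}), Fintype.card_subtype,
    Finset.filter_true_of_mem (fun _ _ => rfl), Finset.card_univ, Fintype.card_unit, ← hq] at h
  simp only [Nat.cast_one, mul_one] at h
  obtain ⟨k, rfl⟩ := Nat.exists_eq_add_of_le hm
  rw [show 2 * (1 + k) - 1 = 2 * k + 1 by omega, show 1 + k - 1 = k by omega]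
  have hle : q ^ k ≤ q ^ (2 * k + 1) + q ^ (1 + k) :=
    (Nat.pow_le_pow_right (by omega) (by omega)).trans (Nat.le_add_left _ _)
  zify [hle]
  rw [h, show ((q : ℤ) ^ (1 + k) - 1) * (q : ℤ) ^ (1 + k) = (q : ℤ) * (((q : ℤ) ^ (1 + k) - 1) * (q : ℤ) ^ k) by ring,
    Int.mul_ediv_cancel_left _ (by exact_mod_cast (by omega : q ≠ 0))]
  ring

/-- Zeros of the minus-type form. -/
theorem card_minus (m : ℕ) (hm : 1 ≤ m) (a b : F)
    (hab : ∀ z₁ z₂ : F, z₁ ^ 2 + a * z₁ * z₂ + b * z₂ ^ 2 = 0 → z₁ = 0 ∧ z₂ = 0) :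
    Nat.card {v : (Fin (m - 1) ⊕ Fin (m - 1)) ⊕ Fin 2 → F // Cfsg.quadFormMinus (m - 1) F a b v = 0} =
      Fintype.card F ^ (2 * m - 1) + Fintype.card F ^ (m - 1) - Fintype.card F ^ m := by
  classical
  set q := Fintype.card F with hq
  have hq1 : 1 < q := Fintype.one_lt_card
  let g : (Fin 2 → F) → F := fun d => d 0 ^ 2 + a * d 0 * d 1 + b * d 1 ^ 2
  have h := card_zeros g (m - 1)
  have e : {p : (Fin (m - 1) ⊕ Fin (m - 1) → F) × (Fin 2 → F) //
        (∑ i, p.1 (.inl i) * p.1 (.inr i)) + g p.2 = 0} ≃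
      {v : (Fin (m - 1) ⊕ Fin (m - 1)) ⊕ Fin 2 → F // Cfsg.quadFormMinus (m - 1) F a b v = 0} :=
    (Equiv.sumArrowEquivProdArrow _ _ _).symm.subtypeEquiv fun p => by
      simp [Cfsg.quadFormMinus, g, Equiv.sumArrowEquivProdArrow]
  have h0 : Nat.card {d : Fin 2 → F // g d = 0} = 1 := by
    rw [Nat.card_eq_one_iff_unique]
    refine ⟨⟨fun x y => Subtype.ext (funext fun i => ?_)⟩, ⟨⟨0, by simp [g]⟩⟩⟩
    obtain ⟨hx0, hx1⟩ := hab _ _ x.2
    obtain ⟨hy0, hy1⟩ := hab _ _ y.2
    fin_cases i <;> simp [hx0, hx1, hy0, hy1]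
  rw [Nat.card_congr e, h0, Fintype.card_fun, Fintype.card_fin, ← hq] at h
  obtain ⟨k, rfl⟩ := Nat.exists_eq_add_of_le hm
  simp only [show 1 + k - 1 = k by omega] at h ⊢
  rw [show 2 * (1 + k) - 1 = 2 * k + 1 by omega]
  have hle : q ^ (1 + k) ≤ q ^ (2 * k + 1) + q ^ k :=
    (Nat.pow_le_pow_right (by omega) (by omega)).trans (Nat.le_add_right _ _)
  zify [hle]
  rw [h]
  push_cast
  rw [show ((q : ℤ) ^ k - 1) * (q : ℤ) ^ k * (q : ℤ) ^ 2 = (q : ℤ) * (((q : ℤ) ^ k - 1) * (q : ℤ) ^ k * (q : ℤ)) by ring,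
    Int.mul_ediv_cancel_left _ (by exact_mod_cast (by omega : q ≠ 0))]
  ring

/-- Zeros of the odd-dimensional form. -/
theorem card_odd (m : ℕ) :
    Nat.card {v : Unit ⊕ (Fin m ⊕ Fin m) → F // Cfsg.quadFormOdd m F v = 0} =
      Fintype.card F ^ (2 * m) := by
  classical
  set q := Fintype.card F with hq
  have hq1 : 1 < q := Fintype.one_lt_card
  let g : (Unit → F) → F := fun d => d () ^ 2
  have h := card_zeros g m
  have e : {p : (Fin m ⊕ Fin m → F) × (Unit → F) //
        (∑ i, p.1 (.inl i) * p.1 (.inr i)) + g p.2 = 0} ≃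
      {v : Unit ⊕ (Fin m ⊕ Fin m) → F // Cfsg.quadFormOdd m F v = 0} :=
    ((Equiv.prodComm _ _).trans (Equiv.sumArrowEquivProdArrow _ _ _).symm).subtypeEquiv fun p => by
      simp [Cfsg.quadFormOdd, g, Equiv.sumArrowEquivProdArrow]; rw [add_comm]
  have h0 : Nat.card {d : Unit → F // g d = 0} = 1 := by
    rw [Nat.card_eq_one_iff_unique]
    refine ⟨⟨fun x y => Subtype.ext (funext fun i => ?_)⟩, ⟨⟨0, by simp [g]⟩⟩⟩
    have hx := pow_eq_zero_iff (n := 2) (by norm_num) |>.mp x.2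
    have hy := pow_eq_zero_iff (n := 2) (by norm_num) |>.mp y.2
    exact hx.trans hy.symm
  rw [Nat.card_congr e, h0, Fintype.card_fun, Fintype.card_unit, pow_one, ← hq] at h
  zify
  rw [h]
  push_cast
  rw [show ((q : ℤ) ^ m - 1) * (q : ℤ) ^ m * (q : ℤ) = (q : ℤ) * (((q : ℤ) ^ m - 1) * (q : ℤ) ^ m) by ring,
    Int.mul_ediv_cancel_left _ (by exact_mod_cast (by omega : q ≠ 0))]
  ring

end CfsgLib.QuadCount
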