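import Mathlib
import Cfsg.Prelude.Def_Classical
import Cfsg.Agent.Lib.WittExtension
import Cfsg.Agent.Lib.FiniteForms.Witt
import Cfsg.Agent.Lib.QuadCount

/-! Orders of the orthogonal groups of the standard forms. -/

set_option autoImplicit false

namespace CfsgLib.OrthOrder

open QuadraticMap CfsgLib.WittExtension CfsgLib.FiniteForms

variable {F : Type*} [Field F] {W : Type*} [AddCommGroup W] [Module F W]

/-- A hyperbolic plane added to a quadratic form. -/
def Qh (Q : QuadraticForm F W) : QuadraticForm F ((F × F) × W) :=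
  QuadraticMap.prod (QuadraticMap.linMulLin (LinearMap.fst F F F) (LinearMap.snd F F F)) Q

theorem Qh_apply (Q : QuadraticForm F W) (v : (F × F) × W) : Qh Q v = v.1.1 * v.1.2 + Q v.2 := by
  simp [Qh]

theorem polar_Qh (Q : QuadraticForm F W) (u v : (F × F) × W) :
    polar (Qh Q) u v = u.1.1 * v.1.2 + v.1.1 * u.1.2 + polar Q u.2 v.2 := by
  simp [polar, Qh_apply]; ring

theorem Qh_nondeg {Q : QuadraticForm F W} (hQ : PolarNondeg Q) : PolarNondeg (Qh Q) := by
  intro u h
  have h1 := h ((1, 0), 0)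
  have h2 := h ((0, 1), 0)
  simp [polar_Qh, polar_zero_right] at h1 h2
  have h3 : u.2 = 0 := hQ _ fun y => by simpa [polar_Qh, h1, h2] using h ((0, 0), y)
  exact Prod.ext (Prod.ext h2 h1) h3

theorem nondegenerate_of {V : Type*} [AddCommGroup V] [Module F V] {Q : QuadraticForm F V}
    (hQ : PolarNondeg Q) : (polarBilin Q).Nondegenerate :=
  ⟨fun x h => hQ x h, fun y h => hQ y fun x => (polar_comm Q y x).trans (h x)⟩

theorem polar_map {V : Type*} [AddCommGroup V] [Module F V] {Q : QuadraticForm F V} {g : V ≃ₗ[F] V}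
    (hg : g ∈ quadIso Q) (u v : V) : polar Q (g u) (g v) = polar Q u v := by
  have : ∀ x, Q (g x) = Q x := hg
  simp only [polar, ← _root_.map_add, this]

/-- Isometric forms have equipotent isometry groups. -/
theorem card_quadIso_congr {V : Type*} [AddCommGroup V] [Module F V] (Q₁ : QuadraticForm F W)
    (Q₂ : QuadraticForm F V) (e : W ≃ₗ[F] V) (h : ∀ w, Q₂ (e w) = Q₁ w) :
    Nat.card (quadIso Q₁) = Nat.card (quadIso Q₂) := by
  have h' : ∀ v, Q₁ (e.symm v) = Q₂ v := fun v => by rw [← h, e.apply_symm_apply]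
  exact Nat.card_congr
    { toFun := fun g => ⟨e.symm.trans (g.1.trans e), fun v => by simp [h, g.2 _, h']⟩
      invFun := fun g => ⟨e.trans (g.1.trans e.symm), fun v => by simp [h', g.2 _, h]⟩
      left_inv := fun g => by ext; simp
      right_inv := fun g => by ext; simp }

theorem pair_transitive [FiniteDimensional F W] {Q : QuadraticForm F W} (hQ : PolarNondeg Q)
    {e f e' f' : W} (he : Q e = 0) (hf : Q f = 0) (hef : polar Q e f = 1)
    (he' : Q e' = 0) (hf' : Q f' = 0) (hef' : polar Q e' f' = 1) :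
    ∃ g ∈ quadIso Q, g e = e' ∧ g f = f' := by
  have key : ∀ e f : W, Q e = 0 → Q f = 0 → polar Q e f = 1 → ∀ a b : F,
      Q (a • e + b • f) = a * b ∧ polar Q e (a • e + b • f) = b ∧ polar Q f (a • e + b • f) = a := by
    intro e f he hf hef a b
    refine ⟨?_, ?_, ?_⟩
    · rw [QuadraticMap.map_add Q, QuadraticMap.map_smul, QuadraticMap.map_smul, he, hf,
        polar_smul_left, polar_smul_right, hef]
      simp [smul_eq_mul]
    · rw [polar_add_right, polar_smul_right, polar_smul_right, hef, polar_self, he]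
      simp
    · rw [polar_add_right, polar_smul_right, polar_smul_right, polar_comm Q f e, hef, polar_self, hf]
      simp
  let L : W → W → (F × F) →ₗ[F] W := fun e f =>
    (LinearMap.fst F F F).smulRight e + (LinearMap.snd F F F).smulRight f
  have hL : ∀ e f : W, ∀ p : F × F, L e f p = p.1 • e + p.2 • f := fun e f p => rfl
  have inj : ∀ e f : W, Q e = 0 → Q f = 0 → polar Q e f = 1 → Function.Injective (L e f) := by
    intro e f he hf hef
    rw [injective_iff_map_eq_zero]
    intro p hp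
    rw [hL] at hp
    obtain ⟨-, h1, h2⟩ := key e f he hf hef p.1 p.2
    rw [hp, polar_zero_right] at h1 h2
    exact Prod.ext h2.symm h1.symm
  let R := LinearEquiv.ofInjective (L e f) (inj e f he hf hef)
  obtain ⟨g, hg, hgX⟩ := quad_extend Q (nondegenerate_of hQ) (LinearMap.range (L e f))
    ((L e' f').comp R.symm.toLinearMap) ((inj e' f' he' hf' hef').comp R.symm.injective)
    (fun x => by
      obtain ⟨p, rfl⟩ := R.surjective x
      show Q (L e' f' (R.symm (R p))) = Q (L e f p)
      rw [R.symm_apply_apply, hL, hL, (key e' f' he' hf' hef' _ _).1, (key e f he hf hef _ _).1])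
  have hgp : ∀ p, g (L e f p) = L e' f' p := fun p => by
    have := hgX (R p)
    simpa [R] using this
  exact ⟨g, hg, by simpa [hL] using hgp (1, 0), by simpa [hL] using hgp (0, 1)⟩

variable [Fintype F] [FiniteDimensional F W]

/-- The recursion for the order of an orthogonal group. -/
theorem card_step {Q : QuadraticForm F W} (hQ : PolarNondeg Q) :
    Nat.card (quadIso (Qh Q)) = (Nat.card {v // Qh Q v = 0} - 1) *
      Fintype.card F ^ Module.finrank F W * Nat.card (quadIso Q) := by
  classical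
  haveI := Module.finite_of_finite F (M := W)
  haveI : Finite ((F × F) × W) := inferInstance
  haveI := Fintype.ofFinite W
  haveI : Finite (((F × F) × W) ≃ₗ[F] ((F × F) × W)) :=
    Finite.of_injective (fun g => (g : (F × F) × W → (F × F) × W)) DFunLike.coe_injective
  have hQh := Qh_nondeg hQ
  set e₀ : (F × F) × W := ((1, 0), 0) with he₀
  set f₀ : (F × F) × W := ((0, 1), 0) with hf₀
  have he : Qh Q e₀ = 0 := by simp [e₀, Qh_apply]
  have hf : Qh Q f₀ = 0 := by simp [f₀, Qh_apply]
  have hef : polar (Qh Q) e₀ f₀ = 1 := by simp [e₀, f₀, polar_Qh, polar_zero_right]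
  let P := {p : ((F × F) × W) × ((F × F) × W) //
    Qh Q p.1 = 0 ∧ Qh Q p.2 = 0 ∧ polar (Qh Q) p.1 p.2 = 1}
  let Φ : quadIso (Qh Q) → P := fun g => ⟨(g.1 e₀, g.1 f₀), by rw [g.2]; exact he,
    by rw [g.2]; exact hf, by rw [polar_map g.2]; exact hef⟩
  have hfib : ∀ p : P, Nat.card {g // Φ g = p} = Nat.card (quadIso Q) := by
    intro p
    obtain ⟨g₀, hg₀, hge, hgf⟩ := pair_transitive hQh he hf hef p.2.1 p.2.2.1 p.2.2.2
    have e1 : {g // Φ g = p} ≃ {g : quadIso (Qh Q) // g.1 e₀ = e₀ ∧ g.1 f₀ = f₀} :=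
      (Equiv.mulLeft (⟨g₀, hg₀⟩ : quadIso (Qh Q))⁻¹).subtypeEquiv fun g => by
        show Φ g = p ↔ g₀.symm (g.1 e₀) = e₀ ∧ g₀.symm (g.1 f₀) = f₀
        rw [LinearEquiv.symm_apply_eq, LinearEquiv.symm_apply_eq, hge, hgf, Subtype.ext_iff,
          Prod.ext_iff]
    rw [Nat.card_congr e1]
    have hblock : ∀ g : {g : quadIso (Qh Q) // g.1 e₀ = e₀ ∧ g.1 f₀ = f₀}, ∀ w : W,
        (g.1.1 ((0, 0), w)).1 = (0, 0) := fun g w => by
      have h1 := polar_map g.1.2 e₀ ((0, 0), w)
      have h2 := polar_map g.1.2 f₀ ((0, 0), w)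
      rw [g.2.1] at h1
      rw [g.2.2] at h2
      simp [e₀, f₀, polar_Qh, polar_zero_left] at h1 h2
      exact Prod.ext h2 h1
    refine (Nat.card_eq_of_bijective (fun h : quadIso Q =>
      (⟨⟨(LinearEquiv.refl F (F × F)).prodCongr h.1, fun v => by simp [Qh_apply, h.2 _]⟩,
        by simp [e₀], by simp [f₀]⟩ : {g : quadIso (Qh Q) // g.1 e₀ = e₀ ∧ g.1 f₀ = f₀}))
      ⟨fun a b hab => ?_, fun g => ?_⟩).symm
    · refine Subtype.ext (LinearEquiv.ext fun w => ?_)
      have := congrArg (fun x : {g : quadIso (Qh Q) // g.1 e₀ = e₀ ∧ g.1 f₀ = f₀} =>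
        (x.1.1 ((0, 0), w)).2) hab
      simpa using this
    · let k : W →ₗ[F] W := (LinearMap.snd F (F × F) W).comp
        (g.1.1.toLinearMap.comp (LinearMap.inr F (F × F) W))
      have hk : ∀ w, g.1.1 ((0, 0), w) = ((0, 0), k w) := fun w => Prod.ext (hblock g w) rfl
      have hkinj : Function.Injective k := by
        rw [injective_iff_map_eq_zero]
        intro w hw
        have := hk w
        rw [hw] at this
        exact congrArg Prod.snd (g.1.1.injective (this.trans g.1.1.map_zero.symm))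
      have hkq : ∀ w, Q (k w) = Q w := fun w => by
        have := g.1.2 ((0, 0), w)
        rw [hk] at this
        simpa [Qh_apply] using this
      refine ⟨⟨LinearEquiv.ofInjectiveEndo k hkinj, hkq⟩, Subtype.ext (Subtype.ext (LinearEquiv.ext fun v => ?_))⟩
      have hv : v = v.1.1 • e₀ + v.1.2 • f₀ + ((0, 0), v.2) := by
        ext <;> simp [e₀, f₀]
      show (v.1, k v.2) = g.1.1 v
      conv_rhs => rw [hv, _root_.map_add, _root_.map_add, map_smul, map_smul, g.2.1, g.2.2, hk]
      ext <;> simp [e₀, f₀]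
  have hcardP : Nat.card P =
      (Nat.card {v // Qh Q v = 0} - 1) * Fintype.card F ^ Module.finrank F W := by
    have hne : ∀ p : P, p.1.1 ≠ 0 := fun p h => by
      have := p.2.2.2
      rw [h, polar_zero_left] at this
      exact zero_ne_one this
    let π : P → {v : {v // Qh Q v = 0} // v ≠ ⟨0, QuadraticMap.map_zero _⟩} := fun p =>
      ⟨⟨p.1.1, p.2.1⟩, fun h => hne p (congrArg Subtype.val h)⟩
    have hf' : ∀ v, Nat.card {p // π p = v} = Fintype.card F ^ Module.finrank F W := by
      intro v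
      have hv0 : v.1.1 ≠ 0 := fun h => v.2 (Subtype.ext h)
      obtain ⟨f', hef', hf'⟩ := exists_partner hQh hv0 v.1.2
      obtain ⟨g₀, hg₀, hge, -⟩ := pair_transitive hQh he hf hef v.1.2 hf' hef'
      rw [← Module.card_eq_pow_finrank (K := F) (V := W), ← Nat.card_eq_fintype_card]
      refine (Nat.card_eq_of_bijective (fun w : W =>
        (⟨⟨(g₀ e₀, g₀ ((-Q w, 1), w)), by rw [hg₀]; exact he,
          by rw [hg₀]; simp [Qh_apply], by rw [polar_map hg₀]; simp [e₀, polar_Qh, polar_zero_left]⟩,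
          Subtype.ext (Subtype.ext hge)⟩ : {p // π p = v})) ⟨fun a b h => ?_, fun p => ?_⟩).symm
      · have := congrArg (fun x : {p // π p = v} => x.1.1.2) h
        exact congrArg Prod.snd (g₀.injective this)
      · obtain ⟨⟨⟨e, f⟩, h1, h2, h3⟩, hp⟩ := p
        have hee : e = g₀ e₀ := (congrArg (fun x => x.1.1) hp).trans hge.symm
        subst hee
        obtain ⟨u, rfl⟩ := g₀.surjective f
        have h2' : Qh Q u = 0 := (hg₀ u).symm.trans h2
        have h3' : polar (Qh Q) e₀ u = 1 := (polar_map hg₀ _ _).symm.trans h3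
        simp [e₀, polar_Qh, polar_zero_left] at h3'
        rw [Qh_apply, h3', mul_one, add_eq_zero_iff_eq_neg] at h2'
        refine ⟨u.2, Subtype.ext (Subtype.ext (Prod.ext rfl ?_))⟩
        show g₀ ((-Q u.2, 1), u.2) = g₀ u
        rw [← h2', ← h3']
    rw [← Nat.card_congr (Equiv.sigmaFiberEquiv π), Nat.card_sigma,
      Finset.sum_congr rfl fun v _ => hf' v, Finset.sum_const, smul_eq_mul, Finset.card_univ,
      Fintype.card_subtype_compl, Fintype.card_subtype_eq, Nat.card_eq_fintype_card]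
  rw [← Nat.card_congr (Equiv.sigmaFiberEquiv Φ), Nat.card_sigma,
    Finset.sum_congr rfl fun v _ => hfib v, Finset.sum_const, smul_eq_mul, Finset.card_univ,
    ← Nat.card_eq_fintype_card, hcardP]

omit [FiniteDimensional F W] in
/-- `m` hyperbolic planes added to a form. -/
def Hm (Q : QuadraticForm F W) (m : ℕ) : QuadraticForm F ((Fin m ⊕ Fin m → F) × W) :=
  QuadraticMap.prod (∑ i, QuadraticMap.linMulLin (LinearMap.proj (Sum.inl i)) (LinearMap.proj (Sum.inr i))) Q

omit [FiniteDimensional F W] in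
theorem Hm_apply (Q : QuadraticForm F W) (m : ℕ) (p : (Fin m ⊕ Fin m → F) × W) :
    Hm Q m p = (∑ i, p.1 (Sum.inl i) * p.1 (Sum.inr i)) + Q p.2 := by
  simp [Hm]

omit [FiniteDimensional F W] in
theorem Hm_nondeg {Q : QuadraticForm F W} (hQ : PolarNondeg Q) (m : ℕ) :
    PolarNondeg (Hm Q m) := by
  classical
  intro u h
  have hp : ∀ v, polar (Hm Q m) u v = (∑ i, (u.1 (Sum.inl i) * v.1 (Sum.inr i) +
      v.1 (Sum.inl i) * u.1 (Sum.inr i))) + polar Q u.2 v.2 := fun v => by
    simp only [polar, Hm_apply, Prod.fst_add, Prod.snd_add, Pi.add_apply, add_mul, mul_add,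
      Finset.sum_add_distrib]
    ring
  refine Prod.ext (funext fun s => ?_) (hQ _ fun y => by simpa [hp] using h (0, y))
  rcases s with i | i
  · simpa [hp, Pi.single_apply, polar_zero_right] using h (Pi.single (Sum.inr i) 1, 0)
  · simpa [hp, Pi.single_apply, polar_zero_right] using h (Pi.single (Sum.inl i) 1, 0)

theorem card_Hm_succ {Q : QuadraticForm F W} (hQ : PolarNondeg Q) (m : ℕ) :
    Nat.card (quadIso (Hm Q (m + 1))) = (Nat.card {p // Hm Q (m + 1) p = 0} - 1) *
      Fintype.card F ^ (2 * m + Module.finrank F W) * Nat.card (quadIso (Hm Q m)) := by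
  let e : ((Fin (m + 1) ⊕ Fin (m + 1) → F) × W) ≃ₗ[F] (F × F) × ((Fin m ⊕ Fin m → F) × W) :=
    { ((CfsgLib.QuadCount.splitHyp m F).prodCongr (Equiv.refl W)).trans (Equiv.prodAssoc _ _ _) with
      map_add' := fun a b => by
        refine Prod.ext rfl (Prod.ext (funext fun s => ?_) rfl)
        rcases s with i | i <;> rfl
      map_smul' := fun c a => by
        refine Prod.ext rfl (Prod.ext (funext fun s => ?_) rfl)
        rcases s with i | i <;> rfl }
  have he : ∀ p, Qh (Hm Q m) (e p) = Hm Q (m + 1) p := fun p => by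
    rw [Qh_apply, Hm_apply, Hm_apply, Fin.sum_univ_succ, add_assoc]
    rfl
  rw [card_quadIso_congr _ _ e he, card_step (Hm_nondeg hQ m),
    Nat.card_congr (e.toEquiv.subtypeEquiv (q := fun v => Qh (Hm Q m) v = 0) fun p => by
      show _ ↔ Qh (Hm Q m) (e p) = 0
      rw [he]),
    Module.finrank_prod, Module.finrank_pi, Fintype.card_sum, Fintype.card_fin, two_mul]

omit [Fintype F] [FiniteDimensional F W] in
/-- `isometryGroup` agrees with `quadIso`. -/
theorem card_isometryGroup {ι : Type} [Fintype ι] [DecidableEq ι] (Q : QuadraticForm F W)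
    (f : (ι → F) → F) (e : W ≃ₗ[F] (ι → F)) (h : ∀ w, f (e w) = Q w) :
    Nat.card (Cfsg.isometryGroup F f) = Nat.card (quadIso Q) := by
  let Q' : QuadraticForm F (ι → F) := Q.comp e.symm.toLinearMap
  have hQ' : ∀ v, Q' v = f v := fun v => by
    show Q (e.symm v) = f v
    rw [← h, e.apply_symm_apply]
  rw [card_quadIso_congr Q Q' e (fun w => by rw [hQ', h])]
  refine Nat.card_congr
    { toFun := fun g => ⟨(Matrix.GeneralLinearGroup.toLin g.1).toLinearEquiv, fun v => ?_⟩
      invFun := fun g => ⟨Matrix.GeneralLinearGroup.toLin.symm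
        (LinearMap.GeneralLinearGroup.ofLinearEquiv g.1), fun v w => ?_⟩
      left_inv := fun g => ?_
      right_inv := fun g => ?_ }
  · rw [hQ', hQ']
    exact g.2 v v
  · show f ((LinearMap.toMatrix' (g.1 : (ι → F) →ₗ[F] (ι → F))).mulVec v) = f v
    rw [LinearMap.toMatrix'_mulVec, ← hQ', ← hQ']
    exact g.2 v
  · apply Subtype.ext
    exact (MulEquiv.symm_apply_eq _).mpr (Units.ext rfl)
  · apply Subtype.ext
    refine LinearEquiv.ext fun v => ?_
    simp

end CfsgLib.OrthOrder
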