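import Mathlib
import Cfsg.Agent.Lib.OrthOrder

/-! The anisotropic binary orthogonal group and the three order formulas. -/

set_option autoImplicit false

namespace CfsgLib.OrthOrder

open QuadraticMap CfsgLib.WittExtension CfsgLib.FiniteForms

variable {F : Type*} [Field F] [Fintype F]

/-- The binary form `z₁² + a z₁ z₂ + b z₂²`. -/
def binForm (a b : F) : QuadraticForm F (Fin 2 → F) :=
  QuadraticMap.proj 0 0 + a • QuadraticMap.proj 0 1 + b • QuadraticMap.proj 1 1

omit [Fintype F] in
theorem binForm_apply (a b : F) (v : Fin 2 → F) :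
    binForm a b v = v 0 ^ 2 + a * v 0 * v 1 + b * v 1 ^ 2 := by
  simp [binForm]; ring

omit [Fintype F] in
theorem polar_bin (a b : F) (u v : Fin 2 → F) :
    polar (binForm a b) u v = 2 * u 0 * v 0 + a * (u 0 * v 1 + v 0 * u 1) + 2 * b * u 1 * v 1 := by
  simp [polar, binForm_apply]; ring

theorem bin_a_ne_zero {a b : F} (hab : ∀ z₁ z₂ : F, z₁ ^ 2 + a * z₁ * z₂ + b * z₂ ^ 2 = 0 → z₁ = 0 ∧ z₂ = 0)
    (h2 : (2 : F) = 0) : a ≠ 0 := by
  rintro rfl
  obtain ⟨t, ht⟩ := sqrt_charTwo h2 b
  exact one_ne_zero (hab t 1 (by linear_combination ht + t * t * h2)).2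

theorem bin_nondeg {a b : F}
    (hab : ∀ z₁ z₂ : F, z₁ ^ 2 + a * z₁ * z₂ + b * z₂ ^ 2 = 0 → z₁ = 0 ∧ z₂ = 0) :
    PolarNondeg (binForm a b) := by
  intro x h
  by_cases h2 : (2 : F) = 0
  · have ha := bin_a_ne_zero hab h2
    have h0 := h (Pi.single 0 1)
    have h1 := h (Pi.single 1 1)
    simp [polar_bin, h2, ha] at h0 h1
    funext i
    fin_cases i <;> simp [h0, h1]
  · have hxx := h x
    rw [polar_self, nsmul_eq_mul, Nat.cast_ofNat, mul_eq_zero, binForm_apply] at hxx
    obtain ⟨e0, e1⟩ := hab _ _ (hxx.resolve_left h2)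
    funext i
    fin_cases i <;> simp [e0, e1]

/-- The conic `Q = 1` has `q + 1` points. -/
theorem card_conic {a b : F}
    (hab : ∀ z₁ z₂ : F, z₁ ^ 2 + a * z₁ * z₂ + b * z₂ ^ 2 = 0 → z₁ = 0 ∧ z₂ = 0) :
    Nat.card {v : Fin 2 → F // binForm a b v = 1} = Fintype.card F + 1 := by
  classical
  have hd : ∀ s : F, s ^ 2 + a * s + b ≠ 0 := fun s h =>
    one_ne_zero (hab s 1 (by linear_combination h)).2
  let t : F → F := fun s => -(2 * s + a) / (s ^ 2 + a * s + b)
  let g : Option F → {v : Fin 2 → F // binForm a b v = 1} := fun o => o.elim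
    ⟨![-1, 0], by simp [binForm_apply]⟩
    (fun s => ⟨![1 + t s * s, t s], by
      have h := hd s
      have hT : t s * (s ^ 2 + a * s + b) = -(2 * s + a) := div_mul_cancel₀ _ h
      simp only [binForm_apply, Matrix.cons_val_zero, Matrix.cons_val_one]
      linear_combination t s * hT⟩)
  have hg : Function.Bijective g := by
    refine ⟨?_, ?_⟩
    · have hne : ∀ s, ![-1, (0 : F)] ≠ ![1 + t s * s, t s] := by
        intro s h
        have h1 : (0 : F) = t s := by simpa using congrFun h 1
        have h0 : (-1 : F) = 1 + t s * s := by simpa using congrFun h 0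
        rw [← h1, zero_mul, add_zero] at h0
        have h2 : (2 : F) = 0 := by linear_combination -h0
        have := h1.symm
        simp [t, hd s, h2, bin_a_ne_zero hab h2] at this
      rintro (_ | s) (_ | s') h
      · rfl
      · exact absurd (congrArg Subtype.val h) (hne s')
      · exact absurd (congrArg Subtype.val h).symm (hne s)
      · have hv : ![1 + t s * s, t s] = ![1 + t s' * s', t s'] := congrArg Subtype.val h
        have ht : t s = t s' := by simpa using congrFun hv 1
        have h0 : t s * s = t s' * s' := by simpa using congrFun hv 0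
        by_cases hz : t s = 0
        · have e1 : 2 * s + a = 0 := neg_eq_zero.mp ((div_eq_zero_iff.mp hz).resolve_right (hd s))
          have e2 : 2 * s' + a = 0 :=
            neg_eq_zero.mp ((div_eq_zero_iff.mp (ht.symm.trans hz)).resolve_right (hd s'))
          by_cases h2 : (2 : F) = 0
          · rw [h2, zero_mul, zero_add] at e1
            exact absurd e1 (bin_a_ne_zero hab h2)
          · rw [mul_left_cancel₀ h2 (add_right_cancel (e1.trans e2.symm))]
        · rw [← ht] at h0
          rw [mul_left_cancel₀ hz h0]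
    · rintro ⟨v, hv⟩
      rw [binForm_apply] at hv
      by_cases h1 : v 1 = 0
      · have : v 0 * v 0 = 1 := by rw [h1] at hv; linear_combination hv
        rcases mul_self_eq_one_iff.mp this with h0 | h0
        · by_cases h2 : (2 : F) = 0
          · refine ⟨none, Subtype.ext (funext fun i => ?_)⟩
            fin_cases i
            · simpa [g, h0] using (show (-1 : F) = 1 by linear_combination -h2)
            · simp [g, h1]
          · refine ⟨some (-a / 2), Subtype.ext (funext fun i => ?_)⟩
            have ht : t (-a / 2) = 0 := by simp [t, mul_div_cancel₀ _ h2]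
            fin_cases i <;> simp [g, ht, h0, h1]
        · refine ⟨none, Subtype.ext (funext fun i => ?_)⟩
          fin_cases i <;> simp [g, h0, h1]
      · refine ⟨some ((v 0 - 1) / v 1), Subtype.ext (funext fun i => ?_)⟩
        have ht : t ((v 0 - 1) / v 1) = v 1 := by
          simp only [t]
          rw [div_eq_iff (hd _)]
          field_simp
          linear_combination (-1 : F) * hv
        fin_cases i
        · simp [g, ht, mul_div_cancel₀ _ h1]
        · simp [g, ht]
  rw [← Nat.card_eq_of_bijective g hg, Finite.card_option, Nat.card_eq_fintype_card]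

theorem vec_transitive {W : Type*} [AddCommGroup W] [Module F W] [FiniteDimensional F W]
    {Q : QuadraticForm F W} (hQ : PolarNondeg Q) {u v : W} (hu : Q u ≠ 0) (h : Q u = Q v) :
    ∃ g ∈ quadIso Q, g u = v := by
  have hu0 : u ≠ 0 := fun e => hu (by rw [e, QuadraticMap.map_zero])
  have hv0 : v ≠ 0 := fun e => hu (by rw [h, e, QuadraticMap.map_zero])
  let R := LinearEquiv.toSpanNonzeroSingleton F W u hu0
  obtain ⟨g, hg, hgX⟩ := quad_extend Q (nondegenerate_of hQ) (F ∙ u)
    ((LinearMap.toSpanSingleton F W v).comp R.symm.toLinearMap)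
    ((smul_left_injective F hv0).comp R.symm.injective)
    (fun x => by
      obtain ⟨c, rfl⟩ := R.surjective x
      show Q ((R.symm (R c)) • v) = Q (c • u)
      rw [R.symm_apply_apply, QuadraticMap.map_smul, QuadraticMap.map_smul, h])
  refine ⟨g, hg, ?_⟩
  have := hgX (R 1)
  simp only [LinearMap.comp_apply, LinearEquiv.coe_coe, R.symm_apply_apply,
    LinearMap.toSpanSingleton_apply, one_smul] at this
  rwa [show ((R 1 : F ∙ u) : W) = u from one_smul F u] at this

/-- The anisotropic binary orthogonal group has order `2(q+1)`. -/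
theorem card_bin {a b : F}
    (hab : ∀ z₁ z₂ : F, z₁ ^ 2 + a * z₁ * z₂ + b * z₂ ^ 2 = 0 → z₁ = 0 ∧ z₂ = 0) :
    Nat.card (quadIso (binForm a b)) = 2 * (Fintype.card F + 1) := by
  classical
  haveI : Finite ((Fin 2 → F) ≃ₗ[F] (Fin 2 → F)) :=
    Finite.of_injective (fun g => (g : (Fin 2 → F) → (Fin 2 → F))) DFunLike.coe_injective
  set e : Fin 2 → F := ![1, 0] with he
  have he1 : binForm a b e = 1 := by simp [binForm_apply, e]
  let Φ : quadIso (binForm a b) → {v : Fin 2 → F // binForm a b v = 1} := fun g =>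
    ⟨g.1 e, (g.2 e).trans he1⟩
  have hfib : ∀ v, Nat.card {g // Φ g = v} = 2 := by
    intro v
    obtain ⟨g₀, hg₀, hge⟩ := vec_transitive (bin_nondeg hab) (by rw [he1]; exact one_ne_zero)
      (he1.trans v.2.symm)
    have e1 : {g // Φ g = v} ≃ {g : quadIso (binForm a b) // g.1 e = e} :=
      (Equiv.mulLeft (⟨g₀, hg₀⟩ : quadIso (binForm a b))⁻¹).subtypeEquiv fun g => by
        show Φ g = v ↔ g₀.symm (g.1 e) = e
        rw [LinearEquiv.symm_apply_eq, hge, Subtype.ext_iff]
    rw [Nat.card_congr e1]
    -- the stabiliser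
    let k : (Fin 2 → F) →ₗ[F] (Fin 2 → F) :=
      LinearMap.pi ![LinearMap.proj 0 + a • LinearMap.proj 1, -LinearMap.proj 1]
    have hk : ∀ x, k x = ![x 0 + a * x 1, -(x 1)] := fun x => by
      funext i; fin_cases i <;> simp [k]
    have hkk : k ∘ₗ k = LinearMap.id := LinearMap.ext fun x => by
      funext i; fin_cases i <;> simp [hk]
    let r : quadIso (binForm a b) := ⟨LinearEquiv.ofLinearMap k k hkk hkk, fun x => by
      show binForm a b (k x) = _
      simp [hk, binForm_apply]; ring⟩
    have hre : r.1 e = e := by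
      show k e = e
      funext i; fin_cases i <;> simp [hk, e]
    have hr1 : r.1 ![0, 1] = ![a, -1] := by
      show k ![0, 1] = _
      funext i; fin_cases i <;> simp [hk]
    have hne : r ≠ 1 := fun hr => by
      have h := hr1
      rw [hr] at h
      have h0 : (0 : F) = a := by simpa using congrFun h 0
      have h1 : (1 : F) = -1 := by simpa using congrFun h 1
      exact bin_a_ne_zero hab (by linear_combination h1) h0.symm
    rw [Nat.card_eq_two_iff]
    refine ⟨⟨1, rfl⟩, ⟨r, hre⟩, fun h => hne (congrArg Subtype.val h).symm,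
      Set.eq_univ_of_forall fun g => ?_⟩
    have key : g.1.1 ![0, 1] = ![0, 1] ∨ g.1.1 ![0, 1] = ![a, -1] := by
      set w := g.1.1 ![0, 1]
      have hp := polar_map g.1.2 e ![0, 1]
      rw [g.2] at hp
      have hq := g.1.2 ![0, 1]
      simp [polar_bin, binForm_apply, e] at hp hq
      have hp' : 2 * w 0 + a * w 1 = a := hp
      have hq' : w 0 ^ 2 + a * w 0 * w 1 + b * w 1 ^ 2 = b := hq
      by_cases h2 : (2 : F) = 0
      · have ha := bin_a_ne_zero hab h2
        rw [h2, zero_mul, zero_add] at hp'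
        have h1 : w 1 = 1 := mul_left_cancel₀ ha (hp'.trans (mul_one a).symm)
        rw [h1] at hq'
        have : w 0 * (w 0 + a) = 0 := by linear_combination hq'
        rcases mul_eq_zero.mp this with h | h
        · left; funext i; fin_cases i <;> simp [h, h1]
        · right; funext i; fin_cases i
          · simpa using (show w 0 = a by linear_combination h - a * h2)
          · simpa [h1] using (show (1 : F) = -1 by linear_combination h2)
      · have hD : 4 * b - a ^ 2 ≠ 0 := fun hD =>
          one_ne_zero (hab (-a / 2) 1 (by field_simp; linear_combination hD)).2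
        have : (4 * b - a ^ 2) * (w 1 * w 1 - 1) = 0 := by
          linear_combination 4 * hq' - (2 * w 0 + a * w 1 + a) * hp'
        rcases mul_self_eq_one_iff.mp (sub_eq_zero.mp ((mul_eq_zero.mp this).resolve_left hD)) with h | h
        · left; funext i; fin_cases i
          · rw [h] at hp'
            simpa using (show 2 * w 0 = 0 by linear_combination hp') |> fun h0 =>
              (mul_eq_zero.mp h0).resolve_left h2
          · simpa using h
        · right; funext i; fin_cases i
          · rw [h] at hp'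
            simpa using mul_left_cancel₀ h2 (show 2 * w 0 = 2 * a by linear_combination hp')
          · simpa using h
    have hext : ∀ s : quadIso (binForm a b), s.1 e = e → s.1 ![0, 1] = g.1.1 ![0, 1] → g.1 = s := by
      intro s h1 h2
      refine Subtype.ext (LinearEquiv.ext fun x => ?_)
      have hx : x = x 0 • e + x 1 • ![0, 1] := by
        funext i; fin_cases i <;> simp [e]
      rw [hx, _root_.map_add, _root_.map_add, map_smul, map_smul, map_smul, map_smul, g.2, h1, h2]
    rcases key with h | h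
    · exact Or.inl (Subtype.ext (hext 1 rfl h.symm))
    · exact Or.inr (Subtype.ext (hext r hre (hr1.trans h.symm)))
  rw [← Nat.card_congr (Equiv.sigmaFiberEquiv Φ), Nat.card_sigma,
    Finset.sum_congr rfl fun v _ => hfib v, Finset.sum_const, smul_eq_mul, Finset.card_univ,
    ← Nat.card_eq_fintype_card, card_conic hab, mul_comm]

/-- Transfer to the coordinate forms. -/
theorem card_iso_plus (m : ℕ) :
    Nat.card (Cfsg.isometryGroup F (Cfsg.quadFormPlus m F)) =
      Nat.card (quadIso (Hm (0 : QuadraticForm F (Fin 0 → F)) m)) :=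
  card_isometryGroup _ _
    ({ Equiv.prodUnique (Fin m ⊕ Fin m → F) (Fin 0 → F) with
      map_add' := fun _ _ => rfl, map_smul' := fun _ _ => rfl } :
      ((Fin m ⊕ Fin m → F) × (Fin 0 → F)) ≃ₗ[F] (Fin m ⊕ Fin m → F))
    fun w => by rw [Hm_apply]; simp [Cfsg.quadFormPlus]

theorem card_iso_odd (m : ℕ) :
    Nat.card (Cfsg.isometryGroup F (Cfsg.quadFormOdd m F)) =
      Nat.card (quadIso (Hm (QuadraticMap.sq : QuadraticForm F F) m)) :=
  card_isometryGroup _ _
    ({ toFun := fun p => Sum.elim (fun _ => p.2) p.1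
       invFun := fun v => (fun s => v (Sum.inr s), v (Sum.inl ()))
       left_inv := fun p => rfl
       right_inv := fun v => by funext s; rcases s with u | s <;> rfl
       map_add' := fun a b => by funext s; rcases s with u | s <;> rfl
       map_smul' := fun c a => by funext s; rcases s with u | s <;> rfl } :
      ((Fin m ⊕ Fin m → F) × F) ≃ₗ[F] (Unit ⊕ (Fin m ⊕ Fin m) → F))
    fun w => by
      rw [Hm_apply, Cfsg.quadFormOdd, QuadraticMap.sq_apply, pow_two, add_comm]
      rfl

theorem card_iso_minus (m : ℕ) (a b : F) :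
    Nat.card (Cfsg.isometryGroup F (Cfsg.quadFormMinus m F a b)) =
      Nat.card (quadIso (Hm (binForm a b) m)) :=
  card_isometryGroup _ _
    ({ toFun := fun p => Sum.elim p.1 p.2
       invFun := fun v => (fun s => v (Sum.inl s), fun s => v (Sum.inr s))
       left_inv := fun p => rfl
       right_inv := fun v => by funext s; rcases s with u | s <;> rfl
       map_add' := fun a b => by funext s; rcases s with u | s <;> rfl
       map_smul' := fun c a => by funext s; rcases s with u | s <;> rfl } :
      ((Fin m ⊕ Fin m → F) × (Fin 2 → F)) ≃ₗ[F] ((Fin m ⊕ Fin m) ⊕ Fin 2 → F))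
    fun w => by
      rw [Hm_apply, binForm_apply, Cfsg.quadFormMinus]
      rfl

theorem card_zero_Hm {W : Type*} [AddCommGroup W] [Module F W] (Q : QuadraticForm F W) (m : ℕ)
    {ι : Type} [Fintype ι] [DecidableEq ι] (f : (ι → F) → F)
    (e : ((Fin m ⊕ Fin m → F) × W) ≃ (ι → F)) (h : ∀ w, f (e w) = Hm Q m w) :
    Nat.card {p // Hm Q m p = 0} = Nat.card {v // f v = 0} :=
  Nat.card_congr (e.subtypeEquiv fun p => by rw [h])

theorem card_O_plus (m : ℕ) (hm : 1 ≤ m) :
    Nat.card (Cfsg.isometryGroup F (Cfsg.quadFormPlus m F)) =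
      2 * Fintype.card F ^ (m * (m - 1)) * (Fintype.card F ^ m - 1) *
        ∏ i ∈ Finset.range (m - 1), (Fintype.card F ^ (2 * (i + 1)) - 1) := by
  classical
  set q := Fintype.card F with hq
  have hq1 : 1 < q := Fintype.one_lt_card
  have hnd : PolarNondeg (0 : QuadraticForm F (Fin 0 → F)) := fun x _ => Subsingleton.elim _ _
  have hz : ∀ k : ℕ, Nat.card {p // Hm (0 : QuadraticForm F (Fin 0 → F)) (k + 1) p = 0} =
      q ^ (2 * k + 1) + q ^ (k + 1) - q ^ k := fun k => by
    rw [card_zero_Hm _ _ (Cfsg.quadFormPlus (k + 1) F) (Equiv.prodUnique _ _)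
      (fun w => by rw [Hm_apply]; simp [Cfsg.quadFormPlus]),
      CfsgLib.QuadCount.card_plus (k + 1) (by omega), ← hq]
    congr 2
  obtain ⟨m, rfl⟩ : ∃ k, m = k + 1 := ⟨m - 1, by omega⟩
  rw [card_iso_plus]
  clear hm
  induction m with
  | zero =>
    rw [card_Hm_succ hnd, hz, Module.finrank_pi, Fintype.card_fin,
      show Nat.card (quadIso (Hm (0 : QuadraticForm F (Fin 0 → F)) 0)) = 1 from
        Nat.card_eq_one_iff_unique.mpr ⟨⟨fun x y => Subtype.ext (LinearEquiv.ext fun v =>
          Subsingleton.elim _ _)⟩, ⟨1⟩⟩]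
    simp
    omega
  | succ k ih =>
    rw [card_Hm_succ hnd, hz, ih, Module.finrank_pi, Fintype.card_fin,
      show k + 1 + 1 - 1 = k + 1 from rfl, Finset.prod_range_succ, ← hq]
    simp only [Nat.add_sub_cancel, add_zero]
    generalize (∏ x ∈ Finset.range k, (q ^ (2 * (x + 1)) - 1)) = P
    have h1 : q ^ (k + 1) + 1 ≤ q ^ (2 * (k + 1) + 1) + q ^ (k + 1 + 1) := by
      have := Nat.pow_le_pow_right (show 0 < q by omega) (show k + 1 ≤ 2 * (k + 1) + 1 by omega)
      have := Nat.one_le_pow (k + 1 + 1) q (by omega)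
      omega
    zify [Nat.one_le_pow (k + 1) q (by omega), Nat.one_le_pow (k + 1 + 1) q (by omega),
      Nat.one_le_pow (2 * (k + 1)) q (by omega),
      show q ^ (k + 1) ≤ q ^ (2 * (k + 1) + 1) + q ^ (k + 1 + 1) by omega,
      show 1 ≤ q ^ (2 * (k + 1) + 1) + q ^ (k + 1 + 1) - q ^ (k + 1) by omega]
    ring

theorem card_O_odd (hodd : Odd (Fintype.card F)) (m : ℕ) :
    Nat.card (Cfsg.isometryGroup F (Cfsg.quadFormOdd m F)) =
      2 * Fintype.card F ^ (m ^ 2) *
        ∏ i ∈ Finset.range m, (Fintype.card F ^ (2 * (i + 1)) - 1) := by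
  classical
  set q := Fintype.card F with hq
  have hq1 : 1 < q := Fintype.one_lt_card
  have h2 : (2 : F) ≠ 0 := fun h => by
    have : ringChar F = 2 := by
      haveI : CharP F 2 := CharTwo.of_one_ne_zero_of_two_eq_zero one_ne_zero h
      exact ringChar.eq F 2
    exact absurd (FiniteField.even_card_of_char_two this) (by
      rw [← hq, Nat.odd_iff.mp hodd]; decide)
  have hnd : PolarNondeg (QuadraticMap.sq : QuadraticForm F F) := fun x h => by
    have := h 1
    simp [polar] at this
    have h' : 2 * x = 0 := by linear_combination this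
    exact (mul_eq_zero.mp h').resolve_left h2
  have hz : ∀ k : ℕ, Nat.card {p // Hm (QuadraticMap.sq : QuadraticForm F F) k p = 0} =
      q ^ (2 * k) := fun k => by
    rw [card_zero_Hm _ _ (Cfsg.quadFormOdd k F)
      ((Equiv.prodComm _ _).trans (((Equiv.funUnique Unit F).symm.prodCongr (Equiv.refl _)).trans
        (Equiv.sumArrowEquivProdArrow _ _ _).symm))
      (fun w => by rw [Hm_apply]; simp [Cfsg.quadFormOdd, Equiv.sumArrowEquivProdArrow, pow_two, add_comm]),
      CfsgLib.QuadCount.card_odd k]
  rw [card_iso_odd]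
  induction m with
  | zero =>
    simp only [zero_pow two_ne_zero, pow_zero, mul_one, Finset.range_zero, Finset.prod_empty]
    let ng : quadIso (Hm (QuadraticMap.sq : QuadraticForm F F) 0) :=
      ⟨LinearEquiv.neg F, fun v => QuadraticMap.map_neg _ _⟩
    rw [Nat.card_eq_two_iff]
    refine ⟨1, ng, fun h => h2 ?_, Set.eq_univ_of_forall fun g => ?_⟩
    · have := congrArg (fun s : quadIso (Hm (QuadraticMap.sq : QuadraticForm F F) 0) =>
        (s.1 (0, 1)).2) h
      have h' : (1 : F) = -1 := this
      linear_combination h'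
    · have hg : ∀ v, g.1 v = v.2 • g.1 (0, 1) := fun v => by
        rw [← map_smul]
        congr 1
        exact Prod.ext (Subsingleton.elim _ _) (by simp)
      have h1 := g.2 (0, 1)
      simp [Hm_apply] at h1
      rcases mul_self_eq_one_iff.mp h1 with h | h
      · refine Or.inl (Subtype.ext (LinearEquiv.ext fun v => ?_))
        rw [hg]
        exact Prod.ext (Subsingleton.elim _ _) (by simp [h])
      · refine Or.inr (Subtype.ext (LinearEquiv.ext fun v => ?_))
        rw [hg]
        exact Prod.ext (Subsingleton.elim _ _) (by simp [h, ng])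
  | succ k ih =>
    rw [card_Hm_succ hnd, hz, ih, Module.finrank_self, Finset.prod_range_succ, ← hq]
    generalize (∏ x ∈ Finset.range k, (q ^ (2 * (x + 1)) - 1)) = P
    ring

theorem card_O_minus (m : ℕ) (hm : 1 ≤ m) (a b : F)
    (hab : ∀ z₁ z₂ : F, z₁ ^ 2 + a * z₁ * z₂ + b * z₂ ^ 2 = 0 → z₁ = 0 ∧ z₂ = 0) :
    Nat.card (Cfsg.isometryGroup F (Cfsg.quadFormMinus (m - 1) F a b)) =
      2 * Fintype.card F ^ (m * (m - 1)) * (Fintype.card F ^ m + 1) *
        ∏ i ∈ Finset.range (m - 1), (Fintype.card F ^ (2 * (i + 1)) - 1) := by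
  classical
  set q := Fintype.card F with hq
  have hq1 : 1 < q := Fintype.one_lt_card
  have hnd := bin_nondeg hab
  have hz : ∀ k : ℕ, Nat.card {p // Hm (binForm a b) k p = 0} =
      q ^ (2 * k + 1) + q ^ k - q ^ (k + 1) := fun k => by
    rw [card_zero_Hm _ _ (Cfsg.quadFormMinus k F a b) (Equiv.sumArrowEquivProdArrow _ _ _).symm
      (fun w => by rw [Hm_apply, binForm_apply]; simp [Cfsg.quadFormMinus, Equiv.sumArrowEquivProdArrow])]
    have := CfsgLib.QuadCount.card_minus (k + 1) (by omega) a b hab
    simpa [← hq, show 2 * (k + 1) - 1 = 2 * k + 1 by omega] using this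
  obtain ⟨m, rfl⟩ : ∃ k, m = k + 1 := ⟨m - 1, by omega⟩
  show Nat.card (Cfsg.isometryGroup F (Cfsg.quadFormMinus m F a b)) = _
  rw [card_iso_minus]
  simp only [Nat.add_sub_cancel]
  clear hm
  induction m with
  | zero =>
    rw [card_quadIso_congr _ (binForm a b)
      ({ Equiv.uniqueProd (Fin 2 → F) (Fin 0 ⊕ Fin 0 → F) with
        map_add' := fun _ _ => rfl, map_smul' := fun _ _ => rfl } :
        ((Fin 0 ⊕ Fin 0 → F) × (Fin 2 → F)) ≃ₗ[F] (Fin 2 → F))
      (fun w => by rw [Hm_apply]; simp), card_bin hab]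
    simp [← hq]
  | succ k ih =>
    rw [card_Hm_succ hnd, hz, ih, Module.finrank_pi, Fintype.card_fin, Finset.prod_range_succ, ← hq]
    generalize (∏ x ∈ Finset.range k, (q ^ (2 * (x + 1)) - 1)) = P
    have h1 : q ^ (k + 1 + 1) < q ^ (2 * (k + 1) + 1) :=
      Nat.pow_lt_pow_right hq1 (by omega)
    zify [Nat.one_le_pow (2 * (k + 1)) q (by omega),
      show q ^ (k + 1 + 1) ≤ q ^ (2 * (k + 1) + 1) + q ^ (k + 1) by omega,
      show 1 ≤ q ^ (2 * (k + 1) + 1) + q ^ (k + 1) - q ^ (k + 1 + 1) by omega]
    ring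

end CfsgLib.OrthOrder
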