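import Mathlib
import Cfsg.Agent.Lib.Elementary
import Cfsg.Agent.Lib.Frobenius.UniqueSubgroup

/-!
`2`-groups whose commutator quotient is a four-group (Taussky).
-/

set_option autoImplicit false

namespace CfsgLib.TausskyTwo

open scoped commutatorElement
open Subgroup

universe u

variable {S : Type u} [Group S]

theorem dihedral_iso [Finite S] {M : ℕ} (hM : 0 < M) (a x : S) (ha : orderOf a = M) (hx : x ^ 2 = 1)
    (hconj : x * a * x⁻¹ = a⁻¹) (hxA : x ∉ zpowers a)
    (hgen : ∀ g : S, g ∈ zpowers a ∨ x⁻¹ * g ∈ zpowers a) : Nonempty (S ≃* DihedralGroup M) := by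
  have : NeZero M := ⟨by omega⟩
  set e : ZMod M → S := fun i => a ^ i.val with he
  have hadd : ∀ i j, e (i + j) = e i * e j := fun i j => by
    simp only [he]
    rw [← pow_add, ZMod.val_add, ← pow_mod_orderOf a (i.val + j.val), ha]
  have he0 : e 0 = 1 := by simp [he]
  have hneg : ∀ i, e (-i) = (e i)⁻¹ := fun i => by
    apply eq_inv_of_mul_eq_one_left
    rw [← hadd, neg_add_cancel, he0]
  have hsub : ∀ i j, e (j - i) = (e i)⁻¹ * e j := fun i j => by
    rw [sub_eq_add_neg, add_comm, hadd, hneg]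
  have hex : ∀ i, e i * x = x * (e i)⁻¹ := fun i => by
    have h1 : x * e i * x⁻¹ = (e i)⁻¹ := by
      simp only [he]
      rw [← MulAut.conj_apply, map_pow, MulAut.conj_apply, hconj, inv_pow]
    calc e i * x = (x * e i * x⁻¹)⁻¹ * x := by rw [h1, inv_inv]
      _ = x * (e i)⁻¹ := by group
  let f : DihedralGroup M → S := fun q => match q with
    | .r i => e i
    | .sr i => x * e i
  have hmul : ∀ u v, f (u * v) = f u * f v := by
    rintro (i | i) (j | j)
    · rw [DihedralGroup.r_mul_r]; exact hadd i j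
    · rw [DihedralGroup.r_mul_sr]
      show x * e (j - i) = e i * (x * e j)
      rw [← mul_assoc, hex, mul_assoc, hsub]
    · rw [DihedralGroup.sr_mul_r]
      show x * e (i + j) = x * e i * e j
      rw [mul_assoc, hadd]
    · rw [DihedralGroup.sr_mul_sr]
      show e (j - i) = x * e i * (x * e j)
      rw [show x * e i * (x * e j) = x * (e i * x) * e j by group, hex, hsub]
      rw [← mul_assoc x x, ← pow_two, hx, one_mul]
  have hsurj : Function.Surjective (MonoidHom.mk' f hmul) := by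
    have hcov : ∀ y ∈ zpowers a, ∃ i, e i = y := fun y hy => by
      obtain ⟨k, rfl⟩ := (Submonoid.mem_powers_iff _ _).mp (mem_powers_iff_mem_zpowers.mpr hy)
      exact ⟨(k : ZMod M), by simp only [he]; rw [ZMod.val_natCast, ← pow_mod_orderOf a k, ha]⟩
    intro g
    rcases hgen g with hg | hg
    · obtain ⟨i, hi⟩ := hcov g hg; exact ⟨.r i, hi⟩
    · obtain ⟨i, hi⟩ := hcov _ hg
      exact ⟨.sr i, by show x * e i = g; rw [hi]; group⟩
  have hinj : Function.Injective (MonoidHom.mk' f hmul) := by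
    rw [injective_iff_map_eq_one]
    rintro (i | i) hi
    · have h1 : orderOf a ∣ i.val := orderOf_dvd_of_pow_eq_one hi
      rw [ha] at h1
      rw [DihedralGroup.one_def, ← ZMod.val_eq_zero i |>.mp (Nat.eq_zero_of_dvd_of_lt h1 i.val_lt)]
    · exfalso
      refine hxA ?_
      rw [show x = (e i)⁻¹ from eq_inv_of_mul_eq_one_left hi]
      exact inv_mem (pow_mem (mem_zpowers a) _)
  exact ⟨(MulEquiv.ofBijective _ ⟨hinj, hsurj⟩).symm⟩

/-- A group of exponent two is commutative. -/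
theorem comm_of_sq {H : Type*} [Group H] (h : ∀ x : H, x ^ 2 = 1) (x y : H) : x * y = y * x := by
  have inv : ∀ c : H, c⁻¹ = c := fun c => by rw [inv_eq_iff_mul_eq_one, ← pow_two]; exact h c
  calc x * y = (x * y)⁻¹ := (inv _).symm
    _ = y * x := by rw [mul_inv_rev, inv, inv]

/-- Taussky: a cyclic subgroup of index two. -/
theorem exists_cyclic_index_two : ∀ (N : ℕ) (S : Type u) [Group S] [Finite S], Nat.card S = N → IsPGroup 2 S →
    (commutator S).index = 4 → (∀ g : S, g ^ 2 ∈ commutator S) → 8 ≤ N → ∃ a : S, orderOf a * 2 = N := by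
  intro N
  induction N using Nat.strong_induction_on with
  | _ N IH =>
  intro S _ _ hN h2 h4 hsq h8
  subst hN
  have := Fact.mk Nat.prime_two
  have hS' : commutator S ≠ ⊥ := fun e => by
    rw [e, Subgroup.index_bot] at h4
    omega
  have := h2.isNilpotent
  have hne := CfsgLib.inf_center_ne_bot_of_nilpotent hS'
  obtain ⟨j, hj⟩ := (h2.to_subgroup (commutator S ⊓ center S)).exists_card_eq
  have hd : 2 ∣ Nat.card ↥(commutator S ⊓ center S) := by
    rw [hj]
    refine dvd_pow_self 2 fun h0 => hne ?_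
    rw [h0, pow_zero] at hj
    exact Subgroup.card_eq_one.mp hj
  obtain ⟨⟨z, hz⟩, hzo⟩ := exists_prime_orderOf_dvd_card' 2 hd
  rw [Subgroup.orderOf_mk] at hzo
  obtain ⟨hzS, hzc⟩ := Subgroup.mem_inf.mp hz
  set Z := zpowers z with hZ
  have hZn : Z.Normal := ⟨fun w hw g => by
    have hwc : w ∈ center S := (Subgroup.zpowers_le.mpr hzc) hw
    rwa [Subgroup.mem_center_iff.mp hwc g, mul_inv_cancel_right]⟩
  have hcZ : Nat.card Z = 2 := by rw [hZ, Nat.card_zpowers, hzo]
  have hcard : Nat.card S = 2 * Nat.card (S ⧸ Z) := by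
    rw [Subgroup.card_eq_card_quotient_mul_card_subgroup Z, hcZ, mul_comm]
  obtain ⟨k, hk⟩ := h2.exists_card_eq
  by_cases hsmall : Nat.card (S ⧸ Z) < 8
  · -- order eight
    have h2k : 2 ^ k < 2 ^ 4 := by rw [← hk, hcard]; omega
    have hk4 : k < 4 := (Nat.pow_lt_pow_iff_right (by norm_num)).mp h2k
    have hk3 : k = 3 := by
      have : 2 ^ 3 ≤ 2 ^ k := hk ▸ h8
      have := (Nat.pow_le_pow_iff_right (by norm_num)).mp this
      omega
    subst hk3
    by_contra hno
    push Not at hno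
    have hexp : ∀ x : S, x ^ 2 = 1 := by
      intro x
      obtain ⟨i, hi⟩ := IsPGroup.iff_orderOf.mp h2 x
      have hi3 : 2 ^ i ∣ 2 ^ 3 := hi ▸ hk ▸ orderOf_dvd_natCard x
      have hi3 := (Nat.pow_dvd_pow_iff_le_right (by norm_num)).mp hi3
      interval_cases i
      · rw [orderOf_eq_one_iff.mp hi, one_pow]
      · rw [← orderOf_dvd_iff_pow_eq_one, hi, pow_one]
      · exact absurd (by rw [hi, hk]; norm_num) (hno x)
      · exfalso
        have hc : IsCyclic S := isCyclic_of_orderOf_eq_card x (by rw [hi, hk])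
        exact hS' (commutator_eq_bot_iff S |>.mpr hc.isMulCommutative)
    exact hS' (commutator_eq_bot_iff S |>.mpr ⟨⟨comm_of_sq hexp⟩⟩)
  -- pass to the quotient
  push Not at hsmall
  have hmap : commutator (S ⧸ Z) = (commutator S).map (QuotientGroup.mk' Z) := by
    rw [_root_.commutator_def, _root_.commutator_def, Subgroup.map_commutator, Subgroup.map_top_of_surjective _ (QuotientGroup.mk'_surjective Z)]
  have hidx : (commutator (S ⧸ Z)).index = 4 := by
    rw [hmap, Subgroup.index_map_eq _ (QuotientGroup.mk'_surjective Z) ?_, h4]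
    rw [QuotientGroup.ker_mk']
    exact Subgroup.zpowers_le.mpr hzS
  obtain ⟨a', ha'⟩ := IH (Nat.card (S ⧸ Z)) (by omega) (S ⧸ Z) rfl (h2.to_quotient Z) hidx (fun g => by
    obtain ⟨g, rfl⟩ := QuotientGroup.mk'_surjective Z g
    rw [← map_pow, hmap]
    exact Subgroup.mem_map_of_mem _ (hsq g)) hsmall
  obtain ⟨a, rfl⟩ := QuotientGroup.mk'_surjective Z a'
  obtain ⟨d, hd'⟩ := orderOf_map_dvd (QuotientGroup.mk' Z) a
  obtain ⟨m, hm⟩ := IsPGroup.iff_orderOf.mp h2 a
  have hdle : d ∣ 2 := by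
    have h1 : (a ^ orderOf (QuotientGroup.mk' Z a)) ∈ Z := by
      rw [← QuotientGroup.eq_one_iff, ← QuotientGroup.mk'_apply, map_pow, pow_orderOf_eq_one]
    have h3 : (a ^ orderOf (QuotientGroup.mk' Z a)) ^ 2 = 1 := by
      obtain ⟨i, hi⟩ := Subgroup.mem_zpowers_iff.mp h1
      rw [← hi, ← zpow_natCast, ← zpow_mul, mul_comm, zpow_mul, zpow_natCast, ← hzo, pow_orderOf_eq_one, one_zpow]
    rw [← pow_mul] at h3
    have h4' := orderOf_dvd_of_pow_eq_one h3
    have hpos : 0 < orderOf (QuotientGroup.mk' Z a) := orderOf_pos _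
    rw [hd'] at h4'
    exact (Nat.mul_dvd_mul_iff_left hpos).mp h4'
  rcases (Nat.prime_two.eq_one_or_self_of_dvd d hdle) with rfl | rfl
  swap
  · exact ⟨a, by rw [hd', hcard, ← ha']; ring⟩
  -- the abelian case is impossible
  exfalso
  rw [mul_one] at hd'
  rw [← hd'] at ha'
  have hm2 : 2 ≤ m := by
    by_contra hc
    have : 2 ^ m ≤ 2 ^ 1 := Nat.pow_le_pow_right (by norm_num) (by omega)
    omega
  set A := zpowers a ⊔ Z with hA
  have hAc : A ≤ Subgroup.centralizer (A : Set S) := by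
    have hza : ∀ x : S, Commute z x := fun x => (Subgroup.mem_center_iff.mp hzc x).symm
    rw [hA, hZ, Subgroup.zpowers_eq_closure, Subgroup.zpowers_eq_closure, ← Subgroup.closure_union, Set.singleton_union]
    refine (Subgroup.closure_le _).mpr fun x hx => ?_
    rw [SetLike.mem_coe, Subgroup.centralizer_closure, Subgroup.mem_centralizer_iff]
    intro y hy
    rcases hx with rfl | rfl <;> rcases hy with rfl | rfl
    · rfl
    · exact (hza x).eq
    · exact (hza y).eq.symm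
    · rfl
  have hAi : A.index = 2 := by
    have h1 : A = (zpowers (QuotientGroup.mk' Z a)).comap (QuotientGroup.mk' Z) := by
      rw [← MonoidHom.map_zpowers, Subgroup.comap_map_eq, QuotientGroup.ker_mk']
    rw [h1, Subgroup.index_comap_of_surjective _ (QuotientGroup.mk'_surjective Z)]
    have h3 := (zpowers (QuotientGroup.mk' Z a)).card_mul_index
    rw [Nat.card_zpowers, ← hd', ← ha'] at h3
    exact Nat.eq_of_mul_eq_mul_left (orderOf_pos a) h3
  have hAn : A.Normal := Subgroup.normal_of_index_eq_two hAi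
  obtain ⟨b, hb⟩ : ∃ b, b ∉ A := by
    by_contra hall
    push Not at hall
    rw [Subgroup.index_eq_one.mpr (eq_top_iff.mpr fun x _ => hall x)] at hAi
    omega
  have hcomm : ∀ x ∈ A, ∀ y ∈ A, x * y = y * x := fun x hx y hy => Subgroup.mem_centralizer_iff.mp (hAc hy) x hx
  let f : A →* A :=
    { toFun := fun x => ⟨b * x * b⁻¹, hAn.conj_mem x x.2 b⟩ * x⁻¹
      map_one' := by simp
      map_mul' := fun x y => by
        refine Subtype.ext ?_
        simp only [Subgroup.coe_mul, Subgroup.coe_inv, mul_inv_rev]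
        have hc : (y : S)⁻¹ * (x : S)⁻¹ = (x : S)⁻¹ * (y : S)⁻¹ := hcomm _ (A.inv_mem y.2) _ (A.inv_mem x.2)
        have hc2 : b * y * b⁻¹ * (x : S)⁻¹ = (x : S)⁻¹ * (b * y * b⁻¹) := hcomm _ (hAn.conj_mem y y.2 b) _ (A.inv_mem x.2)
        calc b * (↑x * ↑y) * b⁻¹ * ((y : S)⁻¹ * (x : S)⁻¹)
            = b * x * b⁻¹ * (b * y * b⁻¹ * (x : S)⁻¹) * (y : S)⁻¹ := by rw [hc]; group
          _ = b * x * b⁻¹ * (x : S)⁻¹ * (b * y * b⁻¹ * (y : S)⁻¹) := by rw [hc2]; group }
  set D := f.range.map A.subtype with hD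
  have hfmem : ∀ x ∈ A, b * x * b⁻¹ * x⁻¹ ∈ D := fun x hx => ⟨f ⟨x, hx⟩, ⟨⟨x, hx⟩, rfl⟩, rfl⟩
  have hDA : D ≤ A := Subgroup.map_subtype_le _
  have hcases : ∀ g : S, g ∈ A ∨ b⁻¹ * g ∈ A := fun g => by
    by_cases hg : g ∈ A
    · exact Or.inl hg
    · refine Or.inr ((Subgroup.mul_mem_iff_of_index_two hAi).mpr ?_)
      simp [hg, inv_mem_iff, hb]
  have hDn : D.Normal := by
    refine ⟨fun w hw g => ?_⟩
    have hbconj : b * w * b⁻¹ ∈ D := by
      obtain ⟨_, ⟨⟨x, hx⟩, rfl⟩, rfl⟩ := hw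
      have := hfmem _ (hAn.conj_mem x hx b)
      convert this using 1
      show b * (b * x * b⁻¹ * x⁻¹) * b⁻¹ = _
      group
    have hAconj : ∀ c ∈ A, ∀ v ∈ D, c * v * c⁻¹ = v := fun c hc v hv => by
      rw [hcomm c hc v (hDA hv), mul_inv_cancel_right]
    rcases hcases g with hg | hg
    · rwa [hAconj g hg w hw]
    · rw [show g * w * g⁻¹ = b * ((b⁻¹ * g) * w * (b⁻¹ * g)⁻¹) * b⁻¹ by group, hAconj _ hg w hw]
      exact hbconj
  have hle : commutator S ≤ D := by
    have key : ∀ x y : S ⧸ D, x * y = y * x := by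
      have hbA : ∀ x ∈ A, Commute (QuotientGroup.mk' D b) (QuotientGroup.mk' D x) := fun x hx => by
        show _ * _ = _ * _
        rw [← mul_inv_eq_one, ← map_mul, ← map_mul, ← map_inv, ← map_mul, QuotientGroup.mk'_apply, QuotientGroup.eq_one_iff]
        have := hfmem x hx
        convert this using 1
        group
      have hAA : ∀ x ∈ A, ∀ y ∈ A, Commute (QuotientGroup.mk' D x) (QuotientGroup.mk' D y) := fun x hx y hy => by
        show _ * _ = _ * _
        rw [← map_mul, ← map_mul, hcomm x hx y hy]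
      have hall : ∀ g : S, ∃ (e : ℕ) (c : S), c ∈ A ∧ g = b ^ e * c := fun g => by
        rcases hcases g with hg | hg
        · exact ⟨0, g, hg, by simp⟩
        · exact ⟨1, b⁻¹ * g, hg, by simp⟩
      intro x y
      obtain ⟨x, rfl⟩ := QuotientGroup.mk'_surjective D x
      obtain ⟨y, rfl⟩ := QuotientGroup.mk'_surjective D y
      obtain ⟨e, c, hc, rfl⟩ := hall x
      obtain ⟨e', c', hc', rfl⟩ := hall y
      simp only [map_mul, map_pow]
      exact ((((Commute.refl (QuotientGroup.mk' D b)).pow_pow e e').mul_right ((hbA c' hc').pow_left e))).mul_left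
        ((((hbA c hc).symm).pow_right e').mul_right (hAA c hc c' hc'))
    rw [_root_.commutator_def, Subgroup.commutator_le]
    intro x _ y _
    rw [← QuotientGroup.eq_one_iff, ← QuotientGroup.mk'_apply, map_commutatorElement, commutatorElement_eq_one_iff_mul_comm]
    exact key _ _
  -- four elements in the kernel
  set h := a ^ 2 ^ (m - 1) with hh
  have hho : orderOf h = 2 := by
    rw [hh, orderOf_pow, hm, Nat.gcd_eq_right (pow_dvd_pow 2 (Nat.sub_le _ _)), Nat.pow_div (Nat.sub_le _ _) (by norm_num),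
      show m - (m - 1) = 1 by omega, pow_one]
  have hhA : h ∈ A := Subgroup.mem_sup_left (pow_mem (mem_zpowers a) _)
  have hbh : b * h * b⁻¹ = h := by
    obtain ⟨y, hy, w, hw, e⟩ := Subgroup.mem_sup_of_normal_right.mp (hAn.conj_mem a (Subgroup.mem_sup_left (mem_zpowers a)) b)
    obtain ⟨i, rfl⟩ := mem_powers_iff_mem_zpowers.mpr hy
    have hwc : Commute (a ^ i) w := (hcomm _ (Subgroup.mem_sup_left (pow_mem (mem_zpowers a) i)) _ (Subgroup.mem_sup_right hw))
    have e1 : b * h * b⁻¹ = h ^ i := by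
      rw [hh, ← conj_pow, ← e, hwc.mul_pow, ← pow_mul, ← pow_mul, mul_comm i]
      obtain ⟨l, rfl⟩ := Subgroup.mem_zpowers_iff.mp hw
      have : (z ^ l) ^ 2 ^ (m - 1) = 1 := by
        obtain ⟨q, hq⟩ : ∃ q, m - 1 = q + 1 := ⟨m - 2, by omega⟩
        rw [hq, pow_succ', pow_mul, ← zpow_natCast (z ^ l) 2, ← zpow_mul, mul_comm, zpow_mul, zpow_natCast, ← hzo, pow_orderOf_eq_one, one_zpow, one_pow]
      rw [this, mul_one]
    rw [e1, ← pow_mod_orderOf, hho]
    rcases Nat.mod_two_eq_zero_or_one i with hi | hi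
    · exfalso
      rw [← pow_mod_orderOf, hho, hi, pow_zero, conj_eq_one_iff] at e1
      rw [e1, orderOf_one] at hho
      norm_num at hho
    · rw [hi, pow_one]
  have hker : ∀ x : A, b * x * b⁻¹ = x → x ∈ f.ker := fun x hx => by
    rw [MonoidHom.mem_ker]
    refine Subtype.ext ?_
    show b * x * b⁻¹ * (x : S)⁻¹ = 1
    rw [hx, mul_inv_cancel]
  have hk4 : 4 ≤ Nat.card f.ker := by
    have hzne : z ≠ h := fun e => by
      have hza : z ∈ zpowers a := e ▸ pow_mem (mem_zpowers a) _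
      have : A = zpowers a := sup_eq_left.mpr (Subgroup.zpowers_le.mpr hza)
      have h3 := A.card_mul_index
      rw [hAi, this, Nat.card_zpowers, hcard] at h3
      omega
    have hz1 : z ≠ 1 := fun e => by rw [e, orderOf_one] at hzo; norm_num at hzo
    have hh1 : h ≠ 1 := fun e => by rw [e, orderOf_one] at hho; norm_num at hho
    let g : Fin 4 → f.ker := ![1, ⟨⟨z, Subgroup.mem_sup_right (mem_zpowers z)⟩, hker _ (by
        show b * z * b⁻¹ = z
        rw [Subgroup.mem_center_iff.mp hzc b, mul_inv_cancel_right])⟩,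
      ⟨⟨h, hhA⟩, hker _ hbh⟩,
      ⟨⟨z * h, A.mul_mem (Subgroup.mem_sup_right (mem_zpowers z)) hhA⟩, hker _ (by
        show b * (z * h) * b⁻¹ = z * h
        rw [show b * (z * h) * b⁻¹ = (b * z * b⁻¹) * (b * h * b⁻¹) by group, hbh, Subgroup.mem_center_iff.mp hzc b, mul_inv_cancel_right])⟩]
    have hzh : z * h ≠ 1 := fun e => hzne (by
      have hh2 : h * h = 1 := by rw [← pow_two, ← hho, pow_orderOf_eq_one]
      calc z = z * (h * h) := by rw [hh2, mul_one]
        _ = h := by rw [← mul_assoc, e, one_mul])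
    have hg : Function.Injective g := by
      intro x y hxy
      have := congrArg (fun t : f.ker => ((t : A) : S)) hxy
      fin_cases x <;> fin_cases y <;> first | rfl | (exfalso; simp [g, hz1, hh1, hzne, hzne.symm, hz1.symm, hh1.symm, hzh, hzh.symm] at this)
    simpa using Nat.card_le_card_of_injective g hg
  have h1 := Subgroup.card_le_of_le hle
  rw [Subgroup.card_map_of_injective A.subtype_injective] at h1
  have h3 := f.ker.card_mul_index
  rw [Subgroup.index_ker] at h3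
  have h5 := (commutator S).card_mul_index
  rw [h4] at h5
  have h6 := A.card_mul_index
  rw [hAi] at h6
  have h7 : 4 * Nat.card f.range ≤ Nat.card A := h3 ▸ Nat.mul_le_mul_right _ hk4
  omega

/-- The shapes. -/
theorem cases_taussky [Finite S] (h2 : IsPGroup 2 S) (h4 : (commutator S).index = 4)
    (hsq : ∀ g : S, g ^ 2 ∈ commutator S) (h8 : 8 ≤ Nat.card S) :
    ∃ (m : ℕ) (a b : S), 2 ≤ m ∧ orderOf a = 2 ^ m ∧ Nat.card S = 2 ^ (m + 1) ∧ b ∉ zpowers a ∧
      (∀ g : S, g ∈ zpowers a ∨ b⁻¹ * g ∈ zpowers a) ∧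
      ((b * a * b⁻¹ = a⁻¹ ∧ (b ^ 2 = 1 ∨ b ^ 2 = a ^ 2 ^ (m - 1))) ∨
        (3 ≤ m ∧ b * a * b⁻¹ = a ^ (2 ^ (m - 1) - 1) ∧ b ^ 2 = 1)) := by
  have := Fact.mk Nat.prime_two
  obtain ⟨a, ha⟩ := exists_cyclic_index_two _ S rfl h2 h4 hsq h8
  obtain ⟨m, hm⟩ := IsPGroup.iff_orderOf.mp h2 a
  have hcard : Nat.card S = 2 ^ (m + 1) := by rw [← ha, hm, pow_succ]
  have hm2 : 2 ≤ m := by
    by_contra hc
    have : 2 ^ (m + 1) ≤ 2 ^ 2 := Nat.pow_le_pow_right (by norm_num) (by omega)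
    omega
  set A := zpowers a with hA
  have hAi : A.index = 2 := by
    have h3 := A.card_mul_index
    rw [hA, Nat.card_zpowers, ← ha] at h3
    exact Nat.eq_of_mul_eq_mul_left (orderOf_pos a) h3
  have hAn : A.Normal := Subgroup.normal_of_index_eq_two hAi
  obtain ⟨b, hb⟩ : ∃ b, b ∉ A := by
    by_contra hall
    push Not at hall
    rw [Subgroup.index_eq_one.mpr (eq_top_iff.mpr fun x _ => hall x)] at hAi
    omega
  have hgen : ∀ c, c ∉ A → ∀ g : S, g ∈ A ∨ c⁻¹ * g ∈ A := fun c hc g => by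
    by_cases hg : g ∈ A
    · exact Or.inl hg
    · refine Or.inr ((Subgroup.mul_mem_iff_of_index_two hAi).mpr ?_)
      simp [hg, inv_mem_iff, hc]
  obtain ⟨r, hr⟩ := mem_powers_iff_mem_zpowers.mpr (hAn.conj_mem a (mem_zpowers a) b)
  change a ^ r = _ at hr
  obtain ⟨w, hw⟩ := mem_powers_iff_mem_zpowers.mpr (Subgroup.sq_mem_of_index_two hAi b)
  change a ^ w = _ at hw
  have hzeq : ∀ i j : ℤ, a ^ i = a ^ j ↔ (2 : ℤ) ^ m ∣ j - i := fun i j => by
    rw [eq_comm, ← mul_inv_eq_one, ← zpow_neg, ← zpow_add, ← orderOf_dvd_iff_zpow_eq_one, hm, sub_eq_add_neg]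
    norm_num
  have e1 : (2 : ℤ) ^ m ∣ (w : ℤ) * r - w := by
    rw [← hzeq, zpow_natCast, ← Nat.cast_mul, zpow_natCast, mul_comm, pow_mul, hr, conj_pow, hw]
    group
  have e2 : (2 : ℤ) ^ m ∣ (r : ℤ) * r - 1 := by
    rw [← hzeq, zpow_one, ← Nat.cast_mul, zpow_natCast, pow_mul, hr, conj_pow, hr]
    have hc : b ^ 2 * a = a * b ^ 2 := by rw [← hw]; exact ((Commute.refl a).pow_left w).eq
    calc a = a * b ^ 2 * (b ^ 2)⁻¹ := by rw [mul_inv_cancel_right]
      _ = b * (b * a * b⁻¹) * b⁻¹ := by rw [← hc]; simp only [pow_two]; group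
  -- the commutator subgroup
  set c := a ^ ((r : ℤ) - 1) with hc
  have hcn : (zpowers c).Normal := by
    refine ⟨fun x hx g => ?_⟩
    have hxA : x ∈ A := (Subgroup.zpowers_le.mpr (Subgroup.zpow_mem _ (mem_zpowers a) _)) hx
    have hAcomm : ∀ t ∈ A, t * x * t⁻¹ = x := fun t ht => by
      have := IsMulCommutative.is_comm.comm (⟨t, ht⟩ : A) ⟨x, hxA⟩
      rw [show t * x = x * t from congrArg Subtype.val this, mul_inv_cancel_right]
    rcases hgen b hb g with hg | hg
    · rwa [hAcomm g hg]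
    · rw [show g * x * g⁻¹ = b * ((b⁻¹ * g) * x * (b⁻¹ * g)⁻¹) * b⁻¹ by group, hAcomm _ hg]
      obtain ⟨i, rfl⟩ := Subgroup.mem_zpowers_iff.mp hx
      rw [hc, ← conj_zpow, ← conj_zpow, ← hr, ← zpow_natCast a r, ← zpow_mul, ← zpow_mul,
        show (r : ℤ) * (((r : ℤ) - 1) * i) = ((r : ℤ) - 1) * ((r : ℤ) * i) by ring, zpow_mul]
      exact Subgroup.zpow_mem _ (mem_zpowers (a ^ ((r : ℤ) - 1))) _
  have hle : commutator S ≤ zpowers c := by
    rw [_root_.commutator_def, Subgroup.commutator_le]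
    intro x _ y _
    rw [← QuotientGroup.eq_one_iff, ← QuotientGroup.mk'_apply, map_commutatorElement, commutatorElement_eq_one_iff_mul_comm]
    have hba : Commute (QuotientGroup.mk' (zpowers c) b) (QuotientGroup.mk' (zpowers c) a) := by
      show _ * _ = _ * _
      rw [← mul_inv_eq_one, ← map_mul, ← map_mul, ← map_inv, ← map_mul, QuotientGroup.mk'_apply, QuotientGroup.eq_one_iff]
      have : b * a * (a * b)⁻¹ = c := by
        rw [mul_inv_rev, ← mul_assoc, ← hr, hc, zpow_sub, zpow_one, zpow_natCast]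
      rw [this]; exact mem_zpowers c
    have hall : ∀ g : S, ∃ (e : ℕ) (i : ℕ), g = b ^ e * a ^ i := fun g => by
      rcases hgen b hb g with hg | hg
      · obtain ⟨i, hi⟩ := mem_powers_iff_mem_zpowers.mpr hg
        exact ⟨0, i, by simp only at hi; simp [hi]⟩
      · obtain ⟨i, hi⟩ := mem_powers_iff_mem_zpowers.mpr hg
        exact ⟨1, i, by simp only at hi; rw [hi]; simp⟩
    obtain ⟨e, i, rfl⟩ := hall x
    obtain ⟨e', i', rfl⟩ := hall y
    simp only [map_mul, map_pow]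
    exact (((Commute.refl _).pow_pow e e').mul_right (hba.pow_pow e i')).mul_left
      ((hba.symm.pow_pow i e').mul_right ((Commute.refl _).pow_pow i i'))
  have hodd : ¬ (4 : ℤ) ∣ (r : ℤ) - 1 := by
    rintro ⟨u, hu⟩
    have h5 := (commutator S).card_mul_index
    rw [h4, hcard] at h5
    have h6 : Nat.card (commutator S) ∣ orderOf c := Nat.card_zpowers c ▸ Subgroup.card_dvd_of_le hle
    have h7 : orderOf c ∣ 2 ^ (m - 2) := by
      apply orderOf_dvd_of_pow_eq_one
      rw [← zpow_natCast, hc, ← zpow_mul, ← orderOf_dvd_iff_zpow_eq_one, hm, hu]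
      refine ⟨u, ?_⟩
      push_cast
      rw [show (2 : ℤ) ^ m = 2 ^ (m - 2) * 4 by rw [show (4 : ℤ) = 2 ^ 2 by norm_num, ← pow_add, show m - 2 + 2 = m by omega]]
      ring
    have h8 : Nat.card (commutator S) = 2 ^ (m - 1) := by
      have : 2 ^ (m + 1) = 2 ^ (m - 1) * 4 := by
        rw [show (4 : ℕ) = 2 ^ 2 by norm_num, ← pow_add, show m - 1 + 2 = m + 1 by omega]
      omega
    have h9 := h6.trans h7
    rw [h8] at h9
    have := (Nat.pow_dvd_pow_iff_le_right (by norm_num)).mp h9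
    omega
  -- solve the congruences
  obtain ⟨q, hq⟩ : ∃ q, m = q + 1 := ⟨m - 1, by omega⟩
  subst hq
  have hrodd : ¬ (2 : ℤ) ∣ r := by
    intro hd
    have h10 : (2 : ℤ) ∣ (r : ℤ) * r - 1 := (dvd_pow_self (2 : ℤ) (by omega)).trans e2
    have := dvd_sub (hd.mul_right (r : ℤ)) h10
    rw [sub_sub_cancel] at this
    norm_num at this
  obtain ⟨u, hu⟩ : (2 : ℤ) ∣ (r : ℤ) - 1 := by omega
  have hu2 : IsCoprime ((2 : ℤ) ^ q) u := by
    refine ((Int.prime_two.coprime_iff_not_dvd).mpr fun hd => hodd ?_).pow_left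
    rw [hu, show (4 : ℤ) = 2 * 2 by norm_num]
    exact mul_dvd_mul_left 2 hd
  have hcanc : ∀ X : ℤ, (2 : ℤ) ^ (q + 1) ∣ ((r : ℤ) - 1) * X → (2 : ℤ) ^ q ∣ X := fun X hX => by
    rw [hu, pow_succ', mul_assoc] at hX
    exact hu2.dvd_of_dvd_mul_left ((mul_dvd_mul_iff_left two_ne_zero).mp hX)
  obtain ⟨δ, hδ⟩ := hcanc ((r : ℤ) + 1) (by convert e2 using 1; ring)
  obtain ⟨ε, hε⟩ := hcanc (w : ℤ) (by convert e1 using 1; ring)
  have hh2 : ∀ k : ℤ, a ^ ((2 : ℤ) ^ q * k) = 1 ∨ a ^ ((2 : ℤ) ^ q * k) = a ^ 2 ^ q := fun k => by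
    have hnat : a ^ 2 ^ q = a ^ ((2 : ℤ) ^ q) := by rw [← zpow_natCast]; norm_num
    rcases Int.even_or_odd k with ⟨l, rfl⟩ | ⟨l, rfl⟩
    · left
      rw [← zpow_zero a, hzeq]
      exact ⟨-l, by rw [pow_succ]; ring⟩
    · right
      rw [hnat, hzeq]
      exact ⟨-l, by rw [pow_succ]; ring⟩
  have hsq' : b ^ 2 = 1 ∨ b ^ 2 = a ^ 2 ^ q := by
    rw [← hw, ← zpow_natCast a w, hε]; exact hh2 ε
  rcases Int.even_or_odd δ with ⟨l, hl⟩ | ⟨l, hl⟩
  · refine ⟨q + 1, a, b, hm2, hm, hcard, hb, hgen b hb, Or.inl ⟨?_, by simpa using hsq'⟩⟩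
    rw [← hr, ← zpow_natCast a r, ← zpow_neg_one, hzeq]
    exact ⟨-l, by rw [pow_succ]; linear_combination -hδ - (2 : ℤ) ^ q * hl⟩
  · have hq2 : 2 ≤ q := by
      by_contra hc
      have hq1 : q = 1 := by omega
      subst hq1
      refine hodd ⟨l, ?_⟩
      linear_combination hδ + (2 : ℤ) ^ 1 * hl
    have hconj : b * a * b⁻¹ = a ^ (2 ^ q - 1) := by
      rw [← hr, ← zpow_natCast a r, ← zpow_natCast a (2 ^ q - 1), hzeq, Nat.cast_sub Nat.one_le_two_pow]
      push_cast
      exact ⟨-l, by rw [pow_succ]; linear_combination -hδ - (2 : ℤ) ^ q * hl⟩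
    rcases hsq' with hs | hs
    · exact ⟨q + 1, a, b, hm2, hm, hcard, hb, hgen b hb, Or.inr ⟨by omega, by simpa using hconj, hs⟩⟩
    · have hab : a * b ∉ A := fun h => hb ((Subgroup.mul_mem_cancel_left _ (mem_zpowers a)).mp h)
      refine ⟨q + 1, a, a * b, hm2, hm, hcard, hab, hgen _ hab, Or.inr ⟨by omega, ?_, ?_⟩⟩
      · rw [Nat.add_sub_cancel, show a * b * a * (a * b)⁻¹ = a * (b * a * b⁻¹) * a⁻¹ by group, hconj, ← pow_succ', pow_succ,
          mul_inv_cancel_right]
      · rw [pow_two, show a * b * (a * b) = a * (b * a * b⁻¹) * (b * b) by group, ← pow_two, hs, hconj, ← pow_succ',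
          ← pow_add, show 2 ^ q - 1 + 1 + 2 ^ q = 2 ^ (q + 1) by
            have := Nat.one_le_two_pow (n := q); rw [pow_succ]; omega, ← hm, pow_orderOf_eq_one]

end CfsgLib.TausskyTwo
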