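import Mathlib
import Cfsg.Agent.Lib.OrthOrderBase
import Cfsg.Agent.Lib.TausskyTwo

/-! The two-dimensional orthogonal groups are dihedral. -/

set_option autoImplicit false

namespace CfsgLib.OrthBinary

open Subgroup CfsgLib.OrthOrder
open scoped Matrix

theorem dihedral_of_card {G : Type*} [Group G] [Finite G] {M : ℕ} (hM : 0 < M) (hG : Nat.card G = 2 * M)
    (a x : G) (ha : orderOf a = M) (hx : x ^ 2 = 1) (hconj : x * a * x⁻¹ = a⁻¹) (hxA : x ∉ zpowers a) :
    Nonempty (G ≃* DihedralGroup M) := by
  have hidx : (zpowers a).index = 2 := by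
    have h := card_mul_index (zpowers a)
    rw [Nat.card_zpowers, ha, hG, mul_comm 2] at h
    exact Nat.eq_of_mul_eq_mul_left hM h
  refine TausskyTwo.dihedral_iso hM a x ha hx hconj hxA fun g => or_iff_not_imp_left.mpr fun hg => ?_
  rw [mul_mem_iff_of_index_two hidx]
  simp [hg, hxA]

variable {F : Type*} [Field F]

section Plus

/-- `diag(l, l⁻¹)` -/
def torusMat (l : Fˣ) : Matrix (Fin 1 ⊕ Fin 1) (Fin 1 ⊕ Fin 1) F :=
  Matrix.fromBlocks ((l : F) • 1) 0 0 ((↑l⁻¹ : F) • 1)

theorem torusMat_one : torusMat (1 : Fˣ) = 1 := by simp [torusMat]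

theorem torusMat_mul (k l : Fˣ) : torusMat (k * l) = torusMat k * torusMat l := by
  simp [torusMat, Matrix.fromBlocks_multiply, smul_smul, mul_comm]

/-- The split torus inside the binary hyperbolic orthogonal group. -/
def torus : Fˣ →* Cfsg.isometryGroup F (Cfsg.quadFormPlus 1 F) where
  toFun l := ⟨⟨torusMat l, torusMat l⁻¹, by rw [← torusMat_mul, mul_inv_cancel, torusMat_one],
      by rw [← torusMat_mul, inv_mul_cancel, torusMat_one]⟩, fun u _ => by
    simp [Cfsg.quadFormPlus, torusMat, Matrix.fromBlocks_mulVec, Matrix.smul_mulVec]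
    field_simp⟩
  map_one' := Subtype.ext (Units.ext torusMat_one)
  map_mul' k l := Subtype.ext (Units.ext (torusMat_mul k l))

theorem torus_val (l : Fˣ) : (torus l).1.1 = torusMat l := rfl

variable [Fintype F]

theorem plus_dihedral :
    Nonempty (Cfsg.isometryGroup F (Cfsg.quadFormPlus 1 F) ≃* DihedralGroup (Fintype.card F - 1)) := by
  classical
  have h1 : 1 < Fintype.card F := Fintype.one_lt_card
  have hinj : Function.Injective (torus (F := F)) := fun k l h => Units.ext <| by
    have := congrFun (congrFun (congrArg (fun g => g.1.1) h) (Sum.inl 0)) (Sum.inl 0)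
    simpa [torus_val, torusMat] using this
  obtain ⟨ω, hω⟩ := IsCyclic.exists_generator (α := Fˣ)
  let S : Matrix (Fin 1 ⊕ Fin 1) (Fin 1 ⊕ Fin 1) F := Matrix.fromBlocks 0 1 1 0
  have hS : S * S = 1 := by simp [S, Matrix.fromBlocks_multiply]
  let x : Cfsg.isometryGroup F (Cfsg.quadFormPlus 1 F) := ⟨⟨S, S, hS, hS⟩, fun u _ => by
    simp [Cfsg.quadFormPlus, S, Matrix.fromBlocks_mulVec, mul_comm]⟩
  have hxv : x.1.1 = S := rfl
  refine dihedral_of_card (by omega) ?_ (torus ω) x ?_ ?_ ?_ ?_
  · rw [card_O_plus 1 le_rfl]; simp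
  · rw [orderOf_injective _ hinj, orderOf_eq_card_of_forall_mem_zpowers hω, Nat.card_units,
      Nat.card_eq_fintype_card]
  · exact Subtype.ext (Units.ext (by rw [pow_two]; exact hS))
  · refine mul_inv_eq_of_eq_mul (Subtype.ext (Units.ext ?_))
    show S * torusMat ω = (torus ω)⁻¹.1.1 * S
    rw [← map_inv, torus_val]
    simp [S, torusMat, Matrix.fromBlocks_multiply]
  · intro h
    rw [← MonoidHom.map_zpowers] at h
    obtain ⟨l, -, hl⟩ := h
    have := congrFun (congrFun (congrArg (fun g => g.1.1) hl) (Sum.inl 0)) (Sum.inl 0)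
    simp [hxv, torus_val, torusMat, S] at this

end Plus

section Minus

variable {a b : F}

local notation "ι" => (Fin 0 ⊕ Fin 0) ⊕ Fin 2

/-- Extend a 2×2 matrix to the index type of `quadFormMinus 0`. -/
def ext2 (M : Matrix (Fin 2) (Fin 2) F) : Matrix ι ι F := Matrix.fromBlocks 1 0 0 M

theorem ext2_mul (M N : Matrix (Fin 2) (Fin 2) F) : ext2 (M * N) = ext2 M * ext2 N := by
  simp [ext2, Matrix.fromBlocks_multiply]

theorem ext2_one : ext2 (1 : Matrix (Fin 2) (Fin 2) F) = 1 := by simp [ext2]

theorem ext2_preserves {M : Matrix (Fin 2) (Fin 2) F}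
    (h : ∀ w, binForm a b (M *ᵥ w) = binForm a b w) (u : ι → F) :
    Cfsg.quadFormMinus 0 F a b (ext2 M *ᵥ u) = Cfsg.quadFormMinus 0 F a b u := by
  have := h (u ∘ Sum.inr)
  rw [binForm_apply, binForm_apply] at this
  simpa [Cfsg.quadFormMinus, ext2, Matrix.fromBlocks_mulVec] using this

/-- Multiplication by `v 0 + v 1 τ`, `τ² = a τ - b`. -/
def rot (a b : F) (v : Fin 2 → F) : Matrix (Fin 2) (Fin 2) F :=
  !![v 0, -b * v 1; v 1, v 0 + a * v 1]

/-- The product of two rotations. -/
def rotMul (a b : F) (u v : Fin 2 → F) : Fin 2 → F :=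
  ![u 0 * v 0 - b * u 1 * v 1, u 1 * v 0 + u 0 * v 1 + a * u 1 * v 1]

theorem rot_mul (u v : Fin 2 → F) : rot a b u * rot a b v = rot a b (rotMul a b u v) := by
  ext i j
  fin_cases i <;> fin_cases j <;> simp [rot, rotMul, Matrix.mul_apply, Fin.sum_univ_two] <;> ring

theorem rot_one : rot a b ![1, 0] = 1 := by
  ext i j
  fin_cases i <;> fin_cases j <;> simp [rot]

theorem rot_col (v : Fin 2 → F) (i : Fin 2) : rot a b v i 0 = v i := by
  fin_cases i <;> simp [rot]

theorem bin_rotMul (u v : Fin 2 → F) :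
    binForm a b (rotMul a b u v) = binForm a b u * binForm a b v := by
  simp [binForm_apply, rotMul]; ring

theorem rot_preserves (v w : Fin 2 → F) :
    binForm a b (rot a b v *ᵥ w) = binForm a b v * binForm a b w := by
  simp [binForm_apply, rot, Matrix.mulVec, dotProduct, Fin.sum_univ_two]; ring

variable [Fintype F]

theorem minus_dihedral (hab : ∀ z₁ z₂ : F, z₁ ^ 2 + a * z₁ * z₂ + b * z₂ ^ 2 = 0 → z₁ = 0 ∧ z₂ = 0) :
    Nonempty (Cfsg.isometryGroup F (Cfsg.quadFormMinus 0 F a b) ≃* DihedralGroup (Fintype.card F + 1)) := by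
  classical
  set G := Cfsg.isometryGroup F (Cfsg.quadFormMinus 0 F a b)
  let R : Subgroup G :=
    { carrier := {g | ∃ v, binForm a b v = 1 ∧ g.1.1 = ext2 (rot a b v)}
      one_mem' := ⟨![1, 0], by simp [binForm_apply], by rw [rot_one, ext2_one]; rfl⟩
      mul_mem' := by
        rintro g h ⟨u, hu, hg⟩ ⟨v, hv, hh⟩
        refine ⟨rotMul a b u v, by rw [bin_rotMul, hu, hv, one_mul], ?_⟩
        show g.1.1 * h.1.1 = _
        rw [hg, hh, ← ext2_mul, rot_mul]
      inv_mem' := by
        rintro g ⟨u, hu, hg⟩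
        refine ⟨![u 0 + a * u 1, -u 1], ?_, ?_⟩
        · rw [binForm_apply] at hu
          simp [binForm_apply]; linear_combination hu
        · refine left_inv_eq_right_inv (a := g.1.1) (by exact_mod_cast g.1.inv_mul) ?_
          rw [hg, ← ext2_mul, rot_mul, show rotMul a b u ![u 0 + a * u 1, -u 1] = ![1, 0] from ?_,
            rot_one, ext2_one]
          rw [binForm_apply] at hu
          funext i
          fin_cases i <;> simp [rotMul]
          · linear_combination hu
          · ring }
  have hmk : ∀ v, binForm a b v = 1 → ∃ g : R, g.1.1.1 = ext2 (rot a b v) := by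
    intro v hv
    have h1 : rotMul a b v ![v 0 + a * v 1, -v 1] = ![1, 0] := by
      rw [binForm_apply] at hv
      funext i
      fin_cases i <;> simp [rotMul]
      · linear_combination hv
      · ring
    have h2 : rotMul a b ![v 0 + a * v 1, -v 1] v = ![1, 0] := by
      rw [binForm_apply] at hv
      funext i
      fin_cases i <;> simp [rotMul]
      · linear_combination hv
      · ring
    exact ⟨⟨⟨⟨ext2 (rot a b v), ext2 (rot a b ![v 0 + a * v 1, -v 1]),
        by rw [← ext2_mul, rot_mul, h1, rot_one, ext2_one],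
        by rw [← ext2_mul, rot_mul, h2, rot_one, ext2_one]⟩,
      fun u _ => ext2_preserves (fun w => by rw [rot_preserves, hv, one_mul]) u⟩, v, hv, rfl⟩, rfl⟩
  let col : R → Fin 2 → F := fun g i => g.1.1.1 (Sum.inr i) (Sum.inr 0)
  have hcol : ∀ g : R, binForm a b (col g) = 1 ∧ g.1.1.1 = ext2 (rot a b (col g)) := fun g => by
    obtain ⟨v, hv, hg⟩ := g.2
    have : col g = v := funext fun i => by simp [col, hg, ext2, rot_col]
    rw [this]; exact ⟨hv, hg⟩
  have hcinj : Function.Injective col := fun g h e =>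
    Subtype.ext (Subtype.ext (Units.ext (by rw [(hcol g).2, (hcol h).2, e])))
  have hcard : Nat.card R = Fintype.card F + 1 := by
    rw [← card_conic hab]
    refine Nat.card_eq_of_bijective (fun g => ⟨col g, (hcol g).1⟩)
      ⟨fun g h e => hcinj (congrArg Subtype.val e), fun v => ?_⟩
    obtain ⟨g, hg⟩ := hmk v.1 v.2
    exact ⟨g, Subtype.ext (funext fun i => by simp [col, hg, ext2, rot_col])⟩
  have : Finite R := Nat.finite_of_card_ne_zero (by omega)
  obtain ⟨τ, hτ⟩ : ∃ τ : AlgebraicClosure F,
      τ ^ 2 - algebraMap F _ a * τ + algebraMap F _ b = 0 := by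
    obtain ⟨τ, hτ⟩ := IsAlgClosed.exists_root (k := AlgebraicClosure F)
      (Polynomial.X ^ 2 - Polynomial.C (algebraMap F _ a) * Polynomial.X
        + Polynomial.C (algebraMap F _ b)) (ne_of_eq_of_ne
        (show Polynomial.degree _ = (2 : ℕ) by compute_degree!) (by norm_num))
    exact ⟨τ, by simpa [Polynomial.IsRoot] using hτ⟩
  let f : R →* AlgebraicClosure F :=
    { toFun := fun g => algebraMap F _ (col g 0) + algebraMap F _ (col g 1) * τ
      map_one' := by simp [col]
      map_mul' := fun g h => by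
          have : col (g * h) = rotMul a b (col g) (col h) := funext fun i => by
            show (g.1.1.1 * h.1.1.1) (Sum.inr i) (Sum.inr 0) = _
            rw [(hcol g).2, (hcol h).2, ← ext2_mul, rot_mul]
            simp [ext2, rot_col]
          rw [this]
          simp [rotMul]
          linear_combination (-(algebraMap F _ (col g 1) * algebraMap F _ (col h 1))) * hτ }
  have hf : Function.Injective f := fun g h e => by
    replace e : algebraMap F (AlgebraicClosure F) (col g 0) + algebraMap F _ (col g 1) * τ =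
      algebraMap F _ (col h 0) + algebraMap F _ (col h 1) * τ := e
    by_cases h1 : col g 1 = col h 1
    · rw [h1, add_left_inj] at e
      refine hcinj (funext fun i => ?_)
      fin_cases i
      · exact (algebraMap F _).injective e
      · exact h1
    · exfalso
      set t := (col h 0 - col g 0) / (col g 1 - col h 1) with ht
      have hne : algebraMap F (AlgebraicClosure F) (col g 1 - col h 1) ≠ 0 := by
        simpa [sub_eq_zero] using h1
      have hτt : τ = algebraMap F _ t := by
        rw [ht, map_div₀, eq_div_iff hne, map_sub, map_sub]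
        linear_combination e
      rw [hτt, ← map_pow, ← map_mul, ← map_sub, ← map_add, map_eq_zero] at hτ
      exact one_ne_zero (hab (-t) 1 (by linear_combination hτ)).2
  have : IsCyclic R := isCyclic_of_injective_ringHom f hf
  obtain ⟨ρ, hρ⟩ := IsCyclic.exists_generator (α := R)
  let S : Matrix (Fin 2) (Fin 2) F := !![1, a; 0, -1]
  have hS : S * S = 1 := by
    ext i j; fin_cases i <;> fin_cases j <;> simp [S, Matrix.mul_apply, Fin.sum_univ_two]
  have hSQ : ∀ w, binForm a b (S *ᵥ w) = binForm a b w := fun w => by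
    simp [binForm_apply, S, Matrix.mulVec, dotProduct, Fin.sum_univ_two]; ring
  let x : G := ⟨⟨ext2 S, ext2 S, by rw [← ext2_mul, hS, ext2_one],
    by rw [← ext2_mul, hS, ext2_one]⟩, fun u _ => ext2_preserves hSQ u⟩
  have hxv : x.1.1 = ext2 S := rfl
  refine dihedral_of_card (by omega) ?_ ρ.1 x ?_ ?_ ?_ ?_
  · have := card_O_minus 1 le_rfl a b hab
    simpa [mul_comm, mul_assoc] using this
  · rw [orderOf_coe, orderOf_eq_card_of_forall_mem_zpowers hρ, hcard]
  · exact Subtype.ext (Units.ext (by rw [pow_two]; show ext2 S * ext2 S = 1; rw [← ext2_mul, hS, ext2_one]))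
  · refine mul_inv_eq_of_eq_mul (eq_inv_mul_of_mul_eq ?_)
    refine Subtype.ext (Units.ext ?_)
    show ρ.1.1.1 * (ext2 S * ρ.1.1.1) = ext2 S
    rw [(hcol ρ).2, ← ext2_mul, ← ext2_mul]
    congr 1
    have hv := (hcol ρ).1
    rw [binForm_apply] at hv
    ext i j
    fin_cases i <;> fin_cases j <;>
      simp [S, rot, Matrix.mul_apply, Fin.sum_univ_two]
    · linear_combination hv
    · linear_combination a * hv
    · ring
    · linear_combination -hv
  · intro h
    have hx : x ∈ R := (zpowers_le.mpr ρ.2) h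
    obtain ⟨v, -, hv⟩ := hx
    rw [hxv] at hv
    have hSv : S = rot a b v := by
      ext i j
      simpa [ext2] using congrFun (congrFun hv (Sum.inr i)) (Sum.inr j)
    have e00 := congrFun (congrFun hSv 0) 0
    have e10 := congrFun (congrFun hSv 1) 0
    have e01 := congrFun (congrFun hSv 0) 1
    have e11 := congrFun (congrFun hSv 1) 1
    simp [S, rot] at e00 e10 e01 e11
    rw [← e10] at e01 e11
    simp at e01
    rw [mul_zero, add_zero, ← e00] at e11
    exact bin_a_ne_zero hab (by linear_combination -e11) e01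

end Minus

end CfsgLib.OrthBinary
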