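import Cfsg.Agent.Lib.DihedralClasses
import Cfsg.Agent.Lib.Fusion.Hyperfocal

/-!
Normal 2-complements and subgroups of index two in groups with dihedral Sylow 2-subgroups.
-/

set_option autoImplicit false
set_option linter.unusedSectionVars false

namespace CfsgLib.DihedralFusion

open DihedralGroup
open CfsgLib.LocalFusion

theorem zmod2_par (a b c : ZMod 2) : b - a + c + 1 = a + (b + c + 1) ∧ a + b + c + 1 = a + c + 1 + b ∧
    b - a = a + c + 1 + (b + c + 1) := by revert a b c; decide

theorem zmod2_cases (z : ZMod 2) : z = 0 ∨ z = 1 := by revert z; decide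

theorem zmod2_shift (z c : ZMod 2) : c + (1 + (z + z)) = c + 1 := by revert z c; decide

theorem zmod2_cancel (a : ZMod 2) : a + 1 + a + 1 = 0 := by revert a; decide

theorem exists_mem_pow_two_of_odd {G : Type*} [Group G] [Finite G] (g : G) :
    ∃ k : ℕ, Odd (orderOf (g ^ 2 ^ k)) := by
  haveI : Fact (Nat.Prime 2) := ⟨Nat.prime_two⟩
  obtain ⟨k, hk⟩ := CfsgLib.PResidual.exists_pow_coprime (p := 2) g
  exact ⟨k, Nat.coprime_two_right.mp hk⟩

section

variable {X : Type*} [Group X] [Finite X] {S : Sylow 2 X} {m : ℕ} (eS : (S : Subgroup X) ≃* DihedralGroup m)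

/-- The four subgroup `U` admits only 2-elements as automorphisms. -/
def Lacking (U : Subgroup X) : Prop :=
  ∀ g ∈ Subgroup.normalizer (U : Set X), Odd (orderOf g) → g ∈ Subgroup.centralizer (U : Set X)

theorem isPGroup_image_of_lacking {U : Subgroup X} (hU : Lacking U) :
    IsPGroup 2 U.normalizerMonoidHom.range := by
  rintro ⟨_, n, rfl⟩
  obtain ⟨k, hk⟩ := exists_mem_pow_two_of_odd (n : X)
  refine ⟨k, Subtype.ext ?_⟩
  have hc := hU _ (pow_mem n.2 _) hk
  show (U.normalizerMonoidHom n) ^ 2 ^ k = 1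
  rw [← map_pow]
  refine MulEquiv.ext fun u => Subtype.ext ?_
  show ((n ^ 2 ^ k : ↥(Subgroup.normalizer (U : Set X))) : X) * u * ((n ^ 2 ^ k : ↥(Subgroup.normalizer (U : Set X))) : X)⁻¹ = u
  rw [SubmonoidClass.coe_pow, ← Subgroup.mem_centralizer_iff.mp hc u u.2, mul_inv_cancel_right]

theorem card_mulAut_klein_le {U : Type*} [Group U] [IsKleinFour U] : Nat.card (MulAut U) ≤ 6 := by
  classical
  haveI : Finite U := Nat.finite_of_card_ne_zero (by rw [IsKleinFour.card_four]; norm_num)
  haveI := Fintype.ofFinite U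
  haveI : Nontrivial U := Finite.one_lt_card_iff_nontrivial.mp (by rw [IsKleinFour.card_four]; norm_num)
  obtain ⟨a, ha⟩ := exists_ne (1 : U)
  obtain ⟨b, hb⟩ : ∃ b : U, b ∉ ({1, a} : Finset U) := by
    by_contra h
    push Not at h
    have h1 := Finset.card_le_card (show (Finset.univ : Finset U) ⊆ {1, a} from fun x _ => h x)
    rw [Finset.card_univ, ← Nat.card_eq_fintype_card, IsKleinFour.card_four, Finset.card_pair (Ne.symm ha)] at h1
    omega
  simp only [Finset.mem_insert, Finset.mem_singleton, not_or] at hb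
  let T : Finset (U × U) := ((Finset.univ.erase (1 : U)) ×ˢ (Finset.univ.erase (1 : U))).filter fun q => q.1 ≠ q.2
  have hT : T.card = 6 := by
    have hc : (Finset.univ.erase (1 : U)).card = 3 := by
      rw [Finset.card_erase_of_mem (Finset.mem_univ _), Finset.card_univ, ← Nat.card_eq_fintype_card,
        IsKleinFour.card_four]
    show (((Finset.univ.erase (1 : U)) ×ˢ (Finset.univ.erase (1 : U))).filter fun q => q.1 ≠ q.2).card = 6
    rw [show (((Finset.univ.erase (1 : U)) ×ˢ (Finset.univ.erase (1 : U))).filter fun q => q.1 ≠ q.2) =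
      (Finset.univ.erase (1 : U)).offDiag from by ext q; simp [Finset.mem_offDiag, and_assoc], Finset.offDiag_card, hc]
  haveI : Finite (MulAut U) := Finite.of_injective (fun f : MulAut U => (f : U → U)) DFunLike.coe_injective
  have hmem : ∀ f : MulAut U, (f a, f b) ∈ T := fun f => by
    simp only [T, Finset.mem_filter, Finset.mem_product, Finset.mem_erase, Finset.mem_univ, and_true, ne_eq,
      map_eq_one_iff f f.injective, EmbeddingLike.apply_eq_iff_eq]
    exact ⟨⟨ha, hb.1⟩, Ne.symm hb.2⟩
  have hinj : Function.Injective fun f : MulAut U => (⟨(f a, f b), hmem f⟩ : T) := fun f f' e => by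
    have e1 : f a = f' a := congrArg (fun q : T => (q : U × U).1) e
    have e2 : f b = f' b := congrArg (fun q : T => (q : U × U).2) e
    refine MulEquiv.ext fun x => ?_
    by_cases h1 : x = 1
    · simp [h1]
    by_cases h2 : x = a
    · rw [h2, e1]
    by_cases h3 : x = b
    · rw [h3, e2]
    rw [IsKleinFour.eq_mul_of_ne_all ha hb.1 (Ne.symm hb.2) h1 h2 h3, map_mul, map_mul, e1, e2]
  have h := Nat.card_le_card_of_injective _ hinj
  rw [Nat.card_eq_fintype_card (α := T), Fintype.card_coe, hT] at h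
  exact h

theorem range_card_eq {U : Subgroup X} :
    (Subgroup.centralizer (U : Set X)).relIndex (Subgroup.normalizer (U : Set X)) =
      Nat.card U.normalizerMonoidHom.range := by
  rw [← Subgroup.index_ker, Subgroup.normalizerMonoidHom_ker]
  rfl

/-- Odd automisers divide the index by three. -/
theorem three_dvd {U : Subgroup X} (hU : IsKleinFour U) (h : ¬ Lacking U) :
    3 ∣ Nat.card U.normalizerMonoidHom.range := by
  haveI := hU
  haveI : Finite (MulAut U) := Finite.of_injective (fun f : MulAut U => (f : U → U)) DFunLike.coe_injective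
  rw [Lacking] at h
  push Not at h
  obtain ⟨g, hg, hodd, hgC⟩ := h
  set φ := U.normalizerMonoidHom.rangeRestrict ⟨g, hg⟩ with hφ
  have h1 : φ ≠ 1 := fun e => hgC (Subgroup.mem_centralizer_iff.mpr fun u hu => by
    have h2 := congrArg (fun f : U.normalizerMonoidHom.range => (((f : MulAut U) ⟨u, hu⟩ : U) : X)) e
    have h3 : g * u * g⁻¹ = u := h2
    exact (mul_inv_eq_iff_eq_mul.mp h3).symm)
  have hd : orderOf φ ∣ Nat.card U.normalizerMonoidHom.range := orderOf_dvd_natCard φ
  have hle : orderOf φ ≤ 6 := (Nat.le_of_dvd Nat.card_pos hd).trans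
    ((Nat.card_le_card_of_injective _ Subtype.val_injective).trans card_mulAut_klein_le)
  have hdg : orderOf φ ∣ orderOf g := by
    rw [← Subgroup.orderOf_mk g hg]
    exact orderOf_map_dvd _ _
  obtain ⟨t, ht⟩ := hdg
  rw [ht, Nat.odd_mul] at hodd
  have hne1 : orderOf φ ≠ 1 := fun e => h1 (orderOf_eq_one_iff.mp e)
  obtain ⟨q, hq⟩ := hodd.1
  rcases (show orderOf φ = 3 ∨ orderOf φ = 5 by omega) with e | e
  · rwa [e] at hd
  · exfalso
    have h6 : orderOf (φ : MulAut U) ∣ Nat.card (MulAut U) := orderOf_dvd_natCard _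
    rw [Subgroup.orderOf_coe, e] at h6
    have hle2 : Nat.card (MulAut U) ≤ 6 := card_mulAut_klein_le
    have hpos : 0 < Nat.card (MulAut U) := Nat.card_pos
    have h3 : Nat.card U.normalizerMonoidHom.range ∣ Nat.card (MulAut U) := Subgroup.card_subgroup_dvd_card _
    rw [e] at hd
    -- five is not the order of an automorphism of a four group
    have h5 : Nat.card (MulAut U) = 5 := by
      obtain ⟨w, hw⟩ := h6
      rcases w with _ | _ | w <;> omega
    haveI : Finite U := Nat.finite_of_card_ne_zero (by rw [IsKleinFour.card_four]; norm_num)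
    haveI : Nontrivial U := Finite.one_lt_card_iff_nontrivial.mp (by rw [IsKleinFour.card_four]; norm_num)
    obtain ⟨a, ha⟩ := exists_ne (1 : U)
    obtain ⟨b, hb1, hba⟩ : ∃ b : U, b ≠ 1 ∧ b ≠ a := by
      by_contra hcon
      push Not at hcon
      haveI : Finite U := Nat.finite_of_card_ne_zero (by rw [IsKleinFour.card_four]; norm_num)
      classical
      have : Function.Injective fun x : U => (if x = 1 then (0 : Fin 2) else 1) := by
        intro x y hxy
        by_cases hx : x = 1 <;> by_cases hy : y = 1 <;> simp [hx, hy] at hxy ⊢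
        rw [hcon x hx, hcon y hy]
      have := Nat.card_le_card_of_injective _ this
      rw [IsKleinFour.card_four, Nat.card_fin] at this
      omega
    obtain ⟨σ, hσ⟩ : ∃ σ : MulAut U, orderOf σ = 2 := by
      classical
      have hex : Monoid.exponent U = 2 := IsKleinFour.exponent_two
      refine ⟨IsKleinFour.mulEquiv (Equiv.swap a b) (Equiv.swap_apply_of_ne_of_ne (Ne.symm ha) (Ne.symm hb1)),
        orderOf_eq_prime (MulEquiv.ext fun x => ?_) fun e => hba ?_⟩
      · show Equiv.swap a b (Equiv.swap a b x) = x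
        rw [Equiv.swap_apply_self]
      · have := DFunLike.congr_fun e a
        show b = a
        calc b = Equiv.swap a b a := (Equiv.swap_apply_left a b).symm
          _ = a := this
    have := orderOf_dvd_natCard σ
    rw [hσ, h5] at this
    omega

theorem le_centralizer_klein {U : Subgroup X} (hU : IsKleinFour U) : U ≤ Subgroup.centralizer (U : Set X) :=
  fun u hu => Subgroup.mem_centralizer_iff.mpr fun v hv => by
    haveI := hU
    haveI := IsKleinFour.isMulCommutative (G := U)
    exact setLike_mul_comm hv hu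

include eS in
theorem exists_moving (hm : 4 ≤ m) {U : Subgroup X} (hU : U ≤ (S : Subgroup X)) (hK : IsKleinFour U) :
    ∃ s : X, s ∈ (S : Subgroup X) ∧ ∃ hs : s ∈ Subgroup.normalizer (U : Set X),
      U.normalizerMonoidHom ⟨s, hs⟩ ≠ 1 ∧ U.normalizerMonoidHom ⟨s, hs⟩ ^ 2 = 1 := by
  haveI : NeZero m := ⟨by omega⟩
  obtain ⟨k, hk, -⟩ := exists_pow_index (show 2 ≤ m by omega) eS
  obtain ⟨h2, -⟩ := even_shape eS (show 2 ≤ m by omega)
  obtain ⟨i, hi⟩ := klein_shape eS (by omega) hU hK
  -- a quarter turn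
  set q : ZMod m := ((m / 4 : ℕ) : ZMod m) with hq
  have hqq : q + q = ((m / 2 : ℕ) : ZMod m) := by
    rw [hq, ← Nat.cast_add]
    congr 1
    rcases k with _ | k
    · rw [hk] at hm; norm_num at hm
    · rw [hk, show 2 ^ (k + 1 + 1) = 2 ^ k * 4 by ring]; omega
  have hh := half_add_half h2.symm
  have hh0 : ((m / 2 : ℕ) : ZMod m) ≠ 0 := fun e => by
    have := Nat.le_of_dvd (by omega) ((ZMod.natCast_eq_zero_iff _ m).mp e)
    omega
  have hmove : ∀ d : DihedralGroup m, pt eS d ∈ U → pt eS (r q * d * (r q)⁻¹) ∈ U := by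
    intro d hd
    have h1 := (hi _ (pt_mem eS d) (pt_mem eS d)).mp hd
    rw [eS_pt eS] at h1
    refine (hi _ (pt_mem eS _) (pt_mem eS _)).mpr ?_
    rw [eS_pt eS]
    rcases h1 with e | e | e | e <;> rw [e]
    · left; simp
    · right; left; simp
    · right; right; right
      simp only [inv_r, r_mul_sr, sr_mul_r]
      exact congrArg sr (by linear_combination -hqq - hh)
    · right; right; left
      simp only [inv_r, r_mul_sr, sr_mul_r]
      exact congrArg sr (by linear_combination -hqq)
  have hs : pt eS (r q) ∈ Subgroup.normalizer (U : Set X) := by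
    refine Subgroup.mem_normalizer_fintype fun x hx => ?_
    have := hmove (eS ⟨x, hU hx⟩) (by rw [pt_eq]; exact hx)
    rwa [pt_mul, pt_mul, pt_inv, pt_eq] at this
  refine ⟨pt eS (r q), pt_mem eS _, hs, fun e => ?_, ?_⟩
  · have hu : pt eS (sr i) ∈ U := (hi _ (pt_mem eS _) (pt_mem eS _)).mpr (Or.inr (Or.inr (Or.inl (eS_pt eS _ _))))
    have h1 := congrArg (fun f : MulAut U => ((f ⟨_, hu⟩ : U) : X)) e
    have h2 : pt eS (r q * sr i * (r q)⁻¹) = pt eS (sr i) := by
      rw [pt_mul, pt_mul, pt_inv]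
      exact h1
    have h3 := pt_injective eS h2
    simp only [inv_r, r_mul_sr, sr_mul_r, sr.injEq] at h3
    exact hh0 (by linear_combination -h3 - hqq)
  · rw [← map_pow]
    refine MulEquiv.ext fun u => Subtype.ext ?_
    have h4 : pt eS (r q) ^ 2 ∈ U := by
      rw [sq, ← pt_mul, r_mul_r, hqq]
      exact (hi _ (pt_mem eS _) (pt_mem eS _)).mpr (Or.inr (Or.inl (eS_pt eS _ _)))
    show pt eS (r q) ^ 2 * u * (pt eS (r q) ^ 2)⁻¹ = u
    rw [← Subgroup.mem_centralizer_iff.mp (le_centralizer_klein hK h4) u u.2, mul_inv_cancel_right]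

include eS in
theorem card_eq_four_iff (hm : 2 ≤ m) : Nat.card S = 4 ↔ ¬ 4 ≤ m := by
  obtain ⟨k, hk, hc⟩ := exists_pow_index hm (S := S) eS
  rw [hc]
  rcases k with _ | k
  · norm_num [hk]
  · rw [hk, pow_succ, pow_succ]
    have : 0 < 2 ^ k := by positivity
    omega

include eS in
theorem odd_range (hm : 2 ≤ m) (h4 : ¬ 4 ≤ m) {U : Subgroup X} (hU : U ≤ (S : Subgroup X)) (hK : IsKleinFour U) :
    ¬ 2 ∣ Nat.card U.normalizerMonoidHom.range := by
  haveI : Fact (Nat.Prime 2) := ⟨Nat.prime_two⟩
  have hUS : U = (S : Subgroup X) :=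
    Subgroup.eq_of_le_of_card_ge hU (by rw [hK.card_four]; exact ((card_eq_four_iff eS hm).mpr h4).le)
  rw [← range_card_eq]
  intro hd
  refine S.not_dvd_index (hd.trans ?_)
  refine dvd_trans (Subgroup.relIndex_dvd_index_of_le ?_) (Subgroup.index_dvd_of_le (hUS ▸ le_centralizer_klein hK))
  exact Subgroup.centralizer_le_normalizer _

include eS in
/-- For a lacking four subgroup the normalizer acts as the normalizer in `S`. -/
theorem acts_as_sylow (hm : 2 ≤ m) {U : Subgroup X} (hU : U ≤ (S : Subgroup X)) (hK : IsKleinFour U)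
    (hL : Lacking U) {g : X} (hg : g ∈ Subgroup.normalizer (U : Set X)) :
    ∃ s ∈ (S : Subgroup X), ∀ u ∈ U, g * u * g⁻¹ = s * u * s⁻¹ := by
  haveI := hK
  haveI : Fact (Nat.Prime 2) := ⟨Nat.prime_two⟩
  haveI : Finite (MulAut U) := Finite.of_injective (fun f : MulAut U => (f : U → U)) DFunLike.coe_injective
  obtain ⟨j, hj⟩ := IsPGroup.iff_card.mp (isPGroup_image_of_lacking hL)
  have hle : 2 ^ j ≤ 6 := hj ▸ (Nat.card_le_card_of_injective _ Subtype.val_injective).trans card_mulAut_klein_le
  by_cases h4 : 4 ≤ m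
  · obtain ⟨s, hsS, hs, hne, hsq⟩ := exists_moving eS h4 hU hK
    set σ := U.normalizerMonoidHom ⟨s, hs⟩
    -- the image has order two
    have hj2 : j ≤ 1 := by
      by_contra hcon
      have h4' : 2 ^ 2 ≤ 2 ^ j := Nat.pow_le_pow_right (by norm_num) (by omega)
      have hd : 2 ^ j ∣ Nat.card (MulAut U) := hj ▸ Subgroup.card_subgroup_dvd_card _
      have h6 := card_mulAut_klein_le (U := U)
      have hpos : 0 < Nat.card (MulAut U) := Nat.card_pos
      -- an automorphism group of order four would fix a point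
      have hfour : Nat.card (MulAut U) = 4 := by
        have hj3 : j = 2 := by
          by_contra hne
          have : 2 ^ 3 ≤ 2 ^ j := Nat.pow_le_pow_right (by norm_num) (by omega)
          omega
        subst hj3
        obtain ⟨w, hw⟩ := hd
        rcases w with _ | _ | w <;> omega
      classical
      haveI : Finite U := Nat.finite_of_card_ne_zero (by rw [IsKleinFour.card_four]; norm_num)
      haveI := Fintype.ofFinite U
      haveI : Nontrivial U := Finite.one_lt_card_iff_nontrivial.mp (by rw [IsKleinFour.card_four]; norm_num)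
      obtain ⟨a, ha⟩ := exists_ne (1 : U)
      obtain ⟨b, hb⟩ : ∃ b : U, b ∉ ({1, a} : Finset U) := by
        by_contra h
        push Not at h
        have h1 := Finset.card_le_card (show (Finset.univ : Finset U) ⊆ {1, a} from fun x _ => h x)
        rw [Finset.card_univ, ← Nat.card_eq_fintype_card, IsKleinFour.card_four, Finset.card_pair (Ne.symm ha)] at h1
        omega
      simp only [Finset.mem_insert, Finset.mem_singleton, not_or] at hb
      have hex : Monoid.exponent U = 2 := IsKleinFour.exponent_two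
      have hc1 : (a * b) ≠ 1 := fun e => hb.2 (by
        have := IsKleinFour.mul_self a
        exact mul_left_cancel (e.trans this.symm))
      let e : U ≃ U := (Equiv.swap a b).trans (Equiv.swap a (a * b))
      have he1 : e 1 = 1 := by
        show Equiv.swap a (a * b) (Equiv.swap a b 1) = 1
        rw [Equiv.swap_apply_of_ne_of_ne (Ne.symm ha) (Ne.symm hb.1),
          Equiv.swap_apply_of_ne_of_ne (Ne.symm ha) (Ne.symm hc1)]
      have hab : b ≠ a * b := fun h => ha (mul_eq_right.mp h.symm)
      have haab : a ≠ a * b := fun h => hb.1 (mul_eq_left.mp h.symm)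
      set τ : MulAut U := IsKleinFour.mulEquiv e he1 with hτ
      have hτap : ∀ x, τ x = e x := fun x => rfl
      have hτ3 : τ ^ 3 = 1 := MulEquiv.ext fun x => by
        show τ (τ (τ x)) = x
        rw [hτap, hτap, hτap]
        have hall : x = 1 ∨ x = a ∨ x = b ∨ x = a * b := by
          by_contra hcon
          push Not at hcon
          exact hcon.2.2.2 (IsKleinFour.eq_mul_of_ne_all ha hb.1 (Ne.symm hb.2) hcon.1 hcon.2.1 hcon.2.2.1)
        rcases hall with rfl | rfl | rfl | rfl <;>
          simp [e, Equiv.swap_apply_def, ha, hb.1, hb.2, hc1, Ne.symm hb.2, Ne.symm ha, Ne.symm hb.1, Ne.symm hc1,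
            hab, haab, Ne.symm hab, Ne.symm haab]
      have hτ1 : τ ≠ 1 := fun h => hb.2 (by
        have := DFunLike.congr_fun h a
        rw [hτap] at this
        simp [e, Equiv.swap_apply_def, ha, hb.2, hab, Ne.symm hab] at this)
      haveI : Fact (Nat.Prime 3) := ⟨Nat.prime_three⟩
      have h3 := orderOf_dvd_natCard τ
      rw [orderOf_eq_prime hτ3 hτ1, hfour] at h3
      omega
    set φ := U.normalizerMonoidHom ⟨g, hg⟩
    have hφ : φ = 1 ∨ φ = σ := by
      by_contra hcon
      push Not at hcon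
      have h3 : (({1, σ, φ} : Set (MulAut U))).ncard = 3 := by
        rw [Set.ncard_insert_of_notMem (by simp [Ne.symm hne, Ne.symm hcon.1]), Set.ncard_pair (Ne.symm hcon.2)]
      have h5 := Set.ncard_le_ncard (show ({1, σ, φ} : Set (MulAut U)) ⊆ (U.normalizerMonoidHom.range : Set _) by
        rintro x (rfl | rfl | rfl)
        · exact one_mem _
        · exact ⟨_, rfl⟩
        · exact ⟨_, rfl⟩) (Set.toFinite _)
      rw [h3, ← Nat.card_coe_set_eq] at h5
      have h6 : 3 ≤ 2 ^ j := hj ▸ h5
      have : 2 ^ j ≤ 2 ^ 1 := Nat.pow_le_pow_right (by norm_num) hj2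
      omega
    rcases hφ with e | e
    · exact ⟨1, one_mem _, fun u hu => by
        have h1 : g * u * g⁻¹ = u := congrArg (fun f : MulAut U => ((f ⟨u, hu⟩ : U) : X)) e
        rw [h1]; group⟩
    · exact ⟨s, hsS, fun u hu => congrArg (fun f : MulAut U => ((f ⟨u, hu⟩ : U) : X)) e⟩
  · refine ⟨1, one_mem _, fun u hu => ?_⟩
    have hodd := odd_range eS hm h4 hU hK
    have hj0 : j = 0 := by
      by_contra h
      exact hodd (hj ▸ dvd_pow_self 2 h)
    have h1 : U.normalizerMonoidHom ⟨g, hg⟩ = 1 := by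
      rw [hj0, pow_zero, Subgroup.card_eq_one] at hj
      exact (Subgroup.mem_bot.mp (hj ▸ (⟨_, rfl⟩ : U.normalizerMonoidHom ⟨g, hg⟩ ∈ U.normalizerMonoidHom.range)))
    have h2 : g * u * g⁻¹ = u := congrArg (fun f : MulAut U => ((f ⟨u, hu⟩ : U) : X)) h1
    rw [h2]
    group

include eS in
theorem hasNormalPComplement_of_lacking (hm : 2 ≤ m)
    (h : ∀ U : Subgroup X, U ≤ (S : Subgroup X) → IsKleinFour U → Lacking U) :
    Cfsg.HasNormalPComplement 2 X := by
  haveI : Fact (Nat.Prime 2) := ⟨Nat.prime_two⟩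
  refine Cfsg.FusionSystem.hasNormalPComplement_of_centralizes S fun Q hQ g hg hgp => ?_
  have hodd : Odd (orderOf g) := Nat.coprime_two_right.mp hgp
  by_cases hK : IsKleinFour Q
  · exact h Q hQ hK g hg hodd
  refine Subgroup.mem_centralizer_iff.mpr fun u hu => ?_
  obtain ⟨j, hj⟩ := (isPGroup_mulAut_of_not_klein eS hm hQ hK) (Q.normalizerMonoidHom ⟨g, hg⟩)
  have h1 : orderOf (Q.normalizerMonoidHom ⟨g, hg⟩) ∣ orderOf g := by
    rw [← Subgroup.orderOf_mk g hg]
    exact orderOf_map_dvd _ _
  have h2 : Q.normalizerMonoidHom ⟨g, hg⟩ = 1 := orderOf_eq_one_iff.mp (Nat.eq_one_of_dvd_coprimes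
    (Nat.Coprime.pow_right j (Nat.coprime_two_right.mpr hodd)) h1 (orderOf_dvd_of_pow_eq_one hj))
  have h3 : g * u * g⁻¹ = u := congrArg (fun f : MulAut Q => ((f ⟨u, hu⟩ : Q) : X)) h2
  exact (mul_inv_eq_iff_eq_mul.mp h3).symm

include eS in
theorem complement_iff (hm : 2 ≤ m) : Cfsg.HasNormalPComplement 2 X ↔
    ∀ U : Subgroup X, U ≤ (S : Subgroup X) → IsKleinFour U → Subgroup.normalizer (U : Set X) =
      Subgroup.centralizer (U : Set X) ⊔ ((S : Subgroup X) ⊓ Subgroup.normalizer (U : Set X)) := by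
  haveI : Fact (Nat.Prime 2) := ⟨Nat.prime_two⟩
  constructor
  · rintro ⟨P, N, hN, hNP⟩ U hU _
    refine le_antisymm (fun n hn => ?_) (sup_le (Subgroup.centralizer_le_normalizer _) inf_le_right)
    obtain ⟨g, hgS⟩ := MulAction.exists_smul_eq X P S
    have hdis : ∀ x ∈ N, x ∈ (S : Subgroup X) → x = 1 := fun x hxN hxS => by
      rw [← hgS] at hxS
      obtain ⟨y, hy, rfl⟩ := hxS
      have hyN : y ∈ N := by
        have := hN.conj_mem _ hxN g⁻¹
        simpa [mul_assoc] using this
      have : y = 1 := Subgroup.mem_bot.mp (hNP.disjoint.le_bot ⟨hyN, hy⟩)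
      simp [this]
    have htop : N ⊔ (S : Subgroup X) = ⊤ := by
      rw [eq_top_iff]
      intro x _
      have hx : g⁻¹ * x * g ∈ N ⊔ (P : Subgroup X) := hNP.sup_eq_top ▸ Subgroup.mem_top _
      obtain ⟨a, ha, b, hb, e⟩ := Subgroup.mem_sup_of_normal_left.mp hx
      have hbS : g * b * g⁻¹ ∈ (S : Subgroup X) := by
        rw [← hgS]
        exact Subgroup.smul_mem_pointwise_smul b (MulAut.conj g) _ hb
      have he : x = (g * a * g⁻¹) * (g * b * g⁻¹) := by
        rw [show (g * a * g⁻¹) * (g * b * g⁻¹) = g * (a * b) * g⁻¹ by group, e]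
        group
      rw [he]
      exact mul_mem (Subgroup.mem_sup_left (hN.conj_mem a ha g)) (Subgroup.mem_sup_right hbS)
    obtain ⟨k, hk, s, hs, rfl⟩ := Subgroup.mem_sup_of_normal_left.mp (htop ▸ Subgroup.mem_top n : n ∈ N ⊔ _)
    have hfix : ∀ u ∈ U, s * u * s⁻¹ ∈ U ∧ k * (s * u * s⁻¹) * k⁻¹ = s * u * s⁻¹ := by
      intro u hu
      set v := s * u * s⁻¹
      have hv : v ∈ (S : Subgroup X) := mul_mem (mul_mem hs (hU hu)) (InvMemClass.inv_mem hs)
      have hw : k * v * k⁻¹ ∈ U := by
        have := (Subgroup.mem_normalizer_iff.mp hn u).mp hu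
        rwa [show k * s * u * (k * s)⁻¹ = k * v * k⁻¹ by simp only [v]; group] at this
      have h1 : k * v * k⁻¹ * v⁻¹ = 1 := hdis _
        (by
          have := mul_mem hk (hN.conj_mem _ (InvMemClass.inv_mem hk) v)
          rwa [show k * (v * k⁻¹ * v⁻¹) = k * v * k⁻¹ * v⁻¹ by group] at this)
        (mul_mem (hU hw) (InvMemClass.inv_mem hv))
      have h2 : k * v * k⁻¹ = v := mul_inv_eq_one.mp h1
      exact ⟨h2 ▸ hw, h2⟩
    have hsN : s ∈ Subgroup.normalizer (U : Set X) :=
      Subgroup.mem_normalizer_fintype fun u hu => (hfix u hu).1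
    refine mul_mem (Subgroup.mem_sup_left (Subgroup.mem_centralizer_iff.mpr fun u hu => ?_))
      (Subgroup.mem_sup_right ⟨hs, hsN⟩)
    have hu' : s⁻¹ * u * s ∈ U := (Subgroup.mem_normalizer_iff''.mp hsN u).mp hu
    have h3 := (hfix _ hu').2
    rw [show s * (s⁻¹ * u * s) * s⁻¹ = u by group] at h3
    exact (mul_inv_eq_iff_eq_mul.mp h3).symm
  · intro h
    refine hasNormalPComplement_of_lacking eS hm fun U hU hK g hg hodd => ?_
    let A : Subgroup ↥(Subgroup.normalizer (U : Set X)) := ((S : Subgroup X) ⊓ Subgroup.normalizer (U : Set X)).subgroupOf _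
    have hA : IsPGroup 2 (A.map U.normalizerMonoidHom) :=
      ((S.2.to_le inf_le_left).of_equiv (Subgroup.subgroupOfEquivOfLe inf_le_right).symm).map _
    have hrange : U.normalizerMonoidHom ⟨g, hg⟩ ∈ A.map U.normalizerMonoidHom := by
      have h1 : (⊤ : Subgroup ↥(Subgroup.normalizer (U : Set X))) =
          (Subgroup.centralizer (U : Set X)).subgroupOf _ ⊔ A := by
        rw [← Subgroup.subgroupOf_sup (Subgroup.centralizer_le_normalizer _) inf_le_right, eq_comm,
          Subgroup.subgroupOf_eq_top]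
        exact (h U hU hK).le
      have hg' : (⟨g, hg⟩ : ↥(Subgroup.normalizer (U : Set X))) ∈
          (Subgroup.centralizer (U : Set X)).subgroupOf _ ⊔ A := by rw [← h1]; exact Subgroup.mem_top _
      have h2 := Subgroup.mem_map_of_mem U.normalizerMonoidHom hg'
      rw [Subgroup.map_sup, ← U.normalizerMonoidHom_ker,
        (Subgroup.map_eq_bot_iff _ (f := U.normalizerMonoidHom)).mpr le_rfl, bot_sup_eq] at h2
      exact h2
    obtain ⟨j, hj⟩ := hA ⟨_, hrange⟩
    have h3 : orderOf (U.normalizerMonoidHom ⟨g, hg⟩) ∣ orderOf g := by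
      rw [← Subgroup.orderOf_mk g hg]
      exact orderOf_map_dvd _ _
    have h4 : U.normalizerMonoidHom ⟨g, hg⟩ = 1 := orderOf_eq_one_iff.mp (Nat.eq_one_of_dvd_coprimes
      (Nat.Coprime.pow_right j (Nat.coprime_two_right.mpr hodd)) h3
      (orderOf_dvd_of_pow_eq_one (congrArg Subtype.val hj)))
    refine Subgroup.mem_centralizer_iff.mpr fun u hu => ?_
    have h5 : g * u * g⁻¹ = u := congrArg (fun f : MulAut U => ((f ⟨u, hu⟩ : U) : X)) h4
    exact (mul_inv_eq_iff_eq_mul.mp h5).symm

include eS in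
/-- A lacking four subgroup gives a subgroup of index two. -/
theorem exists_index_two_of_lacking (hm : 2 ≤ m) {U : Subgroup X} (hU : U ≤ (S : Subgroup X)) (hK : IsKleinFour U)
    (hL : Lacking U) : ∃ H : Subgroup X, H.index = 2 := by
  haveI : Fact (Nat.Prime 2) := ⟨Nat.prime_two⟩
  haveI : NeZero m := ⟨by omega⟩
  obtain ⟨k, hk, -⟩ := exists_pow_index hm eS
  obtain ⟨h2, hdvd⟩ := even_shape eS hm
  obtain ⟨c, hc⟩ := klein_shape eS hm hU hK
  set f := ZMod.castHom hdvd (ZMod 2)
  let par : DihedralGroup m → ZMod 2 := fun d => match d with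
    | r i => f i
    | sr i => f i + f c + 1
  have hpar : ∀ a b, par (a * b) = par a + par b := by
    have key := zmod2_par
    intro a b
    cases a with
    | r i =>
      cases b with
      | r j => rw [r_mul_r]; exact map_add f i j
      | sr j =>
        rw [r_mul_sr]
        show f (j - i) + f c + 1 = f i + (f j + f c + 1)
        rw [map_sub]; exact (key _ _ _).1
    | sr i =>
      cases b with
      | r j =>
        rw [sr_mul_r]
        show f (i + j) + f c + 1 = f i + f c + 1 + f j
        rw [map_add]; exact (key _ _ _).2.1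
      | sr j =>
        rw [sr_mul_sr]
        show f (j - i) = f i + f c + 1 + (f j + f c + 1)
        rw [map_sub]; exact (key _ _ _).2.2
  let χ : (S : Subgroup X) →* Multiplicative (ZMod 2) :=
    MonoidHom.mk' (fun x => Multiplicative.ofAdd (par (eS x))) fun a b => by rw [map_mul, hpar, ofAdd_add]
  let M : Subgroup X := χ.ker.map (S : Subgroup X).subtype
  have hM : ∀ x, ∀ hx : x ∈ (S : Subgroup X), x ∈ M ↔ par (eS ⟨x, hx⟩) = 0 := fun x hx => by
    constructor
    · rintro ⟨y, hy, e⟩
      have : (⟨x, hx⟩ : (S : Subgroup X)) = y := Subtype.ext e.symm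
      rw [this]
      exact Multiplicative.ofAdd.injective (hy.trans ofAdd_zero.symm)
    · exact fun h => ⟨⟨x, hx⟩, (congrArg Multiplicative.ofAdd h).trans ofAdd_zero, rfl⟩
  have hMS : M ≤ (S : Subgroup X) := Subgroup.map_subtype_le _
  have hsurj : Function.Surjective χ := fun y => by
    rcases zmod2_cases (Multiplicative.toAdd y) with e | e
    · exact ⟨1, by rw [map_one]; exact Multiplicative.toAdd.injective e.symm⟩
    · refine ⟨eS.symm (r 1), Multiplicative.toAdd.injective ?_⟩
      show par (eS (eS.symm (r 1))) = _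
      rw [MulEquiv.apply_symm_apply, e]
      exact map_one f
  have hidx : M.relIndex (S : Subgroup X) = 2 := by
    rw [Subgroup.relIndex, ← Subgroup.comap_subtype, Subgroup.comap_map_eq_self_of_injective (Subgroup.subtype_injective _),
      Subgroup.index_ker, MonoidHom.range_eq_top.mpr hsurj, Subgroup.card_top, Nat.card_congr Multiplicative.toAdd,
      Nat.card_zmod]
  have hMn : ∀ s ∈ (S : Subgroup X), ∀ x ∈ M, s * x * s⁻¹ ∈ M := by
    rintro s hs _ ⟨y, hy, rfl⟩
    exact ⟨⟨s, hs⟩ * y * ⟨s, hs⟩⁻¹, (χ.normal_ker).conj_mem y hy _, rfl⟩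
  have hMiff : ∀ s ∈ (S : Subgroup X), ∀ x, x ∈ M ↔ s * x * s⁻¹ ∈ M := fun s hs x => by
    refine ⟨hMn s hs x, fun h => ?_⟩
    have := hMn _ (InvMemClass.inv_mem hs) _ h
    rwa [show s⁻¹ * (s * x * s⁻¹) * s⁻¹⁻¹ = x by group] at this
  have hfus : ∀ x ∈ (S : Subgroup X), ∀ g : X, g * x * g⁻¹ ∈ (S : Subgroup X) → (x ∈ M ↔ g * x * g⁻¹ ∈ M) := by
    intro x hx g hg
    refine fusion_rel S (fun a b => (a ∈ M ↔ b ∈ M)) ⟨fun _ => Iff.rfl, Iff.symm, Iff.trans⟩
      (fun s hs y _ => hMiff s hs y) (fun P hP _ hPaut n hn y hy => ?_) hx hg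
    have hPK : IsKleinFour P := by
      by_contra hcon
      exact hPaut (isPGroup_mulAut_of_not_klein eS hm hP hcon)
    by_cases hPM : P ≤ M
    · exact ⟨fun _ => hPM ((Subgroup.mem_normalizer_iff.mp hn y).mp hy), fun _ => hPM hy⟩
    obtain ⟨i, hi⟩ := klein_shape eS hm hP hPK
    -- `P` has the class of `U`
    have hLP : Lacking P := by
      obtain ⟨j, hj⟩ : ∃ j, i = c + (j + j) ∨ i + ((m / 2 : ℕ) : ZMod m) = c + (j + j) := by
        rcases evenIdx_or (i - c) with ⟨j, hj⟩ | ⟨j, hj⟩
        · exact ⟨j, Or.inl (by rw [← hj]; ring)⟩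
        by_cases h4 : 4 ≤ m
        · exfalso
          refine hPM fun z hz => (hM z (hP hz)).mpr ?_
          have hfh : f ((m / 2 : ℕ) : ZMod m) = 0 := by
            rw [map_natCast, ZMod.natCast_eq_zero_iff]
            rcases k with _ | k
            · rw [hk] at h4; norm_num at h4
            · rw [hk, show 2 ^ (k + 1 + 1) = 2 * (2 * 2 ^ k) by ring, Nat.mul_div_cancel_left _ two_pos]
              exact Dvd.intro _ rfl
          have hfi : f i = f c + 1 := by
            rw [show i = c + (1 + (j + j)) by rw [← hj]; ring, map_add, map_add, map_one, map_add]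
            exact zmod2_shift _ _
          have key := zmod2_cancel
          rcases (hi z (hP hz) (hP hz)).mp hz with e | e | e | e <;> rw [e]
          · exact map_zero f
          · exact hfh
          · show f i + f c + 1 = 0
            rw [hfi]; exact key _
          · show f (i + _) + f c + 1 = 0
            rw [map_add, hfh, add_zero, hfi]; exact key _
        · refine ⟨j + 1, Or.inr ?_⟩
          obtain rfl : m = 2 := by
            rcases k with _ | k
            · simpa using hk
            · exfalso; rw [hk, pow_succ, pow_succ] at h4; have : 0 < 2 ^ k := by positivity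
              omega
          show i + ((1 : ℕ) : ZMod 2) = _
          push_cast
          linear_combination hj
      obtain ⟨s, hsS, hs⟩ : ∃ s ∈ (S : Subgroup X), P.map (MulAut.conj s).toMonoidHom = U := by
        refine ⟨pt eS (r j), pt_mem eS _,
          Subgroup.eq_of_le_of_card_ge ?_ (by rw [(klein_map hPK _).card_four, hK.card_four])⟩
        rintro _ ⟨z, hz, rfl⟩
        show pt eS (r j) * z * (pt eS (r j))⁻¹ ∈ U
        rw [← pt_eq eS (hP hz), ← pt_inv, ← pt_mul, ← pt_mul, hc _ (pt_mem eS _) (pt_mem eS _), eS_pt eS]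
        have hh := half_add_half h2.symm
        rcases (hi z (hP hz) (hP hz)).mp hz with e | e | e | e <;> rw [e]
        · left; simp
        · right; left; simp
        · rcases hj with hj | hj
          · right; right; left
            simp only [inv_r, r_mul_sr, sr_mul_r]
            exact congrArg sr (by linear_combination hj)
          · right; right; right
            simp only [inv_r, r_mul_sr, sr_mul_r]
            exact congrArg sr (by linear_combination hj - hh)
        · rcases hj with hj | hj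
          · right; right; right
            simp only [inv_r, r_mul_sr, sr_mul_r]
            exact congrArg sr (by linear_combination hj)
          · right; right; left
            simp only [inv_r, r_mul_sr, sr_mul_r]
            exact congrArg sr (by linear_combination hj)
      intro a ha hodd
      have ha' : s * a * s⁻¹ ∈ Subgroup.normalizer (U : Set X) := by
        refine Subgroup.mem_normalizer_fintype fun u hu => ?_
        rw [← hs] at hu ⊢
        obtain ⟨v, hv, rfl⟩ := hu
        exact ⟨a * v * a⁻¹, (Subgroup.mem_normalizer_iff.mp ha v).mp hv, by simp [mul_assoc]⟩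
      have hc' := hL _ ha' (by
        rw [show s * a * s⁻¹ = MulAut.conj s a from rfl, MulEquiv.orderOf_eq]; exact hodd)
      refine Subgroup.mem_centralizer_iff.mpr fun v hv => ?_
      have := Subgroup.mem_centralizer_iff.mp hc' _ (hs ▸ ⟨v, hv, rfl⟩ : s * v * s⁻¹ ∈ U)
      rw [show s * v * s⁻¹ * (s * a * s⁻¹) = s * (v * a) * s⁻¹ by group,
        show s * a * s⁻¹ * (s * v * s⁻¹) = s * (a * v) * s⁻¹ by group] at this
      exact mul_left_cancel (mul_right_cancel this)
    obtain ⟨s, hs, he⟩ := acts_as_sylow eS hm hP hPK hLP hn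
    rw [he y hy]
    exact hMiff s hs y
  obtain ⟨K, -, -, hK'⟩ := exists_normal_inf S hMS hMn fun x hx g hg => by
    have hiff := hfus x hx g hg
    obtain ⟨x', rfl⟩ : ∃ x' : (S : Subgroup X), (x' : X) = x := ⟨⟨x, hx⟩, rfl⟩
    have hk2 : ∀ a : (S : Subgroup X), (a : X) ∈ M ↔ a ∈ χ.ker := fun a =>
      ⟨by rintro ⟨b, hb, e⟩; rwa [← Subtype.ext (show (b : X) = a from e)], fun h => ⟨a, h, rfl⟩⟩
    have hki : χ.ker.index = 2 := by
      rw [Subgroup.index_ker, MonoidHom.range_eq_top.mpr hsurj, Subgroup.card_top, Nat.card_congr Multiplicative.toAdd,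
        Nat.card_zmod]
    refine (hk2 (x' * (⟨g * (x' : X) * g⁻¹, hg⟩ : (S : Subgroup X))⁻¹)).mpr ?_
    refine (Subgroup.mul_mem_iff_of_index_two hki).mpr ?_
    rw [inv_mem_iff, ← hk2, ← hk2]
    exact hiff
  exact ⟨K, hK'.trans hidx⟩

include eS in
theorem all_conj_of_not_lacking (hm : 2 ≤ m) (h : ∀ U : Subgroup X, U ≤ (S : Subgroup X) → IsKleinFour U → ¬ Lacking U)
    (a b : X) (ha : orderOf a = 2) (hb : orderOf b = 2) : IsConj a b := by
  haveI : Fact (Nat.Prime 2) := ⟨Nat.prime_two⟩
  haveI : NeZero m := ⟨by omega⟩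
  obtain ⟨h2, -⟩ := even_shape eS hm
  set z := pt eS (r ((m / 2 : ℕ) : ZMod m)) with hz
  suffices key : ∀ t : X, orderOf t = 2 → IsConj t z from (key a ha).trans (key b hb).symm
  intro t ht
  obtain ⟨g, hg⟩ := exists_conj_le (S := S) (T := Subgroup.zpowers t)
    (IsPGroup.of_card (n := 1) (by rw [Nat.card_zpowers, ht]; rfl))
  have htS : g * t * g⁻¹ ∈ (S : Subgroup X) := hg ⟨t, Subgroup.mem_zpowers t, rfl⟩
  refine (isConj_iff.mpr ⟨g, rfl⟩ : IsConj t (g * t * g⁻¹)).trans ?_
  set t' := g * t * g⁻¹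
  have ht' : orderOf t' = 2 := (show t' = MulAut.conj g t from rfl) ▸ (MulEquiv.orderOf_eq _ t).trans ht
  have ht1 : t' ≠ 1 := fun e => by rw [e, orderOf_one] at ht'; omega
  have hd : eS ⟨t', htS⟩ * eS ⟨t', htS⟩ = 1 := by
    rw [← map_mul, show (⟨t', htS⟩ : (S : Subgroup X)) * ⟨t', htS⟩ = 1 from Subtype.ext (by
      show t' * t' = 1
      rw [← sq, ← ht', pow_orderOf_eq_one]), map_one]
  rcases hcase : eS ⟨t', htS⟩ with j | j
  · rw [hcase] at hd
    rcases two_torsion h2.symm (by omega) ((sq_r j).mp hd) with rfl | rfl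
    · exfalso
      refine ht1 ?_
      rw [← pt_eq eS htS, hcase]
      exact pt_one eS
    · rw [hz, ← hcase, pt_eq]
  · obtain ⟨U, hU, hUK, hUm⟩ := exists_sub eS hm j
    have htU : t' ∈ U := by
      rw [← pt_eq eS htS, hcase, hUm]
      simp
    have hzU : z ∈ U := (hUm _).mpr (by simp)
    have hz1 : z ≠ 1 := by
      rw [hz, ← pt_one eS]
      intro e
      have := pt_injective eS e
      rw [one_def, r.injEq, ZMod.natCast_eq_zero_iff] at this
      have := Nat.le_of_dvd (by omega) this
      omega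
    have hn := h U hU hUK
    rw [Lacking] at hn
    push Not at hn
    obtain ⟨a, ha, hodd, haC⟩ := hn
    exact klein_isConj hUK ha haC hodd htU ht1 hzU hz1

include eS in
theorem fusion_simple_of_all_conj (hm : 2 ≤ m) (h : ∀ a b : X, orderOf a = 2 → orderOf b = 2 → IsConj a b) :
    (∀ H : Subgroup X, H.index ≠ 2) ∧ ∀ z : X, ¬ Cfsg.IsIsolatedInvolution z := by
  haveI : Fact (Nat.Prime 2) := ⟨Nat.prime_two⟩
  haveI : NeZero m := ⟨by omega⟩
  obtain ⟨h2, -⟩ := even_shape eS hm
  have hh : ((m / 2 : ℕ) : ZMod m) ≠ 0 := fun e => by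
    have := Nat.le_of_dvd (by omega) ((ZMod.natCast_eq_zero_iff _ m).mp e)
    omega
  have hzo : orderOf (pt eS (r ((m / 2 : ℕ) : ZMod m))) = 2 :=
    orderOf_pt eS (fun e => hh (r.inj (e.trans one_def))) ((sq_r _).mpr (half_add_half h2.symm))
  have hso : ∀ i : ZMod m, orderOf (pt eS (sr i)) = 2 := fun i =>
    orderOf_pt eS (fun e => by rw [one_def] at e; cases e) (sr_mul_self i)
  refine ⟨fun H => no_index_two S (fun H hH => ?_) H, ?_⟩
  · haveI := Subgroup.normal_of_index_eq_two hH
    -- an involution of `S` in `H`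
    obtain ⟨t, htH, ht⟩ : ∃ t ∈ H, orderOf t = 2 := by
      by_cases hs : pt eS (sr 0) ∈ H
      · exact ⟨_, hs, hso 0⟩
      by_cases hz : pt eS (r ((m / 2 : ℕ) : ZMod m)) ∈ H
      · exact ⟨_, hz, hzo⟩
      refine ⟨pt eS (sr 0) * pt eS (r ((m / 2 : ℕ) : ZMod m)), ?_, ?_⟩
      · exact (Subgroup.mul_mem_iff_of_index_two hH).mpr (iff_of_false hs hz)
      · rw [← pt_mul, sr_mul_r]
        exact hso _
    have hall : ∀ a : X, orderOf a = 2 → a ∈ H := fun a ha => by
      obtain ⟨c, hc⟩ := isConj_iff.mp (h t a ht ha)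
      exact hc ▸ Subgroup.Normal.conj_mem inferInstance t htH c
    intro x hx
    rw [← pt_eq eS hx]
    rcases hc : eS ⟨x, hx⟩ with i | i
    · rw [show (r i : DihedralGroup m) = sr 0 * sr i by rw [sr_mul_sr, sub_zero], pt_mul]
      exact mul_mem (hall _ (hso 0)) (hall _ (hso i))
    · exact hall _ (hso i)
  · rintro z ⟨hz, hiso⟩
    obtain ⟨c, hc⟩ := isConj_iff.mp (h _ z hzo hz)
    have hcz : c * pt eS (r ((m / 2 : ℕ) : ZMod m)) * c⁻¹ = z := hc
    obtain ⟨d, hd⟩ := isConj_iff.mp (h z (c * pt eS (sr 0) * c⁻¹) hz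
      ((MulEquiv.orderOf_eq (MulAut.conj c) _).trans (hso 0)))
    have hcomm : Commute z (d * z * d⁻¹) := by
      rw [hd, ← hcz]
      show MulAut.conj c _ * MulAut.conj c _ = MulAut.conj c _ * MulAut.conj c _
      rw [← map_mul, ← map_mul, ← pt_mul, ← pt_mul, r_mul_sr, sr_mul_r]
      refine congrArg (fun i => MulAut.conj c (pt eS (sr i))) ?_
      linear_combination -(half_add_half h2.symm)
    have he := hiso d hcomm
    rw [hd, ← hcz] at he
    have := pt_injective eS (mul_left_cancel (mul_right_cancel he))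
    cases this

include eS in
theorem fusion_simple_iff (hm : 2 ≤ m) :
    ((∀ H : Subgroup X, H.index ≠ 2) ∧ ∀ z : X, ¬ Cfsg.IsIsolatedInvolution z) ↔
      ((∀ a b : X, orderOf a = 2 → orderOf b = 2 → IsConj a b) ∨ ∀ U : Subgroup X, U ≤ (S : Subgroup X) →
        IsKleinFour U → (Subgroup.centralizer (U : Set X)).relIndex (Subgroup.normalizer (U : Set X)) =
          if Nat.card S = 4 then 3 else 6) := by
  constructor
  · rintro ⟨hidx, -⟩
    refine Or.inr fun U hU hK => ?_
    haveI := hK
    haveI : Finite (MulAut U) := Finite.of_injective (fun f : MulAut U => (f : U → U)) DFunLike.coe_injective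
    have h3 := three_dvd hK fun hL => by
      obtain ⟨H, hH⟩ := exists_index_two_of_lacking eS hm hU hK hL
      exact hidx H hH
    have hle : Nat.card U.normalizerMonoidHom.range ≤ 6 :=
      (Nat.card_le_card_of_injective _ Subtype.val_injective).trans card_mulAut_klein_le
    have hpos : 0 < Nat.card U.normalizerMonoidHom.range := Nat.card_pos
    rw [range_card_eq]
    by_cases h4 : Nat.card S = 4
    · rw [if_pos h4]
      have := odd_range eS hm ((card_eq_four_iff eS hm).mp h4) hU hK
      omega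
    · rw [if_neg h4]
      have h4' : 4 ≤ m := by
        by_contra h
        exact h4 ((card_eq_four_iff eS hm).mpr h)
      obtain ⟨s, -, hs, hne, hsq⟩ := exists_moving eS h4' hU hK
      have h2 : 2 ∣ Nat.card U.normalizerMonoidHom.range := by
        haveI : Fact (Nat.Prime 2) := ⟨Nat.prime_two⟩
        rw [← orderOf_eq_prime hsq hne]
        have h9 := orderOf_dvd_natCard (⟨U.normalizerMonoidHom ⟨s, hs⟩, _, rfl⟩ : U.normalizerMonoidHom.range)
        rwa [← Subgroup.orderOf_coe] at h9
      omega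
  · intro h
    refine fusion_simple_of_all_conj eS hm ?_
    rcases h with h | h
    · exact h
    refine all_conj_of_not_lacking eS hm fun U hU hK hL => ?_
    obtain ⟨j, hj⟩ := IsPGroup.iff_card.mp (isPGroup_image_of_lacking hL)
    have h1 := h U hU hK
    rw [range_card_eq, hj] at h1
    have h3 : 3 ∣ 2 ^ j := by
      rw [h1]
      split <;> norm_num
    exact absurd (Nat.le_of_dvd two_pos (Nat.prime_three.dvd_of_dvd_pow h3)) (by norm_num)

end

end CfsgLib.DihedralFusion
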