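import Mathlib

/-!
Recognising dihedral groups and the alternating group of degree four, and the shape of subgroups of dihedral groups.
-/

set_option autoImplicit false

namespace CfsgLib.DihedralShape

open DihedralGroup

universe u

variable {H : Type u} [Group H]

/-- An inverting involution outside a cyclic subgroup of half the order gives a dihedral group. -/
theorem equiv_dihedral [Finite H] {c t : H} {n : ℕ} (hc : orderOf c = n) (hcard : Nat.card H = 2 * n)
    (ht : t * t = 1) (htc : t ∉ Subgroup.zpowers c) (hinv : t * c * t⁻¹ = c⁻¹) :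
    Nonempty (H ≃* DihedralGroup n) := by
  haveI : NeZero n := ⟨by rw [← hc]; exact (orderOf_pos c).ne'⟩
  set e : ZMod n → H := fun i => c ^ i.val with he
  have hadd : ∀ i j, e (i + j) = e i * e j := fun i j => by
    simp only [he]
    rw [← pow_add, pow_eq_pow_iff_modEq, hc, ZMod.val_add]
    exact Nat.mod_modEq _ _
  have h0 : e 0 = 1 := by simp [he]
  have hneg : ∀ i, e (-i) = (e i)⁻¹ := fun i => eq_inv_of_mul_eq_one_left (by rw [← hadd, neg_add_cancel, h0])
  have hsub : ∀ i j, e (j - i) = (e i)⁻¹ * e j := fun i j => by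
    rw [sub_eq_add_neg, add_comm, hadd, hneg]
  have hflip : ∀ i, e i * t = t * (e i)⁻¹ := fun i => by
    have h1 : MulAut.conj t (e i) = (e i)⁻¹ := by
      simp only [he, map_pow, MulAut.conj_apply, hinv, inv_pow]
    have h2 : t⁻¹ = t := inv_eq_of_mul_eq_one_left ht
    rw [MulAut.conj_apply, h2] at h1
    rw [← h1, ← mul_assoc, ← mul_assoc, ht, one_mul]
  let f : DihedralGroup n → H := fun d => match d with
    | r i => e i
    | sr i => t * e i
  have hmul : ∀ a b, f (a * b) = f a * f b := by
    intro a b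
    cases a with
    | r i =>
      cases b with
      | r j => rw [r_mul_r]; exact hadd i j
      | sr j =>
        rw [r_mul_sr]
        show t * e (j - i) = e i * (t * e j)
        rw [hsub, ← mul_assoc (e i), hflip, mul_assoc]
    | sr i =>
      cases b with
      | r j => rw [sr_mul_r]; show t * e (i + j) = t * e i * e j; rw [hadd, mul_assoc]
      | sr j =>
        rw [sr_mul_sr]
        show e (j - i) = t * e i * (t * e j)
        rw [hsub, ← mul_assoc, mul_assoc t (e i), hflip, ← mul_assoc t, ht, one_mul]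
  let φ : DihedralGroup n →* H := MonoidHom.mk' f hmul
  have hinj : Function.Injective φ := (injective_iff_map_eq_one φ).mpr fun d hd => by
    cases d with
    | r i =>
      have h1 : orderOf c ∣ i.val := orderOf_dvd_of_pow_eq_one hd
      rw [hc] at h1
      have h2 := Nat.eq_zero_of_dvd_of_lt h1 (ZMod.val_lt i)
      rw [(ZMod.val_eq_zero i).mp h2, r_zero]
    | sr i =>
      refine absurd ?_ htc
      rw [eq_inv_of_mul_eq_one_left (show t * c ^ i.val = 1 from hd)]
      exact inv_mem (Subgroup.pow_mem _ (Subgroup.mem_zpowers c) _)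
  exact ⟨(MulEquiv.ofBijective φ ((Nat.bijective_iff_injective_and_card φ).mpr
    ⟨hinj, by rw [DihedralGroup.nat_card, hcard]⟩)).symm⟩

/-- Subgroups of dihedral groups are cyclic or dihedral. -/
theorem subgroup_shape {m : ℕ} [NeZero m] (U : Subgroup (DihedralGroup m)) :
    IsCyclic U ∨ ∃ n, n ∣ m ∧ Nonempty (U ≃* DihedralGroup n) := by
  set R : Subgroup (DihedralGroup m) := Subgroup.zpowers (r 1) with hRdef
  have hR : ∀ i : ZMod m, r i ∈ R := fun i => ⟨(i.val : ℤ), by show _ ^ (i.val : ℤ) = _; rw [r_one_zpow]; simp⟩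
  have hR' : ∀ i : ZMod m, sr i ∉ R := fun i => by
    rintro ⟨k, hk⟩
    have hk' : (r 1 : DihedralGroup m) ^ k = sr i := hk
    rw [r_one_zpow] at hk'
    cases hk'
  by_cases hsr : ∃ i, sr i ∈ U
  · obtain ⟨i, hi⟩ := hsr
    right
    set C : Subgroup U := R.subgroupOf U
    haveI : IsCyclic C :=
      isCyclic_of_injective ((U.subtype.comp C.subtype).codRestrict R fun x => x.2)
        fun a b h => Subtype.ext (Subtype.ext (congrArg (fun z : R => (z : DihedralGroup m)) h))
    obtain ⟨⟨c, hc⟩, hgen⟩ := IsCyclic.exists_generator (α := C)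
    have hCc : C = Subgroup.zpowers c := le_antisymm (fun x hx => by
      obtain ⟨k, hk⟩ := hgen ⟨x, hx⟩
      exact ⟨k, congrArg Subtype.val hk⟩) (Subgroup.zpowers_le.mpr hc)
    have hidx : C.index = 2 := Subgroup.index_eq_two_iff_exists_notMem_and.mpr ⟨⟨sr i, hi⟩, hR' i, fun b => by
      rcases hb : (b : DihedralGroup m) with j | j
      · exact Or.inr (show (b : DihedralGroup m) ∈ R by rw [hb]; exact hR j)
      · exact Or.inl (show (b : DihedralGroup m) * sr i ∈ R by rw [hb, sr_mul_sr]; exact hR _)⟩
    have hcR : (c : DihedralGroup m) ∈ R := hc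
    refine ⟨orderOf c, ?_, equiv_dihedral (c := c) (t := ⟨sr i, hi⟩) rfl ?_ (Subtype.ext (sr_mul_self i)) ?_ ?_⟩
    · rw [← Subgroup.orderOf_coe]
      refine (R.orderOf_dvd_natCard hcR).trans ?_
      rw [hRdef, Nat.card_zpowers, orderOf_r_one]
    · rw [← C.card_mul_index, hidx, hCc, Nat.card_zpowers, mul_comm]
    · rw [← hCc]; exact hR' i
    · apply Subtype.ext
      show sr i * (c : DihedralGroup m) * (sr i)⁻¹ = (c : DihedralGroup m)⁻¹
      rcases hc' : (c : DihedralGroup m) with j | j
      · rw [inv_sr, sr_mul_r, sr_mul_sr, inv_r]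
        exact congrArg r (by ring)
      · exact absurd (hc' ▸ hcR) (hR' j)
  · left
    push Not at hsr
    exact isCyclic_of_injective (U.subtype.codRestrict R fun x => by
      rcases hx : (x : DihedralGroup m) with j | j
      · show (x : DihedralGroup m) ∈ R
        rw [hx]; exact hR j
      · exact absurd (hx ▸ x.2) (hsr j)) fun a b h => Subtype.ext (congrArg (fun z : R => (z : DihedralGroup m)) h)

/-- A group of order twelve without normal subgroup of order three is `A₄`. -/
theorem equiv_alternating_four [Finite H] (hcard : Nat.card H = 12)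
    (h3 : ∀ T : Subgroup H, T.Normal → Nat.card T ≠ 3) : Nonempty (H ≃* alternatingGroup (Fin 4)) := by
  haveI : Fact (Nat.Prime 3) := ⟨Nat.prime_three⟩
  obtain ⟨h, hh⟩ := exists_prime_orderOf_dvd_card' (G := H) 3 (by rw [hcard]; norm_num)
  set T := Subgroup.zpowers h with hT
  have hT3 : Nat.card T = 3 := by rw [hT, Nat.card_zpowers, hh]
  have hq : Nat.card (H ⧸ T) = 4 := by
    have h' := T.card_mul_index
    rw [hT3, hcard, T.index_eq_card] at h'
    omega
  obtain ⟨e⟩ : Nonempty (H ⧸ T ≃ Fin 4) := ⟨Finite.equivFinOfCardEq hq⟩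
  let φ : H →* Equiv.Perm (Fin 4) := e.permCongrHom.toMonoidHom.comp (MulAction.toPermHom H (H ⧸ T))
  have hker : φ.ker = ⊥ := by
    have hle : φ.ker ≤ T := fun x hx => by
      have h1 : MulAction.toPermHom H (H ⧸ T) x = 1 := e.permCongrHom.injective (by rw [map_one]; exact hx)
      have h2 := DFunLike.congr_fun h1 ((1 : H) : H ⧸ T)
      change x • ((1 : H) : H ⧸ T) = ((1 : H) : H ⧸ T) at h2
      rw [MulAction.Quotient.smul_coe, smul_eq_mul, mul_one, QuotientGroup.eq] at h2
      simpa using h2
    rcases (Nat.dvd_prime Nat.prime_three).mp (hT3 ▸ Subgroup.card_dvd_of_le hle) with h | h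
    · exact Subgroup.eq_bot_of_card_eq _ h
    · exact absurd h (h3 _ (MonoidHom.normal_ker φ))
  have hinj := (MonoidHom.ker_eq_bot_iff φ).mp hker
  have hidx : φ.range.index = 2 := by
    have h' := φ.range.card_mul_index
    rw [← Nat.card_congr (MonoidHom.ofInjective hinj).toEquiv, hcard, Nat.card_perm, Nat.card_fin,
      show Nat.factorial 4 = 24 from rfl] at h'
    omega
  exact ⟨(MonoidHom.ofInjective hinj).trans (MulEquiv.subgroupCongr
    (Equiv.Perm.eq_alternatingGroup_of_index_eq_two hidx))⟩

end CfsgLib.DihedralShape
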