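import Cfsg.Agent.S4207
import Cfsg.Agent.Lib.Elementary
import Cfsg.Agent.Lib.CentralizeOmega
import Cfsg.Agent.Lib.QuatHom
import Cfsg.Prelude.Def_OddOrderLocal
import Mathlib

/-!
Metacyclic `2`-groups with an automorphism of odd order are quaternion of order 8 or homocyclic.
-/

set_option autoImplicit false

namespace CfsgLib.MetacyclicTwo

variable {X : Type*} [Group X] [Finite X]

/-- An automorphism of odd order of a `2`-group which is trivial modulo the Frattini subgroup is trivial. -/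
theorem eq_one_of_trivial_mod_frattini (hX : IsPGroup 2 X) (α : MulAut X) (hodd : Odd (orderOf α))
    (h : ∀ x, α x * x⁻¹ ∈ frattini X) : α = 1 := by
  haveI : Fact (Nat.Prime 2) := ⟨Nat.prime_two⟩
  obtain ⟨n, hn⟩ := hX.exists_card_eq
  obtain ⟨r, -, hr⟩ := (Nat.dvd_prime_pow Nat.prime_two).1 (hn ▸ Subgroup.index_dvd_card (frattini X))
  have hpow : ∀ (k : ℕ) (x : X), (α ^ k) x * x⁻¹ ∈ frattini X := by
    intro k
    induction k with
    | zero => intro x; simp
    | succ k ih =>
      intro x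
      have e : (α ^ (k + 1)) x * x⁻¹ = (α ((α ^ k) x) * ((α ^ k) x)⁻¹) * ((α ^ k) x * x⁻¹) := by
        rw [pow_succ', MulAut.mul_apply]; group
      rw [e]
      exact mul_mem (h _) (ih x)
  haveI : Finite (MulAut X) := Finite.of_injective (fun f => (f : X → X)) DFunLike.coe_injective
  have hd := Cfsg.Agent.S4207.aut_card_dvd hn hr (Subgroup.zpowers α) (by
    intro β hβ x
    obtain ⟨k, rfl⟩ := mem_powers_iff_mem_zpowers.2 hβ
    exact hpow k x)
  rw [Nat.card_zpowers] at hd
  exact orderOf_eq_one_iff.1 (Nat.eq_one_of_dvd_coprimes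
    (((Nat.coprime_two_right).2 hodd).pow_right _) dvd_rfl hd)

theorem one_mod_of_odd_pow {t r s : ℕ} (hr : Odd r) (h : t ^ r ≡ 1 [MOD 2 ^ s]) : t ≡ 1 [MOD 2 ^ s] := by
  rcases Nat.eq_zero_or_pos s with rfl | hs
  · simp [Nat.modEq_one]
  have h2 : ((t : ZMod 2)) ^ r = 1 := by
    have := (ZMod.natCast_eq_natCast_iff _ _ _).2 (h.of_dvd (dvd_pow_self 2 hs.ne'))
    simpa using this
  have ht : (t : ZMod 2) = 1 := by
    have : (t : ZMod 2) = 0 ∨ (t : ZMod 2) = 1 := by generalize (t : ZMod 2) = u; revert u; decide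
    rcases this with h0 | h1
    · rw [h0, zero_pow (Nat.pos_iff_ne_zero.1 hr.pos)] at h2
      exact absurd h2 (by decide)
    · exact h1
  have hsum : ¬ (2 : ℤ) ∣ ∑ i ∈ Finset.range r, (t : ℤ) ^ i := by
    intro hd
    have : ((∑ i ∈ Finset.range r, (t : ℤ) ^ i : ℤ) : ZMod 2) = 0 :=
      (ZMod.intCast_zmod_eq_zero_iff_dvd _ 2).2 hd
    push_cast at this
    rw [ht] at this
    simp only [one_pow, Finset.sum_const, Finset.card_range, nsmul_eq_mul, mul_one] at this
    rw [ZMod.natCast_eq_zero_iff] at this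
    exact (Nat.not_even_iff_odd.2 hr) (even_iff_two_dvd.2 this)
  rw [← Int.natCast_modEq_iff, Int.modEq_iff_dvd] at h ⊢
  push_cast at h ⊢
  rw [← dvd_neg, neg_sub] at h ⊢
  rw [← geom_sum_mul, mul_comm] at h
  exact IsCoprime.dvd_of_dvd_mul_right
    ((Int.prime_two.coprime_iff_not_dvd.2 hsum).pow_left) h

/-- A finite metacyclic `2`-group with an automorphism of odd order is `Q₈` or homocyclic of rank two. -/
theorem quaternion_or_homocyclic (hX : IsPGroup 2 X) (hm : Cfsg.IsMetacyclic X)
    (hA : ¬ IsPGroup 2 (MulAut X)) :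
    Nonempty (X ≃* QuaternionGroup 2) ∨
      ∃ n : ℕ, Nonempty (X ≃* Multiplicative (ZMod (2 ^ n)) × Multiplicative (ZMod (2 ^ n))) := by
  classical
  haveI : Fact (Nat.Prime 2) := ⟨Nat.prime_two⟩
  haveI : Finite (MulAut X) := Finite.of_injective (fun f => (f : X → X)) DFunLike.coe_injective
  -- an automorphism of odd order
  obtain ⟨α, hodd, hα⟩ : ∃ α : MulAut X, Odd (orderOf α) ∧ α ≠ 1 := by
    simp only [IsPGroup, not_forall, not_exists] at hA
    obtain ⟨β, hβ⟩ := hA
    obtain ⟨k, m, hm2, hk⟩ := Nat.exists_eq_pow_mul_and_not_dvd (orderOf_pos β).ne' 2 (by norm_num)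
    refine ⟨β ^ 2 ^ k, ?_, hβ k⟩
    rw [orderOf_pow' _ (pow_ne_zero _ two_ne_zero), hk, Nat.gcd_mul_right_left,
      Nat.mul_div_cancel_left _ (Nat.two_pow_pos _)]
    exact Nat.odd_iff.2 (Nat.two_dvd_ne_zero.1 hm2)
  obtain ⟨K, hKn, hKc, hQc⟩ := hm
  haveI := hKn
  obtain ⟨⟨a, haK⟩, ha⟩ := IsCyclic.exists_generator (α := K)
  have hKa : K = Subgroup.zpowers a := by
    refine le_antisymm (fun x hx => ?_) (Subgroup.zpowers_le.2 haK)
    obtain ⟨i, hi⟩ := ha ⟨x, hx⟩
    exact ⟨i, congrArg Subtype.val hi⟩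
  obtain ⟨bq, hbq⟩ := IsCyclic.exists_generator (α := X ⧸ K)
  obtain ⟨b, rfl⟩ := QuotientGroup.mk'_surjective K bq
  have hgen : Subgroup.closure ({a, b} : Set X) = ⊤ := by
    rw [eq_top_iff]
    intro x _
    obtain ⟨i, hi⟩ := hbq (QuotientGroup.mk' K x)
    have h1 : (b ^ i)⁻¹ * x ∈ K := by
      apply (QuotientGroup.eq_one_iff (N := K) _).1
      show QuotientGroup.mk' K ((b ^ i)⁻¹ * x) = 1
      rw [map_mul, map_inv, map_zpow]
      rw [show (QuotientGroup.mk' K b) ^ i = QuotientGroup.mk' K x from hi, inv_mul_cancel]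
    have h2 : K ≤ Subgroup.closure ({a, b} : Set X) := by
      rw [hKa, Subgroup.zpowers_le]; exact Subgroup.subset_closure (by simp)
    have h3 : b ^ i ∈ Subgroup.closure ({a, b} : Set X) :=
      zpow_mem (Subgroup.subset_closure (by simp)) i
    simpa using mul_mem h3 (h2 h1)
  -- the quotient modulo the Frattini subgroup
  haveI : (frattini X).Characteristic := inferInstance
  set π := QuotientGroup.mk' (frattini X) with hπ
  have hq2 : ∀ u : X ⧸ frattini X, u * u = 1 := by
    intro u
    obtain ⟨x, rfl⟩ := QuotientGroup.mk'_surjective _ u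
    rw [← map_mul, ← pow_two]
    exact (QuotientGroup.eq_one_iff (N := frattini X) _).2 (CfsgLib.pow_mem_frattini_pGroup hX x)
  have hqinv : ∀ u : X ⧸ frattini X, u⁻¹ = u := fun u => inv_eq_of_mul_eq_one_right (hq2 u)
  have hqcomm : ∀ u v : X ⧸ frattini X, u * v = v * u := fun u v => by
    calc u * v = (u * v)⁻¹ := (hqinv _).symm
      _ = v * u := by rw [mul_inv_rev, hqinv, hqinv]
  have four : ∀ x : X, π x = 1 ∨ π x = π a ∨ π x = π b ∨ π x = π a * π b := by
    intro x
    have hx : x ∈ Subgroup.closure ({a, b} : Set X) := hgen ▸ Subgroup.mem_top x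
    induction hx using Subgroup.closure_induction with
    | mem y hy => rcases hy with rfl | rfl <;> simp
    | one => simp
    | mul y z _ _ hy hz =>
      rw [map_mul]
      have h1 := hq2 (π a)
      have h2 := hq2 (π b)
      have h3 := hqcomm (π b) (π a)
      rcases hy with hy | hy | hy | hy <;> rcases hz with hz | hz | hz | hz <;> rw [hy, hz] <;>
        simp [← mul_assoc, h1, h2, h3, hq2, mul_assoc (π a) (π b) (π b), mul_assoc (π a) (π b) (π a)]
    | inv y _ hy => rw [map_inv, hqinv]; exact hy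
  have hchar : ∀ (β : MulAut X) (x y : X), π x = π y → π (β x) = π (β y) := by
    intro β x y h
    have h1 : x⁻¹ * y ∈ frattini X := QuotientGroup.eq.1 h
    refine QuotientGroup.eq.2 ?_
    rw [← map_inv, ← map_mul]
    have := Subgroup.characteristic_iff_map_le.1 (inferInstance : (frattini X).Characteristic) β
    exact this ⟨_, h1, rfl⟩
  have htriv : ∀ β : MulAut X, Odd (orderOf β) → π (β a) = π a → π (β b) = π b → β = 1 := by
    intro β hβ h1 h2
    refine eq_one_of_trivial_mod_frattini hX β hβ fun x => ?_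
    have hx : x ∈ Subgroup.closure ({a, b} : Set X) := hgen ▸ Subgroup.mem_top x
    have key : π (β x) = π x := by
      induction hx using Subgroup.closure_induction with
      | mem y hy => rcases hy with rfl | rfl <;> assumption
      | one => simp
      | mul y z _ _ hy hz => rw [map_mul, map_mul, map_mul, hy, hz]
      | inv y _ hy => rw [map_inv, map_inv, map_inv, hy]
    apply (QuotientGroup.eq_one_iff (N := frattini X) _).1
    show π (β x * x⁻¹) = 1
    rw [map_mul, map_inv, key, mul_inv_cancel]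
  have hinj : ∀ (β : MulAut X) (x y : X), π (β x) = π (β y) → π x = π y := by
    intro β x y h
    simpa using hchar β⁻¹ _ _ h
  have hb_ne : ∀ β : MulAut X, Odd (orderOf β) → β ≠ 1 → π (β a) ≠ 1 ∧ π (β a) ≠ π a := by
    intro β hβ hβ1
    have ha1 : π a ≠ 1 := by
      intro h
      refine hβ1 (htriv β hβ ?_ ?_)
      · have := hchar β a 1 (by rw [h, map_one])
        rw [this, map_one, map_one, h]
      · rcases four (β b) with hb | hb | hb | hb
        · have := hinj β b 1 (by rw [hb, map_one, map_one])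
          rw [hb, this, map_one]
        · rw [hb, h]; rw [h] at hb
          have := hinj β b 1 (by rw [hb, map_one, map_one])
          rw [this, map_one]
        · exact hb
        · rw [hb, h, one_mul]
    refine ⟨fun h => ha1 ?_, fun h => ?_⟩
    · have := hinj β a 1 (by rw [h, map_one, map_one])
      rwa [map_one] at this
    · refine hβ1 ?_
      have hβ2 : β ^ 2 = 1 := by
        have hodd2 : Odd (orderOf (β ^ 2)) := Odd.of_dvd_nat hβ (orderOf_pow_dvd 2)
        refine htriv _ hodd2 ?_ ?_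
        · rw [pow_two, MulAut.mul_apply, hchar β (β a) a h, h]
        · rw [pow_two, MulAut.mul_apply]
          rcases four (β b) with hb | hb | hb | hb
          · have := hinj β b 1 (by rw [hb, map_one, map_one])
            rw [hchar β (β b) 1 (by rw [hb, map_one]), map_one, map_one, this, map_one]
          · have := hinj β b a (by rw [hb, h])
            rw [hchar β (β b) a hb, h, this]
          · rw [hchar β (β b) b hb, hb]
          · rw [hchar β (β b) (a * b) (by rw [hb, map_mul]), map_mul, map_mul, h, hb, ← mul_assoc, hq2, one_mul]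
      exact orderOf_eq_one_iff.1 (Nat.eq_one_of_dvd_coprimes ((Nat.coprime_two_right).2 hβ) dvd_rfl
        (orderOf_dvd_of_pow_eq_one hβ2))
  obtain ⟨hca1, hcaa⟩ := hb_ne α hodd hα
  have hα2 : α ^ 2 ≠ 1 := fun h => hα (orderOf_eq_one_iff.1
    (Nat.eq_one_of_dvd_coprimes ((Nat.coprime_two_right).2 hodd) dvd_rfl (orderOf_dvd_of_pow_eq_one h)))
  obtain ⟨hd1, hda⟩ := hb_ne (α ^ 2) (Odd.of_dvd_nat hodd (orderOf_pow_dvd 2)) hα2
  set c := α a with hc
  set d := α c with hd
  have hdc : (α ^ 2) a = d := by rw [pow_two, MulAut.mul_apply]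
  rw [hdc] at hd1 hda
  have hdc' : π d ≠ π c := fun h => hcaa (hinj α c a h)
  have ha1 : π a ≠ 1 := fun h => hca1 (by
    have := hchar α a 1 (by rw [h, map_one])
    rw [this, map_one, map_one])
  -- `a` and `c` generate
  set L := Subgroup.zpowers c with hL
  haveI : L.Normal := by
    have e : L = K.map α.toMonoidHom := by rw [hKa, MonoidHom.map_zpowers]; rfl
    rw [e]
    exact Subgroup.Normal.map hKn _ α.surjective
  have htop : Subgroup.zpowers a ⊔ L = ⊤ := by
    apply frattini_nongenerating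
    rw [eq_top_iff]
    intro x _
    have hbin : ∀ y : X, π y = 1 ∨ π y = π a ∨ π y = π c ∨ π y = π a * π c := by
      intro y
      rcases four y with hy | hy | hy | hy
      · exact Or.inl hy
      · exact Or.inr (Or.inl hy)
      · rcases four c with hcc | hcc | hcc | hcc
        · exact absurd hcc hca1
        · exact absurd hcc hcaa
        · exact Or.inr (Or.inr (Or.inl (hy.trans hcc.symm)))
        · refine Or.inr (Or.inr (Or.inr ?_))
          rw [hy, hcc, ← mul_assoc, hq2, one_mul]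
      · rcases four c with hcc | hcc | hcc | hcc
        · exact absurd hcc hca1
        · exact absurd hcc hcaa
        · refine Or.inr (Or.inr (Or.inr ?_))
          rw [hy, hcc]
        · exact Or.inr (Or.inr (Or.inl (hy.trans hcc.symm)))
    have hm : ∀ y z : X, π z = π y → y ∈ Subgroup.zpowers a ⊔ L →
        z ∈ Subgroup.zpowers a ⊔ L ⊔ frattini X := by
      intro y z h hy
      have h1 : y⁻¹ * z ∈ frattini X := QuotientGroup.eq.1 h.symm
      simpa using Subgroup.mul_mem_sup hy h1
    rcases hbin x with hx | hx | hx | hx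
    · exact hm 1 x (by rw [hx, map_one]) (one_mem _)
    · exact hm a x hx (Subgroup.mem_sup_left (Subgroup.mem_zpowers a))
    · exact hm c x hx (Subgroup.mem_sup_right (Subgroup.mem_zpowers c))
    · exact hm (a * c) x (by rw [hx, map_mul]) (Subgroup.mul_mem_sup (Subgroup.mem_zpowers a) (Subgroup.mem_zpowers c))
  have hprod : ∀ x : X, ∃ i l : ℕ, x = a ^ i * c ^ l := by
    intro x
    have : x ∈ ((Subgroup.zpowers a ⊔ L : Subgroup X) : Set X) := by rw [htop]; trivial
    rw [Subgroup.mul_normal] at this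
    obtain ⟨y, hy, z, hz, rfl⟩ := this
    obtain ⟨i, rfl⟩ := mem_powers_iff_mem_zpowers.2 hy
    obtain ⟨l, rfl⟩ := mem_powers_iff_mem_zpowers.2 hz
    exact ⟨i, l, rfl⟩
  -- the intersection
  set D := Subgroup.zpowers a ⊓ L with hD
  haveI : (Subgroup.zpowers a).Normal := hKa ▸ hKn
  haveI : D.Normal := inferInstance
  have hDcen : ∀ y ∈ D, ∀ x : X, x * y = y * x := by
    intro y hy x
    obtain ⟨⟨i, rfl⟩, ⟨l, hl⟩⟩ := hy
    have hl' : c ^ l = a ^ i := hl
    obtain ⟨i', l', rfl⟩ := hprod x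
    have h1 : Commute (a ^ i') (a ^ i) := (Commute.refl a).pow_left i' |>.zpow_right i
    have h2 : Commute (c ^ l') (a ^ i) := hl' ▸ ((Commute.refl c).pow_left l' |>.zpow_right l)
    exact (h1.mul_left h2).eq
  set j := D.relIndex (Subgroup.zpowers a) with hj
  have hjdvd : j ∣ orderOf a := by
    rw [← Nat.card_zpowers]; exact Subgroup.relIndex_dvd_card D _
  have hgD : a ^ j ∈ D := by
    have := Subgroup.pow_index_mem (D.subgroupOf (Subgroup.zpowers a)) ⟨a, Subgroup.mem_zpowers a⟩
    simpa [Subgroup.mem_subgroupOf, hj, Subgroup.relIndex] using this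
  set g := a ^ j with hg
  have hjpos : 0 < j := Nat.pos_of_ne_zero (Subgroup.index_ne_zero_of_finite)
  have hDg : D = Subgroup.zpowers g := by
    refine (Subgroup.eq_of_le_of_card_ge (Subgroup.zpowers_le.2 hgD) ?_).symm
    have h1 := Subgroup.card_mul_index (D.subgroupOf (Subgroup.zpowers a))
    rw [Nat.card_congr (Subgroup.subgroupOfEquivOfLe (inf_le_left : D ≤ _)).toEquiv, Nat.card_zpowers] at h1
    rw [Nat.card_zpowers, hg, orderOf_pow' _ hjpos.ne', Nat.gcd_eq_right hjdvd, ← h1]
    exact le_of_eq (Nat.mul_div_cancel _ hjpos).symm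
  have hLK : ∀ y, y ∈ D → α y ∈ D := by
    intro y hy
    refine ⟨?_, ?_⟩
    swap
    · obtain ⟨i, rfl⟩ := hy.1
      exact ⟨i, (map_zpow α a i).symm⟩
    · have hyL : α y ∈ L := by
        obtain ⟨i, rfl⟩ := hy.1
        exact ⟨i, (map_zpow α a i).symm⟩
      haveI : IsCyclic L := Subgroup.isCyclic_zpowers c
      letI : CommGroup L := IsCyclic.commGroup
      let m := Nat.card D
      have hle : D.subgroupOf L ≤ (powMonoidHom m : L →* L).ker := by
        intro z hz
        refine Subtype.ext ?_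
        have := congrArg Subtype.val (pow_card_eq_one' (G := D) (x := ⟨(z : X), hz⟩))
        rw [SubgroupClass.coe_pow] at this
        rw [powMonoidHom_apply, SubgroupClass.coe_pow]
        exact this
      have heq : D.subgroupOf L = (powMonoidHom m : L →* L).ker := by
        refine Subgroup.eq_of_le_of_card_ge hle ?_
        rw [IsCyclic.card_powMonoidHom_ker,
          Nat.card_congr (Subgroup.subgroupOfEquivOfLe (inf_le_right : D ≤ L)).toEquiv]
        exact Nat.le_of_dvd Nat.card_pos (Nat.gcd_dvd_right _ _)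
      have hy' : (⟨α y, hyL⟩ : L) ∈ (powMonoidHom m : L →* L).ker := by
        refine Subtype.ext ?_
        have := congrArg Subtype.val (pow_card_eq_one' (G := D) (x := ⟨y, hy⟩))
        simp only [powMonoidHom_apply, SubgroupClass.coe_pow, OneMemClass.coe_one, m] at this ⊢
        rw [← map_pow, this, map_one]
      rw [← heq] at hy'
      exact hy'.1
  have hαg : α g = g := by
    obtain ⟨t, ht⟩ := mem_powers_iff_mem_zpowers.2 (hDg ▸ hLK g hgD)
    have ht' : g ^ t = α g := ht
    have hit : ∀ k : ℕ, (α ^ k) g = g ^ t ^ k := by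
      intro k
      induction k with
      | zero => simp
      | succ k ih => rw [pow_succ', MulAut.mul_apply, ih, map_pow, ← ht', ← pow_mul, pow_succ', mul_comm]
    have h1 := hit (orderOf α)
    rw [pow_orderOf_eq_one, MulAut.one_apply] at h1
    obtain ⟨s, hs⟩ := (IsPGroup.iff_orderOf).1 hX g
    have h2 : t ^ orderOf α ≡ 1 [MOD 2 ^ s] := by
      rw [← hs, ← pow_eq_pow_iff_modEq, pow_one]; exact h1.symm
    have h3 : g ^ t = g ^ 1 := pow_eq_pow_iff_modEq.2 (hs ▸ one_mod_of_odd_pow hodd h2)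
    rw [← ht', h3, pow_one]
  have hcg : c ^ j = g := by rw [hc, ← map_pow, ← hg, hαg]
  have hdg : d ^ j = g := by rw [hd, ← map_pow, hcg, hαg]
  -- the commutator
  set z := c * a * c⁻¹ * a⁻¹ with hz
  have hzD : z ∈ D := by
    refine ⟨mul_mem ((inferInstance : (Subgroup.zpowers a).Normal).conj_mem a (Subgroup.mem_zpowers a) c)
      (Subgroup.inv_mem _ (Subgroup.mem_zpowers a)), ?_⟩
    have h1 : a * c⁻¹ * a⁻¹ ∈ L :=
      (inferInstance : L.Normal).conj_mem c⁻¹ (Subgroup.inv_mem _ (Subgroup.mem_zpowers c)) a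
    have := mul_mem (Subgroup.mem_zpowers c) h1
    simpa [hz, mul_assoc] using this
  have hza : c * a = z * (a * c) := by rw [hz]; group
  have hzpow : ∀ i l : ℕ, c ^ l * a ^ i = z ^ (i * l) * (a ^ i * c ^ l) := by
    intro i l
    have h1 : ∀ l : ℕ, c ^ l * a = z ^ l * (a * c ^ l) :=
      CfsgLib.pow_mul_central hza (hDcen z hzD c).symm
    induction i with
    | zero => simp
    | succ i ih =>
      have hzl : z ^ l ∈ D := pow_mem hzD l
      calc c ^ l * a ^ (i + 1) = (c ^ l * a ^ i) * a := by rw [pow_succ, mul_assoc]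
        _ = z ^ (i * l) * (a ^ i * (c ^ l * a)) := by rw [ih]; group
        _ = z ^ (i * l) * ((a ^ i * z ^ l) * (a * c ^ l)) := by rw [h1]; group
        _ = z ^ (i * l) * ((z ^ l * a ^ i) * (a * c ^ l)) := by rw [hDcen _ hzl (a ^ i)]
        _ = z ^ ((i + 1) * l) * (a ^ (i + 1) * c ^ l) := by rw [add_mul, one_mul, pow_add, pow_succ]; group
  obtain ⟨i, l, hil⟩ := hprod d
  have hπpow : ∀ (x : X) (k : ℕ), π (x ^ k) = if Even k then 1 else π x := by
    intro x k
    rw [map_pow]
    rcases Nat.even_or_odd k with he | ho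
    · obtain ⟨r, rfl⟩ := he
      rw [if_pos (Even.add_self r), ← two_mul, pow_mul, pow_two, hq2, one_pow]
    · rw [if_neg (Nat.not_even_iff_odd.2 ho)]
      obtain ⟨r, rfl⟩ := ho
      rw [pow_succ, pow_mul, pow_two, hq2, one_pow, one_mul]
  have hiodd : Odd i ∧ Odd l := by
    have h := congrArg π hil
    rw [map_mul, hπpow, hπpow] at h
    rcases Nat.even_or_odd i with hi | hi <;> rcases Nat.even_or_odd l with hl | hl
    · rw [if_pos hi, if_pos hl, mul_one] at h; exact absurd h hd1
    · rw [if_pos hi, if_neg (Nat.not_even_iff_odd.2 hl), one_mul] at h; exact absurd h hdc'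
    · rw [if_neg (Nat.not_even_iff_odd.2 hi), if_pos hl, mul_one] at h; exact absurd h hda
    · exact ⟨hi, hl⟩
  have hkey : g = z ^ (i * l * (j * (j - 1) / 2)) * g ^ (i + l) := by
    have hzil : z ^ (i * l) ∈ D := pow_mem hzD _
    have h1 := CfsgLib.mul_pow_central (hzpow i l) (hDcen _ hzil _).symm (hDcen _ hzil _).symm j
    rw [← hil, hdg] at h1
    rw [← pow_mul z, ← pow_mul a, mul_comm i j, pow_mul a, ← hg, ← pow_mul c, mul_comm l j, pow_mul c, hcg,
      ← pow_add] at h1
    exact h1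
  obtain ⟨n, -, hjn⟩ := (Nat.dvd_prime_pow Nat.prime_two).1
    (hjdvd.trans (dvd_of_eq (Classical.choose_spec ((IsPGroup.iff_orderOf).1 hX a))))
  have hn0 : n ≠ 0 := by
    rintro rfl
    rw [pow_zero] at hjn
    have hac : a ∈ L := by
      have := hgD.2
      rwa [hg, hjn, pow_one] at this
    obtain ⟨k, hk⟩ := mem_powers_iff_mem_zpowers.2 hac
    have hk' : c ^ k = a := hk
    have h := congrArg π hk'
    rw [hπpow] at h
    split_ifs at h
    · exact ha1 h.symm
    · exact hcaa h
  obtain ⟨s, hs⟩ := (IsPGroup.iff_orderOf).1 hX g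
  have hodd1 : ∀ e : ℕ, Odd e → g ^ e = 1 → g = 1 := fun e he h =>
    orderOf_eq_one_iff.1 (Nat.eq_one_of_dvd_coprimes
      (((Nat.coprime_two_left).2 he).pow_left s) (hs ▸ dvd_rfl) (orderOf_dvd_of_pow_eq_one h))
  have hg1 : g = 1 → ∃ n : ℕ, Nonempty (X ≃* Multiplicative (ZMod (2 ^ n)) × Multiplicative (ZMod (2 ^ n))) := by
    intro h1
    have hDbot : D = ⊥ := by rw [hDg, h1, Subgroup.zpowers_one_eq_bot]
    have hcomm : ∀ (u : Subgroup.zpowers a) (v : L), Commute (u : X) (v : X) := fun u v =>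
      Subgroup.commute_of_normal_of_disjoint _ _ inferInstance inferInstance (disjoint_iff.2 hDbot) u v u.2 v.2
    have hinjf : Function.Injective
        (MonoidHom.noncommCoprod (Subgroup.zpowers a).subtype L.subtype hcomm) := by
      rw [injective_iff_map_eq_one]
      rintro ⟨⟨u, hu⟩, ⟨v, hv⟩⟩ h
      have h' : u * v = 1 := h
      have hu' : u ∈ D := ⟨hu, by rw [eq_inv_of_mul_eq_one_left h']; exact Subgroup.inv_mem _ hv⟩
      rw [hDbot, Subgroup.mem_bot] at hu'
      subst hu'
      rw [one_mul] at h'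
      subst h'
      rfl
    have hsurj : Function.Surjective
        (MonoidHom.noncommCoprod (Subgroup.zpowers a).subtype L.subtype hcomm) := by
      intro x
      obtain ⟨i', l', rfl⟩ := hprod x
      exact ⟨(⟨a ^ i', pow_mem (Subgroup.mem_zpowers a) _⟩, ⟨c ^ l', pow_mem (Subgroup.mem_zpowers c) _⟩), rfl⟩
    obtain ⟨r, hr⟩ := (IsPGroup.iff_orderOf).1 hX a
    have hr1 : Nat.card (Subgroup.zpowers a) = 2 ^ r := by rw [Nat.card_zpowers, hr]
    have hr2 : Nat.card L = 2 ^ r := by
      rw [hL, Nat.card_zpowers, hc, MulEquiv.orderOf_eq, hr]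
    haveI : IsCyclic (Subgroup.zpowers a) := Subgroup.isCyclic_zpowers a
    haveI : IsCyclic L := Subgroup.isCyclic_zpowers c
    refine ⟨r, ⟨(MulEquiv.ofBijective _ ⟨hinjf, hsurj⟩).symm.trans
      (MulEquiv.prodCongr (hr1 ▸ (zmodCyclicMulEquiv (inferInstance : IsCyclic (Subgroup.zpowers a))).symm)
        (hr2 ▸ (zmodCyclicMulEquiv (inferInstance : IsCyclic L)).symm))⟩⟩
  obtain ⟨t, ht⟩ := mem_powers_iff_mem_zpowers.2 (hDg ▸ hzD)
  have ht' : g ^ t = z := ht
  by_cases hn1 : n = 1
  · subst hn1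
    rw [pow_one] at hjn
    have hz2 : z ^ 2 = 1 := by
      have h1 := CfsgLib.pow_mul_central hza (hDcen z hzD c).symm 2
      rw [show c ^ 2 = g by rw [← hjn, hcg], ← hDcen g hgD a] at h1
      exact (mul_eq_right.1 h1.symm)
    rw [hjn] at hkey
    norm_num at hkey
    obtain ⟨r, hr⟩ := hiodd.1.mul hiodd.2
    rw [hr, pow_succ, pow_mul, hz2, one_pow, one_mul] at hkey
    obtain ⟨e, he⟩ : ∃ e, i + l = e + 1 ∧ Odd e := by
      obtain ⟨i', hi'⟩ := hiodd.1
      obtain ⟨l', hl'⟩ := hiodd.2
      exact ⟨2 * (i' + l') + 1, by omega, odd_two_mul_add_one _⟩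
    rw [he.1, pow_succ, ← mul_assoc] at hkey
    have hzg : z * g ^ e = 1 := mul_eq_right.1 hkey.symm
    by_cases hz1 : z = 1
    · rw [hz1, one_mul] at hzg
      exact Or.inr (hg1 (hodd1 e he.2 hzg))
    left
    have hge : g ^ e = z := by
      rw [← inv_eq_of_mul_eq_one_right hzg]
      exact inv_eq_of_mul_eq_one_right (by rw [← pow_two]; exact hz2)
    have hg2 : g ^ 2 = 1 := by
      have h : (g ^ 2) ^ e = 1 := by rw [← pow_mul, mul_comm, pow_mul, hge, hz2]
      exact orderOf_eq_one_iff.1 (Nat.eq_one_of_dvd_coprimes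
        (((Nat.coprime_two_left).2 he.2).pow_left s) ((orderOf_pow_dvd 2).trans (hs ▸ dvd_rfl))
        (orderOf_dvd_of_pow_eq_one h))
    have hgz : g = z := by
      obtain ⟨r', hr'⟩ := he.2
      rw [← hge, hr', pow_succ, pow_mul, hg2, one_pow, one_mul]
    have ha2 : a ^ 2 = z := by rw [← hgz, hg, hjn]
    have ha4 : a ^ (2 * 2) = 1 := by rw [pow_mul, ha2, hz2]
    have hb2 : c * c = a ^ 2 := by rw [← pow_two, ← hjn, hcg]
    have hba : c * a * c⁻¹ = a⁻¹ := by
      have h0 : z * a * a = 1 := by rw [mul_assoc, ← pow_two a, ha2, ← pow_two, hz2]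
      calc c * a * c⁻¹ = z * a := by rw [hz]; group
        _ = a⁻¹ := eq_inv_of_mul_eq_one_left h0
    have hord : orderOf a = 2 * 2 := by
      have h := orderOf_eq_prime_pow (p := 2) (n := 1) (x := a) (by rw [pow_one, ha2]; exact hz1)
        (by rw [show 2 ^ (1 + 1) = 2 * 2 by norm_num]; exact ha4)
      simpa using h
    have hnm : c ∉ Subgroup.zpowers a := by
      intro h
      obtain ⟨k, hk⟩ := mem_powers_iff_mem_zpowers.2 h
      have hk' : a ^ k = c := hk
      have h' := congrArg π hk'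
      rw [hπpow] at h'
      split_ifs at h'
      · exact hca1 h'.symm
      · exact hcaa h'.symm
    refine ⟨(MulEquiv.ofBijective (CfsgLib.Quat.hom a c ha4 hb2 hba)
      ⟨CfsgLib.Quat.hom_injective ha4 hb2 hba hord hnm, ?_⟩).symm⟩
    intro x
    have hr3 : (CfsgLib.Quat.hom a c ha4 hb2 hba).range = ⊤ := by
      rw [CfsgLib.Quat.hom_range, eq_top_iff, ← htop]
      exact sup_le (Subgroup.zpowers_le.2 (Subgroup.subset_closure (by simp)))
        (Subgroup.zpowers_le.2 (Subgroup.subset_closure (by simp)))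
    exact MonoidHom.mem_range.1 (hr3 ▸ Subgroup.mem_top x)
  · -- `4 ∣ j`: the intersection is trivial
    refine Or.inr (hg1 ?_)
    have hC : Even (j * (j - 1) / 2) := by
      have h4 : j = 2 * 2 ^ (n - 1) := by rw [hjn, ← pow_succ']; congr 1; omega
      rw [h4, mul_assoc, Nat.mul_div_cancel_left _ two_pos]
      exact ((Nat.even_pow.2 ⟨even_two, by omega⟩)).mul_right _
    obtain ⟨C, hC'⟩ := hC
    obtain ⟨e, he, heodd⟩ : ∃ e, t * (i * l * (j * (j - 1) / 2)) + (i + l) = e + 1 ∧ Odd e := by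
      obtain ⟨i', hi'⟩ := hiodd.1
      obtain ⟨l', hl'⟩ := hiodd.2
      refine ⟨2 * (t * (i * l * C) + i' + l') + 1, ?_, odd_two_mul_add_one _⟩
      rw [hC', show t * (i * l * (C + C)) = 2 * (t * (i * l * C)) by ring]
      omega
    rw [← ht', ← pow_mul, ← pow_add, he, pow_succ] at hkey
    exact hodd1 e heodd (mul_eq_right.1 hkey.symm)

end CfsgLib.MetacyclicTwo
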