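import Mathlib.GroupTheory.PGroup
import Mathlib.GroupTheory.Subgroup.Centralizer
import Mathlib.GroupTheory.Commutator.Basic

/-! Coprime elements acting trivially on the factors of a series. -/

set_option autoImplicit false

namespace CfsgLib.Stabilizer

variable {G : Type*} [Group G]

/-- If conjugation by `x` sends `r` to `c * r` with `x` centralizing the `p`-element `c` and `x` of order
prime to `p`, then `c = 1`. -/
theorem coprime_step {p : ℕ} {x r c : G} (hx : (orderOf x).Coprime p) (hc : ∃ k : ℕ, c ^ p ^ k = 1)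
    (h : x * r * x⁻¹ = c * r) (hcx : x * c = c * x) : c = 1 := by
  have key : ∀ n : ℕ, x ^ n * r * (x ^ n)⁻¹ = c ^ n * r := by
    intro n
    induction n with
    | zero => simp
    | succ n ih =>
      have hcomm : x * c ^ n = c ^ n * x := (Commute.pow_right hcx n).eq
      calc x ^ (n + 1) * r * (x ^ (n + 1))⁻¹ = x * (x ^ n * r * (x ^ n)⁻¹) * x⁻¹ := by
            rw [pow_succ']; group
        _ = x * (c ^ n * r) * x⁻¹ := by rw [ih]
        _ = c ^ n * (x * r * x⁻¹) := by rw [← mul_assoc x, hcomm]; group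
        _ = c ^ (n + 1) * r := by rw [h, pow_succ]; group
  have h1 : c ^ orderOf x = 1 := by
    have := key (orderOf x)
    rw [pow_orderOf_eq_one] at this
    simpa using this.symm
  obtain ⟨k, hk⟩ := hc
  have h2 : orderOf c ∣ Nat.gcd (orderOf x) (p ^ k) :=
    Nat.dvd_gcd (orderOf_dvd_of_pow_eq_one h1) (orderOf_dvd_of_pow_eq_one hk)
  rw [Nat.Coprime.gcd_eq_one (hx.pow_right k)] at h2
  exact orderOf_eq_one_iff.1 (Nat.dvd_one.1 h2)

/-- An element of order prime to `p` centralizing the bottom term and all factors of a series of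
`p`-subgroups centralizes every term. -/
theorem centralizes_of_series {p : ℕ} {x : G} (hx : (orderOf x).Coprime p) (A : ℕ → Subgroup G)
    (n : ℕ) (hp : ∀ i < n, IsPGroup p (A i)) (h0 : ∀ r ∈ A 0, x * r * x⁻¹ = r)
    (hstep : ∀ i < n, ∀ r ∈ A (i + 1), x * r * x⁻¹ * r⁻¹ ∈ A i) :
    ∀ i ≤ n, ∀ r ∈ A i, x * r = r * x := by
  intro i
  induction i with
  | zero => exact fun _ r hr => mul_inv_eq_iff_eq_mul.1 (h0 r hr)
  | succ i ih =>
    intro hi r hr
    have hc := hstep i hi r hr
    obtain ⟨k, hk⟩ := hp i hi ⟨_, hc⟩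
    have := coprime_step (c := x * r * x⁻¹ * r⁻¹) (r := r) hx ⟨k, congrArg Subtype.val hk⟩
      (by group) (ih (by omega) _ hc)
    rw [mul_inv_eq_one] at this
    exact mul_inv_eq_iff_eq_mul.1 this

/-- A finite group without nontrivial elements of order prime to `p` is a `p`-group. -/
theorem isPGroup_of_coprime_trivial [Finite G] {p : ℕ} [hp : Fact p.Prime] (H : Subgroup G)
    (h : ∀ x ∈ H, (orderOf x).Coprime p → x = 1) : IsPGroup p H := by
  intro ⟨g, hg⟩
  obtain ⟨k, m, hm, hkm⟩ := Nat.exists_eq_pow_mul_and_not_dvd (orderOf_pos g).ne' p hp.1.ne_one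
  refine ⟨k, Subtype.ext (h (g ^ p ^ k) (H.pow_mem hg _) ?_)⟩
  rw [orderOf_pow' g (pow_ne_zero _ hp.1.ne_zero), hkm,
    Nat.gcd_eq_right (dvd_mul_right _ _), Nat.mul_div_cancel_left _ (pow_pos hp.1.pos _)]
  exact ((Nat.Prime.coprime_iff_not_dvd hp.1).2 hm).symm

end CfsgLib.Stabilizer
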