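import Mathlib.GroupTheory.Nilpotent
import Mathlib.GroupTheory.QuotientGroup.Basic
import Mathlib.GroupTheory.Commutator.Basic
import Cfsg.Agent.Lib.Stabilizer

/-! The three subgroups lemma modulo a normalized subgroup, Thompson's `A × B` lemma. -/

set_option autoImplicit false

namespace CfsgLib.Stabilizer

open scoped commutatorElement

variable {G : Type*} [Group G]

theorem commutator_le_left_of_normalizes {A B : Subgroup G}
    (h : B ≤ Subgroup.normalizer (A : Set G)) : ⁅A, B⁆ ≤ A :=
  Subgroup.commutator_le.2 fun a ha b hb => by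
    rw [commutatorElement_def, mul_assoc a, mul_assoc a]
    exact A.mul_mem ha (((Subgroup.mem_normalizer_iff.1 (h hb)) a⁻¹).1 (A.inv_mem ha))

/-- Three subgroups lemma modulo a subgroup normalized by all three. -/
theorem commutator_commutator_le_of_rotate {A B C N : Subgroup G}
    (hA : A ≤ Subgroup.normalizer (N : Set G)) (hB : B ≤ Subgroup.normalizer (N : Set G))
    (hC : C ≤ Subgroup.normalizer (N : Set G)) (h1 : ⁅⁅B, C⁆, A⁆ ≤ N) (h2 : ⁅⁅C, A⁆, B⁆ ≤ N) :
    ⁅⁅A, B⁆, C⁆ ≤ N := by
  set K : Subgroup G := Subgroup.normalizer (N : Set G)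
  haveI : (N.subgroupOf K).Normal :=
    (Subgroup.normal_subgroupOf_iff_le_normalizer Subgroup.le_normalizer).2 le_rfl
  let π := QuotientGroup.mk' (N.subgroupOf K)
  have key : ∀ {X Y Z : Subgroup G}, X ≤ K → Y ≤ K → Z ≤ K →
      (⁅⁅(X.subgroupOf K).map π, (Y.subgroupOf K).map π⁆, (Z.subgroupOf K).map π⁆ = ⊥ ↔
        ⁅⁅X, Y⁆, Z⁆ ≤ N) := by
    intro X Y Z hX hY hZ
    rw [← Subgroup.map_commutator, ← Subgroup.map_commutator, Subgroup.map_eq_bot_iff,
      QuotientGroup.ker_mk',
      ← Subgroup.map_subtype_le_map_subtype, Subgroup.map_commutator, Subgroup.map_commutator,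
      Subgroup.map_subgroupOf_eq_of_le hX, Subgroup.map_subgroupOf_eq_of_le hY,
      Subgroup.map_subgroupOf_eq_of_le hZ, Subgroup.map_subgroupOf_eq_of_le Subgroup.le_normalizer]
  exact (key hA hB hC).1 (Subgroup.commutator_commutator_eq_bot_of_rotate
    ((key hB hC hA).2 h1) ((key hC hA hB).2 h2))

theorem lowerCentralSeries_succ' (U : Subgroup G) (i : ℕ) :
    U.lowerCentralSeries (i + 1) = ⁅U.lowerCentralSeries i, U⁆ :=
  Subgroup.lowerCentralSeries_succ U i

theorem commutator_one_lowerCentralSeries_le (U : Subgroup G) (j : ℕ) :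
    ⁅U.lowerCentralSeries j, U.lowerCentralSeries 1⁆ ≤ U.lowerCentralSeries (j + 2) := by
  have hn : ∀ i, U ≤ Subgroup.normalizer (U.lowerCentralSeries i : Set G) := fun i =>
    Subgroup.self_le_normalizer_lowerCentralSeries U i
  have e0 : U.lowerCentralSeries 1 = ⁅U, U⁆ := by
    rw [lowerCentralSeries_succ', Subgroup.lowerCentralSeries_zero]
  rw [Subgroup.commutator_comm, e0]
  refine commutator_commutator_le_of_rotate (hn _) (hn _)
    ((Subgroup.lowerCentralSeries_le_self _ _).trans (hn _)) ?_ ?_
  · rw [Subgroup.commutator_comm U, ← lowerCentralSeries_succ', ← lowerCentralSeries_succ']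
  · rw [← lowerCentralSeries_succ', ← lowerCentralSeries_succ']

/-- If `B` centralizes `U` modulo its derived subgroup, then it centralizes every factor of the
lower central series of `U`. -/
theorem commutator_lowerCentralSeries_le (U B : Subgroup G)
    (hBU : B ≤ Subgroup.normalizer (U : Set G)) (h : ⁅U, B⁆ ≤ U.lowerCentralSeries 1) (j : ℕ) :
    ⁅U.lowerCentralSeries j, B⁆ ≤ U.lowerCentralSeries (j + 1) := by
  induction j with
  | zero => simpa using h
  | succ j ih =>
    have hn : ∀ i, U ≤ Subgroup.normalizer (U.lowerCentralSeries i : Set G) := fun i =>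
      Subgroup.self_le_normalizer_lowerCentralSeries U i
    have hB : ∀ i, B ≤ Subgroup.normalizer (U.lowerCentralSeries i : Set G) := by
      intro i b hb
      refine Subgroup.mem_normalizer_iff.2 fun x => ?_
      have hconj : ∀ c ∈ Subgroup.normalizer (U : Set G),
          (U.lowerCentralSeries i).map (MulAut.conj c).toMonoidHom = U.lowerCentralSeries i := by
        intro c hc
        rw [Subgroup.map_lowerCentralSeries]
        congr 1
        ext y
        constructor
        · rintro ⟨z, hz, rfl⟩; simpa using (Subgroup.mem_normalizer_iff.1 hc z).1 hz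
        · intro hy
          exact ⟨c⁻¹ * y * c, (Subgroup.mem_normalizer_iff.1 hc _).2 (by simpa [mul_assoc] using hy),
            by simp [mul_assoc]⟩
      constructor
      · intro hx
        rw [← hconj b (hBU hb)]
        exact ⟨x, hx, by simp⟩
      · intro hx
        rw [← hconj b (hBU hb)] at hx
        obtain ⟨z, hz, e⟩ := hx
        simp at e
        exact e ▸ hz
    rw [lowerCentralSeries_succ' U j]
    refine commutator_commutator_le_of_rotate
      ((Subgroup.lowerCentralSeries_le_self _ _).trans (hn _)) (hn _) (hB _) ?_ ?_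
    · refine (Subgroup.commutator_mono h le_rfl).trans ?_
      rw [Subgroup.commutator_comm]
      exact commutator_one_lowerCentralSeries_le U j
    · rw [Subgroup.commutator_comm B, lowerCentralSeries_succ' U (j + 1)]
      exact Subgroup.commutator_mono ih le_rfl

/-- An element of order prime to `p` centralizing the `p`-group `U` modulo its derived subgroup
centralizes `U`. -/
theorem centralizes_of_mod_derived {p : ℕ} [Fact p.Prime] {U : Subgroup G} [Finite G]
    (hU : IsPGroup p U) {x : G} (hx : (orderOf x).Coprime p) (B : Subgroup G) (hxB : x ∈ B)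
    (hBU : B ≤ Subgroup.normalizer (U : Set G)) (h : ⁅U, B⁆ ≤ U.lowerCentralSeries 1) :
    ∀ u ∈ U, x * u = u * x := by
  haveI := hU.isNilpotent
  obtain ⟨n, hn⟩ := (Subgroup.isNilpotent_iff_lowerCentralSeries (S := U)).1 inferInstance
  have key := centralizes_of_series hx (fun i => U.lowerCentralSeries (n - i)) n
    (fun i _ => hU.of_injective (Subgroup.inclusion (Subgroup.lowerCentralSeries_le_self _ _))
      (Subgroup.inclusion_injective _))
    (fun r hr => by
      simp only [Nat.sub_zero, hn, Subgroup.mem_bot] at hr; simp [hr])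
    (fun i hi r hr => by
      have e : n - i = (n - (i + 1)) + 1 := by omega
      rw [e]
      have := inv_mem (commutator_lowerCentralSeries_le U B hBU h _
        (Subgroup.commutator_mem_commutator hr hxB))
      simpa [commutatorElement_def, mul_assoc] using this)
    n le_rfl
  simpa using key

/-- Thompson's `A × B` lemma. -/
theorem thompson_axb [Finite G] {p : ℕ} [Fact p.Prime] {R Q : Subgroup G} (hR : IsPGroup p R)
    (hQ : IsPGroup p Q) (hQR : Q ≤ Subgroup.normalizer (R : Set G)) {x : G}
    (hx : (orderOf x).Coprime p) (hxR : x ∈ Subgroup.normalizer (R : Set G))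
    (hxQ : ∀ q ∈ Q, x * q = q * x) (hxC : ∀ r ∈ R ⊓ Subgroup.centralizer (Q : Set G), x * r = r * x) :
    ∀ r ∈ R, x * r = r * x := by
  induction hn : Nat.card R using Nat.strong_induction_on generalizing R with
  | _ n ih =>
    by_cases hbot : R = ⊥
    · intro r hr; rw [hbot, Subgroup.mem_bot] at hr; simp [hr]
    set R1 := ⁅R, Q⁆ with hR1
    have hle : R1 ≤ R := commutator_le_left_of_normalizes hQR
    have hxN : x ∈ Subgroup.normalizer (R1 : Set G) := by
      have hmap : R1.map (MulAut.conj x).toMonoidHom = R1 := by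
        have eR : R.map (MulAut.conj x).toMonoidHom = R := by
          ext y
          constructor
          · rintro ⟨z, hz, rfl⟩; simpa using (Subgroup.mem_normalizer_iff.1 hxR z).1 hz
          · intro hy
            exact ⟨x⁻¹ * y * x, (Subgroup.mem_normalizer_iff.1 hxR _).2 (by simpa [mul_assoc] using hy),
              by simp [mul_assoc]⟩
        have eQ : Q.map (MulAut.conj x).toMonoidHom = Q := by
          ext y
          constructor
          · rintro ⟨z, hz, rfl⟩; simpa [hxQ z hz] using hz
          · intro hy; exact ⟨y, hy, by simp [hxQ y hy]⟩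
        rw [hR1, Subgroup.map_commutator, eR, eQ]
      refine Subgroup.mem_normalizer_iff.2 fun y => ⟨fun hy => ?_, fun hy => ?_⟩
      · rw [← hmap]; exact ⟨y, hy, by simp⟩
      · rw [← hmap] at hy
        obtain ⟨z, hz, e⟩ := hy
        simp at e; exact e ▸ hz
    have hlt : R1 < R := by
      refine lt_of_le_of_ne hle fun heq => hbot ?_
      have hP : IsPGroup p ↥(R ⊔ Q) := hR.to_sup_of_normal_left' hQ hQR
      haveI := hP.isNilpotent
      obtain ⟨m, hm⟩ := (Subgroup.isNilpotent_iff_lowerCentralSeries (S := R ⊔ Q)).1 inferInstance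
      have : ∀ i, R ≤ (R ⊔ Q).lowerCentralSeries i := by
        intro i
        induction i with
        | zero => simp
        | succ i ih' =>
          rw [lowerCentralSeries_succ']
          calc R = ⁅R, Q⁆ := heq.symm
            _ ≤ _ := Subgroup.commutator_mono ih' le_sup_right
      exact le_bot_iff.1 (hm ▸ this m)
    have hQR1 : Q ≤ Subgroup.normalizer (R1 : Set G) :=
      Subgroup.normalizer_commutator_ge_right R Q
    have h1 := ih (Nat.card R1) (hn ▸ (Subgroup.card_le_of_le hle).lt_of_ne fun h =>
        hlt.ne (Subgroup.eq_of_le_of_card_ge hle h.ge))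
      (R := R1) (hR.of_injective (Subgroup.inclusion hle) (Subgroup.inclusion_injective _)) hQR1 hxN
      (fun r hr => hxC r ⟨hle hr.1, hr.2⟩) rfl
    set X := Subgroup.zpowers x with hX
    have hA : ⁅⁅R, Q⁆, X⁆ = ⊥ := Subgroup.commutator_eq_bot_iff_le_centralizer.2 fun r hr => by
      rintro y ⟨i, rfl⟩
      exact ((show Commute x r from h1 r hr).zpow_left i).eq
    have hB : ⁅⁅Q, X⁆, R⁆ = ⊥ := by
      have : ⁅Q, X⁆ = ⊥ := Subgroup.commutator_eq_bot_iff_le_centralizer.2 fun q hq => by
        rintro y ⟨i, rfl⟩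
        exact ((show Commute x q from hxQ q hq).zpow_left i).eq
      rw [this, Subgroup.commutator_bot_left]
    have hC : ⁅⁅X, R⁆, Q⁆ = ⊥ := Subgroup.commutator_commutator_eq_bot_of_rotate hA hB
    have hXR : ⁅X, R⁆ ≤ R := by
      rw [Subgroup.commutator_comm]
      exact commutator_le_left_of_normalizes (Subgroup.zpowers_le.2 hxR)
    intro r hr
    have hc : x * r * x⁻¹ * r⁻¹ ∈ ⁅X, R⁆ := by
      simpa [commutatorElement_def] using
        Subgroup.commutator_mem_commutator (Subgroup.mem_zpowers x) hr
    have hcC : x * r * x⁻¹ * r⁻¹ ∈ R ⊓ Subgroup.centralizer (Q : Set G) :=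
      ⟨hXR hc, Subgroup.commutator_eq_bot_iff_le_centralizer.1 hC hc⟩
    obtain ⟨k, hk⟩ := hR ⟨_, hcC.1⟩
    have := coprime_step hx ⟨k, congrArg Subtype.val hk⟩ (r := r) (by group) (hxC _ hcC)
    rw [mul_inv_eq_one] at this
    exact mul_inv_eq_iff_eq_mul.1 this

end CfsgLib.Stabilizer
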