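import Mathlib
import Cfsg.Agent.Lib.CoprimeSeries

/-! Polynomial sequences with respect to the lower central series (Lazard, Leibman), and the
Hall–Petrescu congruence for the `p`-th power map in class less than `p`. -/

set_option autoImplicit false

namespace CfsgLib.PolySeq

open scoped commutatorElement

variable {G : Type*} [Group G]

/-- The lower central filtration, indexed so that the first two terms are the whole group. -/
def fil (G : Type*) [Group G] (i : ℕ) : Subgroup G := (⊤ : Subgroup G).lowerCentralSeries (i - 1)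

instance fil_normal (i : ℕ) : (fil G i).Normal := by
  unfold fil
  infer_instance

theorem fil_antitone {i j : ℕ} (h : i ≤ j) : fil G j ≤ fil G i :=
  Subgroup.lowerCentralSeries_antitone _ (Nat.sub_le_sub_right h 1)

theorem lcs_commutator_le (n : ℕ) : ∀ m, ⁅(⊤ : Subgroup G).lowerCentralSeries m, (⊤ : Subgroup G).lowerCentralSeries n⁆ ≤
    (⊤ : Subgroup G).lowerCentralSeries (m + n + 1) := by
  induction n with
  | zero => intro m; rw [Subgroup.lowerCentralSeries_zero, ← CfsgLib.Stabilizer.lowerCentralSeries_succ']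
  | succ n ih =>
    intro m
    have hN : ∀ (X : Subgroup G) (k : ℕ),
        X ≤ Subgroup.normalizer (((⊤ : Subgroup G).lowerCentralSeries k : Subgroup G) : Set G) := fun X k =>
      le_top.trans (Subgroup.self_le_normalizer_lowerCentralSeries _ k)
    rw [Subgroup.commutator_comm, CfsgLib.Stabilizer.lowerCentralSeries_succ' _ n]
    refine CfsgLib.Stabilizer.commutator_commutator_le_of_rotate (hN _ _) (hN _ _) (hN _ _) ?_ ?_
    · rw [Subgroup.commutator_comm ⊤, ← CfsgLib.Stabilizer.lowerCentralSeries_succ']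
      exact (ih (m + 1)).trans (Subgroup.lowerCentralSeries_antitone _ (by omega))
    · refine (Subgroup.commutator_mono (ih m) le_rfl).trans ?_
      rw [← CfsgLib.Stabilizer.lowerCentralSeries_succ']
      exact Subgroup.lowerCentralSeries_antitone _ (by omega)

theorem fil_commutator_mem {i j : ℕ} {x y : G} (hx : x ∈ fil G i) (hy : y ∈ fil G j) : ⁅x, y⁆ ∈ fil G (i + j) := by
  rcases Nat.eq_zero_or_pos i with rfl | hi
  · rw [Nat.zero_add]
    exact Subgroup.commutator_le_right ⊤ (fil G j) (Subgroup.commutator_mem_commutator (Subgroup.mem_top x) hy)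
  rcases Nat.eq_zero_or_pos j with rfl | hj
  · rw [Nat.add_zero]
    exact Subgroup.commutator_le_left (fil G i) ⊤ (Subgroup.commutator_mem_commutator hx (Subgroup.mem_top y))
  have h := lcs_commutator_le (j - 1) (i - 1) (Subgroup.commutator_mem_commutator hx hy)
  rwa [show i - 1 + (j - 1) + 1 = i + j - 1 by omega] at h

/-- The difference operator. -/
def dlt (g : ℕ → G) : ℕ → G := fun n => (g n)⁻¹ * g (n + 1)

/-- Sequences of degree shifted by `i`. -/
def IsPoly (i : ℕ) (g : ℕ → G) : Prop := ∀ k n, (dlt^[k] g) n ∈ fil G (i + k)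

theorem isPoly_iff {i : ℕ} {g : ℕ → G} : IsPoly i g ↔ (∀ n, g n ∈ fil G i) ∧ IsPoly (i + 1) (dlt g) := by
  constructor
  · intro h
    refine ⟨fun n => h 0 n, fun k n => ?_⟩
    have := h (k + 1) n
    rwa [Function.iterate_succ_apply, show i + (k + 1) = i + 1 + k by omega] at this
  · rintro ⟨h0, h1⟩ k n
    rcases k with _ | k
    · exact h0 n
    · rw [Function.iterate_succ_apply, show i + (k + 1) = i + 1 + k by omega]
      exact h1 k n

theorem IsPoly.val {i : ℕ} {g : ℕ → G} (h : IsPoly i g) (n : ℕ) : g n ∈ fil G i := h 0 n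

theorem IsPoly.dlt {i : ℕ} {g : ℕ → G} (h : IsPoly i g) : IsPoly (i + 1) (CfsgLib.PolySeq.dlt g) := (isPoly_iff.mp h).2

theorem IsPoly.mono {i j : ℕ} {g : ℕ → G} (h : IsPoly j g) (hij : i ≤ j) : IsPoly i g := fun k n =>
  fil_antitone (by omega) (h k n)

theorem isPoly_one (i : ℕ) : IsPoly i (1 : ℕ → G) := by
  intro k
  have : (CfsgLib.PolySeq.dlt^[k] (1 : ℕ → G)) = 1 := by
    induction k with
    | zero => rfl
    | succ k ih =>
      rw [Function.iterate_succ_apply', ih]
      funext n
      simp [CfsgLib.PolySeq.dlt]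
  intro n
  rw [this]
  exact one_mem _

theorem dlt_const (c : G) : dlt (fun _ => c) = (1 : ℕ → G) := by
  funext n
  simp [dlt]

theorem isPoly_const {i : ℕ} {c : G} (hc : c ∈ fil G i) : IsPoly i (fun _ => c) :=
  isPoly_iff.mpr ⟨fun _ => hc, by rw [dlt_const]; exact isPoly_one _⟩

theorem isPoly_pow (c : G) : IsPoly 0 (fun n => c ^ n) := by
  have h : dlt (fun n => c ^ n) = fun _ => c := by
    funext n
    simp [dlt, pow_succ]
  refine isPoly_iff.mpr ⟨fun n => ?_, ?_⟩
  · exact Subgroup.mem_top _
  · rw [h]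
    exact isPoly_const (Subgroup.mem_top c)

/-- Closure under products, inverses and commutators. -/
structure Closed (G : Type*) [Group G] (s : ℕ) : Prop where
  mul : ∀ g h : ℕ → G, IsPoly s g → IsPoly s h → IsPoly s (g * h)
  inv : ∀ g : ℕ → G, IsPoly s g → IsPoly s g⁻¹
  comm : ∀ i j, i + j = s → ∀ g h : ℕ → G, IsPoly i g → IsPoly j h → IsPoly s ⁅g, h⁆

theorem conj_mem_of_closed {t j : ℕ} (ht : Closed G t) (hjt : Closed G (j + t)) {g X : ℕ → G}
    (hg : IsPoly j g) (hX : IsPoly t X) : IsPoly t (g * X * g⁻¹) := by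
  have h := ht.mul _ X ((hjt.comm j t rfl g X hg hX).mono (Nat.le_add_left _ _)) hX
  rwa [show ⁅g, X⁆ * X = g * X * g⁻¹ by rw [commutatorElement_def]; group] at h

theorem closed_step [Finite G] {s : ℕ} (H : ∀ t, s < t → Closed G t) : Closed G s := by
  have hconj : ∀ t j, s < t → ∀ g X : ℕ → G, IsPoly j g → IsPoly t X → IsPoly t (g * X * g⁻¹) :=
    fun t j ht g X hg hX => conj_mem_of_closed (H t ht) (H (j + t) (by omega)) hg hX
  -- conjugation by inverses, the group being finite
  have hconj' : ∀ t j, s < t → ∀ g X : ℕ → G, IsPoly j g → IsPoly t X → IsPoly t (g⁻¹ * X * g) := by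
    intro t j ht g X hg hX
    have hk : ∀ k : ℕ, IsPoly t (g ^ k * X * (g ^ k)⁻¹) := by
      intro k
      induction k with
      | zero => simpa using hX
      | succ k ih =>
        have := hconj t j ht g _ hg ih
        rwa [show g * (g ^ k * X * (g ^ k)⁻¹) * g⁻¹ = g ^ (k + 1) * X * (g ^ (k + 1))⁻¹ by
          rw [pow_succ']; group] at this
    have hN : g ^ (Nat.card G - 1) = g⁻¹ := by
      refine eq_inv_of_mul_eq_one_left ?_
      rw [← pow_succ, Nat.sub_add_cancel Nat.card_pos]
      funext n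
      rw [Pi.pow_apply, pow_card_eq_one', Pi.one_apply]
    simpa [hN] using hk (Nat.card G - 1)
  have hinv : ∀ g : ℕ → G, IsPoly s g → IsPoly s g⁻¹ := by
    intro g hg
    refine isPoly_iff.mpr ⟨fun n => inv_mem (hg.val n), ?_⟩
    have h := hconj (s + 1) s (by omega) g (CfsgLib.PolySeq.dlt g)⁻¹ hg ((H (s + 1) (by omega)).inv _ hg.dlt)
    convert h using 1
    funext n
    simp only [CfsgLib.PolySeq.dlt, Pi.inv_apply, Pi.mul_apply]
    group
  refine ⟨fun g h hg hh => ?_, hinv, ?_⟩
  · refine isPoly_iff.mpr ⟨fun n => mul_mem (hg.val n) (hh.val n), ?_⟩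
    have h1 := hconj' (s + 1) s (by omega) h _ hh hg.dlt
    have h2 := (H (s + 1) (by omega)).mul _ _ h1 hh.dlt
    convert h2 using 1
    funext n
    simp only [CfsgLib.PolySeq.dlt, Pi.inv_apply, Pi.mul_apply]
    group
  · intro i j hij g h hg hh
    refine isPoly_iff.mpr ⟨fun n => hij ▸ fil_commutator_mem (hg.val n) (hh.val n), ?_⟩
    have hs1 := H (s + 1) (by omega)
    have e1 : IsPoly (s + 1) ⁅dlt g, h⁆ := hs1.comm (i + 1) j (by omega) _ _ hg.dlt hh
    have e2 : IsPoly (s + 1) ⁅g, dlt h⁆ := hs1.comm i (j + 1) (by omega) _ _ hg hh.dlt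
    have e3 : IsPoly (s + 2) ⁅dlt g, dlt h⁆ :=
      (H (s + 2) (by omega)).comm (i + 1) (j + 1) (by omega) _ _ hg.dlt hh.dlt
    have e4 : IsPoly (s + 1) (h * ⁅g, dlt h⁆ * h⁻¹) := hconj (s + 1) j (by omega) h _ hh e2
    have e5 : IsPoly (s + 1) (h * ⁅dlt g, dlt h⁆ * h⁻¹) :=
      (hconj (s + 2) j (by omega) h _ hh e3).mono (by omega)
    have e6 := hconj (s + 1) i (by omega) g _ hg (hs1.mul _ _ e1 e5)
    have e7 := hconj (s + 1) j (by omega) h _ hh
      (hconj (s + 1) i (by omega) g _ hg
        (hconj' (s + 1) j (by omega) h _ hh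
          (hconj' (s + 1) i (by omega) g _ hg e6)))
    have hfin := hs1.mul _ _ e7 e4
    convert hfin using 1
    funext n
    simp only [dlt, Pi.inv_apply, Pi.mul_apply, commutatorElement_def]
    group

theorem closed_all [Finite G] {c : ℕ} (hc : fil G c = ⊥) (s : ℕ) : Closed G s := by
  have hbase : ∀ t, c ≤ t → Closed G t := by
    intro t ht
    have htriv : ∀ g : ℕ → G, IsPoly t g → g = 1 := fun g hg => funext fun n =>
      Subgroup.mem_bot.mp (hc ▸ fil_antitone ht (hg.val n))
    refine ⟨fun g h hg hh => ?_, fun g hg => ?_, fun i j hij g h hg hh => ?_⟩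
    · rw [htriv g hg, htriv h hh, mul_one]; exact isPoly_one t
    · rw [htriv g hg, inv_one]; exact isPoly_one t
    · have h1 : ⁅g, h⁆ = 1 := funext fun n => by
        have h2 := fil_commutator_mem (hg.val n) (hh.val n)
        rw [hij] at h2
        exact Subgroup.mem_bot.mp (hc ▸ fil_antitone ht h2)
      rw [h1]
      exact isPoly_one t
  suffices h : ∀ d t, c ≤ t + d → Closed G t from h c s (by omega)
  intro d
  induction d with
  | zero => exact fun t ht => hbase t (by omega)
  | succ d ih => exact fun t ht => closed_step fun u hu => ih u (by omega)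

/-- Binomial powers are polynomial. -/
theorem isPoly_choose {c : G} : ∀ (k i : ℕ), c ∈ fil G (i + k) → IsPoly i (fun n => c ^ n.choose k) := by
  intro k
  induction k with
  | zero =>
    intro i hc
    simpa using isPoly_const hc
  | succ k ih =>
    intro i hc
    refine isPoly_iff.mpr ⟨fun n => fil_antitone (Nat.le_add_right _ _) (pow_mem hc _), ?_⟩
    have h : dlt (fun n => c ^ n.choose (k + 1)) = fun n => c ^ n.choose k := by
      funext n
      simp only [dlt, Nat.choose_succ_succ, Nat.succ_eq_add_one]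
      rw [pow_add, (Commute.pow_pow_self c _ _).eq, inv_mul_cancel_left]
    rw [h]
    exact ih (i + 1) (by rwa [show i + 1 + k = i + (k + 1) by omega])

theorem dlt_iterate_of_vanish {g : ℕ → G} {m : ℕ} (hg : ∀ n < m, g n = 1) :
    ∀ k, (∀ n, n + k < m → (dlt^[k] g) n = 1) ∧ (k ≤ m → (dlt^[k] g) (m - k) = g m) := by
  intro k
  induction k with
  | zero => exact ⟨fun n hn => hg n hn, fun _ => rfl⟩
  | succ k ih =>
    refine ⟨fun n hn => ?_, fun hk => ?_⟩
    · rw [Function.iterate_succ_apply']
      simp [dlt, ih.1 n (by omega), ih.1 (n + 1) (by omega)]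
    · rw [Function.iterate_succ_apply']
      simp only [dlt]
      rw [ih.1 (m - (k + 1)) (by omega), show m - (k + 1) + 1 = m - k by omega, ih.2 (by omega), inv_one, one_mul]

/-- The value at `p` of a polynomial sequence vanishing at `0` and `1` is a product of `p`-th powers
from the derived subgroup, in class less than `p`. -/
theorem eval_prime_mem [Finite G] {p : ℕ} [hp : Fact p.Prime] (hc : fil G p = ⊥) {g : ℕ → G} (hg : IsPoly 0 g)
    (h0 : g 0 = 1) (h1 : g 1 = 1) : g p ∈ Subgroup.closure {y : G | ∃ x ∈ commutator G, y = x ^ p} := by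
  suffices h : ∀ d m, 2 ≤ m → p ≤ m + d → m ≤ p → ∀ g : ℕ → G, IsPoly 0 g → (∀ n < m, g n = 1) →
      g p ∈ Subgroup.closure {y : G | ∃ x ∈ commutator G, y = x ^ p} by
    refine h p 2 le_rfl (by omega) hp.out.two_le g hg fun n hn => ?_
    interval_cases n <;> assumption
  intro d
  induction d with
  | zero =>
    intro m hm h2 h3 g hg hvan
    obtain rfl : m = p := by omega
    have h := hg m 0
    rw [Nat.zero_add] at h
    have e := (dlt_iterate_of_vanish hvan m).2 le_rfl
    rw [Nat.sub_self] at e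
    rw [e, hc, Subgroup.mem_bot] at h
    rw [h]
    exact one_mem _
  | succ d ih =>
    intro m hm h2 h3 g hg hvan
    rcases eq_or_lt_of_le h3 with rfl | hlt
    · have h := hg m 0
      rw [Nat.zero_add] at h
      have e := (dlt_iterate_of_vanish hvan m).2 le_rfl
      rw [Nat.sub_self] at e
      rw [e, hc, Subgroup.mem_bot] at h
      rw [h]
      exact one_mem _
    have hcm : g m ∈ fil G m := by
      have h := hg m 0
      have e := (dlt_iterate_of_vanish hvan m).2 le_rfl
      rw [Nat.sub_self] at e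
      rwa [Nat.zero_add, e] at h
    have hcl := closed_all hc 0
    have hch : IsPoly 0 (fun n => g m ^ n.choose m) := isPoly_choose m 0 (by rwa [Nat.zero_add])
    have hg' := hcl.mul _ _ (hcl.inv _ hch) hg
    have := ih (m + 1) (by omega) (by omega) hlt _ hg' (fun n hn => by
      simp only [Pi.mul_apply, Pi.inv_apply]
      rcases Nat.lt_or_ge n m with h | h
      · rw [Nat.choose_eq_zero_of_lt h, pow_zero, inv_one, one_mul, hvan n h]
      · rw [show n = m by omega, Nat.choose_self, pow_one, inv_mul_cancel])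
    simp only [Pi.mul_apply, Pi.inv_apply] at this
    have hmem : g m ^ p.choose m ∈ Subgroup.closure {y : G | ∃ x ∈ commutator G, y = x ^ p} := by
      obtain ⟨q, hq⟩ := hp.out.dvd_choose_self (by omega : m ≠ 0) hlt
      rw [hq, Nat.mul_comm, pow_mul]
      refine Subgroup.subset_closure ⟨_, pow_mem ?_ q, rfl⟩
      have h2' : g m ∈ fil G 2 := fil_antitone hm hcm
      exact h2'
    simpa using mul_mem hmem this

/-- Hall–Petrescu congruence in class less than `p`. -/
theorem mul_pow_prime [Finite G] {p : ℕ} [hp : Fact p.Prime] (hc : (⊤ : Subgroup G).lowerCentralSeries (p - 1) = ⊥)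
    (a b : G) : ∃ c ∈ Subgroup.closure {y : G | ∃ x ∈ commutator G, y = x ^ p}, (a * b) ^ p = a ^ p * b ^ p * c := by
  have hcl := closed_all (G := G) (c := p) hc 0
  refine ⟨_, eval_prime_mem (p := p) hc
    (hcl.mul _ _ (hcl.mul _ _ (hcl.inv _ (isPoly_pow b)) (hcl.inv _ (isPoly_pow a))) (isPoly_pow (a * b)))
    (by simp) (by simp [mul_assoc]), ?_⟩
  simp only [Pi.mul_apply, Pi.inv_apply]
  group

end CfsgLib.PolySeq
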