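import Mathlib
import Cfsg.Prelude.Def_PLocal
import Cfsg.Agent.Lib.Elementary
import Cfsg.Agent.Lib.PolynomialSequence

/-! Regular `p`-groups: P. Hall's theory, developed from the condition on `p`-th powers. -/

set_option autoImplicit false

namespace CfsgLib.Regular

open scoped commutatorElement

universe u

variable {G : Type u} [Group G] {p : ℕ}

/-- The derived subgroup of the subgroup generated by two elements. -/
def pairComm (a b : G) : Subgroup G :=
  ⁅Subgroup.closure ({a, b} : Set G), Subgroup.closure ({a, b} : Set G)⁆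

/-- The first power condition. -/
def R1 (p : ℕ) (G : Type u) [Group G] : Prop :=
  IsPGroup p G ∧ ∀ a b : G, ∃ c ∈ Cfsg.powerClosure p 1 (pairComm a b), (a * b) ^ p = a ^ p * b ^ p * c

theorem r1_of_regular (h : Cfsg.IsRegularPGroup p G) : R1 p G :=
  ⟨h.1, fun a b => by
    obtain ⟨c, hc, he⟩ := h.2 a b 1
    rw [pow_one] at he
    exact ⟨c, hc, he⟩⟩

theorem map_powerClosure {K : Type*} [Group K] (f : G →* K) (n : ℕ) (H : Subgroup G) :
    (Cfsg.powerClosure p n H).map f = Cfsg.powerClosure p n (H.map f) := by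
  rw [Cfsg.powerClosure, Cfsg.powerClosure, MonoidHom.map_closure]
  congr 1
  ext y
  constructor
  · rintro ⟨_, ⟨x, hx, rfl⟩, rfl⟩
    exact ⟨f x, ⟨x, hx, rfl⟩, map_pow f x _⟩
  · rintro ⟨_, ⟨x, hx, rfl⟩, rfl⟩
    exact ⟨x ^ p ^ n, ⟨x, hx, rfl⟩, map_pow f x _⟩

theorem map_pairComm {K : Type*} [Group K] (f : G →* K) (a b : G) :
    (pairComm a b).map f = pairComm (f a) (f b) := by
  rw [pairComm, pairComm, Subgroup.map_commutator, MonoidHom.map_closure, Set.image_insert_eq, Set.image_singleton]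

theorem pairComm_le_commutator (a b : G) : pairComm a b ≤ commutator G :=
  Subgroup.commutator_mono le_top le_top

theorem pairComm_le_of_normal {N : Subgroup G} [N.Normal] {a b : G} (h : ⁅a, b⁆ ∈ N) : pairComm a b ≤ N := by
  intro x hx
  have h1 : (x : G ⧸ N) ∈ pairComm (a : G ⧸ N) (b : G ⧸ N) := by
    rw [← QuotientGroup.mk'_apply (N := N) a, ← QuotientGroup.mk'_apply (N := N) b, ← map_pairComm]
    exact ⟨x, hx, rfl⟩
  have hab : Commute (a : G ⧸ N) (b : G ⧸ N) := by
    have h2 : ((⁅a, b⁆ : G) : G ⧸ N) = 1 := (QuotientGroup.eq_one_iff _).mpr h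
    rw [← QuotientGroup.mk'_apply, map_commutatorElement, commutatorElement_eq_one_iff_mul_comm] at h2
    exact h2
  have h3 : pairComm (a : G ⧸ N) (b : G ⧸ N) = ⊥ := by
    rw [pairComm, Subgroup.commutator_eq_bot_iff_le_centralizer, Subgroup.le_centralizer_iff_isMulCommutative]
    refine Subgroup.isMulCommutative_closure ?_
    rintro u (rfl | rfl) v (rfl | rfl)
    · rfl
    · exact hab.eq
    · exact hab.eq.symm
    · rfl
  rw [h3, Subgroup.mem_bot] at h1
  exact (QuotientGroup.eq_one_iff x).mp h1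

theorem R1.subgroup (h : R1 p G) (S : Subgroup G) : R1 p S := by
  refine ⟨h.1.to_subgroup S, fun a b => ?_⟩
  obtain ⟨c, hc, he⟩ := h.2 (a : G) (b : G)
  have hmap : Cfsg.powerClosure p 1 (pairComm (a : G) (b : G)) = (Cfsg.powerClosure p 1 (pairComm a b)).map S.subtype := by
    rw [map_powerClosure, map_pairComm]
    rfl
  rw [hmap] at hc
  obtain ⟨d, hd, rfl⟩ := hc
  exact ⟨d, hd, Subtype.ext he⟩

theorem R1.quotient (h : R1 p G) (N : Subgroup G) [N.Normal] : R1 p (G ⧸ N) := by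
  refine ⟨h.1.to_quotient N, fun a b => ?_⟩
  obtain ⟨x, rfl⟩ := QuotientGroup.mk'_surjective N a
  obtain ⟨y, rfl⟩ := QuotientGroup.mk'_surjective N b
  obtain ⟨c, hc, he⟩ := h.2 x y
  refine ⟨QuotientGroup.mk' N c, ?_, by simp only [← map_mul, ← map_pow, he]⟩
  rw [← map_pairComm, ← map_powerClosure]
  exact ⟨c, hc, rfl⟩

theorem eq_top_of_sup_commutator [Finite G] [Fact p.Prime] (hG : IsPGroup p G) {K : Subgroup G}
    (h : K ⊔ commutator G = ⊤) : K = ⊤ :=
  frattini_nongenerating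
    (eq_top_iff.mpr (h.ge.trans (sup_le_sup_left (CfsgLib.commutator_le_frattini_pGroup hG) K)))

theorem zpowers_sup_commutator_ne_top [Finite G] [Fact p.Prime] (hG : IsPGroup p G) {a b : G}
    (hne : a * b ≠ b * a) (x : G) : Subgroup.zpowers x ⊔ commutator G ≠ ⊤ := by
  intro h
  have h1 := eq_top_of_sup_commutator hG h
  have : IsCyclic G := ⟨⟨x, fun g => h1.ge (Subgroup.mem_top g)⟩⟩
  exact hne (IsMulCommutative.is_comm.comm a b)

theorem commutator_ne_top [Finite G] [Fact p.Prime] (hG : IsPGroup p G) {a b : G} (hne : a * b ≠ b * a) :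
    commutator G ≠ ⊤ := fun h => zpowers_sup_commutator_ne_top hG hne 1 (eq_top_iff.mpr (h.ge.trans le_sup_right))

theorem exists_powerClosure_one_eq_bot (hexp : ∀ x ∈ commutator G, x ^ p = 1) {a b c : G}
    (hc : c ∈ Cfsg.powerClosure p 1 (pairComm a b)) : c = 1 := by
  have : Cfsg.powerClosure p 1 (pairComm a b) ≤ ⊥ := by
    rw [Cfsg.powerClosure, Subgroup.closure_le]
    rintro _ ⟨x, hx, rfl⟩
    rw [pow_one]
    exact hexp x (pairComm_le_commutator a b hx)
  exact Subgroup.mem_bot.mp (this hc)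

theorem mul_pow_of_exponent (h : R1 p G) (hexp : ∀ x ∈ commutator G, x ^ p = 1) (x y : G) :
    (x * y) ^ p = x ^ p * y ^ p := by
  obtain ⟨c, hc, he⟩ := h.2 x y
  rw [he, exists_powerClosure_one_eq_bot hexp hc, mul_one]

/-- Equal `p`-th powers. -/
theorem R1.pow_prime_eq_iff [hp : Fact p.Prime] : ∀ {G : Type u} [Group G] [Finite G], R1 p G → ∀ a b : G,
    (a ^ p = b ^ p ↔ (a * b⁻¹) ^ p = 1) := by
  suffices h : ∀ (n : ℕ) {G : Type u} [Group G] [Finite G], Nat.card G ≤ n → R1 p G → ∀ a b : G,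
      (a ^ p = b ^ p ↔ (a * b⁻¹) ^ p = 1) from fun {G} _ _ hG => h (Nat.card G) le_rfl hG
  intro n
  induction n with
  | zero => intro G _ _ h; exact absurd h (by simp [Nat.card_pos.ne'])
  | succ n ih =>
  intro G _ _ hcard hG a b
  -- the statement in proper subgroups
  have hsub : ∀ S : Subgroup G, S ≠ ⊤ → ∀ x ∈ S, ∀ y ∈ S, (x ^ p = y ^ p ↔ (x * y⁻¹) ^ p = 1) := by
    intro S hS x hx y hy
    have hlt : Nat.card S < Nat.card G :=
      lt_of_le_of_ne (Subgroup.card_le_card_group S) fun e => hS (Subgroup.eq_top_of_card_eq S e)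
    have := ih (G := S) (by omega) (hG.subgroup S) ⟨x, hx⟩ ⟨y, hy⟩
    simpa [Subtype.ext_iff] using this
  by_cases hgen : Subgroup.closure ({a, b} : Set G) = ⊤
  swap
  · exact hsub _ hgen a (Subgroup.subset_closure (by simp)) b (Subgroup.subset_closure (by simp))
  by_cases hab : a * b = b * a
  · have hc : Commute a b⁻¹ := Commute.inv_right hab
    rw [hc.mul_pow, inv_pow, mul_inv_eq_one]
  have hDne := commutator_ne_top hG.1 hab
  -- exponent of the derived subgroup from one commutator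
  have hcollapse : ⁅a, b⁆ ^ p = 1 → ∀ x ∈ commutator G, x ^ p = 1 := by
    intro hab1
    let N : Subgroup G :=
      { carrier := {x | x ∈ commutator G ∧ x ^ p = 1}
        one_mem' := ⟨one_mem _, one_pow p⟩
        mul_mem' := fun {x y} hx hy => ⟨mul_mem hx.1 hy.1, by
          have := (hsub _ hDne x hx.1 y⁻¹ (inv_mem hy.1)).mp (by rw [inv_pow, hx.2, hy.2, inv_one])
          rwa [inv_inv] at this⟩
        inv_mem' := fun {x} hx => ⟨inv_mem hx.1, by rw [inv_pow, hx.2, inv_one]⟩ }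
    have : N.Normal := ⟨fun x hx g => ⟨Subgroup.Normal.conj_mem inferInstance x hx.1 g, by
      rw [conj_pow, hx.2, mul_one, mul_inv_cancel]⟩⟩
    have hle : pairComm a b ≤ N := pairComm_le_of_normal
      ⟨Subgroup.commutator_mem_commutator (Subgroup.mem_top a) (Subgroup.mem_top b), hab1⟩
    intro x hx
    refine (hle ?_).2
    rw [pairComm, hgen]
    exact hx
  have hcomm : ∀ g x : G, g * x * g⁻¹ ∈ Subgroup.zpowers x ⊔ commutator G := fun g x => by
    rw [show g * x * g⁻¹ = ⁅g, x⁆ * x by rw [commutatorElement_def]; group]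
    exact mul_mem (Subgroup.mem_sup_right (Subgroup.commutator_mem_commutator (Subgroup.mem_top g) (Subgroup.mem_top x)))
      (Subgroup.mem_sup_left (Subgroup.mem_zpowers x))
  constructor
  · intro he
    have h1 : a ^ p = (b * a * b⁻¹) ^ p := by
      rw [conj_pow, he, ← pow_succ', pow_succ, mul_inv_cancel_right]
    have h2 := (hsub _ (zpowers_sup_commutator_ne_top hG.1 hab a) a (Subgroup.mem_sup_left (Subgroup.mem_zpowers a))
      _ (hcomm b a)).mp h1
    have hexp := hcollapse (by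
      rwa [show a * (b * a * b⁻¹)⁻¹ = ⁅a, b⁆ by rw [commutatorElement_def]; group] at h2)
    rw [mul_pow_of_exponent hG hexp, inv_pow, he, mul_inv_cancel]
  · intro he
    set x := a * b⁻¹ with hx
    have h1 : x ^ p = (b * x * b⁻¹) ^ p := by rw [conj_pow, he, mul_one, mul_inv_cancel]
    have h2 := (hsub _ (zpowers_sup_commutator_ne_top hG.1 hab x) x (Subgroup.mem_sup_left (Subgroup.mem_zpowers x))
      _ (hcomm b x)).mp h1
    have hexp := hcollapse (by
      rwa [show x * (b * x * b⁻¹)⁻¹ = ⁅a, b⁆ by rw [hx, commutatorElement_def]; group] at h2)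
    calc a ^ p = (x * b) ^ p := by rw [hx, inv_mul_cancel_right]
      _ = b ^ p := by rw [mul_pow_of_exponent hG hexp, he, one_mul]

/-- Products of `p`-th powers are `p`-th powers. -/
theorem R1.exists_pow_eq_mul [hp : Fact p.Prime] : ∀ {G : Type u} [Group G] [Finite G], R1 p G → ∀ a b : G,
    ∃ e : G, e ^ p = a ^ p * b ^ p := by
  suffices h : ∀ (n : ℕ) {G : Type u} [Group G] [Finite G], Nat.card G ≤ n → R1 p G → ∀ a b : G,
      ∃ e : G, e ^ p = a ^ p * b ^ p from fun {G} _ _ hG => h (Nat.card G) le_rfl hG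
  intro n
  induction n with
  | zero => intro G _ _ h; exact absurd h (by simp [Nat.card_pos.ne'])
  | succ n ih =>
  intro G _ _ hcard hG a b
  have hsub : ∀ S : Subgroup G, S ≠ ⊤ → ∀ x ∈ S, ∀ y ∈ S, ∃ e ∈ S, e ^ p = x ^ p * y ^ p := by
    intro S hS x hx y hy
    have hlt : Nat.card S < Nat.card G :=
      lt_of_le_of_ne (Subgroup.card_le_card_group S) fun e => hS (Subgroup.eq_top_of_card_eq S e)
    obtain ⟨e, he⟩ := ih (G := S) (by omega) (hG.subgroup S) ⟨x, hx⟩ ⟨y, hy⟩
    exact ⟨e, e.2, congrArg Subtype.val he⟩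
  by_cases hab : a * b = b * a
  · exact ⟨a * b, Commute.mul_pow hab p⟩
  obtain ⟨c, hc, he⟩ := hG.2 a b
  have hD : ∀ y ∈ Cfsg.powerClosure p 1 (pairComm a b), ∃ d ∈ commutator G, y = d ^ p := by
    intro y hy
    induction hy using Subgroup.closure_induction with
    | mem z hz =>
      obtain ⟨x, hx, rfl⟩ := hz
      exact ⟨x, pairComm_le_commutator a b hx, by rw [pow_one]⟩
    | one => exact ⟨1, one_mem _, (one_pow p).symm⟩
    | mul z w _ _ h1 h2 =>
      obtain ⟨d, hd, rfl⟩ := h1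
      obtain ⟨d', hd', rfl⟩ := h2
      obtain ⟨e, he1, he2⟩ := hsub _ (commutator_ne_top hG.1 hab) d hd d' hd'
      exact ⟨e, he1, he2.symm⟩
    | inv z _ h1 =>
      obtain ⟨d, hd, rfl⟩ := h1
      exact ⟨d⁻¹, inv_mem hd, (inv_pow d p).symm⟩
  obtain ⟨d, hd, rfl⟩ := hD c hc
  obtain ⟨e, -, he'⟩ := hsub _ (zpowers_sup_commutator_ne_top hG.1 hab (a * b)) (a * b)
    (Subgroup.mem_sup_left (Subgroup.mem_zpowers _)) d⁻¹ (Subgroup.mem_sup_right (inv_mem hd))
  exact ⟨e, by rw [he', he, inv_pow, mul_inv_cancel_right]⟩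

/-- The elements of order dividing `p`. -/
def omegaSub [Finite G] [Fact p.Prime] (hG : R1 p G) (K : Subgroup G) : Subgroup G where
  carrier := {x | x ∈ K ∧ x ^ p = 1}
  one_mem' := ⟨one_mem _, one_pow p⟩
  mul_mem' {x y} hx hy := ⟨mul_mem hx.1 hy.1, by
    have := (hG.pow_prime_eq_iff x y⁻¹).mp (by rw [inv_pow, hx.2, hy.2, inv_one])
    rwa [inv_inv] at this⟩
  inv_mem' {x} hx := ⟨inv_mem hx.1, by rw [inv_pow, hx.2, inv_one]⟩

theorem mem_omegaSub [Finite G] [Fact p.Prime] {hG : R1 p G} {K : Subgroup G} {x : G} :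
    x ∈ omegaSub hG K ↔ x ∈ K ∧ x ^ p = 1 := Iff.rfl

theorem omegaSub_normal [Finite G] [Fact p.Prime] (hG : R1 p G) (K : Subgroup G) [hK : K.Normal] :
    (omegaSub hG K).Normal :=
  ⟨fun x hx g => ⟨hK.conj_mem x hx.1 g, by rw [conj_pow, hx.2, mul_one, mul_inv_cancel]⟩⟩

/-- Equal `p ^ n`-th powers. -/
theorem R1.pow_eq_iff [Fact p.Prime] (n : ℕ) : ∀ {G : Type u} [Group G] [Finite G], R1 p G → ∀ a b : G,
    (a ^ p ^ n = b ^ p ^ n ↔ (a * b⁻¹) ^ p ^ n = 1) := by
  induction n with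
  | zero => intro G _ _ _ a b; simp [mul_inv_eq_one]
  | succ n ih =>
    intro G _ _ hG a b
    have := omegaSub_normal hG (⊤ : Subgroup G)
    set N := omegaSub hG (⊤ : Subgroup G)
    have hmem : ∀ z : G, z ^ p = 1 ↔ (z : G ⧸ N) = 1 := fun z => by
      rw [QuotientGroup.eq_one_iff, mem_omegaSub]
      exact ⟨fun h => ⟨Subgroup.mem_top z, h⟩, fun h => h.2⟩
    rw [pow_succ, pow_mul, pow_mul, pow_mul, hG.pow_prime_eq_iff, hmem, hmem, QuotientGroup.mk_mul,
      QuotientGroup.mk_inv, mul_inv_eq_one, QuotientGroup.mk_pow, QuotientGroup.mk_pow, QuotientGroup.mk_pow,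
      ih (hG.quotient N), QuotientGroup.mk_mul, QuotientGroup.mk_inv]

theorem R1.commute_pow_iff [Finite G] [Fact p.Prime] (hG : R1 p G) (a b : G) (n : ℕ) :
    a ^ p ^ n * b = b * a ^ p ^ n ↔ ⁅a, b⁆ ^ p ^ n = 1 := by
  have h := hG.pow_eq_iff n a (b * a * b⁻¹)
  rw [conj_pow] at h
  rw [show ⁅a, b⁆ = a * (b * a * b⁻¹)⁻¹ by rw [commutatorElement_def]; group, ← h, eq_mul_inv_iff_mul_eq]

theorem R1.mul_pow_of_exponent_pow [Fact p.Prime] (n : ℕ) : ∀ {G : Type u} [Group G] [Finite G], R1 p G →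
    (∀ x ∈ commutator G, x ^ p ^ n = 1) → ∀ a b : G, (a * b) ^ p ^ n = a ^ p ^ n * b ^ p ^ n := by
  induction n with
  | zero => intro G _ _ _ _ a b; simp
  | succ n ih =>
    intro G _ _ hG hexp a b
    have := omegaSub_normal hG (commutator G)
    set N := omegaSub hG (commutator G)
    have hq := ih (hG.quotient N) (fun x hx => by
      have hx' : x ∈ (commutator G).map (QuotientGroup.mk' N) := by
        rw [commutator_def, Subgroup.map_commutator,
          Subgroup.map_top_of_surjective _ (QuotientGroup.mk'_surjective N)]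
        exact hx
      obtain ⟨y, hy, rfl⟩ := hx'
      rw [← map_pow]
      refine (QuotientGroup.eq_one_iff _).mpr ⟨pow_mem hy _, ?_⟩
      rw [← pow_mul, ← pow_succ]
      exact hexp y hy) (a : G ⧸ N) (b : G ⧸ N)
    rw [← QuotientGroup.mk_mul, ← QuotientGroup.mk_pow, ← QuotientGroup.mk_pow, ← QuotientGroup.mk_pow,
      ← QuotientGroup.mk_mul] at hq
    have he : (a ^ p ^ n * b ^ p ^ n)⁻¹ * (a * b) ^ p ^ n ∈ N := QuotientGroup.eq.mp hq.symm
    set e := (a ^ p ^ n * b ^ p ^ n)⁻¹ * (a * b) ^ p ^ n with hedef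
    have hN : ∀ u v : G, ⁅u, v⁆ ∈ N → (u * v) ^ p = u ^ p * v ^ p := by
      intro u v huv
      obtain ⟨c, hc, hce⟩ := hG.2 u v
      have hle : Cfsg.powerClosure p 1 (pairComm u v) ≤ ⊥ := by
        rw [Cfsg.powerClosure, Subgroup.closure_le]
        rintro _ ⟨x, hx, rfl⟩
        rw [pow_one]
        exact (pairComm_le_of_normal huv hx).2
      rw [hce, Subgroup.mem_bot.mp (hle hc), mul_one]
    have hue : ⁅a ^ p ^ n * b ^ p ^ n, e⁆ ∈ N :=
      Subgroup.commutator_le_right ⊤ N (Subgroup.commutator_mem_commutator (Subgroup.mem_top _) he)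
    have huv : ⁅a ^ p ^ n, b ^ p ^ n⁆ ∈ N := by
      refine ⟨Subgroup.commutator_mem_commutator (Subgroup.mem_top _) (Subgroup.mem_top _), ?_⟩
      have h1 : Commute (a ^ p ^ (n + 1)) b :=
        (hG.commute_pow_iff a b (n + 1)).mpr
          (hexp _ (Subgroup.commutator_mem_commutator (Subgroup.mem_top a) (Subgroup.mem_top b)))
      have h2 := (h1.pow_right (p ^ n)).eq
      rw [pow_succ p n, pow_mul] at h2
      simpa using (hG.commute_pow_iff (a ^ p ^ n) (b ^ p ^ n) 1).mp (by simpa using h2)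
    calc (a * b) ^ p ^ (n + 1) = ((a ^ p ^ n * b ^ p ^ n) * e) ^ p := by
          rw [hedef, mul_inv_cancel_left, ← pow_mul, ← pow_succ]
      _ = (a ^ p ^ n) ^ p * (b ^ p ^ n) ^ p := by rw [hN _ _ hue, hN _ _ huv, he.2, mul_one]
      _ = _ := by rw [← pow_mul, ← pow_mul, ← pow_succ]

theorem powerClosure_normal (n : ℕ) (H : Subgroup G) [hH : H.Normal] : (Cfsg.powerClosure p n H).Normal := by
  refine ⟨fun x hx g => ?_⟩
  have : (Cfsg.powerClosure p n H).map (MulAut.conj g).toMonoidHom = Cfsg.powerClosure p n H := by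
    rw [map_powerClosure]
    congr 1
    exact Subgroup.Normal.map_conj_eq H g
  rw [← this]
  exact ⟨x, hx, rfl⟩

theorem commutator_quotient_le (N : Subgroup G) [N.Normal] :
    commutator (G ⧸ N) ≤ (commutator G).map (QuotientGroup.mk' N) := by
  rw [commutator_def, commutator_def, Subgroup.map_commutator,
    Subgroup.map_top_of_surjective _ (QuotientGroup.mk'_surjective _)]

/-- The exponent of the derived subgroup modulo its powers. -/
theorem pow_eq_one_of_commutator_quotient (n : ℕ) [Cfsg.powerClosure p n (commutator G) |>.Normal]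
    {x : G ⧸ Cfsg.powerClosure p n (commutator G)} (hx : x ∈ commutator (G ⧸ Cfsg.powerClosure p n (commutator G))) :
    x ^ p ^ n = 1 := by
  obtain ⟨y, hy, rfl⟩ := commutator_quotient_le _ hx
  rw [← map_pow]
  exact (QuotientGroup.eq_one_iff _).mpr (Subgroup.subset_closure ⟨y, hy, rfl⟩)

theorem R1.isRegular [Finite G] [Fact p.Prime] (hG : R1 p G) : Cfsg.IsRegularPGroup p G := by
  refine ⟨hG.1, fun a b n => ?_⟩
  set H := Subgroup.closure ({a, b} : Set G) with hH
  let a' : H := ⟨a, Subgroup.subset_closure (by simp)⟩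
  let b' : H := ⟨b, Subgroup.subset_closure (by simp)⟩
  have := powerClosure_normal (p := p) n (commutator H)
  have hq := ((hG.subgroup H).quotient (Cfsg.powerClosure p n (commutator H))).mul_pow_of_exponent_pow n
    (fun x hx => pow_eq_one_of_commutator_quotient n hx) (a' : H ⧸ _) (b' : H ⧸ _)
  rw [← QuotientGroup.mk_mul, ← QuotientGroup.mk_pow, ← QuotientGroup.mk_pow, ← QuotientGroup.mk_pow,
    ← QuotientGroup.mk_mul] at hq
  refine ⟨H.subtype ((a' ^ p ^ n * b' ^ p ^ n)⁻¹ * (a' * b') ^ p ^ n), ?_, ?_⟩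
  · have h1 : (Cfsg.powerClosure p n (commutator H)).map H.subtype = Cfsg.powerClosure p n ⁅H, H⁆ := by
      rw [map_powerClosure, commutator_def, Subgroup.map_commutator, ← MonoidHom.range_eq_map, Subgroup.range_subtype]
    rw [← h1]
    exact ⟨_, QuotientGroup.eq.mp hq.symm, rfl⟩
  · show _ = a ^ p ^ n * b ^ p ^ n * ((a ^ p ^ n * b ^ p ^ n)⁻¹ * (a * b) ^ p ^ n)
    rw [mul_inv_cancel_left]

theorem R1.exists_pow_eq_mul_pow [Fact p.Prime] (n : ℕ) : ∀ {G : Type u} [Group G] [Finite G], R1 p G → ∀ a b : G,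
    ∃ e : G, e ^ p ^ n = a ^ p ^ n * b ^ p ^ n := by
  induction n with
  | zero => intro G _ _ _ a b; exact ⟨a * b, by simp⟩
  | succ n ih =>
    intro G _ _ hG a b
    let K : Subgroup G :=
      { carrier := {y | ∃ x : G, x ^ p ^ n = y}
        one_mem' := ⟨1, one_pow _⟩
        mul_mem' := by
          rintro _ _ ⟨x, rfl⟩ ⟨y, rfl⟩
          exact ih hG x y
        inv_mem' := by
          rintro _ ⟨x, rfl⟩
          exact ⟨x⁻¹, inv_pow x _⟩ }
    obtain ⟨⟨y, x, rfl⟩, he⟩ := (hG.subgroup K).exists_pow_eq_mul ⟨a ^ p ^ n, a, rfl⟩ ⟨b ^ p ^ n, b, rfl⟩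
    refine ⟨x, ?_⟩
    have h1 : (x ^ p ^ n) ^ p = (a ^ p ^ n) ^ p * (b ^ p ^ n) ^ p := congrArg Subtype.val he
    simpa only [← pow_mul, ← pow_succ] using h1

theorem R1.powerClosure_eq [Finite G] [Fact p.Prime] (hG : R1 p G) (H : Subgroup G) (n : ℕ) :
    {y : G | ∃ x ∈ H, y = x ^ p ^ n} = (Cfsg.powerClosure p n H : Set G) := by
  refine subset_antisymm Subgroup.subset_closure fun y hy => ?_
  induction hy using Subgroup.closure_induction with
  | mem z hz => exact hz
  | one => exact ⟨1, one_mem _, (one_pow _).symm⟩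
  | mul z w _ _ h1 h2 =>
    obtain ⟨x, hx, rfl⟩ := h1
    obtain ⟨x', hx', rfl⟩ := h2
    obtain ⟨e, he⟩ := (hG.subgroup H).exists_pow_eq_mul_pow n ⟨x, hx⟩ ⟨x', hx'⟩
    exact ⟨e, e.2, (congrArg Subtype.val he).symm⟩
  | inv z _ h1 =>
    obtain ⟨x, hx, rfl⟩ := h1
    exact ⟨x⁻¹, inv_mem hx, (inv_pow x _).symm⟩

theorem r1_of_lowerCentralSeries [Finite G] [Fact p.Prime] (hG : IsPGroup p G)
    (hcl : (⊤ : Subgroup G).lowerCentralSeries (p - 1) = ⊥) : R1 p G := by
  refine ⟨hG, fun a b => ?_⟩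
  set H := Subgroup.closure ({a, b} : Set G) with hH
  have hclH : (⊤ : Subgroup H).lowerCentralSeries (p - 1) = ⊥ := by
    apply Subgroup.map_injective H.subtype_injective
    rw [Subgroup.top_subtype_lowerCentralSeries, Subgroup.map_bot, eq_bot_iff, ← hcl]
    exact Subgroup.lowerCentralSeries_mono _ le_top
  obtain ⟨c, hc, he⟩ := CfsgLib.PolySeq.mul_pow_prime hclH (⟨a, Subgroup.subset_closure (by simp)⟩ : H)
    ⟨b, Subgroup.subset_closure (by simp)⟩
  refine ⟨c, ?_, congrArg Subtype.val he⟩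
  have h1 : (Cfsg.powerClosure p 1 (commutator H)).map H.subtype = Cfsg.powerClosure p 1 (pairComm a b) := by
    rw [map_powerClosure, commutator_def, Subgroup.map_commutator, ← MonoidHom.range_eq_map, Subgroup.range_subtype]
    rfl
  rw [← h1]
  exact ⟨c, by rw [Cfsg.powerClosure, pow_one]; exact hc, rfl⟩

end CfsgLib.Regular
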