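import Mathlib
import Cfsg.Agent.S4143
import Cfsg.Agent.Lib.Elementary
import Cfsg.Agent.Lib.RegularPGroup
import Cfsg.Agent.Lib.TausskyTwo

/-! Groups of maximal class: the lower central series, and the shape of the `2`-groups. -/

set_option autoImplicit false

namespace CfsgLib.MaximalClass

open scoped commutatorElement
open Subgroup

universe u

variable {G : Type u} [Group G] [Finite G] {p : ℕ} [hp : Fact p.Prime]

theorem class_of_centralizer {n : ℕ} (hG : Nat.card G = p ^ n) {x : G}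
    (hx : Nat.card (centralizer ({x} : Set G)) = p ^ 2) : Group.nilpotencyClass G = n - 1 :=
  Cfsg.Agent.S4143.class_eq n hG x hx

theorem class_of_self_centralizing {n : ℕ} (hG : Nat.card G = p ^ n) (A : Subgroup G) (hA : Nat.card A = p ^ 2)
    (hC : centralizer (A : Set G) ≤ A) : Group.nilpotencyClass G = n - 1 := by
  obtain ⟨x, hx⟩ := Cfsg.Agent.S4143.exists_small_centralizer hG A hA hC
  exact class_of_centralizer hG hx

theorem exists_noncomm {n : ℕ} (hn : 3 ≤ n) (hG : Nat.card G = p ^ n) (hc : Group.nilpotencyClass G = n - 1) :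
    ∃ a b : G, a * b ≠ b * a := by
  have := (IsPGroup.of_card hG).isNilpotent
  by_contra h
  push Not at h
  have h1 : Group.nilpotencyClass G ≤ 1 := by
    rw [← Subgroup.upperCentralSeries_eq_top_iff_nilpotencyClass_le, Subgroup.upperCentralSeries_one, eq_top_iff]
    exact fun g _ => mem_center_iff.mpr fun x => h x g
  omega

/-- The indices of the lower central series. -/
theorem index_lcs {n : ℕ} (hn : 3 ≤ n) (hG : Nat.card G = p ^ n) (hc : Group.nilpotencyClass G = n - 1) :
    ∀ k, 1 ≤ k → k ≤ n - 1 → ((⊤ : Subgroup G).lowerCentralSeries k).index = p ^ (k + 1) := by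
  have hP : IsPGroup p G := IsPGroup.of_card hG
  have := hP.isNilpotent
  set γ := fun k => (⊤ : Subgroup G).lowerCentralSeries k with hγ
  have hpg : ∀ A : Subgroup G, ∃ j, j ≤ n ∧ A.index = p ^ j := fun A =>
    (Nat.dvd_prime_pow hp.out).mp (hG ▸ A.index_dvd_card)
  choose e he1 he2 using fun k => hpg (γ k)
  have hbot : γ (n - 1) = ⊥ := by
    show (⊤ : Subgroup G).lowerCentralSeries (n - 1) = ⊥
    rw [← hc]
    exact Subgroup.lowerCentralSeries_nilpotencyClass
  have hne : ∀ k < n - 1, γ k ≠ ⊥ := fun k hk e' => by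
    have := Subgroup.lowerCentralSeries_eq_bot_iff_nilpotencyClass_le.mp e'
    omega
  have hlt : ∀ k < n - 1, γ (k + 1) < γ k := by
    intro k hk
    refine lt_of_le_of_ne (Subgroup.lowerCentralSeries_antitone _ (Nat.le_succ k)) fun e' => hne k hk ?_
    have hstab : ∀ j, γ (k + j) = γ k := by
      intro j
      induction j with
      | zero => rfl
      | succ j ih =>
        show (⊤ : Subgroup G).lowerCentralSeries (k + j + 1) = _
        rw [Subgroup.lowerCentralSeries_succ]
        show ⁅γ (k + j), ⊤⁆ = _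
        rw [ih]
        exact e'
    rw [← hstab (n - 1 - k), show k + (n - 1 - k) = n - 1 by omega, hbot]
  have hstep : ∀ k < n - 1, e k < e (k + 1) := by
    intro k hk
    rw [← Nat.pow_lt_pow_iff_right hp.out.one_lt, ← he2, ← he2]
    have h1 : Nat.card (γ (k + 1)) < Nat.card (γ k) :=
      lt_of_le_of_ne (card_le_of_le (hlt k hk).le) fun e' => (hlt k hk).ne (eq_of_le_of_card_ge (hlt k hk).le e'.ge)
    have h2 := (γ k).card_mul_index
    rw [← (γ (k + 1)).card_mul_index] at h2
    by_contra h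
    push Not at h
    have hpos : 0 < (γ k).index := Nat.pos_of_ne_zero index_ne_zero_of_finite
    nlinarith
  have he1' : 2 ≤ e 1 := by
    by_contra h
    have hcyc : IsCyclic (G ⧸ γ 1) := by
      have hq : Nat.card (G ⧸ γ 1) = p ^ e 1 := he2 1
      rcases Nat.le_one_iff_eq_zero_or_eq_one.mp (show e 1 ≤ 1 by omega) with h0 | h0
      · rw [h0, pow_zero] at hq
        have := (Nat.card_eq_one_iff_unique.mp hq).1
        infer_instance
      · exact isCyclic_of_prime_card (p := p) (by rw [hq, h0, pow_one])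
    obtain ⟨a, b, hab⟩ := exists_noncomm hn hG hc
    obtain ⟨c, hc'⟩ := hcyc.exists_generator
    obtain ⟨w, rfl⟩ := QuotientGroup.mk'_surjective (γ 1) c
    refine CfsgLib.Regular.zpowers_sup_commutator_ne_top hP hab w (eq_top_iff.mpr fun g _ => ?_)
    obtain ⟨i, hi⟩ := mem_zpowers_iff.mp (hc' (QuotientGroup.mk' (γ 1) g))
    rw [← map_zpow] at hi
    have h2 : (w ^ i)⁻¹ * g ∈ γ 1 := QuotientGroup.eq.mp hi
    rw [← mul_inv_cancel_left (w ^ i) g]
    exact mul_mem_sup (zpow_mem (mem_zpowers w) i) ((Subgroup.top_lowerCentralSeries_one (G := G)).le h2)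
  have hlow : ∀ k, 1 ≤ k → k ≤ n - 1 → k + 1 ≤ e k := by
    intro k hk
    induction k, hk using Nat.le_induction with
    | base => intro _; omega
    | succ k hk ih =>
      intro hk'
      have := hstep k (by omega)
      have := ih (by omega)
      omega
  have hup : ∀ d k, 1 ≤ k → k + d = n - 1 → e k + d ≤ e (n - 1) := by
    intro d
    induction d with
    | zero => intro k _ h; rw [show k = n - 1 by omega]; omega
    | succ d ih =>
      intro k hk h
      have := hstep k (by omega)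
      have := ih (k + 1) (by omega) (by omega)
      omega
  intro k hk hk'
  show (γ k).index = _
  rw [he2]
  congr 1
  have := hlow k hk hk'
  have := hup (n - 1 - k) k hk (by omega)
  have := he1 (n - 1)
  omega

theorem index_commutator {n : ℕ} (hn : 3 ≤ n) (hG : Nat.card G = p ^ n) (hc : Group.nilpotencyClass G = n - 1) :
    (commutator G).index = p ^ 2 := by
  have h := index_lcs hn hG hc 1 le_rfl (by omega)
  rwa [Subgroup.top_lowerCentralSeries_one] at h

theorem pow_mem_commutator {n : ℕ} (hn : 3 ≤ n) (hG : Nat.card G = p ^ n) (hc : Group.nilpotencyClass G = n - 1)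
    (g : G) : g ^ p ∈ commutator G := by
  have hP : IsPGroup p G := IsPGroup.of_card hG
  by_contra h
  obtain ⟨a, b, hab⟩ := exists_noncomm hn hG hc
  refine CfsgLib.Regular.zpowers_sup_commutator_ne_top hP hab g ?_
  have h2 : Nat.card (G ⧸ commutator G) = p ^ 2 := index_commutator hn hG hc
  have hord : orderOf (g : G ⧸ commutator G) = p ^ 2 := by
    obtain ⟨j, hj, hj'⟩ := (Nat.dvd_prime_pow hp.out).mp (h2 ▸ orderOf_dvd_natCard (g : G ⧸ commutator G))
    rcases Nat.lt_or_ge j 2 with hlt | hge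
    · refine absurd ((QuotientGroup.eq_one_iff _).mp ?_) h
      rw [QuotientGroup.mk_pow]
      refine orderOf_dvd_iff_pow_eq_one.mp ?_
      rw [hj']
      exact (pow_dvd_pow p (show j ≤ 1 by omega)).trans (dvd_of_eq (pow_one p))
    · rw [hj', show j = 2 by omega]
  rw [eq_top_iff]
  intro x _
  have htop : zpowers (g : G ⧸ commutator G) = ⊤ := eq_top_of_card_eq _ (by rw [Nat.card_zpowers, hord, h2])
  obtain ⟨i, hi⟩ := mem_zpowers_iff.mp (htop.ge (mem_top (x : G ⧸ commutator G)))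
  rw [← QuotientGroup.mk_zpow] at hi
  rw [← mul_inv_cancel_left (g ^ i) x]
  exact mul_mem_sup (zpow_mem (mem_zpowers g) i) (QuotientGroup.eq.mp hi)

/-- Normal subgroups of index at least `p ^ 2`. -/
theorem normal_eq_lcs {n : ℕ} (hn : 3 ≤ n) (hG : Nat.card G = p ^ n) (hc : Group.nilpotencyClass G = n - 1)
    (N : Subgroup G) [N.Normal] {r : ℕ} (hr : 2 ≤ r) (hN : N.index = p ^ r) :
    N = (⊤ : Subgroup G).lowerCentralSeries (r - 1) := by
  have hQ : IsPGroup p (G ⧸ N) := (IsPGroup.of_card hG).to_quotient N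
  have hcard : Nat.card (G ⧸ N) = p ^ r := hN
  have hrn : r ≤ n := by
    rw [← Nat.pow_le_pow_iff_right hp.out.one_lt, ← hN, ← hG]
    exact Nat.le_of_dvd Nat.card_pos N.index_dvd_card
  have := hQ.isNilpotent
  have hcl : Group.nilpotencyClass (G ⧸ N) ≤ r - 1 := by
    suffices h : ∀ (r : ℕ) (Q : Type u) [Group Q] [Finite Q], Nat.card Q = p ^ r → 1 ≤ r →
        Group.nilpotencyClass Q ≤ r - 1 ∨ r = 1 by
      exact (h r (G ⧸ N) hcard (by omega)).resolve_right (by omega)
    intro r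
    induction r using Nat.strong_induction_on with
    | _ r ih =>
    intro Q _ _ hQc hr1
    have hQp : IsPGroup p Q := IsPGroup.of_card hQc
    have := hQp.isNilpotent
    rcases eq_or_lt_of_le hr1 with h1 | h1
    · exact Or.inr h1.symm
    refine Or.inl ?_
    have : Nontrivial Q := by
      rw [← Finite.one_lt_card_iff_nontrivial, hQc]
      exact Nat.one_lt_pow (by omega) hp.out.one_lt
    have hZ := hQp.center_nontrivial
    obtain ⟨j, hj⟩ := IsPGroup.iff_card.mp (hQp.to_subgroup (center Q))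
    have hj0 : j ≠ 0 := fun e' => by
      have h := Finite.one_lt_card (α := center Q)
      rw [hj, e', pow_zero] at h
      exact lt_irrefl _ h
    obtain ⟨i, hi⟩ := IsPGroup.iff_card.mp (hQp.to_quotient (center Q))
    have hsum : i + j = r := by
      have h := card_eq_card_quotient_mul_card_subgroup (center Q)
      rw [hQc, hi, hj, ← pow_add] at h
      exact (Nat.pow_right_injective hp.out.two_le h).symm
    have hq := Group.nilpotencyClass_quotient_center (G := Q)
    rcases Nat.lt_or_ge i 2 with hi2 | hi2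
    · -- the quotient by the center is cyclic, so the group is abelian
      have hcyc : IsCyclic (Q ⧸ center Q) := by
        rcases Nat.le_one_iff_eq_zero_or_eq_one.mp (show i ≤ 1 by omega) with h0 | h0
        · rw [h0, pow_zero] at hi
          have := (Nat.card_eq_one_iff_unique.mp hi).1
          infer_instance
        · exact isCyclic_of_prime_card (p := p) (by rw [hi, h0, pow_one])
      have hab := (QuotientGroup.mk' (center Q)).isMulCommutative_of_isCyclic_of_ker_le_center (QuotientGroup.ker_mk' _).le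
      have : Group.nilpotencyClass Q ≤ 1 := by
        rw [← Subgroup.upperCentralSeries_eq_top_iff_nilpotencyClass_le, Subgroup.upperCentralSeries_one, eq_top_iff]
        exact fun g _ => mem_center_iff.mpr fun x => hab.is_comm.comm x g
      omega
    · rcases ih i (by omega) (Q ⧸ center Q) hi (by omega) with h | h
      · omega
      · omega
  have hle : (⊤ : Subgroup G).lowerCentralSeries (r - 1) ≤ N := by
    have h1 : (⊤ : Subgroup (G ⧸ N)).lowerCentralSeries (r - 1) = ⊥ :=
      Subgroup.lowerCentralSeries_eq_bot_iff_nilpotencyClass_le.mpr hcl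
    intro x hx
    refine (QuotientGroup.eq_one_iff x).mp ?_
    have h2 : QuotientGroup.mk' N x ∈ ((⊤ : Subgroup G).lowerCentralSeries (r - 1)).map (QuotientGroup.mk' N) := ⟨x, hx, rfl⟩
    rw [Subgroup.map_lowerCentralSeries, map_top_of_surjective _ (QuotientGroup.mk'_surjective N), h1, mem_bot] at h2
    exact h2
  have hidx := index_lcs hn hG hc (r - 1) (by omega) (by omega)
  refine (eq_of_le_of_card_ge hle ?_).symm
  have h1 := ((⊤ : Subgroup G).lowerCentralSeries (r - 1)).card_mul_index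
  rw [hidx, ← N.card_mul_index, hN, show r - 1 + 1 = r by omega] at h1
  exact (Nat.eq_of_mul_eq_mul_right (pow_pos hp.out.pos r) h1).ge

/-- The data of a `2`-group with a four-group as commutator quotient. -/
theorem shape {S : Type u} [Group S] [Finite S] {n : ℕ} (hn : 3 ≤ n) (hS : Nat.card S = 2 ^ n)
    (h4 : (commutator S).index = 4) (hsq : ∀ g : S, g ^ 2 ∈ commutator S) :
    ∃ a b : S, ∃ r : ℤ, orderOf a = 2 ^ (n - 1) ∧ b ∉ zpowers a ∧ (∀ g : S, g ∈ zpowers a ∨ b⁻¹ * g ∈ zpowers a) ∧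
      b * a * b⁻¹ = a ^ r ∧ (2 : ℤ) ^ (n - 2) ∣ r + 1 ∧
      (∀ i : ℤ, (2 : ℤ) ^ (n - 1) ∣ (r - 1) * i → (2 : ℤ) ^ (n - 2) ∣ i) ∧
      b ^ 2 ∈ zpowers (a ^ 2 ^ (n - 2)) := by
  have h2 : IsPGroup 2 S := IsPGroup.of_card hS
  have h8 : 8 ≤ Nat.card S := by
    rw [hS]
    exact le_trans (by norm_num : 8 ≤ 2 ^ 3) (Nat.pow_le_pow_right (by norm_num) hn)
  obtain ⟨m, a, b, hm, ha, hcard, hb, hgen, hrel⟩ := CfsgLib.TausskyTwo.cases_taussky h2 h4 hsq h8
  have hmn : m = n - 1 := by
    rw [hS] at hcard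
    have := Nat.pow_right_injective le_rfl hcard
    omega
  subst hmn
  have hb2 : b ^ 2 = 1 ∨ b ^ 2 = a ^ 2 ^ (n - 1 - 1) → b ^ 2 ∈ zpowers (a ^ 2 ^ (n - 2)) := by
    rintro (h | h)
    · rw [h]; exact one_mem _
    · rw [h, show n - 1 - 1 = n - 2 by omega]; exact mem_zpowers _
  have hpow : (2 : ℤ) ^ (n - 1) = 2 * 2 ^ (n - 2) := by rw [← pow_succ', show n - 2 + 1 = n - 1 by omega]
  rcases hrel with ⟨hconj, hb'⟩ | ⟨hm3, hconj, hb'⟩
  · refine ⟨a, b, -1, ha, hb, hgen, by rw [hconj, zpow_neg_one], by simp, fun i hi => ?_, hb2 hb'⟩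
    rw [show ((-1 : ℤ) - 1) * i = 2 * (-i) by ring, hpow] at hi
    exact (dvd_neg).mp ((mul_dvd_mul_iff_left two_ne_zero).mp hi)
  · refine ⟨a, b, (2 : ℤ) ^ (n - 2) - 1, ha, hb, hgen, ?_, by simp, fun i hi => ?_, hb2 (Or.inl hb')⟩
    · rw [hconj, ← zpow_natCast, Nat.cast_sub Nat.one_le_two_pow, show n - 1 - 1 = n - 2 by omega]
      norm_num
    · obtain ⟨k, hk⟩ : ∃ k, n - 2 = k + 1 + 1 := ⟨n - 4, by omega⟩
      rw [hk] at hi ⊢
      rw [show n - 1 = k + 1 + 1 + 1 by omega] at hi
      rw [show ((2 : ℤ) ^ (k + 1 + 1) - 1 - 1) * i = 2 * ((2 * 2 ^ k - 1) * i) by ring, pow_succ' _ (k + 1 + 1)] at hi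
      refine IsCoprime.dvd_of_dvd_mul_left (IsCoprime.pow_left ?_) ((mul_dvd_mul_iff_left two_ne_zero).mp hi)
      exact ⟨2 ^ k, -1, by ring⟩

/-- Centralizers outside the cyclic maximal subgroup. -/
theorem shape_centralizer {S : Type u} [Group S] {n : ℕ} {a b : S} {r : ℤ}
    (ha : orderOf a = 2 ^ (n - 1)) (hgen : ∀ g : S, g ∈ zpowers a ∨ b⁻¹ * g ∈ zpowers a)
    (hconj : b * a * b⁻¹ = a ^ r) (hfix : ∀ i : ℤ, (2 : ℤ) ^ (n - 1) ∣ (r - 1) * i → (2 : ℤ) ^ (n - 2) ∣ i)
    {g : S} (hg : g ∉ zpowers a) {x : S} (hx : x * g = g * x) :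
    x ∈ zpowers (a ^ 2 ^ (n - 2)) ∨ g⁻¹ * x ∈ zpowers (a ^ 2 ^ (n - 2)) := by
  obtain ⟨j, hj⟩ := mem_zpowers_iff.mp ((hgen g).resolve_left hg)
  have hg' : g = b * a ^ j := by rw [hj]; group
  have hgconj : ∀ i : ℤ, g * a ^ i * g⁻¹ = a ^ (r * i) := fun i => by
    rw [hg', show b * a ^ j * a ^ i * (b * a ^ j)⁻¹ = b * (a ^ j * a ^ i * (a ^ j)⁻¹) * b⁻¹ by group,
      ← zpow_add, ← zpow_neg, ← zpow_add, show j + i + -j = i by ring, ← conj_zpow, hconj, ← zpow_mul]
  have key : ∀ t ∈ zpowers a, t * g = g * t → t ∈ zpowers (a ^ 2 ^ (n - 2)) := by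
    intro t ht htg
    obtain ⟨i, rfl⟩ := mem_zpowers_iff.mp ht
    have h1 : a ^ i = a ^ (r * i) := by rw [← hgconj i, ← htg, mul_inv_cancel_right]
    have h2 : a ^ ((r - 1) * i) = 1 := by rw [sub_mul, one_mul, zpow_sub, ← h1, mul_inv_cancel]
    have h3 := orderOf_dvd_iff_zpow_eq_one.mpr h2
    rw [ha] at h3
    push_cast at h3
    obtain ⟨k, rfl⟩ := hfix i h3
    refine mem_zpowers_iff.mpr ⟨k, ?_⟩
    rw [← zpow_natCast a, ← zpow_mul]
    push_cast
    rfl
  rcases hgen x with h | h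
  · exact Or.inl (key x h hx)
  · refine Or.inr (key _ ?_ ?_)
    · have h2 := mul_mem (inv_mem ((hgen g).resolve_left hg)) h
      rwa [mul_inv_rev, inv_inv, mul_assoc, mul_inv_cancel_left] at h2
    · rw [mul_assoc, hx]
      group

theorem card_centralizer_le {S : Type u} [Group S] [Finite S] {n : ℕ} (hn : 3 ≤ n) {a b : S} {r : ℤ}
    (ha : orderOf a = 2 ^ (n - 1)) (hgen : ∀ g : S, g ∈ zpowers a ∨ b⁻¹ * g ∈ zpowers a)
    (hconj : b * a * b⁻¹ = a ^ r) (hfix : ∀ i : ℤ, (2 : ℤ) ^ (n - 1) ∣ (r - 1) * i → (2 : ℤ) ^ (n - 2) ∣ i)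
    {g : S} (hg : g ∉ zpowers a) : Nat.card (centralizer ({g} : Set S)) ≤ 4 := by
  classical
  set z := a ^ 2 ^ (n - 2) with hz
  have hz2 : z ^ 2 = 1 := by
    rw [hz, ← pow_mul, ← pow_succ, show n - 2 + 1 = n - 1 by omega, ← ha, pow_orderOf_eq_one]
  have hzp : ∀ w ∈ zpowers z, w = 1 ∨ w = z := fun w hw => by
    obtain ⟨i, rfl⟩ := mem_zpowers_iff.mp hw
    rcases Int.even_or_odd' i with ⟨k, rfl | rfl⟩
    · left; rw [zpow_mul, show z ^ (2 : ℤ) = 1 by exact_mod_cast hz2, one_zpow]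
    · right; rw [zpow_add, zpow_mul, show z ^ (2 : ℤ) = 1 by exact_mod_cast hz2, one_zpow, one_mul, zpow_one]
  have hsub : (centralizer ({g} : Set S) : Set S) ⊆ {1, z, g, g * z} := by
    intro x hx
    rcases shape_centralizer ha hgen hconj hfix hg (mem_centralizer_singleton_iff.mp hx) with h | h
    · rcases hzp _ h with h | h <;> simp [h]
    · rcases hzp _ h with h | h <;> simp [inv_mul_eq_iff_eq_mul.mp h]
  rw [← SetLike.coe_sort_coe, Nat.card_coe_set_eq]
  refine (Set.ncard_le_ncard hsub (Set.toFinite _)).trans ?_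
  refine (Set.ncard_insert_le _ _).trans (Nat.succ_le_succ ?_)
  refine (Set.ncard_insert_le _ _).trans (Nat.succ_le_succ ?_)
  refine (Set.ncard_insert_le _ _).trans (Nat.succ_le_succ ?_)
  rw [Set.ncard_singleton]

theorem class_of_index_four {S : Type u} [Group S] [Finite S] {n : ℕ} (hn : 3 ≤ n) (hS : Nat.card S = 2 ^ n)
    (h4 : (commutator S).index = 4) (hsq : ∀ g : S, g ^ 2 ∈ commutator S) : Group.nilpotencyClass S = n - 1 := by
  have := Fact.mk Nat.prime_two
  obtain ⟨a, b, r, ha, hb, hgen, hconj, -, hfix, -⟩ := shape hn hS h4 hsq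
  refine class_of_centralizer (p := 2) (x := b) hS (le_antisymm (card_centralizer_le hn ha hgen hconj hfix hb) ?_)
  have hbC : b ∈ centralizer ({b} : Set S) := mem_centralizer_singleton_iff.mpr rfl
  have hzC : center S ≤ centralizer ({b} : Set S) := center_le_centralizer _
  obtain ⟨j, _, hj⟩ := (Nat.dvd_prime_pow Nat.prime_two).mp (hS ▸ card_subgroup_dvd_card (centralizer ({b} : Set S)))
  rw [hj]
  refine Nat.pow_le_pow_right (by norm_num) ?_
  by_contra hj2
  have hP : IsPGroup 2 S := IsPGroup.of_card hS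
  have : Nontrivial S := ⟨⟨b, 1, fun e' => hb (e' ▸ one_mem _)⟩⟩
  have hZ : Nat.card (center S) ≠ 1 := fun e' => (nontrivial_iff_ne_bot _).mp hP.center_nontrivial (card_eq_one.mp e')
  have h1 : Nat.card (centralizer ({b} : Set S)) ≤ 2 := by
    rw [hj]; exact (Nat.pow_le_pow_right (by norm_num) (show j ≤ 1 by omega)).trans (pow_one 2).le
  have hpos : 0 < Nat.card (center S) := Nat.card_pos
  have heq : center S = centralizer ({b} : Set S) := eq_of_le_of_card_ge hzC (by omega)
  have hbc : b ∈ center S := heq ▸ hbC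
  have hfix1 : a ^ r = a ^ (1 : ℤ) := by rw [← hconj, mem_center_iff.mp hbc a |>.symm, mul_inv_cancel_right, zpow_one]
  have h2 : a ^ ((r - 1) * 1) = 1 := by rw [mul_one, zpow_sub, hfix1, mul_inv_cancel]
  have h3 := orderOf_dvd_iff_zpow_eq_one.mpr h2
  rw [ha] at h3
  push_cast at h3
  have h4' := Int.le_of_dvd one_pos (hfix 1 h3)
  have : (2 : ℤ) ^ 1 ≤ 2 ^ (n - 2) := pow_le_pow_right₀ (by norm_num) (by omega)
  omega

end CfsgLib.MaximalClass
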