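import Mathlib
import Cfsg.Prelude.Def_Transfer
import Cfsg.Agent.Lib.Coprime
import Cfsg.Agent.Lib.UniqueSubgroup
import Cfsg.Agent.Lib.Frobenius.UniqueSubgroup

/-! Sylow subgroups when subgroups of equal order are conjugate. -/

set_option autoImplicit false

namespace CfsgLib.EqualOrder

variable {G : Type*} [Group G]

theorem pow_eq_one_of_conj {A : Subgroup G} {g : G} {m : ℕ} (hA : ∀ a ∈ A, a ^ m = 1) {b : G}
    (hb : b ∈ A.map (MulAut.conj g).toMonoidHom) : b ^ m = 1 := by
  obtain ⟨a, ha, rfl⟩ := hb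
  rw [← map_pow, hA a ha, map_one]

variable {p : ℕ} [Fact p.Prime]

/-- The dichotomy for a `p`-group inside `G`. -/
theorem cyclic_or_exponent [Finite G] (P : Subgroup G) (hP : IsPGroup p P)
    (hB : ∀ A B : Subgroup G, A ≤ P → B ≤ P → IsMulCommutative ↥A → IsMulCommutative ↥B →
      Nat.card ↥A = Nat.card ↥B → ∃ g : G, B = A.map (MulAut.conj g).toMonoidHom) :
    IsCyclic P ∨ (p = 2 ∧ ∃ n : ℕ, 1 ≤ n ∧ Nonempty (P ≃* QuaternionGroup (2 ^ n))) ∨
      ∀ x ∈ P, x ^ p = 1 := by
  have hp : p.Prime := Fact.out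
  by_cases hexp : ∀ x ∈ P, x ^ p = 1
  · exact Or.inr (Or.inr hexp)
  push Not at hexp
  obtain ⟨x, hx, hxp⟩ := hexp
  obtain ⟨k, hk⟩ := IsPGroup.iff_orderOf.mp hP ⟨x, hx⟩
  rw [Subgroup.orderOf_mk] at hk
  have hk2 : 2 ≤ k := by
    by_contra h
    exact hxp (orderOf_dvd_iff_pow_eq_one.mp (by
      rw [hk]; exact (pow_dvd_pow p (show k ≤ 1 by omega)).trans (dvd_of_eq (pow_one p))))
  set y := x ^ p ^ (k - 2) with hy
  have hyo : orderOf y = p ^ 2 := by
    rw [hy, orderOf_pow' x (pow_ne_zero _ hp.ne_zero), hk, Nat.gcd_eq_right (pow_dvd_pow p (Nat.sub_le k 2)),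
      Nat.pow_div (Nat.sub_le k 2) hp.pos, show k - (k - 2) = 2 by omega]
  haveI : Nontrivial P := ⟨⟨⟨x, hx⟩, 1, fun h => hxp (by rw [show x = 1 from congrArg Subtype.val h, one_pow])⟩⟩
  haveI := hP.center_nontrivial
  obtain ⟨z, hz⟩ : ∃ z : Subgroup.center P, orderOf z = p := by
    refine exists_prime_orderOf_dvd_card' p ?_
    obtain ⟨m, hm⟩ := IsPGroup.iff_card.mp (hP.to_subgroup (Subgroup.center P))
    rcases Nat.eq_zero_or_pos m with rfl | hm0
    · exact absurd hm (Finite.one_lt_card).ne'
    · rw [hm]; exact dvd_pow_self p hm0.ne'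
  have hzo : orderOf (z : P) = p := by rw [Subgroup.orderOf_coe, hz]
  have huniq : ∀ w : P, w ^ p = 1 → w ∈ Subgroup.zpowers (z : P) := by
    intro w hw
    by_contra hwz
    have hw1 : w ≠ 1 := fun h => hwz (h ▸ one_mem _)
    have hwo : orderOf w = p := orderOf_eq_prime hw hw1
    set E : Subgroup P := Subgroup.zpowers (z : P) ⊔ Subgroup.zpowers w with hE
    have hnorm : Subgroup.zpowers w ≤ Subgroup.normalizer (Subgroup.zpowers (z : P) : Set P) := by
      refine Subgroup.zpowers_le.mpr ?_
      rw [Subgroup.mem_normalizer_iff]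
      intro t
      have hc : ∀ i : ℤ, w * (z : P) ^ i * w⁻¹ = (z : P) ^ i := fun i => by
        rw [(show Commute w (z : P) from (Subgroup.mem_center_iff.mp z.2 w)).zpow_right i, mul_inv_cancel_right]
      constructor
      · rintro ⟨i, rfl⟩; exact ⟨i, (hc i).symm⟩
      · rintro ⟨i, hi⟩
        exact ⟨i, mul_left_cancel (a := w) (mul_right_cancel (b := w⁻¹) ((hc i).trans hi))⟩
    have hmem : ∀ e ∈ E, ∃ i j : ℤ, e = (z : P) ^ i * w ^ j := by
      intro e he
      obtain ⟨a, ⟨i, rfl⟩, b, ⟨j, rfl⟩, h⟩ := CfsgLib.mem_sup_of_le_normalizer hnorm he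
      exact ⟨i, j, h.symm⟩
    have hEexp : ∀ e ∈ E, e ^ p = 1 := by
      intro e he
      obtain ⟨i, j, rfl⟩ := hmem e he
      have hc : Commute ((z : P) ^ i) (w ^ j) :=
        ((show Commute w (z : P) from Subgroup.mem_center_iff.mp z.2 w).symm.zpow_left i).zpow_right j
      have hz' : (z : P) ^ p = 1 := hzo ▸ pow_orderOf_eq_one _
      rw [hc.mul_pow, ← zpow_natCast, ← zpow_mul, mul_comm i, zpow_mul, zpow_natCast, hz', one_zpow, one_mul,
        ← zpow_natCast, ← zpow_mul, mul_comm j, zpow_mul, zpow_natCast, hw, one_zpow]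
    have hEcomm : IsMulCommutative (E.map P.subtype) := by
      have : E ≤ Subgroup.centralizer (E : Set P) := by
        intro e he
        rw [Subgroup.mem_centralizer_iff]
        intro f hf
        obtain ⟨i, j, rfl⟩ := hmem e he
        obtain ⟨i', j', rfl⟩ := hmem f hf
        have c1 : Commute (z : P) w := (Subgroup.mem_center_iff.mp z.2 w).symm
        exact (Commute.mul_right (Commute.mul_left (Commute.zpow_zpow_self _ _ _) (c1.symm.zpow_zpow _ _))
          (Commute.mul_left (c1.zpow_zpow _ _) (Commute.zpow_zpow_self _ _ _))).eq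
      refine ⟨⟨fun a b => ?_⟩⟩
      obtain ⟨a', ha', ea⟩ := a.2
      obtain ⟨b', hb', eb⟩ := b.2
      refine Subtype.ext ?_
      change (a : G) * b = b * a
      rw [← ea, ← eb, ← map_mul, ← map_mul, Subgroup.mem_centralizer_iff.mp (this hb') a' ha']
    have hEcard : Nat.card (E.map P.subtype) = p ^ 2 := by
      rw [Subgroup.card_map_of_injective P.subtype_injective]
      have h1 : Nat.card E ≤ p ^ 2 := by
        have : Function.Surjective (fun t : Subgroup.zpowers (z : P) × Subgroup.zpowers w =>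
            (⟨(t.1 : P) * t.2, Subgroup.mul_mem_sup t.1.2 t.2.2⟩ : E)) := by
          rintro ⟨e, he⟩
          obtain ⟨a, ha, b, hb, h⟩ := CfsgLib.mem_sup_of_le_normalizer hnorm he
          exact ⟨(⟨a, ha⟩, ⟨b, hb⟩), Subtype.ext h⟩
        refine (Nat.card_le_card_of_surjective _ this).trans (le_of_eq ?_)
        rw [Nat.card_prod, Nat.card_zpowers, Nat.card_zpowers, hzo, hwo, pow_two]
      obtain ⟨m, hm⟩ := IsPGroup.iff_card.mp (hP.to_subgroup E)
      rw [hm] at h1 ⊢
      have hzE : Subgroup.zpowers (z : P) < E :=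
        lt_of_le_of_ne le_sup_left fun h => hwz (h ▸ Subgroup.mem_sup_right (Subgroup.mem_zpowers w))
      have : p ^ 1 < p ^ m := by
        rw [← hm, pow_one, ← hzo, ← Nat.card_zpowers]
        exact lt_of_not_ge fun h => hzE.ne (Subgroup.eq_of_le_of_card_ge hzE.le h)
      have h2 : m ≤ 2 := (Nat.pow_le_pow_iff_right hp.one_lt).mp h1
      have h3 : 1 < m := (Nat.pow_lt_pow_iff_right hp.one_lt).mp this
      rw [show m = 2 by omega]
    obtain ⟨g, hg⟩ := hB (E.map P.subtype) (Subgroup.zpowers y) (Subgroup.map_subtype_le _)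
      (Subgroup.zpowers_le.mpr (pow_mem hx _)) hEcomm inferInstance (by rw [hEcard, Nat.card_zpowers, hyo])
    have h := pow_eq_one_of_conj (A := E.map P.subtype) (g := g) (m := p) (fun a ha => by
      obtain ⟨a', ha', rfl⟩ := ha
      rw [← map_pow, hEexp a' ha', map_one]) (hg ▸ Subgroup.mem_zpowers y)
    have := orderOf_dvd_of_pow_eq_one h
    rw [hyo] at this
    have := Nat.le_of_dvd hp.pos this
    nlinarith [hp.two_le]
  rcases CfsgLib.UniqueSubgroup.cyclic_or_quaternion hP hzo huniq with h | h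
  · exact Or.inl h
  · exact Or.inr (Or.inl h)

theorem mem_centralizer_self {A : Subgroup G} (h : IsMulCommutative A) {a : G} (ha : a ∈ A) {b : G}
    (hb : b ∈ A) : a * b = b * a :=
  congrArg Subtype.val (h.is_comm.comm ⟨a, ha⟩ ⟨b, hb⟩)

/-- A non-abelian group of exponent `p` in which subgroups of order `p ^ 3` are isomorphic. -/
theorem card_eq_cube {P : Type*} [Group P] [Finite P] (hP : IsPGroup p P) (hexp : ∀ x : P, x ^ p = 1)
    (hna : ¬ IsMulCommutative P)
    (hiso : ∀ A B : Subgroup P, Nat.card A = p ^ 3 → Nat.card B = p ^ 3 → IsMulCommutative A →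
      IsMulCommutative B) : Nat.card P = p ^ 3 := by
  have hp : p.Prime := Fact.out
  haveI := hP.isNilpotent
  obtain ⟨n, hn⟩ := IsPGroup.iff_card.mp hP
  have habp : ∀ {Q : Type _} [Group Q] [Finite Q] {m : ℕ}, m ≤ 2 → Nat.card Q = p ^ m → IsMulCommutative Q := by
    intro Q _ _ m hm hQ
    interval_cases m
    · haveI := (Nat.card_eq_one_iff_unique.mp hQ).1
      exact ⟨⟨fun a b => Subsingleton.elim _ _⟩⟩
    · haveI := isCyclic_of_prime_card (p := p) (by rw [hQ, pow_one])
      exact ⟨⟨IsCyclic.commGroup.mul_comm⟩⟩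
    · exact ⟨⟨(IsPGroup.commGroupOfCardEqPrimeSq hQ).mul_comm⟩⟩
  have hn3 : 3 ≤ n := by
    by_contra h
    exact hna (habp (show n ≤ 2 by omega) hn)
  by_contra hne
  have hn4 : 4 ≤ n := by
    rcases hn3.eq_or_lt with h | h
    · exact absurd (h ▸ hn) hne
    · omega
  haveI : Nontrivial P := by
    rw [← Finite.one_lt_card_iff_nontrivial, hn]; exact Nat.one_lt_pow (by omega) hp.one_lt
  haveI := hP.center_nontrivial
  -- an abelian subgroup of order `p ^ 3`
  obtain ⟨A₃, hA₃c, hA₃ab⟩ : ∃ A : Subgroup P, Nat.card A = p ^ 3 ∧ IsMulCommutative A := by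
    obtain ⟨A, hAn, hAab, hAC⟩ := CfsgLib.Frob.exists_maximal_normal_abelian (G := P)
    obtain ⟨a, ha⟩ := IsPGroup.iff_card.mp (hP.to_subgroup A)
    rcases Nat.lt_or_ge a 3 with hlt | hge
    · exfalso
      have hZA : Subgroup.center P ≤ A := fun z hz =>
        hAC.le (Subgroup.center_le_centralizer _ hz)
      obtain ⟨c, hc⟩ := IsPGroup.iff_card.mp (hP.to_subgroup (Subgroup.center P))
      have hc1 : 1 ≤ c := Nat.pos_of_ne_zero fun h => (Finite.one_lt_card (α := Subgroup.center P)).ne' (by rw [hc, h, pow_zero])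
      have hca : c ≤ a := (Nat.pow_le_pow_iff_right hp.one_lt).mp (hc ▸ ha ▸ Subgroup.card_le_of_le hZA)
      rcases hca.eq_or_lt with heq | hlt2
      · have : Subgroup.center P = A := Subgroup.eq_of_le_of_card_ge hZA (by rw [hc, ha, heq])
        rw [← this] at hAC
        have h2 : Subgroup.centralizer (Subgroup.center P : Set P) = ⊤ :=
          top_le_iff.mp fun x _ => Subgroup.mem_centralizer_iff.mpr fun z hz => (Subgroup.mem_center_iff.mp hz x).symm
        rw [h2] at hAC
        exact hna ⟨⟨fun x y => Subgroup.mem_center_iff.mp (hAC.le (Subgroup.mem_top y)) x⟩⟩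
      obtain ⟨w, hwA, hwZ⟩ := SetLike.exists_of_lt (lt_of_le_of_ne hZA (fun h => by rw [h, ha] at hc; exact hlt2.ne (Nat.pow_right_injective hp.two_le hc.symm)))
      -- conjugates of `w` lie in `w Z`
      have hconj : ∀ g : P, w⁻¹ * (g * w * g⁻¹) ∈ Subgroup.center P := by
        intro g
        haveI hq : IsPGroup p (P ⧸ Subgroup.center P) := hP.to_quotient _
        set π := QuotientGroup.mk' (Subgroup.center P)
        have hAq : Nat.card (A.map π) ≤ p := by
          have h1 := Subgroup.card_map_dvd A π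
          have h2 : (A.map π).Normal := hAn.map π (QuotientGroup.mk'_surjective _)
          have hle : Nat.card (A.map π) * Nat.card (A ⊓ π.ker : Subgroup P) = Nat.card A := by
            have h := Subgroup.card_eq_card_quotient_mul_card_subgroup (π.comp A.subtype).ker
            rw [Nat.card_congr (QuotientGroup.quotientKerEquivRange (π.comp A.subtype)).toEquiv,
              MonoidHom.range_comp, Subgroup.range_subtype] at h
            rw [h]
            congr 1
            rw [← MonoidHom.comap_ker]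
            refine Eq.trans ?_ (Subgroup.card_map_of_injective A.subtype_injective)
            rw [Subgroup.map_comap_eq, Subgroup.range_subtype]
          rw [QuotientGroup.ker_mk', inf_eq_right.mpr hZA, hc, ha] at hle
          refine Nat.le_of_mul_le_mul_right (c := p ^ c) (hle.le.trans ?_) (pow_pos hp.pos _)
          rw [← pow_succ']
          exact Nat.pow_le_pow_right hp.pos (by omega)
        haveI hn' : (A.map π).Normal := hAn.map π (QuotientGroup.mk'_surjective _)
        have hne' : A.map π ≠ ⊥ := fun h => hwZ (by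
          rw [Subgroup.map_eq_bot_iff, QuotientGroup.ker_mk'] at h
          exact h hwA)
        have hcen := CfsgLib.inf_center_ne_bot_of_nilpotent hne'
        have hle2 : A.map π ≤ Subgroup.center (P ⧸ Subgroup.center P) := by
          have : A.map π ⊓ Subgroup.center (P ⧸ Subgroup.center P) = A.map π := by
            refine Subgroup.eq_of_le_of_card_ge inf_le_left (hAq.trans ?_)
            obtain ⟨m, hm⟩ := IsPGroup.iff_card.mp (hq.to_subgroup (A.map π ⊓ Subgroup.center _))
            rw [hm]
            refine Nat.le_self_pow (fun h => hcen ?_) p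
            rw [h, pow_zero] at hm
            exact Subgroup.card_eq_one.mp hm
          exact inf_eq_left.mp this
        refine (QuotientGroup.eq_one_iff _).mp ?_
        change π (w⁻¹ * (g * w * g⁻¹)) = 1
        rw [map_mul, map_mul, map_mul, map_inv, map_inv, Subgroup.mem_center_iff.mp (hle2 ⟨w, hwA, rfl⟩) (π g),
          mul_inv_cancel_right, inv_mul_cancel]
      have hcentA : Subgroup.centralizer ({w} : Set P) ≤ A := by
        refine le_trans ?_ hAC.le
        intro g hg
        have hgen : A ≤ Subgroup.zpowers w ⊔ Subgroup.center P := by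
          have hlt3 : Subgroup.center P < Subgroup.zpowers w ⊔ Subgroup.center P :=
            lt_of_le_of_ne le_sup_right fun h => hwZ (h.ge (Subgroup.mem_sup_left (Subgroup.mem_zpowers w)))
          have hle3 : Subgroup.zpowers w ⊔ Subgroup.center P ≤ A := sup_le (Subgroup.zpowers_le.mpr hwA) hZA
          obtain ⟨m, hm⟩ := IsPGroup.iff_card.mp (hP.to_subgroup (Subgroup.zpowers w ⊔ Subgroup.center P))
          refine (Subgroup.eq_of_le_of_card_ge hle3 ?_).ge
          rw [hm, ha]
          refine Nat.pow_le_pow_right hp.pos ?_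
          have : c < m := (Nat.pow_lt_pow_iff_right hp.one_lt).mp (by
            rw [← hc, ← hm]
            exact lt_of_not_ge fun h => hlt3.ne (Subgroup.eq_of_le_of_card_ge hlt3.le h))
          omega
        rw [Subgroup.mem_centralizer_iff]
        intro a' ha'
        have : Subgroup.zpowers w ⊔ Subgroup.center P ≤ Subgroup.centralizer ({g} : Set P) := by
          refine sup_le (Subgroup.zpowers_le.mpr ?_) (Subgroup.center_le_centralizer _)
          rw [Subgroup.mem_centralizer_iff]
          simp only [Set.mem_singleton_iff, forall_eq]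
          exact (Subgroup.mem_centralizer_iff.mp hg w rfl).symm
        exact (Subgroup.mem_centralizer_iff.mp (this (hgen ha')) g rfl).symm
      have hidx : Nat.card P ≤ Nat.card (Subgroup.center P) * Nat.card (Subgroup.centralizer ({w} : Set P)) := by
        rw [← Subgroup.card_mul_index (Subgroup.centralizer ({w} : Set P)),
          mul_comm (Nat.card (Subgroup.center P))]
        refine Nat.mul_le_mul_left _ ?_
        refine Nat.card_le_card_of_injective (α := P ⧸ Subgroup.centralizer ({w} : Set P))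
          (Quotient.lift (fun g : P => (⟨w⁻¹ * (g * w * g⁻¹), hconj g⟩ : Subgroup.center P)) ?_) ?_
        · intro g g' h
          have h' : g⁻¹ * g' ∈ Subgroup.centralizer ({w} : Set P) := QuotientGroup.leftRel_apply.mp h
          refine Subtype.ext ?_
          have := Subgroup.mem_centralizer_iff.mp h' w rfl
          change w⁻¹ * (g * w * g⁻¹) = w⁻¹ * (g' * w * g'⁻¹)
          congr 1
          calc g * w * g⁻¹ = g * (w * (g⁻¹ * g')) * g'⁻¹ := by group
            _ = g' * w * g'⁻¹ := by rw [this]; group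
        · intro a b
          induction a using Quotient.inductionOn with
          | _ g =>
            induction b using Quotient.inductionOn with
            | _ g' =>
              intro h
              have h' : w⁻¹ * (g * w * g⁻¹) = w⁻¹ * (g' * w * g'⁻¹) := congrArg Subtype.val h
              have h'' := mul_left_cancel h'
              refine QuotientGroup.eq.mpr ?_
              rw [Subgroup.mem_centralizer_iff]
              simp only [Set.mem_singleton_iff, forall_eq]
              calc w * (g⁻¹ * g') = g⁻¹ * (g * w * g⁻¹) * g' := by group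
                _ = g⁻¹ * g' * w := by rw [h'']; group
      have : p ^ n ≤ p ^ (c + a) := by
        rw [← hn, pow_add, ← hc, ← ha]
        exact hidx.trans (Nat.mul_le_mul_left _ (Subgroup.card_le_of_le hcentA))
      have := (Nat.pow_le_pow_iff_right hp.one_lt).mp this
      omega
    · obtain ⟨B, hB⟩ := Sylow.exists_subgroup_card_pow_prime p (G := A) (n := 3) (by rw [ha]; exact pow_dvd_pow p hge)
      refine ⟨B.map A.subtype, by rw [Subgroup.card_map_of_injective A.subtype_injective]; exact hB, ?_⟩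
      exact ⟨⟨fun a b => Subtype.ext
        (congrArg Subtype.val (hAab.is_comm.comm ⟨a, Subgroup.map_subtype_le _ a.2⟩ ⟨b, Subgroup.map_subtype_le _ b.2⟩) :)⟩⟩
  -- a non-abelian subgroup of order at most `p ^ 3`
  haveI hq : IsPGroup p (P ⧸ Subgroup.center P) := hP.to_quotient _
  haveI : Nontrivial (P ⧸ Subgroup.center P) := QuotientGroup.nontrivial_iff.mpr fun h =>
    hna ⟨⟨fun x y => Subgroup.mem_center_iff.mp (h.ge (Subgroup.mem_top y)) x⟩⟩
  haveI := hq.center_nontrivial
  obtain ⟨⟨xq, hxq⟩, hxq1⟩ := exists_ne (1 : Subgroup.center (P ⧸ Subgroup.center P))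
  obtain ⟨x, rfl⟩ := QuotientGroup.mk_surjective xq
  have hxZ : x ∉ Subgroup.center P := fun h => hxq1 (Subtype.ext ((QuotientGroup.eq_one_iff x).mpr h))
  obtain ⟨y, hy⟩ : ∃ y, y * x ≠ x * y := by
    by_contra h
    push Not at h
    exact hxZ (Subgroup.mem_center_iff.mpr h)
  set c := y * x * y⁻¹ * x⁻¹ with hc
  have hcZ : c ∈ Subgroup.center P := by
    refine (QuotientGroup.eq_one_iff _).mp ?_
    rw [hc, QuotientGroup.mk_mul, QuotientGroup.mk_mul, QuotientGroup.mk_mul, Subgroup.mem_center_iff.mp hxq,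
      QuotientGroup.mk_inv, QuotientGroup.mk_inv]
    group
  set A₀ := Subgroup.zpowers c ⊔ Subgroup.zpowers x with hA₀
  have hnc : Subgroup.zpowers x ≤ Subgroup.normalizer (Subgroup.zpowers c : Set P) := by
    have : (Subgroup.zpowers c).Normal := ⟨fun t ht g => by
      have htZ : t ∈ Subgroup.center P := Subgroup.zpowers_le.mpr hcZ ht
      rwa [Subgroup.mem_center_iff.mp htZ g, mul_inv_cancel_right]⟩
    exact Subgroup.normalizer_eq_top (H := Subgroup.zpowers c) ▸ le_top
  have hny : Subgroup.zpowers y ≤ Subgroup.normalizer (A₀ : Set P) := by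
    refine Subgroup.zpowers_le.mpr (Subgroup.mem_normalizer_fintype ?_)
    intro t ht
    have hmap : A₀.map (MulAut.conj y).toMonoidHom ≤ A₀ := by
      rw [hA₀, Subgroup.map_sup, MonoidHom.map_zpowers, MonoidHom.map_zpowers]
      refine sup_le (Subgroup.zpowers_le.mpr ?_) (Subgroup.zpowers_le.mpr ?_)
      · refine Subgroup.mem_sup_left ?_
        simp [Subgroup.mem_center_iff.mp hcZ y]
      · have := Subgroup.mul_mem_sup (Subgroup.mem_zpowers c) (Subgroup.mem_zpowers x)
        simpa [hc] using this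
    exact hmap ⟨t, ht, rfl⟩
  set K := A₀ ⊔ Subgroup.zpowers y with hK
  have hcardsup : ∀ (A B : Subgroup P), B ≤ Subgroup.normalizer (A : Set P) →
      Nat.card (A ⊔ B : Subgroup P) ≤ Nat.card A * Nat.card B := by
    intro A B h
    rw [← Nat.card_prod]
    refine Nat.card_le_card_of_surjective
      (fun t : A × B => (⟨(t.1 : P) * t.2, Subgroup.mul_mem_sup t.1.2 t.2.2⟩ : (A ⊔ B : Subgroup P))) ?_
    rintro ⟨e, he⟩
    obtain ⟨a, ha, b, hb, h⟩ := CfsgLib.mem_sup_of_le_normalizer h he
    exact ⟨(⟨a, ha⟩, ⟨b, hb⟩), Subtype.ext h⟩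
  have hpow : ∀ t : P, Nat.card (Subgroup.zpowers t) ≤ p := fun t => by
    rw [Nat.card_zpowers]
    exact Nat.le_of_dvd hp.pos (orderOf_dvd_of_pow_eq_one (hexp t))
  have hKle : Nat.card K ≤ p ^ 3 :=
    calc Nat.card K ≤ Nat.card A₀ * Nat.card (Subgroup.zpowers y) := hcardsup _ _ hny
      _ ≤ (p * p) * p := Nat.mul_le_mul ((hcardsup _ _ hnc).trans (Nat.mul_le_mul (hpow _) (hpow _))) (hpow _)
      _ = p ^ 3 := by ring
  have hKna : ¬ IsMulCommutative K := fun h => hy
    (mem_centralizer_self h (Subgroup.mem_sup_right (Subgroup.mem_zpowers y))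
      (Subgroup.mem_sup_left (Subgroup.mem_sup_right (Subgroup.mem_zpowers x))))
  obtain ⟨m, hm⟩ := IsPGroup.iff_card.mp (hP.to_subgroup K)
  have hm3 : 3 ≤ m := by
    by_contra h
    exact hKna (habp (show m ≤ 2 by omega) hm)
  have hKc : Nat.card K = p ^ 3 := le_antisymm hKle (hm ▸ Nat.pow_le_pow_right hp.pos hm3)
  exact hKna (hiso A₃ K hA₃c hKc hA₃ab)

end CfsgLib.EqualOrder
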