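import Cfsg.Agent.Lib.PComplement
import Cfsg.Agent.Lib.Elementary

/-!
Tate's theorem on normal subgroups meeting a Sylow subgroup in its Frattini subgroup,
by a central-extension and transfer argument.
-/

set_option autoImplicit false
set_option maxHeartbeats 400000

namespace CfsgLib

open Cfsg Subgroup
open scoped Pointwise

universe u
variable {G : Type u} [Group G] {p : ℕ}

/-- A non-trivial normal subgroup of a nilpotent `p`-group has a normal subgroup of index `p`
with central quotient. -/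
theorem exists_normal_maximal_below [Finite G] [Fact p.Prime] (hG : IsPGroup p G) {Q : Subgroup G}
    [Q.Normal] (hQ : Q ≠ ⊥) :
    ∃ (R : Subgroup G) (_ : R.Normal), R ≤ Q ∧ Nat.card (Q.map (QuotientGroup.mk' R)) = p ∧
      Q.map (QuotientGroup.mk' R) ≤ Subgroup.center (G ⧸ R) := by
  obtain ⟨R, ⟨hRn, hRQ, hRne⟩, hmax⟩ := (Set.toFinite
    {R : Subgroup G | R.Normal ∧ R ≤ Q ∧ R ≠ Q}).exists_maximal ⟨⊥, inferInstance, bot_le, hQ.symm⟩
  set Z := Q.map (QuotientGroup.mk' R) with hZ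
  have hZn : Z.Normal := Subgroup.Normal.map inferInstance _ (QuotientGroup.mk'_surjective R)
  have hZne : Z ≠ ⊥ := by
    intro e
    rw [hZ, Subgroup.map_eq_bot_iff, QuotientGroup.ker_mk'] at e
    exact hRne (le_antisymm hRQ e)
  have hqp : IsPGroup p (G ⧸ R) := hG.to_quotient R
  haveI : Group.IsNilpotent (G ⧸ R) := hqp.isNilpotent
  have hc : Z ⊓ Subgroup.center (G ⧸ R) ≠ ⊥ := inf_center_ne_bot_of_nilpotent hZne
  haveI : Nontrivial ↥(Z ⊓ Subgroup.center (G ⧸ R)) := (Subgroup.nontrivial_iff_ne_bot _).mpr hc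
  obtain ⟨k, hk⟩ := (hqp.to_subgroup (Z ⊓ Subgroup.center (G ⧸ R))).exists_card_eq
  have hdvd : p ∣ Nat.card ↥(Z ⊓ Subgroup.center (G ⧸ R)) := by
    have h1 : 1 < Nat.card ↥(Z ⊓ Subgroup.center (G ⧸ R)) := Finite.one_lt_card
    rw [hk] at h1 ⊢
    exact dvd_pow_self p (fun e => by simp [e] at h1)
  obtain ⟨z, hz⟩ := exists_prime_orderOf_dvd_card' p hdvd
  have hzn : (Subgroup.zpowers (z : G ⧸ R)).Normal := ⟨fun x hx g => by
    have hxc : x ∈ Subgroup.center (G ⧸ R) := (Subgroup.zpowers_le.mpr z.2.2) hx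
    rwa [(Subgroup.mem_center_iff.mp hxc g), mul_inv_cancel_right]⟩
  have hle : Subgroup.zpowers (z : G ⧸ R) ≤ Z := Subgroup.zpowers_le.mpr z.2.1
  have hzc : Nat.card (Subgroup.zpowers (z : G ⧸ R)) = p := by
    rw [Nat.card_zpowers, Subgroup.orderOf_coe, hz]
  have heq : (Subgroup.zpowers (z : G ⧸ R)).comap (QuotientGroup.mk' R) = Q := by
    by_contra hne
    have hle' : (Subgroup.zpowers (z : G ⧸ R)).comap (QuotientGroup.mk' R) ≤ Q := by
      refine (Subgroup.comap_mono hle).trans ?_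
      rw [hZ, Subgroup.comap_map_eq, QuotientGroup.ker_mk', sup_eq_left.mpr hRQ]
    have hRle : R ≤ (Subgroup.zpowers (z : G ⧸ R)).comap (QuotientGroup.mk' R) := fun x hx => by
      rw [Subgroup.mem_comap, show QuotientGroup.mk' R x = 1 from (QuotientGroup.eq_one_iff x).mpr hx]
      exact one_mem _
    have h2 := hmax ⟨Subgroup.normal_comap _, hle', hne⟩ hRle
    have h3 : Subgroup.zpowers (z : G ⧸ R) ≤ ⊥ := by
      intro x hx
      obtain ⟨g, rfl⟩ := QuotientGroup.mk'_surjective R x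
      exact (QuotientGroup.eq_one_iff g).mpr (h2 hx)
    rw [le_bot_iff] at h3
    rw [h3, Subgroup.card_bot] at hzc
    exact (Fact.out : p.Prime).ne_one hzc.symm
  have hZz : Z = Subgroup.zpowers (z : G ⧸ R) :=
    (congrArg (Subgroup.map (QuotientGroup.mk' R)) heq).symm.trans
      (Subgroup.map_comap_eq_self_of_surjective (QuotientGroup.mk'_surjective R) _)
  exact ⟨R, hRn, hRQ, (congrArg (fun T : Subgroup (G ⧸ R) => Nat.card T) hZz).trans hzc,
    hZz.le.trans (Subgroup.zpowers_le.mpr z.2.2)⟩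

theorem frattini_le_of_index_prime [Finite G] [Fact p.Prime] {M : Subgroup G} (h : M.index = p) :
    frattini G ≤ M := by
  refine frattini_le_coatom ⟨fun e => ?_, fun L hL => ?_⟩
  · rw [e, Subgroup.index_top] at h
    exact (Fact.out : p.Prime).ne_one h.symm
  · have h1 := Subgroup.relIndex_mul_index hL.le
    rw [h] at h1
    rcases (Nat.dvd_prime (Fact.out : p.Prime)).mp (Dvd.intro_left _ h1) with h2 | h2
    · exact Subgroup.index_eq_one.mp h2
    · exfalso
      rw [h2] at h1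
      have h3 : M.relIndex L = 1 := mul_right_cancel₀ (Fact.out : p.Prime).ne_zero (h1.trans (one_mul p).symm)
      exact hL.not_ge (Subgroup.relIndex_eq_one.mp h3)

/-- Tate's theorem, core case. -/
theorem tate_core [Finite G] [Fact p.Prime] (P : Sylow p G) (K : Subgroup G) [K.Normal]
    (hKP : K ⊔ (P : Subgroup G) = ⊤) (hres : pResidual p K = ⊤)
    (hΦ : ∀ P₀ : Subgroup (P : Subgroup G), P₀.index = p → K.subgroupOf (P : Subgroup G) ≤ P₀) :
    K ⊓ (P : Subgroup G) = ⊥ := by
  set PG : Subgroup G := (P : Subgroup G) with hPG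
  set Q := K.subgroupOf PG with hQ
  by_contra hne
  have hQne : Q ≠ ⊥ := by
    rw [hQ, ne_eq, Subgroup.subgroupOf_eq_bot, disjoint_iff]
    exact hne
  obtain ⟨R, hRn, hRQ, hZcard, hZc⟩ := exists_normal_maximal_below (p := p) P.2 hQne
  set Z : Subgroup (PG ⧸ R) := Q.map (QuotientGroup.mk' R) with hZdef
  let πX : PG ⧸ R →* G ⧸ K := QuotientGroup.lift R ((QuotientGroup.mk' K).comp PG.subtype)
    (fun r hr => (QuotientGroup.eq_one_iff (r : G)).mpr (hRQ hr))
  have hker : ∀ x : PG ⧸ R, πX x = 1 ↔ x ∈ Z := by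
    intro x
    obtain ⟨y, rfl⟩ := QuotientGroup.mk'_surjective R x
    constructor
    · intro h
      exact ⟨y, (QuotientGroup.eq_one_iff (y : G)).mp h, rfl⟩
    · rintro ⟨q, hq, he⟩
      rw [← he]
      exact (QuotientGroup.eq_one_iff (q : G)).mpr hq
  -- the fibred product
  let E : Subgroup (G × PG ⧸ R) :=
    ((QuotientGroup.mk' K).comp (MonoidHom.fst _ _)).eqLocus (πX.comp (MonoidHom.snd _ _))
  have hE : ∀ e : E, QuotientGroup.mk' K (e : G × PG ⧸ R).1 = πX (e : G × PG ⧸ R).2 := fun e => e.2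
  let f₁ : E →* G := (MonoidHom.fst _ _).comp E.subtype
  let f₂ : E →* PG ⧸ R := (MonoidHom.snd _ _).comp E.subtype
  let j : K →* E := MonoidHom.mk' (fun k => ⟨((k : G), 1), show QuotientGroup.mk' K (k : G) = πX 1 by
      rw [map_one]; exact (QuotientGroup.eq_one_iff (k : G)).mpr k.2⟩)
    (fun a b => Subtype.ext (Prod.ext rfl (one_mul _).symm))
  let d : PG →* E := MonoidHom.mk' (fun u => ⟨((u : G), QuotientGroup.mk' R u), rfl⟩) (fun a b => rfl)
  have hf₁ : Function.Surjective f₁ := by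
    intro g
    have hg : g ∈ K ⊔ PG := hKP ▸ Subgroup.mem_top g
    obtain ⟨k, hk, u, hu, rfl⟩ := Subgroup.mem_sup_of_normal_left.mp hg
    exact ⟨j ⟨k, hk⟩ * d ⟨u, hu⟩, rfl⟩
  have hk₁ : ∀ e : E, f₁ e = 1 → f₂ e ∈ Z := fun e he => (hker _).mp (by
    rw [show πX (f₂ e) = QuotientGroup.mk' K (f₁ e) from (hE e).symm, he, map_one])
  set S : Subgroup E := PG.comap f₁ with hS
  let ψ : S →* Z := MonoidHom.mk'
    (fun e => ⟨(QuotientGroup.mk' R ⟨f₁ e, e.2⟩)⁻¹ * f₂ e, (hker _).mp (by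
      rw [map_mul, map_inv, show πX (f₂ e) = QuotientGroup.mk' K (f₁ e) from (hE _).symm]
      exact inv_mul_cancel _)⟩)
    (fun a b => Subtype.ext (by
      set A := (QuotientGroup.mk' R ⟨f₁ a, a.2⟩)
      set B := (QuotientGroup.mk' R ⟨f₁ b, b.2⟩)
      have hz : A⁻¹ * f₂ a ∈ Subgroup.center (PG ⧸ R) := hZc ((hker _).mp (by
        rw [map_mul, map_inv, show πX (f₂ a) = QuotientGroup.mk' K (f₁ a) from (hE _).symm]
        exact inv_mul_cancel _))
      have hz2 := Subgroup.mem_center_iff.mp hz B⁻¹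
      have e1 : QuotientGroup.mk' R ⟨f₁ (a * b : S), (a * b).2⟩ = A * B := rfl
      have e2 : f₂ ((a * b : S) : E) = f₂ a * f₂ b := map_mul _ _ _
      change (QuotientGroup.mk' R ⟨f₁ (a * b : S), (a * b).2⟩)⁻¹ * f₂ ((a * b : S) : E) =
        (A⁻¹ * f₂ a) * (B⁻¹ * f₂ b)
      rw [e1, e2, mul_inv_rev]
      calc B⁻¹ * A⁻¹ * (f₂ a * f₂ b) = (B⁻¹ * (A⁻¹ * f₂ a)) * f₂ b := by group
        _ = A⁻¹ * f₂ a * B⁻¹ * f₂ b := by rw [hz2]
        _ = A⁻¹ * f₂ a * (B⁻¹ * f₂ b) := by group))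
  let _ : CommGroup Z := { (inferInstance : Group Z) with
    mul_comm := fun a b => Subtype.ext (Subgroup.mem_center_iff.mp (hZc b.2) a) }
  let V : E →* Z := MonoidHom.transfer ψ
  have hSidx : S.index = PG.index := Subgroup.index_comap_of_surjective _ hf₁
  have hZp : IsPGroup p Z := IsPGroup.of_card (n := 1) (by rw [pow_one, hZcard])
  -- the transfer is faithful on the kernel of the projection
  have hinj : ∀ e : E, f₁ e = 1 → V e = 1 → e = 1 := by
    intro e he hV
    have heS : e ∈ S := by rw [hS, Subgroup.mem_comap, he]; exact one_mem _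
    have hcen : ∀ g : E, g * e = e * g := fun g => Subtype.ext (Prod.ext
      (show f₁ g * f₁ e = f₁ e * f₁ g by rw [he, one_mul, mul_one])
      (Subgroup.mem_center_iff.mp (hZc (hk₁ e he)) _))
    have hpow : ∀ (k : ℕ) (g₀ : E), g₀⁻¹ * e ^ k * g₀ ∈ S → g₀⁻¹ * e ^ k * g₀ = e ^ k := by
      intro k g₀ _
      have h1 : Commute g₀ (e ^ k) := Commute.pow_right (hcen g₀) k
      rw [mul_assoc, ← h1.eq, inv_mul_cancel_left]
    have hval := MonoidHom.transfer_eq_pow ψ e hpow
    have h2 : ψ ⟨e, heS⟩ ^ S.index = 1 := by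
      rw [← map_pow]
      exact hval.symm.trans hV
    have hnd : ¬ p ∣ S.index := by rw [hSidx]; exact P.not_dvd_index
    have h3 : ψ ⟨e, heS⟩ = 1 :=
      (hZp.powEquiv' hnd).injective (h2.trans (one_pow _).symm)
    have h4 : (QuotientGroup.mk' R ⟨f₁ e, heS⟩)⁻¹ * f₂ e = 1 := congrArg Subtype.val h3
    have h5 : QuotientGroup.mk' R ⟨f₁ e, heS⟩ = 1 := by
      rw [show (⟨f₁ e, heS⟩ : PG) = 1 from Subtype.ext he, map_one]
    rw [h5, inv_one, one_mul] at h4
    exact Subtype.ext (Prod.ext he h4)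
  have hjV : ∀ k : K, V (j k) = 1 := by
    intro k
    have : pResidual p K ≤ (V.comp j).ker := pResidual_le fun g hg => by
      obtain ⟨m, hm⟩ := hZp (V (j g))
      exact orderOf_eq_one_iff.mp (Nat.eq_one_of_dvd_coprimes (hg.pow_right m)
        (orderOf_map_dvd (V.comp j) g) (orderOf_dvd_of_pow_eq_one hm))
    exact this (hres ▸ Subgroup.mem_top k)
  set X₀ := V.ker.map f₂ with hX₀
  have hX₀Z : ∀ x ∈ X₀, x ∈ Z → x = 1 := by
    rintro _ ⟨m, hm, rfl⟩ hxZ
    have hmK : f₁ m ∈ K := (QuotientGroup.eq_one_iff (N := K) (f₁ m)).mp (((hE m)).trans ((hker _).mpr hxZ))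
    have h1 : (j ⟨f₁ m, hmK⟩)⁻¹ * m = 1 := by
      refine hinj _ ?_ ?_
      · rw [map_mul, map_inv]
        exact inv_mul_cancel (f₁ m)
      · rw [map_mul, map_inv, hjV, inv_one, one_mul]
        exact hm
    rw [inv_mul_eq_one] at h1
    exact (congrArg f₂ h1).symm
  have hf₂ : Function.Surjective f₂ := by
    intro x
    obtain ⟨y, rfl⟩ := QuotientGroup.mk'_surjective R x
    exact ⟨d y, rfl⟩
  have hidx : X₀.index = p := by
    have h1 : X₀.index ∣ V.ker.index := Subgroup.index_map_dvd _ hf₂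
    have h2 : V.ker.index ∣ p := by
      rw [Subgroup.index_ker]
      exact (Subgroup.card_subgroup_dvd_card V.range).trans (dvd_of_eq hZcard)
    refine ((Nat.dvd_prime (Fact.out : p.Prime)).mp (h1.trans h2)).resolve_left fun h => ?_
    rw [Subgroup.index_eq_one] at h
    have hb : Z = ⊥ := (Subgroup.eq_bot_iff_forall Z).mpr fun x hx => hX₀Z x (h ▸ Subgroup.mem_top x) hx
    rw [hb, Subgroup.card_bot] at hZcard
    exact (Fact.out : p.Prime).ne_one hZcard.symm
  have hZle : Z ≤ X₀ := by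
    have h1 := hΦ (X₀.comap (QuotientGroup.mk' R))
      (by rw [Subgroup.index_comap_of_surjective _ (QuotientGroup.mk'_surjective R), hidx])
    rintro _ ⟨q, hq, rfl⟩
    exact h1 hq
  have hb : Z = ⊥ := (Subgroup.eq_bot_iff_forall Z).mpr fun x hx => hX₀Z x (hZle hx) hx
  rw [hb, Subgroup.card_bot] at hZcard
  exact (Fact.out : p.Prime).ne_one hZcard.symm

/-- Tate: a normal subgroup meeting a Sylow `p`-subgroup inside its Frattini subgroup has a
normal `p`-complement. -/
theorem hasNormalPComplement_of_inf_le_frattini [Finite G] [Fact p.Prime] (P : Sylow p G)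
    (N : Subgroup G) [N.Normal] (h : N ⊓ (P : Subgroup G) ≤ (frattini P).map (P : Subgroup G).subtype) :
    HasNormalPComplement p N := by
  set K := (pResidual p N).map N.subtype with hK
  have hKn : K.Normal := inferInstance
  set H := K ⊔ (P : Subgroup G) with hH
  let P' : Sylow p H := P.subtype le_sup_right
  have hP' : (P' : Subgroup H) = (P : Subgroup G).subgroupOf H := rfl
  let e₁ : pResidual p N ≃* K.subgroupOf H :=
    ((pResidual p N).equivMapOfInjective N.subtype N.subtype_injective).trans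
      (Subgroup.subgroupOfEquivOfLe (le_sup_left : K ≤ H)).symm
  have hres : pResidual p (K.subgroupOf H) = ⊤ := by
    rw [← pResidual_map_equiv e₁, pResidual_idem, ← MonoidHom.range_eq_map]
    exact MonoidHom.range_eq_top.mpr e₁.surjective
  have hsup : K.subgroupOf H ⊔ (P' : Subgroup H) = ⊤ := by
    rw [hP', ← Subgroup.subgroupOf_sup le_sup_left le_sup_right, Subgroup.subgroupOf_self]
  haveI : (K.subgroupOf H).Normal := Subgroup.normal_subgroupOf
  have hbot := tate_core P' (K.subgroupOf H) hsup hres (fun P₀ hP₀ => ?_)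
  · have hd : K ⊓ (P : Subgroup G) = ⊥ := by
      rw [eq_bot_iff]
      intro x hx
      have hxH : x ∈ H := Subgroup.mem_sup_left hx.1
      have h1 : (⟨x, hxH⟩ : H) ∈ K.subgroupOf H ⊓ (P' : Subgroup H) := ⟨hx.1, hx.2⟩
      rw [hbot, Subgroup.mem_bot] at h1
      exact congrArg Subtype.val h1
    rw [hasNormalPComplement_iff_pResidual,
      ← Subgroup.card_map_of_injective (K := pResidual p N) (f := N.subtype) N.subtype_injective]
    by_contra hc
    have hp : p ∣ Nat.card K := by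
      by_contra hnd
      exact hc ((Fact.out : p.Prime).coprime_iff_not_dvd.mpr hnd).symm
    obtain ⟨x, hx⟩ := exists_prime_orderOf_dvd_card' p hp
    have hxp : IsPGroup p (Subgroup.zpowers (x : G)) := IsPGroup.of_card (n := 1) (by
      rw [Nat.card_zpowers, Subgroup.orderOf_coe, hx, pow_one])
    obtain ⟨T, hT⟩ := hxp.exists_le_sylow
    obtain ⟨g, hg⟩ := MulAction.exists_smul_eq G T P
    have hmem : g * (x : G) * g⁻¹ ∈ K ⊓ (P : Subgroup G) := by
      refine ⟨hKn.conj_mem _ x.2 g, ?_⟩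
      show g * (x : G) * g⁻¹ ∈ (P : Subgroup G)
      rw [← hg, Sylow.coe_subgroup_smul, mem_conj_smul_iff]
      simpa [mul_assoc] using hT (Subgroup.mem_zpowers _)
    rw [hd, Subgroup.mem_bot, conj_eq_one_iff] at hmem
    rw [← Subgroup.orderOf_coe, hmem, orderOf_one] at hx
    exact (Fact.out : p.Prime).ne_one hx.symm
  · let e₂ : ((P : Subgroup G).subgroupOf H) ≃* (P : Subgroup G) :=
      Subgroup.subgroupOfEquivOfLe le_sup_right
    have h1 : (P₀.map e₂.toMonoidHom).index = p := by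
      exact (Subgroup.index_map_equiv P₀ e₂).trans hP₀
    intro x hx
    have h2 : ((x : H) : G) ∈ N ⊓ (P : Subgroup G) := ⟨Subgroup.map_subtype_le _ hx, x.2⟩
    obtain ⟨y, hy, hyx⟩ := h h2
    obtain ⟨w, hw, hwy⟩ := frattini_le_of_index_prime h1 hy
    have : w = x := e₂.injective (hwy.trans (Subtype.ext hyx))
    rwa [this] at hw

end CfsgLib
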