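import Cfsg.Prelude.Def_EvenType
import Cfsg.Agent.Lib.Fusion.Alperin
import Cfsg.Agent.Lib.Local
import Cfsg.Agent.Lib.Basic

/-! Strongly `p`-embedded subgroups: equivalent forms. -/

set_option autoImplicit false
set_option linter.unusedSectionVars false

namespace CfsgLib.StronglyEmbedded

open CfsgLib CfsgLib.Local

variable {G : Type*} [Group G] [Finite G] {p : ℕ} [Fact p.Prime]

theorem ne_bot_of_dvd {A : Subgroup G} (h : p ∣ Nat.card A) : A ≠ ⊥ := fun e => by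
  subst e
  simp only [Subgroup.card_bot, Nat.dvd_one] at h
  exact (Fact.out : p.Prime).ne_one h

theorem dvd_card_of_ne_bot {A : Subgroup G} (hA : IsPGroup p A) (h : A ≠ ⊥) : p ∣ Nat.card A := by
  haveI : Nontrivial A := (Subgroup.nontrivial_iff_ne_bot A).2 h
  obtain ⟨n, hn, hc⟩ := hA.nontrivial_iff_card.1 this
  exact hc ▸ dvd_pow_self p hn.ne'

theorem exists_orderOf_eq {A : Subgroup G} (h : p ∣ Nat.card A) : ∃ z ∈ A, orderOf z = p := by
  obtain ⟨z, hz⟩ := exists_prime_orderOf_dvd_card' (G := A) p h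
  exact ⟨z, z.2, by rwa [Subgroup.orderOf_coe]⟩

theorem isPGroup_zpowers {z : G} (hz : orderOf z = p) : IsPGroup p (Subgroup.zpowers z) :=
  IsPGroup.of_card (n := 1) (by rw [Nat.card_zpowers, hz, pow_one])

theorem zpowers_ne_bot {z : G} (hz : orderOf z = p) : Subgroup.zpowers z ≠ ⊥ :=
  ne_bot_of_dvd (p := p) (by rw [Nat.card_zpowers, hz])

theorem dvd_card_of_mem {A : Subgroup G} {z : G} (hzA : z ∈ A) (hz : orderOf z = p) :
    p ∣ Nat.card A :=
  hz ▸ Subgroup.orderOf_dvd_natCard A hzA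

/-- If a nontrivial `p`-subgroup of `Y` is conjugated into `Y` by `g`, then `g ∈ Y`. -/
theorem mem_of_conj_le {Y A : Subgroup G} (hY : Cfsg.IsStronglyPEmbedded p Y) (hA : IsPGroup p A)
    (hA1 : A ≠ ⊥) (hAY : A ≤ Y) {g : G} (hg : ∀ a ∈ A, g * a * g⁻¹ ∈ Y) : g ∈ Y := by
  obtain ⟨-, -, P, hP⟩ := hY
  exact Cfsg.mem_of_conj_le_of_kGeneratedCore_le P hP hA hA1 hAY hg

theorem normalizer_le {Y A : Subgroup G} (hY : Cfsg.IsStronglyPEmbedded p Y) (hA : IsPGroup p A)
    (hA1 : A ≠ ⊥) (hAY : A ≤ Y) : Subgroup.normalizer (A : Set G) ≤ Y := fun g hg =>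
  mem_of_conj_le hY hA hA1 hAY fun a ha => hAY ((Subgroup.mem_normalizer_iff.1 hg a).1 ha)

theorem exists_sylow_le {Y : Subgroup G} (hY : Cfsg.IsStronglyPEmbedded p Y) :
    ∃ P : Sylow p G, (P : Subgroup G) ≤ Y := by
  obtain ⟨hdvd, -, P, hP⟩ := hY
  refine ⟨P, Subgroup.le_normalizer.trans ((Cfsg.normalizer_le_kGeneratedCore P.2 le_rfl ?_).trans hP)⟩
  intro h
  have := P.dvd_card_of_dvd_card hdvd
  exact ne_bot_of_dvd this h

theorem dvd_card_of {Y : Subgroup G} (hY : Cfsg.IsStronglyPEmbedded p Y) : p ∣ Nat.card Y := by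
  obtain ⟨P, hP⟩ := exists_sylow_le hY
  exact (P.dvd_card_of_dvd_card hY.1).trans (Subgroup.card_dvd_of_le hP)

theorem centralizer_le {Y : Subgroup G} (hY : Cfsg.IsStronglyPEmbedded p Y) {z : G} (hzY : z ∈ Y)
    (hz : orderOf z = p) : Subgroup.centralizer ({z} : Set G) ≤ Y := fun g hg =>
  mem_of_conj_le hY (isPGroup_zpowers hz) (zpowers_ne_bot hz) ((Subgroup.zpowers_le).2 hzY)
    fun a ha => by
      obtain ⟨k, rfl⟩ := Subgroup.mem_zpowers_iff.1 ha
      have h1 : Commute g z := (hg z rfl).symm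
      rw [(h1.zpow_right k).eq, mul_inv_cancel_right]
      exact Y.zpow_mem hzY k

theorem not_dvd_inter {Y : Subgroup G} (hY : Cfsg.IsStronglyPEmbedded p Y) {g : G} (hg : g ∉ Y) :
    ¬ p ∣ Nat.card ↥(Y ⊓ Y.map (MulAut.conj g).toMonoidHom) := by
  intro h
  obtain ⟨z, ⟨hzY, hzg⟩, hz⟩ := exists_orderOf_eq h
  refine hg (inv_inv g ▸ Y.inv_mem ?_)
  refine mem_of_conj_le hY (isPGroup_zpowers hz) (zpowers_ne_bot hz) ((Subgroup.zpowers_le).2 hzY)
    fun a ha => ?_
  have h2 : Subgroup.zpowers z ≤ Y.map (MulAut.conj g).toMonoidHom := (Subgroup.zpowers_le).2 hzg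
  simpa using mem_map_conj.1 (h2 ha)

/-- A subgroup containing the normalizers of its nontrivial `p`-subgroups is strongly `p`-embedded. -/
theorem of_normalizers {Y : Subgroup G} (hne : Y ≠ ⊤) (hp : p ∣ Nat.card Y)
    (h : ∀ A : Subgroup G, A ≤ Y → IsPGroup p A → A ≠ ⊥ → Subgroup.normalizer (A : Set G) ≤ Y) :
    Cfsg.IsStronglyPEmbedded p Y := by
  obtain ⟨S⟩ : Nonempty (Sylow p Y) := inferInstance
  set S' := (S : Subgroup Y).map Y.subtype
  have hS' : IsPGroup p S' := S.2.map _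
  have hS1 : S' ≠ ⊥ := by
    rw [Ne, Subgroup.map_eq_bot_iff_of_injective _ Y.subtype_injective]
    exact fun e => by
      have := S.dvd_card_of_dvd_card hp
      rw [e, Subgroup.card_bot, Nat.dvd_one] at this
      exact (Fact.out : p.Prime).ne_one this
  have hSY : S' ≤ Y := Subgroup.map_subtype_le _
  obtain ⟨P, hP⟩ := hS'.exists_le_sylow
  have heq : S' = (P : Subgroup G) := by
    by_contra hne'
    have hlt : S' < (P : Subgroup G) := lt_of_le_of_ne hP hne'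
    haveI := P.2.isNilpotent
    have hN := Group.normalizerCondition_of_isNilpotent (G := (P : Subgroup G)) (S'.subgroupOf P) (by
      rw [lt_top_iff_ne_top, Ne, Subgroup.subgroupOf_eq_top]
      exact hlt.not_ge)
    obtain ⟨w, hwN, hwS⟩ := SetLike.exists_of_lt hN
    have hw : (w : G) ∈ Subgroup.normalizer (S' : Set G) := by
      refine mem_normalizer_of_map_conj_eq (Subgroup.eq_of_le_of_card_ge (map_conj_le fun z hz => ?_) ?_)
      · exact (Subgroup.mem_normalizer_iff.1 hwN ⟨z, hP hz⟩).1 hz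
      · exact (Subgroup.card_map_of_injective (MulEquiv.injective _)).ge
    have hwY : (w : G) ∈ Y := h S' hSY hS' hS1 hw
    refine hwS (Subgroup.mem_subgroupOf.2 ⟨⟨w, hwY⟩, ?_, rfl⟩)
    have hle : (S : Subgroup Y) ≤ (P : Subgroup G).subgroupOf Y := fun y hy =>
      Subgroup.mem_subgroupOf.2 (hP ⟨y, hy, rfl⟩)
    rw [← S.3 (P.2.comap_of_injective Y.subtype Y.subtype_injective) hle]
    exact Subgroup.mem_subgroupOf.2 w.2
  refine ⟨hp.trans (Subgroup.card_subgroup_dvd_card Y), hne, P, iSup_le ?_⟩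
  rintro ⟨Q, hQ, hr⟩
  refine h Q (hQ.trans (heq ▸ hSY)) (isPGroup_of_le hQ P.2) fun e => hr ?_
  subst e
  intro A _ _
  simp

theorem of_inter {Y : Subgroup G} (hne : Y ≠ ⊤) (hp : p ∣ Nat.card Y)
    (h : ∀ g : G, g ∉ Y → ¬ p ∣ Nat.card ↥(Y ⊓ Y.map (MulAut.conj g).toMonoidHom)) :
    Cfsg.IsStronglyPEmbedded p Y := by
  refine of_normalizers hne hp fun A hAY hA hA1 g hg => ?_
  by_contra hgY
  refine h g hgY ((dvd_card_of_ne_bot hA hA1).trans (Subgroup.card_dvd_of_le (le_inf hAY ?_)))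
  conv_lhs => rw [← map_conj_eq_of_mem_normalizer hg]
  exact Subgroup.map_mono hAY

/-- Restriction to a subgroup. -/
theorem restrict {X H : Subgroup G} (hX : Cfsg.IsStronglyPEmbedded p X) (hHX : ¬ H ≤ X)
    (hp : p ∣ Nat.card ↥(H ⊓ X)) : Cfsg.IsStronglyPEmbedded p ((H ⊓ X).subgroupOf H) := by
  refine of_inter (fun e => hHX ((Subgroup.subgroupOf_eq_top.1 e).trans inf_le_right))
    (by rwa [Nat.card_congr (Subgroup.subgroupOfEquivOfLe (inf_le_left : H ⊓ X ≤ H)).toEquiv]) ?_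
  intro g hg hd
  have hgX : (g : G) ∉ X := fun h => hg (Subgroup.mem_subgroupOf.2 ⟨g.2, h⟩)
  obtain ⟨z, ⟨hz1, hz2⟩, hz⟩ := exists_orderOf_eq hd
  refine not_dvd_inter hX hgX (dvd_card_of_mem (z := (z : G)) ⟨(Subgroup.mem_subgroupOf.1 hz1).2, ?_⟩ ?_)
  · have := (Subgroup.mem_subgroupOf.1 (mem_map_conj.1 hz2)).2
    exact mem_map_conj.2 (by simpa using this)
  · rwa [Subgroup.orderOf_coe]

theorem normalCore_le_pPrimeCore {H : Subgroup G} (hH : Cfsg.IsStronglyPEmbedded p H) :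
    H.normalCore ≤ Cfsg.pPrimeCore p G := by
  obtain ⟨g, hg⟩ : ∃ g : G, g ∉ H := by
    by_contra h
    push Not at h
    exact hH.2.1 (top_le_iff.1 fun x _ => h x)
  refine le_pPrimeCore (((Fact.out : p.Prime).coprime_iff_not_dvd.2 fun hd => ?_).symm)
  refine not_dvd_inter hH hg (hd.trans (Subgroup.card_dvd_of_le (le_inf (Subgroup.normalCore_le H) ?_)))
  intro x hx
  exact mem_map_conj.2 (Subgroup.normalCore_le H (by simpa using H.normalCore_normal.conj_mem x hx g⁻¹))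

end CfsgLib.StronglyEmbedded
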