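import Cfsg.Agent.Lib.Fusion.Group
import Cfsg.Agent.Lib.Fusion.Alperin
import Cfsg.Agent.Lib.Transfer
import Cfsg.Agent.Lib.QuatHom
import Cfsg.Agent.Lib.Involutions
import Mathlib.GroupTheory.SpecificGroups.KleinFour
import Mathlib.Data.Set.Card

/-!
Relations preserved by fusion in a Sylow subgroup, automizers of order six, counting fused classes, and
normal subgroups cut out by invariant subgroups of a Sylow subgroup.
-/

set_option autoImplicit false

namespace CfsgLib.LocalFusion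

open Cfsg Cfsg.FusionSystem

variable {G : Type*} [Group G] {p : ℕ} [Fact p.Prime]

/-- An equivalence relation preserved by conjugation inside `S` and by the automizers of the centric
subgroups with non-`p`-group automorphism group is preserved by fusion in `S`. -/
theorem fusion_rel [Finite G] (S : Sylow p G) (r : G → G → Prop) (hr : Equivalence r)
    (hconj : ∀ s ∈ (S : Subgroup G), ∀ x ∈ (S : Subgroup G), r x (s * x * s⁻¹))
    (h : ∀ P : Subgroup G, P ≤ (S : Subgroup G) → centralizerIn (S : Subgroup G) P ≤ P →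
      ¬ IsPGroup p (MulAut P) → ∀ g ∈ Subgroup.normalizer (P : Set G), ∀ x ∈ P, r x (g * x * g⁻¹))
    {x : G} (hx : x ∈ (S : Subgroup G)) {g : G} (hg : g * x * g⁻¹ ∈ (S : Subgroup G)) :
    r x (g * x * g⁻¹) := by
  set F := groupFusionSystem (S : Subgroup G) with hF
  let E : FusionSystem (S : Subgroup G) :=
    { Hom := fun P => {φ | φ ∈ F.Hom P ∧ ∀ y : P, r y (φ y)}
      le_of_mem := fun h => F.le_of_mem h.1
      injective_of_mem := fun h => F.injective_of_mem h.1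
      conj_mem := fun {P s} hP hs => ⟨F.conj_mem hP hs, fun y => hconj s hs y (hP y.2)⟩
      comp_mem := fun {P Q φ ψ} hφ hψ h => ⟨F.comp_mem hφ.1 hψ.1 h, fun y =>
        hr.trans (hφ.2 y) (hψ.2 ⟨φ y, h y⟩)⟩
      inv_mem := fun {P φ} hφ => by
        obtain ⟨ψ, hψ, hl⟩ := F.inv_mem hφ.1
        refine ⟨ψ, ⟨hψ, ?_⟩, hl⟩
        rintro ⟨_, y, rfl⟩
        rw [hl]
        exact hr.symm (hφ.2 y) }
  have hsat := groupFusionSystem_isSaturated S
  have key : F ≤ E := by
    refine hsat.le_of_autGroup_le S.2 E fun P hP => ?_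
    have hPS : P ≤ (S : Subgroup G) := by
      rcases hP with rfl | hP
      exacts [le_rfl, hP.2.1.1]
    have hn : F.IsFullyNormalized P := by
      rcases hP with rfl | hP
      exacts [isFullyNormalized_self, hP.2.1]
    intro α hα
    refine (E.mem_autGroup_iff hPS).mpr ⟨(F.mem_autGroup_iff hPS).mp hα, ?_⟩
    by_cases hp : IsPGroup p (MulAut P)
    · obtain ⟨-, R, hR⟩ := hsat.isFullyAutomized_of_isFullyNormalized S.2 hn
      have h1 : (R : Subgroup (F.autGroup P)) = ⊤ := by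
        refine (R.3 (Q := ⊤) ?_ le_top).symm
        exact (hp.to_subgroup _).of_equiv Subgroup.topEquiv.symm
      have h2 : α ∈ autInducedBy (S : Subgroup G) P := by
        have h3 : (⟨α, hα⟩ : F.autGroup P) ∈ (R : Subgroup (F.autGroup P)) := h1 ▸ Subgroup.mem_top _
        rw [hR] at h3
        exact h3
      obtain ⟨s, hs, -, he⟩ := mem_autInducedBy_iff.mp h2
      intro y
      show r (y : G) ((α y : P) : G)
      rw [he]
      exact hconj s hs y (hPS y.2)
    · have hcen : centralizerIn (S : Subgroup G) P ≤ P := by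
        rcases hP with rfl | hP
        · exact inf_le_left
        · exact hP.1.2 P (F.isConj_refl hPS)
      rw [show F.autGroup P = _ from autGroup_groupFusionSystem hPS] at hα
      obtain ⟨s, -, hN, he⟩ := mem_autInducedBy_iff.mp hα
      intro y
      show r (y : G) ((α y : P) : G)
      rw [he]
      exact h P hPS hcen hp s hN y y.2
  have hmap : conjHom (Subgroup.zpowers x) g ∈ F.Hom (Subgroup.zpowers x) := by
    refine conjHom_mem_groupFusionSystem (Subgroup.zpowers_le.mpr hx) ?_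
    rintro _ ⟨n, rfl⟩
    show g * x ^ n * g⁻¹ ∈ (S : Subgroup G)
    rw [← conj_zpow]
    exact zpow_mem hg n
  exact (key _ hmap).2 ⟨x, Subgroup.mem_zpowers x⟩

/-- If the automizer modulo inner automorphisms has order two, it is induced from the given element. -/
theorem exists_of_index_two [Finite G] {P N : Subgroup G} {k : G} (hN : N = Subgroup.normalizer (P : Set G))
    (h : (P ⊔ Subgroup.centralizer (P : Set G)).relIndex N = 2) (hk : k ∈ N)
    (hk' : k ∉ P ⊔ Subgroup.centralizer (P : Set G)) {g : G} (hg : g ∈ N) :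
    ∃ t : G, (t ∈ P ∨ ∃ q ∈ P, t = q * k⁻¹) ∧ ∀ x ∈ P, g * x * g⁻¹ = t * x * t⁻¹ := by
  subst hN
  set C := Subgroup.centralizer (P : Set G)
  have hP : ∀ b ∈ P ⊔ C, ∃ q ∈ P, ∃ c ∈ C, b = q * c := by
    intro b hb
    rw [← SetLike.mem_coe, Subgroup.coe_mul_of_left_le_normalizer_right P C
      (Subgroup.le_normalizer.trans (fun t ht => by
        refine Subgroup.mem_normalizer_iff.mpr fun c => ⟨fun hc => ?_, fun hc => ?_⟩
        · refine Subgroup.mem_centralizer_iff.mpr fun y hy => ?_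
          have h1 := Subgroup.mem_centralizer_iff.mp hc _
            (show t⁻¹ * y * t ∈ P by simpa using (Subgroup.mem_normalizer_iff.mp (inv_mem ht) y).mp hy)
          calc y * (t * c * t⁻¹) = t * (t⁻¹ * y * t * c) * t⁻¹ := by group
            _ = t * c * t⁻¹ * y := by rw [h1]; group
        · refine Subgroup.mem_centralizer_iff.mpr fun y hy => ?_
          have h1 := Subgroup.mem_centralizer_iff.mp hc _ ((Subgroup.mem_normalizer_iff.mp ht y).mp hy)
          calc y * c = t⁻¹ * (t * y * t⁻¹ * (t * c * t⁻¹)) * t := by group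
            _ = c * y := by rw [h1]; group))] at hb
    obtain ⟨q, hq, c, hc, rfl⟩ := hb
    exact ⟨q, hq, c, hc, rfl⟩
  have hfix : ∀ {c : G}, c ∈ C → ∀ x ∈ P, c * x * c⁻¹ = x := fun hc x hx => by
    rw [← Subgroup.mem_centralizer_iff.mp hc x hx, mul_inv_cancel_right]
  by_cases hgX : g ∈ P ⊔ C
  · obtain ⟨q, hq, c, hc, rfl⟩ := hP g hgX
    refine ⟨q, Or.inl hq, fun x hx => ?_⟩
    calc q * c * x * (q * c)⁻¹ = q * (c * x * c⁻¹) * q⁻¹ := by group
      _ = q * x * q⁻¹ := by rw [hfix hc x hx]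
  · rw [Subgroup.relIndex] at h
    have hgk : (⟨g, hg⟩ * ⟨k, hk⟩ : Subgroup.normalizer (P : Set G)) ∈ (P ⊔ C).subgroupOf _ :=
      (Subgroup.mul_mem_iff_of_index_two h).mpr
        ⟨fun h => absurd h (fun h' => hgX h'), fun h => absurd h (fun h' => hk' h')⟩
    obtain ⟨q, hq, c, hc, hgk⟩ := hP _ (Subgroup.mem_subgroupOf.mp hgk)
    replace hgk : g * k = q * c := hgk
    refine ⟨q * k⁻¹, Or.inr ⟨q, hq, rfl⟩, fun x hx => ?_⟩
    have hx' : k⁻¹ * x * k ∈ P := by simpa using (Subgroup.mem_normalizer_iff.mp (inv_mem hk) x).mp hx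
    rw [show g = q * c * k⁻¹ by rw [← hgk]; group]
    calc q * c * k⁻¹ * x * (q * c * k⁻¹)⁻¹ = q * (c * (k⁻¹ * x * k) * c⁻¹) * q⁻¹ := by group
      _ = q * k⁻¹ * x * (q * k⁻¹)⁻¹ := by rw [hfix hc _ hx']; group

/-- An odd order element some two-power of which lies in a subgroup lies in it. -/
theorem mem_of_pow_two {K : Subgroup G} {g : G} (hg : Odd (orderOf g)) {k : ℕ} (h : g ^ 2 ^ k ∈ K) :
    g ∈ K := by
  have hcop : (orderOf g).Coprime (2 ^ k) := Nat.Coprime.pow_right k (Nat.coprime_two_right.mpr hg)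
  obtain ⟨m, hm⟩ := exists_pow_eq_self_of_coprime hcop.symm
  rw [← hm]
  exact pow_mem h m

/-- In a group with a normal subgroup of index six some element of odd order lies outside. -/
theorem exists_odd_outside [Finite G] {X N : Subgroup G} [(X.subgroupOf N).Normal] (h : X.relIndex N = 6) :
    ∃ g ∈ N, g ∉ X ∧ Odd (orderOf g) := by
  haveI : Fact (Nat.Prime 3) := ⟨Nat.prime_three⟩
  obtain ⟨q, hq⟩ := exists_prime_orderOf_dvd_card' (G := N ⧸ X.subgroupOf N) 3 (by
    show 3 ∣ (X.subgroupOf N).index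
    rw [show (X.subgroupOf N).index = 6 from h]
    norm_num)
  obtain ⟨b, rfl⟩ := QuotientGroup.mk_surjective q
  refine ⟨((b ^ 2 ^ (orderOf (b : G)).factorization 2 : N) : G), SetLike.coe_mem _, fun hb => ?_, ?_⟩
  · have h1 : (b : N ⧸ X.subgroupOf N) ^ 2 ^ (orderOf (b : G)).factorization 2 = 1 := by
      rw [← QuotientGroup.mk_pow, QuotientGroup.eq_one_iff]
      exact Subgroup.mem_subgroupOf.mpr hb
    have h2 := orderOf_dvd_of_pow_eq_one h1
    rw [hq] at h2
    have := Nat.prime_three.dvd_of_dvd_pow h2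
    norm_num at this
  · rw [SubgroupClass.coe_pow, ← Nat.coprime_two_right, orderOf_pow,
      Nat.gcd_eq_right (Nat.ordProj_dvd _ _)]
    exact (Nat.coprime_ordCompl Nat.prime_two (orderOf_pos (b : G)).ne').symm

theorem conj_mem_of {P : Subgroup G} {g x : G} (hg : g ∈ Subgroup.normalizer (P : Set G)) (hx : x ∈ P) :
    g * x * g⁻¹ ∈ P := (Subgroup.mem_normalizer_iff.mp hg x).mp hx

/-- A nontrivial element of odd order of the automizer of a four group permutes it transitively. -/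
theorem klein_transitive [Finite G] {T : Subgroup G} (hT : IsKleinFour T) {g : G}
    (hg : g ∈ Subgroup.normalizer (T : Set G)) (hgC : g ∉ Subgroup.centralizer (T : Set G))
    (hodd : Odd (orderOf g)) {a b : G} (ha : a ∈ T) (ha1 : a ≠ 1) (hb : b ∈ T) (hb1 : b ≠ 1) :
    b = a ∨ b = g * a * g⁻¹ ∨ b = g ^ 2 * a * (g ^ 2)⁻¹ := by
  haveI := hT
  have hcomm : ∀ {x y : G}, x ∈ T → y ∈ T → x * y = y * x := fun hx hy => by
    haveI := IsKleinFour.isMulCommutative (G := T)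
    exact setLike_mul_comm hx hy
  have hthree : ∀ {x y z : G}, x ∈ T → y ∈ T → z ∈ T → x ≠ 1 → y ≠ 1 → z ≠ 1 → x ≠ y → z ≠ x → z ≠ y →
      z = x * y := fun {x y z} hx hy hz hx1 hy1 hz1 hxy hzx hzy =>
    congrArg Subtype.val (IsKleinFour.eq_mul_of_ne_all (x := (⟨x, hx⟩ : T)) (y := ⟨y, hy⟩) (z := ⟨z, hz⟩)
      (fun e => hx1 (congrArg Subtype.val e)) (fun e => hy1 (congrArg Subtype.val e))
      (fun e => hxy (congrArg Subtype.val e)) (fun e => hz1 (congrArg Subtype.val e))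
      (fun e => hzx (congrArg Subtype.val e)) (fun e => hzy (congrArg Subtype.val e)))
  have hne1 : ∀ {x : G} (h : G), x ≠ 1 → h * x * h⁻¹ ≠ 1 := fun h hx e => hx (conj_eq_one_iff.mp e)
  -- no nontrivial element is fixed
  have hmove : ∀ x ∈ T, x ≠ 1 → g * x * g⁻¹ ≠ x := by
    intro x hx hx1 hfix
    refine hgC (mem_of_pow_two (k := 1) hodd (Subgroup.mem_centralizer_iff.mpr fun y hy => ?_))
    have key : g ^ 2 * y * (g ^ 2)⁻¹ = y := by
      have e2 : g ^ 2 * y * (g ^ 2)⁻¹ = g * (g * y * g⁻¹) * g⁻¹ := by rw [sq]; group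
      rcases eq_or_ne y 1 with rfl | hy1
      · group
      rcases eq_or_ne y x with rfl | hyx
      · rw [e2, hfix, hfix]
      by_cases hgy : g * y * g⁻¹ = y
      · rw [e2, hgy, hgy]
      have h1 : g * y * g⁻¹ = x * y := hthree hx hy (conj_mem_of hg hy) hx1 hy1 (hne1 g hy1) (Ne.symm hyx)
        (fun e => hyx (mul_left_cancel (mul_right_cancel (e.trans hfix.symm)))) hgy
      have hxx : x * x = 1 := congrArg Subtype.val (IsKleinFour.mul_self (⟨x, hx⟩ : T))
      rw [e2, h1, show g * (x * y) * g⁻¹ = g * x * g⁻¹ * (g * y * g⁻¹) by group, hfix, h1, ← mul_assoc, hxx,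
        one_mul]
    exact (mul_inv_eq_iff_eq_mul.mp key).symm
  have h1 := hmove a ha ha1
  have h2 : g ^ 2 * a * (g ^ 2)⁻¹ = g * (g * a * g⁻¹) * g⁻¹ := by rw [sq]; group
  have h3 := hmove _ (conj_mem_of hg ha) (hne1 g ha1)
  rw [← h2] at h3
  have h4 : g ^ 2 * a * (g ^ 2)⁻¹ ≠ a := fun e => by
    refine h1 ?_
    obtain ⟨m, hm⟩ := hodd
    have hpow : ∀ m : ℕ, (g ^ 2) ^ m * a * ((g ^ 2) ^ m)⁻¹ = a := by
      intro m
      induction m with
      | zero => group
      | succ m ih =>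
        rw [pow_succ, mul_inv_rev, show (g ^ 2) ^ m * g ^ 2 * a * ((g ^ 2)⁻¹ * ((g ^ 2) ^ m)⁻¹)
          = (g ^ 2) ^ m * (g ^ 2 * a * (g ^ 2)⁻¹) * ((g ^ 2) ^ m)⁻¹ by group, e, ih]
    have hgm : g = (g ^ 2) ^ (m + 1) := by
      rw [← pow_mul, show 2 * (m + 1) = orderOf g + 1 by omega, pow_succ, pow_orderOf_eq_one, one_mul]
    rw [hgm]
    exact hpow _
  rcases eq_or_ne b a with e | e
  · exact Or.inl e
  rcases eq_or_ne b (g * a * g⁻¹) with e' | e'
  · exact Or.inr (Or.inl e')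
  · have e1 := hthree ha (conj_mem_of hg ha) hb ha1 (hne1 g ha1) hb1 (Ne.symm h1) e e'
    have e2 := hthree ha (conj_mem_of hg ha) (conj_mem_of (pow_mem hg 2) ha) ha1 (hne1 g ha1)
      (hne1 (g ^ 2) ha1) (Ne.symm h1) h4 h3
    exact Or.inr (Or.inr (e1.trans e2.symm))

theorem klein_isConj [Finite G] {T : Subgroup G} (hT : IsKleinFour T) {g : G}
    (hg : g ∈ Subgroup.normalizer (T : Set G)) (hgC : g ∉ Subgroup.centralizer (T : Set G))
    (hodd : Odd (orderOf g)) {a b : G} (ha : a ∈ T) (ha1 : a ≠ 1) (hb : b ∈ T) (hb1 : b ≠ 1) :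
    IsConj a b := by
  rcases klein_transitive hT hg hgC hodd ha ha1 hb hb1 with rfl | rfl | rfl
  · exact IsConj.refl _
  · exact isConj_iff.mpr ⟨g, rfl⟩
  · exact isConj_iff.mpr ⟨g ^ 2, rfl⟩

/-- Four group with odd automizer lies in every normal subgroup containing the odd order element. -/
theorem klein_le_of_normal [Finite G] {T H : Subgroup G} [H.Normal] (hT : IsKleinFour T) {g : G}
    (hg : g ∈ Subgroup.normalizer (T : Set G)) (hgC : g ∉ Subgroup.centralizer (T : Set G))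
    (hodd : Odd (orderOf g)) (hgH : g ∈ H) : T ≤ H := by
  haveI := hT
  obtain ⟨a, ha, hd⟩ : ∃ a ∈ T, a⁻¹ * (g * a * g⁻¹) ≠ 1 := by
    by_contra hcon
    push Not at hcon
    refine hgC (Subgroup.mem_centralizer_iff.mpr fun y hy => ?_)
    exact (mul_inv_eq_iff_eq_mul.mp (inv_mul_eq_one.mp (hcon y hy)).symm).symm
  have hdH : a⁻¹ * (g * a * g⁻¹) ∈ H := by
    have := mul_mem ((inferInstance : H.Normal).conj_mem g hgH a⁻¹) (inv_mem hgH)
    simpa [mul_assoc] using this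
  have hdT : a⁻¹ * (g * a * g⁻¹) ∈ T := mul_mem (inv_mem ha) (conj_mem_of hg ha)
  intro b hb
  rcases eq_or_ne b 1 with rfl | hb1
  · exact one_mem H
  rcases klein_transitive hT hg hgC hodd hdT hd hb hb1 with rfl | rfl | rfl
  · exact hdH
  · exact (inferInstance : H.Normal).conj_mem _ hdH g
  · exact (inferInstance : H.Normal).conj_mem _ hdH (g ^ 2)

theorem q8_fact1 : (∀ c d : QuaternionGroup 2, c * c ≠ 1 → d * d ≠ 1 → d ≠ c → c * d ≠ 1 →
      ∀ e : QuaternionGroup 2, e * e ≠ 1 → e = c ∨ c * e = 1 ∨ e = d ∨ d * e = 1 ∨ e = c * d ∨ c * d * e = 1) := by decide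

theorem q8_fact2 : (∀ c e : QuaternionGroup 2, c * c ≠ 1 → c * e = 1 → ∃ q, q * c * q⁻¹ = e) := by decide

theorem q8_fact3 : (∀ c e : QuaternionGroup 2, c * c ≠ 1 → e * e ≠ 1 → e ≠ c → c * e ≠ 1 → (c * e) * (c * e) ≠ 1) := by decide

theorem q8_fact4 : (∀ e : QuaternionGroup 2, e * e = 1 → ∀ h, h * e = e * h) := by decide

theorem q8_fact5 : (∀ c : QuaternionGroup 2, c * c ≠ 1 → c * c * (c * c) = 1) := by decide

theorem q8_fact6 : (∀ c d : QuaternionGroup 2, c * c ≠ 1 → d * d ≠ 1 → c * c = d * d) := by decide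

theorem q8_facts : (∀ c d : QuaternionGroup 2, c * c ≠ 1 → d * d ≠ 1 → d ≠ c → c * d ≠ 1 →
      ∀ e : QuaternionGroup 2, e * e ≠ 1 → e = c ∨ c * e = 1 ∨ e = d ∨ d * e = 1 ∨ e = c * d ∨ c * d * e = 1) ∧
    (∀ c e : QuaternionGroup 2, c * c ≠ 1 → c * e = 1 → ∃ q, q * c * q⁻¹ = e) ∧
    (∀ c e : QuaternionGroup 2, c * c ≠ 1 → e * e ≠ 1 → e ≠ c → c * e ≠ 1 → (c * e) * (c * e) ≠ 1) ∧
    (∀ e : QuaternionGroup 2, e * e = 1 → ∀ h, h * e = e * h) ∧
    (∀ c : QuaternionGroup 2, c * c ≠ 1 → c * c * (c * c) = 1) ∧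
    (∀ c d : QuaternionGroup 2, c * c ≠ 1 → d * d ≠ 1 → c * c = d * d) :=
  ⟨q8_fact1, q8_fact2, q8_fact3, q8_fact4, q8_fact5, q8_fact6⟩

/-- The action of an odd order element outside `C(Q)` on the cyclic subgroups of a quaternion group. -/
theorem q8_moves [Finite G] {Q : Subgroup G} (e : Q ≃* QuaternionGroup 2) {g : G}
    (hg : g ∈ Subgroup.normalizer (Q : Set G)) (hgC : g ∉ Subgroup.centralizer (Q : Set G))
    (hodd : Odd (orderOf g)) {c : G} (hc : c ∈ Q) (hcc : c * c ≠ 1) :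
    g * c * g⁻¹ ≠ c ∧ c * (g * c * g⁻¹) ≠ 1 := by
  obtain ⟨F1, -, F3, F4, F5, F6⟩ := q8_facts
  have lift : ∀ {x : G} (hx : x ∈ Q), x * x ≠ 1 → e ⟨x, hx⟩ * e ⟨x, hx⟩ ≠ 1 := fun hx h h' => h (by
    rw [← map_mul, ← map_one e, e.injective.eq_iff] at h'
    exact congrArg Subtype.val h')
  -- the fourth power of `g` centralizes `Q` if it fixes `c` up to inversion
  by_contra hcon
  have hsq : g ^ 2 * c * (g ^ 2)⁻¹ = c := by
    rw [not_and_or, not_not, not_not] at hcon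
    have e2 : g ^ 2 * c * (g ^ 2)⁻¹ = g * (g * c * g⁻¹) * g⁻¹ := by rw [sq]; group
    rcases hcon with h | h
    · rw [e2, h, h]
    · have h' : g * c * g⁻¹ = c⁻¹ := eq_inv_of_mul_eq_one_right h
      rw [e2, h', ← conj_inv, h', inv_inv]
  refine hgC (mem_of_pow_two (k := 4) hodd (Subgroup.mem_centralizer_iff.mpr fun y hy => ?_))
  have hfix : ∀ k : ℕ, (g ^ 2) ^ k * c * ((g ^ 2) ^ k)⁻¹ = c := by
    intro k
    induction k with
    | zero => group
    | succ k ih =>
      rw [pow_succ, mul_inv_rev, show (g ^ 2) ^ k * g ^ 2 * c * ((g ^ 2)⁻¹ * ((g ^ 2) ^ k)⁻¹)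
        = (g ^ 2) ^ k * (g ^ 2 * c * (g ^ 2)⁻¹) * ((g ^ 2) ^ k)⁻¹ by group, hsq, ih]
  -- an automorphism fixing `c` has fourth power one
  have hN2 : g ^ 2 ∈ Subgroup.normalizer (Q : Set G) := pow_mem hg 2
  set α : MulAut Q := Q.normalizerMonoidHom ⟨g ^ 2, hN2⟩
  let β : MulAut (QuaternionGroup 2) := MulAut.congr e α
  have hβ : β (e ⟨c, hc⟩) = e ⟨c, hc⟩ := by
    show e (α (e.symm (e ⟨c, hc⟩))) = _
    rw [e.symm_apply_apply]
    congr 1
    exact Subtype.ext hsq
  have hβ4 : ∀ x, β (β (β (β x))) = x := by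
    intro x
    by_cases hxx : x * x = 1
    · by_cases hx1 : x = 1
      · subst hx1; simp
      · -- the unique involution
        have hx2 : x = e ⟨c, hc⟩ * e ⟨c, hc⟩ := by
          by_contra hne
          have key : ∀ x c : QuaternionGroup 2, x * x = 1 → x ≠ 1 → c * c ≠ 1 → x = c * c := by decide
          exact hne (key x _ hxx hx1 (lift hc hcc))
        rw [hx2]
        simp only [map_mul, hβ]
    · have key : ∀ x c y : QuaternionGroup 2, c * c ≠ 1 → x * x ≠ 1 → y * y ≠ 1 → x ≠ c → c * x ≠ 1 → y ≠ c →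
          c * y ≠ 1 → y = x ∨ y = x⁻¹ ∨ y = c * x ∨ y = x * c := by decide
      by_cases hxc : x = e ⟨c, hc⟩
      · rw [hxc]; simp only [hβ]
      by_cases hxc' : e ⟨c, hc⟩ * x = 1
      · rw [eq_inv_of_mul_eq_one_right hxc']; simp only [map_inv, hβ]
      have hy1 : β x * β x ≠ 1 := by rw [← map_mul, Ne, ← map_one β, β.injective.eq_iff]; exact hxx
      have hy2 : β x ≠ e ⟨c, hc⟩ := fun h => hxc (β.injective (h.trans hβ.symm))
      have hy3 : e ⟨c, hc⟩ * β x ≠ 1 := fun h => hxc' (β.injective (by rw [map_mul, hβ, h, map_one]))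
      have hrel : ∀ x c : QuaternionGroup 2, c * c ≠ 1 → x * x ≠ 1 → x ≠ c → c * x ≠ 1 →
          (c * (c * (c * (c * x))) = x) ∧ (((x * c) * c) * c) * c = x := by decide
      rcases key x _ (β x) (lift hc hcc) hxx hy1 hxc hxc' hy2 hy3 with h | h | h | h
      · simp only [h]
      · simp only [h, map_inv, inv_inv]
      · simp only [h, map_mul, hβ]
        exact (hrel x _ (lift hc hcc) hxx hxc hxc').1
      · simp only [h, map_mul, hβ]
        exact (hrel x _ (lift hc hcc) hxx hxc hxc').2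
  have h4 : (α ^ 4) ⟨y, hy⟩ = ⟨y, hy⟩ := by
    refine e.injective ?_
    have h := hβ4 (e ⟨y, hy⟩)
    simp only [β, MulAut.congr, MulEquiv.coe_mk, Equiv.coe_fn_mk, MulEquiv.trans_apply,
      MulEquiv.symm_apply_apply] at h
    exact h
  rw [← map_pow] at h4
  have h5 : (g ^ 2) ^ 4 * y * ((g ^ 2) ^ 4)⁻¹ = y := congrArg Subtype.val h4
  have h6 : (g ^ 2) ^ 4 * y = y * (g ^ 2) ^ 4 := mul_inv_eq_iff_eq_mul.mp h5
  rw [← pow_mul, show 2 * 4 = 8 from rfl] at h6
  rw [show g ^ 2 ^ 4 = g ^ 8 * g ^ 8 by group]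
  rw [← mul_assoc, ← h6, mul_assoc, ← h6, mul_assoc]

/-- The three classes of elements of order four are permuted transitively. -/
theorem q8_cases [Finite G] {Q : Subgroup G} (e : Q ≃* QuaternionGroup 2) {g : G}
    (hg : g ∈ Subgroup.normalizer (Q : Set G)) (hgC : g ∉ Subgroup.centralizer (Q : Set G))
    (hodd : Odd (orderOf g)) {c d : G} (hc : c ∈ Q) (hcc : c * c ≠ 1) (hd : d ∈ Q) (hdd : d * d ≠ 1) :
    ∃ k : ℕ, d = g ^ k * c * (g ^ k)⁻¹ ∨ g ^ k * c * (g ^ k)⁻¹ * d = 1 := by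
  obtain ⟨F1, -, -, -, -, -⟩ := q8_facts
  have hmem : ∀ k : ℕ, g ^ k * c * (g ^ k)⁻¹ ∈ Q := fun k => conj_mem_of (pow_mem hg k) hc
  have hord : ∀ k : ℕ, g ^ k * c * (g ^ k)⁻¹ * (g ^ k * c * (g ^ k)⁻¹) ≠ 1 := fun k => by
    rw [conj_mul, Ne, conj_eq_one_iff]; exact hcc
  have m1 : ∀ k : ℕ, g ^ (k + 1) * c * (g ^ (k + 1))⁻¹ ≠ g ^ k * c * (g ^ k)⁻¹ ∧
      g ^ k * c * (g ^ k)⁻¹ * (g ^ (k + 1) * c * (g ^ (k + 1))⁻¹) ≠ 1 := fun k => by
    have h := q8_moves e hg hgC hodd (hmem k) (hord k)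
    rwa [show g * (g ^ k * c * (g ^ k)⁻¹) * g⁻¹ = g ^ (k + 1) * c * (g ^ (k + 1))⁻¹ by
      rw [pow_succ']; group] at h
  have hgC2 : g ^ 2 ∉ Subgroup.centralizer (Q : Set G) := fun h => hgC (mem_of_pow_two (k := 1) hodd h)
  have hodd2 : Odd (orderOf (g ^ 2)) := Odd.of_dvd_nat hodd (orderOf_pow_dvd 2)
  have m2 := q8_moves e (pow_mem hg 2) hgC2 hodd2 hc hcc
  set E : ∀ x : G, x ∈ Q → QuaternionGroup 2 := fun x hx => e ⟨x, hx⟩ with hE
  have eq_iff : ∀ {x y : G} (hx : x ∈ Q) (hy : y ∈ Q), E x hx = E y hy ↔ x = y := fun hx hy =>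
    ⟨fun h => congrArg Subtype.val (e.injective h), fun h => by subst h; rfl⟩
  have mul_iff : ∀ {x y : G} (hx : x ∈ Q) (hy : y ∈ Q), E x hx * E y hy = 1 ↔ x * y = 1 := fun hx hy => by
    rw [hE]
    simp only
    rw [← map_mul, ← map_one e, e.injective.eq_iff, Subtype.ext_iff]
    rfl
  have m0 := m1 0
  have hc0 : g ^ 0 * c * (g ^ 0)⁻¹ = c := by group
  rw [zero_add, hc0] at m0
  have ha := F1 (E c hc) (E _ (hmem 1)) (mt (mul_iff hc hc).mp hcc) (mt (mul_iff (hmem 1) (hmem 1)).mp (hord 1))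
    (mt (eq_iff (hmem 1) hc).mp m0.1) (mt (mul_iff hc (hmem 1)).mp m0.2)
  have hEprod : E c hc * E _ (hmem 1) = E (c * (g ^ 1 * c * (g ^ 1)⁻¹)) (mul_mem hc (hmem 1)) := by
    simp only [hE]; rw [← map_mul]; rfl
  have h2 := ha (E _ (hmem 2)) (mt (mul_iff (hmem 2) (hmem 2)).mp (hord 2))
  rw [hEprod, eq_iff, eq_iff, eq_iff, mul_iff, mul_iff, mul_iff] at h2
  have h2' : g ^ 2 * c * (g ^ 2)⁻¹ = c * (g ^ 1 * c * (g ^ 1)⁻¹) ∨
      c * (g ^ 1 * c * (g ^ 1)⁻¹) * (g ^ 2 * c * (g ^ 2)⁻¹) = 1 := by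
    rcases h2 with h | h | h | h | h | h
    · exact absurd h m2.1
    · exact absurd h m2.2
    · exact absurd h (m1 1).1
    · exact absurd h (m1 1).2
    · exact Or.inl h
    · exact Or.inr h
  have hd' := ha (E d hd) (mt (mul_iff hd hd).mp hdd)
  rw [hEprod, eq_iff, eq_iff, eq_iff, mul_iff, mul_iff, mul_iff] at hd'
  rcases hd' with h | h | h | h | h | h
  · exact ⟨0, Or.inl (by rw [hc0]; exact h)⟩
  · exact ⟨0, Or.inr (by rw [hc0]; exact h)⟩
  · exact ⟨1, Or.inl h⟩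
  · exact ⟨1, Or.inr h⟩
  · rcases h2' with h' | h'
    · exact ⟨2, Or.inl (h.trans h'.symm)⟩
    · refine ⟨2, Or.inr ?_⟩
      rw [eq_inv_of_mul_eq_one_right h', h, inv_mul_cancel]
  · rcases h2' with h' | h'
    · exact ⟨2, Or.inr (by rw [h']; exact h)⟩
    · exact ⟨2, Or.inl ((eq_inv_of_mul_eq_one_right h).trans (eq_inv_of_mul_eq_one_right h').symm)⟩

theorem q8_isConj [Finite G] {Q : Subgroup G} (e : Q ≃* QuaternionGroup 2) {g : G}
    (hg : g ∈ Subgroup.normalizer (Q : Set G)) (hgC : g ∉ Subgroup.centralizer (Q : Set G))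
    (hodd : Odd (orderOf g)) {c d : G} (hc : c ∈ Q) (hcc : c * c ≠ 1) (hd : d ∈ Q) (hdd : d * d ≠ 1) :
    IsConj c d := by
  obtain ⟨k, h | h⟩ := q8_cases e hg hgC hodd hc hcc hd hdd
  · exact isConj_iff.mpr ⟨g ^ k, h.symm⟩
  · set c' := g ^ k * c * (g ^ k)⁻¹ with hc'
    have hm : c' ∈ Q := conj_mem_of (pow_mem hg k) hc
    obtain ⟨q, hq⟩ := q8_facts.2.1 (e ⟨c', hm⟩) (e ⟨d, hd⟩) (by
      rw [← map_mul, Ne, ← map_one e, e.injective.eq_iff]
      intro h'
      exact hcc (conj_eq_one_iff.mp ((conj_mul ..).symm.trans (congrArg Subtype.val h')))) (by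
      rw [← map_mul, ← map_one e]
      exact congrArg e (Subtype.ext h))
    refine (isConj_iff.mpr ⟨g ^ k, hc'.symm⟩).trans (isConj_iff.mpr ⟨(e.symm q : Q), ?_⟩)
    have h' := congrArg e.symm hq
    simp only [map_mul, map_inv, e.symm_apply_apply] at h'
    exact congrArg Subtype.val h'

theorem q8_le_of_normal [Finite G] {Q H : Subgroup G} [H.Normal] (e : Q ≃* QuaternionGroup 2) {g : G}
    (hg : g ∈ Subgroup.normalizer (Q : Set G)) (hgC : g ∉ Subgroup.centralizer (Q : Set G))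
    (hodd : Odd (orderOf g)) (hgH : g ∈ H) : Q ≤ H := by
  obtain ⟨-, -, F3, -, -, -⟩ := q8_facts
  have hA : ∃ c : Q, c * c ≠ 1 := by
    refine ⟨e.symm (QuaternionGroup.a 1), fun h => ?_⟩
    have := congrArg e h
    simp at this
    revert this
    decide
  obtain ⟨⟨c, hc⟩, hcc'⟩ := hA
  have hcc : c * c ≠ 1 := fun h => hcc' (Subtype.ext h)
  obtain ⟨m1, m2⟩ := q8_moves e hg hgC hodd hc hcc
  have hd : c⁻¹ * (g * c * g⁻¹) ∈ H := by
    have := mul_mem ((inferInstance : H.Normal).conj_mem g hgH c⁻¹) (inv_mem hgH)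
    simpa [mul_assoc] using this
  have hdQ : c⁻¹ * (g * c * g⁻¹) ∈ Q := mul_mem (inv_mem hc) (conj_mem_of hg hc)
  set c' := g * c * g⁻¹ with hc'
  have hc'c : c' * c' ≠ 1 := by rw [hc', conj_mul, Ne, conj_eq_one_iff]; exact hcc
  have hdd : c⁻¹ * c' * (c⁻¹ * c') ≠ 1 := by
    intro h
    refine F3 (e ⟨c, hc⟩)⁻¹ (e ⟨c', conj_mem_of hg hc⟩) ?_ ?_ ?_ ?_ ?_
    · rw [← mul_inv_rev, Ne, inv_eq_one, ← map_mul, ← map_one e, e.injective.eq_iff]; exact hcc'
    · rw [← map_mul, Ne, ← map_one e, e.injective.eq_iff]; exact fun h' => hc'c (congrArg Subtype.val h')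
    · rw [Ne, eq_inv_iff_mul_eq_one, ← map_mul, ← map_one e, e.injective.eq_iff]
      intro h'
      have h'' : c' * c = 1 := congrArg Subtype.val h'
      exact m2 (eq_inv_of_mul_eq_one_left h'' ▸ mul_inv_cancel c)
    · rw [Ne, inv_mul_eq_one, e.injective.eq_iff]; exact fun h' => m1 (congrArg Subtype.val h').symm
    · rw [← map_inv, ← map_mul, ← map_mul, ← map_one e]; exact congrArg e (Subtype.ext h)
  intro q hq
  by_cases hqq : q * q = 1
  · rcases eq_or_ne q 1 with rfl | hq1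
    · exact one_mem H
    · have key : ∀ x c : QuaternionGroup 2, x * x = 1 → x ≠ 1 → c * c ≠ 1 → x = c * c := by decide
      have := key (e ⟨q, hq⟩) (e ⟨_, hdQ⟩)
        (by rw [← map_mul, ← map_one e]; exact congrArg e (Subtype.ext hqq))
        (by rw [← map_one e, Ne, e.injective.eq_iff]; exact fun h' => hq1 (congrArg Subtype.val h'))
        (by rw [← map_mul, Ne, ← map_one e, e.injective.eq_iff]; exact fun h' => hdd (congrArg Subtype.val h'))
      rw [← map_mul] at this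
      have hq' : q = c⁻¹ * c' * (c⁻¹ * c') := congrArg Subtype.val (e.injective this)
      rw [hq']
      exact mul_mem hd hd
  · obtain ⟨k, h | h⟩ := q8_cases e hg hgC hodd hdQ hdd hq hqq
    · rw [h]; exact (inferInstance : H.Normal).conj_mem _ hd _
    · rw [eq_inv_of_mul_eq_one_right h]; exact inv_mem ((inferInstance : H.Normal).conj_mem _ hd _)

/-- An element of odd order lies in every subgroup of index two. -/
theorem mem_of_index_two {H : Subgroup G} (h : H.index = 2) {g : G} (hg : Odd (orderOf g)) : g ∈ H :=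
  mem_of_pow_two (k := 1) hg (by
    rw [pow_one, sq]
    exact (Subgroup.mul_mem_iff_of_index_two h).mpr Iff.rfl)

/-- A group has no subgroup of index two if every such subgroup contains a Sylow 2-subgroup. -/
theorem no_index_two [Finite G] (S : Sylow 2 G) (h : ∀ H : Subgroup G, H.index = 2 → (S : Subgroup G) ≤ H)
    (H : Subgroup G) : H.index ≠ 2 := fun hH => by
  haveI : Fact (Nat.Prime 2) := ⟨Nat.prime_two⟩
  have h1 := Subgroup.index_dvd_of_le (h H hH)
  rw [hH] at h1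
  exact S.not_dvd_index h1

/-- A subgroup of `S` containing the commutators of fused elements is cut out by a normal subgroup. -/
theorem exists_normal_inf [Finite G] (S : Sylow p G) {M : Subgroup G} (hM : M ≤ (S : Subgroup G))
    (hMn : ∀ s ∈ (S : Subgroup G), ∀ x ∈ M, s * x * s⁻¹ ∈ M)
    (h : ∀ x ∈ (S : Subgroup G), ∀ g : G, g * x * g⁻¹ ∈ (S : Subgroup G) → x * (g * x * g⁻¹)⁻¹ ∈ M) :
    ∃ K : Subgroup G, K.Normal ∧ K ⊓ (S : Subgroup G) = M ∧ K.index = M.relIndex (S : Subgroup G) := by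
  obtain ⟨-, N, hN, hNS, hsup⟩ := CfsgLib.Transfer.exists_normal_inf_eq_focal (S : Subgroup G) (by
    obtain ⟨n, hn⟩ := IsPGroup.iff_card.mp (S.2.to_quotient (S : Subgroup G).focalSubgroupOf)
    rw [hn]
    exact Nat.Coprime.pow_right _ ((Fact.out : p.Prime).coprime_iff_not_dvd.mpr S.not_dvd_index).symm)
  have hfoc : (S : Subgroup G).focalSubgroup ≤ M := by
    rw [Subgroup.focalSubgroup_def, Subgroup.closure_le]
    rintro _ ⟨hgS, x, hx, u, rfl⟩
    have h1 : u * x * u⁻¹ ∈ (S : Subgroup G) := by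
      have := inv_mem (mul_mem (inv_mem hx) hgS)
      simpa [commutatorElement_def, mul_assoc] using this
    have := h x hx u h1
    simpa [commutatorElement_def, mul_assoc] using this
  refine ⟨N ⊔ M, ?_, ?_, ?_⟩
  · refine ⟨fun y hy g => ?_⟩
    have hg : g ∈ N ⊔ (S : Subgroup G) := hsup ▸ Subgroup.mem_top g
    obtain ⟨a, ha, s, hs, rfl⟩ := Subgroup.mem_sup_of_normal_left.mp hg
    obtain ⟨b, hb, m, hm, rfl⟩ := Subgroup.mem_sup_of_normal_left.mp hy
    have e : a * s * (b * m) * (a * s)⁻¹ = a * (s * b * s⁻¹) * (s * m * s⁻¹) * a⁻¹ := by group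
    rw [e]
    exact mul_mem (mul_mem (mul_mem (Subgroup.mem_sup_left ha) (Subgroup.mem_sup_left (hN.conj_mem b hb s)))
      (Subgroup.mem_sup_right (hMn s hs m hm))) (inv_mem (Subgroup.mem_sup_left ha))
  · refine le_antisymm ?_ (le_inf le_sup_right hM)
    rintro y ⟨hy, hyS⟩
    obtain ⟨b, hb, m, hm, rfl⟩ := Subgroup.mem_sup_of_normal_left.mp hy
    replace hyS : b * m ∈ (S : Subgroup G) := hyS
    have hbS : b ∈ (S : Subgroup G) := by
      have := mul_mem hyS (InvMemClass.inv_mem (hM hm))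
      rwa [mul_inv_cancel_right] at this
    exact mul_mem (hfoc (hNS ▸ Subgroup.mem_inf.mpr ⟨hb, hbS⟩)) hm
  · have hKS : (N ⊔ M) ⊓ (S : Subgroup G) = M := by
      refine le_antisymm ?_ (le_inf le_sup_right hM)
      rintro y ⟨hy, hyS⟩
      obtain ⟨b, hb, m, hm, rfl⟩ := Subgroup.mem_sup_of_normal_left.mp hy
      replace hyS : b * m ∈ (S : Subgroup G) := hyS
      have hbS : b ∈ (S : Subgroup G) := by
        have := mul_mem hyS (InvMemClass.inv_mem (hM hm))
        rwa [mul_inv_cancel_right] at this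
      exact mul_mem (hfoc (hNS ▸ Subgroup.mem_inf.mpr ⟨hb, hbS⟩)) hm
    haveI : (N ⊔ M).Normal := ⟨fun y hy g => by
      have hg : g ∈ N ⊔ (S : Subgroup G) := hsup ▸ Subgroup.mem_top g
      obtain ⟨a, ha, s, hs, rfl⟩ := Subgroup.mem_sup_of_normal_left.mp hg
      obtain ⟨b, hb, m, hm, rfl⟩ := Subgroup.mem_sup_of_normal_left.mp hy
      have e : a * s * (b * m) * (a * s)⁻¹ = a * (s * b * s⁻¹) * (s * m * s⁻¹) * a⁻¹ := by group
      rw [e]
      exact mul_mem (mul_mem (mul_mem (Subgroup.mem_sup_left ha) (Subgroup.mem_sup_left (hN.conj_mem b hb s)))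
        (Subgroup.mem_sup_right (hMn s hs m hm))) (inv_mem (Subgroup.mem_sup_left ha))⟩
    have htop : (S : Subgroup G) ⊔ (N ⊔ M) = ⊤ := by
      rw [eq_top_iff, ← hsup]
      exact sup_le (le_sup_of_le_right le_sup_left) le_sup_left
    rw [← Subgroup.relIndex_top_right (N ⊔ M), ← htop, Subgroup.relIndex_sup_right,
      ← Subgroup.inf_relIndex_right, hKS]

/-- The Sylow subgroups of the normal subgroup are isomorphic to `M`. -/
theorem sylow_equiv [Finite G] (S : Sylow p G) {K M : Subgroup G} [K.Normal]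
    (h : K ⊓ (S : Subgroup G) = M) (P : Sylow p K) : Nonempty ((P : Subgroup K) ≃* M) := by
  have h1 : ((CfsgLib.sylowInfNormal S K : Sylow p K) : Subgroup K) = (S : Subgroup G).subgroupOf K := rfl
  refine ⟨(P.equiv (CfsgLib.sylowInfNormal S K)).trans ((MulEquiv.subgroupCongr ?_).trans
    (Subgroup.subgroupOfEquivOfLe (h ▸ inf_le_left : M ≤ K)))⟩
  rw [h1, ← Subgroup.inf_subgroupOf_right, inf_comm, h]

/-- No subgroup of index two in `K` when each contains `M = K ⊓ S`. -/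
theorem no_index_two_normal [Finite G] (S : Sylow 2 G) {K M : Subgroup G} [K.Normal]
    (h : K ⊓ (S : Subgroup G) = M)
    (hM : ∀ H : Subgroup K, H.index = 2 → ∀ m (hm : m ∈ M), (⟨m, (h ▸ inf_le_left : M ≤ K) hm⟩ : K) ∈ H)
    (H : Subgroup K) : H.index ≠ 2 := by
  haveI : Fact (Nat.Prime 2) := ⟨Nat.prime_two⟩
  refine no_index_two (CfsgLib.sylowInfNormal S K) (fun H hH k hk => ?_) H
  exact hM H hH k (h ▸ Subgroup.mem_inf.mpr ⟨k.2, hk⟩)

theorem odd_mem_normal [Finite G] (S : Sylow 2 G) {K M : Subgroup G} [K.Normal]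
    {a : ℕ} (h : K.index = 2 ^ a) {g : G} (hg : Odd (orderOf g)) : g ∈ K := by
  obtain ⟨k, hk⟩ : ∃ k, g ^ 2 ^ k ∈ K := by
    refine ⟨a, ?_⟩
    rw [← h]
    exact Subgroup.pow_index_mem K g
  exact mem_of_pow_two hg hk

/-- Classes of elements of a given `p`-power order meet the Sylow subgroup. -/
theorem exists_conj_mem [Finite G] (S : Sylow p G) {t : G} {a : ℕ} (ht : orderOf t = p ^ a) :
    ∃ g : G, g * t * g⁻¹ ∈ (S : Subgroup G) := by
  obtain ⟨g, hg⟩ := exists_conj_mem_sylow S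
    (IsPGroup.of_card (n := a) (by rw [Nat.card_zpowers, ht]) : IsPGroup p (Subgroup.zpowers t))
  exact ⟨g, hg t (Subgroup.mem_zpowers t)⟩

/-- Counting classes: every element with the property is conjugate to one of the representatives. -/
theorem card_classes {n : ℕ} (P : G → Prop) (r : Fin n → G) (hr : ∀ i, P (r i))
    (hinj : ∀ i j, IsConj (r i) (r j) → i = j) (hall : ∀ t, P t → ∃ i, IsConj t (r i)) :
    Nat.card {C : ConjClasses G // ∃ t : G, P t ∧ ConjClasses.mk t = C} = n := by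
  conv_rhs => rw [← Nat.card_fin n]
  refine (Nat.card_eq_of_bijective (fun i : Fin n =>
    (⟨ConjClasses.mk (r i), r i, hr i, rfl⟩ : {C : ConjClasses G // ∃ t : G, P t ∧ ConjClasses.mk t = C})) ⟨?_, ?_⟩).symm
  · intro i j hij
    exact hinj i j (ConjClasses.mk_eq_mk_iff_isConj.mp (congrArg Subtype.val hij))
  · rintro ⟨C, t, ht, rfl⟩
    obtain ⟨i, hi⟩ := hall t ht
    exact ⟨i, Subtype.ext (ConjClasses.mk_eq_mk_iff_isConj.mpr hi.symm)⟩

end CfsgLib.LocalFusion
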