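import Cfsg.Prelude.Def_LocalStructure
import Cfsg.Agent.Lib.Basic
import Cfsg.Agent.Lib.Local

/-! The `p`-residual and `p`-closed groups. -/

set_option autoImplicit false
set_option linter.unusedSectionVars false

namespace CfsgLib.PResidual

open CfsgLib

variable {G : Type*} [Group G] [Finite G] {p : ℕ} [Fact p.Prime]

theorem exists_pow_coprime (x : G) : ∃ k : ℕ, (orderOf (x ^ p ^ k)).Coprime p := by
  obtain ⟨k, m, hm, he⟩ := Nat.exists_eq_pow_mul_and_not_dvd (orderOf_pos x).ne' p (Fact.out : p.Prime).ne_one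
  refine ⟨k, ?_⟩
  have : orderOf (x ^ p ^ k) = m := by
    rw [orderOf_pow_of_dvd (pow_ne_zero _ (Fact.out : p.Prime).ne_zero) (he ▸ Dvd.intro m rfl), he,
      Nat.mul_div_cancel_left _ (pow_pos (Fact.out : p.Prime).pos k)]
  rw [this]
  exact ((Fact.out : p.Prime).coprime_iff_not_dvd.2 hm).symm

theorem pow_mem_pResidual (x : G) : ∃ k : ℕ, x ^ p ^ k ∈ Cfsg.pResidual p G :=
  let ⟨k, hk⟩ := exists_pow_coprime (p := p) x
  ⟨k, Subgroup.subset_closure hk⟩

/-- An element of order prime to `p` with a `p`-power in `N` lies in `N`. -/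
theorem mem_of_pow_mem {N : Subgroup G} {g : G} (hg : (orderOf g).Coprime p) {k : ℕ}
    (h : g ^ p ^ k ∈ N) : g ∈ N := by
  obtain ⟨j, hj⟩ := exists_pow_eq_self_of_coprime ((hg.pow_right k).symm)
  exact hj ▸ N.pow_mem h j

theorem pResidual_le_of_pow {N : Subgroup G} (h : ∀ x : G, ∃ k : ℕ, x ^ p ^ k ∈ N) :
    Cfsg.pResidual p G ≤ N :=
  (Subgroup.closure_le _).2 fun g hg => let ⟨_, hk⟩ := h g; mem_of_pow_mem hg hk

theorem pResidual_normal : (Cfsg.pResidual p G).Normal := by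
  refine ⟨fun n hn g => ?_⟩
  have : Cfsg.pResidual p G ≤ (Cfsg.pResidual p G).comap (MulAut.conj g).toMonoidHom := by
    refine (Subgroup.closure_le _).2 fun x hx => Subgroup.subset_closure ?_
    show (orderOf ((MulAut.conj g) x)).Coprime p
    rwa [MulEquiv.orderOf_eq]
  exact this hn

theorem pow_mem_sylow_sup {H : Subgroup G} [H.Normal] {P : Subgroup G} (hP : IsPGroup p P)
    {x : G} (hx : x ∈ P ⊔ H) : ∃ k : ℕ, x ^ p ^ k ∈ H := by
  obtain ⟨a, ha, b, hb, rfl⟩ := Subgroup.mem_sup_of_normal_right.1 hx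
  obtain ⟨k, hk⟩ := hP ⟨a, ha⟩
  refine ⟨k, (QuotientGroup.eq_one_iff _).1 ?_⟩
  rw [QuotientGroup.mk_pow, QuotientGroup.mk_mul, (QuotientGroup.eq_one_iff b).2 hb, mul_one,
    ← QuotientGroup.mk_pow, show a ^ p ^ k = 1 from congrArg Subtype.val hk, QuotientGroup.mk_one]

theorem pResidual_sup_sylow (T : Sylow p G) : (T : Subgroup G) ⊔ Cfsg.pResidual p G = ⊤ := by
  haveI := pResidual_normal (G := G) (p := p)
  rw [← Subgroup.index_eq_one]
  by_contra hne
  obtain ⟨q, hq, hqd⟩ := Nat.exists_prime_and_dvd hne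
  have hp : IsPGroup p (G ⧸ Cfsg.pResidual p G) := by
    intro y
    induction y using QuotientGroup.induction_on with
    | _ x =>
      obtain ⟨k, hk⟩ := pow_mem_pResidual (p := p) x
      exact ⟨k, by rw [← QuotientGroup.mk_pow, QuotientGroup.eq_one_iff]; exact hk⟩
  obtain ⟨n, hn⟩ := IsPGroup.iff_card.1 hp
  have h1 := hqd.trans (Subgroup.index_dvd_of_le (le_sup_right (a := (T : Subgroup G))))
  rw [Subgroup.index, hn] at h1
  have hqp := (Nat.prime_dvd_prime_iff_eq hq Fact.out).1 (hq.dvd_of_dvd_pow h1)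
  rw [hqp] at hqd
  exact T.not_dvd_index (hqd.trans (Subgroup.index_dvd_of_le le_sup_left))

/-- Membership criterion for a normal subgroup with `T N = G`. -/
theorem pResidual_le_of_sup_eq_top {N P : Subgroup G} [N.Normal] (hP : IsPGroup p P)
    (h : P ⊔ N = ⊤) : Cfsg.pResidual p G ≤ N :=
  pResidual_le_of_pow fun _ => pow_mem_sylow_sup hP (h ▸ Subgroup.mem_top _)

theorem map_pResidual {H : Type*} [Group H] [Finite H] {f : G →* H} (hf : Function.Surjective f) :
    (Cfsg.pResidual p G).map f = Cfsg.pResidual p H := by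
  refine le_antisymm ?_ (pResidual_le_of_pow fun y => ?_)
  · rw [Cfsg.pResidual, MonoidHom.map_closure]
    refine (Subgroup.closure_le _).2 ?_
    rintro _ ⟨g, hg, rfl⟩
    exact Subgroup.subset_closure (Nat.Coprime.coprime_dvd_left (orderOf_map_dvd f g) hg)
  · obtain ⟨x, rfl⟩ := hf y
    obtain ⟨k, hk⟩ := pow_mem_pResidual (p := p) x
    exact ⟨k, by rw [← map_pow]; exact ⟨_, hk, rfl⟩⟩

/-- In a `p`-closed group every `p`-subgroup lies in `O_p`. -/
theorem le_pCore_of_isPClosed (h : Cfsg.IsPClosed p G) {Q : Subgroup G} (hQ : IsPGroup p Q) :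
    Q ≤ Cfsg.pCore p G := by
  obtain ⟨P, hP⟩ := hQ.exists_le_sylow
  haveI := h P
  exact hP.trans (le_pCore P.2)

theorem isPClosed_of_le_pCore (h : ∀ Q : Subgroup G, IsPGroup p Q → Q ≤ Cfsg.pCore p G) :
    Cfsg.IsPClosed p G := fun P => by
  have : (P : Subgroup G) = Cfsg.pCore p G :=
    le_antisymm (h _ P.2) (pCore_le_sylow P)
  rw [this]
  infer_instance

/-- A normal `p`-closed subgroup has its `p`-subgroups in `O_p(G)`. -/
theorem le_pCore_of_normal_isPClosed {N : Subgroup G} [N.Normal] (h : Cfsg.IsPClosed p ↥N)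
    {Q : Subgroup G} (hQ : IsPGroup p Q) (hQN : Q ≤ N) : Q ≤ Cfsg.pCore p G := by
  refine le_trans ?_ (map_pCore_le p N)
  intro x hx
  exact ⟨⟨x, hQN hx⟩, le_pCore_of_isPClosed h
    (hQ.of_injective (Subgroup.subgroupOfEquivOfLe hQN).toMonoidHom (MulEquiv.injective _))
    (Subgroup.mem_subgroupOf.2 hx), rfl⟩

theorem isPClosed_subgroup {N : Subgroup G} [N.Normal]
    (h : ∀ Q : Subgroup G, IsPGroup p Q → Q ≤ N → Q ≤ Cfsg.pCore p G) : Cfsg.IsPClosed p ↥N := by
  refine isPClosed_of_le_pCore fun Q hQ => ?_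
  have h1 : Q.map N.subtype ≤ Cfsg.pCore p G := h _ (hQ.map _) (Subgroup.map_subtype_le _)
  have h2 : (Cfsg.pCore p G).subgroupOf N ≤ Cfsg.pCore p ↥N :=
    le_pCore ((isPGroup_pCore (G := G) p).comap_of_injective N.subtype N.subtype_injective)
  exact fun x hx => h2 (Subgroup.mem_subgroupOf.2 (h1 ⟨x, hx, rfl⟩))

theorem comap_pCore_quotient (D : Subgroup G) [D.Normal] (hD : IsPGroup p D) :
    (Cfsg.pCore p (G ⧸ D)).comap (QuotientGroup.mk' D) = Cfsg.pCore p G := by
  refine le_antisymm (le_pCore ?_) ?_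
  · exact (isPGroup_pCore (G := G ⧸ D) p).comap_of_ker_isPGroup _ (by rwa [QuotientGroup.ker_mk'])
  · rw [← Subgroup.map_le_iff_le_comap]
    haveI : ((Cfsg.pCore p G).map (QuotientGroup.mk' D)).Normal :=
      Subgroup.Normal.map inferInstance _ (QuotientGroup.mk'_surjective _)
    exact le_pCore ((isPGroup_pCore (G := G) p).map _)

theorem isPClosed_quotient_iff (D N : Subgroup G) [D.Normal] [N.Normal] (hD : IsPGroup p D) (hDN : D ≤ N) :
    haveI : (N.map (QuotientGroup.mk' D)).Normal :=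
      Subgroup.Normal.map inferInstance _ (QuotientGroup.mk'_surjective _)
    Cfsg.IsPClosed p ↥(N.map (QuotientGroup.mk' D)) ↔ Cfsg.IsPClosed p ↥N := by
  haveI : (N.map (QuotientGroup.mk' D)).Normal :=
    Subgroup.Normal.map inferInstance _ (QuotientGroup.mk'_surjective _)
  have hN : (N.map (QuotientGroup.mk' D)).comap (QuotientGroup.mk' D) = N := by
    rw [Subgroup.comap_map_eq, QuotientGroup.ker_mk', sup_eq_left.2 hDN]
  constructor
  · refine fun h => isPClosed_subgroup fun Q hQ hQN => ?_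
    rw [← comap_pCore_quotient D hD, ← Subgroup.map_le_iff_le_comap]
    exact le_pCore_of_normal_isPClosed h (hQ.map _) (Subgroup.map_mono hQN)
  · refine fun h => isPClosed_subgroup fun Q hQ hQN => ?_
    have h1 : Q.comap (QuotientGroup.mk' D) ≤ Cfsg.pCore p G :=
      le_pCore_of_normal_isPClosed h (hQ.comap_of_ker_isPGroup _ (by rwa [QuotientGroup.ker_mk']))
        (by rw [← hN]; exact Subgroup.comap_mono hQN)
    rw [← comap_pCore_quotient D hD] at h1
    exact (Subgroup.comap_le_comap_of_surjective (QuotientGroup.mk'_surjective _)).1 h1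

theorem isPClosed_top_iff : Cfsg.IsPClosed p ↥(⊤ : Subgroup G) ↔ Cfsg.IsPClosed p G := by
  constructor
  · exact fun h => isPClosed_of_le_pCore fun Q hQ => le_pCore_of_normal_isPClosed h hQ le_top
  · exact fun h => isPClosed_subgroup fun Q hQ _ => le_pCore_of_isPClosed h hQ

theorem pResidual_le_iff_quotient (D N : Subgroup G) [D.Normal] [N.Normal] (hD : IsPGroup p D) :
    Cfsg.pResidual p (G ⧸ D) ≤ N.map (QuotientGroup.mk' D) ↔ Cfsg.pResidual p G ≤ N := by
  rw [← map_pResidual (QuotientGroup.mk'_surjective D), Subgroup.map_le_map_iff, QuotientGroup.ker_mk']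
  refine ⟨fun h => pResidual_le_of_pow fun x => ?_, fun h => h.trans le_sup_left⟩
  obtain ⟨k, hk⟩ := pow_mem_pResidual (p := p) x
  obtain ⟨j, hj⟩ := pow_mem_sylow_sup hD (sup_comm N D ▸ h hk)
  exact ⟨k + j, by rw [pow_add, pow_mul]; exact hj⟩

end CfsgLib.PResidual
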