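import Mathlib

/-!
The power graph determines the prime graph.
-/

set_option autoImplicit false

namespace CfsgLib.PowerGraph

open Subgroup

variable {G H : Type*} [Group G] [Group H]

/-- Adjacency (closed) in the power graph. -/
def Adj (x y : G) : Prop := x ∈ zpowers y ∨ y ∈ zpowers x

theorem Adj.symm {x y : G} (h : Adj x y) : Adj y x := Or.symm h

theorem adj_refl (x : G) : Adj x x := Or.inl (mem_zpowers x)

theorem adj_congr {x x' y : G} (h : zpowers x = zpowers x') : Adj x y ↔ Adj x' y := by
  constructor <;> rintro (h1 | h1)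
  · exact Or.inl ((h ▸ mem_zpowers x' : x' ∈ zpowers x) |> fun h2 => (zpowers_le.mpr h1) h2)
  · exact Or.inr (h ▸ h1)
  · exact Or.inl ((h.symm ▸ mem_zpowers x : x ∈ zpowers x') |> fun h2 => (zpowers_le.mpr h1) h2)
  · exact Or.inr (h.symm ▸ h1)

theorem Adj.dvd {x y : G} (h : Adj x y) : orderOf x ∣ orderOf y ∨ orderOf y ∣ orderOf x :=
  h.imp orderOf_dvd_of_mem_zpowers orderOf_dvd_of_mem_zpowers

variable [Finite G] [Finite H]

/-- A cyclic group has elements of every order dividing its own. -/
theorem exists_mem_order {y : G} {d : ℕ} (h : d ∣ orderOf y) : ∃ z ∈ zpowers y, orderOf z = d :=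
  ⟨y ^ (orderOf y / d), pow_mem (mem_zpowers y) _, orderOf_pow_orderOf_div (orderOf_pos y).ne' h⟩

omit [Finite G] [Finite H] in
/-- In a finite cyclic group, subgroups of equal order are equal. -/
theorem subgroup_eq_of_card {K : Type*} [Group K] [Finite K] [IsCyclic K] {A B : Subgroup K}
    (h : Nat.card A = Nat.card B) : A = B := by
  classical
  haveI : Fintype K := Fintype.ofFinite K
  set T := Finset.univ.filter (fun x : K => x ^ Nat.card A = 1) with hT
  have hle : T.card ≤ Nat.card A := IsCyclic.card_pow_eq_one_le Nat.card_pos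
  have key : ∀ C : Subgroup K, Nat.card C = Nat.card A → Finset.univ.filter (fun x : K => x ∈ C) = T := by
    intro C hC
    refine Finset.eq_of_subset_of_card_le (fun x hx => ?_) ?_
    · rw [Finset.mem_filter] at hx
      refine Finset.mem_filter.mpr ⟨Finset.mem_univ x, orderOf_dvd_iff_pow_eq_one.mp ?_⟩
      rw [← hC]; exact Subgroup.orderOf_dvd_natCard C hx.2
    · refine hle.trans (le_of_eq ?_)
      rw [← hC, Nat.card_eq_fintype_card, ← Fintype.card_subtype]
  ext x
  have := Finset.ext_iff.mp ((key A rfl).trans (key B h.symm).symm) x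
  simpa using this

/-- A proper non-trivial element of a non-primary cyclic group has a non-neighbour there. -/
theorem exists_nonadj {y h : G} (hy : h ∈ zpowers y) (hh1 : h ≠ 1) (hne : zpowers h ≠ zpowers y)
    (hpp : ¬ IsPrimePow (orderOf y)) : ∃ z ∈ zpowers y, ¬ Adj h z := by
  set m := orderOf h
  set M := orderOf y
  have hmM : m ∣ M := orderOf_dvd_of_mem_zpowers hy
  have hM0 : M ≠ 0 := (orderOf_pos y).ne'
  have hmne : m ≠ M := fun e => hne (eq_of_le_of_card_ge (zpowers_le.mpr hy)
    (by rw [Nat.card_zpowers, Nat.card_zpowers]; exact e.ge))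
  have hm1 : m ≠ 1 := mt orderOf_eq_one_iff.mp hh1
  have key : ∀ d, d ∣ M → ¬ m ∣ d → ¬ d ∣ m → ∃ z ∈ zpowers y, ¬ Adj h z := fun d hd h1 h2 => by
    obtain ⟨z, hz, hzo⟩ := exists_mem_order hd
    exact ⟨z, hz, fun ha => (ha.dvd.elim (hzo ▸ h1) (hzo ▸ h2))⟩
  obtain ⟨s, hs, hsM⟩ : ∃ s : ℕ, s.Prime ∧ ¬ s ^ M.factorization s ∣ m := by
    by_contra hall
    push Not at hall
    refine hmne (Nat.dvd_antisymm hmM ?_)
    rw [← Nat.factorization_le_iff_dvd hM0 (orderOf_pos h).ne']
    intro s
    by_cases hs : s.Prime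
    · exact (hs.pow_dvd_iff_le_factorization (orderOf_pos h).ne').mp (hall s hs)
    · simp [Nat.factorization_eq_zero_of_not_prime _ hs]
  by_cases hd : m ∣ s ^ M.factorization s
  · -- `m` is a power of `s`; use another prime
    obtain ⟨t, ht, htM, hts⟩ : ∃ t : ℕ, t.Prime ∧ t ∣ M ∧ t ≠ s := by
      by_contra hall
      push Not at hall
      obtain ⟨c, -, hc⟩ := (Nat.dvd_prime_pow hs).mp hd
      have hsM' : s ∣ M := (dvd_pow_self s fun h0 => hm1 (by rw [hc, h0, pow_zero])).trans (hc ▸ hmM)
      refine hpp ((isPrimePow_iff_unique_prime_dvd).mpr ⟨s, ⟨hs, hsM'⟩, fun t ⟨ht, htM⟩ => hall t ht htM⟩)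
    refine key t htM (fun h => ?_) fun h => ?_
    · rcases (Nat.dvd_prime ht).mp h with e | e
      · exact hm1 e
      · exact hts ((Nat.prime_dvd_prime_iff_eq ht hs).mp (ht.dvd_of_dvd_pow (e ▸ hd)))
    · exact hts ((Nat.prime_dvd_prime_iff_eq ht hs).mp (ht.dvd_of_dvd_pow (h.trans hd)))
  · exact key _ (Nat.ordProj_dvd M s) hd hsM

omit [Finite H] in
theorem two_primes {n p q : ℕ} (hp : p.Prime) (hq : q.Prime) (hpq : p ≠ q) (h : p * q ∣ n) :
    ¬ IsPrimePow n := fun hn => hpq ((isPrimePow_iff_unique_prime_dvd.mp hn).unique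
      ⟨hp, (dvd_mul_right p q).trans h⟩ ⟨hq, (dvd_mul_left q p).trans h⟩)

/-- A non-trivial universal vertex with two primes around: the group is cyclic. -/
theorem cyclic_of_universal {u : G} (hu : ∀ x, Adj u x) (hu1 : u ≠ 1) (hG : ¬ IsPrimePow (Nat.card G)) :
    zpowers u = ⊤ := by
  have hupp : ¬ IsPrimePow (orderOf u) := by
    intro h
    obtain ⟨r, ⟨hr, hru⟩, huniq⟩ := isPrimePow_iff_unique_prime_dvd.mp h
    refine hG (isPrimePow_iff_unique_prime_dvd.mpr ⟨r, ⟨hr, hru.trans (_root_.orderOf_dvd_natCard u)⟩,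
      fun s ⟨hs, hsd⟩ => ?_⟩)
    haveI := Fact.mk hs
    obtain ⟨z, hz⟩ := exists_prime_orderOf_dvd_card' s hsd
    rcases (hu z).dvd with h1 | h1
    · rw [hz] at h1
      exact (Nat.prime_dvd_prime_iff_eq hr hs).mp (hru.trans h1) |>.symm
    · exact huniq s ⟨hs, hz ▸ h1⟩
  rw [eq_top_iff]
  intro x _
  rcases hu x with h | h
  · by_contra hx
    have hne : zpowers u ≠ zpowers x := fun e => hx (e ▸ mem_zpowers x)
    have hxpp : ¬ IsPrimePow (orderOf x) := fun h' => hupp (h'.dvd (orderOf_dvd_of_mem_zpowers h)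
      (mt orderOf_eq_one_iff.mp hu1))
    obtain ⟨z, -, hz⟩ := exists_nonadj h hu1 hne hxpp
    exact hz (hu z)
  · exact h

theorem transfer (e : G ≃ H) (he : ∀ x y : G, Adj x y ↔ Adj (e x) (e y))
    {p q : ℕ} (hp : p.Prime) (hq : q.Prime) (hpq : p ≠ q) (hg : ∃ g : G, p * q ∣ orderOf g) :
    ∃ h : H, p * q ∣ orderOf h := by
  classical
  obtain ⟨g₁, hg₁⟩ := hg
  have hcard : Nat.card G = Nat.card H := Nat.card_congr e
  have hGpp : ¬ IsPrimePow (Nat.card G) := two_primes hp hq hpq (hg₁.trans (_root_.orderOf_dvd_natCard _))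
  have he' : ∀ x y : H, Adj x y ↔ Adj (e.symm x) (e.symm y) := fun x y => by
    rw [he, e.apply_symm_apply, e.apply_symm_apply]
  have huniv1 : ∀ y : G, Adj 1 y := fun y => Or.inl (one_mem _)
  by_cases hU : ∃ u : G, u ≠ 1 ∧ ∀ x, Adj u x
  · obtain ⟨u, hu1, hu⟩ := hU
    obtain ⟨v, hv1, hv⟩ : ∃ v : H, v ≠ 1 ∧ ∀ x, Adj v x := by
      by_cases heu : e u = 1
      · refine ⟨e 1, fun h => hu1 (e.injective (heu.trans h.symm)), fun x => ?_⟩
        rw [← e.apply_symm_apply x, ← he]; exact huniv1 _
      · exact ⟨e u, heu, fun x => by rw [← e.apply_symm_apply x, ← he]; exact hu _⟩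
    refine ⟨v, ?_⟩
    rw [← Nat.card_zpowers, cyclic_of_universal hv hv1 (hcard ▸ hGpp), Subgroup.card_top, ← hcard]
    exact hg₁.trans (_root_.orderOf_dvd_natCard _)
  push Not at hU
  have he1 : e 1 = 1 := by
    by_contra hne
    obtain ⟨x, hx⟩ := hU (e.symm 1) (fun h => hne (by rw [← h, e.apply_symm_apply]))
    exact hx ((he _ _).mpr (by rw [e.apply_symm_apply]; exact Or.inl (one_mem _)))
  -- a maximal cyclic subgroup
  obtain ⟨g, hgd, hgmax⟩ := Set.exists_max_image {g : G | p * q ∣ orderOf g} orderOf (Set.toFinite _)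
    ⟨g₁, hg₁⟩
  set n := orderOf g with hn
  have hgmax' : ∀ y, g ∈ zpowers y → y ∈ zpowers g := fun y hy => by
    have h1 := orderOf_dvd_of_mem_zpowers hy
    have h3 : zpowers g = zpowers y := eq_of_le_of_card_ge (zpowers_le.mpr hy) (by
      rw [Nat.card_zpowers, Nat.card_zpowers]; exact hgmax y (hgd.trans h1))
    exact h3 ▸ mem_zpowers y
  have hnpp : ¬ IsPrimePow n := two_primes hp hq hpq hgd
  have hn1 : 1 < n := lt_of_lt_of_le hp.one_lt
    (Nat.le_of_dvd (orderOf_pos g) ((dvd_mul_right p q).trans hgd))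
  have hg1 : g ≠ 1 := fun h => hn1.ne' (by rw [hn, h, orderOf_one])
  have hS : ∀ x, Adj g x ↔ x ∈ zpowers g := fun x => ⟨fun h => h.elim (hgmax' x) id, Or.inr⟩
  -- the generators
  set T : Set G := {x | x ∈ zpowers g ∧ orderOf x = n} with hT
  have hTeq : ∀ x ∈ T, zpowers x = zpowers g := fun x ⟨hx, hxn⟩ =>
    eq_of_le_of_card_ge (zpowers_le.mpr hx) (by rw [Nat.card_zpowers, Nat.card_zpowers, hxn])
  have hTS : ∀ x ∈ T, ∀ y, Adj x y ↔ y ∈ zpowers g := fun x hx y =>
    (adj_congr (hTeq x hx)).trans (hS y)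
  obtain ⟨g₀, hg₀, hmax⟩ := Set.exists_max_image T (fun x => orderOf (e x)) (Set.toFinite _)
    ⟨g, mem_zpowers g, rfl⟩
  set h := e g₀ with hh
  set m := orderOf h with hm
  have hSH : ∀ y : H, Adj h y ↔ e.symm y ∈ zpowers g := fun y => by
    rw [← hTS g₀ hg₀, he g₀ (e.symm y), e.apply_symm_apply]
  have hh1 : h ≠ 1 := fun hh' => by
    rw [hh, ← he1, e.injective.eq_iff] at hh'
    rw [hh'] at hg₀
    exact hn1.ne' (by rw [← hg₀.2, orderOf_one])
  -- the vertices universal in `C`
  have hUC : ∀ x ∈ zpowers g, x ≠ 1 → x ∉ T → ∃ z ∈ zpowers g, ¬ Adj x z := fun x hx hx1 hxT =>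
    exists_nonadj hx hx1 (fun e' => hxT ⟨hx, by rw [hn, ← Nat.card_zpowers, e', Nat.card_zpowers]⟩) hnpp
  by_cases hmpp : IsPrimePow m
  · exfalso
    obtain ⟨P, a, hP, ha0, hPa⟩ := (isPrimePow_nat_iff m).mp hmpp
    haveI := Fact.mk hP
    have hchain : ∀ x ∈ zpowers h, ∀ y ∈ zpowers h, Adj x y := by
      intro x hx y hy
      have hx' := orderOf_dvd_of_mem_zpowers hx
      have hy' := orderOf_dvd_of_mem_zpowers hy
      rw [← hm, ← hPa] at hx' hy'
      obtain ⟨i, -, hi⟩ := (Nat.dvd_prime_pow hP).mp hx'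
      obtain ⟨j, -, hj⟩ := (Nat.dvd_prime_pow hP).mp hy'
      have key : ∀ u v : H, u ∈ zpowers h → v ∈ zpowers h → orderOf u ∣ orderOf v → u ∈ zpowers v := by
        intro u v hu hv huv
        obtain ⟨w, hw, hwo⟩ := exists_mem_order huv
        have : zpowers u = zpowers w := by
          have hc : IsCyclic (zpowers h) := inferInstance
          have h1 : (zpowers u).subgroupOf (zpowers h) = (zpowers w).subgroupOf (zpowers h) := by
            refine subgroup_eq_of_card ?_
            rw [Nat.card_congr (subgroupOfEquivOfLe (zpowers_le.mpr hu)).toEquiv,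
              Nat.card_congr (subgroupOfEquivOfLe (zpowers_le.mpr ((zpowers_le.mpr hv) hw))).toEquiv,
              Nat.card_zpowers, Nat.card_zpowers, hwo]
          have h2 := congrArg (Subgroup.map (zpowers h).subtype) h1
          rwa [map_subgroupOf_eq_of_le (zpowers_le.mpr hu),
            map_subgroupOf_eq_of_le (zpowers_le.mpr ((zpowers_le.mpr hv) hw))] at h2
        exact (zpowers_le.mpr hw) (this ▸ mem_zpowers u)
      rcases le_total i j with hij | hij
      · exact Or.inl (key x y hx hy (by rw [hi, hj]; exact pow_dvd_pow P hij))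
      · exact Or.inr (key y x hy hx (by rw [hi, hj]; exact pow_dvd_pow P hij))
    -- the universal vertices of the neighbourhood
    have hU1 : ∀ x : H, x ∈ zpowers h ↔ (e.symm x = 1 ∨ e.symm x ∈ T) := by
      intro x
      constructor
      · intro hx
        by_contra hne
        push Not at hne
        obtain ⟨z, hz, hnz⟩ := hUC _ ((hSH x).mp (Or.inr hx)) hne.1 hne.2
        refine hnz ((he _ _).mpr ?_)
        rw [e.apply_symm_apply]
        rcases (hSH (e z)).mpr (by rwa [e.symm_apply_apply]) with h1 | h1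
        · exact Or.inl ((zpowers_le.mpr h1) hx)
        · exact hchain x hx _ h1
      · rintro (hx | hx)
        · rw [show x = 1 by rw [← e.apply_symm_apply x, hx, he1]]; exact one_mem _
        · rcases (hSH x).mpr hx.1 with h1 | h1
          swap
          · exact h1
          have hle := hmax _ hx
          rw [e.apply_symm_apply] at hle
          have h2 : zpowers h = zpowers x := eq_of_le_of_card_ge (zpowers_le.mpr h1) (by
            rw [Nat.card_zpowers, Nat.card_zpowers]; exact hle)
          exact h2 ▸ mem_zpowers x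
    have hTcard : Nat.card T = Nat.totient n := by
      haveI : Fintype (zpowers g) := Fintype.ofFinite _
      let f : T ≃ {x : zpowers g // orderOf x = n} :=
        { toFun := fun x => ⟨⟨x.1, x.2.1⟩, by rw [← Subgroup.orderOf_coe]; exact x.2.2⟩
          invFun := fun x => ⟨x.1.1, x.1.2, by rw [Subgroup.orderOf_coe]; exact x.2⟩
          left_inv := fun x => rfl
          right_inv := fun x => rfl }
      rw [Nat.card_congr f, Nat.card_eq_fintype_card, Fintype.card_subtype]
      refine IsCyclic.card_orderOf_eq_totient ?_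
      rw [← Nat.card_eq_fintype_card, Nat.card_zpowers]
    have hm' : m = Nat.totient n + 1 := by
      rw [hm, ← Nat.card_zpowers, ← hTcard]
      have h1 : (1 : G) ∉ T := fun h1 => hn1.ne' (by rw [← h1.2, orderOf_one])
      have h2 : Nat.card (zpowers h) = Nat.card (insert 1 T : Set G) := Nat.card_congr
        { toFun := fun x => ⟨e.symm x.1, (hU1 x.1).mp x.2⟩
          invFun := fun x => ⟨e x.1, (hU1 _).mpr (by rw [e.symm_apply_apply]; exact x.2)⟩
          left_inv := fun x => Subtype.ext (e.apply_symm_apply _)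
          right_inv := fun x => Subtype.ext (e.symm_apply_apply _) }
      rw [h2, Nat.card_coe_set_eq, Nat.card_coe_set_eq, Set.ncard_insert_of_notMem h1 (Set.toFinite _)]
    -- the smallest prime
    set r := n.minFac with hr
    have hrp : r.Prime := Nat.minFac_prime hn1.ne'
    have hrn : r ∣ n := Nat.minFac_dvd n
    obtain ⟨z, hz, hzo⟩ := exists_mem_order (y := g) hrn
    obtain ⟨s, hs, hsn, hsr⟩ : ∃ s : ℕ, s.Prime ∧ s ∣ n ∧ s ≠ r := by
      by_cases hpr : p = r
      · exact ⟨q, hq, (dvd_mul_left q p).trans hgd, fun h' => hpq (hpr.trans h'.symm)⟩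
      · exact ⟨p, hp, (dvd_mul_right p q).trans hgd, hpr⟩
    set y := e z with hy
    have hzT : z ∉ T := fun h' => hsr ((Nat.prime_dvd_prime_iff_eq hs hrp).mp (by rw [← hzo, h'.2]; exact hsn))
    have hz1 : z ≠ 1 := fun h' => hrp.ne_one (by rw [← hzo, h', orderOf_one])
    have hyh : y ∉ zpowers h := by
      rw [hU1, hy, e.symm_apply_apply]
      exact fun h' => h'.elim hz1 hzT
    have hhy : h ∈ zpowers y := ((hSH y).mpr (by rwa [hy, e.symm_apply_apply])).resolve_right hyh
    -- the twins of `z`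
    have htwin : ∀ x ∈ zpowers g, (∀ w ∈ zpowers g, Adj x w ↔ Adj z w) → orderOf x = r := by
      intro x hx htw
      have hxz : Adj x z := (htw z hz).mpr (adj_refl z)
      have hnon : ∀ w : G, orderOf w = s → ¬ Adj z w := fun w hw ha => by
        rcases ha.dvd with h1 | h1 <;> rw [hzo, hw] at h1
        · exact hsr ((Nat.prime_dvd_prime_iff_eq hrp hs).mp h1).symm
        · exact hsr ((Nat.prime_dvd_prime_iff_eq hs hrp).mp h1)
      obtain ⟨w, hw, hwo⟩ := exists_mem_order (y := g) hsn
      have hrx : r ∣ orderOf x := by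
        rcases hxz.dvd with h1 | h1
        · rw [hzo] at h1
          rcases (Nat.dvd_prime hrp).mp h1 with e1 | e1
          · exact absurd ((htw w hw).mp (Or.inl (by rw [orderOf_eq_one_iff.mp e1]; exact one_mem _))) (hnon w hwo)
          · rw [e1]
        · rwa [hzo] at h1
      have honly : ∀ t : ℕ, t.Prime → t ∣ orderOf x → t = r := by
        intro t ht htx
        by_contra htr
        obtain ⟨v, hv, hvo⟩ := exists_mem_order htx
        rcases ((htw v ((zpowers_le.mpr hx) hv)).mp (Or.inr hv)).dvd with h1 | h1 <;> rw [hzo, hvo] at h1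
        · exact htr ((Nat.prime_dvd_prime_iff_eq hrp ht).mp h1).symm
        · exact htr ((Nat.prime_dvd_prime_iff_eq ht hrp).mp h1)
      by_contra hne
      have hr2 : r * r ∣ orderOf x := by
        obtain ⟨c, hc⟩ := hrx
        have hc1 : c ≠ 1 := fun e1 => hne (by rw [hc, e1, mul_one])
        obtain ⟨t, ht, htc⟩ := Nat.exists_prime_and_dvd hc1
        rw [hc]
        exact mul_dvd_mul_left r (honly t ht (hc ▸ htc.mul_left r) ▸ htc)
      obtain ⟨v, hv, hvo⟩ := exists_mem_order (y := g) (show r * s ∣ n from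
        ((Nat.coprime_primes hrp hs).mpr hsr.symm).mul_dvd_of_dvd_of_dvd hrn hsn)
      have h1 : Adj z v := by
        refine Or.inl ?_
        obtain ⟨z', hz', hz'o⟩ := exists_mem_order (y := v) (show r ∣ orderOf v from hvo ▸ dvd_mul_right r s)
        have : (zpowers z).subgroupOf (zpowers g) = (zpowers z').subgroupOf (zpowers g) := by
          refine subgroup_eq_of_card ?_
          rw [Nat.card_congr (subgroupOfEquivOfLe (zpowers_le.mpr hz)).toEquiv,
            Nat.card_congr (subgroupOfEquivOfLe (zpowers_le.mpr ((zpowers_le.mpr hv) hz'))).toEquiv,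
            Nat.card_zpowers, Nat.card_zpowers, hzo, hz'o]
        have h2 := congrArg (Subgroup.map (zpowers g).subtype) this
        rw [map_subgroupOf_eq_of_le (zpowers_le.mpr hz),
          map_subgroupOf_eq_of_le (zpowers_le.mpr ((zpowers_le.mpr hv) hz'))] at h2
        exact (zpowers_le.mpr hz') (h2 ▸ mem_zpowers z)
      rcases ((htw v hv).mpr h1).dvd with h3 | h3 <;> rw [hvo] at h3
      · exact hsr ((Nat.prime_dvd_prime_iff_eq hrp hs).mp
          (Nat.dvd_of_mul_dvd_mul_left hrp.pos (hr2.trans h3))).symm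
      · exact hsr (honly s hs ((dvd_mul_left s r).trans h3))
    have hcount : Nat.totient (orderOf y) ≤ Nat.totient r := by
      haveI : Fintype (zpowers y) := Fintype.ofFinite _
      haveI : Fintype (zpowers g) := Fintype.ofFinite _
      have h1 := IsCyclic.card_orderOf_eq_totient (α := zpowers y) (d := orderOf y)
        (by rw [← Nat.card_eq_fintype_card, Nat.card_zpowers])
      have h2 := IsCyclic.card_orderOf_eq_totient (α := zpowers g) (d := r)
        (by rw [← Nat.card_eq_fintype_card, Nat.card_zpowers]; exact hrn)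
      rw [← h1, ← h2, ← Fintype.card_subtype, ← Fintype.card_subtype, ← Nat.card_eq_fintype_card,
        ← Nat.card_eq_fintype_card]
      have hmem : ∀ w : {w : zpowers y // orderOf w = orderOf y}, zpowers (w.1 : H) = zpowers y := fun w =>
        eq_of_le_of_card_ge (zpowers_le.mpr w.1.2) (by
          rw [Nat.card_zpowers, Nat.card_zpowers, Subgroup.orderOf_coe, w.2])
      have hin : ∀ w : {w : zpowers y // orderOf w = orderOf y}, e.symm (w.1 : H) ∈ zpowers g := fun w =>
        (hSH _).mp (Or.inl ((hmem w).ge hhy))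
      refine Nat.card_le_card_of_injective (fun w => ⟨⟨e.symm (w.1 : H), hin w⟩, ?_⟩) fun w w' hww => ?_
      · rw [← Subgroup.orderOf_coe]
        refine htwin _ (hin w) fun v _ => ?_
        rw [he, e.apply_symm_apply, he z v]
        exact adj_congr (hmem w)
      · have := congrArg (fun t => ((t.1 : zpowers g) : G)) hww
        exact Subtype.ext (Subtype.ext (e.symm.injective this))
    have htot : Nat.totient m ∣ Nat.totient (orderOf y) :=
      Nat.totient_dvd_of_dvd (orderOf_dvd_of_mem_zpowers hhy)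
    have h1 : Nat.totient m ≤ r - 1 :=
      (Nat.le_of_dvd (Nat.totient_pos.mpr (orderOf_pos y)) htot).trans
        (hcount.trans (Nat.totient_prime hrp).le)
    have hrs : (r - 1) * (s - 1) ≤ Nat.totient n := by
      rw [← Nat.totient_prime hrp, ← Nat.totient_prime hs,
        ← Nat.totient_mul ((Nat.coprime_primes hrp hs).mpr hsr.symm)]
      exact Nat.le_of_dvd (Nat.totient_pos.mpr (orderOf_pos g))
        (Nat.totient_dvd_of_dvd (((Nat.coprime_primes hrp hs).mpr hsr.symm).mul_dvd_of_dvd_of_dvd hrn hsn))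
    have hrs2 : 2 ≤ s - 1 := by
      have := Nat.minFac_le_of_dvd hs.two_le hsn
      have := hrp.two_le
      rw [← hr] at *
      omega
    have h2 : 2 * (r - 1) ≤ Nat.totient n :=
      le_trans (by rw [mul_comm]; exact Nat.mul_le_mul_left _ hrs2) hrs
    have hnev : Even (Nat.totient n) := Nat.totient_even (by
      have := hrp.two_le; have := hs.two_le
      have := Nat.le_of_dvd (orderOf_pos g) (((Nat.coprime_primes hrp hs).mpr hsr.symm).mul_dvd_of_dvd_of_dvd hrn hsn)
      nlinarith)
    have hP3 : 3 ≤ P := by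
      rcases hP.eq_two_or_odd' with rfl | hodd
      · exfalso
        obtain ⟨t, ht⟩ := hnev
        have : 2 ∣ m := hPa ▸ dvd_pow_self 2 ha0.ne'
        omega
      · have := hP.two_le; obtain ⟨t, ht⟩ := hodd; omega
    obtain ⟨b, rfl⟩ : ∃ b, a = b + 1 := ⟨a - 1, by omega⟩
    rw [← hPa, Nat.totient_prime_pow_succ hP] at h1
    rw [← hPa, pow_succ] at hm'
    have h3 : 2 * P ≤ 3 * (P - 1) := by omega
    have h4 : 2 * (P ^ b * P) ≤ 3 * (P ^ b * (P - 1)) := by
      calc 2 * (P ^ b * P) = P ^ b * (2 * P) := by ring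
        _ ≤ P ^ b * (3 * (P - 1)) := Nat.mul_le_mul_left _ h3
        _ = 3 * (P ^ b * (P - 1)) := by ring
    omega
  · -- `h` generates the image
    refine ⟨h, ?_⟩
    have hB : ∀ y : H, h ∈ zpowers y → y ∈ zpowers h := by
      intro y hy
      by_contra hyh
      have hne : zpowers h ≠ zpowers y := fun e' => hyh (e' ▸ mem_zpowers y)
      have hypp : ¬ IsPrimePow (orderOf y) := fun h' =>
        hmpp (h'.dvd (orderOf_dvd_of_mem_zpowers hy) (mt orderOf_eq_one_iff.mp hh1))
      obtain ⟨z, hz, hnz⟩ := exists_nonadj hy hh1 hne hypp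
      set y₀ := e.symm y with hy₀
      have hy₀S : y₀ ∈ zpowers g := (hSH y).mp (Or.inl hy)
      have hy₀1 : y₀ ≠ 1 := fun h' => by
        have h2 : y = 1 := by rw [← e.apply_symm_apply y, ← hy₀, h', he1]
        exact hyh (h2 ▸ one_mem _)
      have hy₀T : y₀ ∉ T := fun h' => hnz ((hSH z).mpr ((hTS y₀ h' _).mp (by
        rw [he, hy₀, e.apply_symm_apply, e.apply_symm_apply]; exact Or.inr hz)))
      -- the full prime powers map to one side
      obtain ⟨v₀, hv₀, hnv₀⟩ := hUC y₀ hy₀S hy₀1 hy₀T
      have hside : ∀ v ∈ zpowers g, e v ∈ zpowers h ∨ h ∈ zpowers (e v) := fun v hv =>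
        ((hSH (e v)).mpr (by rwa [e.symm_apply_apply])).symm
      have hcross : ∀ u v, u ∈ zpowers g → v ∈ zpowers g → e u ∈ zpowers h → e v ∉ zpowers h → Adj u v :=
        fun u v hu hv h1 h2 => (he u v).mpr (Or.inl ((zpowers_le.mpr ((hside v hv).resolve_left h2)) h1))
      -- an element below `h` with a non-neighbour
      obtain ⟨d, hd, hdpp, hd'⟩ : ∃ d : H, d ∈ zpowers h ∧ d ≠ 1 ∧ zpowers d ≠ zpowers h := by
        obtain ⟨t, ht, htm⟩ := Nat.exists_prime_and_dvd (n := m) (mt orderOf_eq_one_iff.mp hh1)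
        obtain ⟨d, hd, hdo⟩ := exists_mem_order htm
        exact ⟨d, hd, fun h' => ht.ne_one (by rw [← hdo, h', orderOf_one]), fun h' => hmpp (by
          rw [hm, ← Nat.card_zpowers, ← h', Nat.card_zpowers, hdo]; exact ht.isPrimePow)⟩
      obtain ⟨w, hw, hnw⟩ := exists_nonadj hd hdpp hd' hmpp
      set d₀ := e.symm d
      have hd₀S : d₀ ∈ zpowers g := (hSH d).mp (Or.inr hd)
      have hd₀ : ¬ Adj d₀ (e.symm w) := fun h' => hnw ((he' _ _).mpr h')
      -- connectedness
      have key : ∀ s : ℕ, s.Prime → s ∣ n → ∀ t : ℕ, t.Prime → t ∣ n → ∀ a b : G, a ∈ zpowers g → b ∈ zpowers g →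
          orderOf a = s ^ n.factorization s → orderOf b = t ^ n.factorization t →
          (e a ∈ zpowers h ↔ e b ∈ zpowers h) := by
        intro s hs hsn t ht htn a b ha hb hao hbo
        have hpos : ∀ {s : ℕ}, s.Prime → s ∣ n → n.factorization s ≠ 0 := fun {s} hs hsn =>
          (hs.factorization_pos_of_dvd (orderOf_pos g).ne' hsn).ne'
        by_cases hst : s = t
        · subst hst
          have hzz : zpowers a = zpowers b := by
            have h1 : (zpowers a).subgroupOf (zpowers g) = (zpowers b).subgroupOf (zpowers g) := by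
              refine subgroup_eq_of_card ?_
              rw [Nat.card_congr (subgroupOfEquivOfLe (zpowers_le.mpr ha)).toEquiv,
                Nat.card_congr (subgroupOfEquivOfLe (zpowers_le.mpr hb)).toEquiv,
                Nat.card_zpowers, Nat.card_zpowers, hao, hbo]
            have h2 := congrArg (Subgroup.map (zpowers g).subtype) h1
            rwa [map_subgroupOf_eq_of_le (zpowers_le.mpr ha), map_subgroupOf_eq_of_le (zpowers_le.mpr hb)] at h2
          -- both are non-adjacent to a common element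
          obtain ⟨t, ht, htn', hts⟩ : ∃ t : ℕ, t.Prime ∧ t ∣ n ∧ t ≠ s := by
            by_cases hps : p = s
            · exact ⟨q, hq, (dvd_mul_left q p).trans hgd, fun h' => hpq (hps.trans h'.symm)⟩
            · exact ⟨p, hp, (dvd_mul_right p q).trans hgd, hps⟩
          obtain ⟨c, hc, hco⟩ := exists_mem_order (y := g) htn'
          have hnc : ∀ a : G, orderOf a = s ^ n.factorization s → ¬ Adj a c := fun a hao h' => by
            rcases h'.dvd with h1 | h1 <;> rw [hao, hco] at h1
            · exact hts ((Nat.prime_dvd_prime_iff_eq hs ht).mp ((dvd_pow_self s (hpos hs hsn)).trans h1)).symm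
            · exact hts ((Nat.prime_dvd_prime_iff_eq ht hs).mp (ht.dvd_of_dvd_pow h1))
          by_cases hca : e c ∈ zpowers h
          · constructor
            · intro; by_contra h2; exact hnc b hbo (hcross c b hc hb hca h2).symm
            · intro; by_contra h2; exact hnc a hao (hcross c a hc ha hca h2).symm
          · exact iff_of_false (fun h1 => hnc a hao (hcross a c ha hc h1 hca))
              (fun h1 => hnc b hbo (hcross b c hb hc h1 hca))
        · have hnab : ¬ Adj a b := fun h' => by
            rcases h'.dvd with h1 | h1 <;> rw [hao, hbo] at h1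
            · exact hst ((Nat.prime_dvd_prime_iff_eq hs ht).mp
                (hs.dvd_of_dvd_pow ((dvd_pow_self s (hpos hs hsn)).trans h1)))
            · exact hst ((Nat.prime_dvd_prime_iff_eq ht hs).mp
                (ht.dvd_of_dvd_pow ((dvd_pow_self t (hpos ht htn)).trans h1))).symm
          constructor
          · intro h1; by_contra h2; exact hnab (hcross a b ha hb h1 h2)
          · intro h1; by_contra h2; exact hnab (hcross b a hb ha h1 h2).symm
      -- every vertex of `C` with a non-neighbour has one of full prime power order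
      have hfull : ∀ x ∈ zpowers g, ∀ w ∈ zpowers g, ¬ Adj x w → ∃ s : ℕ, s.Prime ∧ s ∣ n ∧
          ∃ a ∈ zpowers g, orderOf a = s ^ n.factorization s ∧ ¬ Adj x a := by
        intro x hx w hw hnw
        have hx1 : x ≠ 1 := fun h' => hnw (Or.inl (h' ▸ one_mem _))
        have hnz : n ≠ 0 := (orderOf_pos g).ne'
        have hxn : orderOf x ∣ n := orderOf_dvd_of_mem_zpowers hx
        have hxne : orderOf x ≠ n := fun h' => hnw ((hTS x ⟨hx, h'⟩ w).mpr hw)
        obtain ⟨s, hs, hsx⟩ : ∃ s : ℕ, s.Prime ∧ ¬ s ^ n.factorization s ∣ orderOf x := by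
          by_contra hall
          push Not at hall
          refine hxne (Nat.dvd_antisymm hxn ?_)
          rw [← Nat.factorization_le_iff_dvd hnz (orderOf_pos x).ne']
          intro s
          by_cases hs : s.Prime
          · exact (hs.pow_dvd_iff_le_factorization (orderOf_pos x).ne').mp (hall s hs)
          · simp [Nat.factorization_eq_zero_of_not_prime _ hs]
        have hsn : s ∣ n := Nat.dvd_of_factorization_pos (fun h0 => hsx (by rw [h0, pow_zero]; exact one_dvd _))
        by_cases hd : orderOf x ∣ s ^ n.factorization s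
        · obtain ⟨t, ht, htn, hts⟩ : ∃ t : ℕ, t.Prime ∧ t ∣ n ∧ t ≠ s := by
            by_cases hps : p = s
            · exact ⟨q, hq, (dvd_mul_left q p).trans hgd, fun h' => hpq (hps.trans h'.symm)⟩
            · exact ⟨p, hp, (dvd_mul_right p q).trans hgd, hps⟩
          obtain ⟨a, ha, hao⟩ := exists_mem_order (y := g) (Nat.ordProj_dvd n t)
          refine ⟨t, ht, htn, a, ha, hao, fun h' => ?_⟩
          rcases h'.dvd with h1 | h1
          · rw [hao] at h1
            exact hx1 (orderOf_eq_one_iff.mp (Nat.eq_one_of_dvd_coprimes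
              (Nat.Coprime.pow _ _ ((Nat.coprime_primes ht hs).mpr hts)) h1 hd))
          · rw [hao] at h1
            exact hts ((Nat.prime_dvd_prime_iff_eq ht hs).mp (ht.dvd_of_dvd_pow
              ((dvd_pow_self t (ht.factorization_pos_of_dvd hnz htn).ne').trans (h1.trans hd))))
        · obtain ⟨a, ha, hao⟩ := exists_mem_order (y := g) (Nat.ordProj_dvd n s)
          exact ⟨s, hs, hsn, a, ha, hao, fun h' => h'.dvd.elim (hao ▸ hd) (hao ▸ hsx)⟩
      obtain ⟨s, hs, hsn, a, ha, hao, hda⟩ := hfull d₀ hd₀S _ ((hSH w).mp (Or.inr hw)) hd₀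
      obtain ⟨t, ht, htn, b, hb, hbo, hyb⟩ := hfull y₀ hy₀S v₀ hv₀ hnv₀
      have hed : e d₀ ∈ zpowers h := by rw [e.apply_symm_apply]; exact hd
      have hey : e y₀ ∉ zpowers h := by rw [hy₀, e.apply_symm_apply]; exact hyh
      have hea : e a ∈ zpowers h := by_contra fun h' => hda (hcross d₀ a hd₀S ha hed h')
      exact hyb (hcross b y₀ hb hy₀S ((key s hs hsn t ht htn a b ha hb hao hbo).mp hea) hey).symm
    have hcard : orderOf h = n := by
      rw [hn, ← Nat.card_zpowers, ← Nat.card_zpowers]
      exact Nat.card_congr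
        { toFun := fun x => ⟨e.symm x.1, (hSH x.1).mp (Or.inr x.2)⟩
          invFun := fun x => ⟨e x.1, ((hSH _).mpr (by rw [e.symm_apply_apply]; exact x.2)).elim (hB _) id⟩
          left_inv := fun x => Subtype.ext (e.apply_symm_apply _)
          right_inv := fun x => Subtype.ext (e.symm_apply_apply _) }
    rw [hcard]; exact hgd

end CfsgLib.PowerGraph
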