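/-
The Steinberg relations of type A1 over a finite field: the diagonal elements are multiplicative.
-/
import Mathlib

namespace CfsgLib.SL2St

variable {G K : Type*} [Group G] [Field K]

/-- The element `w(t)`. -/
def W (x y : K → G) (t : K) : G := x t * y (-t⁻¹) * x t

/-- The element `h(t)`. -/
def H (x y : K → G) (t : K) : G := W x y t * W x y (-1)

/-- The subgroup generated by the two unipotent families. -/
def gen (x y : K → G) : Subgroup G := Subgroup.closure (Set.range x ∪ Set.range y)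

/-- Additivity and the conjugation relations of type A1. -/
structure Rels (x y : K → G) : Prop where
  addx : ∀ a b, x (a + b) = x a * x b
  addy : ∀ a b, y (a + b) = y a * y b
  conjx : ∀ t u, t ≠ 0 → W x y t * x u * (W x y t)⁻¹ = y (-(t⁻¹ ^ 2 * u))
  conjy : ∀ t u, t ≠ 0 → W y x t * y u * (W y x t)⁻¹ = x (-(t⁻¹ ^ 2 * u))

namespace Rels

variable {x y : K → G}

theorem symm (R : Rels x y) : Rels y x := ⟨R.addy, R.addx, R.conjy, R.conjx⟩

variable (R : Rels x y)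
include R

theorem x_zero : x 0 = 1 := by
  have := R.addx 0 0
  rw [add_zero] at this
  exact mul_left_cancel (this.symm.trans (mul_one _).symm)

theorem x_neg (a : K) : x (-a) = (x a)⁻¹ :=
  eq_inv_of_mul_eq_one_left (by rw [← R.addx, neg_add_cancel, R.x_zero])

theorem W_neg (t : K) : W x y (-t) = (W x y t)⁻¹ := by
  simp only [W, inv_neg, neg_neg, R.x_neg, R.symm.x_neg]
  group

theorem W_conj_y {t : K} (ht : t ≠ 0) (v : K) :
    W x y t * y v * (W x y t)⁻¹ = x (-(t ^ 2 * v)) := by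
  have h := R.conjx (-t) (-(t ^ 2 * v)) (neg_ne_zero.mpr ht)
  rw [R.W_neg, inv_inv, show -((-t)⁻¹ ^ 2 * -(t ^ 2 * v)) = v by field_simp] at h
  rw [← h]; group

theorem W_swap {t : K} (ht : t ≠ 0) : W y x (-t⁻¹) = W x y t := by
  have h1 := R.conjx t t ht
  have h2 := R.W_conj_y ht (-t⁻¹)
  rw [show -(t⁻¹ ^ 2 * t) = -t⁻¹ by field_simp] at h1
  rw [show -(t ^ 2 * -t⁻¹) = t by field_simp] at h2
  simp only [W, inv_neg, inv_inv, neg_neg]
  calc y (-t⁻¹) * x t * y (-t⁻¹)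
      = (W x y t * x t * (W x y t)⁻¹) * (W x y t * y (-t⁻¹) * (W x y t)⁻¹) *
          (W x y t * x t * (W x y t)⁻¹) := by rw [h1, h2]
    _ = W x y t := by simp only [W]; group

theorem W_conj_W {t u : K} (ht : t ≠ 0) (hu : u ≠ 0) :
    W x y t * W x y u * (W x y t)⁻¹ = W x y (t ^ 2 * u⁻¹) := by
  rw [← R.W_swap (t := t ^ 2 * u⁻¹) (mul_ne_zero (pow_ne_zero _ ht) (inv_ne_zero hu))]
  conv_lhs => arg 1; arg 2; rw [W]
  have e1 := R.conjx t u ht
  have e2 := R.W_conj_y ht (-u⁻¹)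
  rw [show W x y t * (x u * y (-u⁻¹) * x u) * (W x y t)⁻¹ =
    (W x y t * x u * (W x y t)⁻¹) * (W x y t * y (-u⁻¹) * (W x y t)⁻¹) *
      (W x y t * x u * (W x y t)⁻¹) by group, e1, e2, W]
  have a1 : -(t⁻¹ ^ 2 * u) = -(t ^ 2 * u⁻¹)⁻¹ := by field_simp
  rw [← a1, show -(t ^ 2 * -u⁻¹) = -(-(t⁻¹ ^ 2 * u))⁻¹ by field_simp]

theorem H_one : H x y 1 = 1 := by rw [H, R.W_neg, mul_inv_cancel]

theorem H_conj_x {t : K} (ht : t ≠ 0) (a : K) :
    H x y t * x a * (H x y t)⁻¹ = x (t ^ 2 * a) := by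
  rw [H, show W x y t * W x y (-1) * x a * (W x y t * W x y (-1))⁻¹ =
    W x y t * (W x y (-1) * x a * (W x y (-1))⁻¹) * (W x y t)⁻¹ by group,
    R.conjx _ _ (neg_ne_zero.mpr one_ne_zero), R.W_conj_y ht]
  congr 1; field_simp

theorem H_conj_y {t : K} (ht : t ≠ 0) (a : K) :
    H x y t * y a * (H x y t)⁻¹ = y (t⁻¹ ^ 2 * a) := by
  rw [H, show W x y t * W x y (-1) * y a * (W x y t * W x y (-1))⁻¹ =
    W x y t * (W x y (-1) * y a * (W x y (-1))⁻¹) * (W x y t)⁻¹ by group,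
    R.W_conj_y (neg_ne_zero.mpr one_ne_zero), R.conjx _ _ ht]
  congr 1; field_simp

theorem H_conj_H {t u : K} (ht : t ≠ 0) (hu : u ≠ 0) :
    H x y t * H x y u * (H x y t)⁻¹ = H x y (t ^ 2 * u) * (H x y (t ^ 2))⁻¹ := by
  have key : ∀ v : K, v ≠ 0 → H x y t * W x y v * (H x y t)⁻¹ = W x y (t ^ 2 * v) := by
    intro v hv
    rw [H, show W x y t * W x y (-1) * W x y v * (W x y t * W x y (-1))⁻¹ =
      W x y t * (W x y (-1) * W x y v * (W x y (-1))⁻¹) * (W x y t)⁻¹ by group,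
      R.W_conj_W (neg_ne_zero.mpr one_ne_zero) hv,
      R.W_conj_W ht (mul_ne_zero (pow_ne_zero _ (neg_ne_zero.mpr one_ne_zero)) (inv_ne_zero hv))]
    congr 1; field_simp
  calc H x y t * H x y u * (H x y t)⁻¹
      = (H x y t * W x y u * (H x y t)⁻¹) * (H x y t * W x y (-1) * (H x y t)⁻¹) := by
        conv_lhs => arg 1; arg 2; rw [H]
        group
    _ = W x y (t ^ 2 * u) * W x y (-(t ^ 2)) := by
        rw [key u hu, key (-1) (neg_ne_zero.mpr one_ne_zero), mul_neg_one]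
    _ = _ := by simp only [H, R.W_neg]; group

/-- The identity behind the vanishing of the symbol. -/
theorem H_mul_of_add_eq_one {u v : K} (hu : u ≠ 0) (hv : v ≠ 0) (h : u + v = 1) :
    H x y u * H x y v = H x y (u * v) := by
  have e1 : W x y (-1) = y 1 * x (-1) * y 1 := by
    rw [← R.W_swap (neg_ne_zero.mpr one_ne_zero), W]; simp
  have e2 : W x y u * y 1 * (W x y u)⁻¹ = x (-(u ^ 2)) := by rw [R.W_conj_y hu, mul_one]
  have e3 : (W x y v)⁻¹ * y 1 * W x y v = x (-(v ^ 2)) := by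
    have := R.W_conj_y (neg_ne_zero.mpr hv) 1
    rw [R.W_neg, inv_inv, mul_one, neg_sq] at this
    exact this
  have m : W x y u * W x y (-1) * W x y v = W x y (u * v) := by
    rw [e1, show W x y u * (y 1 * x (-1) * y 1) * W x y v =
      (W x y u * y 1 * (W x y u)⁻¹) * (W x y u * x (-1) * W x y v) *
        ((W x y v)⁻¹ * y 1 * W x y v) by group, e2, e3]
    have a1 : x u * x (-1) * x v = 1 := by
      rw [← R.addx, ← R.addx, show u + -1 + v = 0 by linear_combination h, R.x_zero]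
    have a2 : -(u ^ 2) + u = u * v := by linear_combination (-u) * h
    have a3 : v + -(v ^ 2) = u * v := by linear_combination (-v) * h
    have a4 : -u⁻¹ + -v⁻¹ = -(u * v)⁻¹ := by field_simp; linear_combination (-1 : K) * h
    calc x (-(u ^ 2)) * (W x y u * x (-1) * W x y v) * x (-(v ^ 2))
        = (x (-(u ^ 2)) * x u) * y (-u⁻¹) * (x u * x (-1) * x v) * y (-v⁻¹) *
            (x v * x (-(v ^ 2))) := by simp only [W]; group
      _ = x (u * v) * (y (-u⁻¹) * y (-v⁻¹)) * x (u * v) := by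
        rw [a1, ← R.addx, ← R.addx, a2, a3]; group
      _ = W x y (u * v) := by rw [← R.addy, a4]; rfl
  rw [H, H, H, ← m]; group

theorem H_mem_gen (t : K) : H x y t ∈ gen x y := by
  have hx : ∀ a, x a ∈ gen x y := fun a => Subgroup.subset_closure (Or.inl ⟨a, rfl⟩)
  have hy : ∀ a, y a ∈ gen x y := fun a => Subgroup.subset_closure (Or.inr ⟨a, rfl⟩)
  exact mul_mem (mul_mem (mul_mem (hx _) (hy _)) (hx _)) (mul_mem (mul_mem (hx _) (hy _)) (hx _))

theorem symbol_central {s t : K} (hs : s ≠ 0) (ht : t ≠ 0) :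
    H x y s * H x y t * (H x y (s * t))⁻¹ ∈ Subgroup.centralizer (gen x y : Set G) := by
  have conjinv : ∀ (g : G) (f : K → G) (c : K → K) (a b : K), (∀ a, g * f a * g⁻¹ = f (c a)) →
      c b = a → g⁻¹ * f a * g = f b := by
    intro g f c a b hg hb
    rw [← hb, ← hg b]; group
  rw [Subgroup.mem_centralizer_iff]
  intro g hg
  induction hg using Subgroup.closure_induction with
  | mem g hg =>
    rcases hg with ⟨a, rfl⟩ | ⟨a, rfl⟩
    · have := conjinv _ x _ a ((s * t)⁻¹ ^ 2 * a) (R.H_conj_x (mul_ne_zero hs ht))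
        (by field_simp)
      have h2 : H x y s * H x y t * (H x y (s * t))⁻¹ * x a *
          (H x y s * H x y t * (H x y (s * t))⁻¹)⁻¹ = x a := by
        rw [show H x y s * H x y t * (H x y (s * t))⁻¹ * x a *
          (H x y s * H x y t * (H x y (s * t))⁻¹)⁻¹ = H x y s * (H x y t *
            ((H x y (s * t))⁻¹ * x a * H x y (s * t)) * (H x y t)⁻¹) * (H x y s)⁻¹ by group,
          this, R.H_conj_x ht, R.H_conj_x hs]
        congr 1; field_simp
      exact (mul_inv_eq_iff_eq_mul.mp h2).symm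
    · have := conjinv _ y _ a ((s * t) ^ 2 * a) (R.H_conj_y (mul_ne_zero hs ht))
        (by field_simp)
      have h2 : H x y s * H x y t * (H x y (s * t))⁻¹ * y a *
          (H x y s * H x y t * (H x y (s * t))⁻¹)⁻¹ = y a := by
        rw [show H x y s * H x y t * (H x y (s * t))⁻¹ * y a *
          (H x y s * H x y t * (H x y (s * t))⁻¹)⁻¹ = H x y s * (H x y t *
            ((H x y (s * t))⁻¹ * y a * H x y (s * t)) * (H x y t)⁻¹) * (H x y s)⁻¹ by group,
          this, R.H_conj_y ht, R.H_conj_y hs]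
        congr 1; field_simp
      exact (mul_inv_eq_iff_eq_mul.mp h2).symm
  | one => simp
  | mul a b _ _ ha hb => exact Commute.mul_left ha hb
  | inv a _ ha => exact Commute.inv_left ha

variable [Finite K]

theorem H_comm {s t : K} (hs : s ≠ 0) (ht : t ≠ 0) : Commute (H x y s) (H x y t) := by
  obtain ⟨g, hg⟩ := IsCyclic.exists_monoid_generator (α := Kˣ)
  set Z := Subgroup.centralizer (gen x y : Set G) ⊓ gen x y with hZ
  have key : ∀ n : ℕ, ∃ z ∈ Z, H x y ((g ^ n : Kˣ) : K) = z * H x y (g : K) ^ n := by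
    intro n
    induction n with
    | zero => exact ⟨1, one_mem _, by simp [R.H_one]⟩
    | succ n ih =>
      obtain ⟨z, hz, e⟩ := ih
      have hc : H x y ((g ^ n : Kˣ) : K) * H x y (g : K) * (H x y (((g ^ n : Kˣ) : K) * g))⁻¹ ∈ Z :=
        Subgroup.mem_inf.mpr ⟨R.symbol_central (Units.ne_zero _) (Units.ne_zero _),
          mul_mem (mul_mem (R.H_mem_gen _) (R.H_mem_gen _)) (inv_mem (R.H_mem_gen _))⟩
      refine ⟨_, mul_mem (inv_mem hc) hz, ?_⟩
      set c := H x y ((g ^ n : Kˣ) : K) * H x y (g : K) * (H x y (((g ^ n : Kˣ) : K) * g))⁻¹ with hcd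
      rw [mul_assoc, pow_succ (H x y (g : K)), ← mul_assoc z, ← e, pow_succ, Units.val_mul, hcd]
      group
  obtain ⟨n, hn⟩ := hg (Units.mk0 s hs)
  obtain ⟨m, hm⟩ := hg (Units.mk0 t ht)
  obtain ⟨z, hz, ez⟩ := key n
  obtain ⟨z', hz', ez'⟩ := key m
  have cz : ∀ {a b}, a ∈ Z → b ∈ gen x y → Commute a b := fun ha hb =>
    (Subgroup.mem_centralizer_iff.mp ha.1 _ hb).symm
  have hn' : g ^ n = Units.mk0 s hs := hn
  have hm' : g ^ m = Units.mk0 t ht := hm
  rw [hn', Units.val_mk0] at ez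
  rw [hm', Units.val_mk0] at ez'
  rw [ez, ez']
  have hp : ∀ k : ℕ, H x y (g : K) ^ k ∈ gen x y := fun k => pow_mem (R.H_mem_gen _) k
  exact ((cz hz hz'.2).mul_right (cz hz (hp m))).mul_left
    ((cz hz' (hp n)).symm.mul_right (Commute.pow_pow_self _ n m))

theorem H_sq_mul {a u : K} (ha : a ≠ 0) (hu : u ≠ 0) :
    H x y (a ^ 2 * u) = H x y u * H x y (a ^ 2) := by
  rw [← mul_inv_eq_iff_eq_mul, ← R.H_conj_H ha hu, (R.H_comm ha hu).eq, mul_inv_cancel_right]

theorem H_mul {s t : K} (hs : s ≠ 0) (ht : t ≠ 0) : H x y (s * t) = H x y s * H x y t := by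
  obtain ⟨g, hg⟩ := IsCyclic.exists_monoid_generator (α := Kˣ)
  have hg0 : (g : K) ≠ 0 := g.ne_zero
  have dec : ∀ u : K, u ≠ 0 → IsSquare u ∨ ∃ a, a ≠ 0 ∧ u = a ^ 2 * g := by
    intro u hu
    obtain ⟨n, hn⟩ := hg (Units.mk0 u hu)
    have hn' : (g : K) ^ n = u := by simpa using congrArg Units.val hn
    obtain ⟨k, rfl | rfl⟩ := n.even_or_odd'
    · exact Or.inl ⟨(g : K) ^ k, by rw [← hn', two_mul, pow_add]⟩
    · exact Or.inr ⟨(g : K) ^ k, pow_ne_zero _ hg0, by rw [← hn', pow_succ, pow_mul, pow_right_comm]⟩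
  have sqL : ∀ a u : K, a ≠ 0 → u ≠ 0 → H x y (a * a * u) = H x y (a * a) * H x y u := by
    intro a u ha hu
    rw [← sq, R.H_sq_mul ha hu, (R.H_comm hu (pow_ne_zero _ ha)).eq]
  rcases dec s hs with ⟨a, rfl⟩ | ⟨a, ha, rfl⟩
  · exact sqL a t (left_ne_zero_of_mul hs) ht
  rcases dec t ht with ⟨b, rfl⟩ | ⟨b, hb, rfl⟩
  · rw [mul_comm, sqL b _ (left_ne_zero_of_mul ht) hs]
    exact (R.H_comm ht hs).eq
  by_cases hsq : IsSquare (g : K)
  · obtain ⟨c, hc⟩ := hsq
    have hc0 : c ≠ 0 := by rintro rfl; exact hg0 (by simpa using hc)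
    rw [show a ^ 2 * (g : K) = (a * c) * (a * c) by rw [hc]; ring]
    exact sqL _ _ (mul_ne_zero ha hc0) ht
  -- the symbol vanishes at a pair of non-squares with sum one
  have hex : ∃ u : K, ¬ IsSquare u ∧ ¬ IsSquare (1 - u) := by
    by_contra hcon
    push Not at hcon
    classical
    haveI := Fintype.ofFinite K
    set S := Finset.univ.filter fun u : K => u ≠ 0 ∧ IsSquare u with hS
    set N := Finset.univ.filter fun u : K => ¬ IsSquare u with hN
    have h1 : S.card ≤ N.card := by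
      refine Finset.card_le_card_of_injOn (fun u => (g : K) * u) (fun u hu => ?_)
        (fun u _ v _ e => mul_left_cancel₀ hg0 e)
      simp only [hS, hN, Finset.mem_coe, Finset.mem_filter, Finset.mem_univ, true_and] at hu ⊢
      obtain ⟨hu0, r, rfl⟩ := hu
      rintro ⟨q, hq⟩
      have hr : r ≠ 0 := left_ne_zero_of_mul hu0
      exact hsq ⟨q / r, by field_simp; linear_combination hq⟩
    have h2 : N.card ≤ (S.erase 1).card := by
      refine Finset.card_le_card_of_injOn (fun u => 1 - u) (fun u hu => ?_)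
        (fun u _ v _ e => sub_right_injective e)
      simp only [hS, hN, Finset.mem_coe, Finset.mem_filter, Finset.mem_univ, true_and,
        Finset.mem_erase] at hu ⊢
      refine ⟨fun e => hu ?_, fun e => hu ?_, hcon u hu⟩
      · rw [sub_eq_self.mp e]; exact IsSquare.zero
      · rw [← sub_eq_zero.mp e]; exact IsSquare.one
    have h1mem : (1 : K) ∈ S := by simp [hS]
    rw [Finset.card_erase_of_mem h1mem] at h2
    have := Finset.card_pos.mpr ⟨_, h1mem⟩
    omega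
  obtain ⟨u, hu, hv⟩ := hex
  have hu0 : u ≠ 0 := fun e => hu (e ▸ IsSquare.zero)
  have hv0 : 1 - u ≠ 0 := fun e => hv (by rw [e]; exact IsSquare.zero)
  have e := R.H_mul_of_add_eq_one hu0 hv0 (by ring)
  obtain ⟨p, hp, hpu⟩ := (dec u hu0).resolve_left hu
  obtain ⟨q, hq, hqv⟩ := (dec _ hv0).resolve_left hv
  rw [hpu] at hqv
  rw [hpu, hqv, show p ^ 2 * (g : K) * (q ^ 2 * g) = (p * q) ^ 2 * (g * g) by ring,
    R.H_sq_mul hp hg0, R.H_sq_mul hq hg0, R.H_sq_mul (mul_ne_zero hp hq) (mul_ne_zero hg0 hg0),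
    show (p * q) ^ 2 = p ^ 2 * q ^ 2 by ring, R.H_sq_mul hp (pow_ne_zero _ hq)] at e
  have hcomm := R.H_comm (pow_ne_zero 2 hp) hg0
  have hcomm2 := R.H_comm (pow_ne_zero 2 hp) (pow_ne_zero 2 hq)
  have gg : H x y ((g : K) * g) = H x y (g : K) * H x y (g : K) := by
    apply mul_right_cancel (b := H x y (q ^ 2) * H x y (p ^ 2))
    rw [← e]
    simp only [mul_assoc]
    rw [← mul_assoc (H x y (p ^ 2)) (H x y (g : K)), hcomm.eq, mul_assoc, hcomm2.eq]
  have c1 := R.H_comm (pow_ne_zero 2 ha) hg0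
  rw [show a ^ 2 * (g : K) * (b ^ 2 * g) = (a * b) ^ 2 * (g * g) by ring,
    R.H_sq_mul ha hg0, R.H_sq_mul hb hg0, R.H_sq_mul (mul_ne_zero ha hb) (mul_ne_zero hg0 hg0), gg,
    show (a * b) ^ 2 = a ^ 2 * b ^ 2 by ring, R.H_sq_mul ha (pow_ne_zero _ hb)]
  simp only [mul_assoc]
  rw [← mul_assoc (H x y (a ^ 2)) (H x y (g : K)), c1.eq, mul_assoc,
    (R.H_comm (pow_ne_zero 2 ha) (pow_ne_zero 2 hb)).eq]

end Rels

end CfsgLib.SL2St

namespace CfsgLib.SL2St

variable {G K : Type*} [Group G] [Field K] {x y : K → G}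

namespace Rels

variable (R : Rels x y)
include R

/-- Elements in Bruhat normal form. -/
def Normal (_R : Rels x y) (g : G) : Prop :=
  (∃ a t, t ≠ 0 ∧ g = x a * H x y t) ∨ ∃ a t b, t ≠ 0 ∧ g = x a * H x y t * W x y 1 * x b

variable [Finite K]

theorem x_mul_normal (c : K) {g : G} (hg : R.Normal g) : R.Normal (x c * g) := by
  rcases hg with ⟨a, t, ht, rfl⟩ | ⟨a, t, b, ht, rfl⟩
  · exact Or.inl ⟨c + a, t, ht, by rw [R.addx, mul_assoc]⟩
  · exact Or.inr ⟨c + a, t, b, ht, by rw [R.addx]; simp [mul_assoc]⟩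

theorem H_inv {t : K} (ht : t ≠ 0) : H x y t⁻¹ = (H x y t)⁻¹ :=
  eq_inv_of_mul_eq_one_left (by rw [← R.H_mul (inv_ne_zero ht) ht, inv_mul_cancel₀ ht, R.H_one])

theorem H_mul_x {t : K} (ht : t ≠ 0) (a : K) : H x y t * x a = x (t ^ 2 * a) * H x y t := by
  rw [← R.H_conj_x ht, inv_mul_cancel_right]

theorem x_mul_H {t : K} (ht : t ≠ 0) (a : K) : x a * H x y t = H x y t * x (t⁻¹ ^ 2 * a) := by
  rw [R.H_mul_x ht]; congr 2; field_simp

theorem H_mul_normal {s : K} (hs : s ≠ 0) {g : G} (hg : R.Normal g) : R.Normal (H x y s * g) := by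
  rcases hg with ⟨a, t, ht, rfl⟩ | ⟨a, t, b, ht, rfl⟩
  · exact Or.inl ⟨s ^ 2 * a, s * t, mul_ne_zero hs ht, by
      rw [R.H_mul hs ht, ← mul_assoc, R.H_mul_x hs, mul_assoc]⟩
  · exact Or.inr ⟨s ^ 2 * a, s * t, b, mul_ne_zero hs ht, by
      rw [R.H_mul hs ht, ← mul_assoc, ← mul_assoc, ← mul_assoc, R.H_mul_x hs, mul_assoc (x _)]⟩

theorem W_mul_H {t : K} (ht : t ≠ 0) : W x y 1 * H x y t = H x y t⁻¹ * W x y 1 := by
  have e : H x y t * W x y 1 * (H x y t)⁻¹ = W x y (t ^ 2) := by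
    have h := R.H_conj_H ht (one_ne_zero (α := K))
    rw [H, show W x y t * W x y (-1) * W x y 1 * (W x y t * W x y (-1))⁻¹ =
      W x y t * (W x y (-1) * W x y 1 * (W x y (-1))⁻¹) * (W x y t)⁻¹ by group,
      R.W_conj_W (neg_ne_zero.mpr one_ne_zero) one_ne_zero, R.W_conj_W ht (by simp)]
    simp
  rw [mul_inv_eq_iff_eq_mul] at e
  have e2 : W x y (t ^ 2) = H x y (t ^ 2) * W x y 1 := by rw [H, R.W_neg, inv_mul_cancel_right]
  rw [e2, sq, R.H_mul ht ht, mul_assoc, mul_assoc, mul_left_cancel_iff] at e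
  rw [R.H_inv ht, eq_inv_mul_iff_mul_eq]
  exact e.symm

theorem W_mul_W : W x y 1 * W x y 1 = H x y (-1) := by
  have h := R.H_mul (neg_ne_zero.mpr (one_ne_zero (α := K))) (neg_ne_zero.mpr one_ne_zero)
  rw [neg_mul_neg, one_mul, R.H_one] at h
  rw [eq_inv_of_mul_eq_one_right h.symm, H, R.W_neg]
  simp

theorem y_eq {s : K} (hs : s ≠ 0) : y s = x s⁻¹ * H x y (-s⁻¹) * W x y 1 * x s⁻¹ := by
  have e2 : W x y (-s⁻¹) = H x y (-s⁻¹) * W x y 1 := by rw [H, R.W_neg 1, inv_mul_cancel_right]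
  rw [mul_assoc (x s⁻¹), ← e2, W, inv_neg, inv_inv, neg_neg, R.x_neg]
  group

theorem W_mul_normal {g : G} (hg : R.Normal g) : R.Normal (W x y 1 * g) := by
  have push : ∀ a : K, W x y 1 * x a = y (-a) * W x y 1 := fun a => by
    rw [← mul_inv_eq_iff_eq_mul, R.conjx 1 a one_ne_zero]
    simp
  rcases hg with ⟨a, t, ht, rfl⟩ | ⟨a, t, b, ht, rfl⟩
  · refine Or.inr ⟨0, t⁻¹, t⁻¹ ^ 2 * a, inv_ne_zero ht, ?_⟩
    rw [R.x_zero, one_mul, R.x_mul_H ht, ← mul_assoc, R.W_mul_H ht]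
  · have e : W x y 1 * (x a * H x y t * W x y 1 * x b) =
        y (-a) * H x y (t⁻¹ * -1) * x b := by
      rw [R.H_mul (inv_ne_zero ht) (neg_ne_zero.mpr one_ne_zero), ← R.W_mul_W, ← mul_assoc,
        ← mul_assoc, ← mul_assoc, push, mul_assoc (y (-a)), R.W_mul_H ht]
      simp [mul_assoc]
    rw [e]
    have hu : t⁻¹ * -1 ≠ 0 := mul_ne_zero (inv_ne_zero ht) (neg_ne_zero.mpr one_ne_zero)
    generalize t⁻¹ * -1 = u at hu ⊢
    by_cases ha : a = 0
    · refine Or.inl ⟨u ^ 2 * b, u, hu, ?_⟩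
      rw [ha, neg_zero, R.symm.x_zero, one_mul, R.H_mul_x hu]
    · refine Or.inr ⟨(-a)⁻¹, -(-a)⁻¹ * u⁻¹, u⁻¹ ^ 2 * (-a)⁻¹ + b,
        mul_ne_zero (by simpa using ha) (inv_ne_zero hu), ?_⟩
      rw [R.y_eq (neg_ne_zero.mpr ha), R.H_mul (by simpa using ha) (inv_ne_zero hu),
        mul_assoc (x (-a)⁻¹ * H x y (-(-a)⁻¹) * W x y 1), R.x_mul_H hu, ← mul_assoc,
        mul_assoc (x (-a)⁻¹ * H x y (-(-a)⁻¹)), R.W_mul_H hu, R.addx]
      simp [mul_assoc]

theorem y_mul_normal (s : K) {g : G} (hg : R.Normal g) : R.Normal (y s * g) := by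
  by_cases hs : s = 0
  · rwa [hs, R.symm.x_zero, one_mul]
  · rw [R.y_eq hs, mul_assoc, mul_assoc, mul_assoc]
    exact R.x_mul_normal _ (R.H_mul_normal (by simpa using hs) (R.W_mul_normal (R.x_mul_normal _ hg)))

theorem normal_of_mem {g : G} (hg : g ∈ gen x y) : R.Normal g := by
  induction hg using Subgroup.closure_induction_left with
  | one => exact Or.inl ⟨0, 1, one_ne_zero, by rw [R.x_zero, R.H_one, mul_one]⟩
  | mul_left z hz w _ ih =>
    rcases hz with ⟨a, rfl⟩ | ⟨a, rfl⟩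
    · exact R.x_mul_normal a ih
    · exact R.y_mul_normal a ih
  | inv_mul_cancel z hz w _ ih =>
    rcases hz with ⟨a, rfl⟩ | ⟨a, rfl⟩
    · rw [← R.x_neg]; exact R.x_mul_normal _ ih
    · rw [← R.symm.x_neg]; exact R.y_mul_normal _ ih

end Rels

end CfsgLib.SL2St
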