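import Mathlib
import Cfsg.Prelude.Def_KGroupFacts

/-!
Schur multipliers of small-rank groups, through stem extensions.
-/

set_option autoImplicit false

namespace CfsgLib.SchurSmall

open scoped commutatorElement

universe u v

variable {Γ : Type u} [Group Γ]

theorem trivial_multiplier {G : Type u} [Group G] [Finite G]
    (h : ∀ (Γ : Type u) [Group Γ] [Finite Γ] (σ : Γ →* G), Cfsg.IsStemExtension σ → σ.ker = ⊥) :
    Cfsg.HasCyclicSchurMultiplier G 1 := by
  refine ⟨⟨G, inferInstance, inferInstance, MonoidHom.id G, ⟨Function.surjective_id, by simp [MonoidHom.ker_id], by simp [MonoidHom.ker_id]⟩, ?_⟩,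
    fun Γ _ _ σ hσ => ⟨1, fun x => ⟨1, Subtype.ext ?_⟩⟩⟩
  · rw [MonoidHom.ker_id]
    exact ⟨MulEquiv.ofUnique⟩
  · have hx : (x : Γ) ∈ (⊥ : Subgroup Γ) := h Γ σ hσ ▸ x.2
    rw [Subgroup.mem_bot.mp hx]
    rfl

theorem ker_eq_bot_of_trivial {G : Type u} [Group G] (h : Cfsg.HasCyclicSchurMultiplier G 1)
    {Γ : Type u} [Group Γ] [Finite Γ] (σ : Γ →* G) (hσ : Cfsg.IsStemExtension σ) : σ.ker = ⊥ := by
  obtain ⟨π, hπ⟩ := h.2 Γ σ hσ
  rw [eq_bot_iff]
  intro x hx
  obtain ⟨e, he⟩ := hπ ⟨x, hx⟩
  rw [Subsingleton.elim e 1, map_one] at he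
  exact (congrArg Subtype.val he).symm

theorem exists_surjective_of_cyclic {K : Type u} [Group K] [Finite K] (hK : IsCyclic K) {n : ℕ} (hd : Nat.card K ∣ n) :
    ∃ π : Multiplicative (ZMod n) →* K, Function.Surjective π := by
  let c : Multiplicative (ZMod n) →* Multiplicative (ZMod (Nat.card K)) :=
    AddMonoidHom.toMultiplicative (ZMod.castHom hd (ZMod (Nat.card K))).toAddMonoidHom
  refine ⟨(zmodCyclicMulEquiv hK).toMonoidHom.comp c, (zmodCyclicMulEquiv hK).surjective.comp fun x => ?_⟩
  obtain ⟨y, hy⟩ := ZMod.castHom_surjective hd x.toAdd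
  exact ⟨Multiplicative.ofAdd y, hy⟩

/-- The commutator subgroup of a central extension of a two-generator group. -/
theorem commutator_le_zpowers [Finite Γ] {K : Subgroup Γ} (hK : K ≤ Subgroup.center Γ) {a b : Γ}
    (hgen : Subgroup.closure {a, b} ⊔ K = ⊤) {c : Γ} (hab : ⁅b, a⁆ ∈ Subgroup.zpowers c)
    (ha : a * c * a⁻¹ ∈ Subgroup.zpowers c) (hb : b * c * b⁻¹ ∈ Subgroup.zpowers c) :
    commutator Γ ≤ Subgroup.zpowers c := by
  have hN : (Subgroup.zpowers c).Normal := by
    rw [← Subgroup.normalizer_eq_top_iff, eq_top_iff, ← hgen]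
    have key : ∀ x : Γ, x * c * x⁻¹ ∈ Subgroup.zpowers c → x ∈ Subgroup.normalizer (Subgroup.zpowers c : Set Γ) := by
      intro x hx
      have hle : (Subgroup.zpowers c).map (MulAut.conj x).toMonoidHom ≤ Subgroup.zpowers c := by
        rw [MonoidHom.map_zpowers, Subgroup.zpowers_le]
        exact hx
      have heq := Subgroup.eq_of_le_of_card_ge hle
        (le_of_eq (Subgroup.card_map_of_injective (MulAut.conj x).injective).symm)
      rw [Subgroup.mem_normalizer_iff]
      intro y
      constructor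
      · intro hy
        exact hle ⟨y, hy, rfl⟩
      · intro hy
        have hy' : x * y * x⁻¹ ∈ (Subgroup.zpowers c).map (MulAut.conj x).toMonoidHom := by rwa [heq]
        obtain ⟨z, hz, hzy⟩ := hy'
        have : z = y := (MulAut.conj x).injective hzy
        rwa [← this]
    refine sup_le ((Subgroup.closure_le _).mpr ?_) ?_
    · rintro x (rfl | rfl)
      exacts [key _ ha, key _ hb]
    · intro k hk
      refine key k ?_
      rw [← (Subgroup.mem_center_iff.mp (hK hk) c), mul_inv_cancel_right]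
      exact Subgroup.mem_zpowers c
  let q := QuotientGroup.mk' (Subgroup.zpowers c)
  have hqab : Commute (q b) (q a) := by
    rw [← commutatorElement_eq_one_iff_commute, ← map_commutatorElement]
    exact (QuotientGroup.eq_one_iff _).mpr hab
  have hcen : ∀ x ∈ ({a, b} : Set Γ), ∀ g : Γ, Commute (q x) (q g) := by
    intro x hx g
    have hle : Subgroup.closure {a, b} ⊔ K ≤ (Subgroup.centralizer {q x}).comap q := by
      refine sup_le ((Subgroup.closure_le _).mpr ?_) ?_
      · intro y hy
        rw [SetLike.mem_coe, Subgroup.mem_comap, Subgroup.mem_centralizer_singleton_iff]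
        rcases hx with rfl | rfl <;> rcases hy with rfl | rfl
        exacts [rfl, hqab.eq, hqab.symm.eq, rfl]
      · intro k hk
        rw [Subgroup.mem_comap, Subgroup.mem_centralizer_singleton_iff, ← map_mul, ← map_mul,
          Subgroup.mem_center_iff.mp (hK hk) x]
    rw [hgen] at hle
    exact (Subgroup.mem_centralizer_singleton_iff.mp (hle (Subgroup.mem_top g))).symm
  rw [commutator_def, Subgroup.commutator_le]
  intro g _ g' _
  rw [← QuotientGroup.eq_one_iff (N := Subgroup.zpowers c)]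
  show q ⁅g, g'⁆ = 1
  rw [map_commutatorElement, commutatorElement_eq_one_iff_commute]
  have hle : Subgroup.closure {a, b} ⊔ K ≤ (Subgroup.centralizer {q g'}).comap q := by
    refine sup_le ((Subgroup.closure_le _).mpr fun x hx => ?_) fun k hk => ?_
    · rw [SetLike.mem_coe, Subgroup.mem_comap, Subgroup.mem_centralizer_singleton_iff]
      exact (hcen x hx g').eq
    · rw [Subgroup.mem_comap, Subgroup.mem_centralizer_singleton_iff, ← map_mul, ← map_mul,
        Subgroup.mem_center_iff.mp (hK hk) g']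
  rw [hgen] at hle
  exact Subgroup.mem_centralizer_singleton_iff.mp (hle (Subgroup.mem_top g))

/-- Generators of the image lift to generators modulo the kernel. -/
theorem sup_ker_eq_top {G : Type v} [Group G] (σ : Γ →* G) {a b : Γ}
    (h : Subgroup.closure ({σ a, σ b} : Set G) = ⊤) : Subgroup.closure {a, b} ⊔ σ.ker = ⊤ := by
  rw [← Subgroup.comap_map_eq, MonoidHom.map_closure, Set.image_pair, h, Subgroup.comap_top]

/-- Extensions of dihedral type. -/
theorem inversion_type [Finite Γ] {K : Subgroup Γ} (hK : K ≤ Subgroup.center Γ) {a b : Γ}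
    (hgen : Subgroup.closure {a, b} ⊔ K = ⊤) (hw : b * a * b⁻¹ * a ∈ K) {n : ℕ} (hn : Commute b (a ^ n)) :
    commutator Γ ≤ Subgroup.zpowers ((a ^ 2)⁻¹ * (b * a * b⁻¹ * a)) ∧
      ((a ^ 2)⁻¹ * (b * a * b⁻¹ * a)) ^ n = 1 := by
  set w := b * a * b⁻¹ * a with hwdef
  have hwc : ∀ g, Commute g w := fun g => Subgroup.mem_center_iff.mp (hK hw) g
  set c := (a ^ 2)⁻¹ * w with hc
  have hba : b * a * b⁻¹ = a⁻¹ * w := by
    rw [← (hwc a⁻¹).symm.eq, hwdef, mul_inv_cancel_right]
  refine ⟨commutator_le_zpowers hK hgen ?_ ?_ ?_, ?_⟩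
  · have : ⁅b, a⁆ = c := by
      rw [commutatorElement_def, hba, hc, mul_assoc, (hwc a⁻¹).symm.eq, ← mul_assoc]
      group
    rw [this]
    exact Subgroup.mem_zpowers c
  · have : Commute a c := ((Commute.refl a).pow_right 2).inv_right.mul_right (hwc a)
    rw [this.eq, mul_inv_cancel_right]
    exact Subgroup.mem_zpowers c
  · have e1 : b * c * b⁻¹ = c⁻¹ := by
      have e2 : b * a ^ 2 * b⁻¹ = (a ^ 2)⁻¹ * w ^ 2 := by
        rw [← MulAut.conj_apply, map_pow, MulAut.conj_apply, hba, (hwc a⁻¹).mul_pow, inv_pow]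
      calc b * c * b⁻¹ = (b * a ^ 2 * b⁻¹)⁻¹ * (b * w * b⁻¹) := by rw [hc]; group
        _ = ((a ^ 2)⁻¹ * w ^ 2)⁻¹ * w := by rw [e2, (hwc b).eq, mul_inv_cancel_right]
        _ = w⁻¹ * a ^ 2 := by
          rw [mul_inv_rev, inv_inv, mul_assoc, (hwc (a ^ 2)).eq, pow_two w]; group
        _ = c⁻¹ := by rw [hc, mul_inv_rev ((a ^ 2)⁻¹) w, inv_inv]
    rw [e1]
    exact Subgroup.inv_mem _ (Subgroup.mem_zpowers c)
  · have h1 : a ^ n = (a ^ n)⁻¹ * w ^ n := by
      calc a ^ n = b * a ^ n * b⁻¹ := by rw [hn.eq, mul_inv_cancel_right]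
        _ = (b * a * b⁻¹) ^ n := by rw [← MulAut.conj_apply, map_pow, MulAut.conj_apply]
        _ = (a ^ n)⁻¹ * w ^ n := by rw [hba, (hwc a⁻¹).mul_pow, inv_pow]
    rw [hc, (hwc (a ^ 2)⁻¹).mul_pow, inv_pow, ← pow_mul, mul_comm 2 n, pow_mul, pow_two,
      mul_inv_rev, mul_assoc, ← h1, inv_mul_cancel]

/-- The Heisenberg extension of an abelian group by a ring through two additive characters. -/
structure Heis {G : Type u} [CommGroup G] {R : Type v} [CommRing R] (f g : Additive G →+ R) where
  /-- the base component -/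
  base : G
  /-- the central component -/
  val : R

namespace Heis

variable {G : Type u} [CommGroup G] {R : Type v} [CommRing R] {f g : Additive G →+ R}

theorem ext' {x y : Heis f g} (h1 : x.base = y.base) (h2 : x.val = y.val) : x = y := by
  cases x; cases y; simp_all

instance : Mul (Heis f g) :=
  ⟨fun x y => ⟨x.base * y.base, x.val + y.val + f (Additive.ofMul x.base) * g (Additive.ofMul y.base)⟩⟩
instance : One (Heis f g) := ⟨⟨1, 0⟩⟩
instance : Inv (Heis f g) :=
  ⟨fun x => ⟨x.base⁻¹, -x.val + f (Additive.ofMul x.base) * g (Additive.ofMul x.base)⟩⟩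

theorem mul_base (x y : Heis f g) : (x * y).base = x.base * y.base := rfl
theorem mul_val (x y : Heis f g) :
    (x * y).val = x.val + y.val + f (Additive.ofMul x.base) * g (Additive.ofMul y.base) := rfl
theorem one_base : (1 : Heis f g).base = 1 := rfl
theorem one_val : (1 : Heis f g).val = 0 := rfl
theorem inv_base (x : Heis f g) : x⁻¹.base = x.base⁻¹ := rfl
theorem inv_val (x : Heis f g) :
    x⁻¹.val = -x.val + f (Additive.ofMul x.base) * g (Additive.ofMul x.base) := rfl

instance : Group (Heis f g) where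
  mul_assoc x y z := ext' (mul_assoc _ _ _) (by simp only [mul_val, mul_base, ofMul_mul, map_add]; ring)
  one_mul x := ext' (one_mul _) (by simp [mul_val, one_val, one_base])
  mul_one x := ext' (mul_one _) (by simp [mul_val, one_val, one_base])
  inv_mul_cancel x := ext' (inv_mul_cancel _) (by simp only [mul_val, inv_val, one_val, inv_base, ofMul_inv, map_neg]; ring)

instance [Finite G] [Finite R] : Finite (Heis f g) :=
  Finite.of_injective (fun x => (x.base, x.val)) fun x y h => ext' (congrArg Prod.fst h) (congrArg Prod.snd h)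

/-- The projection. -/
def proj (f g : Additive G →+ R) : Heis f g →* G where
  toFun x := x.base
  map_one' := rfl
  map_mul' _ _ := rfl

theorem mem_ker {x : Heis f g} : x ∈ (proj f g).ker ↔ x.base = 1 := MonoidHom.mem_ker

theorem ker_central : (proj f g).ker ≤ Subgroup.center (Heis f g) := by
  intro x hx
  rw [mem_ker] at hx
  rw [Subgroup.mem_center_iff]
  intro y
  refine ext' (mul_comm _ _) ?_
  simp only [mul_val, hx, ofMul_one, map_zero, mul_zero, zero_mul]
  ring

theorem ker_equiv : Nonempty ((proj f g).ker ≃* Multiplicative R) :=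
  ⟨{ toFun := fun x => Multiplicative.ofAdd x.1.val
     invFun := fun r => ⟨⟨1, r.toAdd⟩, mem_ker.mpr rfl⟩
     left_inv := fun x => Subtype.ext (ext' (mem_ker.mp x.2).symm rfl)
     right_inv := fun _ => rfl
     map_mul' := fun x y => by
       show Multiplicative.ofAdd (x.1 * y.1).val = _
       rw [mul_val, mem_ker.mp x.2, ofMul_one, map_zero, zero_mul, add_zero]
       rfl }⟩

theorem commutator_eq (x y : Heis f g) : ⁅x, y⁆ =
    ⟨1, f (Additive.ofMul x.base) * g (Additive.ofMul y.base) - f (Additive.ofMul y.base) * g (Additive.ofMul x.base)⟩ := by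
  have h : x * y = (⟨1, f (Additive.ofMul x.base) * g (Additive.ofMul y.base) - f (Additive.ofMul y.base) * g (Additive.ofMul x.base)⟩ : Heis f g) * (y * x) := by
    refine ext' ?_ ?_
    · exact (mul_comm _ _).trans (one_mul _).symm
    · simp only [mul_val, mul_base, ofMul_one, map_zero, zero_mul, add_zero]; ring
  rw [commutatorElement_def, h]
  group

theorem stem_of_unit {n : ℕ} {f g : Additive G →+ ZMod n} {x y : G}
    (h : f (Additive.ofMul x) * g (Additive.ofMul y) - f (Additive.ofMul y) * g (Additive.ofMul x) = 1) :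
    Cfsg.IsStemExtension (proj f g) := by
  refine ⟨fun a => ⟨⟨a, 0⟩, rfl⟩, ker_central, fun z hz => ?_⟩
  have hmem : (⟨1, 1⟩ : Heis f g) ∈ commutator (Heis f g) := by
    have := Subgroup.commutator_mem_commutator (H₁ := (⊤ : Subgroup (Heis f g))) (H₂ := ⊤)
      (g₁ := ⟨x, 0⟩) (g₂ := ⟨y, 0⟩) trivial trivial
    rw [commutator_eq, h] at this
    rwa [commutator_def]
  have hpow : ∀ k : ℕ, (⟨1, 1⟩ : Heis f g) ^ k = ⟨1, k⟩ := by
    intro k
    induction k with
    | zero => rw [pow_zero, Nat.cast_zero]; rfl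
    | succ k ih =>
      rw [pow_succ, ih]
      refine ext' (one_mul 1) ?_
      simp only [mul_val, ofMul_one, map_zero, zero_mul, add_zero, Nat.cast_succ]
  rw [mem_ker] at hz
  obtain ⟨i, hi⟩ := ZMod.intCast_surjective z.val
  have hz' : z = (⟨1, 1⟩ : Heis f g) ^ i := by
    rcases Int.eq_nat_or_neg i with ⟨k, rfl | rfl⟩
    · rw [zpow_natCast, hpow]; exact ext' hz (by rw [← hi]; simp)
    · rw [zpow_neg, zpow_natCast, hpow]
      exact ext' (by rw [hz, inv_base, inv_one]) (by rw [inv_val, ← hi]; simp)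
  rw [hz']
  exact Subgroup.zpow_mem _ hmem i

end Heis

end CfsgLib.SchurSmall
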