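import Mathlib.LinearAlgebra.Matrix.GeneralLinearGroup.Defs
import Mathlib.LinearAlgebra.Matrix.SpecialLinearGroup
import Mathlib.LinearAlgebra.Matrix.Trace
import Mathlib.LinearAlgebra.Matrix.Notation
import Mathlib.Tactic.LinearCombination
import Mathlib.Tactic.FinCases

/-!
Normal forms of non-scalar `2 × 2` matrices: the companion matrix of `X² - t X + d`.
-/

set_option autoImplicit false

namespace CfsgLib.GL2Classes

open Matrix

variable {F : Type*} [Field F]

/-- The companion matrix of `X² - t X + d`. -/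
def comp (t d : F) : Matrix (Fin 2) (Fin 2) F := !![0, -d; 1, t]

theorem det_comp (t d : F) : (comp t d).det = d := by simp [comp, Matrix.det_fin_two_of]

theorem trace_comp (t d : F) : (comp t d).trace = t := by simp [comp, Matrix.trace_fin_two]

theorem comp_ne_scalar (t d a : F) : comp t d ≠ a • (1 : Matrix (Fin 2) (Fin 2) F) := fun h => by
  have := congrFun (congrFun h 1) 0
  simp [comp] at this

/-- A matrix that is not scalar is conjugate to its companion matrix. -/
theorem exists_conj_comp {M : Matrix (Fin 2) (Fin 2) F}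
    (h : ∀ a : F, M ≠ a • (1 : Matrix (Fin 2) (Fin 2) F)) :
    ∃ P : GL (Fin 2) F, M * P.1 = P.1 * comp M.trace M.det := by
  by_cases h10 : M 1 0 = 0
  · by_cases h01 : M 0 1 = 0
    · have hne : M 1 1 - M 0 0 ≠ 0 := fun e => h (M 0 0) (by
        ext i j
        fin_cases i <;> fin_cases j <;> simp [h10, h01, sub_eq_zero.mp e])
      refine ⟨Matrix.GeneralLinearGroup.mkOfDetNeZero !![1, M 0 0; 1, M 1 1]
        (by simpa [Matrix.det_fin_two_of] using hne), ?_⟩
      show M * !![1, M 0 0; 1, M 1 1] = !![1, M 0 0; 1, M 1 1] * comp M.trace M.det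
      ext i j
      fin_cases i <;> fin_cases j <;>
        simp [comp, Matrix.mul_apply, Fin.sum_univ_two, Matrix.trace_fin_two, Matrix.det_fin_two,
          h10, h01] <;> ring
    · refine ⟨Matrix.GeneralLinearGroup.mkOfDetNeZero !![0, M 0 1; 1, M 1 1]
        (by simpa [Matrix.det_fin_two_of] using h01), ?_⟩
      show M * !![0, M 0 1; 1, M 1 1] = !![0, M 0 1; 1, M 1 1] * comp M.trace M.det
      ext i j
      fin_cases i <;> fin_cases j <;>
        simp [comp, Matrix.mul_apply, Fin.sum_univ_two, Matrix.trace_fin_two, Matrix.det_fin_two] <;>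
        ring
  · refine ⟨Matrix.GeneralLinearGroup.mkOfDetNeZero !![1, M 0 0; 0, M 1 0]
      (by simpa [Matrix.det_fin_two_of] using h10), ?_⟩
    show M * !![1, M 0 0; 0, M 1 0] = !![1, M 0 0; 0, M 1 0] * comp M.trace M.det
    ext i j
    fin_cases i <;> fin_cases j <;>
      simp [comp, Matrix.mul_apply, Fin.sum_univ_two, Matrix.trace_fin_two, Matrix.det_fin_two] <;>
      ring

/-- Conjugacy in `GL_n` of the underlying matrices. -/
theorem isConj_of_mul_eq {n : ℕ} {g h : GL (Fin n) F} (P : GL (Fin n) F) (e : g.1 * P.1 = P.1 * h.1) :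
    IsConj h g := by
  refine isConj_iff.mpr ⟨P, ?_⟩
  rw [mul_inv_eq_iff_eq_mul]
  exact Units.ext e.symm

theorem trace_eq_of_isConj {n : ℕ} {g h : GL (Fin n) F} (hc : IsConj g h) :
    g.1.trace = h.1.trace ∧ g.1.det = h.1.det := by
  obtain ⟨c, hc⟩ := isConj_iff.mp hc
  rw [← hc, Units.val_mul, Units.val_mul]
  exact ⟨(Matrix.trace_units_conj c g.1).symm, (Matrix.det_units_conj c g.1).symm⟩

theorem eq_of_isConj_scalar {n : ℕ} {g h : GL (Fin n) F} {a : F}
    (hg : g.1 = a • (1 : Matrix (Fin n) (Fin n) F)) (hc : IsConj g h) : g = h := by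
  obtain ⟨c, hc⟩ := isConj_iff.mp hc
  rw [← hc]
  refine Units.ext ?_
  rw [Units.val_mul, Units.val_mul, hg]
  simp

end CfsgLib.GL2Classes
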