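import Mathlib
import Cfsg.Prelude.Def_ParabolicCharacters

/-!
The Borel subgroup and the monomial subgroup of `SL₂`: coordinates and cardinalities.
-/

set_option autoImplicit false

namespace CfsgLib.SL2Borel

variable {F : Type*} [Field F]

local notation "SL2" => Matrix.SpecialLinearGroup (Fin 2) F

theorem mem_borel {g : SL2} :
    g ∈ (Cfsg.upperTriangularGL 2 F).comap Matrix.SpecialLinearGroup.toGL ↔ g.1 1 0 = 0 := by
  show (g.1).BlockTriangular id ↔ _
  constructor
  · intro h
    exact h (show id (0 : Fin 2) < id 1 by decide)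
  · intro h i j hij
    fin_cases i <;> fin_cases j <;> first | exact h | simp at hij

theorem det_eq (g : SL2) : g.1 0 0 * g.1 1 1 - g.1 0 1 * g.1 1 0 = 1 := by
  rw [← Matrix.det_fin_two]; exact g.2

/-- Coordinates on the Borel subgroup. -/
noncomputable def equivBorel :
    ↥((Cfsg.upperTriangularGL 2 F).comap Matrix.SpecialLinearGroup.toGL) ≃ Fˣ × F where
  toFun g := (Units.mk0 (g.1.1 0 0) (fun h => by
      have := det_eq g.1
      rw [mem_borel.mp g.2, h] at this
      simp at this), g.1.1 0 1)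
  invFun p := ⟨⟨!![(p.1 : F), p.2; 0, ((p.1⁻¹ : Fˣ) : F)], by simp [Matrix.det_fin_two]⟩,
    mem_borel.mpr (by simp)⟩
  left_inv g := by
    have h10 := mem_borel.mp g.2
    have hd := det_eq g.1
    rw [h10, mul_zero, sub_zero] at hd
    refine Subtype.ext (Subtype.ext ?_)
    ext i j
    fin_cases i <;> fin_cases j
    · simp
    · simp
    · simpa using h10.symm
    · simpa using (eq_inv_of_mul_eq_one_right hd).symm
  right_inv p := by ext <;> simp

theorem equivBorel_fst (g : ↥((Cfsg.upperTriangularGL 2 F).comap Matrix.SpecialLinearGroup.toGL)) :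
    ((equivBorel g).1 : F) = g.1.1 0 0 ∧ (equivBorel g).2 = g.1.1 0 1 ∧
      (((equivBorel g).1⁻¹ : Fˣ) : F) = g.1.1 1 1 := by
  refine ⟨rfl, rfl, ?_⟩
  have hd := det_eq g.1
  rw [mem_borel.mp g.2, mul_zero, sub_zero] at hd
  rw [Units.val_inv_eq_inv_val]
  exact (eq_inv_of_mul_eq_one_right hd).symm

theorem card_borel [Fintype F] :
    Nat.card ↥((Cfsg.upperTriangularGL 2 F).comap Matrix.SpecialLinearGroup.toGL) =
      (Fintype.card F - 1) * Fintype.card F := by
  rw [Nat.card_congr equivBorel, Nat.card_prod, Nat.card_units, Nat.card_eq_fintype_card]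

theorem units_sq_eq_one (a : Fˣ) : a ^ 2 = 1 ↔ a = 1 ∨ a = -1 := by
  constructor
  · intro h
    have h' : (a : F) ^ 2 = 1 := by
      have := congrArg Units.val h
      simpa using this
    rcases sq_eq_one_iff.mp h' with h'' | h''
    · exact Or.inl (Units.ext h'')
    · exact Or.inr (Units.ext (by simpa using h''))
  · rintro (rfl | rfl) <;> simp

theorem card_sq_eq_one [Fintype F] (h2 : (2 : F) ≠ 0) : Nat.card {a : Fˣ // a ^ 2 = 1} = 2 := by
  classical
  rw [Nat.card_congr (Equiv.subtypeEquivRight units_sq_eq_one)]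
  have h : (1 : Fˣ) ≠ -1 := fun h => h2 (by
    have := congrArg Units.val h
    simp only [Units.val_one, Units.val_neg] at this
    linear_combination this)
  rw [Nat.card_eq_two_iff]
  refine ⟨⟨1, Or.inl rfl⟩, ⟨-1, Or.inr rfl⟩, fun e => h (congrArg Subtype.val e), ?_⟩
  ext ⟨a, ha⟩
  rcases ha with rfl | rfl <;> simp

theorem two_ne_zero_of_odd [Fintype F] (hodd : Odd (Fintype.card F)) : (2 : F) ≠ 0 := by
  intro h
  have h2 : ringChar F = 2 :=
    CharP.ringChar_of_prime_eq_zero Nat.prime_two (by exact_mod_cast h)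
  have := FiniteField.even_card_of_char_two h2
  obtain ⟨k, hk⟩ := hodd
  omega

end CfsgLib.SL2Borel
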