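import Cfsg.Agent.Lib.WreathedSubgroups
import Cfsg.Agent.Lib.SmallElements
import Mathlib.GroupTheory.Perm.Cycle.Type
import Mathlib.Data.Int.GCD
import Mathlib.RingTheory.Int.Basic
import Mathlib.Algebra.Group.Subgroup.ZPowers.Lemmas

/-! Self-centralizing subgroups of wreathed groups with non-2-group automorphism group. -/

set_option autoImplicit false
set_option linter.unusedSectionVars false

namespace CfsgLib.Wr

/-- If every automorphism of odd order is trivial, the automorphism group is a 2-group. -/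
theorem isPGroup_mulAut_of {X : Type*} [Group X] [Finite X]
    (h : ∀ α : MulAut X, (orderOf α).Coprime 2 → α = 1) : IsPGroup 2 (MulAut X) := by
  haveI : Fact (Nat.Prime 2) := ⟨Nat.prime_two⟩
  refine IsPGroup.of_card (n := (Nat.card (MulAut X)).primeFactorsList.length)
    (Nat.eq_prime_pow_of_unique_prime_dvd Nat.card_pos.ne' fun {q} hq hdvd => ?_)
  by_contra hne
  haveI : Fact q.Prime := ⟨hq⟩
  obtain ⟨α, hα⟩ := exists_prime_orderOf_dvd_card' q hdvd
  have h1 := h α (by rw [hα]; exact (Nat.coprime_primes hq Nat.prime_two).mpr hne)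
  rw [h1, orderOf_one] at hα
  exact hq.ne_one hα.symm

/-- An automorphism of odd order stabilizing a cyclic 2-subgroup fixes it. -/
theorem fix_of_mem_zpowers {X : Type*} [Group X] [Finite X] (hX : IsPGroup 2 X) {α : MulAut X}
    (hα : (orderOf α).Coprime 2) :
    ∀ c : X, α c ∈ Subgroup.zpowers c → α c = c := by
  suffices key : ∀ k : ℕ, ∀ c : X, orderOf c = k → α c ∈ Subgroup.zpowers c → α c = c from
    fun c => key _ c rfl
  intro k
  induction k using Nat.strong_induction_on with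
  | _ k ih =>
    intro c hck hc
    rcases eq_or_ne c 1 with rfl | hc1
    · exact map_one α
    obtain ⟨m, hm⟩ := hc
    replace hm : c ^ m = α c := hm
    obtain ⟨e, he⟩ := IsPGroup.iff_orderOf.mp hX c
    have he1 : 1 ≤ e := by
      rcases Nat.eq_zero_or_pos e with rfl | h
      · exact absurd (orderOf_eq_one_iff.mp (by simpa using he)) hc1
      · exact h
    have hlt : orderOf (c ^ 2) < k := by
      have h2 : 2 ∣ orderOf c := he ▸ dvd_pow_self 2 (by omega)
      rw [orderOf_pow, Nat.gcd_eq_right h2]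
      have := orderOf_pos c
      omega
    have hsq : α (c ^ 2) = c ^ 2 := by
      refine ih _ hlt _ rfl ⟨m, ?_⟩
      show (c ^ 2) ^ m = α (c ^ 2)
      rw [map_pow, ← hm, ← zpow_natCast, ← zpow_natCast, ← zpow_mul, ← zpow_mul, mul_comm]
    refine CfsgLib.Small.apply_eq_self_of_step hX hα ?_
    set d := c⁻¹ * α c with hd
    have hdc : d = c ^ (m - 1) := by rw [hd, ← hm]; group
    have hdm : α d = d ^ m := by
      rw [hdc, map_zpow, ← hm, ← zpow_mul, ← zpow_mul, mul_comm]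
    have hd2 : d ^ 2 = 1 := by
      rw [hd, (show Commute c⁻¹ (α c) from hm ▸ (Commute.refl c).inv_left.zpow_right m).mul_pow, ← map_pow, hsq,
        inv_pow, inv_mul_cancel]
    obtain ⟨s, rfl | rfl⟩ := Int.even_or_odd' m
    · rw [zpow_mul, zpow_two, ← sq, hd2, one_zpow] at hdm
      have hd1 : d = 1 := α.injective (by rw [hdm, map_one])
      rw [hd1, map_one]
    · rw [zpow_add, zpow_mul, zpow_two, ← sq, hd2, one_zpow, one_mul, zpow_one] at hdm
      exact hdm

variable {S : Type*} [Group S] [Finite S] (d : Data S)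

theorem center_le_of_centric {X : Subgroup S} (hC : Subgroup.centralizer (X : Set S) ≤ X) :
    Subgroup.center S ≤ X := le_trans (Subgroup.center_le_centralizer _) hC

theorem isPGroup_two {n : ℕ} (h : Nat.card S = 2 ^ n) : IsPGroup 2 S := IsPGroup.of_card h

/-- The abelian self-centralizing subgroups outside `U` have 2-groups of automorphisms. -/
theorem aut_abelian (hS : IsPGroup 2 S) (hev : Even d.h) {X : Subgroup S} (hXc : IsMulCommutative X)
    (hC : Subgroup.centralizer (X : Set S) ≤ X) (hXU : ¬ X ≤ d.U) : IsPGroup 2 (MulAut X) := by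
  haveI := hXc
  have hZ := center_le_of_centric hC
  obtain ⟨i, j, hv⟩ := v_mem_of_not_le d hXU
  have hform : ∀ g ∈ X, g ∈ Subgroup.center S ∨ g * (d.v i j)⁻¹ ∈ Subgroup.center S := by
    intro g hg
    obtain ⟨k, l, rfl | rfl⟩ := cases_elem d g
    · exact Or.inl ((u_central_iff d).mpr ((commute_u_v_iff d).mp (setLike_mul_comm hg hv)))
    · right
      have h2 := setLike_mul_comm hg hv
      have e : d.v k l * (d.v i j)⁻¹ = d.u (k - i) (l - j) := by
        rw [mul_inv_eq_iff_eq_mul, u_mul_v, sub_add_cancel, sub_add_cancel]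
      rw [e, u_central_iff]
      rw [v_mul_v, v_mul_v, u_eq_iff] at h2
      rw [show l - j - (k - i) = i + l - (k + j) by ring]
      exact h2.1
  refine isPGroup_mulAut_of fun α hα => ?_
  have hX : IsPGroup 2 X := hS.to_subgroup X
  have hcX : d.u 1 1 ∈ X := hZ (by rw [u_central_iff, sub_self]; exact dvd_zero _)
  -- a generator of the subgroup of squares
  have hcen : ∀ {g : S}, g ∈ Subgroup.center S → ∃ t : ℤ, g = d.u t t := fun {g} hg => by
    rw [center_eq d] at hg
    obtain ⟨t, rfl⟩ := hg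
    exact ⟨t, by show (d.u 1 1) ^ t = _; rw [u_zpow, one_mul]⟩
  obtain ⟨q, hsqrt, hsq⟩ : ∃ q : S, (∃ g : X, q = ((g * g : X) : S)) ∧ ∀ g ∈ X, g * g ∈ Subgroup.zpowers q := by
    obtain ⟨r, hr | hr⟩ := Int.even_or_odd' (i + j)
    · refine ⟨d.u 2 2, ⟨⟨_, hcX⟩, ?_⟩, fun g hg => ?_⟩
      · show d.u 2 2 = d.u 1 1 * d.u 1 1
        rw [u_mul_u]
        norm_num
      rcases hform g hg with h | h <;> obtain ⟨t, ht⟩ := hcen h
      · refine ⟨t, ?_⟩
        show (d.u 2 2) ^ t = g * g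
        rw [ht, u_zpow, u_mul_u, two_mul]
      · refine ⟨t + r, ?_⟩
        show (d.u 2 2) ^ (t + r) = g * g
        rw [mul_inv_eq_iff_eq_mul.mp ht, u_mul_v, v_mul_v, u_zpow]
        congr 1 <;> linarith
    · have hcr : d.u (-r) (-r) ∈ X := hZ (by rw [u_central_iff, sub_self]; exact dvd_zero _)
      refine ⟨d.u 1 1, ⟨⟨_, mul_mem hcr hv⟩, ?_⟩, fun g hg => ?_⟩
      · show d.u 1 1 = d.u (-r) (-r) * d.v i j * (d.u (-r) (-r) * d.v i j)
        rw [u_mul_v, v_mul_v]
        congr 1 <;> linarith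
      rw [← center_eq d]
      rcases hform g hg with h | h
      · exact mul_mem h h
      · obtain ⟨t, ht⟩ := hcen h
        rw [mul_inv_eq_iff_eq_mul.mp ht, u_mul_v, v_mul_v, u_central_iff]
        exact ⟨0, by ring⟩
  obtain ⟨g₀, hg₀⟩ := hsqrt
  have hfixq : α (g₀ * g₀) = g₀ * g₀ := by
    refine fix_of_mem_zpowers hX hα _ ?_
    obtain ⟨t, ht⟩ := hsq _ (α g₀).2
    refine ⟨t, Subtype.ext ?_⟩
    show (((g₀ * g₀ : X) ^ t : X) : S) = ((α (g₀ * g₀) : X) : S)
    rw [SubgroupClass.coe_zpow, ← hg₀, map_mul]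
    exact ht
  have hsqfix : ∀ g : X, α (g * g) = g * g := by
    intro g
    obtain ⟨t, ht⟩ := hsq _ g.2
    have e : g * g = (g₀ * g₀) ^ t := Subtype.ext (by
      rw [SubgroupClass.coe_zpow, ← hg₀]
      exact ht.symm)
    rw [e, map_zpow, hfixq]
  -- involutions are fixed
  obtain ⟨r, hr⟩ := hev
  have hwX : d.w ∈ X := hZ (w_central d)
  have hwfix : α ⟨d.w, hwX⟩ = ⟨d.w, hwX⟩ := by
    have hrX : d.u r r ∈ X := hZ (by rw [u_central_iff, sub_self]; exact dvd_zero _)
    have e : (⟨d.w, hwX⟩ : X) = ⟨d.u r r, hrX⟩ * ⟨d.u r r, hrX⟩ := Subtype.ext (by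
      show d.w = d.u r r * d.u r r
      rw [Data.w, u_mul_u, hr]
      push_cast
      rfl)
    rw [e, hsqfix]
  have hcen2 : ∀ g : S, g ∈ Subgroup.center S → g * g = 1 → g = 1 ∨ g = d.w := by
    intro g hg hgg
    rw [center_eq d] at hg
    obtain ⟨t, rfl⟩ := hg
    replace hgg : (d.u 1 1) ^ t * (d.u 1 1) ^ t = 1 := hgg
    show (d.u 1 1) ^ t = 1 ∨ (d.u 1 1) ^ t = d.w
    rw [u_zpow, one_mul] at hgg ⊢
    obtain ⟨h1, -⟩ := u_mul_self_eq_one d hgg
    rcases dvd_half_cases d h1 with h | h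
    · exact Or.inl ((u_eq_one_iff d).mpr ⟨h, h⟩)
    · refine Or.inr ?_
      rw [Data.w, u_eq_iff, ← dvd_neg, neg_sub]
      exact ⟨h, h⟩
  have hinv : ∀ g : X, g * g = 1 → α g = g := by
    intro g hg
    refine CfsgLib.Small.apply_eq_self_of_step hX hα ?_
    have hgS : (g : S) * g = 1 := congrArg Subtype.val hg
    have hg' : α g * α g = 1 := by rw [← map_mul, hg, map_one]
    have hgS' : ((α g : X) : S) * ((α g : X) : S) = 1 := congrArg Subtype.val hg'
    have hdd : ((g⁻¹ * α g : X) : S) * ((g⁻¹ * α g : X) : S) = 1 := by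
      show ((g⁻¹ * α g * (g⁻¹ * α g) : X) : S) = 1
      rw [(show Commute (α g) g⁻¹ from IsMulCommutative.is_comm.comm _ _).mul_mul_mul_comm, ← mul_inv_rev, hg, inv_one, one_mul, hg']
      rfl
    have hd2 : g⁻¹ * α g = 1 ∨ g⁻¹ * α g = ⟨d.w, hwX⟩ := by
      have key : ((g⁻¹ * α g : X) : S) ∈ Subgroup.center S → g⁻¹ * α g = 1 ∨ g⁻¹ * α g = ⟨d.w, hwX⟩ := fun h => by
        rcases hcen2 _ h hdd with e | e
        · exact Or.inl (Subtype.ext e)
        · exact Or.inr (Subtype.ext e)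
      rcases hform _ g.2 with hgc | hgc
      · -- central involutions are fixed
        rcases hcen2 _ hgc hgS with e | e
        · left
          rw [show g = 1 from Subtype.ext e, map_one, inv_one, one_mul]
        · left
          rw [show g = ⟨d.w, hwX⟩ from Subtype.ext e, hwfix, inv_mul_cancel]
      · rcases hform _ (α g).2 with hgc' | hgc'
        · exfalso
          rcases hcen2 _ hgc' hgS' with e | e
          · have e1 : g = 1 := α.injective ((show α g = 1 from Subtype.ext e).trans (map_one α).symm)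
            rw [e1] at hgc
            exact v_not_central d i j (inv_inv (d.v i j) ▸ inv_mem (by simpa using hgc))
          · have e1 : g = ⟨d.w, hwX⟩ := α.injective ((show α g = ⟨d.w, hwX⟩ from Subtype.ext e).trans hwfix.symm)
            rw [e1] at hgc
            have h2 := mul_mem (inv_mem (w_central d)) hgc
            rw [inv_mul_cancel_left] at h2
            exact v_not_central d i j (inv_inv (d.v i j) ▸ inv_mem h2)
        · apply key
          have e : ((g⁻¹ * α g : X) : S) = ((g : S) * (d.v i j)⁻¹)⁻¹ * (((α g : X) : S) * (d.v i j)⁻¹) := by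
            rw [show ((g⁻¹ * α g : X) : S) = (g : S)⁻¹ * ((α g : X) : S) from rfl,
              show ((g : S) * (d.v i j)⁻¹)⁻¹ * (((α g : X) : S) * (d.v i j)⁻¹)
                = d.v i j * ((g : S)⁻¹ * ((α g : X) : S)) * (d.v i j)⁻¹ by group,
              ← setLike_mul_comm (mul_mem (inv_mem g.2) (α g).2) hv, mul_inv_cancel_right]
          rw [e]
          exact mul_mem (inv_mem hgc) hgc'
    rcases hd2 with e | e
    · rw [e, map_one]
    · rw [e, hwfix]
  refine MulEquiv.ext fun g => ?_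
  refine CfsgLib.Small.apply_eq_self_of_step hX hα (hinv _ ?_)
  rw [(show Commute (α g) g⁻¹ from IsMulCommutative.is_comm.comm _ _).mul_mul_mul_comm, ← map_mul, hsqfix, ← mul_inv_rev, inv_mul_cancel]

end CfsgLib.Wr

namespace CfsgLib.Wr

variable {S : Type*} [Group S] [Finite S] (d : Data S)

/-- The differences `i - j` of the elements `u i j` of `X`. -/
def diffs (X : Subgroup S) : AddSubgroup ℤ where
  carrier := {t | d.u t 0 ∈ X}
  zero_mem' := by show d.u 0 0 ∈ X; rw [u_zero]; exact one_mem X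
  add_mem' {a b} ha hb := by
    show d.u (a + b) 0 ∈ X
    have := mul_mem (show d.u a 0 ∈ X from ha) (show d.u b 0 ∈ X from hb)
    rwa [u_mul_u, add_zero] at this
  neg_mem' {a} ha := by
    show d.u (-a) 0 ∈ X
    have := inv_mem (show d.u a 0 ∈ X from ha)
    rwa [u_inv, neg_zero] at this

theorem exists_level {X : Subgroup S} (hZ : Subgroup.center S ≤ X) :
    ∃ g : ℕ, g ∣ 2 * d.h ∧ ∀ i j : ℤ, d.u i j ∈ X ↔ (g : ℤ) ∣ i - j := by
  obtain ⟨a, ha⟩ := Int.subgroup_cyclic (diffs d X)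
  have hmem : ∀ t : ℤ, t ∈ diffs d X ↔ (a.natAbs : ℤ) ∣ t := fun t => by
    rw [ha, ← AddSubgroup.zmultiples_eq_closure, Int.mem_zmultiples_iff, Int.natAbs_dvd]
  refine ⟨a.natAbs, ?_, fun i j => ?_⟩
  · rw [← Int.natCast_dvd_natCast, ← hmem]
    show d.u _ 0 ∈ X
    rw [(u_eq_one_iff d).mpr ⟨by push_cast; exact dvd_rfl, dvd_zero _⟩]
    exact one_mem X
  · rw [← hmem]
    show d.u i j ∈ X ↔ d.u (i - j) 0 ∈ X
    have e : d.u i j = d.u (i - j) 0 * d.u j j := by rw [u_mul_u, sub_add_cancel, zero_add]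
    rw [e, Subgroup.mul_mem_cancel_right _ (hZ ((u_central_iff d).mpr (by rw [sub_self]; exact dvd_zero _)))]

/-- The nonabelian self-centralizing subgroups with a nontrivial automorphism of odd order. -/
theorem nonabelian_shape {n : ℕ} (hn : 2 * d.h = 2 ^ n) (hS : IsPGroup 2 S) {X : Subgroup S}
    (hXc : ¬ IsMulCommutative X) (hC : Subgroup.centralizer (X : Set S) ≤ X)
    (hA : ¬ IsPGroup 2 (MulAut X)) :
    (∀ i j : ℤ, d.u i j ∈ X ↔ (d.h : ℤ) ∣ i - j) ∧ ∃ i j : ℤ, d.v i j ∈ X ∧ 2 ∣ i + j := by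
  have hh := d.h2
  have hZ := center_le_of_centric hC
  have hXU : ¬ X ≤ d.U := fun h => hXc ⟨⟨fun a b => Subtype.ext (U_comm d (h a.2) (h b.2))⟩⟩
  obtain ⟨i, j, hv⟩ := v_mem_of_not_le d hXU
  obtain ⟨g, hg, hlev⟩ := exists_level d hZ
  obtain ⟨r, hr, hgr⟩ := (Nat.dvd_prime_pow Nat.prime_two).mp (hn ▸ hg)
  have hZu : ∀ t : ℤ, d.u t t ∈ Subgroup.center S := fun t => by
    rw [u_central_iff, sub_self]; exact dvd_zero _
  have hgh : g ∣ d.h := by
    rcases lt_or_eq_of_le hr with hlt | rfl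
    · have : g ∣ 2 ^ (n - 1) := hgr ▸ pow_dvd_pow 2 (by omega)
      have e : 2 ^ n = 2 * 2 ^ (n - 1) := by rw [← pow_succ']; congr 1; omega
      rwa [show d.h = 2 ^ (n - 1) by omega]
    · exfalso
      apply hXc
      have key : ∀ x ∈ X, x ∈ Subgroup.center S ∨ ∃ c ∈ Subgroup.center S, x = c * d.v i j := by
        intro x hx
        obtain ⟨k, l, rfl | rfl⟩ := cases_elem d x
        · left
          rw [u_central_iff, ← neg_sub, dvd_neg]
          have := (hlev k l).mp hx
          rw [hgr, ← hn] at this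
          push_cast at this
          exact this
        · right
          refine ⟨d.u (k - i) (l - j), ?_, by rw [u_mul_v, sub_add_cancel, sub_add_cancel]⟩
          have h1 : d.u (k - i) (l - j) ∈ X := by
            have := mul_mem hx (inv_mem hv)
            rwa [show d.v k l * (d.v i j)⁻¹ = d.u (k - i) (l - j) by
              rw [mul_inv_eq_iff_eq_mul, u_mul_v, sub_add_cancel, sub_add_cancel]] at this
          have := (hlev _ _).mp h1
          rw [hgr, ← hn] at this
          push_cast at this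
          rw [u_central_iff, ← neg_sub, dvd_neg]
          exact this
      have hc : ∀ {c : S}, c ∈ Subgroup.center S → ∀ y, c * y = y * c := fun hc y =>
        (Subgroup.mem_center_iff.mp hc y).symm
      refine ⟨⟨fun a b => Subtype.ext ?_⟩⟩
      show (a : S) * b = (b : S) * a
      rcases key a a.2 with ha | ⟨c₁, hc₁, ha⟩
      · exact hc ha _
      rcases key b b.2 with hb | ⟨c₂, hc₂, hb⟩
      · exact (hc hb _).symm
      rw [ha, hb, mul_assoc, ← mul_assoc (d.v i j), ← hc hc₂ (d.v i j), ← mul_assoc, ← mul_assoc,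
        hc hc₁ c₂, mul_assoc c₂ c₁, mul_assoc c₂, mul_assoc c₂, ← mul_assoc (d.v i j), ← hc hc₁ (d.v i j)]
  by_contra hcon
  refine hA (isPGroup_mulAut_of fun α hα => ?_)
  have hX : IsPGroup 2 X := hS.to_subgroup X
  have hbad : g = d.h → ∀ k l : ℤ, d.v k l ∈ X → ¬ (2 : ℤ) ∣ k + l := by
    intro e k l hkl h2
    exact hcon ⟨fun i' j' => by rw [hlev, e], k, l, hkl, h2⟩
  -- the distinguished elements
  have hcX : d.u 1 1 ∈ X := hZ (hZu 1)
  have ha0 : d.u g 0 ∈ X := (hlev _ _).mpr (by rw [sub_zero])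
  set c : X := ⟨d.u 1 1, hcX⟩
  set a₀ : X := ⟨d.u g 0, ha0⟩ with ha0def
  set v₀ : X := ⟨d.v i j, hv⟩
  have hinv : ∀ k l : ℤ, (d.v k l)⁻¹ = d.v (-l) (-k) := fun k l => by
    apply inv_eq_of_mul_eq_one_right
    rw [v_mul_v, add_neg_cancel, add_neg_cancel, u_zero]
  -- the center is fixed
  have hfc : α c = c := by
    refine fix_of_mem_zpowers hX hα _ ?_
    have h1 : ((α c : X) : S) ∈ Subgroup.center S := central_of_commute d hXc (α c).2 fun x hx => by
      have h2 : ∀ y : X, c * y = y * c := fun y => Subtype.ext ((Subgroup.mem_center_iff.mp (hZu 1) y).symm)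
      have h3 := congrArg α (h2 (α.symm ⟨x, hx⟩))
      rw [map_mul, map_mul, MulEquiv.apply_symm_apply] at h3
      exact congrArg Subtype.val h3
    rw [center_eq d] at h1
    obtain ⟨t, ht⟩ := h1
    exact ⟨t, Subtype.ext (by simpa [SubgroupClass.coe_zpow, c] using ht)⟩
  have hfixZ : ∀ x : X, (x : S) ∈ Subgroup.center S → α x = x := by
    intro x hx
    rw [center_eq d] at hx
    obtain ⟨t, ht⟩ := hx
    have e : x = c ^ t := Subtype.ext (by rw [SubgroupClass.coe_zpow]; exact ht.symm)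
    rw [e, map_zpow, hfc]
  -- `α` stabilizes `X ∩ U`
  have hαA : ((α a₀ : X) : S) ∈ d.U := by
    obtain ⟨k, l, e | e⟩ := cases_elem d ((α a₀ : X) : S)
    · exact e ▸ u_mem d k l
    exfalso
    have hkl : d.v k l ∈ X := e ▸ (α a₀).2
    by_cases heq : g = d.h
    · have h1 : a₀ * a₀ = 1 := Subtype.ext (by
        show d.u g 0 * d.u g 0 = 1
        rw [u_mul_u, u_eq_one_iff, heq, add_zero]
        exact ⟨⟨1, by ring⟩, dvd_zero _⟩)
      have h2 : α a₀ * α a₀ = 1 := by rw [← map_mul, h1, map_one]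
      have h3 : d.v k l * d.v k l = 1 := by rw [← e]; exact congrArg Subtype.val h2
      rw [v_mul_self_eq_one_iff] at h3
      exact hbad heq k l hkl (dvd_trans (dvd_mul_right 2 _) h3)
    · have h2 : ((α (a₀ * a₀) : X) : S) ∈ Subgroup.center S := by
        rw [map_mul, Subgroup.coe_mul, e, v_mul_v, u_central_iff]
        exact ⟨0, by ring⟩
      have h3 : a₀ * a₀ = α (a₀ * a₀) := α.injective (hfixZ _ h2).symm
      rw [← h3] at h2
      replace h2 : d.u g 0 * d.u g 0 ∈ Subgroup.center S := h2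
      rw [u_mul_u, u_central_iff, add_zero, zero_sub, dvd_neg, ← two_mul, mul_dvd_mul_iff_left two_ne_zero,
        Int.natCast_dvd_natCast] at h2
      exact heq (Nat.dvd_antisymm hgh h2)
  -- hence maps `v₀` outside `U`
  have hgne : ¬ (2 * (d.h : ℤ) ∣ (g : ℤ)) := fun h => by
    rw [show (2 * (d.h : ℤ)) = ((2 * d.h : ℕ) : ℤ) by push_cast; rfl, Int.natCast_dvd_natCast] at h
    have hgpos : 0 < g := Nat.pos_of_ne_zero fun e => by
      rw [e, zero_dvd_iff] at hgh; omega
    have := Nat.le_of_dvd hgpos h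
    have := Nat.le_of_dvd (by omega) hgh
    omega
  have hαv : ((α v₀ : X) : S) ∉ d.U := fun h => by
    have h1 : α v₀ * α a₀ = α a₀ * α v₀ := Subtype.ext (U_comm d h hαA)
    rw [← map_mul, ← map_mul, α.injective.eq_iff] at h1
    have h2 : Commute (d.u g 0) (d.v i j) := (congrArg Subtype.val h1).symm
    rw [commute_u_v_iff, zero_sub, dvd_neg] at h2
    exact hgne h2
  -- the commutator is fixed
  set c₁ : X := v₀ * a₀ * v₀⁻¹ * a₀⁻¹ with hc1
  have hc1v : (c₁ : S) = d.u (-g) g := by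
    show d.v i j * d.u g 0 * (d.v i j)⁻¹ * (d.u g 0)⁻¹ = _
    rw [conj_u_by_v, u_inv, u_mul_u]
    congr 1 <;> ring
  have hfc1 : α c₁ = c₁ := by
    refine fix_of_mem_zpowers hX hα _ ?_
    obtain ⟨p, q, hpq⟩ := hαA
    obtain ⟨k, l, e | e⟩ := cases_elem d ((α v₀ : X) : S)
    · exact absurd (e ▸ u_mem d k l) hαv
    have h1 : ((α c₁ : X) : S) = d.u (q - p) (p - q) := by
      rw [hc1, map_mul, map_mul, map_mul, map_inv, map_inv, Subgroup.coe_mul, Subgroup.coe_mul,
        Subgroup.coe_mul, Subgroup.coe_inv, Subgroup.coe_inv, e, hpq, conj_u_by_v, u_inv, u_mul_u]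
      congr 1
    obtain ⟨t, ht⟩ := (hlev p q).mp (hpq ▸ (α a₀).2)
    refine ⟨t, Subtype.ext ?_⟩
    show ((c₁ ^ t : X) : S) = _
    rw [SubgroupClass.coe_zpow, hc1v, h1, u_zpow, u_eq_iff, ht]
    exact ⟨⟨0, by linarith⟩, ⟨0, by linarith⟩⟩
  have hfa2 : α (a₀ * a₀) = a₀ * a₀ := by
    have hgg : d.u g g ∈ X := hZ (hZu g)
    have e : a₀ * a₀ = ⟨d.u g g, hgg⟩ * c₁⁻¹ := Subtype.ext (by
      show d.u g 0 * d.u g 0 = d.u g g * (c₁ : S)⁻¹
      rw [hc1v, u_inv, u_mul_u, u_mul_u]
      congr 1 <;> ring)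
    rw [e, map_mul, map_inv, hfc1, hfixZ ⟨d.u g g, hgg⟩ (hZu g)]
  -- small elements of `X ∩ U` are fixed
  have hsmall : ∀ x : X, (x : S) ∈ d.U → x * x = 1 → α a₀ ≠ x * a₀ ∨ α x = x := by
    intro x hxU hxx
    by_cases hfix : α x = x
    · exact Or.inr hfix
    left
    intro hax
    apply hfix
    obtain ⟨p, q, hpq⟩ := hxU
    have hxS : d.u p q * d.u p q = 1 := hpq ▸ congrArg Subtype.val hxx
    have hw : α (⟨d.w, hZ (w_central d)⟩ : X) = ⟨d.w, hZ (w_central d)⟩ := hfixZ _ (w_central d)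
    have hh0 : d.u d.h 0 ∈ X := (hlev _ _).mpr (by rw [sub_zero]; exact_mod_cast hgh)
    have hha : α ⟨d.u d.h 0, hh0⟩ = ⟨d.u d.h 0, hh0⟩ ∨ g = d.h := by
      obtain ⟨m, hm⟩ := hgh
      by_cases hm1 : m = 1
      · right; rw [hm, hm1, mul_one]
      left
      obtain ⟨m', rfl⟩ : 2 ∣ m := by
        have hd2 : m ∣ 2 ^ n := hn ▸ ⟨2 * g, by rw [hm]; ring⟩
        obtain ⟨e, -, rfl⟩ := (Nat.dvd_prime_pow Nat.prime_two).mp hd2
        exact dvd_pow_self 2 fun e0 => hm1 (by rw [e0, pow_zero])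
      have e : (⟨d.u d.h 0, hh0⟩ : X) = (a₀ * a₀) ^ (m' : ℤ) := Subtype.ext (by
        rw [SubgroupClass.coe_zpow, Subgroup.coe_mul]
        show d.u d.h 0 = (d.u g 0 * d.u g 0) ^ (m' : ℤ)
        rw [u_mul_u, u_zpow, hm]
        push_cast
        congr 1 <;> ring)
      rw [e, map_zpow, hfa2]
    have hmid : ∀ y : X, (y : S) = d.u 0 d.h → α ⟨d.u d.h 0, hh0⟩ = ⟨d.u d.h 0, hh0⟩ → α y = y := by
      intro y hy h
      have e : y = ⟨d.w, hZ (w_central d)⟩ * ⟨d.u d.h 0, hh0⟩ := Subtype.ext (by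
        rw [hy]
        show d.u 0 d.h = d.w * d.u d.h 0
        rw [Data.w, u_mul_u, u_eq_iff]
        exact ⟨⟨1, by ring⟩, ⟨0, by ring⟩⟩)
      rw [e, map_mul, hw, h]
    rcases u_involution_cases d hxS with e | e | e | e <;> rw [← hpq] at e
    · rw [show x = 1 from Subtype.ext e, map_one]
    · rcases hha with h | h
      · rw [show x = ⟨d.u d.h 0, hh0⟩ from Subtype.ext e, h]
      · exfalso
        have e2 : α a₀ = 1 := by
          rw [hax]
          apply Subtype.ext
          show (x : S) * d.u g 0 = 1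
          rw [e, h, u_mul_u, u_eq_one_iff, add_zero]
          exact ⟨⟨1, by ring⟩, dvd_zero _⟩
        have e3 : a₀ = 1 := α.injective (e2.trans (map_one α).symm)
        have e4 : d.u g 0 = 1 := congrArg Subtype.val e3
        exact hgne ((u_eq_one_iff d).mp e4).1
    · rcases hha with h | h
      · exact hmid x e h
      · exfalso
        have e2 : α a₀ = ⟨d.w, hZ (w_central d)⟩ := by
          rw [hax]
          apply Subtype.ext
          show (x : S) * d.u g 0 = d.w
          rw [e, h, Data.w, u_mul_u, zero_add, add_zero]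
        have e3 : a₀ = ⟨d.w, hZ (w_central d)⟩ := α.injective (e2.trans hw.symm)
        have e4 : d.u g 0 = d.u d.h d.h := congrArg Subtype.val e3
        rw [u_eq_iff, sub_zero] at e4
        have := Int.le_of_dvd (by omega) e4.2
        omega
    · rw [show x = ⟨d.w, hZ (w_central d)⟩ from Subtype.ext e, hw]
  have hfa : α a₀ = a₀ := by
    refine CfsgLib.Small.apply_eq_self_of_step hX hα ?_
    have hcom : a₀ * α a₀ = α a₀ * a₀ := Subtype.ext (U_comm d (u_mem d g 0) hαA)
    have hdd : a₀⁻¹ * α a₀ * (a₀⁻¹ * α a₀) = 1 := by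
      rw [(Commute.inv_right hcom.symm).mul_mul_mul_comm, ← map_mul, hfa2, ← mul_inv_rev, inv_mul_cancel]
    refine (hsmall _ ?_ hdd).resolve_left fun h => h ?_
    · rw [Subgroup.coe_mul, Subgroup.coe_inv]
      exact mul_mem (inv_mem (u_mem d g 0)) hαA
    · rw [mul_assoc, ← hcom, inv_mul_cancel_left]
  have hfU : ∀ x : X, (x : S) ∈ d.U → α x = x := by
    rintro x ⟨k, l, hkl⟩
    obtain ⟨t, ht⟩ := (hlev k l).mp (hkl ▸ x.2)
    have hll : d.u l l ∈ X := hZ (hZu l)
    have e : x = a₀ ^ t * ⟨d.u l l, hll⟩ := Subtype.ext (by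
      rw [Subgroup.coe_mul, SubgroupClass.coe_zpow, hkl]
      show d.u k l = (d.u g 0) ^ t * d.u l l
      rw [u_zpow, u_mul_u, ← ht, zero_mul, zero_add, sub_add_cancel])
    rw [e, map_mul, map_zpow, hfa, hfixZ ⟨d.u l l, hll⟩ (hZu l)]
  refine MulEquiv.ext fun x => ?_
  show α x = x
  by_cases hxU : (x : S) ∈ d.U
  · exact hfU x hxU
  · refine CfsgLib.Small.apply_eq_self_of_step hX hα (hfU _ ?_)
    have h1 : ((α x : X) : S) ∉ d.U := fun h => by
      have h2 : α (α x) = α x := hfU _ h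
      rw [α.injective h2] at h
      exact hxU h
    rw [Subgroup.coe_mul, Subgroup.coe_inv]
    exact (Subgroup.mul_mem_iff_of_index_two (index_U d)).mpr
      ⟨fun h => absurd ((inv_mem_iff (x := (x : S))).mp h) hxU, fun h => absurd h h1⟩

/-- The shape `Q ⊔ Z` in coordinates. -/
theorem shape_equiv {m : ℕ} (hm : d.h = 2 * m) {X : Subgroup S} (hC : Subgroup.centralizer (X : Set S) ≤ X)
    (hlev : ∀ i j : ℤ, d.u i j ∈ X ↔ (d.h : ℤ) ∣ i - j) {i j : ℤ} (hv : d.v i j ∈ X) (hij : 2 ∣ i + j) :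
    ∃ a b : ℤ, a + b = d.h ∧ X = Subgroup.closure {d.u m (-m), d.v a b} ⊔ Subgroup.center S ∧
      Nonempty (↥(Subgroup.closure ({d.u m (-m), d.v a b} : Set S)) ≃* QuaternionGroup 2) := by
  have hh := d.h2
  have hZ := center_le_of_centric hC
  obtain ⟨s, hs⟩ := hij
  have hmh : (d.h : ℤ) = 2 * m := by exact_mod_cast hm
  -- adjust `v` by a central element
  have hvX : d.v (i + ((m : ℤ) - s)) (j + ((m : ℤ) - s)) ∈ X := by
    have h1 : d.u ((m : ℤ) - s) ((m : ℤ) - s) ∈ X := hZ ((u_central_iff d).mpr (by rw [sub_self]; exact dvd_zero _))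
    have := mul_mem h1 hv
    rwa [u_mul_v, add_comm _ i, add_comm _ j] at this
  refine ⟨i + ((m : ℤ) - s), j + ((m : ℤ) - s), by rw [hmh]; linarith, ?_, ?_⟩
  · set a := i + ((m : ℤ) - s)
    set b := j + ((m : ℤ) - s)
    set K := Subgroup.closure ({d.u m (-m), d.v a b} : Set S) ⊔ Subgroup.center S
    have hu : ∀ k l : ℤ, (d.h : ℤ) ∣ k - l → d.u k l ∈ K := by
      rintro k l ⟨t, ht⟩
      have e : d.u k l = (d.u m (-m)) ^ t * (d.u 1 1) ^ (k - (m : ℤ) * t) := by
        rw [u_zpow, u_zpow, u_mul_u, u_eq_iff, one_mul]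
        exact ⟨⟨0, by ring⟩, ⟨0, by rw [hmh] at ht; linarith⟩⟩
      rw [e]
      exact mul_mem (zpow_mem (Subgroup.mem_sup_left (Subgroup.subset_closure (Or.inl rfl)) : d.u m (-m) ∈ K) t)
        (zpow_mem (Subgroup.mem_sup_right ((u_central_iff d).mpr (by rw [sub_self]; exact dvd_zero _)) : d.u 1 1 ∈ K) _)
    apply le_antisymm
    · intro x hx
      obtain ⟨k, l, rfl | rfl⟩ := cases_elem d x
      · exact hu k l ((hlev k l).mp hx)
      · have h1 : d.u (k - a) (l - b) ∈ X := by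
          have := mul_mem hx (inv_mem hvX)
          rwa [show d.v k l * (d.v a b)⁻¹ = d.u (k - a) (l - b) by
            rw [mul_inv_eq_iff_eq_mul, u_mul_v, sub_add_cancel, sub_add_cancel]] at this
        have := mul_mem (hu _ _ ((hlev _ _).mp h1))
          (Subgroup.mem_sup_left (Subgroup.subset_closure (Or.inr rfl)) : d.v a b ∈ K)
        rwa [u_mul_v, sub_add_cancel, sub_add_cancel] at this
    · refine sup_le ((Subgroup.closure_le _).mpr ?_) hZ
      rintro x (rfl | rfl)
      · exact (hlev _ _).mpr ⟨1, by rw [hmh]; ring⟩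
      · exact hvX
  · haveI : Fact (Nat.Prime 2) := ⟨Nat.prime_two⟩
    refine CfsgLib.Quat.nonempty_equiv ?_ ?_ ?_ ?_ ?_
    · rw [← zpow_natCast, u_zpow, u_eq_one_iff, hmh]
      exact ⟨⟨1, by push_cast; ring⟩, ⟨-1, by push_cast; ring⟩⟩
    · rw [← zpow_natCast, u_zpow, v_mul_v, u_eq_iff]
      refine ⟨⟨0, ?_⟩, ⟨-1, ?_⟩⟩ <;> · rw [hmh]; push_cast; linarith
    · rw [conj_u_by_v, u_inv, neg_neg]
    · show orderOf (d.u m (-m)) = 2 ^ (1 + 1)
      refine orderOf_eq_prime_pow ?_ ?_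
      · rw [← zpow_natCast, u_zpow, u_eq_one_iff]
        rintro ⟨h1, -⟩
        push_cast at h1
        have := Int.le_of_dvd (by omega) h1
        omega
      · rw [← zpow_natCast, u_zpow, u_eq_one_iff, hmh]
        exact ⟨⟨1, by push_cast; ring⟩, ⟨-1, by push_cast; ring⟩⟩
    · rintro ⟨t, ht⟩
      replace ht : (d.u m (-m)) ^ t = d.v (i + ((m : ℤ) - s)) (j + ((m : ℤ) - s)) := ht
      rw [u_zpow] at ht
      exact u_ne_v d _ _ _ _ ht

theorem shape_map {m : ℕ} {a b a' b' : ℤ} (hab : a + b = d.h) (hab' : a' + b' = d.h) :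
    ∃ s : S, (Subgroup.closure ({d.u m (-m), d.v a b} : Set S) ⊔ Subgroup.center S).map (MulAut.conj s).toMonoidHom
        = Subgroup.closure ({d.u m (-m), d.v a' b'} : Set S) ⊔ Subgroup.center S := by
  refine ⟨d.u (a' - a) 0, ?_⟩
  rw [Subgroup.map_sup, MonoidHom.map_closure, Set.image_pair]
  simp only [MulEquiv.coe_toMonoidHom, MulAut.conj_apply]
  rw [U_comm d (u_mem d _ _) (u_mem d _ _), mul_inv_cancel_right, conj_v_by_u, sub_zero, add_sub_cancel]
  congr 1
  · rw [show b - (a' - a) = b' by linarith]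
  · apply le_antisymm
    · rintro _ ⟨c, hc, rfl⟩
      rw [MulEquiv.coe_toMonoidHom, MulAut.conj_apply, Subgroup.mem_center_iff.mp hc, mul_inv_cancel_right]
      exact hc
    · intro c hc
      exact ⟨c, hc, by rw [MulEquiv.coe_toMonoidHom, MulAut.conj_apply, Subgroup.mem_center_iff.mp hc, mul_inv_cancel_right]⟩

/-- The normalizer of a subgroup of that shape contains it with index two. -/
theorem shape_relIndex {m : ℕ} (hm : d.h = 2 * m) {X : Subgroup S}
    (hlev : ∀ i j : ℤ, d.u i j ∈ X ↔ (d.h : ℤ) ∣ i - j) {a b : ℤ} (hab : a + b = d.h)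
    (hX : X = Subgroup.closure {d.u m (-m), d.v a b} ⊔ Subgroup.center S) :
    X.relIndex (Subgroup.normalizer (X : Set S)) = 2 := by
  have hh := d.h2
  have hm1 : 1 ≤ m := by omega
  have hmh : (d.h : ℤ) = 2 * m := by exact_mod_cast hm
  have ha1 : d.u m (-m) ∈ X := hX ▸ Subgroup.mem_sup_left (Subgroup.subset_closure (Or.inl rfl))
  have hb1 : d.v a b ∈ X := hX ▸ Subgroup.mem_sup_left (Subgroup.subset_closure (Or.inr rfl))
  have hnorm : ∀ p q : ℤ, d.u p q ∈ Subgroup.normalizer (X : Set S) ↔ (m : ℤ) ∣ p - q := by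
    intro p q
    have e : d.u p q * d.v a b * (d.u p q)⁻¹ = d.u (p - q) (-(p - q)) * d.v a b := by
      rw [conj_v_by_u, u_mul_v]
      congr 1 <;> ring
    have hiff : d.u p q * d.v a b * (d.u p q)⁻¹ ∈ X ↔ (m : ℤ) ∣ p - q := by
      rw [e, Subgroup.mul_mem_cancel_right _ hb1, hlev, hmh, show p - q - -(p - q) = 2 * (p - q) by ring,
        mul_dvd_mul_iff_left two_ne_zero]
    constructor
    · intro h
      exact hiff.mp ((Subgroup.mem_normalizer_iff.mp h _).mp hb1)
    · intro h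
      have hle : X.map (MulAut.conj (d.u p q)).toMonoidHom ≤ X := by
        conv_lhs => rw [hX]
        rw [Subgroup.map_sup, MonoidHom.map_closure, Set.image_pair, sup_le_iff, Subgroup.closure_le]
        refine ⟨?_, ?_⟩
        · rintro x (rfl | rfl) <;> rw [MulEquiv.coe_toMonoidHom, MulAut.conj_apply]
          · rw [U_comm d (u_mem d _ _) (u_mem d _ _), mul_inv_cancel_right]
            exact ha1
          · exact hiff.mpr h
        · rintro _ ⟨c, hc, rfl⟩
          rw [MulEquiv.coe_toMonoidHom, MulAut.conj_apply, Subgroup.mem_center_iff.mp hc, mul_inv_cancel_right]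
          exact hX ▸ Subgroup.mem_sup_right hc
      have heq : X.map (MulAut.conj (d.u p q)).toMonoidHom = X := Subgroup.eq_of_le_of_card_ge hle
        (Nat.card_congr (Subgroup.equivMapOfInjective X _ (MulEquiv.injective _)).toEquiv).le
      rw [Subgroup.mem_normalizer_iff]
      refine fun x => ⟨fun hx => heq.le ⟨x, hx, rfl⟩, fun hx => ?_⟩
      rw [← SetLike.mem_coe, ← heq] at hx
      obtain ⟨y, hy, hyx⟩ := hx
      exact (MulEquiv.injective (MulAut.conj (d.u p q)) hyx) ▸ hy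
  have he : d.u m 0 ∈ Subgroup.normalizer (X : Set S) := (hnorm _ _).mpr (by rw [sub_zero])
  rw [Subgroup.relIndex, Subgroup.index_eq_two_iff]
  refine ⟨⟨_, he⟩, fun x => ?_⟩
  have hpar : ∀ t : ℤ, ((d.h : ℤ) ∣ m * t) ↔ 2 ∣ t := fun t => by
    rw [hmh, mul_comm 2 (m : ℤ), mul_dvd_mul_iff_left (by omega)]
  simp only [Subgroup.mem_subgroupOf, Subgroup.coe_mul]
  obtain ⟨p, q, hx | hx⟩ := cases_elem d (x : S)
  · obtain ⟨t, ht⟩ := (hnorm p q).mp (hx ▸ x.2)
    rw [hx, u_mul_u, hlev, hlev, ht, show p + m - (q + 0) = (m : ℤ) * (t + 1) by linarith, hpar, hpar]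
    rcases Int.emod_two_eq t with e | e
    · exact Or.inr ⟨Int.dvd_of_emod_eq_zero e, by omega⟩
    · exact Or.inl ⟨by omega, by omega⟩
  · have e0 : (x : S) = d.u (p - a) (q - b) * d.v a b := by rw [hx, u_mul_v, sub_add_cancel, sub_add_cancel]
    have hN : d.u (p - a) (q - b) ∈ Subgroup.normalizer (X : Set S) := by
      have := mul_mem x.2 (inv_mem (Subgroup.le_normalizer hb1))
      rwa [e0, mul_inv_cancel_right] at this
    obtain ⟨t, ht⟩ := (hnorm _ _).mp hN
    have e1 : (x : S) * d.u m 0 = d.u (p - a) (q - b + m) * d.v a b := by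
      rw [e0, u_mul_v, v_mul_u, u_mul_v]
      congr 1 <;> ring
    rw [e1, e0, Subgroup.mul_mem_cancel_right _ hb1, Subgroup.mul_mem_cancel_right _ hb1, hlev, hlev, ht,
      show p - a - (q - b + m) = (m : ℤ) * (t - 1) by linarith, hpar, hpar]
    rcases Int.emod_two_eq t with e | e
    · exact Or.inr ⟨Int.dvd_of_emod_eq_zero e, by omega⟩
    · exact Or.inl ⟨by omega, by omega⟩

end CfsgLib.Wr
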