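import Cfsg.Agent.Lib.LocalFusion
import Cfsg.Agent.Lib.WreathedAut
import Cfsg.Agent.Lib.QuatAut
import Mathlib.GroupTheory.Sylow

/-! Further lemmas on odd order automizers of small 2-subgroups. -/

set_option autoImplicit false
set_option linter.unusedSectionVars false

namespace CfsgLib.LocalFusion

variable {G : Type*} [Group G] [Finite G]

omit [Finite G] in
theorem conj_pow_fix {g x : G} (h : g * x * g⁻¹ = x) : ∀ j : ℕ, g ^ j * x * (g ^ j)⁻¹ = x := by
  intro j
  induction j with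
  | zero => group
  | succ j ih =>
    rw [pow_succ, mul_inv_rev, show g ^ j * g * x * (g⁻¹ * (g ^ j)⁻¹) = g ^ j * (g * x * g⁻¹) * (g ^ j)⁻¹ by group,
      h, ih]

/-- An element of odd order fixing the involutions of an abelian 2-subgroup centralizes it. -/
theorem mem_centralizer_of_fix {U : Subgroup G} (hab : ∀ x ∈ U, ∀ y ∈ U, x * y = y * x) (hU : IsPGroup 2 U)
    {g : G} (hg : g ∈ Subgroup.normalizer (U : Set G)) (hodd : Odd (orderOf g))
    (hfix : ∀ x ∈ U, x * x = 1 → g * x * g⁻¹ = x) : g ∈ Subgroup.centralizer (U : Set G) := by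
  have key : ∀ k : ℕ, ∀ x ∈ U, x ^ 2 ^ k = 1 → g * x * g⁻¹ = x := by
    intro k
    induction k with
    | zero => intro x _ h1; rw [pow_zero, pow_one] at h1; subst h1; group
    | succ k ih =>
      intro x hx h1
      have hy : g * (x * x) * g⁻¹ = x * x := ih _ (mul_mem hx hx) (by rw [← sq, ← pow_mul, ← pow_succ']; exact h1)
      set y := g * x * g⁻¹ with hy'
      have hyU : y ∈ U := conj_mem_of hg hx
      set t := x⁻¹ * y with ht
      have htU : t ∈ U := mul_mem (inv_mem hx) hyU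
      have htt : t * t = 1 := by
        have e : t * t = (x * x)⁻¹ * (y * y) := by
          rw [ht, mul_inv_rev, show x⁻¹ * y * (x⁻¹ * y) = x⁻¹ * (y * x⁻¹) * y by group,
            hab y hyU x⁻¹ (inv_mem hx)]
          group
        rw [e, show y * y = g * (x * x) * g⁻¹ by rw [hy']; group, hy, inv_mul_cancel]
      have hgt : g * t * g⁻¹ = t := hfix t htU htt
      have hiter : ∀ j : ℕ, g ^ j * x * (g ^ j)⁻¹ = x * t ^ j := by
        intro j
        induction j with
        | zero => group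
        | succ j ihj =>
          calc g ^ (j + 1) * x * (g ^ (j + 1))⁻¹ = g ^ j * (g * x * g⁻¹) * (g ^ j)⁻¹ := by group
            _ = g ^ j * (x * t) * (g ^ j)⁻¹ := by rw [← hy', ht, mul_inv_cancel_left]
            _ = g ^ j * x * (g ^ j)⁻¹ * (g ^ j * t * (g ^ j)⁻¹) := by group
            _ = x * t ^ (j + 1) := by rw [ihj, conj_pow_fix hgt, pow_succ, mul_assoc]
      have h2 := hiter (orderOf g)
      rw [pow_orderOf_eq_one, one_mul, inv_one, mul_one] at h2
      obtain ⟨q, hq⟩ := hodd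
      rw [hq, pow_succ, pow_mul, sq, htt, one_pow, one_mul] at h2
      have ht1 : t = 1 := mul_eq_left.mp h2.symm
      rw [ht, inv_mul_eq_one] at ht1
      exact ht1.symm
  refine Subgroup.mem_centralizer_iff.mpr fun x hx => ?_
  obtain ⟨k, hk⟩ := hU ⟨x, hx⟩
  exact (mul_inv_eq_iff_eq_mul.mp (key k x hx (congrArg Subtype.val hk))).symm

/-- A fixed point free automorphism of an abelian group gives all elements as commutators. -/
theorem surj_comm {U : Subgroup G} (hab : ∀ x ∈ U, ∀ y ∈ U, x * y = y * x)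
    {g : G} (hg : g ∈ Subgroup.normalizer (U : Set G)) (hfix : ∀ x ∈ U, g * x * g⁻¹ = x → x = 1) :
    ∀ x ∈ U, ∃ u ∈ U, x = u⁻¹ * (g * u * g⁻¹) := by
  intro x hx
  let f : U → U := fun u => ⟨(u : G)⁻¹ * (g * u * g⁻¹), mul_mem (inv_mem u.2) (conj_mem_of hg u.2)⟩
  have hf : Function.Injective f := by
    intro u v h
    have h' : (u : G)⁻¹ * (g * u * g⁻¹) = (v : G)⁻¹ * (g * v * g⁻¹) := congrArg Subtype.val h
    have h1 : g * ((u : G) * (v : G)⁻¹) * g⁻¹ = (u : G) * (v : G)⁻¹ := by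
      have h2 : g * (u : G) * g⁻¹ = (u : G) * (v : G)⁻¹ * (g * v * g⁻¹) := by
        rw [mul_assoc (u : G) _ _, ← h', mul_inv_cancel_left]
      calc g * ((u : G) * (v : G)⁻¹) * g⁻¹ = g * u * g⁻¹ * (g * v * g⁻¹)⁻¹ := by group
        _ = (u : G) * (v : G)⁻¹ := by rw [h2, mul_inv_cancel_right]
    exact Subtype.ext (mul_inv_eq_one.mp (hfix _ (mul_mem u.2 (inv_mem v.2)) h1))
  obtain ⟨u, hu⟩ := (Finite.injective_iff_surjective.mp hf) ⟨x, hx⟩
  exact ⟨u, u.2, (congrArg Subtype.val hu).symm⟩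

/-- An element lies in a subgroup if its 2-part and its odd part do. -/
theorem mem_of_parts {K : Subgroup G} {g : G} (h1 : ∀ k a : ℕ, (g ^ k) ^ 2 ^ a = 1 → g ^ k ∈ K)
    (h2 : ∀ k : ℕ, Odd (orderOf (g ^ k)) → g ^ k ∈ K) : g ∈ K := by
  obtain ⟨a, r, hr, he⟩ := Nat.exists_eq_two_pow_mul_odd (orderOf_pos g).ne'
  have m1 : g ^ r ∈ K := h1 r a (by rw [← pow_mul, mul_comm, ← he, pow_orderOf_eq_one])
  have m2 : g ^ 2 ^ a ∈ K := h2 _ (Odd.of_dvd_nat hr (orderOf_dvd_of_pow_eq_one (by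
    rw [← pow_mul, ← he, pow_orderOf_eq_one])))
  have hc : Nat.Coprime r (2 ^ a) := Nat.Coprime.pow_right _ hr.coprime_two_right
  have hb := Nat.gcd_eq_gcd_ab r (2 ^ a)
  rw [hc.gcd_eq_one] at hb
  rw [show g = (g ^ r) ^ (Nat.gcdA r (2 ^ a)) * (g ^ 2 ^ a) ^ (Nat.gcdB r (2 ^ a)) by
    rw [← zpow_natCast g r, ← zpow_natCast g (2 ^ a), ← zpow_mul, ← zpow_mul, ← zpow_add, ← hb, Nat.cast_one,
      zpow_one]]
  exact mul_mem (zpow_mem m1 _) (zpow_mem m2 _)

/-- Odd order elements normalizing a cyclic 2-subgroup centralize it. -/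
theorem fix_cyclic {C : Subgroup G} (hC : IsPGroup 2 C) [IsCyclic C] {g : G}
    (hg : g ∈ Subgroup.normalizer (C : Set G)) (hodd : Odd (orderOf g)) : ∀ c ∈ C, g * c * g⁻¹ = c := by
  intro c hc
  set α : MulAut C := C.normalizerMonoidHom ⟨g, hg⟩
  have hα : (orderOf α).Coprime 2 := by
    have h1 := orderOf_map_dvd C.normalizerMonoidHom (⟨g, hg⟩ : Subgroup.normalizer (C : Set G))
    rw [Subgroup.orderOf_mk] at h1
    exact (Odd.of_dvd_nat hodd h1).coprime_two_right
  obtain ⟨z, hz⟩ := IsCyclic.exists_generator (α := C)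
  have h1 : α z = z := CfsgLib.Wr.fix_of_mem_zpowers hC hα z (hz _)
  obtain ⟨k, hk⟩ := hz ⟨c, hc⟩
  have h2 : α ⟨c, hc⟩ = ⟨c, hc⟩ := by rw [← hk, map_zpow, h1]
  exact congrArg Subtype.val h2

/-- An element of 2-power order outside a normal subgroup makes the index even. -/
theorem two_dvd_index_of_not_mem {N : Type*} [Group N] [Finite N] (K : Subgroup N) [K.Normal] {g : N} {a : ℕ}
    (hg : g ^ 2 ^ a = 1) (hgK : g ∉ K) : 2 ∣ K.index := by
  by_contra hodd
  refine hgK ((QuotientGroup.eq_one_iff g).mp ?_)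
  rw [← orderOf_eq_one_iff]
  refine Nat.eq_one_of_dvd_coprimes (Nat.Coprime.pow_left a (Nat.prime_two.coprime_iff_not_dvd.mpr hodd))
    (orderOf_dvd_of_pow_eq_one ?_) (orderOf_dvd_natCard _)
  rw [← QuotientGroup.mk_pow, hg, QuotientGroup.mk_one]

/-- The index of a normal subgroup containing the odd order elements of the kernel of an action. -/
theorem index_dvd_of_kernel {N A : Type*} [Group N] [Finite N] [Group A] [Finite A] (C : Subgroup N) [C.Normal]
    (ψ : N →* A) (h : ∀ y : N, ψ y = 1 → Odd (orderOf y) → y ∈ C) :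
    ∃ r, C.index ∣ Nat.card A * 2 ^ r := by
  haveI : Fact (Nat.Prime 2) := ⟨Nat.prime_two⟩
  have hp : IsPGroup 2 (ψ.ker ⧸ C.subgroupOf ψ.ker) := by
    intro q
    obtain ⟨y, rfl⟩ := QuotientGroup.mk_surjective q
    obtain ⟨a, r, hr, he⟩ := Nat.exists_eq_two_pow_mul_odd (orderOf_pos (y : N)).ne'
    refine ⟨a, ?_⟩
    rw [← QuotientGroup.mk_pow, QuotientGroup.eq_one_iff, Subgroup.mem_subgroupOf, SubgroupClass.coe_pow]
    refine h _ (by rw [map_pow, MonoidHom.mem_ker.mp y.2, one_pow]) (Odd.of_dvd_nat hr (orderOf_dvd_of_pow_eq_one ?_))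
    rw [← pow_mul, ← he, pow_orderOf_eq_one]
  obtain ⟨r, hr⟩ := IsPGroup.iff_card.mp hp
  refine ⟨r, dvd_trans (Subgroup.index_dvd_of_le (inf_le_left : C ⊓ ψ.ker ≤ C)) ?_⟩
  rw [← Subgroup.relIndex_mul_index (inf_le_right : C ⊓ ψ.ker ≤ ψ.ker), Subgroup.inf_relIndex_right,
    Subgroup.index_ker, mul_comm (Nat.card A), Subgroup.relIndex, Subgroup.index_eq_card, hr]
  exact mul_dvd_mul_left _ (Subgroup.card_subgroup_dvd_card ψ.range)

/-- A conjugating element with control over the elements centralizing the quaternion group. -/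
theorem q8_conj_fix {Q : Subgroup G} (e : Q ≃* QuaternionGroup 2) {g : G}
    (hg : g ∈ Subgroup.normalizer (Q : Set G)) (hgC : g ∉ Subgroup.centralizer (Q : Set G))
    (hodd : Odd (orderOf g)) {c d : G} (hc : c ∈ Q) (hcc : c * c ≠ 1) (hd : d ∈ Q) (hdd : d * d ≠ 1) :
    ∃ h : G, h * c * h⁻¹ = d ∧
      ∀ z : G, g * z * g⁻¹ = z → (∀ q ∈ Q, q * z * q⁻¹ = z) → h * z * h⁻¹ = z := by
  obtain ⟨k, h | h⟩ := q8_cases e hg hgC hodd hc hcc hd hdd
  · exact ⟨g ^ k, h.symm, fun z hz _ => conj_pow_fix hz k⟩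
  · set c' := g ^ k * c * (g ^ k)⁻¹ with hc'
    have hm : c' ∈ Q := conj_mem_of (pow_mem hg k) hc
    obtain ⟨q, hq⟩ := q8_facts.2.1 (e ⟨c', hm⟩) (e ⟨d, hd⟩) (by
      rw [← map_mul, Ne, ← map_one e, e.injective.eq_iff]
      intro h'
      exact hcc (conj_eq_one_iff.mp ((conj_mul ..).symm.trans (congrArg Subtype.val h')))) (by
      rw [← map_mul, ← map_one e]
      exact congrArg e (Subtype.ext h))
    have h' := congrArg e.symm hq
    simp only [map_mul, map_inv, e.symm_apply_apply] at h'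
    have h'' : ((e.symm q : Q) : G) * c' * ((e.symm q : Q) : G)⁻¹ = d := congrArg Subtype.val h'
    refine ⟨((e.symm q : Q) : G) * g ^ k, ?_, fun z hz hQ => ?_⟩
    · rw [← h'', hc']; group
    · rw [show ((e.symm q : Q) : G) * g ^ k * z * (((e.symm q : Q) : G) * g ^ k)⁻¹
        = ((e.symm q : Q) : G) * (g ^ k * z * (g ^ k)⁻¹) * ((e.symm q : Q) : G)⁻¹ by group, conj_pow_fix hz k]
      exact hQ _ (e.symm q).2

/-- The centre of a group isomorphic to the quaternion group of order eight has index four. -/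
theorem q8_center_index {Q : Type*} [Group Q] (e : Q ≃* QuaternionGroup 2) : (Subgroup.center Q).index = 4 := by
  haveI : Finite Q := Finite.of_equiv _ e.symm.toEquiv
  have hc : Fintype.card {x : QuaternionGroup 2 // ∀ h, h * x = x * h} = 2 := by decide
  have h1 := (Subgroup.center Q).card_mul_index
  have h2 : Nat.card (Subgroup.center Q) = 2 := by
    rw [← hc, ← Nat.card_eq_fintype_card]
    refine Nat.card_congr ⟨fun g => ⟨e g, fun h => ?_⟩, fun g => ⟨e.symm g, ?_⟩, fun g => by simp, fun g => by simp⟩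
    · rw [← e.apply_symm_apply h, ← map_mul, ← map_mul, Subgroup.mem_center_iff.mp g.2]
    · refine Subgroup.mem_center_iff.mpr fun h => e.injective ?_
      rw [map_mul, map_mul, e.apply_symm_apply]
      exact g.2 (e h)
  rw [h2, Nat.card_congr e.toEquiv, CfsgLib.Quat.nat_card] at h1
  omega

/-- The automorphism group of the quaternion group of order eight has order dividing 24. -/
theorem q8_card_aut_dvd : Nat.card (MulAut (QuaternionGroup 2)) ∣ 24 := by
  have h3 := CfsgLib.Quat.three_dvd_card_aut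
  have h24 := CfsgLib.Quat.card_aut_le
  have hpos : 0 < Nat.card (MulAut (QuaternionGroup 2)) := Nat.card_pos
  have h4 : 4 ∣ Nat.card (MulAut (QuaternionGroup 2)) := by
    have hk : (MulAut.conj : QuaternionGroup 2 →* MulAut (QuaternionGroup 2)).ker = Subgroup.center _ := by
      ext q
      rw [MonoidHom.mem_ker, Subgroup.mem_center_iff]
      refine ⟨fun h x => (mul_inv_eq_iff_eq_mul.mp (DFunLike.congr_fun h x)).symm, fun h => MulEquiv.ext fun x => ?_⟩
      show q * x * q⁻¹ = x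
      rw [← h x, mul_inv_cancel_right]
    have h5 := Subgroup.card_subgroup_dvd_card (MulAut.conj : QuaternionGroup 2 →* MulAut (QuaternionGroup 2)).range
    rwa [← Subgroup.index_ker, hk, q8_center_index (MulEquiv.refl _)] at h5
  generalize Nat.card (MulAut (QuaternionGroup 2)) = A at *
  obtain ⟨t, rfl⟩ := h4
  have : t ≤ 6 := by omega
  interval_cases t <;> omega

end CfsgLib.LocalFusion
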