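import Cfsg.Agent.Lib.QuaternionSection
import Cfsg.Agent.Lib.LocalFusionExtra

/-!
Odd automisers of subgroups of a `2`-group with a cyclic maximal subgroup whose other elements have small
order, and the resulting copy of `SL(2,3)`.
-/

set_option autoImplicit false

namespace CfsgLib.DihedralCore

variable {G : Type*} [Group G] [Finite G]

/-- An element of odd order fixing `c` and normalising a subgroup containing `c` with index at most two. -/
theorem centralizes_of_index_two {Q C : Subgroup G} (hCQ : C ≤ Q) (hidx : C.relIndex Q ≤ 2) {g : G}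
    (hodd : Odd (orderOf g)) (hg : g ∈ Subgroup.normalizer (Q : Set G))
    (hgC : ∀ c ∈ C, g * c * g⁻¹ = c) (hC : IsPGroup 2 C) : g ∈ Subgroup.centralizer (Q : Set G) := by
  have hpos : C.relIndex Q ≠ 0 := Subgroup.index_ne_zero_of_finite
  rw [Subgroup.mem_centralizer_iff]
  intro a ha
  by_cases haC : a ∈ C
  · have := hgC a haC
    rw [mul_inv_eq_iff_eq_mul] at this
    exact this.symm
  have hidx2 : (C.subgroupOf Q).index = 2 := by
    show C.relIndex Q = 2
    rcases (show C.relIndex Q = 1 ∨ C.relIndex Q = 2 by omega) with h | h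
    · exact absurd (Subgroup.relIndex_eq_one.mp h ha) haC
    · exact h
  have hga : g * a * g⁻¹ ∈ Q := (Subgroup.mem_normalizer_iff.mp hg a).mp ha
  have hnot : g * a * g⁻¹ ∉ C := fun h => haC (by
    have h1 := hgC _ h
    have h2 : g * a * g⁻¹ = a := mul_left_cancel (mul_right_cancel h1)
    rwa [h2] at h)
  set c := a⁻¹ * (g * a * g⁻¹) with hc
  have hcC : c ∈ C := by
    have h1 : ((⟨a, ha⟩ : Q)⁻¹ * ⟨g * a * g⁻¹, hga⟩) ∈ C.subgroupOf Q := by
      rw [Subgroup.mul_mem_iff_of_index_two hidx2, inv_mem_iff]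
      exact iff_of_false (fun h => haC h) (fun h => hnot h)
    exact h1
  have hit : ∀ i : ℕ, g ^ i * a * (g ^ i)⁻¹ = a * c ^ i := by
    intro i
    induction i with
    | zero => simp
    | succ i ih =>
      calc g ^ (i + 1) * a * (g ^ (i + 1))⁻¹ = g * (g ^ i * a * (g ^ i)⁻¹) * g⁻¹ := by rw [pow_succ']; group
        _ = (g * a * g⁻¹) * (g * c ^ i * g⁻¹) := by rw [ih]; group
        _ = a * c * c ^ i := by rw [hgC _ (pow_mem hcC i), hc]; group
        _ = _ := by rw [pow_succ']; group
  have h1 := hit (orderOf g)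
  rw [pow_orderOf_eq_one, one_mul, inv_one, mul_one, left_eq_mul] at h1
  have h2 : orderOf c ∣ orderOf g := orderOf_dvd_of_pow_eq_one h1
  obtain ⟨k, hk⟩ := IsPGroup.iff_orderOf.mp hC ⟨c, hcC⟩
  rw [Subgroup.orderOf_mk] at hk
  have hc1 : c = 1 := by
    rw [← orderOf_eq_one_iff]
    refine Nat.eq_one_of_dvd_coprimes (hodd.coprime_two_right.pow_right k) h2 ?_
    rw [hk]
  rw [hc, inv_mul_eq_one] at hc1
  exact (eq_mul_inv_iff_mul_eq.mp hc1)

/-- The moved subgroup is quaternion of order eight. -/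
theorem q8_of_cyclic_coatom {T : Subgroup G} (hT : IsPGroup 2 T) {x : G} (hxT : x ∈ T)
    (hidx : (Subgroup.zpowers x).relIndex T = 2) (hout : ∀ a ∈ T, a ∉ Subgroup.zpowers x → a ^ 4 = 1)
    {z : G} (hz : orderOf z = 2) (hzc : ∀ g, g * z * g⁻¹ = z)
    {Q : Subgroup G} (hQT : Q ≤ T) (hzQ : z ∈ Q) {g : G} (hg : g ∈ Subgroup.normalizer (Q : Set G))
    (hgQ : g ∉ Subgroup.centralizer (Q : Set G)) (hodd : Odd (orderOf g)) :
    Nonempty (Q ≃* QuaternionGroup 2) := by
  classical
  set X := Subgroup.zpowers x with hX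
  set C := Q ⊓ X with hC
  have hQp : IsPGroup 2 Q := hT.to_le hQT
  have hCp : IsPGroup 2 C := hQp.to_le inf_le_left
  have hCi : C.relIndex Q ≤ 2 := by
    rw [hC, Subgroup.inf_relIndex_left]
    have h1 : X.relIndex Q ∣ X.relIndex T := by
      haveI : (X.subgroupOf T).Normal := Subgroup.normal_of_index_eq_two hidx
      have := Subgroup.relIndex_dvd_index_of_normal (X.subgroupOf T) (Q.subgroupOf T)
      rw [Subgroup.relIndex_subgroupOf hQT] at this
      exact this
    rw [hidx] at h1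
    exact Nat.le_of_dvd two_pos h1
  obtain ⟨c, hcC⟩ : ∃ c : G, C = Subgroup.zpowers c := by
    haveI : IsCyclic C := isCyclic_of_injective (Subgroup.inclusion (inf_le_right : C ≤ X))
      (Subgroup.inclusion_injective _)
    obtain ⟨u, hu⟩ := IsCyclic.exists_generator (α := C)
    refine ⟨u, le_antisymm (fun w hw => ?_) (Subgroup.zpowers_le.mpr u.2)⟩
    obtain ⟨i, hi⟩ := hu ⟨w, hw⟩
    exact ⟨i, congrArg Subtype.val hi⟩
  have hcmem : c ∈ C := hcC ▸ Subgroup.mem_zpowers c
  have hmove : g * c * g⁻¹ ≠ c := by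
    intro h
    refine hgQ (centralizes_of_index_two inf_le_left hCi hodd hg ?_ hCp)
    intro w hw
    have hw' : w ∈ C := hw
    rw [hcC] at hw'
    obtain ⟨i, rfl⟩ := hw'
    rw [← conj_zpow, h]
  have hg' : ∀ {g : G}, g ∈ Subgroup.normalizer (Q : Set G) → ∀ w ∈ Q, g * w * g⁻¹ ∈ Q :=
    fun hg w hw => (Subgroup.mem_normalizer_iff.mp hg w).mp hw
  -- an odd element normalising `C` centralises it
  have hnormC : ∀ h : G, Odd (orderOf h) → h * c * h⁻¹ ∈ C → h * c * h⁻¹ = c := by
    intro h hh hmem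
    have hn : h ∈ Subgroup.normalizer (C : Set G) := by
      have hle : C.map (MulAut.conj h).toMonoidHom ≤ C := by
        rw [hcC, MonoidHom.map_zpowers, Subgroup.zpowers_le, ← hcC]
        simpa using hmem
      have heq := Subgroup.eq_of_le_of_card_ge hle (by rw [Subgroup.card_map_of_injective (MulAut.conj h).injective])
      rw [Subgroup.mem_normalizer_iff]
      intro w
      conv_rhs => rw [← heq]
      rw [Subgroup.mem_map]
      constructor
      · intro hw; exact ⟨w, hw, rfl⟩
      · rintro ⟨v, hv, e⟩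
        have : v = w := by simpa using e
        exact this ▸ hv
    haveI : IsCyclic C := by rw [hcC]; infer_instance
    exact CfsgLib.LocalFusion.fix_cyclic hCp hn hh c hcmem
  have hcardC : orderOf c * C.relIndex Q = Nat.card Q := by
    have hCQ : C ≤ Q := inf_le_left
    rw [← Nat.card_zpowers, ← hcC, ← Nat.card_congr (Subgroup.subgroupOfEquivOfLe hCQ).toEquiv]
    exact (C.subgroupOf Q).card_mul_index
  set d := g * c * g⁻¹ with hd
  have hdC : d ∉ C := fun h => hmove (hnormC g hodd h)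
  have hdQ : d ∈ Q := hg' hg c hcmem.1
  have hdord : orderOf d = orderOf c := by
    rw [hd, show g * c * g⁻¹ = MulAut.conj g c from rfl, MulEquiv.orderOf_eq]
  have hd4 : orderOf c ∣ 4 := by
    rw [← hdord]
    exact orderOf_dvd_of_pow_eq_one (hout d (hQT hdQ) fun h => hdC ⟨hdQ, h⟩)
  have hc4 : orderOf c = 4 := by
    rcases (Nat.dvd_prime_pow Nat.prime_two).mp (show orderOf c ∣ 2 ^ 2 by exact hd4) with ⟨i, hi, he⟩
    interval_cases i
    · exfalso
      rw [pow_zero, orderOf_eq_one_iff] at he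
      exact hmove (by rw [hd, he, mul_one, mul_inv_cancel])
    · exfalso
      rw [pow_one] at he
      have hQ4 : Nat.card Q ≤ 4 := by
        rw [← hcardC, he]
        omega
      refine hgQ (centralizes_of_index_two (C := Subgroup.zpowers z) (Subgroup.zpowers_le.mpr hzQ) ?_ hodd hg ?_
        (hQp.to_le (Subgroup.zpowers_le.mpr hzQ)))
      · have h1 := ((Subgroup.zpowers z).subgroupOf Q).card_mul_index
        rw [Nat.card_congr (Subgroup.subgroupOfEquivOfLe (Subgroup.zpowers_le.mpr hzQ)).toEquiv,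
          Nat.card_zpowers, hz] at h1
        change 2 * (Subgroup.zpowers z).relIndex Q = Nat.card Q at h1
        omega
      · rintro _ ⟨i, rfl⟩
        rw [← conj_zpow, hzc]
    · exact he
  have hrel : C.relIndex Q = 2 := by
    rcases (show C.relIndex Q = 0 ∨ C.relIndex Q = 1 ∨ C.relIndex Q = 2 by omega) with h | h | h
    · exact absurd h Subgroup.index_ne_zero_of_finite
    · exact absurd (Subgroup.relIndex_eq_one.mp h hdQ) hdC
    · exact h
  have hQ8 : Nat.card Q = 8 := by
    rw [← hcardC, hc4, hrel]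
  have hodd2 : Odd (orderOf (g ^ 2)) := Odd.of_dvd_nat hodd (orderOf_pow_dvd 2)
  set e := g * d * g⁻¹ with he
  have heQ : e ∈ Q := hg' hg d hdQ
  have heC : e ∉ C := fun h => by
    have h2 : g ^ 2 * c * (g ^ 2)⁻¹ = e := by rw [he, hd, pow_two]; group
    have h3 := hnormC (g ^ 2) hodd2 (h2 ▸ h)
    -- a square root
    obtain ⟨t, ht⟩ := hodd
    have h4 : ∀ j : ℕ, (g ^ 2) ^ j * c * ((g ^ 2) ^ j)⁻¹ = c := by
      intro j
      induction j with
      | zero => simp
      | succ j ih =>
        calc (g ^ 2) ^ (j + 1) * c * ((g ^ 2) ^ (j + 1))⁻¹ = g ^ 2 * ((g ^ 2) ^ j * c * ((g ^ 2) ^ j)⁻¹) * (g ^ 2)⁻¹ := by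
              rw [pow_succ']; group
          _ = c := by rw [ih, h3]
    have h5 := h4 (t + 1)
    rw [← pow_mul, show 2 * (t + 1) = orderOf g + 1 by omega, pow_succ, pow_orderOf_eq_one, one_mul] at h5
    exact hmove h5
  have hall : ∀ w ∈ Q, w * w = 1 → w ∈ Subgroup.zpowers (c ^ 2) := by
    have hc' : ∀ w ∈ C, w = 1 ∨ w = c ∨ w = c ^ 2 ∨ w = c ^ 3 := by
      intro w hw
      rw [hcC, mem_zpowers_iff_mem_range_orderOf, Finset.mem_image, hc4] at hw
      obtain ⟨i, hi, rfl⟩ := hw
      rw [Finset.mem_range] at hi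
      interval_cases i <;> simp
    have hsqC : ∀ w ∈ C, w * w = 1 → w ∈ Subgroup.zpowers (c ^ 2) := by
      intro w hw hww
      rcases hc' w hw with rfl | rfl | rfl | rfl
      · exact one_mem _
      · exfalso
        have : orderOf w ∣ 2 := orderOf_dvd_of_pow_eq_one (by rw [pow_two]; exact hww)
        rw [hc4] at this; norm_num at this
      · exact Subgroup.mem_zpowers _
      · exfalso
        rw [← pow_add] at hww
        have := orderOf_dvd_of_pow_eq_one hww
        rw [hc4] at this; norm_num at this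
    -- the four outside elements
    have hd2 : d ^ 2 ≠ 1 := fun h => by
      have := orderOf_dvd_of_pow_eq_one h
      rw [hdord, hc4] at this; norm_num at this
    have he2 : e ^ 2 ≠ 1 := fun h => by
      have := orderOf_dvd_of_pow_eq_one h
      rw [he, show g * d * g⁻¹ = MulAut.conj g d from rfl, MulEquiv.orderOf_eq, hdord, hc4] at this
      norm_num at this
    have hde : d ≠ e := fun h => hmove (by
      have h' : g * c * g⁻¹ = g * d * g⁻¹ := h
      exact (mul_left_cancel (mul_right_cancel h')).symm)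
    have hde3 : d⁻¹ ≠ e := fun h => by
      have h' : g * d * g⁻¹ = g * c⁻¹ * g⁻¹ := by rw [← he, ← h, hd]; group
      have h'' := mul_left_cancel (mul_right_cancel h')
      exact hdC (h'' ▸ C.inv_mem hcmem)
    intro w hw hww
    by_cases hwC : w ∈ C
    · exact hsqC w hwC hww
    exfalso
    have hinvd : d⁻¹ ≠ d := fun h => hd2 (by rw [pow_two]; nth_rw 1 [← h]; exact inv_mul_cancel d)
    have hinve : e⁻¹ ≠ e := fun h => he2 (by rw [pow_two]; nth_rw 1 [← h]; exact inv_mul_cancel e)
    have hww' : ∀ v, v ^ 2 ≠ 1 → w ≠ v := fun v hv h => hv (by rw [pow_two, ← h]; exact hww)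
    have hsub : ({d, d⁻¹, e, e⁻¹, w} : Set G) ⊆ (Q : Set G) \ (C : Set G) := by
      intro v hv
      simp only [Set.mem_insert_iff, Set.mem_singleton_iff] at hv
      rcases hv with rfl | rfl | rfl | rfl | rfl
      exacts [⟨hdQ, hdC⟩, ⟨Q.inv_mem hdQ, fun h => hdC (by simpa using C.inv_mem h)⟩, ⟨heQ, heC⟩,
        ⟨Q.inv_mem heQ, fun h => heC (by simpa using C.inv_mem h)⟩, ⟨hw, hwC⟩]
    have h5 : ({d, d⁻¹, e, e⁻¹, w} : Set G).ncard = 5 := by
      have n1 : d ≠ e⁻¹ := fun h => hde3 (by rw [h, inv_inv])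
      have n2 : d⁻¹ ≠ e⁻¹ := fun h => hde (inv_injective h)
      have n3 := (hww' d hd2).symm
      have n4 : d⁻¹ ≠ w := (hww' d⁻¹ (by rw [inv_pow, ne_eq, inv_eq_one]; exact hd2)).symm
      have n5 := (hww' e he2).symm
      have n6 : e⁻¹ ≠ w := (hww' e⁻¹ (by rw [inv_pow, ne_eq, inv_eq_one]; exact he2)).symm
      rw [Set.ncard_insert_of_notMem, Set.ncard_insert_of_notMem, Set.ncard_insert_of_notMem,
        Set.ncard_insert_of_notMem, Set.ncard_singleton] <;>
        simp [Ne.symm hinvd, Ne.symm hinve, hde, hde3, n1, n2, n3, n4, n5, n6]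
    have h4 : ((Q : Set G) \ (C : Set G)).ncard = 4 := by
      rw [Set.ncard_sdiff (fun v hv => (inf_le_left : C ≤ Q) hv), ← Nat.card_coe_set_eq, ← Nat.card_coe_set_eq]
      show Nat.card Q - Nat.card C = 4
      rw [hQ8, hcC, Nat.card_zpowers, hc4]
    have := Set.ncard_le_ncard hsub (Set.toFinite _)
    omega
  refine CfsgLib.QuatSection.q8_of_moved hQp ?_ hg hgQ hodd
  intro H K hH hK
  haveI : Fact (Nat.Prime 2) := ⟨Nat.prime_two⟩
  have key : ∀ H : Subgroup Q, Nat.card H = 2 → H.map Q.subtype = Subgroup.zpowers (c ^ 2) := by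
    intro H hH
    refine Subgroup.eq_of_le_of_card_ge ?_ ?_
    · rintro _ ⟨v, hv, rfl⟩
      refine hall _ v.2 ?_
      have h1 : (⟨v, hv⟩ : H) ^ 2 = 1 := hH ▸ pow_card_eq_one'
      rw [← pow_two]
      exact congrArg Subtype.val (congrArg Subtype.val h1)
    · rw [Subgroup.card_map_of_injective Q.subtype_injective, hH, Nat.card_zpowers,
        orderOf_pow, hc4]
      norm_num
  exact Subgroup.map_injective Q.subtype_injective ((key H hH).trans (key K hK).symm)

/-- The hom from `SL(2,3)`. -/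
theorem exists_sl23 {φ : QuaternionGroup 2 →* G} (hφ : Function.Injective φ) {g : G} (hg3 : g ^ 3 = 1)
    (hrot : ∀ q, g * φ q * g⁻¹ = φ (CfsgLib.Quat.rotFun q)) :
    ∃ θ : CfsgLib.QuatSection.SL23 →* G, Function.Injective θ := by
  classical
  have hiter : ∀ (t : ℕ) q, g ^ t * φ q * (g ^ t)⁻¹ = φ (CfsgLib.Quat.rotFun^[t] q) := by
    intro t
    induction t with
    | zero => intro q; simp
    | succ t ih =>
      intro q
      rw [Function.iterate_succ_apply', ← hrot, ← ih, pow_succ']; group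
  let F := Equiv.ofBijective _ CfsgLib.QuatSection.slMap_bijective
  let θ : CfsgLib.QuatSection.SL23 →* G := MonoidHom.mk' (fun s => φ (F.symm s).1 * g ^ (F.symm s).2.val)
    (fun a b => by
      obtain ⟨⟨q, t⟩, rfl⟩ := F.surjective a
      obtain ⟨⟨q', t'⟩, rfl⟩ := F.surjective b
      have hm : F (q, t) * F (q', t') = F (q * (CfsgLib.Quat.rotFun^[t.val] q'), t + t') :=
        CfsgLib.QuatSection.slMap_mul q q' t t'
      rw [hm, F.symm_apply_apply, F.symm_apply_apply, F.symm_apply_apply]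
      show φ (q * CfsgLib.Quat.rotFun^[t.val] q') * g ^ (t + t').val = φ q * g ^ t.val * (φ q' * g ^ t'.val)
      rw [map_mul, ← hiter, ZMod.val_add]
      have hmod : g ^ ((t.val + t'.val) % 3) = g ^ (t.val + t'.val) := by
        conv_rhs => rw [← Nat.mod_add_div (t.val + t'.val) 3, pow_add, pow_mul, hg3, one_pow, mul_one]
      rw [hmod, pow_add]
      group)
  refine ⟨θ, (injective_iff_map_eq_one θ).mpr fun s hs => ?_⟩
  obtain ⟨⟨q, t⟩, rfl⟩ := F.surjective s
  have hs' : φ q * g ^ t.val = 1 := by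
    have : φ (F.symm (F (q, t))).1 * g ^ (F.symm (F (q, t))).2.val = 1 := hs
    rwa [F.symm_apply_apply] at this
  have hq : φ q = (g ^ t.val)⁻¹ := eq_inv_of_mul_eq_one_left hs'
  have hq1 : φ q = 1 := by
    rw [← orderOf_eq_one_iff]
    refine Nat.eq_one_of_dvd_coprimes (show Nat.Coprime 3 8 by norm_num) ?_ ?_
    · refine orderOf_dvd_of_pow_eq_one ?_
      rw [hq, inv_pow, ← pow_mul, mul_comm, pow_mul, hg3, one_pow, inv_one]
    · rw [orderOf_injective φ hφ]
      exact orderOf_dvd_of_pow_eq_one ((show ∀ x : QuaternionGroup 2, x ^ 8 = 1 by decide) q)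
  have hq2 : q = 1 := hφ (hq1.trans (map_one φ).symm)
  subst hq2
  have ht : t = 0 := by
    rw [hq1, one_mul] at hs'
    have := hiter t.val (QuaternionGroup.a 1)
    rw [hs', one_mul, inv_one, mul_one] at this
    exact (show ∀ t : ZMod 3, (QuaternionGroup.a 1 : QuaternionGroup 2) =
      CfsgLib.Quat.rotFun^[t.val] (QuaternionGroup.a 1) → t = 0 by decide) t (hφ this)
  subst ht
  exact (show CfsgLib.QuatSection.slMap 1 0 = 1 by decide +kernel)

end CfsgLib.DihedralCore
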