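import Cfsg.Prelude.Def_CaseTheorems
import Cfsg.Agent.Lib.Involutions
import Mathlib.GroupTheory.Index
import Mathlib.Tactic.Ring
import Mathlib.Tactic.Group
import Mathlib.Tactic.LinearCombination

/-! Structure of quasi-dihedral 2-groups. -/

set_option autoImplicit false
set_option linter.unusedSectionVars false

namespace CfsgLib.QD

/-- Generators of a quasi-dihedral group of order `16 M`. -/
structure Data (S : Type*) [Group S] where
  M : ℕ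
  x : S
  y : S
  hM : 0 < M
  hx : orderOf x = 8 * M
  hy : orderOf y = 2
  hxy : y * x * y⁻¹ = x ^ (4 * (M : ℤ) - 1)
  hcard : Nat.card S = 16 * M

theorem exists_data {S : Type*} [Group S] (hS : Cfsg.IsQuasiDihedral S) :
    ∃ n : ℕ, 3 ≤ n ∧ Nat.card S = 2 ^ (n + 1) ∧ ∃ d : Data S, d.M = 2 ^ (n - 3) := by
  obtain ⟨n, hn, hcard, x, y, hx, hy, hxy⟩ := hS
  obtain ⟨k, rfl⟩ := Nat.exists_eq_add_of_le hn
  refine ⟨3 + k, hn, hcard, ⟨2 ^ k, x, y, by positivity, ?_, hy, ?_, ?_⟩, ?_⟩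
  · rw [hx, pow_add]; norm_num
  · rw [hxy, ← zpow_natCast, Nat.cast_sub Nat.one_le_two_pow, show 3 + k - 1 = 2 + k by omega, pow_add]
    push_cast
    norm_num
  · rw [hcard, show 3 + k + 1 = 4 + k by omega, pow_add]; norm_num
  · rw [show 3 + k - 3 = k by omega]

variable {S : Type*} [Group S] [Finite S] (d : Data S)

/-- The central involution. -/
def Data.z : S := d.x ^ (4 * (d.M : ℤ))

/-- The cyclic subgroup of index two. -/
def Data.X : Subgroup S := Subgroup.zpowers d.x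

theorem hyy : d.y * d.y = 1 := CfsgLib.Involutions.mul_self_eq_one_of_orderOf d.hy

theorem yinv : d.y⁻¹ = d.y := CfsgLib.Involutions.inv_eq_self_of_orderOf d.hy

theorem zpow_eq_iff {i j : ℤ} : d.x ^ i = d.x ^ j ↔ 8 * (d.M : ℤ) ∣ j - i := by
  rw [zpow_eq_zpow_iff_modEq, d.hx, Int.modEq_iff_dvd]
  push_cast
  rfl

theorem zpow_eq_one_iff {i : ℤ} : d.x ^ i = 1 ↔ 8 * (d.M : ℤ) ∣ i := by
  rw [← orderOf_dvd_iff_zpow_eq_one, d.hx]
  push_cast
  rfl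

theorem conj_y (i : ℤ) : d.y * d.x ^ i * d.y⁻¹ = d.x ^ ((4 * (d.M : ℤ) - 1) * i) := by
  rw [← conj_zpow, d.hxy, ← zpow_mul]

theorem y_mul_zpow (i : ℤ) : d.y * d.x ^ i = d.x ^ ((4 * (d.M : ℤ) - 1) * i) * d.y := by
  rw [← conj_y, inv_mul_cancel_right]

theorem y_not_mem : d.y ∉ d.X := by
  rintro ⟨k, hk⟩
  have h := d.hxy
  rw [← hk] at h
  have h2 : d.x ^ (1 : ℤ) = d.x ^ (4 * (d.M : ℤ) - 1) := by
    rw [← h, zpow_one]
    show d.x = d.x ^ k * d.x * (d.x ^ k)⁻¹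
    group
  rw [zpow_eq_iff] at h2
  have h3 := Int.le_of_dvd (by have := d.hM; omega) h2
  omega

theorem index_X : d.X.index = 2 := by
  have h := d.X.card_mul_index
  have hc : Nat.card d.X = 8 * d.M := by rw [Data.X, Nat.card_zpowers, d.hx]
  rw [hc, d.hcard] at h
  have := d.hM
  exact Nat.eq_of_mul_eq_mul_left (by omega : 0 < 8 * d.M) (by omega)

theorem card_X : Nat.card d.X = 8 * d.M := by rw [Data.X, Nat.card_zpowers, d.hx]

theorem cases_elem (g : S) : ∃ i : ℤ, g = d.x ^ i ∨ g = d.x ^ i * d.y := by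
  by_cases hg : g ∈ d.X
  · obtain ⟨i, hi⟩ := hg
    exact ⟨i, Or.inl hi.symm⟩
  · have h : g * d.y ∈ d.X := by
      rw [Subgroup.mul_mem_iff_of_index_two (index_X d)]
      exact ⟨fun h => absurd h hg, fun h => absurd h (y_not_mem d)⟩
    obtain ⟨i, hi⟩ := h
    refine ⟨i, Or.inr ?_⟩
    rw [show d.x ^ i = g * d.y from hi, mul_assoc, hyy, mul_one]

theorem xy_not_mem (i : ℤ) : d.x ^ i * d.y ∉ d.X := fun h => by
  rw [Subgroup.mul_mem_cancel_left _ (show d.x ^ i ∈ d.X from zpow_mem (Subgroup.mem_zpowers _) i)] at h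
  exact y_not_mem d h

theorem zpow_mem_X (i : ℤ) : d.x ^ i ∈ d.X := zpow_mem (Subgroup.mem_zpowers _) i

theorem xy_ne_zpow (i j : ℤ) : d.x ^ i * d.y ≠ d.x ^ j := fun h => xy_not_mem d i (h ▸ zpow_mem_X d j)

theorem xy_eq_iff {i j : ℤ} : d.x ^ i * d.y = d.x ^ j * d.y ↔ 8 * (d.M : ℤ) ∣ j - i := by
  rw [mul_left_inj, zpow_eq_iff]

theorem conj_xy (k i : ℤ) :
    d.x ^ k * (d.x ^ i * d.y) * (d.x ^ k)⁻¹ = d.x ^ (i + (2 - 4 * (d.M : ℤ)) * k) * d.y := by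
  rw [← zpow_neg, mul_assoc, mul_assoc _ d.y, y_mul_zpow, ← mul_assoc, ← mul_assoc, ← zpow_add, ← zpow_add]
  congr 2
  ring

theorem xy_mul_zpow (i k : ℤ) :
    d.x ^ i * d.y * d.x ^ k = d.x ^ (i + (4 * (d.M : ℤ) - 1) * k) * d.y := by
  rw [mul_assoc, y_mul_zpow, ← mul_assoc, ← zpow_add]

theorem xy_mul_xy (i k : ℤ) :
    d.x ^ i * d.y * (d.x ^ k * d.y) = d.x ^ (i + (4 * (d.M : ℤ) - 1) * k) := by
  rw [← mul_assoc, xy_mul_zpow, mul_assoc, hyy, mul_one]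

theorem xy_mul_self (i : ℤ) : d.x ^ i * d.y * (d.x ^ i * d.y) = d.x ^ (4 * (d.M : ℤ) * i) := by
  rw [xy_mul_xy]
  congr 1
  ring

/-- Arithmetic: `1 - 2M` is its own inverse modulo `4M`. -/
theorem dvd_cancel {e k : ℤ} (he : e ∣ 4 * (d.M : ℤ)) : e ∣ (1 - 2 * (d.M : ℤ)) * k ↔ e ∣ k := by
  refine ⟨fun h => ?_, fun h => dvd_mul_of_dvd_right h _⟩
  have h1 : e ∣ (1 - 2 * (d.M : ℤ)) * ((1 - 2 * (d.M : ℤ)) * k) := dvd_mul_of_dvd_right h _
  have h2 : e ∣ 4 * (d.M : ℤ) * (((d.M : ℤ) - 1) * k) := dvd_mul_of_dvd_left he _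
  have h3 := dvd_sub h1 h2
  ring_nf at h3
  exact h3

theorem commute_xy_iff {k i : ℤ} :
    Commute (d.x ^ k) (d.x ^ i * d.y) ↔ 4 * (d.M : ℤ) ∣ k := by
  rw [← dvd_cancel d (dvd_refl _), Commute, SemiconjBy, ← mul_inv_eq_iff_eq_mul, conj_xy, xy_eq_iff]
  rw [show (i - (i + (2 - 4 * (d.M : ℤ)) * k)) = -(2 * ((1 - 2 * (d.M : ℤ)) * k)) by ring, dvd_neg,
    show 8 * (d.M : ℤ) = 2 * (4 * d.M) by ring, mul_dvd_mul_iff_left two_ne_zero]

theorem isConj_shift (i j : ℤ) : IsConj (d.x ^ i * d.y) (d.x ^ (i + 2 * j) * d.y) := by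
  rw [isConj_iff]
  refine ⟨d.x ^ ((1 - 2 * (d.M : ℤ)) * j), ?_⟩
  rw [conj_xy, xy_eq_iff]
  exact ⟨j - d.M * j, by ring⟩

theorem z_mem_X : d.z ∈ d.X := zpow_mem_X d _

theorem z_ne_one : d.z ≠ 1 := fun h => by
  rw [Data.z, zpow_eq_one_iff] at h
  have h3 := Int.le_of_dvd (by have := d.hM; omega) h
  have := d.hM
  omega

theorem orderOf_z : orderOf d.z = 2 := by
  rw [CfsgLib.Involutions.orderOf_eq_two_iff']
  refine ⟨?_, z_ne_one d⟩
  rw [Data.z, ← zpow_add, zpow_eq_one_iff]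
  exact ⟨1, by ring⟩

theorem z_central : d.z ∈ Subgroup.center S := by
  rw [Subgroup.mem_center_iff]
  intro g
  obtain ⟨i, rfl | rfl⟩ := cases_elem d g
  · exact ((Commute.refl d.x).zpow_zpow i (4 * (d.M : ℤ))).eq
  · exact ((commute_xy_iff d).mpr (dvd_refl _)).eq.symm

theorem z_mem_iff {i : ℤ} : d.x ^ i = d.z ↔ 8 * (d.M : ℤ) ∣ 4 * (d.M : ℤ) - i := zpow_eq_iff d

theorem zpow_sq_eq_one_cases {i : ℤ} (h : 4 * (d.M : ℤ) ∣ i) : d.x ^ i = 1 ∨ d.x ^ i = d.z := by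
  obtain ⟨t, rfl⟩ := h
  obtain ⟨s, rfl | rfl⟩ := Int.even_or_odd' t
  · left
    rw [zpow_eq_one_iff]
    exact ⟨s, by ring⟩
  · right
    rw [z_mem_iff]
    exact ⟨-s, by ring⟩

theorem orderOf_xy_even (j : ℤ) : orderOf (d.x ^ (2 * j) * d.y) = 2 := by
  rw [CfsgLib.Involutions.orderOf_eq_two_iff', xy_mul_self, zpow_eq_one_iff]
  exact ⟨⟨j, by ring⟩, fun h => xy_ne_zpow d (2 * j) 0 (by rw [h, zpow_zero])⟩

theorem xy_mul_self_odd (j : ℤ) :
    d.x ^ (2 * j + 1) * d.y * (d.x ^ (2 * j + 1) * d.y) = d.z := by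
  rw [xy_mul_self, z_mem_iff]
  exact ⟨-j, by ring⟩

theorem orderOf_xy_odd (j : ℤ) : orderOf (d.x ^ (2 * j + 1) * d.y) = 4 := by
  haveI : Fact (Nat.Prime 2) := ⟨Nat.prime_two⟩
  refine orderOf_eq_prime_pow (p := 2) (n := 1) ?_ ?_
  · rw [pow_one, sq, xy_mul_self_odd]
    exact z_ne_one d
  · rw [show (2 : ℕ) ^ (1 + 1) = 2 * 2 from rfl, pow_mul, sq (_ * d.y), xy_mul_self_odd, sq,
      CfsgLib.Involutions.mul_self_eq_one_of_orderOf (orderOf_z d)]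

theorem involution_cases {g : S} (hg : orderOf g = 2) :
    g = d.z ∨ ∃ j : ℤ, g = d.x ^ (2 * j) * d.y := by
  obtain ⟨hgg, hg1⟩ := CfsgLib.Involutions.orderOf_eq_two_iff'.mp hg
  obtain ⟨i, rfl | rfl⟩ := cases_elem d g
  · left
    rw [← zpow_add, zpow_eq_one_iff, show i + i = 2 * i by ring,
      show 8 * (d.M : ℤ) = 2 * (4 * d.M) by ring, mul_dvd_mul_iff_left two_ne_zero] at hgg
    exact (zpow_sq_eq_one_cases d hgg).resolve_left hg1
  · right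
    obtain ⟨j, rfl | rfl⟩ := Int.even_or_odd' i
    · exact ⟨j, rfl⟩
    · rw [orderOf_xy_odd] at hg
      omega

theorem orderOf_zpow_quarter : orderOf (d.x ^ (2 * (d.M : ℤ))) = 4 := by
  rw [show (2 * (d.M : ℤ)) = ((2 * d.M : ℕ) : ℤ) by push_cast; ring, zpow_natCast,
    orderOf_pow, d.hx, Nat.gcd_eq_right ⟨4, by ring⟩]
  have := d.hM
  rw [show 8 * d.M = 4 * (2 * d.M) by ring, Nat.mul_div_cancel _ (by omega)]

theorem order_four_cases {g : S} (hg : orderOf g = 4) :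
    g = d.x ^ (2 * (d.M : ℤ)) ∨ g = d.x ^ (-(2 * (d.M : ℤ))) ∨ ∃ j : ℤ, g = d.x ^ (2 * j + 1) * d.y := by
  obtain ⟨i, rfl | rfl⟩ := cases_elem d g
  · have h4 : (d.x ^ i) ^ 4 = 1 := by rw [← hg, pow_orderOf_eq_one]
    rw [← zpow_natCast, ← zpow_mul, zpow_eq_one_iff, show 8 * (d.M : ℤ) = 2 * (d.M : ℤ) * ((4 : ℕ) : ℤ) by push_cast; ring,
      mul_dvd_mul_iff_right (by norm_num)] at h4
    obtain ⟨t, rfl⟩ := h4
    obtain ⟨s, rfl | rfl⟩ := Int.even_or_odd' t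
    · exfalso
      have h2 : (d.x ^ (2 * (d.M : ℤ) * (2 * s))) ^ 2 = 1 := by
        rw [← zpow_natCast, ← zpow_mul, zpow_eq_one_iff]
        exact ⟨s, by push_cast; ring⟩
      have := Nat.le_of_dvd two_pos (orderOf_dvd_of_pow_eq_one h2)
      omega
    · obtain ⟨u, rfl | rfl⟩ := Int.even_or_odd' s
      · left
        rw [zpow_eq_iff]
        exact ⟨-u, by ring⟩
      · right; left
        rw [zpow_eq_iff]
        exact ⟨-(u + 1), by ring⟩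
  · right; right
    obtain ⟨j, rfl | rfl⟩ := Int.even_or_odd' i
    · rw [orderOf_xy_even] at hg
      omega
    · exact ⟨j, rfl⟩

theorem normal_X : d.X.Normal := Subgroup.normal_of_index_eq_two (index_X d)

end CfsgLib.QD
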