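import Cfsg.Agent.Lib.DihedralFusion

/-!
Four subgroups and involutions of groups with dihedral Sylow 2-subgroups.
-/

set_option autoImplicit false
set_option linter.unusedSectionVars false

namespace CfsgLib.DihedralFusion

open DihedralGroup
open CfsgLib.LocalFusion

theorem isKleinFour_of_sq {G : Type*} [Group G] [Finite G] (hc : Nat.card G = 4) (h : ∀ g : G, g * g = 1) :
    IsKleinFour G where
  card_four := hc
  exponent_two := by
    haveI : Nontrivial G := Finite.one_lt_card_iff_nontrivial.mp (by rw [hc]; norm_num)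
    exact (Monoid.exponent_eq_prime_iff Nat.prime_two).mpr fun g hg => orderOf_eq_prime (by rw [sq]; exact h g) hg

/-- The four subgroup through a reflection. -/
theorem exists_klein {m h : ℕ} (hm : m = 2 * h) (hh : 0 < h) (i : ZMod m) :
    ∃ U : Subgroup (DihedralGroup m), IsKleinFour U ∧ ∀ x : DihedralGroup m, x ∈ U ↔
      (x = r 0 ∨ x = r (h : ZMod m) ∨ x = sr i ∨ x = sr (i + (h : ZMod m))) := by
  classical
  haveI : NeZero m := ⟨by omega⟩
  have h2 : (h : ZMod m) + (h : ZMod m) = 0 := half_add_half hm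
  have h2' : -(h : ZMod m) = (h : ZMod m) := neg_eq_of_add_eq_zero_left h2
  have h0 : (h : ZMod m) ≠ 0 := fun e => by
    have := Nat.le_of_dvd hh ((ZMod.natCast_eq_zero_iff h m).mp e)
    omega
  let U : Subgroup (DihedralGroup m) :=
    { carrier := {x | x = r 0 ∨ x = r (h : ZMod m) ∨ x = sr i ∨ x = sr (i + (h : ZMod m))}
      one_mem' := Or.inl one_def
      mul_mem' := by
        rintro a b (rfl | rfl | rfl | rfl) (rfl | rfl | rfl | rfl) <;>
          simp [h2, h2', sub_eq_add_neg, add_assoc, add_comm, add_left_comm]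
      inv_mem' := by rintro a (rfl | rfl | rfl | rfl) <;> simp [h2'] }
  refine ⟨U, isKleinFour_of_sq ?_ ?_, fun x => Iff.rfl⟩
  · rw [show Nat.card U = (U : Set (DihedralGroup m)).ncard from Nat.card_coe_set_eq _]
    have hT : (U : Set (DihedralGroup m)) =
        (({r 0, r (h : ZMod m), sr i, sr (i + (h : ZMod m))} : Finset (DihedralGroup m)) : Set _) := by
      ext x
      simp only [Finset.coe_insert, Finset.coe_singleton, Set.mem_insert_iff, Set.mem_singleton_iff]
      exact Iff.rfl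
    rw [hT, Set.ncard_coe_finset]
    have hne : i ≠ i + (h : ZMod m) := fun e => h0 (add_eq_left.mp e.symm)
    rw [Finset.card_insert_of_notMem, Finset.card_insert_of_notMem, Finset.card_pair]
    · exact fun e => hne (sr.inj e)
    · simp only [Finset.mem_insert, Finset.mem_singleton, reduceCtorEq, or_self, not_false_eq_true]
    · simp only [Finset.mem_insert, Finset.mem_singleton, reduceCtorEq, r.injEq, or_false]
      exact fun e => h0 e.symm
  · rintro ⟨g, rfl | rfl | rfl | rfl⟩ <;> refine Subtype.ext ?_ <;> simp [h2]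

theorem evenIdx_or {m : ℕ} [NeZero m] (i : ZMod m) : EvenIdx i ∨ ∃ j, i = 1 + (j + j) := by
  rcases Nat.even_or_odd' i.val with ⟨q, hq | hq⟩
  · exact Or.inl ⟨(q : ZMod m), by rw [← ZMod.natCast_zmod_val i, hq]; push_cast; ring⟩
  · exact Or.inr ⟨(q : ZMod m), by rw [← ZMod.natCast_zmod_val i, hq]; push_cast; ring⟩

theorem not_evenIdx {m : ℕ} (hm : 2 ∣ m) {i : ZMod m} (h : ZMod.castHom hm (ZMod 2) i = 1) : ¬ EvenIdx i := by
  rintro ⟨j, rfl⟩
  rw [map_add] at h
  revert h
  generalize ZMod.castHom hm (ZMod 2) j = z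
  revert z
  decide

section

variable {X : Type*} [Group X] [Finite X] {S : Sylow 2 X} {m : ℕ} (eS : (S : Subgroup X) ≃* DihedralGroup m)

/-- The element of `X` with given dihedral coordinates. -/
def pt (d : DihedralGroup m) : X := ((eS.symm d : (S : Subgroup X)) : X)

theorem pt_mem (d : DihedralGroup m) : pt eS d ∈ (S : Subgroup X) := (eS.symm d).2

theorem eS_pt (d : DihedralGroup m) (h : pt eS d ∈ (S : Subgroup X)) : eS ⟨pt eS d, h⟩ = d :=
  eS.apply_symm_apply d

theorem pt_eq {x : X} (hx : x ∈ (S : Subgroup X)) : pt eS (eS ⟨x, hx⟩) = x :=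
  congrArg Subtype.val (eS.symm_apply_apply ⟨x, hx⟩)

theorem pt_mul (a b : DihedralGroup m) : pt eS (a * b) = pt eS a * pt eS b := by
  simp only [pt, map_mul, Subgroup.coe_mul]

theorem pt_inv (a : DihedralGroup m) : pt eS a⁻¹ = (pt eS a)⁻¹ := by
  simp only [pt, map_inv, Subgroup.coe_inv]

theorem pt_one : pt eS 1 = 1 := by
  simp only [pt, map_one, Subgroup.coe_one]

theorem pt_injective : Function.Injective (pt eS) := Subtype.val_injective.comp eS.symm.injective

theorem orderOf_pt {d : DihedralGroup m} (h1 : d ≠ 1) (h2 : d * d = 1) : orderOf (pt eS d) = 2 :=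
  orderOf_eq_prime (by rw [sq, ← pt_mul, h2, pt_one]) fun e => h1 (pt_injective eS (e.trans (pt_one eS).symm))

include eS in
theorem even_shape (hm : 2 ≤ m) : 2 * (m / 2) = m ∧ 2 ∣ m := by
  obtain ⟨k, hk, -⟩ := exists_pow_index hm (S := S) eS
  have : 2 ∣ m := hk ▸ dvd_pow_self 2 (by omega)
  exact ⟨Nat.mul_div_cancel' this, this⟩

theorem exists_sub (hm : 2 ≤ m) (i : ZMod m) :
    ∃ U : Subgroup X, U ≤ (S : Subgroup X) ∧ IsKleinFour U ∧ ∀ d : DihedralGroup m, pt eS d ∈ U ↔
      (d = r 0 ∨ d = r ((m / 2 : ℕ) : ZMod m) ∨ d = sr i ∨ d = sr (i + ((m / 2 : ℕ) : ZMod m))) := by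
  obtain ⟨h2, -⟩ := even_shape eS hm
  obtain ⟨K, hK, hKm⟩ := exists_klein h2.symm (by omega) i
  let f : DihedralGroup m →* X := (S : Subgroup X).subtype.comp eS.symm.toMonoidHom
  refine ⟨K.map f, ?_, ?_, fun d => ?_⟩
  · rintro _ ⟨d, -, rfl⟩
    exact SetLike.coe_mem _
  · haveI := hK
    exact isKleinFour_of_equiv (Subgroup.equivMapOfInjective K f (pt_injective eS))
  · rw [← hKm d]
    constructor
    · rintro ⟨d', hd', e⟩
      exact (pt_injective eS e) ▸ hd'
    · exact fun h => ⟨d, h, rfl⟩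

theorem exists_conj_le {T : Subgroup X} (hT : IsPGroup 2 T) :
    ∃ g : X, T.map (MulAut.conj g).toMonoidHom ≤ (S : Subgroup X) := by
  haveI : Fact (Nat.Prime 2) := ⟨Nat.prime_two⟩
  obtain ⟨Q, hQ⟩ := hT.exists_le_sylow
  obtain ⟨g, hg⟩ := MulAction.exists_smul_eq X Q S
  refine ⟨g, ?_⟩
  rintro _ ⟨x, hx, rfl⟩
  rw [← hg]
  exact Subgroup.smul_mem_pointwise_smul x (MulAut.conj g) _ (hQ hx)

theorem isPGroup_klein {U : Subgroup X} (hU : IsKleinFour U) : IsPGroup 2 U :=
  IsPGroup.of_card (n := 2) (by rw [hU.card_four]; norm_num)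

theorem klein_map {U : Subgroup X} (hU : IsKleinFour U) (g : X) :
    IsKleinFour (U.map (MulAut.conj g).toMonoidHom) :=
  @isKleinFour_of_equiv _ _ _ _ (Subgroup.equivMapOfInjective U _ (MulAut.conj g).injective) hU

/-- A four subgroup of `S` is `S`-conjugate to the one through `sr 0` or `sr 1`, according to its class. -/
theorem exists_conj_rep (hm : 4 ≤ m) {V U : Subgroup X} (hV : V ≤ (S : Subgroup X)) (hVK : IsKleinFour V)
    (hUK : IsKleinFour U) {c : ZMod m} (hU : ∀ d : DihedralGroup m, pt eS d ∈ U ↔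
      (d = r 0 ∨ d = r ((m / 2 : ℕ) : ZMod m) ∨ d = sr c ∨ d = sr (c + ((m / 2 : ℕ) : ZMod m))))
    {x : X} (hx : x ∈ (S : Subgroup X)) {i₀ j : ZMod m} (hxV : x ∈ V) (he : eS ⟨x, hx⟩ = sr i₀)
    (hj : i₀ = c + (j + j)) : ∃ s : X, V.map (MulAut.conj s).toMonoidHom = U := by
  obtain ⟨i, hi⟩ := klein_shape eS (by omega) hV hVK
  obtain ⟨h2, -⟩ := even_shape eS (show 2 ≤ m by omega)
  have hh := half_add_half h2.symm
  have hcase : i₀ = i ∨ i₀ = i + ((m / 2 : ℕ) : ZMod m) := by
    rcases ((hi x hx hx).mp hxV) with e | e | e | e <;> rw [he] at e <;> cases e <;>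
      first | exact Or.inl rfl | exact Or.inr rfl
  refine ⟨pt eS (r j), Subgroup.eq_of_le_of_card_ge ?_ (by rw [(klein_map hVK _).card_four, hUK.card_four])⟩
  rintro _ ⟨y, hy, rfl⟩
  show pt eS (r j) * y * (pt eS (r j))⁻¹ ∈ U
  rw [← pt_eq eS (hV hy), ← pt_inv, ← pt_mul, ← pt_mul, hU]
  rcases (hi y (hV hy) (hV hy)).mp hy with e | e | e | e <;> rw [e]
  · left; simp
  · right; left; simp
  · rcases hcase with h | h
    · right; right; left
      simp only [inv_r, r_mul_sr, sr_mul_r]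
      exact congrArg sr (by linear_combination hj - h)
    · right; right; right
      simp only [inv_r, r_mul_sr, sr_mul_r]
      exact congrArg sr (by linear_combination hj - h - hh)
  · rcases hcase with h | h
    · right; right; right
      simp only [inv_r, r_mul_sr, sr_mul_r]
      exact congrArg sr (by linear_combination hj - h)
    · right; right; left
      simp only [inv_r, r_mul_sr, sr_mul_r]
      exact congrArg sr (by linear_combination hj - h)

include eS in
theorem two_classes (hm : 4 ≤ m) :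
    ∃ U₁ U₂ : Subgroup X, IsKleinFour U₁ ∧ IsKleinFour U₂ ∧ ¬ (∃ x : X, U₁.map (MulAut.conj x).toMonoidHom = U₂) ∧
      ∀ V : Subgroup X, IsKleinFour V → (∃ x : X, V.map (MulAut.conj x).toMonoidHom = U₁) ∨
        (∃ x : X, V.map (MulAut.conj x).toMonoidHom = U₂) := by
  haveI : NeZero m := ⟨by omega⟩
  obtain ⟨k, hk, -⟩ := exists_pow_index (S := S) (show 2 ≤ m by omega) eS
  obtain ⟨h2, hdvd⟩ := even_shape eS (show 2 ≤ m by omega)
  obtain ⟨U₁, hU₁, hU₁K, hU₁m⟩ := exists_sub eS (by omega) (0 : ZMod m)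
  obtain ⟨U₂, hU₂, hU₂K, hU₂m⟩ := exists_sub eS (by omega) (1 : ZMod m)
  have hcast : ZMod.castHom hdvd (ZMod 2) (1 + ((m / 2 : ℕ) : ZMod m)) = 1 := by
    rw [map_add, map_one, map_natCast]
    have : ((m / 2 : ℕ) : ZMod 2) = 0 := by
      rw [ZMod.natCast_eq_zero_iff]
      rcases k with _ | k
      · simp [hk] at hm
      · rw [hk, show 2 ^ (k + 1 + 1) = 2 * (2 * 2 ^ k) by ring, Nat.mul_div_cancel_left _ two_pos]
        exact Dvd.intro _ rfl
    rw [this, add_zero]
  refine ⟨U₁, U₂, hU₁K, hU₂K, ?_, fun V hV => ?_⟩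
  · rintro ⟨g, hg⟩
    have hiff := isEvenSub_fusion eS (by omega) hU₁ hU₁K (g := g) fun x hx =>
      hU₂ (hg ▸ ⟨x, hx, rfl⟩ : g * x * g⁻¹ ∈ U₂)
    rw [hg] at hiff
    obtain ⟨x, hx, i, hxU, he, hev⟩ := hiff.mpr ⟨pt eS (sr 0), pt_mem eS _, 0, (hU₁m _).mpr (by simp), eS_pt eS _ _,
      0, by simp⟩
    have hxU' : pt eS (sr i) ∈ U₂ := by
      rw [← he, pt_eq]
      exact hxU
    rcases (hU₂m _).mp hxU' with e | e | e | e <;> cases e
    · exact not_evenIdx hdvd (map_one _) hev
    · exact not_evenIdx hdvd hcast hev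
  · obtain ⟨g, hg⟩ := exists_conj_le (S := S) (isPGroup_klein hV)
    have hcomp : ∀ (U : Subgroup X) (s : X), (V.map (MulAut.conj g).toMonoidHom).map (MulAut.conj s).toMonoidHom = U →
        ∃ x : X, V.map (MulAut.conj x).toMonoidHom = U := by
      rintro U s rfl
      refine ⟨s * g, ?_⟩
      rw [Subgroup.map_map]
      congr 1
      ext x
      simp
    obtain ⟨i, hi⟩ := klein_shape eS (by omega) hg (klein_map hV g)
    have hmem : pt eS (sr i) ∈ V.map (MulAut.conj g).toMonoidHom :=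
      (hi _ (pt_mem eS _) (pt_mem eS _)).mpr (Or.inr (Or.inr (Or.inl (eS_pt eS _ _))))
    rcases evenIdx_or i with ⟨j, hj⟩ | ⟨j, hj⟩
    · obtain ⟨s, hs⟩ := exists_conj_rep eS hm hg (klein_map hV g) hU₁K hU₁m (pt_mem eS (sr i)) hmem (eS_pt eS _ _)
        (show i = 0 + (j + j) by rw [zero_add]; exact hj)
      exact Or.inl (hcomp _ s hs)
    · obtain ⟨s, hs⟩ := exists_conj_rep eS hm hg (klein_map hV g) hU₂K hU₂m (pt_mem eS (sr i)) hmem (eS_pt eS _ _) hj
      exact Or.inr (hcomp _ s hs)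

theorem one_class (h4 : Nat.card S = 4) {U V : Subgroup X} (hU : IsKleinFour U) (hV : IsKleinFour V) :
    ∃ x : X, U.map (MulAut.conj x).toMonoidHom = V := by
  have hall : ∀ W : Subgroup X, IsKleinFour W → ∃ g, W.map (MulAut.conj g).toMonoidHom = (S : Subgroup X) := by
    intro W hW
    obtain ⟨g, hg⟩ := exists_conj_le (S := S) (isPGroup_klein hW)
    exact ⟨g, Subgroup.eq_of_le_of_card_ge hg (by rw [(klein_map hW g).card_four]; exact h4.le)⟩
  obtain ⟨g, hg⟩ := hall U hU
  obtain ⟨g', hg'⟩ := hall V hV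
  refine ⟨g'⁻¹ * g, ?_⟩
  rw [show (MulAut.conj (g'⁻¹ * g)).toMonoidHom = (MulAut.conj g'⁻¹).toMonoidHom.comp (MulAut.conj g).toMonoidHom from
    MonoidHom.ext fun x => by simp, ← Subgroup.map_map, hg, ← hg', Subgroup.map_map,
    show ((MulAut.conj g'⁻¹).toMonoidHom.comp (MulAut.conj g').toMonoidHom) = MonoidHom.id X from
      MonoidHom.ext fun x => by simp [mul_assoc], Subgroup.map_id]

end

end CfsgLib.DihedralFusion
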