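import Mathlib
import Cfsg.Agent.Lib.Frobenius.More
import Cfsg.Agent.Lib.Frobenius.Complement
import Cfsg.Agent.Lib.CyclicSylowAbelian.Basic

/-!
2-Frobenius groups: structure.
-/

set_option autoImplicit false

namespace CfsgLib.TwoFrob

open Subgroup CfsgLib.Frob Cfsg
open scoped Pointwise

variable {G : Type*} [Group G] [Finite G]

/-- In a nilpotent group every prime divisor of the order divides the order of the centre. -/
theorem exists_central_order {p : ℕ} [hp : Fact p.Prime] {N : Type*} [Group N] [Finite N] [Group.IsNilpotent N]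
    (hd : p ∣ Nat.card N) : ∃ z : N, orderOf z = p ∧ z ∈ center N := by
  obtain ⟨P⟩ := (inferInstance : Nonempty (Sylow p N))
  have hnt : Nontrivial (P : Subgroup N) := by
    rw [Subgroup.nontrivial_iff_ne_bot]
    intro e
    have := P.dvd_card_of_dvd_card hd
    rw [e, Subgroup.card_bot, Nat.dvd_one] at this
    exact hp.out.ne_one this
  have := P.isPGroup'.center_nontrivial
  obtain ⟨k, hk⟩ := (P.isPGroup'.to_subgroup (center (P : Subgroup N))).exists_card_eq
  obtain ⟨⟨z, hzc⟩, hz⟩ := exists_prime_orderOf_dvd_card' (G := center (P : Subgroup N)) p (by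
    rw [hk]
    refine dvd_pow_self p fun h0 => ?_
    rw [h0, pow_zero] at hk
    exact (Finite.one_lt_card_iff_nontrivial.mpr this).ne' hk)
  rw [Subgroup.orderOf_mk] at hz
  refine ⟨z, by rw [Subgroup.orderOf_coe, hz], mem_center_iff.mpr fun x => ?_⟩
  obtain ⟨u, v, rfl, -, -, hu, hv⟩ := CfsgLib.CycSyl.split (p := p) x
  have huP : u ∈ (P : Subgroup N) := by
    obtain ⟨j, hj⟩ := hu
    have hA : IsPGroup p (zpowers u) := by
      rintro ⟨_, i, rfl⟩
      refine ⟨j, Subtype.ext ?_⟩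
      rw [SubgroupClass.coe_pow, OneMemClass.coe_one, ← zpow_natCast, ← zpow_mul, mul_comm, zpow_mul,
        zpow_natCast, hj, one_zpow]
    obtain ⟨P', hP'⟩ := hA.exists_le_sylow
    have : P' = P := by
      haveI : (P : Subgroup N).Normal :=
        ((Group.isNilpotent_of_finite_tfae (G := N)).out 0 3 rfl rfl).mp inferInstance p ‹_› P
      obtain ⟨g, hg⟩ := MulAction.exists_smul_eq N P P'
      rw [← hg, Sylow.smul_eq_of_normal]
    exact this ▸ hP' (mem_zpowers u)
  have h1 : u * (z : N) = (z : N) * u := congrArg Subtype.val (mem_center_iff.mp hzc ⟨u, huP⟩)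
  have h2 : v * (z : N) = (z : N) * v := by
    refine (commute_of_nilpotent_coprime ?_).eq
    rwa [Subgroup.orderOf_coe, hz]
  rw [mul_assoc, h2, ← mul_assoc, h1, mul_assoc]

/-- The hypotheses. -/
structure Data (H K : Subgroup G) [H.Normal] (C : Subgroup K) (D : Subgroup (G ⧸ H)) : Prop where
  hK : K.Normal
  hlt : H < K
  hC : IsFrobeniusComplement C
  hCk : frobeniusKernel C = (H.subgroupOf K : Set K)
  hD : IsFrobeniusComplement D
  hDk : frobeniusKernel D = (K.map (QuotientGroup.mk' H) : Set (G ⧸ H))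

namespace Data

variable {H K : Subgroup G} [H.Normal] {C : Subgroup K} {D : Subgroup (G ⧸ H)}

theorem compl_C (d : Data H K C D) : IsComplement' (H.subgroupOf K) C :=
  (isComplement_of_eq_kernel d.hC d.hCk.symm).2

theorem compl_D (d : Data H K C D) : IsComplement' (K.map (QuotientGroup.mk' H)) D :=
  (isComplement_of_eq_kernel d.hD d.hDk.symm).2

theorem map_normal (d : Data H K C D) : (K.map (QuotientGroup.mk' H)).Normal :=
  d.hK.map _ (QuotientGroup.mk'_surjective H)

theorem card_map (d : Data H K C D) : Nat.card (K.map (QuotientGroup.mk' H)) * Nat.card H = Nat.card K := by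
  have h1 : (K.map (QuotientGroup.mk' H)).index = K.index :=
    index_map_eq _ (QuotientGroup.mk'_surjective _) (by rw [QuotientGroup.ker_mk']; exact d.hlt.le)
  have h2 := card_mul_index (K.map (QuotientGroup.mk' H))
  rw [h1] at h2
  refine Nat.eq_of_mul_eq_mul_right (Nat.pos_of_ne_zero (index_ne_zero_of_finite (H := K))) ?_
  rw [card_mul_index, card_eq_card_quotient_mul_card_subgroup H, ← h2]; ring

theorem card_C (d : Data H K C D) : Nat.card C = Nat.card (K.map (QuotientGroup.mk' H)) := by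
  have h1 := d.compl_C.card_mul
  rw [Nat.card_congr (subgroupOfEquivOfLe d.hlt.le).toEquiv, ← d.card_map, mul_comm] at h1
  exact Nat.eq_of_mul_eq_mul_right Nat.card_pos h1

theorem card_quot (d : Data H K C D) : Nat.card (K ⧸ H.subgroupOf K) = Nat.card C := by
  rw [← Subgroup.index_eq_card]; exact d.compl_C.symm.index_eq_card

/-- `C ≃ K/H` inside `G/H`. -/
noncomputable def equivC (d : Data H K C D) : C ≃* K.map (QuotientGroup.mk' H) :=
  MulEquiv.ofBijective (((QuotientGroup.mk' H).subgroupMap K).comp C.subtype) (by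
    rw [Nat.bijective_iff_injective_and_card]
    refine ⟨(injective_iff_map_eq_one _).mpr fun c hc => ?_, d.card_C⟩
    have h1 : (((c : K) : G) : G ⧸ H) = 1 := congrArg Subtype.val hc
    exact Subtype.ext (disjoint_def.mp d.compl_C.disjoint
      (mem_subgroupOf.mpr ((QuotientGroup.eq_one_iff _).mp h1)) c.2))

theorem nilpotent_map (d : Data H K C D) : Group.IsNilpotent (K.map (QuotientGroup.mk' H)) :=
  haveI := d.map_normal
  kernel_nilpotent d.hD d.compl_D.disjoint

theorem nilpotent_C (d : Data H K C D) : Group.IsNilpotent C :=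
  haveI := d.nilpotent_map
  (Group.isNilpotent_congr d.equivC).mpr inferInstance

theorem nilpotent_H (d : Data H K C D) : Group.IsNilpotent H :=
  haveI := kernel_nilpotent d.hC d.compl_C.disjoint
  (Group.isNilpotent_congr (subgroupOfEquivOfLe d.hlt.le)).mp inferInstance

theorem module_C (d : Data H K C D) : ∃ V : Subgroup K, IsMulCommutative V ∧ V ≠ ⊥ ∧
    C ≤ normalizer (V : Set K) ∧ ∀ h ∈ C, h ≠ 1 → V ⊓ centralizer {h} = ⊥ :=
  exists_abelian_module d.compl_C (kernel_ne_bot d.hC d.compl_C) d.hC.1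
    fun _ hh h1 => fpf_of_frob d.compl_C.disjoint d.hC hh h1

theorem odd_C (d : Data H K C D) : Odd (Nat.card C) := by
  by_contra hodd
  rw [Nat.not_odd_iff_even, even_iff_two_dvd] at hodd
  haveI : Fact (Nat.Prime 2) := ⟨Nat.prime_two⟩
  haveI := d.nilpotent_C
  haveI := d.nilpotent_map
  obtain ⟨z, hz, hzc⟩ := exists_central_order (N := C) hodd
  obtain ⟨V, hVc, hV, hCV, hfpf⟩ := d.module_C
  have huniq : ∀ y : C, orderOf y = 2 → y = z := by
    intro y hy
    have hm : (y : K) ∈ zpowers (z : K) :=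
      no_elementary_fpf hV Nat.prime_two hCV hfpf z.2 y.2 (by rw [Subgroup.orderOf_coe, hz])
        (by rw [Subgroup.orderOf_coe, hy]) (congrArg Subtype.val (mem_center_iff.mp hzc y).symm)
    obtain ⟨i, hi⟩ := hm
    simp only at hi
    rcases Int.even_or_odd i with ⟨j, rfl⟩ | ⟨j, rfl⟩
    · exfalso
      have hz2 : (z : K) * z = 1 := by
        have := pow_orderOf_eq_one z
        rw [hz, pow_two] at this; exact congrArg Subtype.val this
      rw [zpow_add, ← (Commute.refl (z : K)).mul_zpow, hz2, one_zpow] at hi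
      rw [show y = 1 from Subtype.ext hi.symm, orderOf_one] at hy
      exact absurd hy (by norm_num)
    · have hz2 : (z : K) * z = 1 := by
        have := pow_orderOf_eq_one z
        rw [hz, pow_two] at this; exact congrArg Subtype.val this
      rw [zpow_add, two_mul, zpow_add, ← (Commute.refl (z : K)).mul_zpow, hz2, one_zpow, one_mul, zpow_one] at hi
      exact Subtype.ext hi.symm
  -- the image in `G/H`
  set w := d.equivC z with hw
  obtain ⟨q, hq, hqd⟩ := Nat.exists_prime_and_dvd (n := Nat.card D) (fun e => d.hD.1 (eq_bot_of_card_eq _ e))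
  have := Fact.mk hq
  obtain ⟨e, he⟩ := exists_prime_orderOf_dvd_card' (G := D) q hqd
  have he1 : (e : G ⧸ H) ≠ 1 := fun h => hq.ne_one (by rw [← he, ← Subgroup.orderOf_coe, h, orderOf_one])
  haveI := d.map_normal
  set w' : K.map (QuotientGroup.mk' H) :=
    ⟨(e : G ⧸ H) * w * (e : G ⧸ H)⁻¹, d.map_normal.conj_mem _ w.2 _⟩ with hw'
  have hwo : orderOf w' = 2 := by
    rw [← Subgroup.orderOf_coe]
    show orderOf ((e : G ⧸ H) * w * (e : G ⧸ H)⁻¹) = 2
    rw [show (e : G ⧸ H) * w * (e : G ⧸ H)⁻¹ = MulAut.conj (e : G ⧸ H) (w : G ⧸ H) from rfl, MulEquiv.orderOf_eq,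
      Subgroup.orderOf_coe, hw, MulEquiv.orderOf_eq, hz]
  have h1 : w' = w := by
    have := huniq (d.equivC.symm w') (by rw [MulEquiv.orderOf_eq, hwo])
    rw [MulEquiv.symm_apply_eq] at this
    exact this
  have h2 : (w : G ⧸ H) ∈ K.map (QuotientGroup.mk' H) ⊓ centralizer {(e : G ⧸ H)} :=
    ⟨w.2, mem_centralizer_singleton_iff.mpr (mul_inv_eq_iff_eq_mul.mp (congrArg Subtype.val h1)).symm⟩
  rw [fpf_of_frob d.compl_D.disjoint d.hD e.2 he1, mem_bot] at h2
  have h3 : orderOf w = 1 := by rw [← Subgroup.orderOf_coe, h2, orderOf_one]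
  rw [hw, MulEquiv.orderOf_eq, hz] at h3
  exact absurd h3 (by norm_num)

theorem cyclic_C (d : Data H K C D) : IsCyclic C := by
  haveI := d.nilpotent_C
  obtain ⟨V, hVc, hV, hCV, hfpf⟩ := d.module_C
  haveI : IsZGroup C := ⟨fun p hp P => by
    have := Fact.mk hp
    rcases sylow_cyclic_or_quaternion hV hCV hfpf P with h | ⟨n, ⟨e⟩⟩
    · exact h
    · exfalso
      have h1 : Nat.card (P : Subgroup C) = 4 * 2 ^ n := by
        rw [Nat.card_congr e.toEquiv, Nat.card_eq_fintype_card, QuaternionGroup.card]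
      have h2 : 2 ∣ Nat.card C := ((h1 ▸ Dvd.intro (2 * 2 ^ n) (by ring) : 2 ∣ Nat.card (P : Subgroup C))).trans
        (card_subgroup_dvd_card _)
      exact (Nat.not_even_iff_odd.mpr d.odd_C) (even_iff_two_dvd.mpr h2)⟩
  infer_instance

theorem cyclic_map (d : Data H K C D) : IsCyclic (K.map (QuotientGroup.mk' H)) :=
  haveI := d.cyclic_C
  isCyclic_of_surjective d.equivC d.equivC.surjective

theorem cyclic_D (d : Data H K C D) : IsCyclic D := by
  haveI := d.cyclic_map
  haveI := d.map_normal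
  set Kb := K.map (QuotientGroup.mk' H) with hKb
  haveI : IsMulCommutative Kb := by
    letI := IsCyclic.commGroup (α := Kb)
    exact ⟨⟨mul_comm⟩⟩
  have hne : Kb ≠ ⊥ := kernel_ne_bot d.hD d.compl_D
  have hfpf : ∀ x ∈ D, x ≠ 1 → Kb ⊓ centralizer {x} = ⊥ := fun x hx h1 => fpf_of_frob d.compl_D.disjoint d.hD hx h1
  obtain ⟨g, hg⟩ := IsCyclic.exists_generator (α := Kb)
  have hg1 : (g : G ⧸ H) ≠ 1 := by
    intro e
    apply hne
    rw [Subgroup.eq_bot_iff_forall]
    intro x hx
    obtain ⟨i, hi⟩ := hg ⟨x, hx⟩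
    have h := congrArg Subtype.val hi
    rw [show x = ((⟨x, hx⟩ : Kb) : G ⧸ H) from rfl, ← h]
    simp [e]
  -- commutative: commutators centralise the kernel
  haveI : IsMulCommutative D := by
    refine ⟨⟨fun a b => ?_⟩⟩
    by_contra hab
    set x : G ⧸ H := (a : G ⧸ H) * b * (a : G ⧸ H)⁻¹ * (b : G ⧸ H)⁻¹ with hx
    have hxD : x ∈ D := mul_mem (mul_mem (mul_mem a.2 b.2) (inv_mem a.2)) (inv_mem b.2)
    have hx1 : x ≠ 1 := fun h => hab (Subtype.ext (show (a : G ⧸ H) * b = b * a by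
      rwa [hx, mul_inv_eq_one, mul_inv_eq_iff_eq_mul] at h))
    have hact : ∀ u : D, ∃ i : ℤ, ∀ j : ℤ, (u : G ⧸ H) * (g : G ⧸ H) ^ j * (u : G ⧸ H)⁻¹ = (g : G ⧸ H) ^ (i * j) := by
      intro u
      obtain ⟨i, hi⟩ := hg ⟨(u : G ⧸ H) * g * (u : G ⧸ H)⁻¹, d.map_normal.conj_mem _ g.2 _⟩
      refine ⟨i, fun j => ?_⟩
      rw [zpow_mul, ← conj_zpow]
      have h := congrArg Subtype.val hi
      simp only at h
      rw [← h, SubgroupClass.coe_zpow]
    obtain ⟨i, hi⟩ := hact a
    obtain ⟨j, hj⟩ := hact b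
    obtain ⟨i', hi'⟩ := hact a⁻¹
    obtain ⟨j', hj'⟩ := hact b⁻¹
    have hcom : x * (g : G ⧸ H) * x⁻¹ = g := by
      have ei := hi (j * (i' * (j' * 1)))
      have ea := hi' (j' * 1)
      have eb := hj (i' * (j' * 1))
      have ec := hj' 1
      have e1 : ∀ m : ℤ, (g : G ⧸ H) ^ (i * (i' * m)) = g ^ m := fun m => by
        rw [← hi, ← hi']; simp [mul_assoc]
      have e2 : ∀ m : ℤ, (g : G ⧸ H) ^ (j * (j' * m)) = g ^ m := fun m => by
        rw [← hj, ← hj']; simp [mul_assoc]
      calc x * (g : G ⧸ H) * x⁻¹ = (a : G ⧸ H) * ((b : G ⧸ H) * (((a⁻¹ : D) : G ⧸ H) *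
            (((b⁻¹ : D) : G ⧸ H) * (g : G ⧸ H) ^ (1 : ℤ) * ((b⁻¹ : D) : G ⧸ H)⁻¹) * ((a⁻¹ : D) : G ⧸ H)⁻¹) *
            (b : G ⧸ H)⁻¹) * (a : G ⧸ H)⁻¹ := by
              rw [hx, InvMemClass.coe_inv, InvMemClass.coe_inv]; group
        _ = (g : G ⧸ H) ^ (i * (j * (i' * (j' * 1)))) := by rw [ec, ea, eb, ei]
        _ = g := by rw [show i * (j * (i' * (j' * (1 : ℤ)))) = i * (i' * (j * (j' * 1))) by ring, e1, e2, zpow_one]
    have h2 : (g : G ⧸ H) ∈ Kb ⊓ centralizer {x} :=
      ⟨g.2, mem_centralizer_singleton_iff.mpr (mul_inv_eq_iff_eq_mul.mp hcom).symm⟩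
    rw [hfpf x hxD hx1, mem_bot] at h2
    exact hg1 h2
  exact isCyclic_of_fpf_comm hne (le_top.trans (normalizer_eq_top_iff.mpr d.map_normal).ge) hfpf

theorem cyclic_quot (d : Data H K C D) [K.Normal] : IsCyclic (G ⧸ K) := by
  haveI := d.cyclic_D
  haveI := d.map_normal
  set π := QuotientGroup.mk' H
  have e1 : (G ⧸ H) ⧸ K.map π ≃* D := d.compl_D.symm.QuotientMulEquiv
  have e2 := QuotientGroup.quotientQuotientEquivQuotient H K d.hlt.le
  exact isCyclic_of_surjective (e1.symm.trans e2) (MulEquiv.surjective _)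

theorem card_D (d : Data H K C D) [K.Normal] : Nat.card D = Nat.card (G ⧸ K) := by
  haveI := d.map_normal
  rw [← Subgroup.index_eq_card, ← index_map_eq K (QuotientGroup.mk'_surjective H)
    (by rw [QuotientGroup.ker_mk']; exact d.hlt.le)]
  exact (d.compl_D.symm.index_eq_card).symm

theorem solvable (d : Data H K C D) [K.Normal] : Group.IsSolvable G := by
  haveI := d.nilpotent_H
  haveI := d.cyclic_quot
  haveI := d.cyclic_C
  haveI : Group.IsSolvable K := by
    haveI : Group.IsSolvable (H.subgroupOf K) :=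
      Group.isSolvable_of_isSolvable_injective (f := (subgroupOfEquivOfLe d.hlt.le).toMonoidHom)
        (MulEquiv.injective _)
    haveI : Group.IsSolvable (K ⧸ H.subgroupOf K) := by
      letI := IsCyclic.commGroup (α := C)
      exact Group.isSolvable_of_isSolvable_injective (f := d.compl_C.symm.QuotientMulEquiv.toMonoidHom) (MulEquiv.injective _)
    exact Group.isSolvable_of_ker_le_range (H.subgroupOf K).subtype (QuotientGroup.mk' (H.subgroupOf K))
      (by rw [QuotientGroup.ker_mk', range_subtype])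
  haveI : Group.IsSolvable (G ⧸ K) := by
    letI := IsCyclic.commGroup (α := G ⧸ K)
    infer_instance
  exact Group.isSolvable_of_ker_le_range K.subtype (QuotientGroup.mk' K)
    (by rw [QuotientGroup.ker_mk', range_subtype])

theorem coprime_H (d : Data H K C D) : (Nat.card C).Coprime (Nat.card H) := by
  have := coprime_index d.hC
  rwa [d.compl_C.index_eq_card, Nat.card_congr (subgroupOfEquivOfLe d.hlt.le).toEquiv] at this

theorem coprime_D (d : Data H K C D) : (Nat.card C).Coprime (Nat.card D) := by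
  have := coprime_index d.hD
  rw [d.compl_D.index_eq_card, ← d.card_C] at this
  exact this.symm

/-- No element joins a prime of `C` to another one. -/
theorem no_edge (d : Data H K C D) [K.Normal] {p q : ℕ} (hp : p.Prime) (hq : q.Prime) (hpC : p ∣ Nat.card C)
    (hqC : ¬ q ∣ Nat.card C) {g : G} (hg : orderOf g = p * q) : False := by
  haveI := Fact.mk hp
  set x := g ^ q with hx
  set y := g ^ p with hy
  have hxo : orderOf x = p := by
    rw [hx, orderOf_pow' g hq.ne_zero, hg, Nat.gcd_eq_right (dvd_mul_left q p), Nat.mul_div_cancel _ hq.pos]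
  have hyo : orderOf y = q := by
    rw [hy, orderOf_pow' g hp.ne_zero, hg, Nat.gcd_eq_right (dvd_mul_right p q), Nat.mul_div_cancel_left _ hp.pos]
  have hcom : Commute y x := (Commute.refl g).pow_pow p q
  have hxK : x ∈ K := by
    refine (QuotientGroup.eq_one_iff x).mp (orderOf_eq_one_iff.mp (Nat.eq_one_of_dvd_coprimes
      (d.coprime_D.coprime_dvd_left hpC) (hxo ▸ orderOf_map_dvd (QuotientGroup.mk' K) x) ?_))
    rw [d.card_D]; exact _root_.orderOf_dvd_natCard _
  obtain ⟨k, hk⟩ := le_conj_of_card_dvd d.hC (zpowers (⟨x, hxK⟩ : K)) (by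
    rw [Nat.card_zpowers, Subgroup.orderOf_mk, hxo]; exact hpC)
  have hxc := hk (mem_zpowers _)
  rw [mem_pointwise_smul_iff_inv_smul_mem, MulAut.smul_def, ← map_inv, MulAut.conj_apply, inv_inv] at hxc
  have hx1 : (⟨x, hxK⟩ : K) ≠ 1 := fun e => hp.ne_one (by
    rw [← hxo, ← Subgroup.orderOf_mk x hxK, e, orderOf_one])
  by_cases hyK : y ∈ K
  · have hyc : k⁻¹ * ⟨y, hyK⟩ * k ∈ C := frob_centralizer_le d.hC hxc
      (fun e => hx1 (by
        calc (⟨x, hxK⟩ : K) = k * (k⁻¹ * ⟨x, hxK⟩ * k) * k⁻¹ := by group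
          _ = 1 := by rw [e]; group)) (by
      refine Subtype.ext ?_
      simp only [Subgroup.coe_mul, InvMemClass.coe_inv]
      calc (k : G)⁻¹ * y * k * ((k : G)⁻¹ * x * k) = (k : G)⁻¹ * (y * x) * k := by group
        _ = (k : G)⁻¹ * x * k * ((k : G)⁻¹ * y * k) := by rw [hcom.eq]; group)
    have hd := Subgroup.orderOf_dvd_natCard C hyc
    rw [show k⁻¹ * (⟨y, hyK⟩ : K) * k = MulAut.conj k⁻¹ ⟨y, hyK⟩ by simp, MulEquiv.orderOf_eq,
      Subgroup.orderOf_mk, hyo] at hd
    exact hqC hd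
  · set π := QuotientGroup.mk' H with hπ
    haveI := d.map_normal
    have hxH : π x ≠ 1 := fun e => by
      have hd := Subgroup.orderOf_dvd_natCard H ((QuotientGroup.eq_one_iff x).mp e)
      rw [hxo] at hd
      exact hp.ne_one (Nat.eq_one_of_dvd_coprimes d.coprime_H hpC hd)
    have hyn : π y ∉ frobeniusKernel D := by
      rw [d.hDk]
      rintro ⟨y', hy', e⟩
      exact hyK (by simpa using mul_mem hy' (d.hlt.le (QuotientGroup.eq.mp e)))
    obtain ⟨h, hh⟩ : ∃ h, π y ∈ MulAut.conj h • D := by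
      by_contra hno
      push Not at hno
      exact hyn (Or.inr hno)
    rw [mem_pointwise_smul_iff_inv_smul_mem, MulAut.smul_def, ← map_inv, MulAut.conj_apply, inv_inv] at hh
    have hy1 : h⁻¹ * π y * h ≠ 1 := fun e => hyn (Or.inl (by
      calc π y = h * (h⁻¹ * π y * h) * h⁻¹ := by group
        _ = 1 := by rw [e]; group))
    have hx2 : h⁻¹ * π x * h ∈ K.map π ⊓ centralizer {h⁻¹ * π y * h} := by
      refine ⟨?_, mem_centralizer_singleton_iff.mpr ?_⟩
      · have := d.map_normal.conj_mem _ (mem_map_of_mem π hxK) h⁻¹; rwa [inv_inv] at this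
      calc h⁻¹ * π x * h * (h⁻¹ * π y * h) = h⁻¹ * (π x * π y) * h := by group
        _ = h⁻¹ * π y * h * (h⁻¹ * π x * h) := by rw [← map_mul, ← hcom.eq, map_mul]; group
    rw [fpf_of_frob d.compl_D.disjoint d.hD hh hy1, mem_bot] at hx2
    exact hxH (by
      calc π x = h * (h⁻¹ * π x * h) * h⁻¹ := by group
        _ = 1 := by rw [hx2]; group)

/-- A prime of `D` is joined to a prime of `H`. -/
theorem edge_HD (d : Data H K C D) [K.Normal] {p q : ℕ} (hp : p.Prime) (hq : q.Prime) (hpq : p ≠ q)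
    (hpH : p ∣ Nat.card H) (hqD : q ∣ Nat.card D) : ∃ g : G, orderOf g = p * q := by
  classical
  haveI := Fact.mk hp
  haveI := Fact.mk hq
  haveI := d.nilpotent_H
  set CG := C.map K.subtype with hCG
  set N := normalizer (CG : Set G) with hN
  have hCK : CG ≤ K := map_subtype_le _
  -- `N ∩ H = 1`
  have hNH : ∀ n ∈ N, n ∈ H → n = 1 := by
    intro n hn hnH
    by_contra hn1
    have hnK : n ∈ K := d.hlt.le hnH
    have hnC : (⟨n, hnK⟩ : K) ∉ C := fun hc => hn1 (congrArg Subtype.val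
      (disjoint_def.mp d.compl_C.disjoint (mem_subgroupOf.mpr hnH) hc))
    obtain ⟨c, hc, hc1⟩ := SetLike.exists_of_lt (bot_lt_iff_ne_bot.mpr d.hC.1)
    refine hc1 (Subgroup.mem_bot.mpr (frob_ti d.hC hnC hc ?_))
    obtain ⟨c', hc', e⟩ := (mem_normalizer_iff.mp hn (c : G)).mp ⟨c, hc, rfl⟩
    rwa [show (⟨n, hnK⟩ : K) * c * (⟨n, hnK⟩ : K)⁻¹ = c' from Subtype.ext e.symm]
  -- `N` covers `G/H`
  have hcover : ∀ g : G, ∃ n ∈ N, g⁻¹ * n ∈ H := by
    intro g
    let e : K ≃* K :=
      { toFun := fun u => ⟨g * u * g⁻¹, d.hK.conj_mem u u.2 g⟩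
        invFun := fun u => ⟨g⁻¹ * u * g, by simpa using d.hK.conj_mem u u.2 g⁻¹⟩
        left_inv := fun u => Subtype.ext (by simp [mul_assoc])
        right_inv := fun u => Subtype.ext (by simp [mul_assoc])
        map_mul' := fun u v => Subtype.ext (by simp [mul_assoc]) }
    obtain ⟨k, hk⟩ := le_conj_of_card_dvd d.hC (C.map e.toMonoidHom)
      (dvd_of_eq (card_map_of_injective e.injective))
    have heq : C.map e.toMonoidHom = MulAut.conj k • C :=
      eq_of_le_of_card_ge hk (by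
        rw [card_map_of_injective e.injective]
        exact (Nat.card_congr (Subgroup.equivSMul (MulAut.conj k) C).toEquiv).ge)
    have hkg : (k : G)⁻¹ * g ∈ N := by
      refine mem_normalizer_iff.mpr fun u => ⟨?_, ?_⟩
      · rintro ⟨u', hu', rfl⟩
        have h1 : e u' ∈ MulAut.conj k • C := heq.le ⟨u', hu', rfl⟩
        rw [mem_pointwise_smul_iff_inv_smul_mem, MulAut.smul_def, ← map_inv, MulAut.conj_apply, inv_inv] at h1
        exact ⟨_, h1, by simp [e, mul_assoc]⟩
      · rintro ⟨v, hv, hvu⟩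
        have h1 : k * v * k⁻¹ ∈ C.map e.toMonoidHom := by
          rw [heq, mem_pointwise_smul_iff_inv_smul_mem, MulAut.smul_def, ← map_inv, MulAut.conj_apply, inv_inv]
          simpa [mul_assoc] using hv
        obtain ⟨u', hu', hue⟩ := h1
        refine ⟨u', hu', ?_⟩
        have h2 : g * (u' : G) * g⁻¹ = (k : G) * v * (k : G)⁻¹ := congrArg Subtype.val hue
        simp only [Subgroup.coe_subtype] at hvu ⊢
        rw [hvu] at h2
        calc (u' : G) = g⁻¹ * (g * u' * g⁻¹) * g := by group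
          _ = u := by rw [h2]; group
    obtain ⟨⟨⟨a, ha⟩, ⟨c, hc⟩⟩, hac⟩ := d.compl_C.2 k
    simp only at hac
    refine ⟨(c : G) * ((k : G)⁻¹ * g), mul_mem (le_normalizer ⟨c, hc, rfl⟩) hkg, ?_⟩
    have e1 : g⁻¹ * ((c : G) * ((k : G)⁻¹ * g)) = g⁻¹ * ((a : G))⁻¹ * g := by
      rw [← hac, Subgroup.coe_mul]; group
    rw [e1]
    simpa using (inferInstance : H.Normal).conj_mem _ (inv_mem (mem_subgroupOf.mp ha)) g⁻¹
  -- the Frobenius group `N`
  set Cn := CG.subgroupOf N with hCn
  haveI hCnn : Cn.Normal := normal_in_normalizer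
  set f := (QuotientGroup.mk' H).comp N.subtype with hf
  have hfs : Function.Surjective f := by
    intro y
    obtain ⟨g, rfl⟩ := QuotientGroup.mk'_surjective H y
    obtain ⟨n, hn, hgn⟩ := hcover g
    exact ⟨⟨n, hn⟩, (QuotientGroup.eq.mpr hgn).symm⟩
  have hfi : Function.Injective f := (injective_iff_map_eq_one f).mpr fun n hn =>
    Subtype.ext (hNH n n.2 ((QuotientGroup.eq_one_iff _).mp hn))
  set Dn := D.comap f with hDn
  haveI := d.map_normal
  have hfC : ∀ n, n ∈ Cn → f n ∈ K.map (QuotientGroup.mk' H) := fun n hn => mem_map_of_mem _ (hCK hn)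
  have hc' : IsComplement' Cn Dn := by
    refine isComplement'_of_disjoint_and_mul_eq_univ (disjoint_def.mpr fun {x} hx hy => ?_)
      (Set.eq_univ_of_forall fun n => ?_)
    · exact hfi ((disjoint_def.mp d.compl_D.disjoint (hfC x hx) hy).trans (map_one f).symm)
    · obtain ⟨⟨⟨u, hu⟩, ⟨v, hv⟩⟩, huv⟩ := d.compl_D.2 (f n)
      obtain ⟨k, hk, rfl⟩ := hu
      obtain ⟨⟨⟨a, ha⟩, ⟨c, hc⟩⟩, hac⟩ := d.compl_C.2 ⟨k, hk⟩
      simp only at hac huv
      set cn : N := ⟨(c : G), le_normalizer ⟨c, hc, rfl⟩⟩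
      have hcn : f cn = QuotientGroup.mk' H k := by
        show QuotientGroup.mk' H (c : G) = _
        rw [show k = (a : G) * (c : G) from (congrArg Subtype.val hac).symm, map_mul,
          show QuotientGroup.mk' H (a : G) = 1 from (QuotientGroup.eq_one_iff _).mpr (mem_subgroupOf.mp ha), one_mul]
      refine ⟨cn, ⟨c, hc, rfl⟩, cn⁻¹ * n, ?_, mul_inv_cancel_left _ _⟩
      show f (cn⁻¹ * n) ∈ D
      rw [map_mul, map_inv, hcn, ← huv, inv_mul_cancel_left]
      exact hv
  have hCn0 : Cn ≠ ⊥ := by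
    intro e
    rw [hCn, subgroupOf_eq_bot] at e
    have h1 := disjoint_self.mp (e.mono_right (le_normalizer : CG ≤ N))
    exact d.hC.1 ((map_eq_bot_iff_of_injective _ K.subtype_injective).mp h1)
  have hDn0 : Dn ≠ ⊥ := by
    intro e
    apply d.hD.1
    rw [← map_comap_eq_self_of_surjective hfs D, show D.comap f = ⊥ from e, Subgroup.map_bot]
  have hfr : IsFrobeniusComplement Dn := frob_of_fpf hc' hCn0 hDn0 fun h hh h1 => by
    rw [Subgroup.eq_bot_iff_forall]
    rintro u ⟨hu, huc⟩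
    refine hfi (((Subgroup.eq_bot_iff_forall _).mp (fpf_of_frob d.compl_D.disjoint d.hD hh
      (fun e => h1 (hfi (e.trans (map_one f).symm)))) _ ⟨hfC u hu, ?_⟩).trans (map_one f).symm)
    exact mem_centralizer_singleton_iff.mpr
      (by rw [← map_mul, ← map_mul, mem_centralizer_singleton_iff.mp huc])
  -- the module
  let V : Subgroup G :=
    { carrier := {v | v ∈ H ∧ (∀ h ∈ H, v * h = h * v) ∧ ∃ j : ℕ, v ^ p ^ j = 1}
      one_mem' := ⟨one_mem _, fun h _ => by simp, 0, one_pow _⟩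
      mul_mem' := by
        rintro a b ⟨ha, hac, i, hi⟩ ⟨hb, hbc, j, hj⟩
        refine ⟨mul_mem ha hb, fun h hh => by rw [mul_assoc, hbc h hh, ← mul_assoc, hac h hh, mul_assoc], i + j, ?_⟩
        rw [(show Commute a b from hac b hb).mul_pow]
        have e1 : a ^ p ^ (i + j) = 1 := by rw [pow_add, pow_mul, hi, one_pow]
        have e2 : b ^ p ^ (i + j) = 1 := by rw [pow_add, mul_comm, pow_mul, hj, one_pow]
        rw [e1, e2, one_mul]
      inv_mem' := by
        rintro a ⟨ha, hac, i, hi⟩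
        refine ⟨inv_mem ha, fun h hh => ((show Commute a h from hac h hh).inv_left).eq, i, by rw [inv_pow, hi, inv_one]⟩ }
  have hVn : V.Normal := by
    refine ⟨fun v hv g => ?_⟩
    obtain ⟨h1, h2, j, h3⟩ := hv
    refine ⟨(inferInstance : H.Normal).conj_mem v h1 g, fun h hh => ?_, j, by rw [conj_pow, h3]; group⟩
    have h4 := h2 (g⁻¹ * h * g) (by simpa using (inferInstance : H.Normal).conj_mem h hh g⁻¹)
    calc g * v * g⁻¹ * h = g * (v * (g⁻¹ * h * g)) * g⁻¹ := by group
      _ = h * (g * v * g⁻¹) := by rw [h4]; group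
  haveI hVc : IsMulCommutative V := ⟨⟨fun a b => Subtype.ext (a.2.2.1 b b.2.1)⟩⟩
  have hV0 : V ≠ ⊥ := by
    obtain ⟨z, hz, hzc⟩ := exists_central_order (p := p) (N := H) hpH
    intro e
    have h1 : (z : G) ∈ V := ⟨z.2, fun h hh => congrArg Subtype.val (mem_center_iff.mp hzc ⟨h, hh⟩).symm, 1, by
      rw [pow_one, ← hz]; exact congrArg Subtype.val (pow_orderOf_eq_one z)⟩
    rw [e, mem_bot] at h1
    rw [show z = 1 from Subtype.ext h1, orderOf_one] at hz
    exact hp.ne_one hz.symm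
  have hker : (Cn : Set N) = frobeniusKernel Dn := kernel_eq_of_complement hfr hc'
  have hVcard : (Nat.card V).Coprime (Nat.card (frobeniusKernel Dn)) := by
    rw [← hker]
    refine Nat.Coprime.coprime_dvd_left (card_dvd_of_le (fun v hv => hv.1 : V ≤ H)) ?_
    show (Nat.card H).Coprime (Nat.card Cn)
    rw [hCn, Nat.card_congr (subgroupOfEquivOfLe (le_normalizer : CG ≤ N)).toEquiv, hCG,
      card_map_of_injective K.subtype_injective]
    exact d.coprime_H.symm
  have hfix := complement_fixed_ne_bot hV0 (le_top.trans (normalizer_eq_top_iff.mpr hVn).ge) Dn hfr hVcard (by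
    rw [Subgroup.eq_bot_iff_forall]
    rintro v ⟨hv, hvc⟩
    obtain ⟨c, hc, hc1⟩ := SetLike.exists_of_lt (bot_lt_iff_ne_bot.mpr d.hC.1)
    have hvK : v ∈ K := d.hlt.le hv.1
    have h1 : (⟨v, hvK⟩ : K) ∈ H.subgroupOf K ⊓ centralizer {c} := by
      refine ⟨mem_subgroupOf.mpr hv.1, mem_centralizer_singleton_iff.mpr (Subtype.ext ?_)⟩
      exact (mem_centralizer_iff.mp hvc (c : G) ⟨⟨(c : G), le_normalizer ⟨c, hc, rfl⟩⟩,
        hker.le (show _ ∈ Cn from ⟨c, hc, rfl⟩), rfl⟩).symm
    rw [fpf_of_frob d.compl_C.disjoint d.hC hc (fun e => hc1 (Subgroup.mem_bot.mpr e)), mem_bot] at h1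
    exact congrArg Subtype.val h1)
  obtain ⟨v, hv, hv1⟩ := SetLike.exists_of_lt (bot_lt_iff_ne_bot.mpr hfix)
  have hv1' : v ≠ 1 := fun e => hv1 (mem_bot.mpr e)
  obtain ⟨j, hj⟩ := hv.1.2.2
  obtain ⟨i, -, hi⟩ := (Nat.dvd_prime_pow hp).mp (orderOf_dvd_of_pow_eq_one hj)
  have hi0 : i ≠ 0 := fun h0 => hv1' (orderOf_eq_one_iff.mp (by rw [hi, h0, pow_zero]))
  set u := v ^ p ^ (i - 1) with hu
  have huo : orderOf u = p := by
    rw [hu, orderOf_pow' v (pow_ne_zero _ hp.ne_zero), hi,
      Nat.gcd_eq_right (pow_dvd_pow p (Nat.sub_le i 1)), Nat.pow_div (Nat.sub_le i 1) hp.pos]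
    rw [show i - (i - 1) = 1 by omega, pow_one]
  have hcardDn : Nat.card Dn = Nat.card D := by
    refine (card_map_of_injective hfi).symm.trans ?_
    rw [hDn, map_comap_eq_self_of_surjective hfs]
  obtain ⟨x, hx⟩ := exists_prime_orderOf_dvd_card' (G := Dn) q (hcardDn ▸ hqD)
  have hxo : orderOf ((x : N) : G) = q := by rw [Subgroup.orderOf_coe, Subgroup.orderOf_coe, hx]
  have hcom : Commute u ((x : N) : G) :=
    ((show Commute ((x : N) : G) v from mem_centralizer_iff.mp hv.2 _ ⟨(x : N), x.2, rfl⟩).pow_right _).symm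
  exact ⟨u * ((x : N) : G), by
    rw [hcom.orderOf_mul_eq_mul_orderOf_of_coprime (by rw [huo, hxo]; exact (Nat.coprime_primes hp hq).mpr hpq), huo, hxo]⟩

end Data

end CfsgLib.TwoFrob
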