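import Mathlib
import Cfsg.Agent.Lib.TwoFrobenius
import Cfsg.Agent.Lib.PRegularClass
import Cfsg.Agent.Lib.FrobAction.Order

/-!
Solvable groups with disconnected prime graph are Frobenius or 2-Frobenius.
-/

set_option autoImplicit false

namespace CfsgLib.DiscSol

open Subgroup CfsgLib.Frob Cfsg CfsgLib

variable {G : Type*} [Group G]

/-- No element order is divisible by a prime inside and a prime outside `A`. -/
def NoMix (X : Type*) [Group X] (A : Set ℕ) : Prop :=
  ∀ x : X, ∀ p q : ℕ, p.Prime → q.Prime → p ∈ A → q ∉ A → p * q ∣ orderOf x → False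

/-- All prime divisors of `n` lie in `A`. -/
def PrimesIn (A : Set ℕ) (n : ℕ) : Prop := ∀ p : ℕ, p.Prime → p ∣ n → p ∈ A

theorem NoMix.symm {A : Set ℕ} (h : NoMix G A) : NoMix G Aᶜ :=
  fun x p q hp hq hpA hqA hd => h x q p hq hp (not_not.mp hqA) hpA (mul_comm p q ▸ hd)

theorem NoMix.map {A : Set ℕ} (h : NoMix G A) {X : Type*} [Group X] (f : G →* X)
    (hf : Function.Surjective f) : NoMix X A := by
  intro x p q hp hq hpA hqA hd
  obtain ⟨g, rfl⟩ := hf x
  exact h g p q hp hq hpA hqA (hd.trans (orderOf_map_dvd f g))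

theorem NoMix.sub {A : Set ℕ} (h : NoMix G A) (K : Subgroup G) : NoMix K A :=
  fun x p q hp hq hpA hqA hd => h x p q hp hq hpA hqA (by rwa [Subgroup.orderOf_coe])

theorem NoMix.comm {A : Set ℕ} (h : NoMix G A) {p q : ℕ} (hp : p.Prime) (hq : q.Prime) (hpA : p ∈ A)
    (hqA : q ∉ A) {x y : G} (hx : orderOf x = p) (hy : orderOf y = q) (hc : Commute x y) : False := by
  refine h (x * y) p q hp hq hpA hqA (dvd_of_eq ?_)
  rw [hc.orderOf_mul_eq_mul_orderOf_of_coprime (by
    rw [hx, hy]; exact (Nat.coprime_primes hp hq).mpr fun e => hqA (e ▸ hpA)), hx, hy]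

theorem NoMix.fpf [Finite G] {A : Set ℕ} (h : NoMix G A) {N H : Subgroup G}
    (hN : PrimesIn A (Nat.card N)) (hH : PrimesIn Aᶜ (Nat.card H)) {y x : G} (hy : y ∈ H) (hy1 : y ≠ 1)
    (hx : x ∈ N) (hc : Commute x y) : x = 1 := by
  by_contra hx1
  obtain ⟨p, hp, hpd⟩ := Nat.exists_prime_and_dvd (n := orderOf x) (mt orderOf_eq_one_iff.mp hx1)
  obtain ⟨q, hq, hqd⟩ := Nat.exists_prime_and_dvd (n := orderOf y) (mt orderOf_eq_one_iff.mp hy1)
  exact h.comm hp hq (hN p hp (hpd.trans (Subgroup.orderOf_dvd_natCard N hx)))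
    (hH q hq (hqd.trans (Subgroup.orderOf_dvd_natCard H hy)))
    (orderOf_pow_orderOf_div (orderOf_pos x).ne' hpd) (orderOf_pow_orderOf_div (orderOf_pos y).ne' hqd)
    (hc.pow_pow _ _)

/-- The splitting. -/
theorem frob_split [Finite G] {A : Set ℕ} (h : NoMix G A) (N : Subgroup G) [N.Normal] (hN : N ≠ ⊥)
    (hN' : N ≠ ⊤) (h1 : PrimesIn A (Nat.card N)) (h2 : PrimesIn Aᶜ N.index) :
    ∃ C : Subgroup G, IsFrobeniusComplement C ∧ IsComplement' N C ∧ frobeniusKernel C = (N : Set G) := by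
  obtain ⟨C, hC⟩ := exists_right_complement'_of_coprime (N := N)
    (Nat.coprime_of_dvd fun k hk hk1 hk2 => h2 k hk hk2 (h1 k hk hk1))
  have hCc : Nat.card C = N.index := (hC.symm.index_eq_card).symm
  have hC0 : C ≠ ⊥ := by
    intro e
    subst e
    exact hN' (isComplement'_bot_right.mp hC)
  have hfr : IsFrobeniusComplement C := frob_of_fpf hC hN hC0 fun y hy hy1 => by
    rw [Subgroup.eq_bot_iff_forall]
    rintro x ⟨hx, hxc⟩
    exact h.fpf h1 (hCc ▸ h2) hy hy1 hx (mem_centralizer_singleton_iff.mp hxc)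
  exact ⟨C, hfr, hC, (kernel_eq_of_complement hfr hC).symm⟩

theorem fitting_ne_bot [Finite G] [Group.IsSolvable G] [Nontrivial G] : fittingSubgroup G ≠ ⊥ := by
  intro e
  have h := centralizer_fitting_le_of_solvable (G := G)
  rw [e] at h
  obtain ⟨g, hg⟩ := exists_ne (1 : G)
  exact hg (mem_bot.mp (h (mem_centralizer_iff.mpr fun x hx => by rw [mem_bot.mp hx]; simp)))

theorem main [Finite G] [Group.IsSolvable G] {A : Set ℕ} (hm : NoMix G A)
    (hF : PrimesIn A (Nat.card (fittingSubgroup G))) {q : ℕ} (hq : q.Prime) (hqA : q ∉ A)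
    (hqG : q ∣ Nat.card G) :
    (∃ C : Subgroup G, IsFrobeniusComplement C) ∨
    (∃ (H K : Subgroup G) (_ : H.Normal), K.Normal ∧ H < K ∧
      (∃ C : Subgroup ↥K, IsFrobeniusComplement C ∧ frobeniusKernel C = (H.subgroupOf K : Set ↥K)) ∧
      (∃ C : Subgroup (G ⧸ H), IsFrobeniusComplement C ∧
        frobeniusKernel C = (K.map (QuotientGroup.mk' H) : Set (G ⧸ H)))) := by
  classical
  haveI := Fact.mk hq
  haveI : Nontrivial G := Finite.one_lt_card_iff_nontrivial.mp
    (lt_of_lt_of_le hq.one_lt (Nat.le_of_dvd Nat.card_pos hqG))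
  set F := fittingSubgroup G with hFd
  have hFn : Group.IsNilpotent F := isNilpotent_fittingSubgroup
  have hF0 : F ≠ ⊥ := fitting_ne_bot
  set π := QuotientGroup.mk' F with hπ
  have hπs : Function.Surjective π := QuotientGroup.mk'_surjective F
  have hmb : NoMix (G ⧸ F) A := hm.map π hπs
  have hqb : q ∣ Nat.card (G ⧸ F) := by
    rw [card_eq_card_quotient_mul_card_subgroup F] at hqG
    exact (hq.dvd_mul.mp hqG).resolve_right fun h => hqA (hF q hq h)
  haveI : Nontrivial (G ⧸ F) := Finite.one_lt_card_iff_nontrivial.mp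
    (lt_of_lt_of_le hq.one_lt (Nat.le_of_dvd Nat.card_pos hqb))
  set Fb := fittingSubgroup (G ⧸ F) with hFbd
  have hFb0 : Fb ≠ ⊥ := fitting_ne_bot
  have hFb : PrimesIn Aᶜ (Nat.card Fb) := by
    intro p hp hpd hpA
    haveI := Fact.mk hp
    have hne : pCore p (G ⧸ F) ≠ ⊥ := fun e => not_dvd_card_fitting_of_pCore_eq_bot e hpd
    set M := (pCore p (G ⧸ F)).comap π with hM
    have hMA : PrimesIn A (Nat.card M) := by
      intro r hr hrd
      haveI := Fact.mk hr
      obtain ⟨m, hm'⟩ := exists_prime_orderOf_dvd_card' (G := M) r hrd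
      rw [← Subgroup.orderOf_coe] at hm'
      have h1 : orderOf (π m) ∣ r := hm' ▸ orderOf_map_dvd π (m : G)
      rcases (Nat.dvd_prime hr).mp h1 with h | h
      · exact hF r hr (hm' ▸ Subgroup.orderOf_dvd_natCard F
          ((QuotientGroup.eq_one_iff (m : G)).mp (orderOf_eq_one_iff.mp h)))
      · obtain ⟨k, hk⟩ := IsPGroup.iff_card.mp (isPGroup_pCore (G := G ⧸ F) p)
        have h2 : r ∣ p ^ k := hk ▸ h ▸ Subgroup.orderOf_dvd_natCard _ m.2
        rwa [(Nat.prime_dvd_prime_iff_eq hr hp).mp (hr.dvd_of_dvd_pow h2)]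
    obtain ⟨y, hy⟩ := exists_prime_orderOf_dvd_card' (G := G) q hqG
    have hzp : PrimesIn Aᶜ (Nat.card (zpowers y)) := by
      intro r hr hrd
      rw [Nat.card_zpowers, hy] at hrd
      rwa [(Nat.prime_dvd_prime_iff_eq hr hq).mp hrd]
    have hy1 : y ≠ 1 := fun e => hq.ne_one (by rw [← hy, e, orderOf_one])
    have hMn : M.Normal := inferInstance
    have hMnil : Group.IsNilpotent M := CfsgLib.FrobAction.isNilpotent_of_fpf_operators M (zpowers y)
      (zpowers_ne_bot.mpr hy1) (le_top.trans (normalizer_eq_top_iff.mpr hMn).ge)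
      fun e he he1 u hu hc => hm.fpf hMA hzp he he1 hu (Commute.symm hc)
    apply hne
    rw [← map_comap_eq_self_of_surjective hπs (pCore p (G ⧸ F)), ← hM, eq_bot_iff]
    refine (map_mono (le_fittingSubgroup hMnil)).trans (le_of_eq ?_)
    exact QuotientGroup.map_mk'_self F
  by_cases hall : PrimesIn Aᶜ (Nat.card (G ⧸ F))
  · left
    have hFt : F ≠ ⊤ := fun e => hqA (hF q hq (by rw [e, Subgroup.card_top]; exact hqG))
    obtain ⟨C, hC, -, -⟩ := frob_split hm F hF0 hFt hF (by rwa [Subgroup.index_eq_card])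
    exact ⟨C, hC⟩
  right
  simp only [PrimesIn, Set.mem_compl_iff, not_forall, not_not] at hall
  obtain ⟨p, hp, hpb, hpA⟩ := hall
  haveI := Fact.mk hp
  set K := Fb.comap π with hK
  have hFK : F ≤ K := fun x hx => by
    show π x ∈ Fb
    rw [show π x = 1 from (QuotientGroup.eq_one_iff x).mpr hx]
    exact one_mem _
  have hKmap : K.map π = Fb := map_comap_eq_self_of_surjective hπs _
  -- the map `K → Fb`
  set f : K →* Fb := π.subgroupComap Fb with hf
  have hfs : Function.Surjective f := by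
    rintro ⟨x, hx⟩
    obtain ⟨g, rfl⟩ := hπs x
    exact ⟨⟨g, hx⟩, rfl⟩
  have hfk : f.ker = F.subgroupOf K := by
    ext x
    rw [MonoidHom.mem_ker, mem_subgroupOf, ← QuotientGroup.eq_one_iff]
    exact ⟨fun h => congrArg Subtype.val h, fun h => Subtype.ext h⟩
  have hidx : (F.subgroupOf K).index = Nat.card Fb := by
    rw [← hfk, Subgroup.index_ker, MonoidHom.range_eq_top.mpr hfs, Subgroup.card_top]
  have hne1 : F.subgroupOf K ≠ ⊥ := fun e => hF0 (by
    rw [subgroupOf_eq_bot] at e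
    exact disjoint_self.mp (e.mono_right hFK))
  have hne2 : F.subgroupOf K ≠ ⊤ := fun e => hFb0 (by
    rw [← hKmap, eq_bot_iff]
    exact (map_mono (subgroupOf_eq_top.mp e)).trans (le_of_eq (QuotientGroup.map_mk'_self F)))
  obtain ⟨Q, hQ, hQc, hQk⟩ := frob_split (hm.sub K) (F.subgroupOf K) hne1 hne2
    (fun r hr hd => hF r hr (by rwa [Nat.card_congr (subgroupOfEquivOfLe hFK).toEquiv] at hd))
    (hidx ▸ hFb)
  set e : Q ≃* Fb := MulEquiv.ofBijective (f.comp Q.subtype) (by
    rw [Nat.bijective_iff_injective_and_card]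
    refine ⟨(injective_iff_map_eq_one _).mpr fun x hx => ?_, ?_⟩
    · exact Subtype.ext (disjoint_def.mp hQc.disjoint (hfk ▸ (MonoidHom.mem_ker.mpr hx)) x.2)
    · rw [← hidx]; exact hQc.symm.index_eq_card.symm) with he
  haveI hFbn : Group.IsNilpotent Fb := isNilpotent_fittingSubgroup
  haveI : Group.IsNilpotent Q := (Group.isNilpotent_congr e).mpr hFbn
  obtain ⟨V, hVc, hV, hQV, hfpf⟩ := exists_abelian_module hQc hne1 hQ.1
    fun _ hh h1 => fpf_of_frob hQc.disjoint hQ hh h1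
  -- odd order
  have hodd : ¬ 2 ∣ Nat.card Q := by
    intro h2
    haveI : Fact (Nat.Prime 2) := ⟨Nat.prime_two⟩
    obtain ⟨z, hz, hzc⟩ := CfsgLib.TwoFrob.exists_central_order (N := Q) h2
    have huniq : ∀ y : Q, orderOf y = 2 → y = z := by
      intro y hy
      have hm' : (y : K) ∈ zpowers (z : K) :=
        no_elementary_fpf hV Nat.prime_two hQV hfpf z.2 y.2 (by rw [Subgroup.orderOf_coe, hz])
          (by rw [Subgroup.orderOf_coe, hy]) (congrArg Subtype.val (mem_center_iff.mp hzc y).symm)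
      obtain ⟨i, hi⟩ := hm'
      simp only at hi
      have hi' : z ^ i = y := Subtype.ext (by simpa using hi)
      have hi2 : z ^ i = z ^ (i % 2) := by
        conv_lhs => rw [← zpow_mod_orderOf, hz]
        norm_num
      rcases Int.emod_two_eq_zero_or_one i with h | h <;> rw [h] at hi2
      · exfalso
        rw [hi2, zpow_zero] at hi'
        rw [← hi', orderOf_one] at hy
        exact absurd hy (by norm_num)
      · rw [← hi', hi2, zpow_one]
    obtain ⟨x, hx⟩ := exists_prime_orderOf_dvd_card' (G := G ⧸ F) p hpb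
    have hwo : orderOf ((e z : Fb) : G ⧸ F) = 2 := by rw [Subgroup.orderOf_coe, MulEquiv.orderOf_eq, hz]
    refine hmb.comm hp Nat.prime_two hpA (hFb 2 Nat.prime_two ?_) hx hwo ?_
    · rw [← Nat.card_congr e.toEquiv]; exact h2
    set w' : Fb := ⟨x * (e z : Fb) * x⁻¹, (inferInstance : Fb.Normal).conj_mem _ (e z).2 x⟩ with hw'
    have hwo' : orderOf w' = 2 := by
      rw [← Subgroup.orderOf_coe]
      show orderOf (MulAut.conj x ((e z : Fb) : G ⧸ F)) = 2
      rw [MulEquiv.orderOf_eq, hwo]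
    have h1 := huniq (e.symm w') (by rw [MulEquiv.orderOf_eq, hwo'])
    rw [MulEquiv.symm_apply_eq] at h1
    exact mul_inv_eq_iff_eq_mul.mp (congrArg Subtype.val h1)
  haveI : IsZGroup Q := ⟨fun r hr P => by
    have := Fact.mk hr
    rcases sylow_cyclic_or_quaternion hV hQV hfpf P with h | ⟨n, ⟨e'⟩⟩
    · exact h
    · exfalso
      have h1 : Nat.card (P : Subgroup Q) = 4 * 2 ^ n := by
        rw [Nat.card_congr e'.toEquiv, Nat.card_eq_fintype_card, QuaternionGroup.card]
      exact hodd ((h1 ▸ Dvd.intro (2 * 2 ^ n) (by ring) : 2 ∣ Nat.card (P : Subgroup Q)).trans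
        (card_subgroup_dvd_card _))⟩
  haveI : IsCyclic Q := inferInstance
  haveI hcycb : IsCyclic Fb := isCyclic_of_surjective e e.surjective
  -- the quotient is commutative
  have hcomm : ∀ a b : G ⧸ F, a * b * a⁻¹ * b⁻¹ ∈ Fb := by
    intro a b
    refine centralizer_fitting_le_of_solvable (G := G ⧸ F) (mem_centralizer_iff.mpr fun u hu => ?_)
    set ψ : (G ⧸ F) →* MulAut Fb := MulAut.conjNormal
    have h1 : ψ (a * b * a⁻¹ * b⁻¹) = 1 := by
      obtain ⟨φ⟩ : Nonempty (MulAut Fb ≃* (ZMod (Nat.card Fb))ˣ) := ⟨IsCyclic.mulAutMulEquiv Fb⟩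
      apply φ.injective
      rw [map_mul, map_mul, map_mul, map_mul, map_mul, map_mul, map_inv, map_inv, map_inv, map_inv, map_one,
        mul_right_comm, mul_inv_cancel_right, mul_inv_cancel]
    have h2 := congrArg Subtype.val (DFunLike.congr_fun h1 ⟨u, hu⟩)
    rw [MulAut.conjNormal_apply, MulAut.one_apply] at h2
    simp only at h2
    exact (mul_inv_eq_iff_eq_mul.mp h2).symm
  have hidxb : PrimesIn A Fb.index := by
    intro r hr hrd
    by_contra hrA
    haveI := Fact.mk hr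
    rw [Subgroup.index_eq_card] at hrd
    have hpd : p ∣ Nat.card ((G ⧸ F) ⧸ Fb) := by
      rw [card_eq_card_quotient_mul_card_subgroup Fb] at hpb
      exact (hp.dvd_mul.mp hpb).resolve_right fun h => hFb p hp h hpA
    obtain ⟨x, hx⟩ := exists_prime_orderOf_dvd_card' (G := (G ⧸ F) ⧸ Fb) p hpd
    obtain ⟨y, hy⟩ := exists_prime_orderOf_dvd_card' (G := (G ⧸ F) ⧸ Fb) r hrd
    refine (hmb.map _ (QuotientGroup.mk'_surjective Fb)).comm hp hr hpA hrA hx hy ?_
    obtain ⟨a, rfl⟩ := QuotientGroup.mk'_surjective Fb x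
    obtain ⟨b, rfl⟩ := QuotientGroup.mk'_surjective Fb y
    have h1 : QuotientGroup.mk' Fb (a * b * a⁻¹ * b⁻¹) = 1 := (QuotientGroup.eq_one_iff _).mpr (hcomm a b)
    rw [map_mul, map_mul, map_mul, map_inv, map_inv, mul_inv_eq_one, mul_inv_eq_iff_eq_mul] at h1
    exact h1
  have hFbt : Fb ≠ ⊤ := fun e' => hFb p hp (by rw [e', Subgroup.card_top]; exact hpb) hpA
  obtain ⟨D, hD, -, hDk⟩ := frob_split hmb.symm Fb hFb0 hFbt hFb (by rwa [compl_compl])
  refine ⟨F, K, inferInstance, inferInstance, lt_of_le_of_ne hFK fun e' => hne2 ?_, ⟨Q, hQ, hQk⟩,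
    ⟨D, hD, by rw [hDk, hKmap]⟩⟩
  rw [subgroupOf_eq_top, ← e']

end CfsgLib.DiscSol
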