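import Cfsg.Prelude.Def_Local
import Cfsg.Agent.Lib.PSolvable
import Cfsg.Agent.Lib.Coprime
import Cfsg.Agent.Lib.Blocks.HallHigman
import Cfsg.Agent.Lib.Fusion.PSolvable
import Cfsg.Agent.Lib.Solvable.Frattini
import Cfsg.Agent.Lib.Elementary

/-!
`p`-solvable groups whose maximal subgroups are `p`-nilpotent or of prime index.
-/

set_option autoImplicit false

namespace CfsgLib.PLengthTwo

open Cfsg
open scoped Pointwise

universe u

variable {p : ℕ} [Fact p.Prime]

/-- Every maximal subgroup is `p`-nilpotent or of prime index. -/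
def Hyp (p : ℕ) (G : Type u) [Group G] : Prop :=
  ∀ M : Subgroup G, IsCoatom M →
    (∃ K : Subgroup ↥M, K.Normal ∧ ¬ p ∣ Nat.card K ∧ ∃ k : ℕ, K.index = p ^ k) ∨ (M.index).Prime

theorem hyp_of_surjective {G : Type u} [Group G] [Finite G] {R : Type u} [Group R] (f : G →* R)
    (hf : Function.Surjective f) (h : Hyp p G) : Hyp p R := by
  intro M hM
  have hco : IsCoatom (M.comap f) := by
    refine ⟨fun e => hM.1 ?_, fun L hL => ?_⟩
    · rw [← Subgroup.map_comap_eq_self_of_surjective hf M, e, Subgroup.map_top_of_surjective f hf]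
    · have hle : f.ker ≤ L := le_trans (fun x hx => by
        rw [Subgroup.mem_comap, MonoidHom.mem_ker.mp hx]; exact one_mem M) hL.le
      have hlt : M < L.map f := by
        refine lt_of_le_of_ne ?_ fun e => hL.ne ?_
        · rw [← Subgroup.map_comap_eq_self_of_surjective hf M]
          exact Subgroup.map_mono hL.le
        · rw [e, Subgroup.comap_map_eq_self hle]
      rw [← Subgroup.comap_map_eq_self hle, hM.2 _ hlt, Subgroup.comap_top]
  rcases h _ hco with ⟨K, hKn, hKp, k, hk⟩ | hpr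
  · refine Or.inl ?_
    set g : ↥(M.comap f) →* ↥M := (f.comp (M.comap f).subtype).codRestrict M fun x => x.2 with hg
    have hgs : Function.Surjective g := fun ⟨y, hy⟩ => by
      obtain ⟨x, rfl⟩ := hf y
      exact ⟨⟨x, hy⟩, rfl⟩
    refine ⟨K.map g, hKn.map g hgs, fun hd => hKp (hd.trans (K.card_map_dvd g)), ?_⟩
    obtain ⟨j, -, hj⟩ := (Nat.dvd_prime_pow (Fact.out : p.Prime)).mp (hk ▸ K.index_map_dvd hgs)
    exact ⟨j, hj⟩
  · exact Or.inr (by rwa [Subgroup.index_comap_of_surjective M hf] at hpr)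

theorem frattini_quotient_eq_bot {G : Type u} [Group G] [Finite G] (W : Subgroup G) [W.Normal]
    (hW : W = frattini G) : frattini (G ⧸ W) = ⊥ := by
  have h : (frattini (G ⧸ W)).comap (QuotientGroup.mk' W) ≤ W := by
    refine le_of_le_of_eq (FrattiniLemmas.le_frattini_of_forall fun M hM => ?_) hW.symm
    have hWM : W ≤ M := hW ▸ frattini_le_coatom hM
    have hM' : IsCoatom (M.map (QuotientGroup.mk' W)) := by
      refine ⟨fun e => hM.1 ?_, fun L hL => ?_⟩
      · rw [← Subgroup.comap_map_eq_self (f := QuotientGroup.mk' W) (H := M) (by rwa [QuotientGroup.ker_mk']), e,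
          Subgroup.comap_top]
      · have hlt : M < L.comap (QuotientGroup.mk' W) := by
          refine lt_of_le_of_ne (Subgroup.map_le_iff_le_comap.mp hL.le) fun e => hL.ne ?_
          rw [e, Subgroup.map_comap_eq_self_of_surjective (QuotientGroup.mk'_surjective W)]
        rw [← Subgroup.map_comap_eq_self_of_surjective (QuotientGroup.mk'_surjective W) L, hM.2 _ hlt,
          Subgroup.map_top_of_surjective _ (QuotientGroup.mk'_surjective W)]
    rw [← Subgroup.comap_map_eq_self (f := QuotientGroup.mk' W) (H := M) (by rwa [QuotientGroup.ker_mk'])]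
    exact Subgroup.comap_mono (frattini_le_coatom hM')
  rw [eq_bot_iff]
  intro x hx
  obtain ⟨g, rfl⟩ := QuotientGroup.mk'_surjective W x
  rw [Subgroup.mem_bot, QuotientGroup.mk'_apply, QuotientGroup.eq_one_iff]
  exact h hx

/-- A trivial `O_{p'}` survives the quotient by a normal `p`-subgroup inside the Frattini subgroup. -/
theorem pPrimeCore_quotient_frattini {G : Type u} [Group G] [Finite G] (hO : pPrimeCore p G = ⊥)
    {W : Subgroup G} [W.Normal] (hWp : IsPGroup p W) (hW : W ≤ frattini G) : pPrimeCore p (G ⧸ W) = ⊥ := by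
  set X := (pPrimeCore p (G ⧸ W)).comap (QuotientGroup.mk' W) with hX
  have hWX : W ≤ X := QuotientGroup.le_comap_mk' W _
  set W' := W.subgroupOf X with hW'
  have hcardW : Nat.card W' = Nat.card W := Nat.card_congr (Subgroup.subgroupOfEquivOfLe hWX).toEquiv
  have hidx : W'.index = Nat.card (pPrimeCore p (G ⧸ W)) := by
    have h1 := W'.card_mul_index
    rw [hcardW, show Nat.card X = _ from CfsgLib.card_comap_mk W _] at h1
    exact Nat.eq_of_mul_eq_mul_left Nat.card_pos (h1.trans (by ring))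
  obtain ⟨a, ha⟩ := IsPGroup.iff_card.mp hWp
  have hcop : (Nat.card W').Coprime W'.index := by
    rw [hcardW, ha, hidx]
    exact Nat.Coprime.pow_left a (CfsgLib.card_pPrimeCore_coprime p).symm
  obtain ⟨K, hK⟩ := Subgroup.exists_right_complement'_of_coprime hcop
  have hKc : Nat.card K = W'.index := hK.symm.index_eq_card.symm
  set K' := K.map X.subtype with hK'
  have htop : Subgroup.normalizer (K' : Set G) ⊔ W = ⊤ := by
    refine eq_top_iff.mpr fun g _ => ?_
    have hKg : Subgroup.IsComplement' W' (K.map (MulAut.conjNormal (H := X) g).toMonoidHom) :=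
      CfsgLib.isComplement'_of_card hcop (by
        rw [← hKc]; exact (Nat.card_congr ((MulAut.conjNormal (H := X) g).subgroupMap K).toEquiv).symm)
    have hsol : Group.IsSolvable W' := by
      haveI : Group.IsNilpotent W' := (hWp.of_equiv (Subgroup.subgroupOfEquivOfLe hWX).symm).isNilpotent
      infer_instance
    obtain ⟨n, hn, e⟩ := CfsgLib.complements_conj_mem hcop (Or.inl hsol) hK hKg
    have hmem : ∀ k : X, k ∈ K → ∃ k₂ ∈ K, g * (k₂ : G) * g⁻¹ = (n : G) * k * (n : G)⁻¹ := fun k hk => by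
      obtain ⟨k₂, hk₂, h2⟩ : MulAut.conj n • k ∈ K.map (MulAut.conjNormal (H := X) g).toMonoidHom :=
        e ▸ Subgroup.smul_mem_pointwise_smul k _ _ hk
      refine ⟨k₂, hk₂, ?_⟩
      have h3 := congrArg Subtype.val h2
      simpa [MulAut.conjNormal_apply] using h3
    have hmem' : (n : G)⁻¹ * g ∈ Subgroup.normalizer (K' : Set G) := by
      refine inv_mem_iff.mp (Subgroup.mem_normalizer_fintype ?_)
      rintro _ ⟨k, hk, rfl⟩
      obtain ⟨k₂, hk₂, h2⟩ := hmem k hk
      refine ⟨k₂, hk₂, ?_⟩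
      show (k₂ : G) = ((n : G)⁻¹ * g)⁻¹ * (k : G) * ((n : G)⁻¹ * g)⁻¹⁻¹
      calc (k₂ : G) = g⁻¹ * (g * (k₂ : G) * g⁻¹) * g := by group
        _ = g⁻¹ * ((n : G) * k * (n : G)⁻¹) * g := by rw [h2]
        _ = _ := by group
    have : g = (n : G) * ((n : G)⁻¹ * g) := by group
    rw [this]
    exact mul_mem (Subgroup.mem_sup_right hn) (Subgroup.mem_sup_left hmem')
  haveI : K'.Normal := Subgroup.normalizer_eq_top_iff.mp (FrattiniLemmas.eq_top_of_sup_eq_top hW htop)
  have hK0 : K' = ⊥ := le_bot_iff.mp (hO ▸ CfsgLib.le_pPrimeCore (by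
    rw [hK', Subgroup.card_map_of_injective X.subtype_injective, hKc, hidx]
    exact CfsgLib.card_pPrimeCore_coprime p))
  rw [← Subgroup.card_eq_one, ← hidx, ← hKc, ← Subgroup.card_map_of_injective X.subtype_injective, ← hK', hK0,
    Subgroup.card_bot]

/-- The Frattini-free case. -/
theorem frattini_free {G : Type u} [Group G] [Finite G] (hΦ : frattini G = ⊥) (hmax : Hyp p G)
    (hC : Subgroup.centralizer (pCore p G : Set G) ≤ pCore p G) :
    ∃ N : Subgroup G, N.Normal ∧ pCore p G ≤ N ∧ ¬ p ∣ (pCore p G).relIndex N ∧ ∃ k, N.index = p ^ k := by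
  classical
  haveI := Blocks.pCore_normal' (G := G) (p := p)
  set B := pCore p G with hB
  have hBp : IsPGroup p B := CfsgLib.isPGroup_pCore p
  haveI hBc : IsMulCommutative B := by
    have h1 : commutator B = ⊥ := by
      rw [← Subgroup.map_eq_bot_iff_of_injective _ B.subtype_injective]
      exact le_bot_iff.mp (hΦ ▸ (Subgroup.map_mono (CfsgLib.commutator_le_frattini_pGroup hBp)).trans
        (FrattiniLemmas.map_frattini_le B))
    exact ⟨⟨fun a b => commutatorElement_eq_one_iff_mul_comm.mp (Subgroup.mem_bot.mp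
      (h1 ▸ Subgroup.commutator_mem_commutator (Subgroup.mem_top a) (Subgroup.mem_top b)))⟩⟩
  let S : Set (Subgroup G) := {V | V.Normal ∧ V ≤ B ∧ V ≠ ⊥ ∧ ∀ L : Subgroup G, L.Normal → L ≤ V → L = ⊥ ∨ L = V}
  have hdata : ∀ V ∈ S, ∃ (N : Subgroup G) (m : ℕ), N.Normal ∧ B ≤ N ∧ ¬ p ∣ m ∧
      (∀ x ∈ N, x ^ m ∈ Subgroup.centralizer (V : Set G)) ∧ ∃ j, ∀ x : G, x ^ (p ^ j) ∈ N := by
    rintro V ⟨hVn, hVB, hV1, hVmin⟩
    haveI := hVn
    haveI hVc : IsMulCommutative V := ⟨⟨fun a b => Subtype.ext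
      (congrArg (fun z : B => (z : G)) (hBc.is_comm.comm (⟨a, hVB a.2⟩ : B) ⟨b, hVB b.2⟩))⟩⟩
    obtain ⟨H, hH⟩ := FrattiniLemmas.exists_complement V (by rw [hΦ, inf_bot_eq])
    have hHtop : H ≠ ⊤ := fun e => hV1 (by rw [e] at hH; exact Subgroup.isComplement'_top_right.mp hH)
    have hco : IsCoatom H := by
      refine ⟨hHtop, fun L hL => ?_⟩
      have hn : (V ⊓ L).Normal := by
        constructor
        intro x hx g
        obtain ⟨v, hv, h, hh, rfl⟩ := Subgroup.mem_sup_of_normal_left.mp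
          (hH.sup_eq_top ▸ Subgroup.mem_top g : g ∈ V ⊔ H)
        have h1 : h * x * h⁻¹ ∈ V ⊓ L := Subgroup.mem_inf.mpr
          ⟨hVn.conj_mem x hx.1 h, L.mul_mem (L.mul_mem (hL.le hh) hx.2) (L.inv_mem (hL.le hh))⟩
        have h2 : v * (h * x * h⁻¹) = (h * x * h⁻¹) * v :=
          congrArg Subtype.val (hVc.is_comm.comm (⟨v, hv⟩ : V) ⟨_, h1.1⟩)
        rw [show v * h * x * (v * h)⁻¹ = v * (h * x * h⁻¹) * v⁻¹ by group, h2, mul_inv_cancel_right]
        exact h1
      rcases hVmin _ hn inf_le_left with h0 | h0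
      · exfalso
        refine hL.ne (le_antisymm hL.le fun x hx => ?_)
        obtain ⟨v, hv, h, hh, rfl⟩ := Subgroup.mem_sup_of_normal_left.mp
          (hH.sup_eq_top ▸ Subgroup.mem_top x : x ∈ V ⊔ H)
        have hvL : v ∈ V ⊓ L := Subgroup.mem_inf.mpr ⟨hv, by
          have := L.mul_mem hx (L.inv_mem (hL.le hh)); rwa [mul_inv_cancel_right] at this⟩
        rw [h0, Subgroup.mem_bot] at hvL
        rw [hvL, one_mul]; exact hh
      · exact top_le_iff.mp (hH.sup_eq_top ▸ sup_le (h0 ▸ inf_le_right) hL.le)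
    have hBC : B ≤ Subgroup.centralizer (V : Set G) := fun b hb => Subgroup.mem_centralizer_iff.mpr fun v hv =>
      congrArg (fun z : B => (z : G)) (hBc.is_comm.comm (⟨v, hVB hv⟩ : B) ⟨b, hb⟩)
    rcases hmax H hco with ⟨K, hKn, hKp, k, hk⟩ | hpr
    · set C := Subgroup.centralizer (V : Set G) with hCdef
      set K' := K.map H.subtype
      have hN : (C ⊔ K').Normal := Subgroup.normalizer_eq_top_iff.mp <| eq_top_iff.mpr fun g _ => by
        obtain ⟨v, hv, h, hh, rfl⟩ := Subgroup.mem_sup_of_normal_left.mp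
          (hH.sup_eq_top ▸ Subgroup.mem_top g : g ∈ V ⊔ H)
        refine mul_mem (Subgroup.le_normalizer (Subgroup.mem_sup_left (hBC (hVB hv)))) ?_
        refine Subgroup.mem_normalizer_fintype fun x hx => ?_
        obtain ⟨c, hc, k', hk', rfl⟩ := Subgroup.mem_sup_of_normal_left.mp hx
        show h * (c * k') * h⁻¹ ∈ C ⊔ K'
        rw [show h * (c * k') * h⁻¹ = (h * c * h⁻¹) * (h * k' * h⁻¹) by group]
        refine mul_mem (Subgroup.mem_sup_left ((inferInstance : C.Normal).conj_mem c hc h)) (Subgroup.mem_sup_right ?_)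
        obtain ⟨y, hy, rfl⟩ := hk'
        exact ⟨⟨h, hh⟩ * y * ⟨h, hh⟩⁻¹, hKn.conj_mem y hy _, rfl⟩
      refine ⟨C ⊔ K', Nat.card K, hN, hBC.trans le_sup_left, hKp, fun x hx => ?_, k, fun x => ?_⟩
      · obtain ⟨c, hc, _, ⟨y, hy, rfl⟩, rfl⟩ := Subgroup.mem_sup_of_normal_left.mp hx
        rw [← QuotientGroup.eq_one_iff, QuotientGroup.mk_pow, QuotientGroup.mk_mul,
          (QuotientGroup.eq_one_iff c).mpr hc, one_mul, ← QuotientGroup.mk_pow, ← map_pow, QuotientGroup.eq_one_iff]
        have : y ^ Nat.card K = 1 := congrArg Subtype.val (pow_card_eq_one' (x := (⟨y, hy⟩ : K)))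
        rw [this, map_one]; exact one_mem _
      · haveI := hN
        obtain ⟨v, hv, h, hh, rfl⟩ := Subgroup.mem_sup_of_normal_left.mp
          (hH.sup_eq_top ▸ Subgroup.mem_top x : x ∈ V ⊔ H)
        rw [← QuotientGroup.eq_one_iff, QuotientGroup.mk_pow, QuotientGroup.mk_mul,
          (QuotientGroup.eq_one_iff v).mpr (Subgroup.mem_sup_left (hBC (hVB hv))), one_mul, ← QuotientGroup.mk_pow,
          QuotientGroup.eq_one_iff]
        refine Subgroup.mem_sup_right ⟨(⟨h, hh⟩ : H) ^ (p ^ k), ?_, rfl⟩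
        rw [← hk, Subgroup.index_eq_card, SetLike.mem_coe, ← QuotientGroup.eq_one_iff, QuotientGroup.mk_pow]
        exact pow_card_eq_one'
    · have hVcard : Nat.card V = p := by
        rw [hH.index_eq_card] at hpr
        obtain ⟨j, hj⟩ := IsPGroup.iff_card.mp (hBp.to_le hVB)
        rw [hj] at hpr ⊢
        rw [(Nat.Prime.pow_eq_iff hpr).mp rfl |>.2, pow_one]
      haveI : IsCyclic V := isCyclic_of_prime_card hVcard
      refine ⟨⊤, p - 1, inferInstance, le_top, fun hd => ?_, fun x _ => ?_, 0, fun x => Subgroup.mem_top _⟩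
      · have h2 := (Fact.out : p.Prime).two_le
        have := Nat.le_of_dvd (by omega) hd
        omega
      · have h1 : MulAut.conjNormal (H := V) (x ^ (p - 1)) = 1 := by
          rw [map_pow]
          have h2 : Nat.card (MulAut V) = p - 1 := by
            rw [IsCyclic.card_mulAut, hVcard, Nat.totient_prime Fact.out]
          haveI : Finite (MulAut V) := Finite.of_injective (fun f : MulAut V => (f : V → V)) DFunLike.coe_injective
          rw [← h2]; exact pow_card_eq_one'
        refine Subgroup.mem_centralizer_iff.mpr fun v hv => ?_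
        have h3 := congrArg Subtype.val (DFunLike.congr_fun h1 ⟨v, hv⟩)
        simp only [MulAut.conjNormal_apply, MulAut.one_apply] at h3
        exact (mul_inv_eq_iff_eq_mul.mp h3).symm
  choose! N m hN hBN hm hNm j hj using hdata
  have hSfin : S.Finite := Set.toFinite _
  set D : Subgroup G := ⨅ V ∈ S, N V with hD
  haveI hDn : D.Normal := by
    refine ⟨fun x hx g => ?_⟩
    simp only [hD, Subgroup.mem_iInf] at hx ⊢
    exact fun V hV => (hN V hV).conj_mem x (hx V hV) g
  -- the minimal normal subgroups span `B`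
  set T : Subgroup G := sSup S with hT
  have hTB : T = B := by
    have hTle : T ≤ B := sSup_le fun V hV => hV.2.1
    haveI hTn : T.Normal := by
      rw [hT, sSup_eq_iSup']
      exact @Subgroup.iSup_normal _ _ _ _ fun V => V.2.1
    haveI : IsMulCommutative T := ⟨⟨fun a b => Subtype.ext
      (congrArg (fun z : B => (z : G)) (hBc.is_comm.comm (⟨a, hTle a.2⟩ : B) ⟨b, hTle b.2⟩))⟩⟩
    obtain ⟨H, hH⟩ := FrattiniLemmas.exists_complement T (by rw [hΦ, inf_bot_eq])
    have hn : (B ⊓ H).Normal := by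
      constructor
      intro x hx g
      obtain ⟨v, hv, h, hh, rfl⟩ := Subgroup.mem_sup_of_normal_left.mp
        (hH.sup_eq_top ▸ Subgroup.mem_top g : g ∈ T ⊔ H)
      have h1 : h * x * h⁻¹ ∈ B ⊓ H := Subgroup.mem_inf.mpr
        ⟨(inferInstance : B.Normal).conj_mem x hx.1 h, H.mul_mem (H.mul_mem hh hx.2) (H.inv_mem hh)⟩
      have h2 : v * (h * x * h⁻¹) = (h * x * h⁻¹) * v :=
        congrArg (fun z : B => (z : G)) (hBc.is_comm.comm (⟨v, hTle hv⟩ : B) ⟨_, h1.1⟩)
      rw [show v * h * x * (v * h)⁻¹ = v * (h * x * h⁻¹) * v⁻¹ by group, h2, mul_inv_cancel_right]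
      exact h1
    refine le_antisymm hTle fun b hb => ?_
    obtain ⟨v, hv, h, hh, rfl⟩ := Subgroup.mem_sup_of_normal_left.mp
      (hH.sup_eq_top ▸ Subgroup.mem_top b : b ∈ T ⊔ H)
    by_contra hb'
    have hne : B ⊓ H ≠ ⊥ := fun e => hb' (by
      have : h ∈ B ⊓ H := Subgroup.mem_inf.mpr ⟨by
        have := B.mul_mem (B.inv_mem (hTle hv)) hb
        rwa [inv_mul_cancel_left] at this, hh⟩
      rw [e, Subgroup.mem_bot] at this
      rw [this, mul_one]; exact hv)
    obtain ⟨V, hV, hVmin⟩ := Finite.exists_le_minimal (p := fun L : Subgroup G => L.Normal ∧ L ≠ ⊥ ∧ L ≤ B ⊓ H)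
      ⟨hn, hne, le_rfl⟩
    obtain ⟨hVn, hV1, hVle⟩ := hVmin.prop
    have hVS : V ∈ S := ⟨hVn, hVle.trans inf_le_left, hV1, fun L hLn hLV => by
      by_contra hc
      push Not at hc
      exact hc.2 (le_antisymm hLV (hVmin.2 ⟨hLn, hc.1, hLV.trans hVle⟩ hLV))⟩
    exact hV1 (le_bot_iff.mp ((le_inf (le_sSup hVS) (hVle.trans inf_le_right)).trans hH.disjoint.le_bot))
  have hBD : B ≤ D := le_iInf₂ fun V hV => hBN V hV
  refine ⟨D, hDn, hBD, fun hd => ?_, ?_⟩
  · -- the quotient `D / B` is a `p'`-group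
    set M := ∏ V ∈ hSfin.toFinset, m V with hM
    have hpow : ∀ x ∈ D, x ^ M ∈ B := fun x hx => hC (by
      rw [← hTB, Subgroup.mem_centralizer_iff]
      intro b hb
      suffices hsup : sSup S ≤ Subgroup.centralizer ({x ^ M} : Set G) from
        Subgroup.mem_centralizer_singleton_iff.mp (hsup hb)
      refine sSup_le fun V hV => ?_
      intro v hv
      rw [Subgroup.mem_centralizer_singleton_iff]
      obtain ⟨c, hc⟩ := Finset.dvd_prod_of_mem m (hSfin.mem_toFinset.mpr hV)
      have hxV : x ^ M ∈ Subgroup.centralizer (V : Set G) := by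
        rw [hM, hc, pow_mul]
        refine Subgroup.pow_mem _ (hNm V hV x ?_) c
        simp only [hD, Subgroup.mem_iInf] at hx
        exact hx V hV
      exact Subgroup.mem_centralizer_iff.mp hxV v hv)
    rw [Subgroup.relIndex, Subgroup.index_eq_card] at hd
    obtain ⟨y, hy⟩ := exists_prime_orderOf_dvd_card' p hd
    obtain ⟨x, rfl⟩ := QuotientGroup.mk'_surjective _ y
    have hdvd : p ∣ M := hy ▸ orderOf_dvd_of_pow_eq_one (by
      rw [← map_pow, QuotientGroup.mk'_apply, QuotientGroup.eq_one_iff, Subgroup.mem_subgroupOf,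
        Subgroup.coe_pow]
      exact hpow x x.2)
    obtain ⟨V, hV, hV'⟩ := (Nat.Prime.prime (Fact.out : p.Prime)).exists_mem_finset_dvd hdvd
    exact hm V (hSfin.mem_toFinset.mp hV) hV'
  · have hp' : IsPGroup p (G ⧸ D) := fun y => by
      obtain ⟨x, rfl⟩ := QuotientGroup.mk'_surjective D y
      refine ⟨∑ V ∈ hSfin.toFinset, j V, ?_⟩
      rw [← map_pow, QuotientGroup.mk'_apply, QuotientGroup.eq_one_iff]
      simp only [hD, Subgroup.mem_iInf]
      intro V hV
      obtain ⟨c, hc⟩ := Nat.pow_dvd_pow p (Finset.single_le_sum (f := j) (fun _ _ => Nat.zero_le _)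
        (hSfin.mem_toFinset.mpr hV))
      rw [hc, pow_mul]
      exact Subgroup.pow_mem _ (hj V hV x) c
    obtain ⟨k, hk⟩ := IsPGroup.iff_card.mp hp'
    exact ⟨k, by rw [Subgroup.index_eq_card, hk]⟩

/-- The `p', p, p', p` series. -/
theorem main {G : Type u} [Group G] [Finite G] (hs : IsPSolvable p G) (hmax : Hyp p G) :
    ∃ A B C : Subgroup G, A.Normal ∧ B.Normal ∧ C.Normal ∧ A ≤ B ∧ B ≤ C ∧ ¬ p ∣ Nat.card A ∧
      (∃ k : ℕ, A.relIndex B = p ^ k) ∧ ¬ p ∣ B.relIndex C ∧ ∃ k : ℕ, C.index = p ^ k := by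
  haveI hA : (pPrimeCore p G).Normal := inferInstance
  set A := pPrimeCore p G with hAdef
  let Q := G ⧸ A
  set q := QuotientGroup.mk' A with hq
  have hqs : Function.Surjective q := QuotientGroup.mk'_surjective A
  have hsQ : IsPSolvable p Q := PSolvableClosure.of_surjective q hqs hs
  have hOQ : pPrimeCore p Q = ⊥ := CfsgLib.pPrimeCore_quotient_eq_bot p
  have hΦp : frattini Q ≤ pCore p Q := by
    rw [← CfsgLib.fitting_eq_pCore Fact.out hOQ]
    exact le_sSup ⟨inferInstance, frattini_nilpotent⟩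
  set r := QuotientGroup.mk' (frattini Q) with hr
  have hrs : Function.Surjective r := QuotientGroup.mk'_surjective _
  haveI := Blocks.pCore_normal' (G := Q) (p := p)
  haveI := Blocks.pCore_normal' (G := Q ⧸ frattini Q) (p := p)
  have hOR : pPrimeCore p (Q ⧸ frattini Q) = ⊥ :=
    pPrimeCore_quotient_frattini hOQ ((CfsgLib.isPGroup_pCore p).to_le hΦp) le_rfl
  obtain ⟨N, hNn, hBN, hrel, k, hk⟩ := frattini_free (frattini_quotient_eq_bot _ rfl)
    (hyp_of_surjective r hrs (hyp_of_surjective q hqs hmax))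
    (Blocks.hall_higman (PSolvableClosure.of_surjective r hrs hsQ) hOR)
  have hcore : (pCore p (Q ⧸ frattini Q)).comap r = pCore p Q := by
    refine le_antisymm (CfsgLib.le_pCore ?_) ?_
    · refine IsPGroup.comap_of_ker_isPGroup (CfsgLib.isPGroup_pCore p) r ?_
      rw [hr, QuotientGroup.ker_mk']
      exact (CfsgLib.isPGroup_pCore p).to_le hΦp
    · rw [← Subgroup.map_le_iff_le_comap]
      haveI : ((pCore p Q).map r).Normal := Subgroup.Normal.map inferInstance r hrs
      exact CfsgLib.le_pCore ((CfsgLib.isPGroup_pCore p).map r)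
  refine ⟨A, (pCore p Q).comap q, (N.comap r).comap q, inferInstance, inferInstance, inferInstance,
    QuotientGroup.le_comap_mk' A _, ?_, CfsgLib.not_dvd_card_pPrimeCore Fact.out, ?_, ?_, k, ?_⟩
  · exact Subgroup.comap_mono (hcore ▸ Subgroup.comap_mono hBN)
  · obtain ⟨i, hi⟩ := IsPGroup.iff_card.mp (CfsgLib.isPGroup_pCore (G := Q) p)
    refine ⟨i, ?_⟩
    have hA' : A.relIndex ((pCore p Q).comap q) = ((⊥ : Subgroup Q).comap q).relIndex ((pCore p Q).comap q) := by
      rw [MonoidHom.comap_bot, hq, QuotientGroup.ker_mk']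
    rw [hA', Subgroup.relIndex_comap, Subgroup.map_comap_eq_self_of_surjective hqs, Subgroup.relIndex_bot_left, hi]
  · rw [Subgroup.relIndex_comap, Subgroup.map_comap_eq_self_of_surjective hqs, ← hcore, Subgroup.relIndex_comap,
      Subgroup.map_comap_eq_self_of_surjective hrs]
    exact hrel
  · rw [Subgroup.index_comap_of_surjective _ hqs, Subgroup.index_comap_of_surjective _ hrs, hk]

end CfsgLib.PLengthTwo
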