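import Mathlib
import Cfsg.Prelude.Def_Local
import Cfsg.Agent.Lib.Basic
import Cfsg.Agent.Lib.PSolvable

/-!
Functoriality of the upper `p`-series.
-/

set_option autoImplicit false

namespace CfsgLib.PSeries

open Cfsg Subgroup

universe u v w
variable {G : Type u} [Group G] {p : ℕ}

/-- The upper series. -/
abbrev U (p : ℕ) (G : Type u) [Group G] (i : ℕ) : Subgroup G := (upperPSeries p G i).1

theorem U_zero : U p G 0 = ⊥ := rfl

theorem U_succ_even {i : ℕ} (h : Even i) :
    U p G (i + 1) = (pPrimeCore p (G ⧸ U p G i)).comap (QuotientGroup.mk' (U p G i)) := by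
  show (if Even i then _ else _ : {H : Subgroup G // H.Normal}).1 = _
  rw [if_pos h]

theorem U_succ_odd {i : ℕ} (h : ¬ Even i) :
    U p G (i + 1) = (pCore p (G ⧸ U p G i)).comap (QuotientGroup.mk' (U p G i)) := by
  show (if Even i then _ else _ : {H : Subgroup G // H.Normal}).1 = _
  rw [if_neg h]

theorem U_mono {i j : ℕ} (h : i ≤ j) : U p G i ≤ U p G j := by
  induction h with
  | refl => exact le_rfl
  | @step k _ ih =>
    refine ih.trans ?_
    intro x hx
    rcases Nat.even_or_odd k with hk | hk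
    · rw [U_succ_even hk, mem_comap, show QuotientGroup.mk' (U p G k) x = 1 from (QuotientGroup.eq_one_iff x).mpr hx]
      exact one_mem _
    · rw [U_succ_odd (Nat.not_even_iff_odd.mpr hk), mem_comap,
        show QuotientGroup.mk' (U p G k) x = 1 from (QuotientGroup.eq_one_iff x).mpr hx]
      exact one_mem _

variable [Finite G] [hp : Fact p.Prime]

theorem pow_mem_of_even {i : ℕ} (h : Even i) {x : G} (hx : x ∈ U p G (i + 1)) :
    ∃ n : ℕ, n.Coprime p ∧ x ^ n ∈ U p G i := by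
  rw [U_succ_even h, mem_comap] at hx
  refine ⟨Nat.card (pPrimeCore p (G ⧸ U p G i)), card_pPrimeCore_coprime p, ?_⟩
  rw [← QuotientGroup.eq_one_iff, QuotientGroup.mk_pow]
  exact congrArg Subtype.val (pow_card_eq_one' (x := (⟨_, hx⟩ : pPrimeCore p (G ⧸ U p G i))))

theorem pow_mem_of_odd {i : ℕ} (h : ¬ Even i) {x : G} (hx : x ∈ U p G (i + 1)) :
    ∃ k : ℕ, x ^ p ^ k ∈ U p G i := by
  rw [U_succ_odd h, mem_comap] at hx
  obtain ⟨k, hk⟩ := isPGroup_pCore (G := G ⧸ U p G i) p ⟨_, hx⟩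
  refine ⟨k, ?_⟩
  rw [← QuotientGroup.eq_one_iff, QuotientGroup.mk_pow]
  exact congrArg Subtype.val hk

theorem le_succ_of_even {i : ℕ} (h : Even i) {N : Subgroup G} [N.Normal]
    (hN : ∀ x ∈ N, ∃ n : ℕ, n.Coprime p ∧ x ^ n ∈ U p G i) : N ≤ U p G (i + 1) := by
  rw [U_succ_even h, ← map_le_iff_le_comap]
  haveI : (N.map (QuotientGroup.mk' (U p G i))).Normal :=
    Subgroup.Normal.map ‹_› _ (QuotientGroup.mk'_surjective _)
  refine le_pPrimeCore (hN := this) ?_
  refine ((Nat.Prime.coprime_iff_not_dvd hp.out).mpr fun hd => ?_).symm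
  obtain ⟨⟨_, x, hx, rfl⟩, hy⟩ := exists_prime_orderOf_dvd_card' p hd
  obtain ⟨n, hn, hxn⟩ := hN x hx
  rw [← Subgroup.orderOf_coe] at hy
  have h1 : orderOf (QuotientGroup.mk' (U p G i) x) ∣ n := orderOf_dvd_of_pow_eq_one (by
    rw [← map_pow]; exact (QuotientGroup.eq_one_iff _).mpr hxn)
  change orderOf (QuotientGroup.mk' (U p G i) x) = p at hy
  rw [hy] at h1
  exact hp.out.ne_one (Nat.eq_one_of_dvd_coprimes hn h1 dvd_rfl)

theorem le_succ_of_odd {i : ℕ} (h : ¬ Even i) {N : Subgroup G} [N.Normal]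
    (hN : ∀ x ∈ N, ∃ k : ℕ, x ^ p ^ k ∈ U p G i) : N ≤ U p G (i + 1) := by
  rw [U_succ_odd h, ← map_le_iff_le_comap]
  refine le_sSup ⟨Subgroup.Normal.map ‹_› _ (QuotientGroup.mk'_surjective _), ?_⟩
  rintro ⟨_, x, hx, rfl⟩
  obtain ⟨k, hk⟩ := hN x hx
  exact ⟨k, Subtype.ext (show QuotientGroup.mk' (U p G i) x ^ p ^ k = 1 by
    rw [← map_pow]; exact (QuotientGroup.eq_one_iff _).mpr hk)⟩

theorem map_step {H : Type v} [Group H] [Finite H] (f : G →* H) (hf : Function.Surjective f) {i j : ℕ}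
    (hij : Even i ↔ Even j) (h : (U p G i).map f ≤ U p H j) :
    (U p G (i + 1)).map f ≤ U p H (j + 1) := by
  haveI : ((U p G (i + 1)).map f).Normal := Subgroup.Normal.map inferInstance f hf
  by_cases hi : Even i
  · refine le_succ_of_even (hij.mp hi) ?_
    rintro _ ⟨x, hx, rfl⟩
    obtain ⟨n, hn, hxn⟩ := pow_mem_of_even hi hx
    exact ⟨n, hn, by rw [← map_pow]; exact h (mem_map_of_mem f hxn)⟩
  · refine le_succ_of_odd (fun e => hi (hij.mpr e)) ?_
    rintro _ ⟨x, hx, rfl⟩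
    obtain ⟨k, hk⟩ := pow_mem_of_odd hi hx
    exact ⟨k, by rw [← map_pow]; exact h (mem_map_of_mem f hk)⟩

theorem map_steps {H : Type v} [Group H] [Finite H] (f : G →* H) (hf : Function.Surjective f) {i j : ℕ}
    (hij : Even i ↔ Even j) (h : (U p G i).map f ≤ U p H j) :
    ∀ t : ℕ, (U p G (i + t)).map f ≤ U p H (j + t)
  | 0 => h
  | t + 1 => map_step f hf (by simp [Nat.even_add, hij]) (map_steps f hf hij h t)

theorem map_le {H : Type v} [Group H] [Finite H] (f : G →* H) (hf : Function.Surjective f) (i : ℕ) :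
    (U p G i).map f ≤ U p H i := by
  simpa using map_steps (p := p) f hf (i := 0) (j := 0) Iff.rfl (by simp [U_zero]) i

theorem pLengthLE_map {H : Type v} [Group H] [Finite H] (f : G →* H) (hf : Function.Surjective f) {l : ℕ}
    (h : PLengthLE p l G) : PLengthLE p l H := by
  have h1 := map_le (p := p) f hf (2 * l + 1)
  rw [show U p G (2 * l + 1) = ⊤ from h, Subgroup.map_top_of_surjective f hf] at h1
  exact top_le_iff.mp h1

theorem pLengthLE_mono {l l' : ℕ} (h : l ≤ l') (hl : PLengthLE p l G) : PLengthLE p l' G :=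
  top_le_iff.mp ((le_of_eq (Eq.symm hl)).trans (U_mono (by omega)))

theorem pLengthLE_quotient_two {l : ℕ} (h : PLengthLE p (l + 1) G) :
    PLengthLE p l (G ⧸ U p G 2) := by
  have h1 := map_steps (p := p) (QuotientGroup.mk' (U p G 2)) (QuotientGroup.mk'_surjective _) (i := 2) (j := 0)
    (by simp) (by rw [map_le_iff_le_comap]; intro x hx; rw [mem_comap, U_zero, mem_bot]
                  exact (QuotientGroup.eq_one_iff x).mpr hx) (2 * l + 1)
  rw [show 2 + (2 * l + 1) = 2 * (l + 1) + 1 by ring, zero_add, show U p G (2 * (l + 1) + 1) = ⊤ from h,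
    Subgroup.map_top_of_surjective _ (QuotientGroup.mk'_surjective _)] at h1
  exact top_le_iff.mp h1

variable {ι : Type w} [Finite ι] {H : ι → Type v} [∀ k, Group (H k)] [∀ k, Finite (H k)]

theorem comap_step (f : ∀ k, G →* H k) {i j : ℕ} (hij : Even i ↔ Even j)
    (h : (⨅ k, (U p (H k) j).comap (f k)) ≤ U p G i) :
    (⨅ k, (U p (H k) (j + 1)).comap (f k)) ≤ U p G (i + 1) := by
  classical
  haveI := Fintype.ofFinite ι
  haveI : (⨅ k, (U p (H k) (j + 1)).comap (f k)).Normal :=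
    Subgroup.normal_iInf_normal fun k => inferInstance
  by_cases hi : Even i
  · refine le_succ_of_even hi fun x hx => ?_
    choose n hn hxn using fun k => pow_mem_of_even (hij.mp hi) (Subgroup.mem_iInf.mp hx k)
    refine ⟨∏ k, n k, Nat.Coprime.prod_left fun k _ => hn k, h (Subgroup.mem_iInf.mpr fun k => ?_)⟩
    rw [mem_comap, map_pow, ← Finset.mul_prod_erase _ _ (Finset.mem_univ k), pow_mul]
    exact pow_mem (hxn k) _
  · refine le_succ_of_odd hi fun x hx => ?_
    choose n hxn using fun k => pow_mem_of_odd (fun e => hi (hij.mpr e)) (Subgroup.mem_iInf.mp hx k)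
    refine ⟨∑ k, n k, h (Subgroup.mem_iInf.mpr fun k => ?_)⟩
    rw [mem_comap, map_pow, ← Finset.add_sum_erase _ _ (Finset.mem_univ k), pow_add, pow_mul]
    exact pow_mem (hxn k) _

theorem comap_steps (f : ∀ k, G →* H k) {i j : ℕ} (hij : Even i ↔ Even j)
    (h : (⨅ k, (U p (H k) j).comap (f k)) ≤ U p G i) :
    ∀ t : ℕ, (⨅ k, (U p (H k) (j + t)).comap (f k)) ≤ U p G (i + t)
  | 0 => h
  | t + 1 => comap_step f (by simp [Nat.even_add, hij]) (comap_steps f hij h t)

theorem pLengthLE_family (f : ∀ k, G →* H k) (hker : (⨅ k, (f k).ker) = ⊥) {l : ℕ}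
    (h : ∀ k, PLengthLE p l (H k)) : PLengthLE p l G := by
  have h1 := comap_steps (p := p) f (i := 0) (j := 0) Iff.rfl (by
    simp only [U_zero, MonoidHom.comap_bot, hker]; exact le_rfl) (2 * l + 1)
  simp only [Nat.zero_add] at h1
  refine top_le_iff.mp (le_trans (le_iInf fun k => ?_) h1)
  rw [show U p (H k) (2 * l + 1) = ⊤ from h k, comap_top]



theorem pLengthLE_of_pPrime_kernel {K : Type v} [Group K] [Finite K] (f : G →* K)
    (hker : (Nat.card f.ker).Coprime p) {l : ℕ} (h : PLengthLE p l K) : PLengthLE p l G := by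
  have h0 : (⨅ _k : Unit, (U p K 0).comap f) ≤ U p G 1 := by
    rw [iInf_const, U_zero, MonoidHom.comap_bot]
    exact le_succ_of_even (i := 0) (by simp) fun x hx =>
      ⟨Nat.card f.ker, hker, by
        rw [show x ^ Nat.card f.ker = 1 from congrArg Subtype.val (pow_card_eq_one' (x := (⟨x, hx⟩ : f.ker)))]
        exact one_mem _⟩
  have h1 : (⨅ _k : Unit, (U p K 1).comap f) ≤ U p G 1 := by
    rw [iInf_const]
    refine le_succ_of_even (i := 0) (by simp) fun x hx => ?_
    obtain ⟨n, hn, hxn⟩ := pow_mem_of_even (i := 0) (by simp) (mem_comap.mp hx)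
    refine ⟨n * Nat.card f.ker, hn.mul_left hker, ?_⟩
    rw [U_zero, mem_bot] at hxn
    rw [U_zero, mem_bot, pow_mul]
    exact congrArg Subtype.val (pow_card_eq_one' (x := (⟨x ^ n, by rwa [MonoidHom.mem_ker, map_pow]⟩ : f.ker)))
  have h2 := comap_steps (p := p) (ι := Unit) (H := fun _ => K) (fun _ => f) (i := 1) (j := 1) Iff.rfl h1 (2 * l)
  rw [show 1 + 2 * l = 2 * l + 1 by ring, iInf_const, show U p K (2 * l + 1) = ⊤ from h, comap_top] at h2
  exact top_le_iff.mp h2

theorem pLengthLE_of_pGroup_kernel {K : Type v} [Group K] [Finite K] (f : G →* K)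
    (hker : IsPGroup p f.ker) {l : ℕ} (h : PLengthLE p l K) : PLengthLE p (l + 1) G := by
  have h1 : (⨅ _k : Unit, (U p K 0).comap f) ≤ U p G 2 := by
    rw [iInf_const, U_zero, MonoidHom.comap_bot]
    refine le_succ_of_odd (i := 1) (by simp) fun x hx => ?_
    obtain ⟨k, hk⟩ := hker ⟨x, hx⟩
    refine ⟨k, ?_⟩
    rw [show x ^ p ^ k = 1 from congrArg Subtype.val hk]
    exact one_mem _
  have h2 := comap_steps (p := p) (ι := Unit) (H := fun _ => K) (fun _ => f) (i := 2) (j := 0) (by simp) h1 (2 * l + 1)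
  rw [show 2 + (2 * l + 1) = 2 * (l + 1) + 1 by ring, Nat.zero_add, iInf_const,
    show U p K (2 * l + 1) = ⊤ from h, comap_top] at h2
  exact top_le_iff.mp h2

theorem pLengthLE_zero_iff : PLengthLE p 0 G ↔ pPrimeCore p G = ⊤ := by
  constructor
  · intro h
    refine top_le_iff.mp fun x _ => ?_
    have hx : x ∈ U p G 1 := h.ge (mem_top x)
    have hN : U p G 1 ≤ pPrimeCore p G := by
      refine le_pPrimeCore ?_
      refine ((Nat.Prime.coprime_iff_not_dvd hp.out).mpr fun hd => ?_).symm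
      obtain ⟨⟨y, hy⟩, hyo⟩ := exists_prime_orderOf_dvd_card' p hd
      rw [Subgroup.orderOf_mk] at hyo
      obtain ⟨n, hn, hyn⟩ := pow_mem_of_even (i := 0) (by simp) hy
      rw [U_zero, mem_bot] at hyn
      exact hp.out.ne_one (Nat.eq_one_of_dvd_coprimes hn (hyo ▸ orderOf_dvd_of_pow_eq_one hyn) dvd_rfl)
    exact hN hx
  · intro h
    refine top_le_iff.mp (le_of_eq_of_le h.symm ?_)
    refine le_succ_of_even (i := 0) (by simp) fun x hx => ⟨Nat.card (pPrimeCore p G), card_pPrimeCore_coprime p, ?_⟩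
    rw [show x ^ Nat.card (pPrimeCore p G) = 1 from congrArg Subtype.val (pow_card_eq_one' (x := (⟨x, hx⟩ : pPrimeCore p G)))]
    exact one_mem _

theorem U_one : U p G 1 = pPrimeCore p G := by
  refine le_antisymm (le_pPrimeCore ?_) ?_
  · refine ((Nat.Prime.coprime_iff_not_dvd hp.out).mpr fun hd => ?_).symm
    obtain ⟨⟨y, hy⟩, hyo⟩ := exists_prime_orderOf_dvd_card' p hd
    rw [Subgroup.orderOf_mk] at hyo
    obtain ⟨n, hn, hyn⟩ := pow_mem_of_even (i := 0) (by simp) hy
    rw [U_zero, mem_bot] at hyn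
    exact hp.out.ne_one (Nat.eq_one_of_dvd_coprimes hn (hyo ▸ orderOf_dvd_of_pow_eq_one hyn) dvd_rfl)
  · refine le_succ_of_even (i := 0) (by simp) fun x hx => ⟨Nat.card (pPrimeCore p G), card_pPrimeCore_coprime p, ?_⟩
    rw [show x ^ Nat.card (pPrimeCore p G) = 1 from congrArg Subtype.val (pow_card_eq_one' (x := (⟨x, hx⟩ : pPrimeCore p G)))]
    exact one_mem _

theorem U_two (h : pPrimeCore p G = ⊥) : U p G 2 = pCore p G := by
  refine le_antisymm (le_sSup ⟨inferInstance, fun ⟨x, hx⟩ => ?_⟩) (le_succ_of_odd (i := 1) (by simp) fun x hx => ?_)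
  · obtain ⟨k, hk⟩ := pow_mem_of_odd (i := 1) (by simp) hx
    rw [U_one, h, mem_bot] at hk
    exact ⟨k, Subtype.ext hk⟩
  · obtain ⟨k, hk⟩ := isPGroup_pCore (G := G) p ⟨x, hx⟩
    refine ⟨k, ?_⟩
    rw [show x ^ p ^ k = 1 from congrArg Subtype.val hk]
    exact one_mem _

end CfsgLib.PSeries
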