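import Mathlib.GroupTheory.Sylow
import Mathlib.GroupTheory.Perm.Cycle.Type
import Mathlib.GroupTheory.SpecificGroups.Alternating
import Mathlib.Data.Sym.Sym2

/-!
Sylow 2-subgroups of symmetric and alternating groups.

A Sylow 2-subgroup `T` of `Perm α` contains the transpositions `swap a (p a)` of a pairing `p`
(an involution with at most one fixed point) and no others; hence it is contained in the
centralizer of `p`, and permutes the pairs. This gives `N(T) = T` for symmetric groups, and
`N(S) = S` for alternating groups of degree at least six.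
-/

set_option autoImplicit false

universe u

namespace CfsgLib.SymSylow

open Equiv

variable {α : Type u} [Fintype α] [DecidableEq α]

/-- An involution with at most one fixed point. -/
structure IsPairing (p : Perm α) : Prop where
  invol : ∀ a, p (p a) = a
  fixed : ∀ a b, p a = a → p b = b → a = b

/-- The permutations fixing each pair of a pairing. -/
def pairKernel (p : Perm α) (hp : ∀ a, p (p a) = a) : Subgroup (Perm α) where
  carrier := {x | ∀ a, x a = a ∨ x a = p a}
  one_mem' := fun a => Or.inl rfl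
  mul_mem' := by
    intro x y hx hy a
    rw [Perm.mul_apply]
    rcases hy a with h | h <;> rw [h]
    · exact hx a
    · rcases hx (p a) with h' | h' <;> rw [h']
      · exact Or.inr rfl
      · exact Or.inl (hp a)
  inv_mem' := by
    intro x hx a
    rcases hx (x⁻¹ a) with h | h <;> rw [Perm.coe_inv, apply_symm_apply] at h <;> rw [Perm.coe_inv]
    · exact Or.inl h.symm
    · exact Or.inr (by conv_rhs => rw [h, hp])

theorem pairKernel_sq {p : Perm α} {hp : ∀ a, p (p a) = a} {x : Perm α}
    (hx : x ∈ pairKernel p hp) : x ^ 2 = 1 := by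
  ext a
  rw [pow_two, Perm.mul_apply, Perm.one_apply]
  rcases hx a with h | h
  · rw [h, h]
  · rcases hx (p a) with h' | h'
    · have : p a = a := x.injective (h'.trans h.symm)
      rw [h, h', this]
    · rw [h, h', hp]

theorem isPGroup_pairKernel (p : Perm α) (hp : ∀ a, p (p a) = a) :
    IsPGroup 2 (pairKernel p hp) := fun x => ⟨1, Subtype.ext (pairKernel_sq x.2)⟩

theorem swap_mem_pairKernel (p : Perm α) (hp : ∀ a, p (p a) = a) (a : α) :
    swap a (p a) ∈ pairKernel p hp := by
  intro b
  rcases eq_or_ne b a with rfl | h1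
  · exact Or.inr (swap_apply_left _ _)
  rcases eq_or_ne b (p a) with rfl | h2
  · exact Or.inr (by rw [swap_apply_right, hp])
  · exact Or.inl (swap_apply_of_ne_of_ne h1 h2)

theorem conj_mem_pairKernel {p : Perm α} {hp : ∀ a, p (p a) = a} {x k : Perm α}
    (hx : ∀ a, p (x a) = x (p a)) (hk : k ∈ pairKernel p hp) :
    x * k * x⁻¹ ∈ pairKernel p hp := by
  intro a
  rw [Perm.mul_apply, Perm.mul_apply]
  rcases hk (x⁻¹ a) with h | h <;> rw [h]
  · exact Or.inl (by simp)
  · exact Or.inr (by rw [← hx]; simp)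

theorem exists_isPairing : ∃ p : Perm α, IsPairing p := by
  obtain ⟨e⟩ : Nonempty (α ≃ Fin (Fintype.card α)) := ⟨Fintype.equivFin α⟩
  let f : Fin (Fintype.card α) → Fin (Fintype.card α) := fun i =>
    if i.val % 2 = 0 then
      (if h : i.val + 1 < Fintype.card α then ⟨i.val + 1, h⟩ else i)
    else ⟨i.val - 1, by omega⟩
  have hf : Function.Involutive f := by
    intro i
    apply Fin.ext
    simp only [f]
    split_ifs <;> simp only at * <;> omega
  refine ⟨(e.trans (hf.toPerm f)).trans e.symm, fun a => by simp [hf _], fun a b ha hb => ?_⟩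
  have key : ∀ i : Fin (Fintype.card α), f i = i → i.val + 1 = Fintype.card α := by
    intro i hi
    simp only [f] at hi
    have := congrArg Fin.val hi
    split_ifs at this <;> simp only at * <;> omega
  have h1 := key (e a) (e.symm.injective (by simpa using ha))
  have h2 := key (e b) (e.symm.injective (by simpa using hb))
  exact e.injective (Fin.ext (by omega))

/-- A Sylow 2-subgroup contains the transpositions of some pairing. -/
theorem exists_pairing_mem (T : Sylow 2 (Perm α)) :
    ∃ p : Perm α, IsPairing p ∧ ∀ a, swap a (p a) ∈ (T : Subgroup (Perm α)) := by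
  obtain ⟨p, hp⟩ := exists_isPairing (α := α)
  obtain ⟨T₀, hT₀⟩ := (isPGroup_pairKernel p hp.invol).exists_le_sylow
  obtain ⟨g, rfl⟩ := MulAction.exists_smul_eq (Perm α) T₀ T
  refine ⟨g * p * g⁻¹, ⟨fun a => by simp [hp.invol], fun a b ha hb => ?_⟩, fun a => ?_⟩
  · have ha' : p (g⁻¹ a) = g⁻¹ a := g.injective (by simpa using ha)
    have hb' : p (g⁻¹ b) = g⁻¹ b := g.injective (by simpa using hb)
    exact g⁻¹.injective (hp.fixed _ _ ha' hb')
  · have h := hT₀ (swap_mem_pairKernel p hp.invol (g⁻¹ a))
    have h2 : g * swap (g⁻¹ a) (p (g⁻¹ a)) * g⁻¹ ∈ ((g • T₀ : Sylow 2 (Perm α)) : Subgroup _) := by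
      rw [Sylow.coe_subgroup_smul]
      exact ⟨_, h, rfl⟩
    have h3 : g * swap (g⁻¹ a) (p (g⁻¹ a)) * g⁻¹ = swap a ((g * p * g⁻¹) a) := by
      rw [← Equiv.swap_apply_apply]; simp
    exact h3 ▸ h2

/-- A 2-group has no two transpositions sharing one point. -/
theorem eq_of_swap_mem {T : Subgroup (Perm α)} (hT : IsPGroup 2 T) {a b c : α} (hab : a ≠ b)
    (hac : a ≠ c) (hb : swap a b ∈ T) (hc : swap a c ∈ T) : b = c := by
  by_contra hbc
  obtain ⟨k, hk⟩ := hT ⟨_, T.mul_mem hb hc⟩
  have h3 := (Perm.isThreeCycle_swap_mul_swap_same hab hac hbc).orderOf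
  have : orderOf (swap a b * swap a c) ∣ 2 ^ k :=
    orderOf_dvd_of_pow_eq_one (congrArg Subtype.val hk)
  rw [h3] at this
  exact absurd (Nat.prime_three.dvd_of_dvd_pow this) (by norm_num)

theorem eq_pairing_of_swap_mem {T : Subgroup (Perm α)} (hT : IsPGroup 2 T) {p : Perm α}
    (hp : IsPairing p) (hmem : ∀ a, swap a (p a) ∈ T) {a b : α} (hab : a ≠ b)
    (h : swap a b ∈ T) : b = p a := by
  by_cases ha : p a = a
  · have hb : p b ≠ b := fun hb => hab (hp.fixed _ _ ha hb)
    rw [swap_comm] at h
    have := eq_of_swap_mem hT (Ne.symm hb) hab.symm (hmem b) h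
    rw [← this, hp.invol] at ha
    exact absurd ha.symm hb
  · exact (eq_of_swap_mem hT (Ne.symm ha) hab (hmem a) h).symm

/-- Anything normalizing a 2-group with the transpositions of a pairing commutes with it. -/
theorem comm_of_normalizes {T : Subgroup (Perm α)} (hT : IsPGroup 2 T) {p : Perm α}
    (hp : IsPairing p) (hmem : ∀ a, swap a (p a) ∈ T) {g : Perm α}
    (hg : ∀ x ∈ T, g * x * g⁻¹ ∈ T) (a : α) : p (g a) = g (p a) := by
  have moved : ∀ b, p b ≠ b → p (g b) = g (p b) := fun b hb => by
    have h := hg _ (hmem b)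
    rw [← Equiv.swap_apply_apply] at h
    exact (eq_pairing_of_swap_mem hT hp hmem (g.injective.ne (Ne.symm hb)) h).symm
  by_cases ha : p a = a
  · rw [ha]
    by_contra hne
    obtain ⟨c, hc⟩ := g.surjective (p (g a))
    have hca : c ≠ a := fun h => hne (by rw [← hc, h])
    have h1 := moved c (fun h => hca (hp.fixed _ _ h ha))
    rw [hc, hp.invol] at h1
    exact hca ((hp.invol c).symm.trans (by rw [← g.injective h1, ha]))
  · exact moved a ha

/-- The centralizer of a pairing. -/
def pairStab (p : Perm α) : Subgroup (Perm α) where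
  carrier := {x | ∀ a, p (x a) = x (p a)}
  one_mem' := fun _ => rfl
  mul_mem' := fun {x y} hx hy a => by simp [Perm.mul_apply, hx (y a), hy a]
  inv_mem' := fun {x} hx a => x.injective (by rw [← hx]; simp)

/-- The moved pairs of a pairing. -/
abbrev Pairs (p : Perm α) : Type u := {s : Sym2 α // ∃ a, p a ≠ a ∧ s(a, p a) = s}

/-- The action of the centralizer of a pairing on its pairs. -/
def pairHom (p : Perm α) : pairStab p →* Perm (Pairs p) where
  toFun x :=
    { toFun := fun s => ⟨Sym2.map x.1 s.1, by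
        obtain ⟨a, ha, h⟩ := s.2
        exact ⟨x.1 a, by rw [x.2 a]; exact x.1.injective.ne ha, by rw [← h, Sym2.map_mk, x.2 a]⟩⟩
      invFun := fun s => ⟨Sym2.map x.1.symm s.1, by
        obtain ⟨a, ha, h⟩ := s.2
        have hx : p (x.1.symm a) = x.1.symm (p a) :=
          x.1.injective (by rw [← x.2]; simp)
        exact ⟨x.1.symm a, by rw [hx]; exact x.1.symm.injective.ne ha,
          by rw [← h, Sym2.map_mk, hx]⟩⟩
      left_inv := fun s => Subtype.ext (by simp [Sym2.map_map])
      right_inv := fun s => Subtype.ext (by simp [Sym2.map_map]) }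
  map_one' := Equiv.ext fun s => Subtype.ext (by simp)
  map_mul' x y := Equiv.ext fun s => Subtype.ext (by simp [Sym2.map_map, Perm.coe_mul])

theorem pairHom_eq_one {p : Perm α} (hp : IsPairing p) {x : pairStab p} (hx : pairHom p x = 1) :
    x.1 ∈ pairKernel p hp.invol := by
  intro a
  by_cases ha : p a = a
  · left
    refine hp.fixed _ _ ?_ ha
    rw [x.2 a, ha]
  · have h := congrArg Subtype.val (DFunLike.congr_fun hx ⟨s(a, p a), a, ha, rfl⟩)
    change Sym2.map x.1 s(a, p a) = s(a, p a) at h
    rw [Sym2.map_mk, Sym2.eq_iff] at h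
    rcases h with ⟨h, -⟩ | ⟨h, -⟩
    · exact Or.inl h
    · exact Or.inr h

theorem pairHom_swap {p : Perm α} (hp : IsPairing p) (a : α) :
    ∃ h : swap a (p a) ∈ pairStab p, pairHom p ⟨_, h⟩ = 1 := by
  have hm : swap a (p a) ∈ pairStab p := fun b => by
    rcases eq_or_ne b a with rfl | h1
    · simp [hp.invol]
    rcases eq_or_ne b (p a) with rfl | h2
    · simp [hp.invol]
    rw [swap_apply_of_ne_of_ne h1 h2, swap_apply_of_ne_of_ne]
    · exact fun h => h2 (by rw [← h, hp.invol])
    · exact fun h => h1 (p.injective h)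
  refine ⟨hm, Equiv.ext fun s => Subtype.ext ?_⟩
  obtain ⟨b, hb, hs⟩ := s.2
  change Sym2.map (swap a (p a)) s.1 = s.1
  rw [← hs, Sym2.map_mk, Sym2.eq_iff]
  rcases eq_or_ne b a with rfl | h1
  · simp [hp.invol]
  rcases eq_or_ne b (p a) with rfl | h2
  · simp [hp.invol]
  left
  refine ⟨swap_apply_of_ne_of_ne h1 h2, swap_apply_of_ne_of_ne ?_ ?_⟩
  · exact fun h => h2 (by rw [← h, hp.invol])
  · exact fun h => h1 (p.injective h)

theorem pairHom_surjective {p : Perm α} (hp : IsPairing p) :
    Function.Surjective (pairHom p) := by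
  rw [← MonoidHom.range_eq_top, eq_top_iff, ← Perm.closure_isSwap, Subgroup.closure_le]
  rintro _ ⟨⟨_, a, ha, rfl⟩, ⟨_, c, hc, rfl⟩, hne, rfl⟩
  have hca : c ≠ a ∧ c ≠ p a := by
    constructor <;> rintro rfl <;> apply hne <;> apply Subtype.ext
    · rfl
    · change s(a, p a) = s(p a, p (p a))
      rw [hp.invol]; exact Sym2.eq_swap
  have hpc : p c ≠ a ∧ p c ≠ p a :=
    ⟨fun h => hca.2 (by rw [← h, hp.invol]), p.injective.ne hca.1⟩
  have hconj : p * (swap a c * swap (p a) (p c)) * p⁻¹ = swap a c * swap (p a) (p c) := by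
    rw [show p * (swap a c * swap (p a) (p c)) * p⁻¹ =
      (p * swap a c * p⁻¹) * (p * swap (p a) (p c) * p⁻¹) by group,
      ← Equiv.swap_apply_apply, ← Equiv.swap_apply_apply, hp.invol, hp.invol]
    refine Perm.Disjoint.commute (fun x => ?_)
    rcases eq_or_ne x a with rfl | h1
    · exact Or.inl (swap_apply_of_ne_of_ne (Ne.symm ha) (Ne.symm hpc.1))
    rcases eq_or_ne x c with rfl | h2
    · exact Or.inl (swap_apply_of_ne_of_ne hca.2 (Ne.symm hc))
    · exact Or.inr (swap_apply_of_ne_of_ne h1 h2)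
  let σ : pairStab p := ⟨swap a c * swap (p a) (p c), fun x => by
    have := congrArg (fun e : Perm α => e (p x)) hconj
    simpa [hp.invol] using this⟩
  refine ⟨σ, Equiv.ext ?_⟩
  rintro ⟨_, d, hd, rfl⟩
  apply Subtype.ext
  change Sym2.map (swap a c * swap (p a) (p c)) s(d, p d) = _
  have e1 : (swap a c * swap (p a) (p c)) a = c := by
    rw [Perm.mul_apply, swap_apply_of_ne_of_ne (Ne.symm ha) (Ne.symm hpc.1), swap_apply_left]
  have e2 : (swap a c * swap (p a) (p c)) (p a) = p c := by
    rw [Perm.mul_apply, swap_apply_left, swap_apply_of_ne_of_ne hpc.1 hc]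
  have e3 : (swap a c * swap (p a) (p c)) c = a := by
    rw [Perm.mul_apply, swap_apply_of_ne_of_ne hca.2 (Ne.symm hc), swap_apply_right]
  have e4 : (swap a c * swap (p a) (p c)) (p c) = p a := by
    rw [Perm.mul_apply, swap_apply_right, swap_apply_of_ne_of_ne ha (Ne.symm hca.2)]
  by_cases h1 : s(d, p d) = s(a, p a)
  · have hs : (⟨s(d, p d), d, hd, rfl⟩ : Pairs p) = ⟨s(a, p a), a, ha, rfl⟩ := Subtype.ext h1
    rw [show swap _ _ (⟨s(d, p d), d, hd, rfl⟩ : Pairs p) = _ from congrArg _ hs, swap_apply_left]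
    change _ = s(c, p c)
    rw [h1, Sym2.map_mk, e1, e2]
  · by_cases h2 : s(d, p d) = s(c, p c)
    · have hs : (⟨s(d, p d), d, hd, rfl⟩ : Pairs p) = ⟨s(c, p c), c, hc, rfl⟩ := Subtype.ext h2
      rw [show swap _ _ (⟨s(d, p d), d, hd, rfl⟩ : Pairs p) = _ from congrArg _ hs, swap_apply_right]
      change _ = s(a, p a)
      rw [h2, Sym2.map_mk, e3, e4]
    · rw [Sym2.eq_iff] at h1 h2
      push Not at h1 h2
      have q1 : d ≠ a := fun h => h1.1 h (by rw [h])
      have q2 : d ≠ p a := fun h => h1.2 h (by rw [h, hp.invol])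
      have q3 : d ≠ c := fun h => h2.1 h (by rw [h])
      have q4 : d ≠ p c := fun h => h2.2 h (by rw [h, hp.invol])
      have r1 : p d ≠ p a := p.injective.ne q1
      have r2 : p d ≠ a := fun h => q2 (by rw [← h, hp.invol])
      have r3 : p d ≠ p c := p.injective.ne q3
      have r4 : p d ≠ c := fun h => q4 (by rw [← h, hp.invol])
      rw [Sym2.map_mk, Perm.mul_apply, Perm.mul_apply, swap_apply_of_ne_of_ne q2 q4,
        swap_apply_of_ne_of_ne q1 q3, swap_apply_of_ne_of_ne r1 r3, swap_apply_of_ne_of_ne r2 r4,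
        swap_apply_of_ne_of_ne]
      · exact fun h => by
          have := congrArg Subtype.val h
          rw [Sym2.eq_iff] at this
          rcases this with ⟨h, -⟩ | ⟨h, -⟩
          exacts [q1 h, q2 h]
      · exact fun h => by
          have := congrArg Subtype.val h
          rw [Sym2.eq_iff] at this
          rcases this with ⟨h, -⟩ | ⟨h, -⟩
          exacts [q3 h, q4 h]

theorem card_pairs_lt {p : Perm α} (hp : IsPairing p) [Nonempty α] :
    Fintype.card (Pairs p) < Fintype.card α := by
  choose f hf using fun s : Pairs p => s.2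
  have hinj : Function.Injective f := fun s t h => Subtype.ext (by rw [← (hf s).2, ← (hf t).2, h])
  rcases isEmpty_or_nonempty (Pairs p) with he | ⟨⟨s⟩⟩
  · rw [Fintype.card_eq_zero]; exact Fintype.card_pos
  · refine Fintype.card_lt_of_injective_of_notMem f hinj (b := p (f s)) ?_
    rintro ⟨t, ht⟩
    have hts : t = s := Subtype.ext (by
      rw [← (hf s).2, ← (hf t).2, ht, hp.invol]; exact Sym2.eq_swap)
    rw [hts] at ht
    exact (hf s).1 ht.symm

theorem pairKernel_le_sylow {p : Perm α} (hp : IsPairing p) (T : Sylow 2 (Perm α))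
    (hTC : (T : Subgroup (Perm α)) ≤ pairStab p) :
    pairKernel p hp.invol ≤ (T : Subgroup (Perm α)) := by
  have hn : (T : Subgroup (Perm α)) ≤ Subgroup.normalizer (pairKernel p hp.invol : Set (Perm α)) :=
    fun x hx => Subgroup.mem_normalizer_fintype fun k hk => conj_mem_pairKernel (hTC hx) hk
  have h := T.3 (T.2.to_sup_of_normal_right' (isPGroup_pairKernel p hp.invol) hn) le_sup_left
  exact le_sup_right.trans h.le

/-- If `g` commutes with the pairing and its image normalizes the image of a Sylow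
2-subgroup `T`, and that image is self-normalizing, then `g ∈ T`. -/
theorem mem_of_pairHom {p : Perm α} (hp : IsPairing p) (T : Sylow 2 (Perm α))
    (hTC : (T : Subgroup (Perm α)) ≤ pairStab p) (g : pairStab p)
    (hself : ∀ (U : Sylow 2 (Perm (Pairs p))),
      ∀ y ∈ Subgroup.normalizer ((U : Subgroup (Perm (Pairs p))) : Set (Perm (Pairs p))),
      y ∈ (U : Subgroup (Perm (Pairs p))))
    (hg : ∀ x : pairStab p, x.1 ∈ (T : Subgroup (Perm α)) → ∃ x' : pairStab p,
      x'.1 ∈ (T : Subgroup (Perm α)) ∧ pairHom p x' = pairHom p g * pairHom p x * (pairHom p g)⁻¹) :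
    g.1 ∈ (T : Subgroup (Perm α)) := by
  let U := (T.subtype hTC).mapSurjective (pairHom_surjective hp)
  have hU : ∀ y, y ∈ (U : Subgroup _) ↔ ∃ x : pairStab p, x.1 ∈ (T : Subgroup (Perm α)) ∧
      pairHom p x = y := fun y => Iff.rfl
  have := hself U (pairHom p g) (Subgroup.mem_normalizer_fintype fun y hy => by
    obtain ⟨x, hx, rfl⟩ := (hU y).mp hy
    exact (hU _).mpr (hg x hx))
  obtain ⟨x, hx, hxg⟩ := (hU _).mp this
  have hk : pairHom p (x⁻¹ * g) = 1 := by rw [map_mul, map_inv, hxg, inv_mul_cancel]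
  have := pairKernel_le_sylow hp T hTC (pairHom_eq_one hp hk)
  simpa using (T : Subgroup (Perm α)).mul_mem hx this

/-- A Sylow 2-subgroup of a finite symmetric group is self-normalizing. -/
theorem normalizer_sylow_perm_le : ∀ (m : ℕ) {α : Type u} [Fintype α] [DecidableEq α],
    Fintype.card α = m → ∀ T : Sylow 2 (Perm α),
      ∀ g ∈ Subgroup.normalizer ((T : Subgroup (Perm α)) : Set (Perm α)),
        g ∈ (T : Subgroup (Perm α)) := by
  intro m
  induction m using Nat.strong_induction_on with
  | _ m ih =>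
    intro α _ _ hm T g hg
    rcases isEmpty_or_nonempty α with he | hne
    · rw [Subsingleton.elim g 1]; exact one_mem _
    obtain ⟨p, hp, hmem⟩ := exists_pairing_mem T
    have hgn : ∀ x ∈ (T : Subgroup (Perm α)), g * x * g⁻¹ ∈ (T : Subgroup (Perm α)) :=
      fun x hx => (Subgroup.mem_normalizer_iff.mp hg x).mp hx
    have hTC : (T : Subgroup (Perm α)) ≤ pairStab p := fun x hx a =>
      comm_of_normalizes T.2 hp hmem
        (fun y hy => mul_mem (mul_mem hx hy) (inv_mem hx)) a
    refine mem_of_pairHom hp T hTC ⟨g, fun a => comm_of_normalizes T.2 hp hmem hgn a⟩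
      (fun U y hy => ih _ (hm ▸ card_pairs_lt hp) rfl U y hy) (fun x hx => ?_)
    exact ⟨⟨g, fun a => comm_of_normalizes T.2 hp hmem hgn a⟩ * x *
      ⟨g, fun a => comm_of_normalizes T.2 hp hmem hgn a⟩⁻¹, hgn x.1 hx, by
        rw [map_mul, map_mul, map_inv]⟩

theorem normalizer_sylow_perm (T : Sylow 2 (Perm α)) :
    Subgroup.normalizer ((T : Subgroup (Perm α)) : Set (Perm α)) = (T : Subgroup (Perm α)) :=
  le_antisymm (fun g hg => normalizer_sylow_perm_le _ rfl T g hg) Subgroup.le_normalizer

theorem exists_distinct_moved {p : Perm α} (hp : IsPairing p) (hn : 6 ≤ Fintype.card α) (a : α) :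
    ∃ c e : α, p c ≠ c ∧ p e ≠ e ∧ c ≠ a ∧ c ≠ p a ∧ e ≠ a ∧ e ≠ p a ∧ e ≠ c ∧ e ≠ p c := by
  classical
  have hfix : (Finset.univ.filter fun x => p x = x).card ≤ 1 := Finset.card_le_one.mpr
    (fun x hx y hy => hp.fixed x y (Finset.mem_filter.mp hx).2 (Finset.mem_filter.mp hy).2)
  set F := Finset.univ.filter fun x => p x = x
  obtain ⟨c, -, hc⟩ : ∃ c ∈ (Finset.univ : Finset α), c ∉ insert a (insert (p a) F) :=
    Finset.exists_mem_notMem_of_card_lt_card (by
      have := Finset.card_insert_le a (insert (p a) F)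
      have := Finset.card_insert_le (p a) F
      rw [Finset.card_univ]; omega)
  obtain ⟨e, -, he⟩ : ∃ e ∈ (Finset.univ : Finset α),
      e ∉ insert c (insert (p c) (insert a (insert (p a) F))) :=
    Finset.exists_mem_notMem_of_card_lt_card (by
      have := Finset.card_insert_le c (insert (p c) (insert a (insert (p a) F)))
      have := Finset.card_insert_le (p c) (insert a (insert (p a) F))
      have := Finset.card_insert_le a (insert (p a) F)
      have := Finset.card_insert_le (p a) F
      rw [Finset.card_univ]; omega)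
  simp only [Finset.mem_insert, F, Finset.mem_filter, Finset.mem_univ, true_and, not_or] at hc he
  exact ⟨c, e, hc.2.2, he.2.2.2.2, hc.1, hc.2.1, he.2.2.1, he.2.2.2.1, he.1, he.2.1⟩

theorem sign_swap_mul_swap {a b c d : α} (hab : a ≠ b) (hcd : c ≠ d) :
    Perm.sign (swap a b * swap c d) = 1 := by
  rw [map_mul, Perm.sign_swap hab, Perm.sign_swap hcd]; rfl

/-- In degree at least six, a permutation normalizing the even part of a 2-group commutes with
its pairing. -/
theorem comm_of_normalizes_even {T : Subgroup (Perm α)} {p : Perm α} (hp : IsPairing p)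
    (hmem : ∀ a, swap a (p a) ∈ T) (hTC : T ≤ pairStab p) (hn : 6 ≤ Fintype.card α) {g : Perm α}
    (hg : ∀ x ∈ T, Perm.sign x = 1 → g * x * g⁻¹ ∈ T) (a : α) : p (g a) = g (p a) := by
  have moved : ∀ b, p b ≠ b → p (g b) = g (p b) := by
    intro b hb
    obtain ⟨c, e, hc, he, hcb, hcb', heb, heb', hec, hec'⟩ := exists_distinct_moved hp hn b
    have key : ∀ c, p c ≠ c → c ≠ b → c ≠ p b →
        p (g b) = g (p b) ∨ p (g b) = g c ∨ p (g b) = g (p c) := by
      intro c hc hcb hcb'
      have hpcb : p c ≠ b := fun h => hcb' (by rw [← h, hp.invol])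
      have hx := hg _ (T.mul_mem (hmem b) (hmem c)) (sign_swap_mul_swap (Ne.symm hb) (Ne.symm hc))
      rw [show g * (swap b (p b) * swap c (p c)) * g⁻¹ =
          (g * swap b (p b) * g⁻¹) * (g * swap c (p c) * g⁻¹) by group,
        ← Equiv.swap_apply_apply, ← Equiv.swap_apply_apply] at hx
      have h := hTC hx (g b)
      have hxb : (swap (g b) (g (p b)) * swap (g c) (g (p c))) (g b) = g (p b) := by
        rw [Perm.mul_apply, swap_apply_of_ne_of_ne (g.injective.ne hcb.symm)
          (g.injective.ne hpcb.symm), swap_apply_left]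
      rw [hxb] at h
      by_contra hcon
      push Not at hcon
      obtain ⟨q1, q2, q3⟩ := hcon
      by_cases q0 : p (g b) = g b
      · rw [q0, hxb] at h
        exact hb (g.injective (hp.fixed _ _ h q0))
      · rw [Perm.mul_apply, swap_apply_of_ne_of_ne q2 q3, swap_apply_of_ne_of_ne q0 q1] at h
        exact hb (g.injective (p.injective h))
    rcases key c hc hcb hcb' with h | h1
    · exact h
    rcases key e he heb heb' with h | h2
    · exact h
    exfalso
    have e1 : e ≠ c := hec
    have e2 : e ≠ p c := hec'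
    have e3 : p e ≠ c := fun h => hec' (by rw [← h, hp.invol])
    have e4 : p e ≠ p c := p.injective.ne hec
    rcases h1 with h1 | h1 <;> rcases h2 with h2 | h2 <;>
      have := g.injective (h1.symm.trans h2)
    exacts [e1 this.symm, e3 this.symm, e2 this.symm, e4 this.symm]
  by_cases ha : p a = a
  · rw [ha]
    by_contra hne
    obtain ⟨c, hc⟩ := g.surjective (p (g a))
    have hca : c ≠ a := fun h => hne (by rw [← hc, h])
    have h1 := moved c (fun h => hca (hp.fixed _ _ h ha))
    rw [hc, hp.invol] at h1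
    exact hca ((hp.invol c).symm.trans (by rw [← g.injective h1, ha]))
  · exact moved a ha

/-- A Sylow 2-subgroup of an alternating group is the even part of one of the symmetric group. -/
theorem exists_sylow_perm (S : Sylow 2 (alternatingGroup α)) :
    ∃ T : Sylow 2 (Perm α), ∀ x : alternatingGroup α,
      x ∈ (S : Subgroup (alternatingGroup α)) ↔ x.1 ∈ (T : Subgroup (Perm α)) := by
  obtain ⟨T, hT⟩ := (S.2.map (alternatingGroup α).subtype).exists_le_sylow
  have h := S.3 (T.2.comap_subtype (K := alternatingGroup α))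
    (fun x hx => hT ⟨x, hx, rfl⟩)
  exact ⟨T, fun x => by rw [← h]; rfl⟩

/-- In degree at least six a Sylow 2-subgroup of the alternating group is self-normalizing. -/
theorem normalizer_sylow_alternating (hn : 6 ≤ Fintype.card α)
    (S : Sylow 2 (alternatingGroup α)) :
    Subgroup.normalizer ((S : Subgroup (alternatingGroup α)) : Set (alternatingGroup α)) =
      (S : Subgroup (alternatingGroup α)) := by
  refine le_antisymm (fun g hg => ?_) Subgroup.le_normalizer
  obtain ⟨T, hT⟩ := exists_sylow_perm S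
  obtain ⟨p, hp, hmem⟩ := exists_pairing_mem T
  have hTC : (T : Subgroup (Perm α)) ≤ pairStab p := fun x hx a =>
    comm_of_normalizes T.2 hp hmem (fun y hy => mul_mem (mul_mem hx hy) (inv_mem hx)) a
  have hg' : ∀ x ∈ (T : Subgroup (Perm α)), Perm.sign x = 1 →
      g.1 * x * g.1⁻¹ ∈ (T : Subgroup (Perm α)) := fun x hx hs =>
    (hT _).mp ((Subgroup.mem_normalizer_iff.mp hg ⟨x, hs⟩).mp ((hT ⟨x, hs⟩).mpr hx))
  rw [hT]
  let G : pairStab p := ⟨g.1, fun a => comm_of_normalizes_even hp hmem hTC hn hg' a⟩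
  refine mem_of_pairHom hp T hTC G
    (fun U y hy => normalizer_sylow_perm_le _ rfl U y hy) (fun x hx => ?_)
  rcases Int.units_eq_one_or (Perm.sign x.1) with hs | hs
  · exact ⟨G * x * G⁻¹, hg' x.1 hx hs, by rw [map_mul, map_mul, map_inv]⟩
  · obtain ⟨a⟩ : Nonempty α := Fintype.card_pos_iff.mp (by omega)
    obtain ⟨c, -, hc, -⟩ := exists_distinct_moved hp hn a
    obtain ⟨hw, hw1⟩ := pairHom_swap hp c
    have hs' : Perm.sign (x.1 * swap c (p c)) = 1 := by
      rw [map_mul, hs, Perm.sign_swap (Ne.symm hc)]; rfl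
    refine ⟨G * (x * ⟨_, hw⟩) * G⁻¹, hg' _ (mul_mem hx (hmem c)) hs', ?_⟩
    rw [map_mul, map_mul, map_inv, map_mul, hw1, mul_one]

end CfsgLib.SymSylow
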