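/-
Three primes between `n` and `2 n` for large `n`, after Erdős's proof of Bertrand's postulate.
-/
import Mathlib

set_option autoImplicit false

namespace CfsgLib.ThreePrimes

open Nat Finset

/-- The primes in `(n, 2 n]`. -/
def upperPrimes (n : ℕ) : Finset ℕ := (Finset.Ioc n (2 * n)).filter Nat.Prime

theorem eight_mul_le_two_pow : ∀ k, 6 ≤ k → 8 * k + 8 ≤ 2 ^ k := by
  intro k hk
  induction k, hk using Nat.le_induction with
  | base => norm_num
  | succ k hk ih => rw [pow_succ]; omega

theorem main_inequality {n : ℕ} (hn : 1152 ≤ n) :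
    n * (2 * n) ^ sqrt (2 * n) * 4 ^ (2 * n / 3) * (2 * n) ^ 2 ≤ 4 ^ n := by
  set s := sqrt (2 * n) with hs
  have hs48 : 48 ≤ s := by
    rw [hs, Nat.le_sqrt]; omega
  have hss : s * s ≤ 2 * n := Nat.sqrt_le _
  set k := s / 8 with hk
  have hb : 2 * n ≤ 2 ^ (2 * k) := by
    have h1 : 2 * n ≤ (s + 1) * (s + 1) := (Nat.lt_succ_sqrt (2 * n)).le
    have h2 : s + 1 ≤ 2 ^ k := le_trans (by omega) (eight_mul_le_two_pow k (by omega))
    rw [two_mul k, pow_add]
    exact h1.trans (Nat.mul_le_mul h2 h2)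
  have he : 2 * k * (s + 3) ≤ 2 * (n - 2 * n / 3) := by
    have h1 : 8 * k * (s + 3) ≤ s * (s + 3) := Nat.mul_le_mul_right _ (by omega)
    have h2 : 48 * s ≤ s * s := Nat.mul_le_mul_right s hs48
    have h3 : s * (s + 3) = s * s + 3 * s := by ring
    have h4 : 8 * k * (s + 3) = 4 * (2 * k * (s + 3)) := by ring
    omega
  calc n * (2 * n) ^ s * 4 ^ (2 * n / 3) * (2 * n) ^ 2
      ≤ (2 * n) * (2 * n) ^ s * 4 ^ (2 * n / 3) * (2 * n) ^ 2 := by gcongr; omega
    _ = (2 * n) ^ (s + 3) * 4 ^ (2 * n / 3) := by ring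
    _ ≤ (2 ^ (2 * k)) ^ (s + 3) * 4 ^ (2 * n / 3) := by gcongr
    _ = 2 ^ (2 * k * (s + 3)) * 4 ^ (2 * n / 3) := by rw [← pow_mul]
    _ ≤ 2 ^ (2 * (n - 2 * n / 3)) * 4 ^ (2 * n / 3) :=
        Nat.mul_le_mul_right _ (Nat.pow_le_pow_right (by norm_num) he)
    _ = 4 ^ n := by
        rw [pow_mul, show (2 : ℕ) ^ 2 = 4 by norm_num, ← pow_add, Nat.sub_add_cancel (by omega)]

theorem centralBinom_le (n : ℕ) (hn : 2 < n) :
    centralBinom n ≤ (2 * n) ^ sqrt (2 * n) * 4 ^ (2 * n / 3) * (2 * n) ^ (upperPrimes n).card := by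
  set f : ℕ → ℕ := fun x => x ^ n.centralBinom.factorization x with hf
  set U := upperPrimes n with hU
  set S := {p ∈ Finset.range (2 * n / 3 + 1) | Nat.Prime p} with hS
  have hdisj : Disjoint S U := Finset.disjoint_left.mpr fun x h1 h2 => by
    simp only [hS, hU, upperPrimes, Finset.mem_filter, Finset.mem_range, Finset.mem_Ioc] at h1 h2
    omega
  have hprod : centralBinom n = (∏ x ∈ S, f x) * ∏ x ∈ U, f x := by
    rw [← Finset.prod_union hdisj]
    refine (Eq.trans ?_ n.prod_pow_factorization_centralBinom).symm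
    apply Finset.prod_subset
    · intro x hx
      simp only [Finset.mem_union, hS, hU, upperPrimes, Finset.mem_filter, Finset.mem_range, Finset.mem_Ioc] at hx ⊢
      omega
    intro x hx h2x
    by_cases hxp : x.Prime
    · have h3 : ¬ x < 2 * n / 3 + 1 ∧ ¬ (n < x ∧ x ≤ 2 * n) := by
        simp only [Finset.mem_union, hS, hU, upperPrimes, Finset.mem_filter, Finset.mem_range, Finset.mem_Ioc, hxp,
          and_true, not_or] at h2x
        exact h2x
      rw [Finset.mem_range] at hx
      rw [hf]; dsimp only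
      rw [Nat.factorization_centralBinom_of_two_mul_self_lt_three_mul hn (by omega) (by omega), pow_zero]
    · rw [hf]; dsimp only
      rw [Nat.factorization_eq_zero_of_not_prime n.centralBinom hxp, pow_zero]
  have n2_pos : 1 ≤ 2 * n := by omega
  have hpow : ∀ p, f p ≤ 2 * n := fun p => Nat.pow_factorization_choose_le (by omega)
  rw [hprod]
  refine Nat.mul_le_mul ?_ ((Finset.prod_le_prod' fun p _ => hpow p).trans (by rw [Finset.prod_const]))
  rw [← Finset.prod_filter_mul_prod_filter_not S (· ≤ sqrt (2 * n))]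
  apply Nat.mul_le_mul
  · refine (Finset.prod_le_prod' fun p _ => hpow p).trans ?_
    rw [Finset.prod_const]
    refine pow_right_mono₀ n2_pos ?_
    refine (Finset.card_le_card (t := Finset.Icc 1 (sqrt (2 * n))) fun x hx => ?_).trans (by simp)
    simp only [hS, Finset.mem_filter] at hx
    exact Finset.mem_Icc.mpr ⟨hx.1.2.one_lt.le, hx.2⟩
  · refine le_trans ?_ (primorial_le_four_pow (2 * n / 3))
    refine (Finset.prod_le_prod' fun p hp => (?_ : f p ≤ p)).trans ?_
    · obtain ⟨h1, h2⟩ := Finset.mem_filter.1 hp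
      refine (pow_right_mono₀ (Finset.mem_filter.1 h1).2.one_lt.le ?_).trans (pow_one p).le
      exact Nat.factorization_choose_le_one (Nat.sqrt_lt'.mp <| not_le.1 h2)
    refine Finset.prod_le_prod_of_subset_of_one_le' (Finset.filter_subset _ _) ?_
    exact fun p hp _ => (Finset.mem_filter.1 hp).2.one_lt.le

/-- For `n ≥ 1152` there are at least three primes in `(n, 2 n]`. -/
theorem three_le_card (n : ℕ) (hn : 1152 ≤ n) : 3 ≤ (upperPrimes n).card := by
  by_contra h
  have h1 := Nat.four_pow_lt_mul_centralBinom n (by omega)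
  have h2 := centralBinom_le n (by omega)
  have h3 : (2 * n) ^ (upperPrimes n).card ≤ (2 * n) ^ 2 := Nat.pow_le_pow_right (by omega) (by omega)
  have h4 := main_inequality hn
  have h5 : n * centralBinom n ≤ n * (2 * n) ^ sqrt (2 * n) * 4 ^ (2 * n / 3) * (2 * n) ^ 2 := by
    rw [mul_assoc n, mul_assoc n]
    exact Nat.mul_le_mul_left n (h2.trans (Nat.mul_le_mul_left _ h3))
  omega

/-- Two primes in the upper half of `[1, m]` that are suitable for generating alternating groups. -/
theorem exists_pair (m : ℕ) (hm : 5 ≤ m) :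
    ∃ p q : ℕ, p.Prime ∧ q.Prime ∧ m ≤ 2 * p ∧ p < q ∧ q ≤ m ∧
      ((p + 4 ≤ q ∧ (m < 2 * p ∨ q + 3 ≤ 2 * p)) ∨ (p = 3 ∧ q = 5) ∨ (p = 5 ∧ q = 7) ∨
        (p = 11 ∧ q = 13 ∧ m < 22)) := by
  by_cases hbig : 2304 ≤ m
  · have h3 := three_le_card (m / 2) (by omega)
    have hne : (upperPrimes (m / 2)).Nonempty := Finset.card_pos.mp (by omega)
    set U := upperPrimes (m / 2) with hU
    have hmem : ∀ x ∈ U, x.Prime ∧ m / 2 < x ∧ x ≤ m := fun x hx => by
      simp only [hU, upperPrimes, Finset.mem_filter, Finset.mem_Ioc] at hx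
      exact ⟨hx.2, hx.1.1, by omega⟩
    set p := U.min' hne
    set q := U.max' hne
    obtain ⟨r, hr, hrp, hrq⟩ : ∃ r ∈ U, r ≠ p ∧ r ≠ q := by
      obtain ⟨r, hr, hr'⟩ := Finset.exists_mem_notMem_of_card_lt_card (s := ({p, q} : Finset ℕ)) (t := U)
        (lt_of_le_of_lt Finset.card_le_two (by omega))
      simp only [Finset.mem_insert, Finset.mem_singleton, not_or] at hr'
      exact ⟨r, hr, hr'⟩
    have h1 : p ≤ r := U.min'_le r hr
    have h2 : r ≤ q := U.le_max' r hr
    obtain ⟨hpP, hpl, hpu⟩ := hmem p (U.min'_mem hne)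
    obtain ⟨hqP, hql, hqu⟩ := hmem q (U.max'_mem hne)
    obtain ⟨hrP, -, -⟩ := hmem r hr
    obtain ⟨a, ha⟩ := hpP.odd_of_ne_two (by omega)
    obtain ⟨b, hb⟩ := hrP.odd_of_ne_two (by omega)
    obtain ⟨c, hc⟩ := hqP.odd_of_ne_two (by omega)
    exact ⟨p, q, hpP, hqP, by omega, by omega, hqu, Or.inl ⟨by omega, Or.inl (by omega)⟩⟩
  · rcases le_or_gt m 6 with h | h
    · exact ⟨3, 5, by norm_num, by norm_num, by omega, by omega, by omega, by omega⟩
    rcases le_or_gt m 10 with h | h
    · exact ⟨5, 7, by norm_num, by norm_num, by omega, by omega, by omega, by omega⟩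
    rcases le_or_gt m 14 with h | h
    · exact ⟨7, 11, by norm_num, by norm_num, by omega, by omega, by omega, by omega⟩
    rcases le_or_gt m 16 with h | h
    · exact ⟨11, 13, by norm_num, by norm_num, by omega, by omega, by omega, by omega⟩
    rcases le_or_gt m 26 with h | h
    · exact ⟨13, 17, by norm_num, by norm_num, by omega, by omega, by omega, by omega⟩
    rcases le_or_gt m 38 with h | h
    · exact ⟨19, 23, by norm_num, by norm_num, by omega, by omega, by omega, by omega⟩
    rcases le_or_gt m 62 with h | h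
    · exact ⟨31, 37, by norm_num, by norm_num, by omega, by omega, by omega, by omega⟩
    rcases le_or_gt m 106 with h | h
    · exact ⟨53, 61, by norm_num, by norm_num, by omega, by omega, by omega, by omega⟩
    rcases le_or_gt m 206 with h | h
    · exact ⟨103, 107, by norm_num, by norm_num, by omega, by omega, by omega, by omega⟩
    rcases le_or_gt m 386 with h | h
    · exact ⟨193, 199, by norm_num, by norm_num, by omega, by omega, by omega, by omega⟩
    rcases le_or_gt m 758 with h | h
    · exact ⟨379, 383, by norm_num, by norm_num, by omega, by omega, by omega, by omega⟩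
    rcases le_or_gt m 1502 with h | h
    · exact ⟨751, 757, by norm_num, by norm_num, by omega, by omega, by omega, by omega⟩
    exact ⟨1493, 1499, by norm_num, by norm_num, by omega, by omega, by omega, by omega⟩

end CfsgLib.ThreePrimes
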