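import Mathlib
import Cfsg.Agent.Lib.ThreePrimes

/-! Non-adjacent primes in the prime graph of an alternating group. -/

namespace CfsgLib.AltSpectrum

/-- For `n ≥ 11` there are two primes in `(n/2, n]`. -/
theorem exists_two_primes (n : ℕ) (hn : 11 ≤ n) :
    ∃ p q : ℕ, p.Prime ∧ q.Prime ∧ p < q ∧ n < 2 * p ∧ q ≤ n := by
  by_cases hbig : 2304 ≤ n
  · have h3 := CfsgLib.ThreePrimes.three_le_card (n / 2) (by omega)
    obtain ⟨a, ha, b, hb, hab⟩ := Finset.one_lt_card.1 (by omega : 1 < (CfsgLib.ThreePrimes.upperPrimes (n / 2)).card)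
    simp only [CfsgLib.ThreePrimes.upperPrimes, Finset.mem_filter, Finset.mem_Ioc] at ha hb
    rcases lt_or_gt_of_ne hab with h | h
    · exact ⟨a, b, ha.2, hb.2, h, by omega, by omega⟩
    · exact ⟨b, a, hb.2, ha.2, h, by omega, by omega⟩
  · rcases le_or_gt n 13 with h | h
    · exact ⟨7, 11, by norm_num, by norm_num, by omega, by omega, by omega⟩
    rcases le_or_gt n 21 with h | h
    · exact ⟨11, 13, by norm_num, by norm_num, by omega, by omega, by omega⟩
    rcases le_or_gt n 33 with h | h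
    · exact ⟨17, 19, by norm_num, by norm_num, by omega, by omega, by omega⟩
    rcases le_or_gt n 57 with h | h
    · exact ⟨29, 31, by norm_num, by norm_num, by omega, by omega, by omega⟩
    rcases le_or_gt n 93 with h | h
    · exact ⟨47, 53, by norm_num, by norm_num, by omega, by omega, by omega⟩
    rcases le_or_gt n 165 with h | h
    · exact ⟨83, 89, by norm_num, by norm_num, by omega, by omega, by omega⟩
    rcases le_or_gt n 313 with h | h
    · exact ⟨157, 163, by norm_num, by norm_num, by omega, by omega, by omega⟩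
    rcases le_or_gt n 613 with h | h
    · exact ⟨307, 311, by norm_num, by norm_num, by omega, by omega, by omega⟩
    rcases le_or_gt n 1213 with h | h
    · exact ⟨607, 613, by norm_num, by norm_num, by omega, by omega, by omega⟩
    exact ⟨1201, 1213, by norm_num, by norm_num, by omega, by omega, by omega⟩

/-- No permutation of `n` points has order `p q` if `n < p + q`. -/
theorem perm_no_pq {n p q : ℕ} (hp : p.Prime) (hq : q.Prime) (hpq : p ≠ q) (h : n < p + q)
    (g : Equiv.Perm (Fin n)) : orderOf g ≠ p * q := by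
  intro hg
  have hsum : g.cycleType.sum ≤ n := by
    rw [Equiv.Perm.sum_cycleType]
    exact (Finset.card_le_univ _).trans (by rw [Fintype.card_fin])
  have key : ∀ {a b : ℕ}, a.Prime → b.Prime → a ≠ b → orderOf g = a * b → ∃ c ∈ g.cycleType, a ∣ c := by
    intro a b ha hb hab hgo
    by_contra hno
    simp only [not_exists, not_and] at hno
    have hd : g.cycleType.lcm ∣ b := Multiset.lcm_dvd.2 fun c hc => by
      have hc' : c ∣ a * b := hgo ▸ Equiv.Perm.dvd_of_mem_cycleType hc
      exact (Nat.Coprime.dvd_of_dvd_mul_left ((ha.coprime_iff_not_dvd.2 (hno c hc)).symm) hc')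
    rw [Equiv.Perm.lcm_cycleType, hgo] at hd
    have := Nat.le_of_dvd hb.pos hd
    have := ha.two_le
    have := hb.pos
    nlinarith
  obtain ⟨c, hc, hpc⟩ := key hp hq hpq hg
  obtain ⟨d, hd, hqd⟩ := key hq hp (Ne.symm hpq) (by rw [hg, mul_comm])
  have hc0 : 0 < c := by have := Equiv.Perm.two_le_of_mem_cycleType hc; omega
  have hd0 : 0 < d := by have := Equiv.Perm.two_le_of_mem_cycleType hd; omega
  have h2 : p ≤ c := Nat.le_of_dvd hc0 hpc
  have h3 : q ≤ d := Nat.le_of_dvd hd0 hqd
  rcases eq_or_ne c d with rfl | hcd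
  · have h4 : p * q ≤ c := Nat.le_of_dvd hc0 (((Nat.coprime_primes hp hq).2 hpq).mul_dvd_of_dvd_of_dvd hpc hqd)
    have h5 : c ≤ g.cycleType.sum := Multiset.le_sum_of_mem hc
    have := hp.two_le; have := hq.two_le
    nlinarith
  · obtain ⟨t, ht⟩ := Multiset.exists_cons_of_mem hc
    have hdt : d ∈ t := by
      rw [ht, Multiset.mem_cons] at hd
      exact hd.resolve_left (Ne.symm hcd)
    have h5 : d ≤ t.sum := Multiset.le_sum_of_mem hdt
    rw [ht, Multiset.sum_cons] at hsum
    omega

/-- The spectrum of `G` omits `p q` as soon as it equals that of the alternating group and `n < p + q`. -/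
theorem no_pq {G : Type*} [Group G] {n p q : ℕ}
    (hspec : Set.range (orderOf : G → ℕ) = Set.range (orderOf : ↥(alternatingGroup (Fin n)) → ℕ))
    (hp : p.Prime) (hq : q.Prime) (hpq : p ≠ q) (h : n < p + q) (g : G) : orderOf g ≠ p * q := by
  intro hg
  have : p * q ∈ Set.range (orderOf : ↥(alternatingGroup (Fin n)) → ℕ) := hspec ▸ ⟨g, hg⟩
  obtain ⟨σ, hσ⟩ := this
  exact perm_no_pq hp hq hpq h σ.1 (by rw [Subgroup.orderOf_coe, hσ])

theorem two_mul_card_alt {n : ℕ} (hn : 2 ≤ n) : 2 * Nat.card (alternatingGroup (Fin n)) = n.factorial := by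
  haveI : Nontrivial (Fin n) := Fin.nontrivial_iff_two_le.2 hn
  rw [Nat.card_eq_fintype_card, two_mul_card_alternatingGroup, Fintype.card_perm, Fintype.card_fin]

/-- A prime in `(n/2, n]` divides `|A_n|` exactly once. -/
theorem dvd_once {n p : ℕ} (hn : 5 ≤ n) (hp : p.Prime) (h2 : n < 2 * p) (hpn : p ≤ n) :
    p ∣ Nat.card (alternatingGroup (Fin n)) ∧ ¬ p * p ∣ Nat.card (alternatingGroup (Fin n)) := by
  have hc := two_mul_card_alt (n := n) (by omega)
  have hp2 : ¬ p ∣ 2 := fun h => by have := Nat.le_of_dvd (by norm_num) h; omega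
  refine ⟨(hp.dvd_mul.1 (hc ▸ hp.dvd_factorial.2 hpn)).resolve_left hp2, fun h => ?_⟩
  haveI := Fact.mk hp
  have h1 : p ^ 2 ∣ n.factorial := by rw [pow_two, ← hc]; exact h.mul_left _
  have h3 : padicValNat p n.factorial = n / p := by
    rw [padicValNat_factorial (b := 2) (by
      have : n < p ^ 2 := by have := hp.two_le; nlinarith
      exact Nat.log_lt_of_lt_pow (by omega) this)]
    simp
  have h4 : n / p = 1 := Nat.div_eq_of_lt_le (by omega) (by omega)
  have h5 := (padicValNat_dvd_iff_le (Nat.factorial_ne_zero n)).1 h1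
  omega

/-- Lifting an element of order `m` from a quotient. -/
theorem lift_order {G H : Type*} [Group G] [Finite G] [Group H] (f : G →* H) (hf : Function.Surjective f) (y : H) :
    ∃ x : G, orderOf x = orderOf y := by
  obtain ⟨g, rfl⟩ := hf y
  exact ⟨g ^ (orderOf g / orderOf (f g)), orderOf_pow_orderOf_div (orderOf_pos g).ne' (orderOf_map_dvd f g)⟩

/-- An element of order `q` normalising a subgroup of order `p` commutes with it if `q ∤ p - 1`. -/
theorem pq_of_normalizer {G : Type*} [Group G] [Finite G] {p q : ℕ} (hp : p.Prime) (hq : q.Prime) (hpq : p ≠ q)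
    (hndvd : ¬ q ∣ p - 1) (P : Subgroup G) (hP : Nat.card P = p) (y : G) (hy : orderOf y = q)
    (hyN : y ∈ Subgroup.normalizer (P : Set G)) : ∃ x : G, orderOf x = p * q := by
  haveI := Fact.mk hp
  haveI : IsCyclic P := isCyclic_of_prime_card hP
  set Nn := Subgroup.normalizer (P : Set G)
  let P' : Subgroup Nn := P.subgroupOf Nn
  have hP' : Nat.card P' = p := by
    rw [Nat.card_congr (Subgroup.subgroupOfEquivOfLe Subgroup.le_normalizer).toEquiv, hP]
  haveI : P'.Normal := Subgroup.normal_subgroupOf_iff_le_normalizer Subgroup.le_normalizer |>.2 le_rfl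
  haveI : IsCyclic P' := isCyclic_of_prime_card hP'
  let c : Nn →* MulAut P' := MulAut.conjNormal
  have h1 : orderOf (c ⟨y, hyN⟩) ∣ Nat.card (MulAut P') := orderOf_dvd_natCard _
  rw [IsCyclic.card_mulAut, hP', Nat.totient_prime hp] at h1
  have h2 : orderOf (c ⟨y, hyN⟩) ∣ q := by
    refine dvd_trans (orderOf_map_dvd c _) (dvd_of_eq ?_)
    rw [Subgroup.orderOf_mk, hy]
  have h3 : c ⟨y, hyN⟩ = 1 := by
    rw [← orderOf_eq_one_iff]
    rcases (Nat.dvd_prime hq).1 h2 with h | h
    · exact h
    · exact absurd (h ▸ h1) hndvd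
  obtain ⟨x, hx⟩ := exists_prime_orderOf_dvd_card' (G := P) p (dvd_of_eq hP.symm)
  have hcm : Commute y (x : G) := by
    have h4 := congrArg (fun e : MulAut P' => (((e ⟨⟨x, Subgroup.le_normalizer x.2⟩, x.2⟩ : P') : Nn) : G)) h3
    simp only [c, MulAut.conjNormal_apply, MulAut.one_apply] at h4
    exact mul_inv_eq_iff_eq_mul.1 h4
  refine ⟨(x : G) * y, ?_⟩
  rw [hcm.symm.orderOf_mul_eq_mul_orderOf_of_coprime, orderOf_submonoid, hx, hy]
  rw [orderOf_submonoid, hx, hy]
  exact (Nat.coprime_primes hp hq).2 hpq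

end CfsgLib.AltSpectrum
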