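import Mathlib

/-!
Subgroups of `GL₂(ℤ/2ᵏ)` isomorphic to the alternating group of degree four.
-/

set_option autoImplicit false

namespace CfsgLib.AltFourGL

open Matrix

variable {k : ℕ}

local notation "R" => ZMod (2 ^ k)

/-- Reduction modulo two. -/
def red (hk : 2 ≤ k) : R →+* ZMod 2 := ZMod.castHom (dvd_pow_self 2 (by omega)) (ZMod 2)

theorem zmod_two_cases : ∀ i : ZMod 2, i = 0 ∨ i = 1 := by decide

theorem red_cases (hk : 2 ≤ k) (x : R) :
    (red hk x = 1 ∧ ∃ m : R, x = 2 * m + 1) ∨ (red hk x = 0 ∧ ∃ m : R, x = 2 * m) := by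
  haveI : NeZero (2 ^ k) := ⟨by positivity⟩
  obtain ⟨j, hj⟩ : ∃ j : ℕ, (j : R) = x := ⟨x.val, ZMod.natCast_zmod_val x⟩
  rcases Nat.even_or_odd j with ⟨m, hm⟩ | ⟨m, hm⟩
  · refine Or.inr ⟨?_, (m : R), by rw [← hj, hm]; push_cast; ring⟩
    rw [← hj, map_natCast, hm, Nat.cast_add, CharTwo.add_self_eq_zero]
  · refine Or.inl ⟨?_, (m : R), by rw [← hj, hm]; push_cast; ring⟩
    rw [← hj, map_natCast, hm]
    push_cast
    rw [show (2 : ZMod 2) = 0 from rfl, zero_mul, zero_add]

theorem odd_of_red (hk : 2 ≤ k) {x : R} (h : red hk x = 1) : ∃ m : R, x = 2 * m + 1 := by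
  rcases red_cases hk x with ⟨-, h'⟩ | ⟨h', -⟩
  · exact h'
  · rw [h] at h'; exact absurd h' one_ne_zero

theorem isUnit_of_red (hk : 2 ≤ k) {x : R} (h : red hk x = 1) : IsUnit x := by
  obtain ⟨m, rfl⟩ := odd_of_red hk h
  refine IsNilpotent.isUnit_add_one ⟨k, ?_⟩
  rw [mul_pow]
  have : ((2 : ℕ) : R) ^ k = 0 := by rw [← Nat.cast_pow]; exact ZMod.natCast_self _
  push_cast at this
  rw [this, zero_mul]

theorem two_mul_eq_zero (hk : 2 ≤ k) {x : R} (h : 2 * x = 0) :
    x = 0 ∨ x = ((2 ^ (k - 1) : ℕ) : R) := by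
  haveI : NeZero (2 ^ k) := ⟨by positivity⟩
  obtain ⟨j, hj, rfl⟩ : ∃ j : ℕ, j < 2 ^ k ∧ (j : R) = x := ⟨x.val, x.val_lt, ZMod.natCast_zmod_val x⟩
  have h1 : ((2 * j : ℕ) : R) = 0 := by push_cast; exact h
  rw [ZMod.natCast_eq_zero_iff] at h1
  have hpk : 2 ^ k = 2 * 2 ^ (k - 1) := by rw [← pow_succ']; congr 1; omega
  rw [hpk] at h1 hj
  obtain ⟨c, hc⟩ := Nat.dvd_of_mul_dvd_mul_left two_pos h1
  have hpos : 0 < 2 ^ (k - 1) := by positivity
  rcases c with _ | _ | c
  · left; rw [hc]; simp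
  · right; rw [hc, zero_add, mul_one]
  · exfalso
    rw [hc] at hj
    nlinarith

theorem half_mul_half (hk : 2 ≤ k) {x y : R} (hx : 2 * x = 0) (hy : 2 * y = 0) : x * y = 0 := by
  rcases two_mul_eq_zero hk hx with rfl | rfl
  · exact zero_mul y
  rcases two_mul_eq_zero hk hy with rfl | rfl
  · exact mul_zero _
  rw [← Nat.cast_mul, ZMod.natCast_eq_zero_iff, ← pow_add]
  exact pow_dvd_pow 2 (by omega)

theorem half_absorb (hk : 2 ≤ k) {a p : R} (ha : red hk a = 1) (hp : 2 * p = 0) : a * p = p := by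
  obtain ⟨m, rfl⟩ := odd_of_red hk ha
  linear_combination m * hp

theorem two_facts : ∀ M : Matrix (Fin 2) (Fin 2) (ZMod 2),
    (M * M = 1 → M * (!![0, 1; 1, 1] * M * !![1, 1; 1, 0]) * (!![1, 1; 1, 0] * M * !![0, 1; 1, 1]) = 1 → M = 1) ∧
      (M * M * M = 1 → M ≠ 1 → M 1 0 = 1 ∧ det (M - 1) = 1) := by
  decide

/-- The standard element of order three. -/
def C : Matrix (Fin 2) (Fin 2) R := !![0, -1; 1, -1]

/-- Its square. -/
def C2 : Matrix (Fin 2) (Fin 2) R := !![-1, 1; -1, 0]

/-- A congruence involution. -/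
def mat (p q : R) : Matrix (Fin 2) (Fin 2) R := !![1 + p + q, p; q, 1 + p + q]

theorem C_mul_C : (C : Matrix (Fin 2) (Fin 2) R) * C = C2 := by
  rw [C, C2, Matrix.mul_fin_two]
  ext i j; fin_cases i <;> fin_cases j <;> simp

theorem C_mul_C2 : (C : Matrix (Fin 2) (Fin 2) R) * C2 = 1 := by
  rw [C, C2, Matrix.mul_fin_two, Matrix.one_fin_two]
  ext i j; fin_cases i <;> fin_cases j <;> simp

theorem C2_mul_C : (C2 : Matrix (Fin 2) (Fin 2) R) * C = 1 := by
  rw [C, C2, Matrix.mul_fin_two, Matrix.one_fin_two]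
  ext i j; fin_cases i <;> fin_cases j <;> simp

theorem conj_half {a p q : R} (hp : 2 * p = 0) (hq : 2 * q = 0) :
    C * !![a, p; q, a] * C2 = !![a + q, q; p + q, a + q] := by
  rw [C, C2, Matrix.mul_fin_two, Matrix.mul_fin_two]
  ext i j
  fin_cases i <;> fin_cases j <;> simp
  all_goals (first | linear_combination (0 : R) * hp | linear_combination hq | linear_combination -hq |
    linear_combination hp | linear_combination -hp | linear_combination hp + hq | linear_combination -hp - hq |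
    linear_combination hp - hq | linear_combination hq - hp)

theorem conj_mat {p q : R} (hp : 2 * p = 0) (hq : 2 * q = 0) : C * mat p q * C2 = mat q (p + q) := by
  rw [mat, conj_half hp hq, mat]
  ext i j; fin_cases i <;> fin_cases j <;> simp <;> ring

/-- An involution with trivial norm along `C` is a congruence involution. -/
theorem classify (hk : 2 ≤ k) (e : Matrix (Fin 2) (Fin 2) R) (he : e * e = 1) (he1 : e ≠ 1)
    (hN : e * (C * e * C2) * (C2 * e * C) = 1) :
    ∃ p q : R, 2 * p = 0 ∧ 2 * q = 0 ∧ ¬ (p = 0 ∧ q = 0) ∧ e = mat p q := by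
  set M : Matrix (Fin 2) (Fin 2) (ZMod 2) := (red hk).mapMatrix e with hM
  have hC : (red hk).mapMatrix (C : Matrix (Fin 2) (Fin 2) R) = !![0, 1; 1, 1] := by
    ext i j; fin_cases i <;> fin_cases j <;> simp [C] <;> rfl
  have hC2 : (red hk).mapMatrix (C2 : Matrix (Fin 2) (Fin 2) R) = !![1, 1; 1, 0] := by
    ext i j; fin_cases i <;> fin_cases j <;> simp [C2] <;> rfl
  have hM1 : M = 1 := by
    refine (two_facts M).1 ?_ ?_
    · rw [hM, ← map_mul, he, map_one]
    · have := congrArg (red hk).mapMatrix hN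
      rwa [map_mul, map_mul, map_mul, map_mul, map_mul, map_mul, map_one, hC, hC2] at this
  have hred : ∀ i j, red hk (e i j) = (1 : Matrix (Fin 2) (Fin 2) (ZMod 2)) i j := fun i j => by
    rw [← hM1]; rfl
  set a := e 0 0 with ha
  set p := e 0 1 with hp
  set q := e 1 0 with hq
  set d := e 1 1 with hd
  have hee : e = !![a, p; q, d] := Matrix.eta_fin_two e
  have hdet : det e = 1 := by
    have h2 := congrArg det he
    rw [det_mul, det_one] at h2
    have h3 := congrArg det hN
    have hdC : det (C : Matrix (Fin 2) (Fin 2) R) * det (C2 : Matrix (Fin 2) (Fin 2) R) = 1 := by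
      rw [← det_mul, C_mul_C2, det_one]
    simp only [det_mul, det_one] at h3
    linear_combination h3 - det e ^ 3 * ((det (C : Matrix (Fin 2) (Fin 2) R) * det (C2 : Matrix (Fin 2) (Fin 2) R) + 1) * hdC) - det e * h2
  rw [hee, Matrix.det_fin_two_of] at hdet
  have he' := he
  rw [hee, Matrix.mul_fin_two, Matrix.one_fin_two] at he'
  have e00 : a * a + p * q = 1 := by simpa using congrFun (congrFun he' 0) 0
  have e01 : a * p + p * d = 0 := by simpa using congrFun (congrFun he' 0) 1
  have e10 : q * a + d * q = 0 := by simpa using congrFun (congrFun he' 1) 0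
  have hta : a * (a + d) = 2 := by linear_combination e00 + hdet
  have hp2 : 2 * p = 0 := by linear_combination a * e01 - p * hta
  have hq2 : 2 * q = 0 := by linear_combination a * e10 - q * hta
  have hpq : p * q = 0 := half_mul_half hk hp2 hq2
  have haa : a * a = 1 := by linear_combination e00 - hpq
  have hda : d = a := by linear_combination a * hdet - d * haa + a * hpq
  have ra : red hk a = 1 := by rw [ha, hred]; rfl
  have rap : red hk (a + q) = 1 := by
    rw [map_add, ra, hq, hred, Matrix.one_apply_ne (by decide : (1 : Fin 2) ≠ 0), add_zero]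
  have hee' : e = !![a, p; q, a] := by rw [hee, hda]
  have hpq2 : 2 * (p + q) = 0 := by linear_combination hp2 + hq2
  have hc1 : C * e * C2 = !![a + q, q; p + q, a + q] := by rw [hee']; exact conj_half hp2 hq2
  have hc2 : C2 * e * C = !![a + p, p + q; p, a + p] := by
    have h : C2 * e * C = C * (C * e * C2) * C2 := by
      have hC22 : (C2 : Matrix (Fin 2) (Fin 2) R) * C2 = C := by
        rw [C, C2, Matrix.mul_fin_two]
        ext i j; fin_cases i <;> fin_cases j <;> simp
      calc C2 * e * C = C * C * e * (C2 * C2) := by rw [C_mul_C, hC22]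
        _ = _ := by simp only [mul_assoc]
    rw [h, hc1, conj_half hq2 hpq2]
    ext i j; fin_cases i <;> fin_cases j <;> simp
    all_goals (first | linear_combination (0 : R) * hp2 | linear_combination hq2 | linear_combination -hq2)
  have h1 := congrFun (congrFun hN 0) 0
  rw [hc1, hc2, hee', Matrix.mul_fin_two, Matrix.mul_fin_two] at h1
  simp at h1
  have hA : a = 1 + p + q := by
    have hpp := half_mul_half hk hp2 hp2
    linear_combination h1 - (a + p + q) * haa - hp2 - hq2 - (3 * a + 2 * p) * hpq - (2 * a + p) * hpp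
  refine ⟨p, q, hp2, hq2, ?_, ?_⟩
  · rintro ⟨rfl', rfl''⟩
    refine he1 ?_
    rw [hee', hA, rfl', rfl'', add_zero, add_zero, Matrix.one_fin_two]
  · rw [hee', hA]; rfl

theorem orbit (hk : 2 ≤ k) {p q p' q' : R} (hp : 2 * p = 0) (hq : 2 * q = 0) (hp' : 2 * p' = 0) (hq' : 2 * q' = 0)
    (h : ¬ (p = 0 ∧ q = 0)) (h' : ¬ (p' = 0 ∧ q' = 0)) :
    mat p' q' = mat p q ∨ mat p' q' = C * mat p q * C2 ∨ mat p' q' = C * (C * mat p q * C2) * C2 := by
  rw [conj_mat hp hq, conj_mat hq (by linear_combination hp + hq)]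
  rcases two_mul_eq_zero hk hp with rfl | rfl <;> rcases two_mul_eq_zero hk hq with rfl | rfl <;>
    rcases two_mul_eq_zero hk hp' with rfl | rfl <;> rcases two_mul_eq_zero hk hq' with rfl | rfl <;>
      simp_all [← two_mul]

/-- Generators of the alternating group of degree four. -/
theorem alt_four : ∃ d e : alternatingGroup (Fin 4), d * d * d = 1 ∧ d ≠ 1 ∧ e * e = 1 ∧
    e ≠ 1 ∧ e * (d * e * (d * d)) * (d * d * e * d) = 1 ∧ Subgroup.closure {e, d} = ⊤ := by
  let d : alternatingGroup (Fin 4) :=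
    ⟨Equiv.swap 0 1 * Equiv.swap 1 2, Equiv.Perm.mem_alternatingGroup.mpr (by decide +kernel)⟩
  let e : alternatingGroup (Fin 4) :=
    ⟨Equiv.swap 0 1 * Equiv.swap 2 3, Equiv.Perm.mem_alternatingGroup.mpr (by decide +kernel)⟩
  refine ⟨d, e, by decide +kernel, by decide +kernel, by decide +kernel, by decide +kernel, by decide +kernel, ?_⟩
  have hall : ∀ x : alternatingGroup (Fin 4), x = 1 ∨ x = e ∨ x = d * e * (d * d) ∨ x = d * d * e * d ∨
      x = d ∨ x = e * d ∨ x = d * e * (d * d) * d ∨ x = d * d * e * d * d ∨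
      x = d * d ∨ x = e * (d * d) ∨ x = d * e * (d * d) * (d * d) ∨ x = d * d * e * d * (d * d) := by decide +kernel
  refine top_le_iff.mp fun x _ => ?_
  have me : e ∈ Subgroup.closure ({e, d} : Set (alternatingGroup (Fin 4))) :=
    Subgroup.subset_closure (Set.mem_insert e _)
  have md : d ∈ Subgroup.closure ({e, d} : Set (alternatingGroup (Fin 4))) :=
    Subgroup.subset_closure (Set.mem_insert_of_mem _ rfl)
  have m2 := mul_mem md md
  have m3 := mul_mem (mul_mem md me) m2
  have m4 := mul_mem (mul_mem (mul_mem md md) me) md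
  rcases hall x with h | h | h | h | h | h | h | h | h | h | h | h <;> rw [h]
  exacts [one_mem _, me, m3, m4, md, mul_mem me md, mul_mem m3 md, mul_mem m4 md, m2, mul_mem me m2,
    mul_mem m3 m2, mul_mem m4 m2]

end CfsgLib.AltFourGL
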