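import Mathlib
import Cfsg.Prelude.Def_Amalgam
import Cfsg.Agent.Lib.Local

/-!
Elementary facts on the coset graph of a pair of subgroups.
-/

set_option autoImplicit false
set_option linter.unusedVariables false

namespace CfsgLib.AmalgamBasic

open Cfsg

variable {X : Type*} [Group X] {M₁ M₂ : Subgroup X}

theorem mem_stab_inl {x g : X} :
    g ∈ MulAction.stabilizer X (Sum.inl (x : X ⧸ M₁) : CosetVertex M₁ M₂) ↔ x⁻¹ * g * x ∈ M₁ := by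
  rw [MulAction.mem_stabilizer_iff, Sum.smul_inl, Sum.inl.injEq, MulAction.Quotient.smul_coe, QuotientGroup.eq,
    ← Subgroup.inv_mem_iff (x := x⁻¹ * g * x)]
  simp [mul_assoc]

theorem mem_stab_inr {x g : X} :
    g ∈ MulAction.stabilizer X (Sum.inr (x : X ⧸ M₂) : CosetVertex M₁ M₂) ↔ x⁻¹ * g * x ∈ M₂ := by
  rw [MulAction.mem_stabilizer_iff, Sum.smul_inr, Sum.inr.injEq, MulAction.Quotient.smul_coe, QuotientGroup.eq,
    ← Subgroup.inv_mem_iff (x := x⁻¹ * g * x)]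
  simp [mul_assoc]

theorem adj_iff {δ μ : CosetVertex M₁ M₂} :
    (cosetGraph M₁ M₂).Adj δ μ ↔ ∃ x : X, (δ = Sum.inl (x : X ⧸ M₁) ∧ μ = Sum.inr (x : X ⧸ M₂)) ∨
      (μ = Sum.inl (x : X ⧸ M₁) ∧ δ = Sum.inr (x : X ⧸ M₂)) := by
  rw [cosetGraph, SimpleGraph.fromRel_adj]
  constructor
  · rintro ⟨-, ⟨x, h⟩ | ⟨x, h⟩⟩
    · exact ⟨x, Or.inl h⟩
    · exact ⟨x, Or.inr h⟩
  · rintro ⟨x, ⟨rfl, rfl⟩ | ⟨rfl, rfl⟩⟩
    · exact ⟨Sum.inl_ne_inr, Or.inl ⟨x, rfl, rfl⟩⟩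
    · exact ⟨Sum.inr_ne_inl, Or.inr ⟨x, rfl, rfl⟩⟩

theorem adj_smul {δ μ : CosetVertex M₁ M₂} (h : (cosetGraph M₁ M₂).Adj δ μ) (g : X) :
    (cosetGraph M₁ M₂).Adj (g • δ) (g • μ) := by
  obtain ⟨x, ⟨rfl, rfl⟩ | ⟨rfl, rfl⟩⟩ := adj_iff.mp h
  · exact adj_iff.mpr ⟨g * x, Or.inl ⟨rfl, rfl⟩⟩
  · exact adj_iff.mpr ⟨g * x, Or.inr ⟨rfl, rfl⟩⟩

theorem stab_sup_eq_top (h : M₁ ⊔ M₂ = ⊤) {δ μ : CosetVertex M₁ M₂} (hadj : (cosetGraph M₁ M₂).Adj δ μ) :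
    MulAction.stabilizer X δ ⊔ MulAction.stabilizer X μ = ⊤ := by
  have key : ∀ x : X, MulAction.stabilizer X (Sum.inl (x : X ⧸ M₁) : CosetVertex M₁ M₂) ⊔
      MulAction.stabilizer X (Sum.inr (x : X ⧸ M₂) : CosetVertex M₁ M₂) = ⊤ := by
    intro x
    refine top_le_iff.mp ?_
    rw [← Subgroup.map_top_of_surjective (MulAut.conj x).toMonoidHom (MulEquiv.surjective (MulAut.conj x)), ← h,
      Subgroup.map_sup]
    refine sup_le_sup ?_ ?_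
    · rintro _ ⟨m, hm, rfl⟩
      exact mem_stab_inl.mpr (by simpa [mul_assoc] using hm)
    · rintro _ ⟨m, hm, rfl⟩
      exact mem_stab_inr.mpr (by simpa [mul_assoc] using hm)
  obtain ⟨x, ⟨rfl, rfl⟩ | ⟨rfl, rfl⟩⟩ := adj_iff.mp hadj
  · exact key x
  · rw [sup_comm]; exact key x

/-- A subgroup fixing all translates of an edge is trivial. -/
theorem eq_bot_of_fixes (h : IsAmalgamPair M₁ M₂) {δ μ : CosetVertex M₁ M₂} (hadj : (cosetGraph M₁ M₂).Adj δ μ)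
    {T : Subgroup X} (hT : ∀ g : X, T ≤ MulAction.stabilizer X (g • δ) ∧ T ≤ MulAction.stabilizer X (g • μ)) : T = ⊥ := by
  have key : ∀ x : X, (∀ g : X, T ≤ MulAction.stabilizer X (Sum.inl ((g * x : X) : X ⧸ M₁) : CosetVertex M₁ M₂) ∧
      T ≤ MulAction.stabilizer X (Sum.inr ((g * x : X) : X ⧸ M₂) : CosetVertex M₁ M₂)) → T = ⊥ := by
    intro x hx
    have hN : Subgroup.normalClosure (T : Set X) ≤ M₁ ⊓ M₂ := by
      rw [Subgroup.normalClosure, Subgroup.closure_le]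
      intro y hy
      obtain ⟨t, ht, hc⟩ := Group.mem_conjugatesOfSet_iff.mp hy
      obtain ⟨c, rfl⟩ := isConj_iff.mp hc
      obtain ⟨h1, h2⟩ := hx (c⁻¹ * x⁻¹)
      rw [inv_mul_cancel_right] at h1 h2
      exact ⟨by simpa [mul_assoc] using mem_stab_inl.mp (h1 ht), by simpa [mul_assoc] using mem_stab_inr.mp (h2 ht)⟩
    exact le_bot_iff.mp (Subgroup.le_normalClosure.trans (h.2.2.2 _ hN Subgroup.normalClosure_normal).le)
  obtain ⟨x, ⟨rfl, rfl⟩ | ⟨rfl, rfl⟩⟩ := adj_iff.mp hadj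
  · exact key x hT
  · exact key x fun g => (hT g).symm

end CfsgLib.AmalgamBasic
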