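import Cfsg.Agent.Lib.Basic
import Cfsg.Agent.Lib.CoprimeSeries

/-! Groups of characteristic `p`: `C(O_p) ≤ O_p`. -/

set_option autoImplicit false

namespace CfsgLib.CharP

open CfsgLib CfsgLib.Stabilizer
open scoped commutatorElement

variable {G : Type*} [Group G]

theorem eq_one_of_mem_pGroup {p : ℕ} {P : Subgroup G} (hP : IsPGroup p P) {x : G} (hx : x ∈ P)
    (hcop : (orderOf x).Coprime p) : x = 1 := by
  obtain ⟨k, hk⟩ := hP ⟨x, hx⟩
  exact orderOf_eq_one_iff.1 (Nat.Coprime.eq_one_of_dvd (hcop.pow_right k)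
    (orderOf_dvd_of_pow_eq_one (congrArg Subtype.val hk)))

theorem normalizer_le_normalizer_centralizer (Q : Subgroup G) :
    Subgroup.normalizer (Q : Set G) ≤
      Subgroup.normalizer (Subgroup.centralizer (Q : Set G) : Set G) := by
  refine Subgroup.le_normalizer_iff.2 fun n hn c hc q hq => ?_
  have h1 := hc _ ((Subgroup.mem_normalizer_iff.1 ((Subgroup.normalizer _).inv_mem hn) q).1 hq)
  rw [inv_inv] at h1
  calc q * (n * c * n⁻¹) = n * (n⁻¹ * q * n * c) * n⁻¹ := by group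
    _ = n * c * n⁻¹ * q := by rw [h1]; group

/-- An element of order prime to `p` centralizing `O_p(G)` is trivial when `C(O_p) ≤ O_p`. -/
theorem eq_one_of_centralizes_pCore [Finite G] {p : ℕ}
    (hG : Subgroup.centralizer (Cfsg.pCore p G : Set G) ≤ Cfsg.pCore p G) {x : G}
    (hcop : (orderOf x).Coprime p) (h : ∀ r ∈ Cfsg.pCore p G, x * r = r * x) : x = 1 :=
  eq_one_of_mem_pGroup (isPGroup_pCore p) (hG fun r hr => (h r hr).symm) hcop

/-- If `O_p(G)` normalizes `L` then `L` inherits characteristic `p`. -/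
theorem charP_of_pCore_le_normalizer [Finite G] {p : ℕ} [Fact p.Prime]
    (hG : Subgroup.centralizer (Cfsg.pCore p G : Set G) ≤ Cfsg.pCore p G) (L : Subgroup G)
    (hL : Cfsg.pCore p G ≤ Subgroup.normalizer (L : Set G)) :
    Subgroup.centralizer (Cfsg.pCore p ↥L : Set ↥L) ≤ Cfsg.pCore p ↥L := by
  set Q := Cfsg.pCore p G
  set C := Subgroup.centralizer (Cfsg.pCore p ↥L : Set ↥L)
  have hinf : (Q.subgroupOf L) ≤ Cfsg.pCore p ↥L :=
    le_pCore ((isPGroup_pCore (G := G) p).comap_of_injective L.subtype L.subtype_injective)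
  refine le_pCore (isPGroup_of_coprime_trivial C fun x hxC hx => ?_)
  refine Subtype.ext (eq_one_of_centralizes_pCore hG (by rwa [Subgroup.orderOf_coe]) fun r hr => ?_)
  have hc : (x : G) * r * (x : G)⁻¹ * r⁻¹ ∈ Q :=
    Q.mul_mem ((inferInstance : Q.Normal).conj_mem r hr x) (Q.inv_mem hr)
  have hcL : (x : G) * r * (x : G)⁻¹ * r⁻¹ ∈ L := by
    have h2 := (Subgroup.mem_normalizer_iff.1 (hL hr) (x : G)⁻¹).1 (L.inv_mem x.2)
    simpa [mul_assoc] using L.mul_mem x.2 h2
  have hcx := hxC ⟨_, hcL⟩ (hinf (Subgroup.mem_subgroupOf.2 hc))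
  obtain ⟨k, hk⟩ := isPGroup_pCore (G := G) p ⟨_, hc⟩
  have := coprime_step (x := (x : G)) (r := r) (c := (x : G) * r * (x : G)⁻¹ * r⁻¹)
    (p := p) (by rwa [Subgroup.orderOf_coe]) ⟨k, congrArg Subtype.val hk⟩ (by group)
    (congrArg Subtype.val hcx).symm
  rw [mul_inv_eq_one] at this
  exact mul_inv_eq_iff_eq_mul.1 this

/-- In a group of characteristic `p`, a normal self-centralizing (in `T`) subgroup of a Sylow
`p`-subgroup `T` is self-centralizing. -/
theorem centralizer_le_of_sylow [Finite G] {p : ℕ} [Fact p.Prime]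
    (hG : Subgroup.centralizer (Cfsg.pCore p G : Set G) ≤ Cfsg.pCore p G) (T : Sylow p G)
    (Q : Subgroup G) (hQT : Q ≤ (T : Subgroup G))
    (hQn : (T : Subgroup G) ≤ Subgroup.normalizer (Q : Set G))
    (hC : (T : Subgroup G) ⊓ Subgroup.centralizer (Q : Set G) ≤ Q) :
    Subgroup.centralizer (Q : Set G) ≤ Q := by
  set C := Subgroup.centralizer (Q : Set G) with hCdef
  have hCp : IsPGroup p C := by
    refine isPGroup_of_coprime_trivial C fun x hxC hx => eq_one_of_centralizes_pCore hG hx ?_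
    refine thompson_axb (isPGroup_pCore p)
      (T.2.of_injective (Subgroup.inclusion hQT) (Subgroup.inclusion_injective _))
      (fun q _ => by simp [Subgroup.normalizer_eq_top]) hx (by simp [Subgroup.normalizer_eq_top])
      (fun q hq => (hxC q hq).symm) fun r hr => ?_
    exact (hxC r (hC ⟨pCore_le_sylow T hr.1, hr.2⟩)).symm
  have hTC : (T : Subgroup G) ≤ Subgroup.normalizer (C : Set G) :=
    hQn.trans (normalizer_le_normalizer_centralizer Q)
  have hsup : (T : Subgroup G) ⊔ C = T :=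
    T.3 (T.2.to_sup_of_normal_right' hCp hTC) le_sup_left
  exact fun x hx => hC ⟨hsup ▸ Subgroup.mem_sup_right hx, hx⟩

/-- Characteristic `p` is invariant under isomorphism. -/
theorem charP_congr {H : Type*} [Group H] {p : ℕ} (e : G ≃* H)
    (hG : Subgroup.centralizer (Cfsg.pCore p G : Set G) ≤ Cfsg.pCore p G) :
    Subgroup.centralizer (Cfsg.pCore p H : Set H) ≤ Cfsg.pCore p H := by
  intro y hy
  rw [← pCore_map_equiv p e] at hy ⊢
  refine ⟨e.symm y, hG fun r hr => ?_, by simp⟩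
  have := congrArg e.symm (hy (e r) ⟨r, hr, rfl⟩)
  simpa using this

/-- In a group of characteristic `p`, a subgroup containing a normal self-centralizing (in `T`)
subgroup of a Sylow `p`-subgroup `T` has characteristic `p`. -/
theorem charP_of_sylow_le [Finite G] {p : ℕ} [Fact p.Prime]
    (hG : Subgroup.centralizer (Cfsg.pCore p G : Set G) ≤ Cfsg.pCore p G) (T : Sylow p G)
    (Q : Subgroup G) (hQT : Q ≤ (T : Subgroup G))
    (hQn : (T : Subgroup G) ≤ Subgroup.normalizer (Q : Set G))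
    (hC : (T : Subgroup G) ⊓ Subgroup.centralizer (Q : Set G) ≤ Q) (L : Subgroup G) (hQL : Q ≤ L) :
    Subgroup.centralizer (Cfsg.pCore p ↥L : Set ↥L) ≤ Cfsg.pCore p ↥L := by
  set R := Cfsg.pCore p G
  set C := Subgroup.centralizer (Cfsg.pCore p ↥L : Set ↥L)
  have hR : ∀ (g : G), ∀ r ∈ R, g * r * g⁻¹ ∈ R := fun g r hr =>
    (inferInstance : R.Normal).conj_mem r hr g
  let D : Subgroup ↥L :=
    { carrier := {a | ∀ r ∈ R, (a : G) * r * (a : G)⁻¹ * r⁻¹ ∈ L}
      one_mem' := fun r _ => by simp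
      mul_mem' := fun {a b} ha hb r hr => by
        have := L.mul_mem (L.mul_mem (L.mul_mem a.2 (hb r hr)) (L.inv_mem a.2)) (ha r hr)
        simpa [mul_assoc] using this
      inv_mem' := fun {a} ha r hr => by
        have := L.inv_mem (ha _ (hR (a : G)⁻¹ r hr))
        simpa [mul_assoc] using this }
  haveI : D.Normal := ⟨fun a ha g r hr => by
    have := L.mul_mem (L.mul_mem g.2 (ha _ (hR (g : G)⁻¹ r hr))) (L.inv_mem g.2)
    simpa [mul_assoc] using this⟩
  have hQD : ∀ q : ↥L, (q : G) ∈ Q → q ∈ D := fun q hq r hr => by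
    have h2 := (Subgroup.mem_normalizer_iff.1 (hQn (pCore_le_sylow T hr)) (q : G)⁻¹).1 (Q.inv_mem hq)
    exact hQL (by simpa [mul_assoc] using Q.mul_mem hq h2)
  have hRL : R.subgroupOf L ≤ Cfsg.pCore p ↥L :=
    le_pCore ((isPGroup_pCore (G := G) p).comap_of_injective L.subtype L.subtype_injective)
  have hCD : C ⊓ D ≤ Cfsg.pCore p ↥L := by
    refine le_pCore (isPGroup_of_coprime_trivial _ fun x hx hcop => ?_)
    refine Subtype.ext (eq_one_of_centralizes_pCore hG (by rwa [Subgroup.orderOf_coe]) fun r hr => ?_)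
    have hc : (x : G) * r * (x : G)⁻¹ * r⁻¹ ∈ R := R.mul_mem (hR _ r hr) (R.inv_mem hr)
    have hcx := hx.1 ⟨_, hx.2 r hr⟩ (hRL (Subgroup.mem_subgroupOf.2 hc))
    obtain ⟨k, hk⟩ := isPGroup_pCore (G := G) p ⟨_, hc⟩
    have := coprime_step (x := (x : G)) (r := r) (c := (x : G) * r * (x : G)⁻¹ * r⁻¹)
      (p := p) (by rwa [Subgroup.orderOf_coe]) ⟨k, congrArg Subtype.val hk⟩ (by group)
      (congrArg Subtype.val hcx).symm
    rw [mul_inv_eq_one] at this
    exact mul_inv_eq_iff_eq_mul.1 this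
  refine le_pCore (isPGroup_of_coprime_trivial C fun x hxC hcop => ?_)
  have hxQ : (x : G) ∈ Subgroup.centralizer (Q : Set G) := by
    intro q hq
    set q' : ↥L := ⟨q, hQL hq⟩
    have hc : x * q' * x⁻¹ * q'⁻¹ ∈ C ⊓ D := ⟨by
      have := C.mul_mem hxC ((inferInstance : C.Normal).conj_mem _ (C.inv_mem hxC) q')
      simpa [mul_assoc] using this,
      D.mul_mem ((inferInstance : D.Normal).conj_mem _ (hQD q' hq) x) (D.inv_mem (hQD q' hq))⟩
    obtain ⟨k, hk⟩ := isPGroup_pCore (G := ↥L) p ⟨_, hCD hc⟩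
    have := coprime_step (x := x) (r := q') (c := x * q' * x⁻¹ * q'⁻¹)
      (p := p) hcop ⟨k, congrArg Subtype.val hk⟩ (by group) (hxC _ (hCD hc)).symm
    rw [mul_inv_eq_one] at this
    exact (congrArg Subtype.val (mul_inv_eq_iff_eq_mul.1 this)).symm
  refine Subtype.ext (eq_one_of_mem_pGroup (T.2.of_injective (Subgroup.inclusion hQT)
    (Subgroup.inclusion_injective _)) (centralizer_le_of_sylow hG T Q hQT hQn hC hxQ) ?_)
  rwa [Subgroup.orderOf_coe]

end CfsgLib.CharP
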