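import Mathlib
import Cfsg.Prelude.Def_LocalStructure
import Cfsg.Agent.Lib.Basic
import Cfsg.Agent.Lib.Local
import Cfsg.Agent.Lib.CharP
import Cfsg.Agent.Lib.PResidual
import Cfsg.Agent.Lib.PComplement
import Cfsg.Agent.Lib.SylowExtra
import Cfsg.Agent.Lib.Components
import Cfsg.Agent.Lib.Coprime
import Cfsg.Agent.Lib.AbelianTrace

/-!
`p`-reduced normal subgroups: criterion, the largest one, residuals on abelian normal `p`-subgroups.
-/

set_option autoImplicit false
set_option linter.unusedVariables false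

namespace CfsgLib.PReduced

open Cfsg CfsgLib
open scoped commutatorElement

variable {L : Type*} [Group L]

theorem centralizer_normal (V : Subgroup L) [V.Normal] : (Subgroup.centralizer (V : Set L)).Normal :=
  Subgroup.normalizer_eq_top_iff.mp (top_le_iff.mp
    ((Subgroup.normalizer_eq_top (H := V)).ge.trans (CharP.normalizer_le_normalizer_centralizer V)))

theorem mem_comm {p : ℕ} {V : Subgroup L} (hV : IsElementaryAbelian p V) {a b : L} (ha : a ∈ V) (hb : b ∈ V) :
    a * b = b * a :=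
  congrArg Subtype.val (hV.1.is_comm.comm (⟨a, ha⟩ : ↥V) ⟨b, hb⟩)

theorem isPGroup_of_elem {p : ℕ} {V : Subgroup L} (hV : IsElementaryAbelian p V) : IsPGroup p ↥V :=
  fun v => ⟨1, Subtype.ext (by rw [pow_one]; exact hV.2 v v.2)⟩

theorem mem_omegaOne {p : ℕ} {A : Subgroup L} (hA : ∀ a ∈ A, ∀ b ∈ A, a * b = b * a) {x : L} :
    x ∈ omegaOne p A ↔ x ∈ A ∧ x ^ p = 1 := by
  refine ⟨fun hx => ?_, fun hx => Subgroup.subset_closure hx⟩
  let W : Subgroup L :=
    { carrier := {x | x ∈ A ∧ x ^ p = 1}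
      one_mem' := ⟨A.one_mem, one_pow p⟩
      mul_mem' := fun {a b} ha hb => ⟨A.mul_mem ha.1 hb.1, by
        rw [Commute.mul_pow (hA a ha.1 b hb.1), ha.2, hb.2, one_mul]⟩
      inv_mem' := fun {a} ha => ⟨A.inv_mem ha.1, by rw [inv_pow, ha.2, inv_one]⟩ }
  exact (show omegaOne p A ≤ W from (Subgroup.closure_le W).mpr fun y hy => hy) hx

theorem center_comm {T : Subgroup L} {a b : L} (ha : a ∈ T ⊓ Subgroup.centralizer (T : Set L))
    (hb : b ∈ T ⊓ Subgroup.centralizer (T : Set L)) : a * b = b * a :=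
  Subgroup.mem_centralizer_iff.mp hb.2 a ha.1

theorem mem_omegaZ {p : ℕ} {T : Subgroup L} {x : L} :
    x ∈ omegaOne p (T ⊓ Subgroup.centralizer (T : Set L)) ↔
      x ∈ T ∧ (∀ t ∈ T, t * x = x * t) ∧ x ^ p = 1 := by
  rw [mem_omegaOne fun a ha b hb => center_comm ha hb, Subgroup.mem_inf, Subgroup.mem_centralizer_iff, and_assoc]
  rfl

/-- `Ω₁(Z(T))` is elementary abelian. -/
theorem omegaZ_elem {p : ℕ} {T : Subgroup L} :
    IsElementaryAbelian p (omegaOne p (T ⊓ Subgroup.centralizer (T : Set L))) :=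
  ⟨⟨⟨fun a b => Subtype.ext ((mem_omegaZ.mp b.2).2.1 a (mem_omegaZ.mp a.2).1)⟩⟩,
    fun v hv => (mem_omegaZ.mp hv).2.2⟩

/-- `p`-reduced: no normal subgroup acts on `V` as a nontrivial `p`-group. -/
theorem iff_forall {p : ℕ} {V : Subgroup L} :
    IsPReducedNormal p V ↔ V.Normal ∧ IsElementaryAbelian p V ∧ ∀ K : Subgroup L, K.Normal →
      (∀ k ∈ K, ∃ n : ℕ, k ^ p ^ n ∈ Subgroup.centralizer (V : Set L)) → K ≤ Subgroup.centralizer (V : Set L) := by
  constructor
  · rintro ⟨hn, he, hC, h0⟩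
    refine ⟨hn, he, fun K hK hKp k hk => ?_⟩
    haveI := hC
    haveI := hK.map (QuotientGroup.mk' (Subgroup.centralizer (V : Set L))) (QuotientGroup.mk'_surjective _)
    have hp : IsPGroup p ↥(K.map (QuotientGroup.mk' (Subgroup.centralizer (V : Set L)))) := by
      rintro ⟨_, a, ha, rfl⟩
      obtain ⟨n, hn⟩ := hKp a ha
      exact ⟨n, Subtype.ext ((map_pow (QuotientGroup.mk' (Subgroup.centralizer (V : Set L))) a _).symm.trans
        ((QuotientGroup.eq_one_iff _).mpr hn))⟩
    have h1 := le_pCore hp (Subgroup.mem_map_of_mem _ hk)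
    rw [h0, Subgroup.mem_bot] at h1
    exact (QuotientGroup.eq_one_iff k).mp h1
  · rintro ⟨hn, he, h⟩
    haveI := hn
    haveI hC := centralizer_normal V
    refine ⟨hn, he, hC, (Subgroup.eq_bot_iff_forall _).mpr fun x hx => ?_⟩
    refine Subgroup.mem_bot.mp ((sSup_le fun N hN => ?_ : pCore p (L ⧸ Subgroup.centralizer (V : Set L)) ≤ ⊥) hx)
    intro y hy
    obtain ⟨a, rfl⟩ := QuotientGroup.mk'_surjective _ y
    haveI := hN.1
    refine Subgroup.mem_bot.mpr ((QuotientGroup.eq_one_iff a).mpr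
      (h (N.comap (QuotientGroup.mk' _)) inferInstance (fun k hk => ?_) hy))
    obtain ⟨n, hn⟩ := hN.2 ⟨_, hk⟩
    exact ⟨n, (QuotientGroup.eq_one_iff _).mp ((map_pow (QuotientGroup.mk' _) k _).trans (congrArg Subtype.val hn))⟩

variable [Finite L] {p : ℕ} [Fact p.Prime]

/-- A subgroup acting as a `p`-group modulo a normal `C` lies in `P C` for its Sylow subgroup `P`. -/
theorem le_sylow_sup (K C : Subgroup L) [C.Normal] (P : Sylow p ↥K) (h : ∀ k ∈ K, ∃ n : ℕ, k ^ p ^ n ∈ C) :
    K ≤ (P : Subgroup ↥K).map K.subtype ⊔ C := by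
  have h1 : Cfsg.pResidual p ↥K ≤ C.subgroupOf K :=
    PResidual.pResidual_le_of_pow fun k => (h k k.2).imp fun n hn => Subgroup.mem_subgroupOf.mpr (by simpa using hn)
  have h2 := sylow_sup_eq_top_of_pResidual_le P h1
  intro k hk
  have h3 : (⟨k, hk⟩ : ↥K) ∈ C.subgroupOf K ⊔ (P : Subgroup ↥K) := h2 ▸ Subgroup.mem_top _
  have h4 := Subgroup.mem_map_of_mem K.subtype h3
  rw [Subgroup.map_sup, sup_comm] at h4
  refine (sup_le_sup_left ?_ _ : _ ≤ (P : Subgroup ↥K).map K.subtype ⊔ C) h4
  rintro _ ⟨c, hc, rfl⟩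
  exact hc

/-- The same with a Sylow subgroup of the whole group, for `K` normal. -/
theorem le_inf_sup (K C : Subgroup L) [K.Normal] [C.Normal] (T : Sylow p L) (h : ∀ k ∈ K, ∃ n : ℕ, k ^ p ^ n ∈ C) :
    K ≤ ((T : Subgroup L) ⊓ K) ⊔ C := by
  have h1 := le_sylow_sup K C (sylowInfNormal T K) h
  rwa [coe_sylowInfNormal, Subgroup.subgroupOf_map_subtype] at h1

theorem le_pCore_of_normal {V : Subgroup L} (hn : V.Normal) (hV : IsElementaryAbelian p V) : V ≤ pCore p L :=
  haveI := hn
  le_pCore (isPGroup_of_elem hV)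

theorem pCore_le_centralizer {V : Subgroup L} (hV : IsPReducedNormal p V) :
    pCore p L ≤ Subgroup.centralizer (V : Set L) :=
  (iff_forall.mp hV).2.2 (pCore p L) inferInstance fun k hk => by
    obtain ⟨n, hn⟩ := isPGroup_pCore (G := L) p ⟨k, hk⟩
    exact ⟨n, by rw [show k ^ p ^ n = 1 from congrArg Subtype.val hn]; exact Subgroup.one_mem _⟩

theorem bot_reduced : IsPReducedNormal p (⊥ : Subgroup L) :=
  iff_forall.mpr ⟨inferInstance, ⟨inferInstance, fun a ha => by simp [Subgroup.mem_bot.mp ha]⟩,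
    fun K _ _ k _ => Subgroup.mem_centralizer_iff.mpr fun y hy => by simp [Subgroup.mem_bot.mp hy]⟩

theorem sup_reduced {A B : Subgroup L} (hA : IsPReducedNormal p A) (hB : IsPReducedNormal p B) :
    IsPReducedNormal p (A ⊔ B) := by
  have hcomm : ∀ a ∈ A, ∀ b ∈ B, a * b = b * a := fun a ha b hb =>
    Subgroup.mem_centralizer_iff.mp (pCore_le_centralizer hA (le_pCore_of_normal hB.1 hB.2.1 hb)) a ha
  obtain ⟨hAn, hAe, hA0⟩ := iff_forall.mp hA
  obtain ⟨hBn, hBe, hB0⟩ := iff_forall.mp hB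
  haveI := hAn
  haveI := hBn
  refine iff_forall.mpr ⟨inferInstance, ⟨⟨⟨fun x y => Subtype.ext ?_⟩⟩, fun x hx => ?_⟩, fun K hK hKp k hk => ?_⟩
  · obtain ⟨a, ha, b, hb, e⟩ := Subgroup.mem_sup_of_normal_right.mp x.2
    obtain ⟨a', ha', b', hb', e'⟩ := Subgroup.mem_sup_of_normal_right.mp y.2
    show (x : L) * y = y * x
    rw [← e, ← e']
    have c1 : Commute a (a' * b') := Commute.mul_right (mem_comm hAe ha ha') (hcomm a ha b' hb')
    have c2 : Commute b (a' * b') := Commute.mul_right (hcomm a' ha' b hb).symm (mem_comm hBe hb hb')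
    exact c1.mul_left c2
  · obtain ⟨a, ha, b, hb, rfl⟩ := Subgroup.mem_sup_of_normal_right.mp hx
    rw [Commute.mul_pow (hcomm a ha b hb), hAe.2 a ha, hBe.2 b hb, one_mul]
  · have h1 := hA0 K hK (fun k hk => (hKp k hk).imp fun n hn => Subgroup.centralizer_le (SetLike.coe_subset_coe.mpr le_sup_left) hn) hk
    have h2 := hB0 K hK (fun k hk => (hKp k hk).imp fun n hn => Subgroup.centralizer_le (SetLike.coe_subset_coe.mpr le_sup_right) hn) hk
    refine Subgroup.mem_centralizer_iff.mpr fun x hx => ?_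
    obtain ⟨a, ha, b, hb, rfl⟩ := Subgroup.mem_sup_of_normal_right.mp hx
    exact (Commute.mul_left (Subgroup.mem_centralizer_iff.mp h1 a ha : Commute a k) (Subgroup.mem_centralizer_iff.mp h2 b hb : Commute b k)).eq

theorem largest_reduced : IsPReducedNormal p (largestPReduced p L) :=
  sSup_prop_of_closed_sup _ bot_reduced (fun A B hA hB => sup_reduced hA hB) fun A hA => hA

theorem le_largest {V : Subgroup L} (hV : IsPReducedNormal p V) : V ≤ largestPReduced p L := le_sSup hV

theorem le_center_pCore {V : Subgroup L} (hV : IsPReducedNormal p V) :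
    V ≤ pCore p L ⊓ Subgroup.centralizer (pCore p L : Set L) :=
  le_inf (le_pCore_of_normal hV.1 hV.2.1) (Subgroup.le_centralizer_iff.mp (pCore_le_centralizer hV))

theorem normalClosure_le_centralizer {X K : Subgroup L} [K.Normal] (h : K ≤ Subgroup.centralizer (X : Set L)) :
    K ≤ Subgroup.centralizer (Subgroup.normalClosure (X : Set L) : Set L) := by
  haveI := centralizer_normal K
  exact Subgroup.le_centralizer_iff.mp (Subgroup.normalClosure_le_normal (N := Subgroup.centralizer (K : Set L))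
    (SetLike.coe_subset_coe.mpr (Subgroup.le_centralizer_iff.mp h)))

/-- Reduced subgroups of a subgroup holding a Sylow subgroup give reduced normal subgroups. -/
theorem normalClosure_reduced (hchar : Subgroup.centralizer (pCore p L : Set L) ≤ pCore p L) (T : Sylow p L)
    (R : Subgroup L) (hTR : (T : Subgroup L) ≤ R) (X : Subgroup ↥R) (hX : IsPReducedNormal p X) :
    IsPReducedNormal p (Subgroup.normalClosure ((X.map R.subtype : Subgroup L) : Set L)) := by
  set X' := X.map R.subtype with hX'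
  set W := Subgroup.normalClosure (X' : Set L)
  haveI : W.Normal := Subgroup.normalClosure_normal
  have hQR : (pCore p L).subgroupOf R ≤ pCore p ↥R :=
    le_pCore ((isPGroup_pCore (G := L) p).comap_of_injective R.subtype R.subtype_injective)
  have hXQ : X' ≤ pCore p L ⊓ Subgroup.centralizer (pCore p L : Set L) := by
    rintro _ ⟨x, hx, rfl⟩
    have hc : (x : L) ∈ Subgroup.centralizer (pCore p L : Set L) := Subgroup.mem_centralizer_iff.mpr fun r hr =>
      congrArg Subtype.val (Subgroup.mem_centralizer_iff.mp ((le_center_pCore hX hx).2) ⟨r, hTR (pCore_le_sylow T hr)⟩ (hQR hr))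
    exact ⟨hchar hc, hc⟩
  haveI := centralizer_normal (pCore p L)
  have hWQ : W ≤ pCore p L ⊓ Subgroup.centralizer (pCore p L : Set L) :=
    Subgroup.normalClosure_le_normal (SetLike.coe_subset_coe.mpr hXQ)
  have hWe : IsElementaryAbelian p W := by
    refine ⟨⟨⟨fun a b => Subtype.ext (center_comm (hWQ a.2) (hWQ b.2))⟩⟩, fun w hw => ?_⟩
    let Z : Subgroup L :=
      { carrier := {x | x ∈ pCore p L ⊓ Subgroup.centralizer (pCore p L : Set L) ∧ x ^ p = 1}
        one_mem' := ⟨Subgroup.one_mem _, one_pow p⟩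
        mul_mem' := fun {a b} ha hb => ⟨Subgroup.mul_mem _ ha.1 hb.1, by
          rw [Commute.mul_pow (center_comm ha.1 hb.1), ha.2, hb.2, one_mul]⟩
        inv_mem' := fun {a} ha => ⟨Subgroup.inv_mem _ ha.1, by rw [inv_pow, ha.2, inv_one]⟩ }
    haveI : Z.Normal := ⟨fun n hn g => ⟨Subgroup.Normal.conj_mem inferInstance n hn.1 g, by
      rw [conj_pow, hn.2, mul_one, mul_inv_cancel]⟩⟩
    have h : W ≤ Z := Subgroup.normalClosure_le_normal (SetLike.coe_subset_coe.mpr fun x hx => ⟨hXQ hx, by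
      obtain ⟨y, hy, rfl⟩ := hx
      exact congrArg Subtype.val (hX.2.1.2 y hy)⟩)
    exact (h hw).2
  haveI := centralizer_normal W
  refine iff_forall.mpr ⟨inferInstance, hWe, fun K hK hKp => normalClosure_le_centralizer ?_⟩
  haveI := hK
  have hCW : Subgroup.centralizer (W : Set L) ≤ Subgroup.centralizer (X' : Set L) :=
    Subgroup.centralizer_le (SetLike.coe_subset_coe.mpr Subgroup.le_normalClosure)
  have h1 : K.subgroupOf R ≤ Subgroup.centralizer (X : Set ↥R) :=
    (iff_forall.mp hX).2.2 (K.subgroupOf R) inferInstance fun k hk => (hKp k hk).imp fun n hn =>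
      Subgroup.mem_centralizer_iff.mpr fun x hx => Subtype.ext (by
        simpa using Subgroup.mem_centralizer_iff.mp (hCW hn) x ⟨x, hx, rfl⟩)
  refine (le_inf_sup K (Subgroup.centralizer (W : Set L)) T hKp).trans (sup_le ?_ hCW)
  intro k hk
  refine Subgroup.mem_centralizer_iff.mpr ?_
  rintro _ ⟨x, hx, rfl⟩
  exact congrArg Subtype.val (Subgroup.mem_centralizer_iff.mp (h1 (show (⟨k, hTR hk.1⟩ : ↥R) ∈ K.subgroupOf R from hk.2)) x hx)

theorem isPGroup_reduced_Tcenter (T : Sylow p L) :
    IsPReducedNormal p ((omegaOne p ((T : Subgroup L) ⊓ Subgroup.centralizer ((T : Subgroup L) : Set L))).subgroupOf (T : Subgroup L)) := by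
  refine iff_forall.mpr ⟨⟨fun n hn g => ?_⟩, ⟨⟨⟨fun a b => Subtype.ext (Subtype.ext ?_)⟩⟩, fun v hv => Subtype.ext ?_⟩, fun K _ _ k _ => ?_⟩
  · have h := (mem_omegaZ.mp hn).2.1 g g.2
    rw [show g * n * g⁻¹ = n from Subtype.ext (by simp only [Subgroup.coe_mul, Subgroup.coe_inv]; rw [show (g : L) * (n : L) = (n : L) * g from h, mul_inv_cancel_right])]
    exact hn
  · exact (mem_omegaZ.mp b.2).2.1 _ (mem_omegaZ.mp a.2).1
  · rw [SubmonoidClass.coe_pow]
    exact (mem_omegaZ.mp hv).2.2
  · exact Subgroup.mem_centralizer_iff.mpr fun x hx => Subtype.ext ((mem_omegaZ.mp hx).2.1 k k.2).symm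

theorem omegaZ_closure_reduced (hchar : Subgroup.centralizer (pCore p L : Set L) ≤ pCore p L) (T : Sylow p L) :
    IsPReducedNormal p (Subgroup.normalClosure
      ((omegaOne p ((T : Subgroup L) ⊓ Subgroup.centralizer ((T : Subgroup L) : Set L)) : Subgroup L) : Set L)) := by
  have h := normalClosure_reduced hchar T (T : Subgroup L) le_rfl _ (isPGroup_reduced_Tcenter T)
  rwa [Subgroup.map_subgroupOf_eq_of_le (fun x hx => (mem_omegaZ.mp hx).1)] at h

theorem omegaZ_le_largest (hchar : Subgroup.centralizer (pCore p L : Set L) ≤ pCore p L) (T : Sylow p L) :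
    omegaOne p ((T : Subgroup L) ⊓ Subgroup.centralizer ((T : Subgroup L) : Set L)) ≤ largestPReduced p L :=
  Subgroup.le_normalClosure.trans (le_largest (omegaZ_closure_reduced hchar T))

/-- `O^p(K)` inside the ambient group. -/
theorem res_eq_closure (K : Subgroup L) :
    (Cfsg.pResidual p ↥K).map K.subtype = Subgroup.closure {x : L | x ∈ K ∧ (orderOf x).Coprime p} := by
  rw [Cfsg.pResidual, MonoidHom.map_closure]
  congr 1
  ext x
  constructor
  · rintro ⟨y, hy, rfl⟩
    exact ⟨y.2, by rw [Subgroup.coe_subtype, Subgroup.orderOf_coe]; exact hy⟩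
  · rintro ⟨hx, ho⟩
    exact ⟨⟨x, hx⟩, by rwa [Set.mem_ofPred_eq, Subgroup.orderOf_mk], rfl⟩

theorem res_mono {D K : Subgroup L} (h : D ≤ K) :
    (Cfsg.pResidual p ↥D).map D.subtype ≤ (Cfsg.pResidual p ↥K).map K.subtype := by
  rw [res_eq_closure, res_eq_closure]
  exact Subgroup.closure_mono fun x hx => ⟨h hx.1, hx.2⟩

theorem res_le_of_pow {K C : Subgroup L} [C.Normal] (h : ∀ k ∈ K, ∃ n : ℕ, k ^ p ^ n ∈ C) :
    (Cfsg.pResidual p ↥K).map K.subtype ≤ C := by
  rw [res_eq_closure, Subgroup.closure_le]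
  rintro x ⟨hxK, hx⟩
  obtain ⟨n, hn⟩ := h x hxK
  exact PResidual.mem_of_pow_mem hx hn

theorem res_pow (K : Subgroup L) {k : L} (hk : k ∈ K) :
    ∃ n : ℕ, k ^ p ^ n ∈ (Cfsg.pResidual p ↥K).map K.subtype := by
  obtain ⟨n, hn⟩ := PResidual.pow_mem_pResidual (p := p) (⟨k, hk⟩ : ↥K)
  exact ⟨n, _, hn, by simp⟩

/-- On an abelian normal `p`-subgroup, `[V, X, X] = [V, X]` when `X = O^p(X)`. -/
theorem comm_res_res {V : Subgroup L} [V.Normal] (hV : IsMulCommutative ↥V) (hVp : IsPGroup p ↥V) (K : Subgroup L) :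
    ⁅⁅V, (Cfsg.pResidual p ↥K).map K.subtype⁆, (Cfsg.pResidual p ↥K).map K.subtype⁆ = ⁅V, (Cfsg.pResidual p ↥K).map K.subtype⁆ := by
  set X := (Cfsg.pResidual p ↥K).map K.subtype
  refine le_antisymm (Subgroup.commutator_mono (Subgroup.commutator_le_left V X) le_rfl) ?_
  set D := ⁅⁅V, X⁆, X⁆
  have hXD : X ≤ Subgroup.normalizer (D : Set L) := Subgroup.normalizer_commutator_ge_right _ _
  let E : Subgroup L :=
    { carrier := {x | x ∈ Subgroup.normalizer (D : Set L) ∧ ∀ v ∈ V, ⁅v, x⁆ ∈ D}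
      one_mem' := ⟨Subgroup.one_mem _, fun v _ => by simp [commutatorElement_def]⟩
      mul_mem' := fun {a b} ha hb => ⟨Subgroup.mul_mem _ ha.1 hb.1, fun v hv => by
        rw [show ⁅v, a * b⁆ = ⁅v, a⁆ * (a * ⁅v, b⁆ * a⁻¹) by simp only [commutatorElement_def]; group]
        exact D.mul_mem (ha.2 v hv) ((Subgroup.mem_normalizer_iff.mp ha.1 _).mp (hb.2 v hv))⟩
      inv_mem' := fun {a} ha => ⟨Subgroup.inv_mem _ ha.1, fun v hv => by
        rw [show ⁅v, a⁻¹⁆ = a⁻¹ * ⁅v, a⁆⁻¹ * a⁻¹⁻¹ by simp only [commutatorElement_def]; group]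
        exact (Subgroup.mem_normalizer_iff.mp (Subgroup.inv_mem _ ha.1) _).mp (D.inv_mem (ha.2 v hv))⟩ }
  have hXE : X ≤ E := by
    rw [show X = _ from res_eq_closure K, Subgroup.closure_le]
    intro x hx
    have hxX : x ∈ X := by rw [show X = _ from res_eq_closure K]; exact Subgroup.subset_closure hx
    refine ⟨hXD hxX, fun v hv => ?_⟩
    have hA : Subgroup.zpowers x ≤ Subgroup.normalizer (V : Set L) := Subgroup.normalizer_eq_top (H := V) ▸ le_top
    obtain ⟨k, hk⟩ := hVp.exists_card_eq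
    have h1 := coprime_commutator_commutator hA (by rw [Nat.card_zpowers, hk]; exact hx.2.pow_right k)
      (Or.inl (Group.isSolvable_of_comm fun a b => (IsCyclic.commutative (α := ↥(Subgroup.zpowers x))).is_comm.comm a b))
    have h2 : ⁅v, x⁆ ∈ ⁅V, Subgroup.zpowers x⁆ := Subgroup.commutator_mem_commutator hv (Subgroup.mem_zpowers x)
    rw [← h1] at h2
    exact Subgroup.commutator_mono (Subgroup.commutator_mono le_rfl (Subgroup.zpowers_le.mpr hxX)) (Subgroup.zpowers_le.mpr hxX) h2
  exact Subgroup.commutator_le.mpr fun v hv x hx => (hXE hx).2 v hv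

theorem comm_res_le_of_subnormal {V : Subgroup L} [V.Normal] (hV : IsMulCommutative ↥V) (hVp : IsPGroup p ↥V)
    {K : Subgroup L} (hK : K.IsSubnormal) : ⁅V, (Cfsg.pResidual p ↥K).map K.subtype⁆ ≤ K := by
  have key : ∀ M : Subgroup L, M.IsSubnormal → K ≤ M → ⁅V, (Cfsg.pResidual p ↥K).map K.subtype⁆ ≤ M := by
    intro M hM
    induction hM with
    | top => intro _; exact le_top
    | step A B hAB _ hAn ih =>
      intro hKA
      rw [← comm_res_res hV hVp K]
      refine Subgroup.commutator_le.mpr fun b hb a ha => ?_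
      have hbB := ih (hKA.trans hAB) hb
      have haA := hKA (Subgroup.map_subtype_le _ ha)
      have := A.mul_mem (hAn.conj_mem ⟨a, hAB haA⟩ haA ⟨b, hbB⟩) (A.inv_mem haA)
      exact this
  exact key K hK le_rfl

/-- The main tool: a subnormal subgroup whose residual centralizes a piece holding `[V, O^p]` centralizes `V`. -/
theorem le_centralizer_of_subnormal {V : Subgroup L} (hV : IsPReducedNormal p V) {D W : Subgroup L} (hD : D.IsSubnormal)
    (hW : ⁅V, (Cfsg.pResidual p ↥D).map D.subtype⁆ ≤ W) (hc : (Cfsg.pResidual p ↥D).map D.subtype ≤ Subgroup.centralizer (W : Set L)) :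
    D ≤ Subgroup.centralizer (V : Set L) := by
  obtain ⟨hn, he, hC, h0⟩ := hV
  haveI := hn
  haveI := hC
  set X := (Cfsg.pResidual p ↥D).map D.subtype
  have h1 : X ≤ Subgroup.centralizer (V : Set L) := by
    have h2 : ⁅V, X⁆ = ⊥ := by
      rw [eq_bot_iff, ← comm_res_res he.1 (isPGroup_of_elem he) D]
      refine (Subgroup.commutator_mono hW le_rfl).trans (le_of_eq ?_)
      exact Subgroup.commutator_eq_bot_iff_le_centralizer.mpr (Subgroup.le_centralizer_iff.mp hc)
    exact Subgroup.le_centralizer_iff.mp (Subgroup.commutator_eq_bot_iff_le_centralizer.mp h2)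
  intro d hd
  have hp : IsPGroup p ↥(D.map (QuotientGroup.mk' (Subgroup.centralizer (V : Set L)))) := by
    rintro ⟨_, a, ha, rfl⟩
    obtain ⟨n, hn⟩ := res_pow (p := p) D ha
    exact ⟨n, Subtype.ext ((map_pow (QuotientGroup.mk' (Subgroup.centralizer (V : Set L))) a _).symm.trans
      ((QuotientGroup.eq_one_iff _).mpr (h1 hn)))⟩
  have h3 := isSubnormal_isPGroup_le_pCore (hD.map (QuotientGroup.mk'_surjective _)) hp (Subgroup.mem_map_of_mem _ hd)
  rw [h0, Subgroup.mem_bot] at h3
  exact (QuotientGroup.eq_one_iff d).mp h3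

omit [Finite L] [Fact p.Prime] in
theorem reduced_map_equiv {M : Type*} [Group M] (e : L ≃* M) {V : Subgroup L} (hV : IsPReducedNormal p V) :
    IsPReducedNormal p (V.map e.toMonoidHom) := by
  obtain ⟨hn, he, hf⟩ := iff_forall.mp hV
  have hcen : ∀ z, z ∈ Subgroup.centralizer ((V.map e.toMonoidHom : Subgroup M) : Set M) ↔ e.symm z ∈ Subgroup.centralizer (V : Set L) := by
    intro z
    simp only [Subgroup.mem_centralizer_iff, SetLike.mem_coe]
    refine ⟨fun h v hv => ?_, ?_⟩
    · apply e.injective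
      simpa using h (e v) ⟨v, hv, rfl⟩
    · rintro h _ ⟨v, hv, rfl⟩
      have := congrArg e (h v hv)
      simpa using this
  refine iff_forall.mpr ⟨hn.map _ e.surjective, ⟨⟨⟨fun a b => Subtype.ext ?_⟩⟩, ?_⟩, fun K hK hKp k hk => ?_⟩
  · obtain ⟨a', ha, ea⟩ := a.2
    obtain ⟨b', hb, eb⟩ := b.2
    show (a : M) * b = b * a
    rw [← ea, ← eb, ← map_mul, ← map_mul, mem_comm he ha hb]
  · rintro _ ⟨v, hv, rfl⟩
    rw [← map_pow, he.2 v hv, map_one]
  · haveI := hK
    refine (hcen k).mpr (hf (K.comap e.toMonoidHom) inferInstance (fun l hl => ?_) (by simpa using hk))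
    obtain ⟨n, hn⟩ := hKp _ hl
    refine ⟨n, ?_⟩
    have h := (hcen _).mp hn
    simpa [← map_pow] using h

omit [Finite L] [Fact p.Prime] in
theorem largest_map_equiv {M : Type*} [Group M] (e : L ≃* M) :
    (largestPReduced p L).map e.toMonoidHom = largestPReduced p M := by
  refine le_antisymm ?_ ?_
  · rw [Subgroup.map_le_iff_le_comap]
    exact sSup_le fun V hV => Subgroup.map_le_iff_le_comap.mp (le_sSup (reduced_map_equiv e hV))
  · refine sSup_le fun W hW => ?_
    have h : W.map e.symm.toMonoidHom ≤ largestPReduced p L := le_sSup (reduced_map_equiv e.symm hW)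
    intro w hw
    exact ⟨e.symm w, h ⟨w, hw, rfl⟩, by simp⟩

omit [Finite L] [Fact p.Prime] in
theorem largestOf_map {M : Type*} [Group M] (f : L →* M) (hf : Function.Injective f) (A : Subgroup L) :
    largestPReducedOf p (A.map f) = (largestPReducedOf p A).map f := by
  rw [largestPReducedOf, largestPReducedOf, ← largest_map_equiv (A.equivMapOfInjective f hf), Subgroup.map_map, Subgroup.map_map]
  congr 1

omit [Finite L] [Fact p.Prime] in
theorem normalizer_le_largestOf (A : Subgroup L) :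
    Subgroup.normalizer (A : Set L) ≤ Subgroup.normalizer (largestPReducedOf p A : Set L) := fun g hg => by
  refine Local.mem_normalizer_of_map_conj_eq ?_
  rw [← largestOf_map _ (MulEquiv.injective (MulAut.conj g)), Local.map_conj_eq_of_mem_normalizer hg]

/-- A normal subgroup centralizing `Y` centralizes every normal elementary subgroup reduced for it. -/
theorem inf_centralizer_le_of_normal (N : Subgroup L) [N.Normal] (k : ℕ) : ∀ V : Subgroup L, V.Normal →
    IsElementaryAbelian p V → Nat.card ↥V ≤ k →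
    (∀ D : Subgroup L, D ≤ N → N ≤ Subgroup.normalizer (D : Set L) →
      (∀ d ∈ D, ∃ n : ℕ, d ^ p ^ n ∈ Subgroup.centralizer (V : Set L)) → D ≤ Subgroup.centralizer (V : Set L)) →
    N ⊓ Subgroup.centralizer (largestPReduced p L : Set L) ≤ Subgroup.centralizer (V : Set L) := by
  induction k with
  | zero => intro V _ _ h; exact absurd h Nat.card_pos.not_ge
  | succ k ih =>
    intro V hVn hVe hk hred
    haveI := hVn
    haveI := centralizer_normal V
    by_cases hVr : IsPReducedNormal p V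
    · exact inf_le_right.trans (Subgroup.centralizer_le (SetLike.coe_subset_coe.mpr (le_largest hVr)))
    obtain ⟨K, hKn, hKp, hKne⟩ : ∃ K : Subgroup L, K.Normal ∧ (∀ k ∈ K, ∃ n : ℕ, k ^ p ^ n ∈ Subgroup.centralizer (V : Set L)) ∧
        ¬ K ≤ Subgroup.centralizer (V : Set L) := by
      by_contra h
      push Not at h
      exact hVr (iff_forall.mpr ⟨hVn, hVe, h⟩)
    haveI := hKn
    haveI := centralizer_normal K
    obtain ⟨T⟩ := (inferInstance : Nonempty (Sylow p L))
    have hKTC := le_inf_sup K (Subgroup.centralizer (V : Set L)) T hKp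
    set V₁ := V ⊓ Subgroup.centralizer (K : Set L) with hV₁
    have hlt : Nat.card ↥V₁ < Nat.card ↥V := lt_of_le_of_ne (Subgroup.card_le_of_le inf_le_left) fun e =>
      hKne (Subgroup.le_centralizer_iff.mp (by
        rw [← Subgroup.eq_of_le_of_card_ge (inf_le_left : V₁ ≤ V) e.ge]; exact inf_le_right))
    have hKN : K ⊓ N ≤ Subgroup.centralizer (V : Set L) := hred (K ⊓ N) inf_le_right
      (by rw [Subgroup.normalizer_eq_top (H := K ⊓ N)]; exact le_top) fun d hd => hKp d hd.1
    -- elements of order prime to `p` in `N` centralizing `V₁` centralize `V`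
    have hcop : ∀ x ∈ N, (orderOf x).Coprime p → x ∈ Subgroup.centralizer (V₁ : Set L) → x ∈ Subgroup.centralizer (V : Set L) := by
      intro x hxN hxo hx1
      set K' := Subgroup.zpowers x ⊔ Subgroup.centralizer (V : Set L)
      have hidx : ¬ p ∣ (Subgroup.centralizer (V : Set L)).relIndex K' := by
        rw [Subgroup.relIndex_sup_right]
        intro h
        have h1 := h.trans (Subgroup.relIndex_dvd_card (H := Subgroup.centralizer (V : Set L)) (K := Subgroup.zpowers x))
        rw [Nat.card_zpowers] at h1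
        exact (Fact.out : p.Prime).ne_one (Nat.Coprime.eq_one_of_dvd hxo.symm h1)
      have hPK' : (T : Subgroup L) ⊓ K ≤ Subgroup.normalizer (K' : Set L) := by
        intro t ht
        refine Local.mem_normalizer_of_map_conj_eq (Subgroup.eq_of_le_of_card_ge ?_
          (Subgroup.card_map_of_injective (MulEquiv.injective (MulAut.conj t))).ge)
        rw [Subgroup.map_sup]
        refine sup_le ?_ (le_trans (Local.map_conj_le fun c hc => Subgroup.Normal.conj_mem inferInstance c hc t) le_sup_right)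
        rw [MonoidHom.map_zpowers, Subgroup.zpowers_le]
        show t * x * t⁻¹ ∈ K'
        have h1 : t * x * t⁻¹ * x⁻¹ ∈ K ⊓ N := ⟨by
            have := K.mul_mem ht.2 (Subgroup.Normal.conj_mem inferInstance t⁻¹ (K.inv_mem ht.2) x)
            simpa [mul_assoc] using this,
          N.mul_mem (Subgroup.Normal.conj_mem inferInstance x hxN t) (N.inv_mem hxN)⟩
        rw [show t * x * t⁻¹ = (t * x * t⁻¹ * x⁻¹) * x by group]
        exact Subgroup.mul_mem _ (Subgroup.mem_sup_right (hKN h1)) (Subgroup.mem_sup_left (Subgroup.mem_zpowers x))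
      have h := AbelianTrace.le_centralizer_of_fixed V K' (Subgroup.centralizer (V : Set L)) ((T : Subgroup L) ⊓ K) hVe.1
        (isPGroup_of_elem hVe) (by rw [Subgroup.normalizer_eq_top]; exact le_top) le_sup_right hidx (T.2.to_le inf_le_left)
        (by rw [Subgroup.normalizer_eq_top]; exact le_top) hPK' (by rw [Subgroup.normalizer_eq_top]; exact le_top) (fun u hu hfix => ?_)
      · exact Subgroup.mem_centralizer_iff.mpr fun v hv => (Subgroup.mem_centralizer_iff.mp
          (h ⟨hv, Subgroup.le_centralizer_iff.mp le_rfl hv⟩) x (Subgroup.mem_sup_left (Subgroup.mem_zpowers x))).symm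
      · have hu1 : u ∈ V₁ := ⟨hu.1, Subgroup.mem_centralizer_iff.mpr fun k hk => by
          obtain ⟨a, ha, c, hc, rfl⟩ := Subgroup.mem_sup_of_normal_right.mp (hKTC hk)
          exact ((show Commute a u from hfix a ha).mul_left (Subgroup.mem_centralizer_iff.mp hc u hu.1).symm).eq⟩
        have hle : K' ≤ Subgroup.centralizer ({u} : Set L) := sup_le
          (Subgroup.zpowers_le.mpr (Subgroup.mem_centralizer_singleton_iff.mpr (Subgroup.mem_centralizer_iff.mp hx1 u hu1).symm))
          fun c hc => Subgroup.mem_centralizer_singleton_iff.mpr (Subgroup.mem_centralizer_iff.mp hc u hu.1).symm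
        exact Subgroup.mem_centralizer_iff.mpr fun k hk => Subgroup.mem_centralizer_singleton_iff.mp (hle hk)
    haveI := centralizer_normal V₁
    have hker : N ⊓ Subgroup.centralizer (V₁ : Set L) ≤ Subgroup.centralizer (V : Set L) := by
      refine hred _ inf_le_left (by rw [Subgroup.normalizer_eq_top]; exact le_top) fun d hd => ?_
      obtain ⟨n, hn⟩ := PResidual.exists_pow_coprime (p := p) d
      exact ⟨n, hcop _ (N.pow_mem hd.1 _) hn (Subgroup.pow_mem _ hd.2 _)⟩
    have h1 := ih V₁ inferInstance ⟨⟨⟨fun a b => Subtype.ext (mem_comm hVe a.2.1 b.2.1)⟩⟩, fun v hv => hVe.2 v hv.1⟩ (by omega)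
      fun D hDN hND hDp => (hred D hDN hND fun d hd => (hDp d hd).imp fun n hn =>
        hker ⟨N.pow_mem (hDN hd) _, hn⟩).trans (Subgroup.centralizer_le (SetLike.coe_subset_coe.mpr inf_le_left))
    exact (le_inf inf_le_left h1).trans hker

end CfsgLib.PReduced
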