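import Mathlib
import Cfsg.Prelude.Def_Amalgam
import Cfsg.Prelude.Def_LocalStructure
import Cfsg.Agent.Lib.AmalgamCritical
import Cfsg.Agent.Lib.PResidual
import Cfsg.Agent.S2750

/-!
The subgroups generated by the modules of the vertices at bounded distance.
-/

set_option autoImplicit false
set_option linter.unusedVariables false

namespace CfsgLib.AmalgamV

open Cfsg CfsgLib CfsgLib.AmalgamBasic CfsgLib.AmalgamCritical
open scoped commutatorElement

variable {X : Type*} [Group X] {p : ℕ} {M₁ M₂ : Subgroup X}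

theorem conj_stab {g x : X} {δ : CosetVertex M₁ M₂} (hx : x ∈ MulAction.stabilizer X δ) :
    g * x * g⁻¹ ∈ MulAction.stabilizer X (g • δ) := by
  rw [MulAction.mem_stabilizer_iff, mul_smul, mul_smul, inv_smul_smul,
    MulAction.mem_stabilizer_iff.mp hx]

/-- A subgroup of Sylow order inside a vertex stabilizer. -/
theorem exists_sylow_of_card [Fact p.Prime] {H T : Subgroup X} [Finite ↥H] (hT : T ≤ H)
    (hc : Nat.card ↥T = p ^ (Nat.card ↥H).factorization p) :
    ∃ S : Sylow p ↥H, (S : Subgroup ↥H).map H.subtype = T := by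
  refine ⟨Sylow.ofCard (T.subgroupOf H) ?_, ?_⟩
  · rw [Nat.card_congr (Subgroup.subgroupOfEquivOfLe hT).toEquiv, hc]
  · rw [Sylow.coe_ofCard]; exact Subgroup.map_subgroupOf_eq_of_le hT

theorem conj_vertexZ [Fact p.Prime] (h : IsCharPAmalgamPair p M₁ M₂) (g : X)
    {δ : CosetVertex M₁ M₂} {x : X} (hx : x ∈ vertexZ p δ) :
    g * x * g⁻¹ ∈ vertexZ p (g • δ) := by
  have key : vertexZ p δ ≤ (vertexZ p (g • δ)).comap (MulAut.conj g).toMonoidHom := by
    refine iSup_le fun S y hy => ?_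
    haveI := finite_vertex h δ
    haveI := finite_vertex h (g • δ)
    set T := (S : Subgroup ↥(MulAction.stabilizer X δ)).map (MulAction.stabilizer X δ).subtype
    have hT : T.map (MulAut.conj g).toMonoidHom ≤ MulAction.stabilizer X (g • δ) := by
      rintro _ ⟨_, ⟨t, -, rfl⟩, rfl⟩
      exact conj_stab t.2
    have hcard : Nat.card ↥(MulAction.stabilizer X (g • δ)) =
        Nat.card ↥(MulAction.stabilizer X δ) := by
      rw [MulAction.stabilizer_smul_eq_stabilizer_map_conj]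
      exact Subgroup.card_map_of_injective (f := (MulAut.conj g).toMonoidHom) (MulAut.conj g).injective
    obtain ⟨R, hR⟩ := exists_sylow_of_card (p := p) hT (by
      rw [Subgroup.card_map_of_injective (f := (MulAut.conj g).toMonoidHom) (MulAut.conj g).injective,
        Subgroup.card_map_of_injective (MulAction.stabilizer X δ).subtype_injective, hcard]
      exact S.card_eq_multiplicity)
    obtain ⟨h1, h2, h3⟩ := PReduced.mem_omegaZ.mp hy
    refine Subgroup.mem_comap.mpr (le_iSup (fun R : Sylow p ↥(MulAction.stabilizer X (g • δ)) =>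
      omegaOne p ((R : Subgroup _).map (MulAction.stabilizer X (g • δ)).subtype ⊓
        Subgroup.centralizer (((R : Subgroup _).map (MulAction.stabilizer X (g • δ)).subtype :
          Subgroup X) : Set X))) R ?_)
    rw [hR, PReduced.mem_omegaZ]
    refine ⟨⟨y, h1, rfl⟩, ?_, ?_⟩
    · rintro _ ⟨t, ht, rfl⟩
      rw [← map_mul, ← map_mul, h2 t ht]
    · rw [← map_pow, h3, map_one]
  exact key hx

theorem dist_smul_le (h : IsAmalgamPair M₁ M₂) (g : X) (δ μ : CosetVertex M₁ M₂) :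
    (cosetGraph M₁ M₂).dist (g • δ) (g • μ) ≤ (cosetGraph M₁ M₂).dist δ μ := by
  obtain ⟨q, hq⟩ := (reachable h δ μ).exists_walk_length_eq_dist
  let f : cosetGraph M₁ M₂ →g cosetGraph M₁ M₂ := ⟨fun v => g • v, fun hv => adj_smul hv g⟩
  have h1 : (cosetGraph M₁ M₂).dist (f δ) (f μ) ≤ (q.map f).length := SimpleGraph.dist_le _
  rw [SimpleGraph.Walk.length_map, hq] at h1
  exact h1

theorem le_vIter {n : ℕ} {δ μ : CosetVertex M₁ M₂} (hd : (cosetGraph M₁ M₂).dist δ μ ≤ n) :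
    vertexZ p μ ≤ vertexVIter p M₁ M₂ n δ :=
  le_iSup (fun μ : {μ : CosetVertex M₁ M₂ // (cosetGraph M₁ M₂).dist δ μ ≤ n} =>
    vertexZ p (μ : CosetVertex M₁ M₂)) ⟨μ, hd⟩

theorem conj_vIter [Fact p.Prime] (h : IsCharPAmalgamPair p M₁ M₂) (g : X) (n : ℕ)
    {δ : CosetVertex M₁ M₂} {x : X} (hx : x ∈ vertexVIter p M₁ M₂ n δ) :
    g * x * g⁻¹ ∈ vertexVIter p M₁ M₂ n (g • δ) := by
  have key : vertexVIter p M₁ M₂ n δ ≤
      (vertexVIter p M₁ M₂ n (g • δ)).comap (MulAut.conj g).toMonoidHom :=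
    iSup_le fun μ y hy => Subgroup.mem_comap.mpr
      (le_vIter ((dist_smul_le h.1 g δ μ.1).trans μ.2) (conj_vertexZ h g hy))
  exact key hx

theorem stab_normalizes_vIter [Fact p.Prime] (h : IsCharPAmalgamPair p M₁ M₂) (n : ℕ)
    (δ : CosetVertex M₁ M₂) :
    MulAction.stabilizer X δ ≤ Subgroup.normalizer (vertexVIter p M₁ M₂ n δ : Set X) := by
  intro g hg
  have hg' : g • δ = δ := hg
  refine Subgroup.mem_normalizer_iff.mpr fun x => ⟨fun hx => ?_, fun hx => ?_⟩
  · have := conj_vIter h g n hx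
    rwa [hg'] at this
  · have := conj_vIter h g⁻¹ n hx
    rw [inv_smul_eq_iff.mpr hg'.symm] at this
    simpa [mul_assoc] using this

theorem connected (h : IsAmalgamPair M₁ M₂) : (cosetGraph M₁ M₂).Connected :=
  haveI : Nonempty (CosetVertex M₁ M₂) := ⟨Sum.inl ((1 : X) : X ⧸ M₁)⟩
  ⟨fun δ μ => reachable h δ μ⟩

theorem vIter_le_of_adj (h : IsAmalgamPair M₁ M₂) {δ μ : CosetVertex M₁ M₂}
    (hadj : (cosetGraph M₁ M₂).Adj δ μ) (n : ℕ) :
    vertexVIter p M₁ M₂ n δ ≤ vertexVIter p M₁ M₂ (n + 1) μ := by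
  refine iSup_le fun ν => le_vIter ?_
  have h1 := (connected h).dist_triangle (u := μ) (v := δ) (w := ν.1)
  have h2 : (cosetGraph M₁ M₂).dist μ δ ≤ 1 := SimpleGraph.dist_le hadj.symm.toWalk
  have h3 := ν.2
  omega

theorem vertexZ_ne_bot [Fact p.Prime] (h : IsCharPAmalgamPair p M₁ M₂) (δ : CosetVertex M₁ M₂) :
    vertexZ p δ ≠ ⊥ := by
  haveI := finite_vertex h δ
  haveI := h.2.1
  haveI := h.2.2.1
  obtain ⟨S⟩ : Nonempty (Sylow p ↥(MulAction.stabilizer X δ)) := inferInstance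
  have hd : p ∣ Nat.card ↥(MulAction.stabilizer X δ) := by
    rcases vertex_iso δ with ⟨⟨e⟩⟩ | ⟨⟨e⟩⟩ <;> rw [← Nat.card_congr e.toEquiv]
    exacts [h.2.2.2.1, h.2.2.2.2.1]
  haveI : Nontrivial ↥(S : Subgroup ↥(MulAction.stabilizer X δ)) := by
    rw [← Finite.one_lt_card_iff_nontrivial]
    exact lt_of_lt_of_le (Fact.out : p.Prime).one_lt
      (Nat.le_of_dvd Nat.card_pos (S.dvd_card_of_dvd_card hd))
  haveI := S.isPGroup'.center_nontrivial
  have hZ := S.isPGroup'.to_subgroup (Subgroup.center ↥(S : Subgroup ↥(MulAction.stabilizer X δ)))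
  obtain ⟨n, hn⟩ := IsPGroup.iff_card.mp hZ
  have hn0 : n ≠ 0 := fun e => by
    have := Finite.one_lt_card (α := Subgroup.center ↥(S : Subgroup ↥(MulAction.stabilizer X δ)))
    rw [hn, e, pow_zero] at this
    exact lt_irrefl 1 this
  obtain ⟨z, hz⟩ := exists_prime_orderOf_dvd_card' (G := Subgroup.center
    ↥(S : Subgroup ↥(MulAction.stabilizer X δ))) p (hn ▸ dvd_pow_self p hn0)
  intro hb
  have hm : (((z : ↥(S : Subgroup ↥(MulAction.stabilizer X δ))) : ↥(MulAction.stabilizer X δ)) : X)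
      ∈ vertexZ p δ := by
    refine le_iSup (fun S : Sylow p ↥(MulAction.stabilizer X δ) =>
      omegaOne p ((S : Subgroup _).map (MulAction.stabilizer X δ).subtype ⊓
        Subgroup.centralizer (((S : Subgroup _).map (MulAction.stabilizer X δ).subtype :
          Subgroup X) : Set X))) S ?_
    rw [PReduced.mem_omegaZ]
    refine ⟨⟨_, z.1.2, rfl⟩, ?_, ?_⟩
    · rintro _ ⟨t, ht, rfl⟩
      exact congrArg (fun s : ↥(S : Subgroup ↥(MulAction.stabilizer X δ)) =>
        (((s : ↥(MulAction.stabilizer X δ))) : X)) (Subgroup.mem_center_iff.mp z.2 ⟨t, ht⟩)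
    · have := congrArg (fun u : Subgroup.center ↥(S : Subgroup ↥(MulAction.stabilizer X δ)) =>
        (((u : ↥(S : Subgroup ↥(MulAction.stabilizer X δ))) : ↥(MulAction.stabilizer X δ)) : X))
        (pow_orderOf_eq_one z)
      rw [hz] at this
      simpa using this
  rw [hb, Subgroup.mem_bot] at hm
  have h1 : z = 1 := Subtype.ext (Subtype.ext (Subtype.ext hm))
  rw [h1, orderOf_one] at hz
  exact (Fact.out : p.Prime).one_lt.ne hz

/-- The data of an edge. -/
theorem edge_data [Fact p.Prime] (h : IsCharPAmalgamPair p M₁ M₂) {δ μ : CosetVertex M₁ M₂}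
    (hadj : (cosetGraph M₁ M₂).Adj δ μ) (S : Sylow p ↥(edgeStabilizer δ μ)) :
    let T := (S : Subgroup ↥(edgeStabilizer δ μ)).map (edgeStabilizer δ μ).subtype
    T ≤ MulAction.stabilizer X δ ∧ T ≤ MulAction.stabilizer X μ ∧ vertexQ p δ ≤ T ∧
      Nat.card ↥T = p ^ (Nat.card ↥(MulAction.stabilizer X δ)).factorization p ∧
      ∃ R : Sylow p ↥(MulAction.stabilizer X μ),
        (R : Subgroup ↥(MulAction.stabilizer X μ)).map (MulAction.stabilizer X μ).subtype = T := by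
  intro T
  haveI := finite_vertex h δ
  haveI := finite_vertex h μ
  haveI := finite_edge h δ μ
  have hTe : T ≤ edgeStabilizer δ μ := Subgroup.map_subtype_le _
  obtain ⟨P, hP⟩ := exists_sylow_vertex h hadj S
  refine ⟨hTe.trans inf_le_left, hTe.trans inf_le_right, ?_, ?_, ?_⟩
  · change vertexQ p δ ≤ (S : Subgroup ↥(edgeStabilizer δ μ)).map (edgeStabilizer δ μ).subtype
    rw [← hP]
    exact Subgroup.map_mono (pCore_le_sylow P)
  · rw [Subgroup.card_map_of_injective (edgeStabilizer δ μ).subtype_injective, ← fact_edge h hadj]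
    exact S.card_eq_multiplicity
  · refine exists_sylow_of_card (hTe.trans inf_le_right) ?_
    rw [Subgroup.card_map_of_injective (edgeStabilizer δ μ).subtype_injective,
      ← fact_edge h hadj.symm, show edgeStabilizer μ δ = edgeStabilizer δ μ from inf_comm _ _]
    exact S.card_eq_multiplicity

theorem vertexZ_le_iSup_adj [Fact p.Prime] (h : IsCharPAmalgamPair p M₁ M₂)
    {δ μ : CosetVertex M₁ M₂} (hadj : (cosetGraph M₁ M₂).Adj δ μ) :
    vertexZ p δ ≤ ⨆ (ν) (_ : (cosetGraph M₁ M₂).Adj δ ν), vertexZ p ν := by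
  haveI := finite_vertex h δ
  haveI := finite_edge h δ μ
  obtain ⟨S⟩ : Nonempty (Sylow p ↥(edgeStabilizer δ μ)) := inferInstance
  obtain ⟨P, hP⟩ := exists_sylow_vertex h hadj S
  obtain ⟨-, -, -, -, R, hR⟩ := edge_data h hadj S
  refine iSup_le fun P' x hx => ?_
  obtain ⟨k, rfl⟩ := MulAction.exists_smul_eq ↥(MulAction.stabilizer X δ) P P'
  have hx' := omega_conj (k • P) k⁻¹ hx
  rw [inv_smul_smul, hP, ← hR] at hx'
  have h1 : ((k⁻¹ : ↥(MulAction.stabilizer X δ)) : X) * x *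
      ((k⁻¹ : ↥(MulAction.stabilizer X δ)) : X)⁻¹ ∈ vertexZ p μ :=
    le_iSup (fun R : Sylow p ↥(MulAction.stabilizer X μ) =>
      omegaOne p ((R : Subgroup _).map (MulAction.stabilizer X μ).subtype ⊓
        Subgroup.centralizer (((R : Subgroup _).map (MulAction.stabilizer X μ).subtype :
          Subgroup X) : Set X))) R hx'
  have h2 := conj_vertexZ h (k : X) h1
  have hk : (k : X) • δ = δ := k.2
  refine le_iSup₂ (f := fun ν (_ : (cosetGraph M₁ M₂).Adj δ ν) => vertexZ p ν) ((k : X) • μ)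
    (by have := adj_smul hadj (k : X); rwa [hk] at this) ?_
  simpa [mul_assoc] using h2

theorem vIter_le_iSup [Fact p.Prime] (h : IsCharPAmalgamPair p M₁ M₂)
    {δ μ : CosetVertex M₁ M₂} (hadj : (cosetGraph M₁ M₂).Adj δ μ) (n : ℕ) :
    vertexVIter p M₁ M₂ (n + 1) δ ≤
      ⨆ (ν) (_ : (cosetGraph M₁ M₂).Adj δ ν), vertexVIter p M₁ M₂ n ν := by
  refine iSup_le fun ν => ?_
  by_cases hne : δ = ν.1
  · rw [← hne]
    refine (vertexZ_le_iSup_adj h hadj).trans (iSup₂_mono fun w _ => le_vIter ?_)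
    rw [SimpleGraph.dist_self]; omega
  · obtain ⟨w, hw, hd⟩ := exists_step h hne
    refine le_trans (le_vIter ?_) (le_iSup₂ (f := fun w (_ : (cosetGraph M₁ M₂).Adj δ w) =>
      vertexVIter p M₁ M₂ n w) w hw)
    have := ν.2
    omega

/-- An element of a vertex group normalising the Sylow subgroup of an edge fixes the edge. -/
theorem normalizer_fix [Fact p.Prime] (h : IsSpeAmalgamPair p M₁ M₂) {δ μ : CosetVertex M₁ M₂}
    (hadj : (cosetGraph M₁ M₂).Adj δ μ) (S : Sylow p ↥(edgeStabilizer δ μ)) {g : X}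
    (hg : g • δ = δ)
    (hn : g ∈ Subgroup.normalizer (((S : Subgroup ↥(edgeStabilizer δ μ)).map
      (edgeStabilizer δ μ).subtype : Subgroup X) : Set X)) : g • μ = μ := by
  set T := (S : Subgroup ↥(edgeStabilizer δ μ)).map (edgeStabilizer δ μ).subtype
  haveI := finite_edge h.1 δ μ
  haveI : Finite ↥M₁ := h.1.2.1
  haveI : Finite ↥(M₁ ⊓ M₂) :=
    Finite.of_injective (Subgroup.inclusion inf_le_left) (Subgroup.inclusion_injective _)
  have hcard : Nat.card ↥T = p ^ (Nat.card ↥(M₁ ⊓ M₂)).factorization p := by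
    obtain ⟨e⟩ := edge_iso hadj
    rw [Subgroup.card_map_of_injective (edgeStabilizer δ μ).subtype_injective,
      Nat.card_congr e.toEquiv]
    exact S.card_eq_multiplicity
  have hTe : T ≤ edgeStabilizer δ μ := Subgroup.map_subtype_le _
  have key : ∀ x : X,
      T ≤ edgeStabilizer (Sum.inl (x : X ⧸ M₁) : CosetVertex M₁ M₂) (Sum.inr (x : X ⧸ M₂)) →
      (g ∈ MulAction.stabilizer X (Sum.inl (x : X ⧸ M₁) : CosetVertex M₁ M₂) ↔
        g ∈ MulAction.stabilizer X (Sum.inr (x : X ⧸ M₂) : CosetVertex M₁ M₂)) := by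
    intro x hTx
    set T' := T.map (MulAut.conj x⁻¹).toMonoidHom with hT'
    have hT'le : T' ≤ M₁ ⊓ M₂ := Local.map_conj_le fun t ht => by
      obtain ⟨h1, h2⟩ := hTx ht
      exact ⟨by simpa using mem_stab_inl.mp h1, by simpa using mem_stab_inr.mp h2⟩
    have hc : Nat.card ↥(T'.subgroupOf (M₁ ⊓ M₂)) =
        p ^ (Nat.card ↥(M₁ ⊓ M₂)).factorization p := by
      rw [Nat.card_congr (Subgroup.subgroupOfEquivOfLe hT'le).toEquiv, ← hcard]
      exact Subgroup.card_map_of_injective (f := (MulAut.conj x⁻¹).toMonoidHom)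
        (MulEquiv.injective _)
    have hs := (h.2.1 (Sylow.ofCard _ hc)).1
    rw [Sylow.coe_ofCard, Subgroup.map_subgroupOf_eq_of_le hT'le] at hs
    have hg' : x⁻¹ * g * x ∈ Subgroup.normalizer (T' : Set X) := by
      refine Subgroup.le_normalizer_map (MulAut.conj x⁻¹).toMonoidHom ⟨g, hn, ?_⟩
      simp
    rw [mem_stab_inl, mem_stab_inr]
    exact ⟨fun hm => (hs.le ⟨hm, hg'⟩).1, fun hm => (hs.ge ⟨hm, hg'⟩).1⟩
  obtain ⟨x, ⟨rfl, rfl⟩ | ⟨rfl, rfl⟩⟩ := adj_iff.mp hadj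
  · exact (key x hTe).mp hg
  · exact (key x (hTe.trans (inf_comm _ _).le)).mpr hg

theorem exists_stab_smul {δ μ ν : CosetVertex M₁ M₂} (h1 : (cosetGraph M₁ M₂).Adj δ μ)
    (h2 : (cosetGraph M₁ M₂).Adj δ ν) : ∃ g : X, g • δ = δ ∧ g • μ = ν := by
  obtain ⟨x, ⟨hxd, hxm⟩ | ⟨hxm, hxd⟩⟩ := adj_iff.mp h1 <;>
    obtain ⟨y, ⟨hyd, hyn⟩ | ⟨hyn, hyd⟩⟩ := adj_iff.mp h2
  · refine ⟨y * x⁻¹, ?_, ?_⟩
    · nth_rewrite 1 [hxd]; rw [hyd]; simp [Sum.smul_inl, MulAction.Quotient.smul_coe]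
    · rw [hxm, hyn]; simp [Sum.smul_inr, MulAction.Quotient.smul_coe]
  · rw [hxd] at hyd; exact absurd hyd Sum.inl_ne_inr
  · rw [hxd] at hyd; exact absurd hyd Sum.inr_ne_inl
  · refine ⟨y * x⁻¹, ?_, ?_⟩
    · nth_rewrite 1 [hxd]; rw [hyd]; simp [Sum.smul_inr, MulAction.Quotient.smul_coe]
    · rw [hxm, hyn]; simp [Sum.smul_inl, MulAction.Quotient.smul_coe]

/-- `O^p` of the group generated by the `p`-elements of a vertex stabilizer. -/
abbrev resid (p : ℕ) (δ : CosetVertex M₁ M₂) : Subgroup X :=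
  (pResidual p ↥(pElementClosure p (MulAction.stabilizer X δ))).map
    (pElementClosure p (MulAction.stabilizer X δ)).subtype

theorem closure_decomp [Fact p.Prime] (h : IsCharPAmalgamPair p M₁ M₂)
    {δ μ : CosetVertex M₁ M₂} (hadj : (cosetGraph M₁ M₂).Adj δ μ)
    (S : Sylow p ↥(edgeStabilizer δ μ)) {k : X}
    (hk : k ∈ pElementClosure p (MulAction.stabilizer X δ)) :
    ∃ o ∈ resid p δ, ∃ t ∈ (S : Subgroup ↥(edgeStabilizer δ μ)).map (edgeStabilizer δ μ).subtype,
      k = o * t := by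
  set T := (S : Subgroup ↥(edgeStabilizer δ μ)).map (edgeStabilizer δ μ).subtype
  set K := pElementClosure p (MulAction.stabilizer X δ)
  haveI := finite_vertex h δ
  have hKle : K ≤ MulAction.stabilizer X δ := (Subgroup.closure_le _).mpr fun x hx => hx.1
  haveI : Finite ↥K := Finite.of_injective (Subgroup.inclusion hKle) (Subgroup.inclusion_injective _)
  haveI := finite_edge h δ μ
  obtain ⟨hTd, -, -, hTc, -⟩ := edge_data h hadj S
  have hTK : T ≤ K := by
    rintro _ ⟨s, hs, rfl⟩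
    obtain ⟨j, hj⟩ := (IsPGroup.iff_orderOf.mp S.isPGroup') ⟨s, hs⟩
    exact Subgroup.subset_closure ⟨hTd ⟨s, hs, rfl⟩, j,
      (Subgroup.orderOf_coe s).trans ((Subgroup.orderOf_coe ⟨s, hs⟩).trans hj)⟩
  haveI : Finite ↥T := Finite.of_injective (Subgroup.inclusion hTK) (Subgroup.inclusion_injective _)
  have hTp : IsPGroup p ↥T := IsPGroup.of_card hTc
  have hfac : (Nat.card ↥K).factorization p ≤ (Nat.card ↥(MulAction.stabilizer X δ)).factorization p :=
    (Nat.factorization_le_iff_dvd Nat.card_pos.ne' Nat.card_pos.ne').mpr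
      (Subgroup.card_dvd_of_le hKle) p
  obtain ⟨R, hR⟩ := exists_sylow_of_card (p := p) hTK (by
    refine le_antisymm ?_ ?_
    · refine Nat.le_of_dvd (pow_pos (Fact.out : p.Prime).pos _) ?_
      obtain ⟨a, ha⟩ := IsPGroup.iff_card.mp hTp
      rw [ha]
      refine pow_dvd_pow p ?_
      have := (Nat.factorization_le_iff_dvd Nat.card_pos.ne' Nat.card_pos.ne').mpr
        (Subgroup.card_dvd_of_le hTK) p
      rwa [ha, (Fact.out : p.Prime).factorization_pow, Finsupp.single_eq_same] at this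
    · rw [hTc]; exact Nat.pow_le_pow_right (Fact.out : p.Prime).pos hfac)
  haveI := PResidual.pResidual_normal (G := ↥K) (p := p)
  have hm : (⟨k, hk⟩ : ↥K) ∈ pResidual p ↥K ⊔ (R : Subgroup ↥K) := by
    rw [sup_comm, PResidual.pResidual_sup_sylow R]; trivial
  obtain ⟨o, ho, t, ht, hot⟩ := Subgroup.mem_sup_of_normal_left.mp hm
  exact ⟨o, ⟨o, ho, rfl⟩, t, hR ▸ ⟨t, ht, rfl⟩, congrArg Subtype.val hot.symm⟩

/-- `O^p` is transitive on the neighbours. -/
theorem resid_transitive [Fact p.Prime] (h : IsSpeAmalgamPair p M₁ M₂)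
    {δ μ ν : CosetVertex M₁ M₂} (h1 : (cosetGraph M₁ M₂).Adj δ μ)
    (h2 : (cosetGraph M₁ M₂).Adj δ ν) : ∃ o ∈ resid p δ, o • μ = ν := by
  haveI := finite_vertex h.1 δ
  haveI := finite_edge h.1 δ μ
  obtain ⟨S⟩ : Nonempty (Sylow p ↥(edgeStabilizer δ μ)) := inferInstance
  obtain ⟨P, hP⟩ := exists_sylow_vertex h.1 h1 S
  obtain ⟨-, hTm, -, -, -⟩ := edge_data h.1 h1 S
  obtain ⟨g, hg, hgm⟩ := exists_stab_smul h1 h2
  have hf := Cfsg.Agent.S2750.frattini (MulAction.stabilizer X δ) P hg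
  rw [hP, sup_comm] at hf
  set K := pElementClosure p (MulAction.stabilizer X δ) with hK
  set N := MulAction.stabilizer X δ ⊓ Subgroup.normalizer (((S : Subgroup ↥(edgeStabilizer δ μ)).map
    (edgeStabilizer δ μ).subtype : Subgroup X) : Set X) with hN
  have hNK : N ≤ Subgroup.normalizer (K : Set X) := by
    intro m hm
    have hKc : ∀ m ∈ MulAction.stabilizer X δ, ∀ x ∈ K, m * x * m⁻¹ ∈ K := by
      intro m hm x hx
      have hle : K ≤ K.comap (MulAut.conj m).toMonoidHom := (Subgroup.closure_le _).mpr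
        fun y ⟨hy, j, hj⟩ => Subgroup.subset_closure
          ⟨mul_mem (mul_mem hm hy) (inv_mem hm), j, ((MulAut.conj m).orderOf_eq y).trans hj⟩
      exact hle hx
    refine Subgroup.mem_normalizer_iff.mpr fun x => ⟨hKc m hm.1 x, fun hx => ?_⟩
    simpa [mul_assoc] using hKc m⁻¹ (inv_mem hm.1) _ hx
  rw [← SetLike.mem_coe, Subgroup.coe_mul_of_right_le_normalizer_left K N hNK] at hf
  obtain ⟨k, hk, m, hm, rfl⟩ := hf
  have hmμ : m • μ = μ := normalizer_fix h h1 S hm.1 hm.2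
  obtain ⟨o, ho, t, ht, rfl⟩ := closure_decomp h.1 h1 S hk
  refine ⟨o, ho, ?_⟩
  rw [mul_smul, hmμ, mul_smul, MulAction.mem_stabilizer_iff.mp (hTm ht)] at hgm
  exact hgm

/-- A subgroup of the Sylow subgroup of an edge generated by modules cannot be normal at both
ends. -/
theorem not_normal_both [Fact p.Prime] (h : IsSpeAmalgamPair p M₁ M₂) {δ μ : CosetVertex M₁ M₂}
    (hadj : (cosetGraph M₁ M₂).Adj δ μ) (n : ℕ)
    (hQ : vertexVIter p M₁ M₂ n μ ≤ vertexQ p δ)
    (ho : resid p δ ≤ Subgroup.normalizer (vertexVIter p M₁ M₂ n μ : Set X)) : False := by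
  haveI := finite_edge h.1 δ μ
  obtain ⟨S⟩ : Nonempty (Sylow p ↥(edgeStabilizer δ μ)) := inferInstance
  obtain ⟨hTd, hTm, hQT, -, -⟩ := edge_data h.1 hadj S
  have hmu := stab_normalizes_vIter h.1 n μ
  have hbot := Cfsg.Agent.S2750.result M₁ M₂ h δ μ hadj S _ rfl (vertexVIter p M₁ M₂ n μ)
    (hQ.trans hQT)
    (fun k hk => by
      obtain ⟨o, ho', t, ht, rfl⟩ := closure_decomp h.1 hadj S hk
      exact mul_mem (ho ho') (hmu (hTm ht)))
    (((Subgroup.closure_le _).mpr fun x hx => hx.1).trans hmu)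
  refine vertexZ_ne_bot h.1 μ (le_bot_iff.mp (hbot ▸ le_vIter ?_))
  rw [SimpleGraph.dist_self]; omega

/-- In a nilpotent group an invariant subgroup supplementing `[V, Q]` in `V` is everything. -/
theorem eq_of_le_sup_commutator {V W Q : Subgroup X} [Finite ↥Q] (hQp : IsPGroup p ↥Q)
    [Fact p.Prime] (hVQ : V ≤ Q) (hWV : W ≤ V) (hW : Q ≤ Subgroup.normalizer (W : Set X))
    (h : V ≤ W ⊔ ⁅V, Q⁆) : V ≤ W := by
  haveI : (W.subgroupOf Q).Normal := Subgroup.normal_subgroupOf_of_le_normalizer hW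
  set π := QuotientGroup.mk' (W.subgroupOf Q)
  haveI : Group.IsNilpotent ↥Q := hQp.isNilpotent
  set U := (V.subgroupOf Q).map π with hU
  have hstep : U ≤ ⁅U, (⊤ : Subgroup (↥Q ⧸ W.subgroupOf Q))⁆ := by
    have h1 : V.subgroupOf Q ≤ W.subgroupOf Q ⊔ ⁅V.subgroupOf Q, (⊤ : Subgroup ↥Q)⁆ := by
      have hmap : (W.subgroupOf Q ⊔ ⁅V.subgroupOf Q, (⊤ : Subgroup ↥Q)⁆).map Q.subtype =
          W ⊔ ⁅V, Q⁆ := by
        rw [Subgroup.map_sup, Subgroup.map_commutator,
          Subgroup.map_subgroupOf_eq_of_le (hWV.trans hVQ), Subgroup.map_subgroupOf_eq_of_le hVQ,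
          ← MonoidHom.range_eq_map, Subgroup.range_subtype]
      intro x hx
      have h2 : (x : X) ∈ (W.subgroupOf Q ⊔ ⁅V.subgroupOf Q, (⊤ : Subgroup ↥Q)⁆).map Q.subtype :=
        hmap ▸ h hx
      obtain ⟨y, hy, e⟩ := h2
      exact Subtype.ext e ▸ hy
    refine (Subgroup.map_mono h1).trans ?_
    rw [Subgroup.map_sup, Subgroup.map_commutator,
      Subgroup.map_top_of_surjective π (QuotientGroup.mk'_surjective _),
      (Subgroup.map_eq_bot_iff _).mpr (le_of_eq (QuotientGroup.ker_mk' _).symm), bot_sup_eq]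
  have hk : ∀ k, U ≤ Subgroup.lowerCentralSeries (⊤ : Subgroup (↥Q ⧸ W.subgroupOf Q)) k := by
    intro k
    induction k with
    | zero => exact le_top
    | succ k ih => exact hstep.trans (Subgroup.commutator_mono ih le_rfl)
  obtain ⟨k, hk'⟩ := Subgroup.nilpotent_iff_lowerCentralSeries.mp
    (inferInstance : Group.IsNilpotent (↥Q ⧸ W.subgroupOf Q))
  have hbot : U = ⊥ := le_bot_iff.mp (hk' ▸ hk k)
  intro x hx
  have hx' : (⟨x, hVQ hx⟩ : ↥Q) ∈ W.subgroupOf Q := by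
    have := Subgroup.mem_map_of_mem π (show (⟨x, hVQ hx⟩ : ↥Q) ∈ V.subgroupOf Q from hx)
    rw [← hU, hbot, Subgroup.mem_bot] at this
    exact (QuotientGroup.eq_one_iff _).mp this
  exact hx'

end CfsgLib.AmalgamV
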