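import Mathlib
import Cfsg.Prelude.Def_ClassicalGeometry

set_option autoImplicit false

namespace CfsgLib.PolarVec

open scoped Matrix

variable {ι : Type} [Fintype ι] [DecidableEq ι] {F : Type*} [Field F]

theorem dot_eq_polar (Q : QuadraticForm F (ι → F)) (v x : ι → F) :
    Cfsg.polarVec (⇑Q) v ⬝ᵥ x = QuadraticMap.polar (⇑Q) v x := by
  have hx : x = ∑ j, x j • (Pi.single j (1 : F) : ι → F) := (pi_eq_sum_univ' x)
  rw [← QuadraticMap.polarBilin_apply_apply]
  conv_rhs => rw [hx, map_sum]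
  simp only [map_smul, smul_eq_mul, QuadraticMap.polarBilin_apply_apply, dotProduct, Cfsg.polarVec]
  exact Finset.sum_congr rfl fun j _ => mul_comm _ _

theorem map_add (Q : QuadraticForm F (ι → F)) (x y : ι → F) :
    Q (x + y) = Q x + Q y + QuadraticMap.polar (⇑Q) x y := by
  simp [QuadraticMap.polar]

theorem polar_self (Q : QuadraticForm F (ι → F)) (v : ι → F) :
    QuadraticMap.polar (⇑Q) v v = 2 * Q v := by
  rw [QuadraticMap.polar_self, two_smul, two_mul]

theorem reflection_mulVec (Q : QuadraticForm F (ι → F)) (v x : ι → F) :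
    Cfsg.reflectionMatrix (⇑Q) v *ᵥ x = x + (-((Q v)⁻¹ * QuadraticMap.polar (⇑Q) v x)) • v := by
  simp only [Cfsg.reflectionMatrix, Matrix.sub_mulVec, Matrix.one_mulVec, Matrix.smul_mulVec,
    Matrix.vecMulVec_mulVec, dot_eq_polar, op_smul_eq_smul]
  module

theorem siegel_mulVec (Q : QuadraticForm F (ι → F)) (u v : ι → F) (c : F) (x : ι → F) :
    Cfsg.siegelMatrix (⇑Q) u v c *ᵥ x = x + ((c * QuadraticMap.polar (⇑Q) u x) • v
      + (-(c * QuadraticMap.polar (⇑Q) v x)) • u) := by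
  simp only [Cfsg.siegelMatrix, Matrix.add_mulVec, Matrix.one_mulVec, Matrix.smul_mulVec,
    Matrix.sub_mulVec, Matrix.vecMulVec_mulVec, dot_eq_polar, op_smul_eq_smul]
  module

end CfsgLib.PolarVec
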