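import Mathlib
import Cfsg.Prelude.Def_ClassicalGeometry
import Cfsg.Agent.Lib.WittExtension
import Cfsg.Agent.Lib.PolarVec

/-! Reflections (orthogonal transvections in characteristic two) generate the orthogonal group. -/

set_option autoImplicit false

namespace CfsgLib.ReflectionGen

open QuadraticMap CfsgLib.WittExtension

variable {F V : Type*} [Field F] [AddCommGroup V] [Module F V] (Q : QuadraticForm F V)

/-- Reflections as linear equivalences. -/
def reflSet : Set (V ≃ₗ[F] V) :=
  {g | ∃ v, Q v ≠ 0 ∧ ∀ u, g u = u + (-((Q v)⁻¹ * polar Q v u)) • v}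

theorem pol_self (v : V) : polar Q v v = 2 * Q v := by
  rw [polar_self, two_nsmul, two_mul]

theorem exists_refl {v : V} (hv : Q v ≠ 0) :
    ∃ g ∈ reflSet Q, ∀ u, g u = u + (-((Q v)⁻¹ * polar Q v u)) • v := by
  let f : V →ₗ[F] V := LinearMap.id - (Q v)⁻¹ • (polarBilin Q v).smulRight v
  have hf : ∀ u, f u = u + (-((Q v)⁻¹ * polar Q v u)) • v := fun u => by
    simp [f, mul_smul, sub_eq_add_neg]
  have hff : f ∘ₗ f = LinearMap.id := by
    ext u
    simp only [LinearMap.comp_apply, hf, polar_add_right, polar_smul_right, pol_self, smul_eq_mul,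
      LinearMap.id_coe, id_eq]
    match_scalars <;> field_simp <;> ring
  exact ⟨LinearEquiv.ofLinearMap f f hff hff, ⟨v, hv, hf⟩, hf⟩

theorem closure_le : Subgroup.closure (reflSet Q) ≤ quadIso Q := by
  rw [Subgroup.closure_le]
  rintro g ⟨v, hv, hg⟩ u
  rw [hg, QuadraticMap.map_add Q, QuadraticMap.map_smul, polar_smul_right, polar_comm Q u v]
  simp only [smul_eq_mul]
  field_simp
  ring

/-- Siegel transformations with anisotropic vector are products of two reflections. -/
theorem siegel_mem_of_ne {d w : V} (hd : Q d = 0) (hdw : polar Q d w = 0) (hw : Q w ≠ 0) :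
    ∃ g ∈ Subgroup.closure (reflSet Q), ∀ u,
      g u = u + (polar Q d u • w + (-(polar Q w u) - Q w * polar Q d u) • d) := by
  set w' := w + (-Q w) • d with hw'
  have hQw' : Q w' = Q w := by
    rw [hw', QuadraticMap.map_add Q, QuadraticMap.map_smul, hd, polar_smul_right, polar_comm Q w d,
      hdw]
    simp
  obtain ⟨g₁, hg₁, h₁⟩ := exists_refl Q hw
  obtain ⟨g₂, hg₂, h₂⟩ := exists_refl Q (v := w') (by rw [hQw']; exact hw)
  refine ⟨g₂ * g₁, mul_mem (Subgroup.subset_closure hg₂) (Subgroup.subset_closure hg₁), fun u => ?_⟩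
  show g₂ (g₁ u) = _
  rw [h₂, h₁, hQw']
  simp only [hw', polar_add_left, polar_smul_left, polar_add_right, polar_smul_right, pol_self,
    hdw, smul_eq_mul]
  match_scalars <;> field_simp <;> ring

variable [FiniteDimensional F V]

theorem exists_anisotropic (hQ : (polarBilin Q).Nondegenerate) (S : Submodule F V)
    (h : 2 * Module.finrank F S < Module.finrank F V) :
    ∃ a : V, (∀ s ∈ S, polar Q s a = 0) ∧ Q a ≠ 0 := by
  by_contra hc
  push Not at hc
  set P := LinearMap.BilinForm.orthogonal (polarBilin Q) S with hP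
  have h1 := LinearMap.BilinForm.finrank_orthogonal hQ S
  have h2 := LinearMap.BilinForm.finrank_orthogonal hQ P
  have hle : P ≤ LinearMap.BilinForm.orthogonal (polarBilin Q) P := by
    intro a ha b hb
    show polar Q b a = 0
    simp [polar, hc a ha, hc b hb, hc _ (P.add_mem hb ha)]
  have h3 := Submodule.finrank_mono hle
  rw [← hP] at h1
  omega

theorem span_pair_singular {d w : V} (hd : Q d = 0) (hw : Q w = 0) (hdw : polar Q d w = 0) :
    ∀ x ∈ Submodule.span F ({d, w} : Set V), ∀ y ∈ Submodule.span F ({d, w} : Set V),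
      polar Q x y = 0 := by
  intro x hx y hy
  obtain ⟨a, b, rfl⟩ := Submodule.mem_span_pair.mp hx
  obtain ⟨c, e, rfl⟩ := Submodule.mem_span_pair.mp hy
  simp [polar_add_left, polar_add_right, polar_smul_left, polar_smul_right, pol_self, hd, hw, hdw,
    polar_comm Q w d]

theorem siegel_mem (hQ : (polarBilin Q).Nondegenerate)
    (h : (∃ t : F, t ≠ 0 ∧ t ≠ 1) ∨ Module.finrank F V ≠ 4)
    {d w : V} (hd0 : d ≠ 0) (hd : Q d = 0) (hdw : polar Q d w = 0) :
    ∃ g ∈ Subgroup.closure (reflSet Q), ∀ u,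
      g u = u + (polar Q d u • w + (-(polar Q w u) - Q w * polar Q d u) • d) := by
  by_cases hw : Q w ≠ 0
  · exact siegel_mem_of_ne Q hd hdw hw
  push Not at hw
  by_cases hwd : w ∈ F ∙ d
  · obtain ⟨c, rfl⟩ := Submodule.mem_span_singleton.mp hwd
    refine ⟨1, one_mem _, fun u => ?_⟩
    rw [QuadraticMap.map_smul, hd, polar_smul_left]
    simp only [smul_eq_mul, mul_zero, zero_mul, sub_zero, LinearEquiv.coe_one, id_eq]
    module
  set S := Submodule.span F ({d, w} : Set V) with hS
  have hSd : Module.finrank F S = 2 := by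
    have hli : LinearIndependent F ![d, w] := by
      rw [LinearIndependent.pair_iff' hd0]
      exact fun a ha => hwd (Submodule.mem_span_singleton.mpr ⟨a, ha⟩)
    have := finrank_span_eq_card hli
    rw [Matrix.range_cons_cons_empty] at this
    simpa [hS] using this
  have h4 : 4 ≤ Module.finrank F V := by
    have h1 := LinearMap.BilinForm.finrank_orthogonal hQ S
    have h2 := Submodule.finrank_mono (show S ≤ LinearMap.BilinForm.orthogonal (polarBilin Q) S from
      fun y hy x hx => span_pair_singular Q hd hw hdw x hx y hy)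
    omega
  obtain ⟨a, had, ha1, ha2⟩ : ∃ a : V, polar Q d a = 0 ∧ Q a ≠ 0 ∧ Q (w - a) ≠ 0 := by
    have hsub : ∀ a : V, Q (w - a) = Q a - polar Q w a := fun a => by
      rw [sub_eq_add_neg, QuadraticMap.map_add Q, QuadraticMap.map_neg, hw, polar_neg_right]
      ring
    by_cases h5 : Module.finrank F V = 4
    · obtain ⟨t, ht0, ht1⟩ := h.resolve_right (not_not.mpr h5)
      obtain ⟨a, hao, ha⟩ := exists_anisotropic Q hQ (F ∙ d) (by
        rw [finrank_span_singleton hd0]; omega)
      have hda := hao d (Submodule.mem_span_singleton_self d)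
      by_cases hb : Q a - polar Q w a ≠ 0
      · exact ⟨a, hda, ha, by rwa [hsub]⟩
      · push Not at hb
        refine ⟨t • a, by rw [polar_smul_right, hda, smul_zero], ?_, ?_⟩
        · rw [QuadraticMap.map_smul]; exact mul_ne_zero (mul_ne_zero ht0 ht0) ha
        · rw [hsub, QuadraticMap.map_smul, polar_smul_right, ← sub_eq_zero.mp hb, smul_eq_mul,
            smul_eq_mul, show t * t * Q a - t * Q a = t * ((t - 1) * Q a) by ring]
          exact mul_ne_zero ht0 (mul_ne_zero (sub_ne_zero.mpr ht1) ha)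
    · obtain ⟨a, hao, ha⟩ := exists_anisotropic Q hQ S (by omega)
      refine ⟨a, hao d (Submodule.subset_span (Set.mem_insert _ _)), ha, ?_⟩
      rwa [hsub, hao w (Submodule.subset_span (Set.mem_insert_of_mem _ rfl)), sub_zero]
  obtain ⟨g₁, hg₁, h₁⟩ := siegel_mem_of_ne Q hd had ha1
  obtain ⟨g₂, hg₂, h₂⟩ := siegel_mem_of_ne Q hd (w := w - a)
    (by rw [polar_sub_right, hdw, had, sub_zero]) ha2
  refine ⟨g₁ * g₂, mul_mem hg₁ hg₂, fun u => ?_⟩
  show g₁ (g₂ u) = _
  have hsum : Q w = Q a + Q (w - a) + polar Q a (w - a) := by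
    rw [← QuadraticMap.map_add Q, add_sub_cancel]
  rw [h₁, h₂, hsum]
  simp only [polar_add_right, polar_smul_right, polar_sub_right, polar_sub_left, hdw, had, pol_self,
    hd, polar_comm Q a d, smul_eq_mul]
  match_scalars <;> ring

theorem scale_mem {d p : V} (hd : Q d = 0) (hp : Q p = 0) (hdp : polar Q d p = 1) {l : F}
    (hl : l ≠ 0) :
    ∃ g ∈ Subgroup.closure (reflSet Q), ∀ u,
      g u = u + (((l - 1) * polar Q p u) • d + ((l⁻¹ - 1) * polar Q d u) • p) := by
  have hQv : ∀ c : F, Q (d + (-c) • p) = -c := fun c => by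
    rw [QuadraticMap.map_add Q, QuadraticMap.map_smul, hd, hp, polar_smul_right, hdp]
    simp
  obtain ⟨g₁, hg₁, h₁⟩ := exists_refl Q (v := d + (-l) • p) (by rw [hQv]; exact neg_ne_zero.mpr hl)
  obtain ⟨g₂, hg₂, h₂⟩ := exists_refl Q (v := d + (-(1 : F)) • p)
    (by rw [hQv]; exact neg_ne_zero.mpr one_ne_zero)
  refine ⟨g₂ * g₁, mul_mem (Subgroup.subset_closure hg₂) (Subgroup.subset_closure hg₁), fun u => ?_⟩
  show g₂ (g₁ u) = _
  rw [h₂, h₁, hQv, hQv]
  simp only [polar_add_left, polar_smul_left, polar_add_right, polar_smul_right, pol_self, hd, hp,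
    hdp, polar_comm Q p d, smul_eq_mul]
  match_scalars <;> field_simp <;> ring

theorem move (hQ : (polarBilin Q).Nondegenerate)
    (h : (∃ t : F, t ≠ 0 ∧ t ≠ 1) ∨ Module.finrank F V ≠ 4) (X : Submodule F V) {x y : V}
    (hx : x ∉ X) (hy : y ∉ X) (hq : Q x = Q y) (hxy : ∀ z ∈ X, polar Q z x = polar Q z y) :
    ∃ g ∈ Subgroup.closure (reflSet Q), (∀ z ∈ X, g z = z) ∧ g x = y := by
  set B := polarBilin Q with hB
  have hB' : ∀ u v, B u v = polar Q u v := fun u v => rfl
  have hsurj : Function.Surjective B :=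
    (LinearMap.injective_iff_surjective_of_finrank_eq_finrank
      Subspace.dual_finrank_eq.symm).mp
      (LinearMap.ker_eq_bot.mp (LinearMap.separatingLeft_iff_ker_eq_bot.mp hQ.1))
  have hrefl : ∀ u v, B u v = 0 → B v u = 0 := fun u v h => by
    rw [hB', polar_comm, ← hB', h]
  obtain ⟨d, rfl⟩ : ∃ d, y = x + d := ⟨y - x, by abel⟩
  have hdX : ∀ z ∈ X, polar Q d z = 0 := fun z hz => by
    have h : polar Q z x = polar Q z (x + d) := hxy z hz
    rw [polar_add_right] at h
    rw [polar_comm]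
    linear_combination -h
  have hd : Q d + polar Q d x = 0 := by
    have := QuadraticMap.map_add Q x d
    rw [polar_comm Q x d] at this
    linear_combination -hq - this
  by_cases hd0 : d = 0
  · exact ⟨1, one_mem _, fun _ _ => rfl, by rw [hd0, add_zero]; rfl⟩
  by_cases hQd : Q d ≠ 0
  · obtain ⟨g, hg, hgu⟩ := exists_refl Q hQd
    refine ⟨g, Subgroup.subset_closure hg, fun z hz => ?_, ?_⟩
    · simp [hgu, hdX z hz]
    · rw [hgu, eq_neg_of_add_eq_zero_right hd]
      simp [hQd]
  push Not at hQd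
  have hxd : polar Q d x = 0 := by simpa [hQd] using hd
  have hdd : polar Q d d = 0 := by rw [pol_self, hQd, mul_zero]
  by_cases hex : ∃ w, (∀ s ∈ X ⊔ F ∙ d, B w s = 0) ∧ B w x ≠ 0
  · obtain ⟨w₀, hw₀, hw₀x⟩ := hex
    simp only [hB'] at hw₀ hw₀x
    set w := (-(polar Q w₀ x)⁻¹) • w₀ with hw
    have hwX : ∀ z ∈ X, polar Q w z = 0 := fun z hz => by
      simp [hw, polar_smul_left, hw₀ z (Submodule.mem_sup_left hz)]
    have hdw : polar Q d w = 0 := by
      rw [polar_comm, hw, polar_smul_left,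
        hw₀ d (Submodule.mem_sup_right (Submodule.mem_span_singleton_self d)), smul_zero]
    have hwx : polar Q w x = -1 := by simp [hw, polar_smul_left, hw₀x]
    obtain ⟨g, hg, hgu⟩ := siegel_mem Q hQ h hd0 hQd hdw
    refine ⟨g, hg, fun z hz => ?_, ?_⟩
    · simp [hgu, hwX z hz, hdX z hz]
    · simp [hgu, hxd, hwx]
  · push Not at hex
    have hxS := mem_of_annihilator B hsurj hrefl _ x hex
    obtain ⟨z₀, hz₀, b, hb, rfl⟩ := Submodule.mem_sup.mp hxS
    obtain ⟨c, rfl⟩ := Submodule.mem_span_singleton.mp hb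
    have hc : c ≠ 0 := fun h => hx (by simpa [h] using hz₀)
    have hc1 : c + 1 ≠ 0 := fun h => hy (by
      have : z₀ + c • d + d = z₀ := by
        rw [add_assoc, show c • d + d = (c + 1) • d by rw [add_smul, one_smul], h, zero_smul,
          add_zero]
      simpa [this] using hz₀)
    have hdnot : d ∉ X := fun h => hx (X.add_mem hz₀ (X.smul_mem c h))
    obtain ⟨f₀, hf₀, hf₀d⟩ : ∃ f₀, (∀ s ∈ X, B f₀ s = 0) ∧ B f₀ d ≠ 0 := by
      by_contra hh
      push Not at hh
      exact hdnot (mem_of_annihilator B hsurj hrefl _ d hh)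
    simp only [hB'] at hf₀ hf₀d
    set e := (polar Q f₀ d)⁻¹ • f₀ with he
    have hed : polar Q e d = 1 := by simp [he, polar_smul_left, hf₀d]
    have heX : ∀ z ∈ X, polar Q e z = 0 := fun z hz => by simp [he, polar_smul_left, hf₀ z hz]
    clear_value e
    set p := e + (-(Q e)) • d with hp
    have hdp : polar Q d p = 1 := by
      simp [hp, polar_add_right, polar_smul_right, polar_comm Q d e, hed, hdd]
    have hQp : Q p = 0 := by
      rw [hp, QuadraticMap.map_add Q, QuadraticMap.map_smul, hQd, polar_smul_right, hed]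
      simp
    have hpX : ∀ z ∈ X, polar Q p z = 0 := fun z hz => by
      simp [hp, polar_add_left, polar_smul_left, heX z hz, hdX z hz]
    obtain ⟨g, hg, hgu⟩ := scale_mem Q hQd hQp hdp (l := (c + 1) / c) (div_ne_zero hc1 hc)
    refine ⟨g, hg, fun z hz => ?_, ?_⟩
    · simp [hgu, hpX z hz, hdX z hz]
    · rw [hgu, polar_add_right, polar_smul_right, polar_add_right, polar_smul_right,
        hpX z₀ hz₀, hdX z₀ hz₀, polar_comm Q p d, hdp, hdd]
      simp only [smul_eq_mul]
      match_scalars <;> field_simp <;> ring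

/-- Every isometry is a product of reflections, unless the space is four-dimensional over the
field of two elements. -/
theorem isometry_mem (hQ : (polarBilin Q).Nondegenerate)
    (h : (∃ t : F, t ≠ 0 ∧ t ≠ 1) ∨ Module.finrank F V ≠ 4) (f : V ≃ₗ[F] V)
    (hf : ∀ v, Q (f v) = Q v) : f ∈ Subgroup.closure (reflSet Q) := by
  obtain ⟨g, hg, hgX⟩ := extend_of_move (Subgroup.closure (reflSet Q))
    (fun X φ => Function.Injective φ ∧ ∀ x : X, Q (φ x) = Q (x : V)) (fun _ _ h => h.1)
    (fun X X' h φ hφ => ⟨hφ.1.comp (Submodule.inclusion_injective h), fun x => hφ.2 _⟩)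
    (fun X φ hφ g hg => ⟨g.injective.comp hφ.1, fun x => by
      have hg' : ∀ v, Q (g v) = Q v := closure_le Q hg
      show Q (g (φ x)) = _; rw [hg', hφ.2]⟩)
    (by
      intro X φ hφ X' hle hfix x hx hy
      refine move Q hQ h X' hx hy (hφ.2 x).symm fun z hz => ?_
      have h := hφ.2 (⟨z, hle hz⟩ + x)
      simp only [_root_.map_add, hfix ⟨z, hle hz⟩ hz, Submodule.coe_add] at h
      simp only [QuadraticMap.polar, h, hφ.2 x])
    ⊤ (f.toLinearMap.comp (Submodule.subtype ⊤))
    ⟨f.injective.comp Subtype.val_injective, fun x => hf _⟩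
  have : g = f := LinearEquiv.ext fun v => hgX ⟨v, trivial⟩
  exact this ▸ hg

/-- Matrix version. -/
theorem matrix_closure {ι : Type} [Fintype ι] [DecidableEq ι] (Q : QuadraticForm F (ι → F))
    (hQ : (polarBilin Q).Nondegenerate)
    (h : (∃ t : F, t ≠ 0 ∧ t ≠ 1) ∨ Fintype.card ι ≠ 4) :
    Subgroup.closure {g : ↥(Cfsg.isometryGroup F ⇑Q) | ∃ v : ι → F, Q v ≠ 0 ∧
      ((g : Matrix.GeneralLinearGroup ι F) : Matrix ι ι F) = Cfsg.reflectionMatrix ⇑Q v} = ⊤ := by
  let Ψ : Cfsg.isometryGroup F ⇑Q →* ((ι → F) ≃ₗ[F] (ι → F)) :=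
    ((LinearMap.GeneralLinearGroup.generalLinearEquiv F (ι → F)).toMonoidHom.comp
      Matrix.GeneralLinearGroup.toLin.toMonoidHom).comp (Cfsg.isometryGroup F ⇑Q).subtype
  have hΨ : ∀ g v, Ψ g v = g.1.1.mulVec v := fun g v => rfl
  have hinj : Function.Injective Ψ := fun a b hab =>
    Subtype.ext (Units.ext (Matrix.ext_of_mulVec_single fun i => by rw [← hΨ, ← hΨ, hab]))
  set S := {g : ↥(Cfsg.isometryGroup F ⇑Q) | ∃ v : ι → F, Q v ≠ 0 ∧
      ((g : Matrix.GeneralLinearGroup ι F) : Matrix ι ι F) = Cfsg.reflectionMatrix ⇑Q v}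
  rw [eq_top_iff]
  intro g _
  have hle : Subgroup.closure (reflSet Q) ≤ (Subgroup.closure S).map Ψ := by
    rw [Subgroup.closure_le]
    rintro r ⟨v, hv, hr⟩
    have hr' : ∀ x, (LinearMap.toMatrix' (r : (ι → F) →ₗ[F] (ι → F))).mulVec x = r x :=
      fun x => LinearMap.toMatrix'_mulVec _ _
    refine ⟨⟨Matrix.GeneralLinearGroup.mkOfDetNeZero
      (LinearMap.toMatrix' (r : (ι → F) →ₗ[F] (ι → F)))
      (by rw [LinearMap.det_toMatrix']; exact r.isUnit_det'.ne_zero), fun x _ => ?_⟩, ?_, ?_⟩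
    · show Q ((LinearMap.toMatrix' _).mulVec x) = Q x
      rw [hr']
      exact closure_le Q (Subgroup.subset_closure ⟨v, hv, hr⟩) x
    · refine Subgroup.subset_closure ⟨v, hv, Matrix.ext_of_mulVec_single fun i => ?_⟩
      show (LinearMap.toMatrix' _).mulVec _ = _
      rw [hr', hr, CfsgLib.PolarVec.reflection_mulVec]
    · exact LinearEquiv.ext fun x => (hΨ _ x).trans (hr' x)
  obtain ⟨g', hg', he⟩ := hle (isometry_mem Q hQ (by rwa [Module.finrank_pi]) (Ψ g)
    (fun v => by rw [hΨ]; exact g.2 v v))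
  exact hinj he ▸ hg'

end CfsgLib.ReflectionGen
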