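import Mathlib
import Cfsg.Agent.Lib.ReflectionGen
import Cfsg.Agent.Lib.OrthOrderBase

/-! Dickson invariant, a spinor character by permutation signs, and the derived group of `O(Q)`. -/

set_option autoImplicit false

namespace CfsgLib.SpinorNorm

open QuadraticMap CfsgLib.WittExtension Module

variable {F V : Type*} [Field F] [AddCommGroup V] [Module F V] (Q : QuadraticForm F V)

/-- A reflection as an isometry. -/
noncomputable def refl {v : V} (hv : Q v ≠ 0) : quadIso Q :=
  ⟨(ReflectionGen.exists_refl Q hv).choose, ReflectionGen.closure_le Q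
    (Subgroup.subset_closure (ReflectionGen.exists_refl Q hv).choose_spec.1)⟩

theorem refl_apply {v : V} (hv : Q v ≠ 0) (u : V) :
    (refl Q hv).1 u = u + (-((Q v)⁻¹ * polar Q v u)) • v :=
  (ReflectionGen.exists_refl Q hv).choose_spec.2 u

theorem refl_mul_self {v : V} (hv : Q v ≠ 0) : refl Q hv * refl Q hv = 1 := by
  refine Subtype.ext (LinearEquiv.ext fun u => ?_)
  show (refl Q hv).1 ((refl Q hv).1 u) = u
  simp only [refl_apply, polar_add_right, polar_smul_right, ReflectionGen.pol_self, smul_eq_mul]
  match_scalars <;> field_simp <;> ring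

theorem refl_inv {v : V} (hv : Q v ≠ 0) : (refl Q hv)⁻¹ = refl Q hv :=
  inv_eq_of_mul_eq_one_right (refl_mul_self Q hv)

/-- The set of all reflections. -/
def Refl : Set (quadIso Q) := {g | ∃ (v : V) (hv : Q v ≠ 0), g = refl Q hv}

variable [FiniteDimensional F V]

theorem closure_refl (hQ : (polarBilin Q).Nondegenerate)
    (h : (∃ t : F, t ≠ 0 ∧ t ≠ 1) ∨ finrank F V ≠ 4) : Subgroup.closure (Refl Q) = ⊤ := by
  rw [eq_top_iff]
  intro g _
  have hle : Subgroup.closure (ReflectionGen.reflSet Q) ≤
      (Subgroup.closure (Refl Q)).map (quadIso Q).subtype := by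
    rw [Subgroup.closure_le]
    rintro r ⟨v, hv, hr⟩
    exact ⟨refl Q hv, Subgroup.subset_closure ⟨v, hv, rfl⟩,
      LinearEquiv.ext fun u => (refl_apply Q hv u).trans (hr u).symm⟩
  obtain ⟨g', hg', he⟩ := hle (ReflectionGen.isometry_mem Q hQ h g.1 g.2)
  exact (Subtype.ext he : g' = g) ▸ hg'

omit [FiniteDimensional F V] in
theorem closure_induction_refl (hc : Subgroup.closure (Refl Q) = ⊤) (p : quadIso Q → Prop)
    (h1 : p 1) (hr : ∀ (v : V) (hv : Q v ≠ 0) (g : quadIso Q), p g → p (refl Q hv * g))
    (g : quadIso Q) : p g := by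
  have hg : g ∈ Subgroup.closure (Refl Q) := hc ▸ trivial
  induction hg using Subgroup.closure_induction_left with
  | one => exact h1
  | mul_left x hx y _ ih =>
    obtain ⟨v, hv, rfl⟩ := hx
    exact hr v hv y ih
  | inv_mul_cancel x hx y _ ih =>
    obtain ⟨v, hv, rfl⟩ := hx
    rw [refl_inv]
    exact hr v hv y ih

/-! ### The Dickson invariant -/

/-- The fixed space of an isometry. -/
def fixSpace (g : quadIso Q) : Submodule F V := LinearMap.ker ((g.1 : V →ₗ[F] V) - LinearMap.id)

omit [FiniteDimensional F V] in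
theorem mem_fix {g : quadIso Q} {x : V} : x ∈ fixSpace Q g ↔ g.1 x = x := by
  simp [fixSpace, sub_eq_zero]

theorem finrank_fix_refl_mul (hQ : (polarBilin Q).Nondegenerate) {v : V} (hv : Q v ≠ 0)
    (g : quadIso Q) :
    finrank F (fixSpace Q (refl Q hv * g)) + 1 = finrank F (fixSpace Q g) ∨
      finrank F (fixSpace Q (refl Q hv * g)) = finrank F (fixSpace Q g) + 1 := by
  have hgp : ∀ x y, polar Q (g.1 x) (g.1 y) = polar Q x y := fun x y =>
    OrthOrder.polar_map g.2 x y
  have happ : ∀ x, (refl Q hv * g).1 x = g.1 x + (-((Q v)⁻¹ * polar Q v (g.1 x))) • v := fun x =>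
    refl_apply Q hv _
  set f : V →ₗ[F] V := (g.1 : V →ₗ[F] V) - LinearMap.id with hf
  have hfa : ∀ x, f x = g.1 x - x := fun x => rfl
  by_cases hvr : v ∈ LinearMap.range f
  · right
    obtain ⟨x₀, hx₀⟩ := hvr
    have hgx₀ : g.1 x₀ = x₀ + v := by rw [← hx₀, hfa]; abel
    have hx₀v : polar Q v x₀ = -(Q v) := by
      have h := (g.2 x₀).symm.trans (congrArg Q hgx₀) |>.symm
      have h' : Q (x₀ + v) = Q x₀ := by rw [← hgx₀]; exact g.2 x₀
      rw [QuadraticMap.map_add Q, polar_comm Q x₀ v] at h'
      linear_combination h'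
    have hperp : ∀ x ∈ fixSpace Q g, polar Q v x = 0 := fun x hx => by
      have h := hgp x₀ x
      rw [hgx₀, (mem_fix Q).mp hx, polar_add_left] at h
      linear_combination h
    have hx₀n : x₀ ∉ fixSpace Q g := fun h => by
      rw [mem_fix, hgx₀, add_eq_left] at h
      exact hv (by rw [h, QuadraticMap.map_zero])
    have e : fixSpace Q (refl Q hv * g) = fixSpace Q g ⊔ F ∙ x₀ := by
      apply le_antisymm
      · intro x hx
        rw [mem_fix, happ] at hx
        set s := (Q v)⁻¹ * polar Q v (g.1 x)
        have hxs : x - s • x₀ ∈ fixSpace Q g := by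
          rw [mem_fix, map_sub, map_smul, hgx₀]
          have : g.1 x = x + s • v := by
            conv_rhs => rw [← hx]
            module
          rw [this]; module
        have := Submodule.add_mem_sup hxs (Submodule.smul_mem (F ∙ x₀) s (Submodule.mem_span_singleton_self x₀))
        simpa using this
      · refine sup_le (fun x hx => ?_) ((Submodule.span_singleton_le_iff_mem _ _).mpr ?_)
        · rw [mem_fix, happ, (mem_fix Q).mp hx, hperp x hx]
          simp
        · rw [mem_fix, happ, hgx₀, polar_add_right, hx₀v, ReflectionGen.pol_self]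
          match_scalars <;> field_simp <;> ring
    have h1 := Submodule.finrank_sup_add_finrank_inf_eq (fixSpace Q g) (F ∙ x₀)
    have hx₀0 : x₀ ≠ 0 := fun h => hx₀n (by rw [h]; exact Submodule.zero_mem _)
    rw [disjoint_iff.mp ((Submodule.disjoint_span_singleton' hx₀0).mpr hx₀n), finrank_bot,
      finrank_span_singleton hx₀0] at h1
    rw [e]
    omega
  · left
    have hW : ∃ z ∈ fixSpace Q g, polar Q v z ≠ 0 := by
      by_contra h
      push Not at h
      apply hvr
      have hle : LinearMap.range f ≤ LinearMap.BilinForm.orthogonal (polarBilin Q) (fixSpace Q g) := by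
        rintro _ ⟨x, rfl⟩ z hz
        show polar Q z (f x) = 0
        have := hgp z x
        rw [(mem_fix Q).mp hz] at this
        rw [hfa, polar_sub_right, this, sub_self]
      have hr := LinearMap.finrank_range_add_finrank_ker f
      have ho := LinearMap.BilinForm.finrank_orthogonal hQ (fixSpace Q g)
      have : LinearMap.range f = LinearMap.BilinForm.orthogonal (polarBilin Q) (fixSpace Q g) := by
        refine Submodule.eq_of_le_of_finrank_eq hle ?_
        have hk : finrank F (fixSpace Q g) = finrank F (LinearMap.ker f) := rfl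
        omega
      rw [this]
      intro z hz
      show polar Q z v = 0
      rw [polar_comm, h z hz]
    obtain ⟨z₀, hz₀, hz₀v⟩ := hW
    set φ : fixSpace Q g →ₗ[F] F := (polarBilin Q v).comp (fixSpace Q g).subtype with hφ
    have e : fixSpace Q (refl Q hv * g) = (LinearMap.ker φ).map (fixSpace Q g).subtype := by
      apply le_antisymm
      · intro x hx
        rw [mem_fix, happ] at hx
        set s := (Q v)⁻¹ * polar Q v (g.1 x) with hs
        have hgx : g.1 x = x + s • v := by
          conv_rhs => rw [← hx]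
          module
        have hs0 : s = 0 := by
          by_contra hne
          refine hvr ⟨s⁻¹ • x, ?_⟩
          rw [map_smul, hfa, hgx, add_sub_cancel_left, smul_smul, inv_mul_cancel₀ hne, one_smul]
        have hgx' : g.1 x = x := by rw [hgx, hs0, zero_smul, add_zero]
        refine ⟨⟨x, (mem_fix Q).mpr hgx'⟩, ?_, rfl⟩
        rw [hs, hgx', mul_eq_zero] at hs0
        exact hs0.resolve_left (inv_ne_zero hv)
      · rintro _ ⟨x, hx, rfl⟩
        have hx' : polar Q v (x : V) = 0 := hx
        rw [mem_fix, happ]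
        simp [(mem_fix Q).mp x.2, hx']
    have h1 := LinearMap.finrank_range_add_finrank_ker φ
    rw [LinearMap.range_eq_top.mpr (LinearMap.surjective fun h =>
      hz₀v (LinearMap.congr_fun h ⟨z₀, hz₀⟩)), finrank_top, Module.finrank_self] at h1
    rw [e, Submodule.finrank_map_subtype_eq]
    omega

/-- The Dickson invariant, as a sign. -/
noncomputable def dickson (g : quadIso Q) : ℤˣ := (-1) ^ (finrank F V + finrank F (fixSpace Q g))

theorem dickson_refl_mul (hQ : (polarBilin Q).Nondegenerate) {v : V} (hv : Q v ≠ 0)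
    (g : quadIso Q) : dickson Q (refl Q hv * g) = -dickson Q g := by
  rcases finrank_fix_refl_mul Q hQ hv g with h | h
  · rw [dickson, dickson, ← h, ← add_assoc, pow_succ, mul_neg, mul_one, neg_neg]
  · rw [dickson, dickson, h, ← add_assoc, pow_succ, mul_neg, mul_one]

omit [FiniteDimensional F V] in
theorem dickson_one [FiniteDimensional F V] : dickson Q (1 : quadIso Q) = 1 := by
  have : fixSpace Q (1 : quadIso Q) = ⊤ := by
    ext x; simp [mem_fix]
  rw [dickson, this, finrank_top, ← two_mul, pow_mul]
  simp

/-- The Dickson invariant as a homomorphism. -/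
noncomputable def dicksonHom (hQ : (polarBilin Q).Nondegenerate)
    (hc : Subgroup.closure (Refl Q) = ⊤) : quadIso Q →* ℤˣ where
  toFun := dickson Q
  map_one' := dickson_one Q
  map_mul' g g' := by
    refine closure_induction_refl Q hc
      (fun a => ∀ b, dickson Q (a * b) = dickson Q a * dickson Q b) (fun b => ?_)
      (fun v hv a ha b => ?_) g g'
    · rw [one_mul, dickson_one, one_mul]
    · rw [mul_assoc, dickson_refl_mul Q hQ hv, ha, dickson_refl_mul Q hQ hv, neg_mul]

theorem dicksonHom_refl (hQ : (polarBilin Q).Nondegenerate) (hc : Subgroup.closure (Refl Q) = ⊤)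
    {v : V} (hv : Q v ≠ 0) : dicksonHom Q hQ hc (refl Q hv) = -1 := by
  show dickson Q (refl Q hv) = -1
  rw [← mul_one (refl Q hv), dickson_refl_mul Q hQ hv, dickson_one]

/-! ### The sign character on a level set -/

section Sign

variable [Fintype F] [Fintype V] [DecidableEq V] [DecidableEq F]

omit [FiniteDimensional F V] [Fintype F] in
/-- The permutation of a level set. -/
def levelPerm (c : F) : quadIso Q →* Equiv.Perm {x : V // Q x = c} where
  toFun g := Equiv.subtypeEquiv g.1.toEquiv fun x => by
    show Q x = c ↔ Q (g.1 x) = c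
    rw [g.2]
  map_one' := Equiv.ext fun x => rfl
  map_mul' g g' := Equiv.ext fun x => rfl

/-- The sign character on a level set. -/
def levelSign (c : F) : quadIso Q →* ℤˣ := Equiv.Perm.sign.comp (levelPerm Q c)

omit [FiniteDimensional F V] in
theorem levelSign_refl (h2 : (2 : F) ≠ 0) {v : V} (hv : Q v ≠ 0) {c : F} (hc : c ≠ 0) :
    levelSign Q c (refl Q hv) = if IsSquare (c * Q v) then -1 else 1 := by
  classical
  set σ := levelPerm Q c (refl Q hv) with hσdef
  have hσ : σ ^ 2 = 1 := by rw [hσdef, ← map_pow, pow_two, refl_mul_self, map_one]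
  show Equiv.Perm.sign σ = _
  rw [Equiv.Perm.sign_of_pow_two_eq_one hσ]
  have hσa : ∀ x, ((σ x : {x : V // Q x = c}) : V) = x + (-((Q v)⁻¹ * polar Q v x)) • v :=
    fun x => refl_apply Q hv x.1
  have hv0 : v ≠ 0 := fun h => hv (by rw [h, QuadraticMap.map_zero])
  have hfix : ∀ x, σ x = x ↔ polar Q v x.1 = 0 := fun x => by
    rw [Subtype.ext_iff, hσa, add_eq_left, smul_eq_zero, or_iff_left hv0, neg_eq_zero, mul_eq_zero,
      or_iff_right (inv_ne_zero hv)]
  -- the moved points
  set M : Finset {x : V // Q x = c} := Finset.univ.filter fun x => polar Q v x.1 ≠ 0 with hM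
  have hcount : Fintype.card {x : V // Q x = c} - Fintype.card (Function.fixedPoints σ) = M.card := by
    have h1 : Fintype.card (Function.fixedPoints σ) =
        (Finset.univ.filter fun x : {x : V // Q x = c} => ¬ polar Q v x.1 ≠ 0).card := by
      rw [← Fintype.card_subtype]
      refine Fintype.card_congr (Equiv.subtypeEquivRight fun x => ?_)
      rw [not_not, ← hfix]; rfl
    rw [h1, hM, ← Finset.card_univ,
      ← Finset.card_filter_add_card_filter_not (s := Finset.univ) (fun x : {x : V // Q x = c} => polar Q v x.1 ≠ 0)]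
    omega
  rw [hcount]
  set M₀ := M.filter fun x => x.1 ∈ F ∙ v with hM₀
  set M₁ := M.filter fun x => ¬ x.1 ∈ F ∙ v with hM₁
  have hsplit : M₀.card + M₁.card = M.card := Finset.card_filter_add_card_filter_not _
  -- the points off the line come in fours
  have h4 : 4 ∣ M₁.card := by
    let e := Fintype.equivFin F
    set A := M₁.filter fun x => e (polar Q v x.1) < e (-(polar Q v x.1)) with hA
    have hpol : ∀ x, polar Q v (σ x).1 = -(polar Q v x.1) := fun x => by
      rw [hσa, polar_add_right, polar_smul_right, ReflectionGen.pol_self, smul_eq_mul]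
      field_simp
      ring
    have hline : ∀ x, (σ x).1 ∈ F ∙ v ↔ x.1 ∈ F ∙ v := fun x => by
      rw [hσa]
      exact Submodule.add_mem_iff_left _ (Submodule.smul_mem _ _ (Submodule.mem_span_singleton_self v))
    have hmemM : ∀ x, σ x ∈ M₁ ↔ x ∈ M₁ := fun x => by
      simp [hM₁, hM, hpol, hline]
    have hσσ : ∀ x, σ (σ x) = x := fun x => by
      rw [← Equiv.Perm.mul_apply, ← pow_two, hσ]; rfl
    have hBA : (M₁.filter fun x => ¬ e (polar Q v x.1) < e (-(polar Q v x.1))) = A.image σ := by
      ext x
      simp only [Finset.mem_image, Finset.mem_filter, hA]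
      constructor
      · rintro ⟨hx, hlt⟩
        refine ⟨σ x, ⟨(hmemM x).mpr hx, ?_⟩, hσσ x⟩
        rw [hpol, neg_neg]
        refine lt_of_le_of_ne (not_lt.mp hlt) fun h => ?_
        have hx0 : polar Q v x.1 ≠ 0 := by
          simp [hM₁, hM] at hx; exact hx.1
        exact hx0 ((mul_eq_zero.mp (by linear_combination -(e.injective h) :
          (2 : F) * polar Q v x.1 = 0)).resolve_left h2)
      · rintro ⟨y, ⟨hy, hlt⟩, rfl⟩
        refine ⟨(hmemM y).mpr hy, ?_⟩
        rw [hpol, neg_neg]
        exact not_lt.mpr hlt.le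
    have hB : M₁.card = A.card + A.card := by
      conv_lhs => rw [← Finset.card_filter_add_card_filter_not
        (s := M₁) (fun x => e (polar Q v x.1) < e (-(polar Q v x.1))), ← hA, hBA,
        Finset.card_image_of_injective _ σ.injective]
    -- a fixed-point-free involution of `A`
    have hneg : ∀ x : {x : V // Q x = c}, Q (-(σ x).1) = c := fun x => by
      rw [QuadraticMap.map_neg]; exact (σ x).2
    let τ : {x // x ∈ A} → {x // x ∈ A} := fun x => ⟨⟨-(σ x.1).1, hneg x.1⟩, by
      have hx := x.2
      simp only [hA, Finset.mem_filter] at hx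
      simp only [hA, Finset.mem_filter, polar_neg_right, hpol, neg_neg]
      refine ⟨?_, hx.2⟩
      have h1 := (hmemM x.1).mpr hx.1
      simp [hM₁, hM, polar_neg_right, hpol, Submodule.neg_mem_iff] at h1 ⊢
      exact h1⟩
    have hττ : Function.Involutive τ := fun x => by
      apply Subtype.ext; apply Subtype.ext
      show -(σ (⟨-(σ x.1).1, hneg x.1⟩ : {x : V // Q x = c})).1 = x.1.1
      rw [hσa]
      show -(-(σ x.1).1 + (-((Q v)⁻¹ * polar Q v (-(σ x.1).1))) • v) = x.1.1
      rw [polar_neg_right, hpol, hσa]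
      module
    have hfp : ∀ x, τ x ≠ x := fun x h => by
      have h' : -(σ x.1).1 = x.1.1 := congrArg (fun y => y.1.1) h
      rw [hσa] at h'
      have hx := x.2
      simp only [hA, hM₁, hM, Finset.mem_filter, Finset.mem_univ, true_and] at hx
      refine hx.1.2 (Submodule.mem_span_singleton.mpr
        ⟨(2 : F)⁻¹ * ((Q v)⁻¹ * polar Q v x.1.1), ?_⟩)
      have hh : (2 : F) • x.1.1 = ((Q v)⁻¹ * polar Q v x.1.1) • v := by
        conv_lhs => rw [two_smul]
        nth_rewrite 1 [← h']
        module
      rw [mul_smul, ← hh, inv_smul_smul₀ h2]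
    have hτ2 : (hττ.toPerm τ) ^ 2 = 1 := by
      ext x; rw [pow_two, Equiv.Perm.mul_apply]; simp [hττ x]
    have h := Equiv.Perm.two_dvd_card_support hτ2
    have hsupp : (hττ.toPerm τ).support = Finset.univ := by
      ext x; simp [hfp x]
    rw [hsupp, Finset.card_univ, Fintype.card_coe] at h
    rw [hB]
    omega
  have h0 : M₀.card = if IsSquare (c * Q v) then 2 else 0 := by
    split_ifs with hs
    · obtain ⟨s, hs⟩ := hs
      set t := s / Q v
      have ht : ∀ ε : F, ε * ε = 1 → Q ((ε * t) • v) = c := fun ε hε => by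
        rw [QuadraticMap.map_smul, smul_eq_mul]
        have : t * t * Q v = c := by
          simp only [t]; field_simp; linear_combination -hs
        linear_combination (t * t * Q v) * hε + this
      have hs0 : t ≠ 0 := by
        refine div_ne_zero (fun h => ?_) hv
        rw [h, mul_zero, mul_eq_zero] at hs
        exact hs.elim hc hv
      have hne : (1 : F) • t ≠ (-1 : F) • t := fun h => h2 (by
        simp only [smul_eq_mul] at h
        exact (mul_eq_zero.mp (by linear_combination h : (2 : F) * t = 0)).resolve_right hs0)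
      have : M₀ = {⟨((1 : F) * t) • v, ht 1 (one_mul 1)⟩, ⟨((-1 : F) * t) • v, ht (-1) (by ring)⟩} := by
        ext x
        simp only [hM₀, hM, Finset.mem_filter, Finset.mem_univ, true_and, Finset.mem_insert,
          Finset.mem_singleton]
        constructor
        · rintro ⟨-, hx⟩
          obtain ⟨a, ha⟩ := Submodule.mem_span_singleton.mp hx
          have hq := x.2
          rw [← ha, QuadraticMap.map_smul, smul_eq_mul] at hq
          have : (a - t) * (a + t) = 0 := by
            have ht' : t * t * Q v = c := by simp only [t]; field_simp; linear_combination -hs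
            exact (mul_eq_zero.mp (by linear_combination hq - ht' :
              (a - t) * (a + t) * Q v = 0)).resolve_right hv
          rcases mul_eq_zero.mp this with h | h
          · exact Or.inl (Subtype.ext (by rw [← ha, show a = 1 * t by linear_combination h]))
          · exact Or.inr (Subtype.ext (by rw [← ha, show a = -1 * t by linear_combination h]))
        · rintro (rfl | rfl) <;> refine ⟨?_, Submodule.smul_mem _ _ (Submodule.mem_span_singleton_self v)⟩ <;>
            simp [polar_smul_right, ReflectionGen.pol_self, hs0, h2, hv]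
      rw [this, Finset.card_pair fun h => hne (smul_left_injective F hv0 (congrArg Subtype.val h))]
    · rw [Finset.card_eq_zero, Finset.eq_empty_iff_forall_notMem]
      intro x hx
      simp only [hM₀, hM, Finset.mem_filter, Finset.mem_univ, true_and] at hx
      obtain ⟨a, ha⟩ := Submodule.mem_span_singleton.mp hx.2
      refine hs ⟨a * Q v, ?_⟩
      have hq := x.2
      rw [← ha, QuadraticMap.map_smul, smul_eq_mul] at hq
      rw [← hq]
      ring
  obtain ⟨k, hk⟩ := h4
  rw [← hsplit, h0, hk]
  split_ifs
  · rw [show (2 + 4 * k) / 2 = 2 * k + 1 by omega, pow_succ, pow_mul]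
    simp
  · rw [show (0 + 4 * k) / 2 = 2 * k by omega, pow_mul]
    simp

omit [FiniteDimensional F V] in
theorem levelSign_neg (h2 : (2 : F) ≠ 0) {c : F} (hc : c ≠ 0) (g : quadIso Q)
    (hg : ∀ x, g.1 x = -x) :
    levelSign Q c g = (-1) ^ (Fintype.card {x : V // Q x = c} / 2) := by
  classical
  set σ := levelPerm Q c g with hσd
  have hσa : ∀ x : {x : V // Q x = c}, (σ x).1 = -x.1 := fun x => hg x.1
  have hσ : σ ^ 2 = 1 := Equiv.ext fun x => Subtype.ext (by
    rw [pow_two, Equiv.Perm.mul_apply, hσa, hσa, neg_neg]; rfl)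
  show Equiv.Perm.sign σ = _
  rw [Equiv.Perm.sign_of_pow_two_eq_one hσ]
  have : Fintype.card (Function.fixedPoints σ) = 0 := by
    rw [Fintype.card_eq_zero_iff]
    refine ⟨fun x => hc ?_⟩
    have h : -x.1.1 = x.1.1 := (hσa x.1).symm.trans (congrArg Subtype.val x.2)
    have h0 : (2 : F) • x.1.1 = 0 := by
      rw [two_smul]; nth_rewrite 1 [← h]; exact neg_add_cancel _
    rw [← x.1.2, (smul_eq_zero.mp h0).resolve_left h2, QuadraticMap.map_zero]
  rw [this, Nat.sub_zero]

end Sign

/-! ### The abelianisation -/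

/-- Isometries are transitive on the vectors of a given non-zero value. -/
theorem vec_transitive (hQ : (polarBilin Q).Nondegenerate) {u v : V} (hu : Q u ≠ 0) (h : Q u = Q v) :
    ∃ g ∈ quadIso Q, g u = v := by
  have hu0 : u ≠ 0 := fun e => hu (by rw [e, QuadraticMap.map_zero])
  have hv0 : v ≠ 0 := fun e => hu (by rw [h, e, QuadraticMap.map_zero])
  let R := LinearEquiv.toSpanNonzeroSingleton F V u hu0
  obtain ⟨g, hg, hgX⟩ := quad_extend Q hQ (F ∙ u)
    ((LinearMap.toSpanSingleton F V v).comp R.symm.toLinearMap)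
    ((smul_left_injective F hv0).comp R.symm.injective)
    (fun x => by
      obtain ⟨c, rfl⟩ := R.surjective x
      show Q ((R.symm (R c)) • v) = Q (c • u)
      rw [R.symm_apply_apply, QuadraticMap.map_smul, QuadraticMap.map_smul, h])
  refine ⟨g, hg, ?_⟩
  have := hgX (R 1)
  simp only [LinearMap.comp_apply, LinearEquiv.coe_coe, R.symm_apply_apply,
    LinearMap.toSpanSingleton_apply, one_smul] at this
  rwa [show ((R 1 : F ∙ u) : V) = u from one_smul F u] at this

/-- Reflections in vectors of the same square class are conjugate. -/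
theorem refl_conj (hQ : (polarBilin Q).Nondegenerate) {u v : V} (hu : Q u ≠ 0) (hv : Q v ≠ 0)
    {s : F} (h : Q v = s * s * Q u) : ∃ g : quadIso Q, g * refl Q hu * g⁻¹ = refl Q hv := by
  have hs : s ≠ 0 := fun e => hv (by rw [h, e]; ring)
  have hsu : Q (s • u) = Q v := by rw [QuadraticMap.map_smul, smul_eq_mul, h]
  obtain ⟨g, hg, hgu⟩ := vec_transitive Q hQ (by rw [hsu]; exact hv) hsu
  refine ⟨⟨g, hg⟩, Subtype.ext (LinearEquiv.ext fun x => ?_)⟩
  show g ((refl Q hu).1 (g.symm x)) = _
  rw [refl_apply, refl_apply, ← hgu]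
  have hp : polar Q (g (s • u)) x = s * polar Q u (g.symm x) := by
    conv_lhs => rw [← g.apply_symm_apply x]
    rw [OrthOrder.polar_map hg, polar_smul_left, smul_eq_mul]
  rw [hp, hg, QuadraticMap.map_smul, smul_eq_mul, map_add, map_smul, LinearEquiv.apply_symm_apply,
    map_smul g s u, smul_smul]
  congr 2
  field_simp

/-- The quotient by the derived group is generated by two involutions. -/
theorem abelianization_le (hQ : (polarBilin Q).Nondegenerate) (hc : Subgroup.closure (Refl Q) = ⊤)
    {a b : V} (ha : Q a ≠ 0) (hb : Q b ≠ 0)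
    (hcl : ∀ v : V, Q v ≠ 0 → ∃ s, Q v = s * s * Q a ∨ Q v = s * s * Q b) :
    ∀ x : quadIso Q ⧸ commutator (quadIso Q), x = 1 ∨ x = QuotientGroup.mk (refl Q ha) ∨
      x = QuotientGroup.mk (refl Q hb) ∨
      x = QuotientGroup.mk (refl Q ha) * QuotientGroup.mk (refl Q hb) := by
  set π := QuotientGroup.mk' (commutator (quadIso Q))
  have hcomm : ∀ x y : quadIso Q ⧸ commutator (quadIso Q), x * y = y * x := by
    have := Subgroup.Normal.quotient_commutative_iff_commutator_le.mpr
      (le_refl (commutator (quadIso Q)))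
    exact fun x y => this.is_comm.comm x y
  have hconj : ∀ {u v : V} (hu : Q u ≠ 0) (hv : Q v ≠ 0) (s : F), Q v = s * s * Q u →
      π (refl Q hv) = π (refl Q hu) := by
    intro u v hu hv s h
    obtain ⟨g, hg⟩ := refl_conj Q hQ hu hv h
    rw [← hg, map_mul, map_mul, map_inv, hcomm (π g), mul_inv_cancel_right]
  have hsq : ∀ {v : V} (hv : Q v ≠ 0), π (refl Q hv) * π (refl Q hv) = 1 := fun hv => by
    rw [← map_mul, refl_mul_self, map_one]
  intro x
  obtain ⟨g, rfl⟩ := QuotientGroup.mk'_surjective _ x
  refine closure_induction_refl Q hc (fun g => π g = 1 ∨ π g = π (refl Q ha) ∨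
    π g = π (refl Q hb) ∨ π g = π (refl Q ha) * π (refl Q hb)) (Or.inl (map_one _)) ?_ g
  intro v hv g hg
  rw [map_mul]
  obtain ⟨s, hs | hs⟩ := hcl v hv
  · rw [hconj ha hv s hs]
    rcases hg with h | h | h | h <;> rw [h]
    · exact Or.inr (Or.inl (mul_one _))
    · exact Or.inl (hsq ha)
    · exact Or.inr (Or.inr (Or.inr rfl))
    · exact Or.inr (Or.inr (Or.inl (by rw [← mul_assoc, hsq ha, one_mul])))
  · rw [hconj hb hv s hs]
    rcases hg with h | h | h | h <;> rw [h]
    · exact Or.inr (Or.inr (Or.inl (mul_one _)))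
    · exact Or.inr (Or.inr (Or.inr (hcomm _ _)))
    · exact Or.inl (hsq hb)
    · exact Or.inr (Or.inl (by rw [hcomm (π (refl Q ha)), ← mul_assoc, hsq hb, one_mul]))

end CfsgLib.SpinorNorm
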