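import Mathlib
import Cfsg.Agent.Lib.SpinorNorm
import Cfsg.Agent.Lib.FiniteForms.Congr

/-! The derived group of a matrix orthogonal group over a finite field. -/

set_option autoImplicit false

namespace CfsgLib.SpinorMatrix

open QuadraticMap CfsgLib.WittExtension Module CfsgLib.SpinorNorm

variable {F : Type*} [Field F]

section General

variable {V : Type*} [AddCommGroup V] [Module F V] [FiniteDimensional F V] (Q : QuadraticForm F V)

theorem exists_anisotropic_pos (hQ : (polarBilin Q).Nondegenerate) (hn : 0 < finrank F V) :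
    ∃ a, Q a ≠ 0 := by
  obtain ⟨a, -, ha⟩ := ReflectionGen.exists_anisotropic Q hQ ⊥ (by rw [finrank_bot]; omega)
  exact ⟨a, ha⟩

/-- A nondegenerate form in at least two variables over a finite field of odd order is universal. -/
theorem universal [Finite F] (h2 : (2 : F) ≠ 0) (hQ : (polarBilin Q).Nondegenerate)
    (hn : 2 ≤ finrank F V) {c : F} (hc : c ≠ 0) : ∃ v, Q v = c := by
  obtain ⟨a, ha⟩ := exists_anisotropic_pos Q hQ (by omega)
  obtain ⟨z, hza, hz⟩ : ∃ z, polar Q a z = 0 ∧ Q z ≠ 0 := by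
    by_contra h
    push Not at h
    set P := LinearMap.BilinForm.orthogonal (polarBilin Q) (F ∙ a) with hP
    have ha0 : a ≠ 0 := fun e => ha (by rw [e, QuadraticMap.map_zero])
    have hPd := LinearMap.BilinForm.finrank_orthogonal hQ (F ∙ a)
    rw [finrank_span_singleton ha0] at hPd
    have hle : P ≤ LinearMap.BilinForm.orthogonal (polarBilin Q) P := by
      intro y hy x hx
      have hx' : polar Q a x = 0 := hx a (Submodule.mem_span_singleton_self a)
      have hy' : polar Q a y = 0 := hy a (Submodule.mem_span_singleton_self a)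
      show polar Q x y = 0
      simp [polar, h x hx', h y hy', h (x + y) (by rw [polar_add_right, hx', hy', add_zero])]
    have hPne : P ≠ ⊥ := fun e => by rw [← hP, e, finrank_bot] at hPd; omega
    obtain ⟨x, hx, hx0⟩ := (Submodule.ne_bot_iff P).mp hPne
    have := hle hx
    rw [hP, LinearMap.BilinForm.orthogonal_orthogonal hQ
      (fun u v e => by
        have e' : polar Q u v = 0 := e
        show polar Q v u = 0
        rw [polar_comm, e'])] at this
    obtain ⟨s, rfl⟩ := Submodule.mem_span_singleton.mp this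
    have hxa : polar Q a (s • a) = 0 := hx a (Submodule.mem_span_singleton_self a)
    have hq := h _ hxa
    rw [QuadraticMap.map_smul, smul_eq_mul, mul_eq_zero] at hq
    exact hx0 (by rw [mul_self_eq_zero.mp (hq.resolve_right ha), zero_smul])
  obtain ⟨x, y, hxy⟩ := CfsgLib.FiniteForms.exists_rep_one h2 (a := Q a / c) (b := Q z / c)
    (div_ne_zero ha hc) (div_ne_zero hz hc)
  refine ⟨x • a + y • z, ?_⟩
  rw [QuadraticMap.map_add Q, QuadraticMap.map_smul, QuadraticMap.map_smul, polar_smul_left,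
    polar_smul_right, hza]
  simp only [smul_eq_mul, mul_zero, add_zero]
  rw [div_mul_eq_mul_div, div_mul_eq_mul_div, ← add_div, div_eq_iff hc, one_mul] at hxy
  linear_combination hxy

theorem class_cases [Finite F] {a b : F} (ha : a ≠ 0) (hb : b ≠ 0) (hab : ¬ IsSquare (a * b))
    {c : F} (hc : c ≠ 0) : ∃ s, c = s * s * a ∨ c = s * s * b := by
  classical
  have := Fintype.ofFinite F
  by_cases h2 : ringChar F = 2
  · exact absurd (FiniteField.isSquare_of_char_two h2 _) hab
  have key : ∀ x : F, x ≠ 0 → IsSquare (c * x) → ∃ s, c = s * s * x := by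
    rintro x hx ⟨s, hs⟩
    exact ⟨s / x, by field_simp; linear_combination hs⟩
  by_cases h : IsSquare (c * a)
  · obtain ⟨s, hs⟩ := key a ha h; exact ⟨s, Or.inl hs⟩
  · obtain ⟨s, hs⟩ := key b hb (by
      have h1 : quadraticChar F (c * a) = -1 := quadraticChar_neg_one_iff_not_isSquare.mpr h
      have h2 : quadraticChar F (a * b) = -1 := quadraticChar_neg_one_iff_not_isSquare.mpr hab
      refine (quadraticChar_one_iff_isSquare (mul_ne_zero hc hb)).mp ?_
      have h3 : quadraticChar F (c * a) * quadraticChar F (a * b) = quadraticChar F (c * b) := by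
        rw [← map_mul, show c * a * (a * b) = a ^ 2 * (c * b) by ring, map_mul,
          quadraticChar_sq_one' ha, one_mul]
      rw [← h3, h1, h2]; norm_num)
    exact ⟨s, Or.inr hs⟩

variable [Fintype F] [Fintype V] [DecidableEq V] [DecidableEq F]

/-- Dickson invariant and sign character together. -/
noncomputable def phi (hQ : (polarBilin Q).Nondegenerate) (hc : Subgroup.closure (Refl Q) = ⊤) :
    quadIso Q →* ℤˣ × ℤˣ :=
  (dicksonHom Q hQ hc).prod (levelSign Q 1)

theorem quot_cases (h2 : (2 : F) ≠ 0) (hQ : (polarBilin Q).Nondegenerate)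
    (hc : Subgroup.closure (Refl Q) = ⊤) {a b : V} (ha : Q a = 1) (hb : Q b ≠ 0)
    (hbs : ¬ IsSquare (Q b)) (g : quadIso Q) :
    ∃ r ∈ ({1, refl Q (ha ▸ one_ne_zero : Q a ≠ 0), refl Q hb,
        refl Q (ha ▸ one_ne_zero : Q a ≠ 0) * refl Q hb} : Set (quadIso Q)),
      r⁻¹ * g ∈ commutator (quadIso Q) := by
  have h := abelianization_le Q hQ hc (ha ▸ one_ne_zero : Q a ≠ 0) hb (fun v hv =>
    class_cases (ha ▸ one_ne_zero) hb (by rwa [ha, one_mul]) hv) (QuotientGroup.mk g)
  rcases h with h | h | h | h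
  · exact ⟨1, by simp, QuotientGroup.eq.mp h.symm⟩
  · exact ⟨_, by simp, QuotientGroup.eq.mp h.symm⟩
  · exact ⟨_, by simp, QuotientGroup.eq.mp h.symm⟩
  · exact ⟨refl Q (ha ▸ one_ne_zero : Q a ≠ 0) * refl Q hb, by simp,
      QuotientGroup.eq.mp (h.trans (QuotientGroup.mk_mul _ _ _).symm).symm⟩

theorem phi_refl (h2 : (2 : F) ≠ 0) (hQ : (polarBilin Q).Nondegenerate)
    (hc : Subgroup.closure (Refl Q) = ⊤) {v : V} (hv : Q v ≠ 0) :
    phi Q hQ hc (refl Q hv) = (-1, if IsSquare (Q v) then -1 else 1) := by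
  refine Prod.ext (dicksonHom_refl Q hQ hc hv) ?_
  show levelSign Q 1 (refl Q hv) = _
  rw [levelSign_refl Q h2 hv one_ne_zero, one_mul]

theorem commutator_eq (h2 : (2 : F) ≠ 0) (hQ : (polarBilin Q).Nondegenerate)
    (hn : 2 ≤ finrank F V) (hc : Subgroup.closure (Refl Q) = ⊤) :
    commutator (quadIso Q) = (phi Q hQ hc).ker ∧ Function.Surjective (phi Q hQ hc) := by
  obtain ⟨α, hα⟩ := FiniteField.exists_nonsquare (F := F) (fun h => h2 (by
    haveI := ringChar.of_eq h; exact CharTwo.two_eq_zero))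
  have hα0 : α ≠ 0 := fun h => hα (h ▸ IsSquare.zero)
  obtain ⟨a, ha⟩ := universal Q h2 hQ hn one_ne_zero
  obtain ⟨b, hb⟩ := universal Q h2 hQ hn hα0
  have hb0 : Q b ≠ 0 := hb ▸ hα0
  have hbs : ¬ IsSquare (Q b) := hb ▸ hα
  have ha0 : Q a ≠ 0 := ha ▸ one_ne_zero
  have pa : phi Q hQ hc (refl Q ha0) = (-1, -1) := by
    rw [phi_refl Q h2 hQ hc ha0, ha, if_pos ⟨1, (one_mul 1).symm⟩]
  have pb : phi Q hQ hc (refl Q hb0) = (-1, 1) := by rw [phi_refl Q h2 hQ hc hb0, if_neg hbs]
  have pab : phi Q hQ hc (refl Q ha0 * refl Q hb0) = (1, -1) := by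
    rw [map_mul, pa, pb]; rfl
  refine ⟨le_antisymm (Abelianization.commutator_subset_ker _) fun g hg => ?_, fun x => ?_⟩
  · obtain ⟨r, hr, hrg⟩ := quot_cases Q h2 hQ hc ha hb0 hbs g
    have h0 := MonoidHom.mem_ker.mp (Abelianization.commutator_subset_ker (phi Q hQ hc) hrg)
    rw [map_mul, map_inv, MonoidHom.mem_ker.mp hg, mul_one, inv_eq_one] at h0
    simp only [Set.mem_insert_iff, Set.mem_singleton_iff] at hr
    rcases hr with rfl | rfl | rfl | rfl
    · simpa using hrg
    · rw [pa] at h0; exact absurd (congrArg Prod.fst h0) (by decide)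
    · rw [pb] at h0; exact absurd (congrArg Prod.fst h0) (by decide)
    · rw [pab] at h0; exact absurd (congrArg Prod.snd h0) (by decide)
  · obtain ⟨s, t⟩ := x
    rcases Int.units_eq_one_or s with rfl | rfl <;> rcases Int.units_eq_one_or t with rfl | rfl
    · exact ⟨1, map_one _⟩
    · exact ⟨_, pab⟩
    · exact ⟨_, pb⟩
    · exact ⟨_, pa⟩

theorem index_commutator (h2 : (2 : F) ≠ 0) (hQ : (polarBilin Q).Nondegenerate)
    (hn : 2 ≤ finrank F V) (hc : Subgroup.closure (Refl Q) = ⊤) :
    (commutator (quadIso Q)).index = 4 := by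
  obtain ⟨h, hs⟩ := commutator_eq Q h2 hQ hn hc
  rw [h, Subgroup.index_ker, MonoidHom.range_eq_top.mpr hs, Subgroup.card_top, Nat.card_prod]
  simp [Nat.card_eq_fintype_card]

omit [Fintype V] [DecidableEq V] [DecidableEq F] in
theorem index_commutator_two (h2 : (2 : F) = 0) (hQ : (polarBilin Q).Nondegenerate)
    (hn : 0 < finrank F V) (hc : Subgroup.closure (Refl Q) = ⊤) :
    (commutator (quadIso Q)).index = 2 := by
  obtain ⟨a, ha⟩ := exists_anisotropic_pos Q hQ hn
  have hr : ringChar F = 2 := by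
    haveI : CharP F 2 := CharTwo.of_one_ne_zero_of_two_eq_zero one_ne_zero h2
    exact ringChar.eq F 2
  rw [Subgroup.index_eq_two_iff]
  have hcases : ∀ g, g ∈ commutator (quadIso Q) ∨ g * refl Q ha ∈ commutator (quadIso Q) := by
    intro g
    have hcl : ∀ v : V, Q v ≠ 0 → ∃ s, Q v = s * s * Q a ∨ Q v = s * s * Q a := fun v hv => by
      obtain ⟨s, hs⟩ := FiniteField.isSquare_of_char_two hr (Q v / Q a)
      exact ⟨s, Or.inl (by rw [← hs, div_mul_cancel₀ _ ha])⟩
    have hsq : (QuotientGroup.mk (refl Q ha) : quadIso Q ⧸ commutator (quadIso Q)) *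
        QuotientGroup.mk (refl Q ha) = 1 := by
      rw [← QuotientGroup.mk_mul, refl_mul_self]; rfl
    rcases abelianization_le Q hQ hc ha ha hcl (QuotientGroup.mk g) with h | h | h | h
    · exact Or.inl ((QuotientGroup.eq_one_iff g).mp h)
    · exact Or.inr ((QuotientGroup.eq_one_iff _).mp (by rw [QuotientGroup.mk_mul, h, hsq]))
    · exact Or.inr ((QuotientGroup.eq_one_iff _).mp (by rw [QuotientGroup.mk_mul, h, hsq]))
    · exact Or.inl ((QuotientGroup.eq_one_iff g).mp (h.trans hsq))
  refine ⟨refl Q ha, fun g => ?_⟩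
  rcases hcases g with h | h
  · refine Or.inr ⟨h, fun h' => ?_⟩
    have := MonoidHom.mem_ker.mp (Abelianization.commutator_subset_ker (dicksonHom Q hQ hc) h')
    rw [map_mul, MonoidHom.mem_ker.mp (Abelianization.commutator_subset_ker (dicksonHom Q hQ hc) h),
      dicksonHom_refl, one_mul] at this
    exact absurd this (by decide)
  · refine Or.inl ⟨h, fun h' => ?_⟩
    have := MonoidHom.mem_ker.mp (Abelianization.commutator_subset_ker (dicksonHom Q hQ hc) h)
    rw [map_mul, MonoidHom.mem_ker.mp (Abelianization.commutator_subset_ker (dicksonHom Q hQ hc) h'),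
      dicksonHom_refl, one_mul] at this
    exact absurd this (by decide)

end General

/-- An injective homomorphism carries the derived subgroup onto the derived subgroup. -/
theorem comap_commutator {G H : Type*} [Group G] [Group H] (e : G ≃* H) :
    commutator G = (commutator H).comap e.toMonoidHom := by
  have h : (commutator G).map e.toMonoidHom = commutator H := by
    rw [commutator_def, commutator_def, Subgroup.map_commutator,
      Subgroup.map_top_of_surjective _ e.surjective]
  rw [← h, Subgroup.comap_map_eq_self_of_injective e.injective]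

variable {ι : Type} [Fintype ι] [DecidableEq ι] (Q : QuadraticForm F (ι → F))

/-- The matrix group and the group of linear isometries. -/
noncomputable def isoEquiv : Cfsg.isometryGroup F ⇑Q ≃* quadIso Q where
  toFun g := ⟨(Matrix.GeneralLinearGroup.toLin g.1).toLinearEquiv, fun v => g.2 v v⟩
  invFun g := ⟨Matrix.GeneralLinearGroup.toLin.symm
      (LinearMap.GeneralLinearGroup.ofLinearEquiv g.1), fun v _ => by
    show Q ((LinearMap.toMatrix' (g.1 : (ι → F) →ₗ[F] (ι → F))).mulVec v) = Q v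
    rw [LinearMap.toMatrix'_mulVec]
    exact g.2 v⟩
  left_inv g := Subtype.ext ((MulEquiv.symm_apply_eq _).mpr (Units.ext rfl))
  right_inv g := Subtype.ext (LinearEquiv.ext fun v => by simp)
  map_mul' g h := Subtype.ext (LinearEquiv.ext fun v => by
    show (g.1 * h.1).1.mulVec v = g.1.1.mulVec (h.1.1.mulVec v)
    rw [Matrix.mulVec_mulVec]; rfl)

theorem isoEquiv_apply (g : Cfsg.isometryGroup F ⇑Q) (v : ι → F) :
    (isoEquiv Q g).1 v = g.1.1.mulVec v := rfl

theorem isoEquiv_symm_apply (g : quadIso Q) (v : ι → F) :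
    ((isoEquiv Q).symm g).1.1.mulVec v = g.1 v := by
  rw [← isoEquiv_apply, MulEquiv.apply_symm_apply]

theorem det_refl {v : ι → F} (hv : Q v ≠ 0) : ((isoEquiv Q).symm (refl Q hv)).1.1.det = -1 := by
  have : ((isoEquiv Q).symm (refl Q hv)).1.1 = Cfsg.reflectionMatrix (⇑Q) v :=
    Matrix.ext_of_mulVec_single fun i => by
      rw [isoEquiv_symm_apply, refl_apply, CfsgLib.PolarVec.reflection_mulVec]
  rw [this, Cfsg.reflectionMatrix, sub_eq_add_neg, ← neg_smul, ← Matrix.smul_vecMulVec,
    Matrix.vecMulVec_eq Unit, Matrix.det_one_add_replicateCol_mul_replicateRow,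
    dotProduct_smul, CfsgLib.PolarVec.dot_eq_polar, CfsgLib.PolarVec.polar_self, smul_eq_mul]
  field_simp
  ring

theorem det_eq_dickson (hQ : (polarBilin Q).Nondegenerate) (hc : Subgroup.closure (Refl Q) = ⊤)
    (g : Cfsg.isometryGroup F ⇑Q) :
    g.1.1.det = ((dicksonHom Q hQ hc (isoEquiv Q g) : ℤ) : F) := by
  obtain ⟨x, rfl⟩ := (isoEquiv Q).symm.surjective g
  rw [MulEquiv.apply_symm_apply]
  refine closure_induction_refl Q hc
    (fun x => ((isoEquiv Q).symm x).1.1.det = ((dicksonHom Q hQ hc x : ℤ) : F)) ?_ ?_ x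
  · rw [map_one, map_one]; simp
  · intro v hv a ha
    rw [map_mul, map_mul, dicksonHom_refl]
    show (((isoEquiv Q).symm (refl Q hv)).1.1 * ((isoEquiv Q).symm a).1.1).det = _
    rw [Matrix.det_mul, det_refl Q hv, ha]
    push_cast
    rfl

theorem hc_of (hQ : (polarBilin Q).Nondegenerate)
    (h : (∃ t : F, t ≠ 0 ∧ t ≠ 1) ∨ Fintype.card ι ≠ 4) : Subgroup.closure (Refl Q) = ⊤ :=
  closure_refl Q hQ (by rwa [Module.finrank_pi])

theorem hc_odd (h2 : (2 : F) ≠ 0) (hQ : (polarBilin Q).Nondegenerate) :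
    Subgroup.closure (Refl Q) = ⊤ :=
  hc_of Q hQ (Or.inl ⟨-1, neg_ne_zero.mpr one_ne_zero, fun h => h2 (by linear_combination -h)⟩)

variable [Fintype F]

theorem omega_index (h2 : (2 : F) ≠ 0) (hn : 2 ≤ Fintype.card ι)
    (hQ : (polarBilin Q).Nondegenerate) : (Cfsg.Omega F ⇑Q).index = 4 := by
  classical
  rw [Cfsg.Omega, comap_commutator (isoEquiv Q), Subgroup.index_comap_of_surjective _ (isoEquiv Q).surjective]
  exact index_commutator Q h2 hQ (by rwa [Module.finrank_pi]) (hc_odd Q h2 hQ)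

theorem omega_index_two (h2 : (2 : F) = 0) (hn : 0 < Fintype.card ι)
    (hQ : (polarBilin Q).Nondegenerate) (h : (∃ t : F, t ≠ 0 ∧ t ≠ 1) ∨ Fintype.card ι ≠ 4) :
    (Cfsg.Omega F ⇑Q).index = 2 := by
  classical
  rw [Cfsg.Omega, comap_commutator (isoEquiv Q), Subgroup.index_comap_of_surjective _ (isoEquiv Q).surjective]
  exact index_commutator_two Q h2 hQ (by rwa [Module.finrank_pi]) (hc_of Q hQ h)

/-- When is `-1` in `Ω`? -/
theorem neg_one_mem_iff [DecidableEq F] (h2 : (2 : F) ≠ 0) (hn : 2 ≤ Fintype.card ι)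
    (heven : Even (Fintype.card ι)) (hQ : (polarBilin Q).Nondegenerate) :
    (∃ g : Cfsg.isometryGroup F ⇑Q, g ∈ Cfsg.Omega F ⇑Q ∧ g.1.1 = -1) ↔
      Even (Nat.card {x : ι → F // Q x = 1} / 2) := by
  classical
  set hc := hc_odd Q h2 hQ
  obtain ⟨hcom, -⟩ := commutator_eq Q h2 hQ (by rwa [Module.finrank_pi]) hc
  let ng : quadIso Q := ⟨LinearEquiv.neg F, fun v => QuadraticMap.map_neg Q v⟩
  have hng : ∀ x, ng.1 x = -x := fun x => rfl
  have hphi : phi Q hQ hc ng = (1, (-1) ^ (Nat.card {x : ι → F // Q x = 1} / 2)) := by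
    refine Prod.ext ?_ ?_
    · show dickson Q ng = 1
      have : fixSpace Q ng = ⊥ := by
        rw [Submodule.eq_bot_iff]
        intro x hx
        rw [mem_fix, hng] at hx
        have h0 : (2 : F) • x = 0 := by rw [two_smul]; nth_rewrite 1 [← hx]; exact neg_add_cancel _
        exact (smul_eq_zero.mp h0).resolve_left h2
      rw [dickson, this, finrank_bot, add_zero, Module.finrank_pi, heven.neg_one_pow]
    · show levelSign Q 1 ng = _
      rw [levelSign_neg Q h2 one_ne_zero ng hng, Nat.card_eq_fintype_card]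
  have hev : ∀ k : ℕ, ((-1 : ℤˣ) ^ k = 1) ↔ Even k := fun k => by
    refine ⟨fun h => ?_, fun h => h.neg_one_pow⟩
    rcases Nat.even_or_odd k with he | ho
    · exact he
    · rw [ho.neg_one_pow] at h; exact absurd h (by decide)
  have hgm : ∀ g : Cfsg.isometryGroup F ⇑Q, g ∈ Cfsg.Omega F ⇑Q ↔ phi Q hQ hc (isoEquiv Q g) = 1 := by
    intro g
    rw [Cfsg.Omega, comap_commutator (isoEquiv Q), Subgroup.mem_comap, hcom, MonoidHom.mem_ker]
    rfl
  have hiso : ∀ g : Cfsg.isometryGroup F ⇑Q, g.1.1 = -1 → isoEquiv Q g = ng := fun g hg =>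
    Subtype.ext (LinearEquiv.ext fun x => by
      rw [isoEquiv_apply, hg, Matrix.neg_mulVec, Matrix.one_mulVec, hng])
  constructor
  · rintro ⟨g, hg, hg1⟩
    rw [hgm, hiso g hg1, hphi, Prod.mk_eq_one] at hg
    exact (hev _).mp hg.2
  · intro h
    refine ⟨(isoEquiv Q).symm ng, ?_, Matrix.ext_of_mulVec_single fun i => ?_⟩
    · rw [hgm, MulEquiv.apply_symm_apply, hphi, (hev _).mpr h]; rfl
    · rw [isoEquiv_symm_apply, hng, Matrix.neg_mulVec, Matrix.one_mulVec]

/-- The unique subgroup of index two of `SO`. -/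
theorem special_unique (hn : 2 ≤ Fintype.card ι) (hQ : (polarBilin Q).Nondegenerate)
    (h : (∃ t : F, t ≠ 0 ∧ t ≠ 1) ∨ Fintype.card ι ≠ 4) :
    ∃! H : Subgroup ↥(Cfsg.specialIsometryGroup F ⇑Q), H.index = 2 := by
  classical
  have hc := hc_of Q hQ h
  set O := Cfsg.isometryGroup F ⇑Q
  set S := Cfsg.specialIsometryGroup F ⇑Q with hSdef
  have hS : ∀ g : O, g ∈ S ↔ g.1.1.det = 1 := fun g => by
    show Matrix.GeneralLinearGroup.det g.1 = 1 ↔ _
    rw [Units.ext_iff]; rfl
  have hdet := det_eq_dickson Q hQ hc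
  set K := commutator O with hKdef
  have hKS : K ≤ S := Abelianization.commutator_subset_ker _
  haveI : S.Normal := MonoidHom.normal_ker _
  have hidx : (K.subgroupOf S).index = 2 := by
    have h1 : K.relIndex S * S.index = K.index := Subgroup.relIndex_mul_index hKS
    by_cases h2 : (2 : F) = 0
    · have hStop : S = ⊤ := by
        rw [eq_top_iff]
        intro g _
        rw [hS, hdet]
        rcases Int.units_eq_one_or (dicksonHom Q hQ hc (isoEquiv Q g)) with e | e <;> rw [e]
        · simp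
        · push_cast; linear_combination -h2
      rw [hStop, Subgroup.index_top, mul_one] at h1
      show K.relIndex S = 2
      rw [hStop, h1, hKdef]
      exact omega_index_two Q h2 (by omega) hQ h
    · have hSi : S.index = 2 := by
        rw [Subgroup.index_eq_two_iff]
        obtain ⟨a, ha⟩ := exists_anisotropic_pos Q hQ (by rw [Module.finrank_pi]; omega)
        refine ⟨(isoEquiv Q).symm (refl Q ha), fun g => ?_⟩
        rw [hS, hS]
        show Xor ((g.1.1 * ((isoEquiv Q).symm (refl Q ha)).1.1).det = 1) (g.1.1.det = 1)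
        rw [Matrix.det_mul, det_refl Q ha, hdet]
        have h11 : (-1 : F) ≠ 1 := fun e => h2 (by linear_combination -e)
        rcases Int.units_eq_one_or (dicksonHom Q hQ hc (isoEquiv Q g)) with e | e <;> rw [e] <;>
          simp [h11, Xor]
      have h4 : K.index = 4 := omega_index Q h2 hn hQ
      show K.relIndex S = 2
      rw [h4, hSi] at h1
      omega
  refine ⟨K.subgroupOf S, hidx, fun H hH => ?_⟩
  haveI := Subgroup.normal_of_index_eq_two hH
  have hsq : ∀ x : S, x * x ∈ H := fun x => Subgroup.mul_self_mem_of_index_two hH x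
  -- the subgroup generated by the squares
  set N : Subgroup O := Subgroup.closure {y | ∃ x ∈ S, y = x * x} with hN
  have hNH : N.subgroupOf S ≤ H := by
    have hle : N ≤ H.map S.subtype := by
      rw [hN, Subgroup.closure_le]
      rintro _ ⟨x, hx, rfl⟩
      exact ⟨⟨x, hx⟩ * ⟨x, hx⟩, hsq _, rfl⟩
    intro y hy
    obtain ⟨z, hz, hzy⟩ := hle hy
    exact (Subtype.ext hzy : z = y) ▸ hz
  haveI hNn : N.Normal := by
    rw [← Subgroup.normalizer_eq_top_iff, eq_top_iff]
    intro g _
    rw [Subgroup.mem_normalizer_iff]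
    have key : ∀ g : O, ∀ n ∈ N, g * n * g⁻¹ ∈ N := fun g n hn => by
      refine Subgroup.closure_induction (p := fun n _ => g * n * g⁻¹ ∈ N) ?_ ?_ ?_ ?_ hn
      · rintro _ ⟨x, hx, rfl⟩
        exact Subgroup.subset_closure ⟨g * x * g⁻¹, Subgroup.Normal.conj_mem inferInstance x hx g, by group⟩
      · simp
      · intro a b _ _ ha hb
        simpa [mul_assoc] using mul_mem ha hb
      · intro a _ ha
        simpa [mul_assoc] using inv_mem ha
    intro n
    exact ⟨key g n, fun hn => by simpa [mul_assoc] using key g⁻¹ _ hn⟩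
  have hKN : K ≤ N := by
    rw [hKdef, ← Subgroup.Normal.quotient_commutative_iff_commutator_le]
    set π := (QuotientGroup.mk' N).comp (isoEquiv Q).symm.toMonoidHom
    have hgen : ∀ (u v : ι → F) (hu : Q u ≠ 0) (hv : Q v ≠ 0),
        Commute (π (refl Q hu)) (π (refl Q hv)) := by
      intro u v hu hv
      have hm : ((isoEquiv Q).symm (refl Q hu * refl Q hv)) * ((isoEquiv Q).symm (refl Q hu * refl Q hv)) ∈ N := by
        refine Subgroup.subset_closure ⟨_, ?_, rfl⟩
        rw [hS, map_mul]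
        show (((isoEquiv Q).symm (refl Q hu)).1.1 * ((isoEquiv Q).symm (refl Q hv)).1.1).det = 1
        rw [Matrix.det_mul, det_refl, det_refl, neg_mul_neg, one_mul]
      have h1 : π (refl Q hu * refl Q hv) * π (refl Q hu * refl Q hv) = 1 := by
        rw [MonoidHom.comp_apply, ← map_mul]
        exact (QuotientGroup.eq_one_iff _).mpr hm
      have h2 : ∀ {w : ι → F} (hw : Q w ≠ 0), π (refl Q hw) * π (refl Q hw) = 1 := fun hw => by
        rw [← map_mul, refl_mul_self, map_one]
      rw [map_mul] at h1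
      show π (refl Q hu) * π (refl Q hv) = π (refl Q hv) * π (refl Q hu)
      calc π (refl Q hu) * π (refl Q hv)
          = (π (refl Q hu) * π (refl Q hv))⁻¹ := eq_inv_of_mul_eq_one_left h1
        _ = _ := by rw [mul_inv_rev, ← eq_inv_of_mul_eq_one_left (h2 hu), ← eq_inv_of_mul_eq_one_left (h2 hv)]
    have hall : ∀ x y, Commute (π x) (π y) := by
      intro x
      refine closure_induction_refl Q hc (fun x => ∀ y, Commute (π x) (π y)) (fun y => ?_)
        (fun u hu a ha y => ?_) x
      · rw [map_one]; exact Commute.one_left _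
      · rw [map_mul]
        refine Commute.mul_left ?_ (ha y)
        refine closure_induction_refl Q hc (fun y => Commute (π (refl Q hu)) (π y)) ?_
          (fun v hv b hb => ?_) y
        · rw [map_one]; exact Commute.one_right _
        · rw [map_mul]; exact (hgen u v hu hv).mul_right hb
    have hπ : Function.Surjective π :=
      (QuotientGroup.mk'_surjective N).comp (isoEquiv Q).symm.surjective
    refine ⟨⟨fun x y => ?_⟩⟩
    obtain ⟨x, rfl⟩ := hπ x
    obtain ⟨y, rfl⟩ := hπ y
    exact hall x y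
  refine (Subgroup.eq_of_le_of_card_ge (fun y hy => hNH (hKN hy)) ?_).symm
  have e1 := Subgroup.card_mul_index (K.subgroupOf S)
  have e2 := Subgroup.card_mul_index H
  rw [hidx] at e1
  rw [hH] at e2
  exact le_of_eq (Nat.eq_of_mul_eq_mul_right two_pos (e2.trans e1.symm))

theorem card_index_two (h2 : (2 : F) ≠ 0) (hn : 2 ≤ Fintype.card ι)
    (hQ : (polarBilin Q).Nondegenerate) :
    Nat.card {H : Subgroup ↥(Cfsg.isometryGroup F ⇑Q) // H.index = 2} = 3 := by
  classical
  have hc := hc_odd Q h2 hQ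
  obtain ⟨hcom, hsurj⟩ := commutator_eq Q h2 hQ (by rwa [Module.finrank_pi]) hc
  set ψ : Cfsg.isometryGroup F ⇑Q →* ℤˣ × ℤˣ := (phi Q hQ hc).comp (isoEquiv Q).toMonoidHom
  have hψs : Function.Surjective ψ := hsurj.comp (isoEquiv Q).surjective
  have hker : commutator (Cfsg.isometryGroup F ⇑Q) = ψ.ker := by
    rw [comap_commutator (isoEquiv Q), hcom, MonoidHom.comap_ker]
  have e : {H : Subgroup ↥(Cfsg.isometryGroup F ⇑Q) // H.index = 2} ≃
      {T : Subgroup (ℤˣ × ℤˣ) // T.index = 2} :=
    { toFun := fun H => ⟨H.1.map ψ, by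
        haveI := Subgroup.normal_of_index_eq_two H.2
        have hle : ψ.ker ≤ H.1 := by
          rw [← hker, ← Subgroup.Normal.quotient_commutative_iff_commutator_le]
          have hc2 : Nat.card (Cfsg.isometryGroup F ⇑Q ⧸ H.1) = 2 := H.2
          haveI : Fact (Nat.Prime 2) := ⟨Nat.prime_two⟩
          haveI := isCyclic_of_prime_card hc2
          exact ⟨⟨fun a b => IsCyclic.commGroup.mul_comm a b⟩⟩
        rw [Subgroup.index_map_eq _ hψs hle]
        exact H.2⟩
      invFun := fun T => ⟨T.1.comap ψ, by rw [Subgroup.index_comap_of_surjective _ hψs]; exact T.2⟩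
      left_inv := fun H => Subtype.ext (by
        haveI := Subgroup.normal_of_index_eq_two H.2
        refine Subgroup.comap_map_eq_self ?_
        rw [← hker, ← Subgroup.Normal.quotient_commutative_iff_commutator_le]
        have hc2 : Nat.card (Cfsg.isometryGroup F ⇑Q ⧸ H.1) = 2 := H.2
        haveI : Fact (Nat.Prime 2) := ⟨Nat.prime_two⟩
        haveI := isCyclic_of_prime_card hc2
        exact ⟨⟨fun a b => IsCyclic.commGroup.mul_comm a b⟩⟩)
      right_inv := fun T => Subtype.ext (Subgroup.map_comap_eq_self_of_surjective hψs _) }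
  rw [Nat.card_congr e]
  let χ : Fin 3 → (ℤˣ × ℤˣ →* ℤˣ) :=
    ![MonoidHom.fst _ _, MonoidHom.snd _ _, MonoidHom.fst _ _ * MonoidHom.snd _ _]
  have hχ : ∀ i, ∃ x, χ i x = -1 := fun i => by
    fin_cases i
    · exact ⟨(-1, 1), rfl⟩
    · exact ⟨(1, -1), rfl⟩
    · exact ⟨(-1, 1), rfl⟩
  have hidx : ∀ i, (χ i).ker.index = 2 := fun i => by
    rw [Subgroup.index_ker, MonoidHom.range_eq_top.mpr (fun y => by
      rcases Int.units_eq_one_or y with rfl | rfl
      · exact ⟨1, map_one _⟩
      · exact hχ i), Subgroup.card_top, Nat.card_eq_fintype_card]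
    rfl
  refine (Nat.card_eq_of_bijective (fun i => (⟨(χ i).ker, hidx i⟩ : {T : Subgroup (ℤˣ × ℤˣ) // T.index = 2}))
    ⟨fun i j h => ?_, fun T => ?_⟩).symm.trans (by simp)
  · have h' : (χ i).ker = (χ j).ker := congrArg Subtype.val h
    have m1 : χ i (1, -1) = 1 ↔ χ j (1, -1) = 1 := by rw [← MonoidHom.mem_ker, h', MonoidHom.mem_ker]
    have m2 : χ i (-1, 1) = 1 ↔ χ j (-1, 1) = 1 := by rw [← MonoidHom.mem_ker, h', MonoidHom.mem_ker]
    clear h h'
    fin_cases i <;> fin_cases j <;> first | rfl | (exfalso; revert m1 m2; decide) | (exfalso; simp [χ] at m1 m2)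
  · obtain ⟨T, hT⟩ := T
    have hm := fun a b : ℤˣ × ℤˣ => Subgroup.mul_mem_iff_of_index_two hT (a := a) (b := b)
    have hab : ((-1, -1) : ℤˣ × ℤˣ) ∈ T ↔ (((-1, 1) : ℤˣ × ℤˣ) ∈ T ↔ ((1, -1) : ℤˣ × ℤˣ) ∈ T) :=
      (hm (-1, 1) (1, -1) :)
    have hT' : ∀ i, (χ i).ker ≤ T → (⟨(χ i).ker, hidx i⟩ : {T : Subgroup (ℤˣ × ℤˣ) // T.index = 2}) = ⟨T, hT⟩ := by
      intro i hle
      refine Subtype.ext (Subgroup.eq_of_le_of_card_ge hle ?_)
      have e1 := Subgroup.card_mul_index (χ i).ker
      have e2 := Subgroup.card_mul_index T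
      rw [hidx i] at e1
      rw [hT] at e2
      exact le_of_eq (Nat.eq_of_mul_eq_mul_right two_pos (e2.trans e1.symm))
    have hcases : ∀ x : ℤˣ × ℤˣ, x = 1 ∨ x = (1, -1) ∨ x = (-1, 1) ∨ x = (-1, -1) := by decide
    by_cases h1 : ((1, -1) : ℤˣ × ℤˣ) ∈ T
    · refine ⟨0, hT' 0 fun x hx => ?_⟩
      rcases hcases x with rfl | rfl | rfl | rfl <;>
        first | exact one_mem _ | exact h1 | (exfalso; revert hx; decide)
    by_cases h2' : ((-1, 1) : ℤˣ × ℤˣ) ∈ T
    · refine ⟨1, hT' 1 fun x hx => ?_⟩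
      rcases hcases x with rfl | rfl | rfl | rfl <;>
        first | exact one_mem _ | exact h2' | (exfalso; revert hx; decide)
    · refine ⟨2, hT' 2 fun x hx => ?_⟩
      rcases hcases x with rfl | rfl | rfl | rfl <;>
        first | exact one_mem _ | exact hab.mpr (iff_of_false h2' h1) | (exfalso; revert hx; decide)

end CfsgLib.SpinorMatrix

namespace CfsgLib.SpinorMatrix

theorem field_cond {F : Type*} [Field F] [Fintype F] {P : Prop} (h : Fintype.card F ≠ 2 ∨ P) :
    (∃ t : F, t ≠ 0 ∧ t ≠ 1) ∨ P := by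
  classical
  rcases h with h | h
  · refine Or.inl ?_
    by_contra hc
    push Not at hc
    refine h ?_
    rw [← Finset.card_univ, show (Finset.univ : Finset F) = {0, 1} from ?_,
      Finset.card_pair zero_ne_one]
    ext t
    simp only [Finset.mem_univ, Finset.mem_insert, Finset.mem_singleton, true_iff]
    exact or_iff_not_imp_left.mpr (hc t)
  · exact Or.inr h

end CfsgLib.SpinorMatrix
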