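import Mathlib
import Cfsg.Agent.Lib.SpinorMatrix
import Cfsg.Agent.Lib.FiniteForms.Witt

/-! Eichler transformations: transitivity on level sets and generation of the derived group of `O(Q)`. -/

set_option autoImplicit false

namespace CfsgLib.Eichler

open QuadraticMap CfsgLib.WittExtension Module CfsgLib.SpinorNorm
open scoped commutatorElement

variable {F V : Type*} [Field F] [AddCommGroup V] [Module F V] (Q : QuadraticForm F V)

/-- `g` is the Eichler transformation attached to `e` and `w`. -/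
def IsEich (e w : V) (g : quadIso Q) : Prop :=
  ∀ x, g.1 x = x + (polar Q e x • w + (-(polar Q w x) - Q w * polar Q e x) • e)

theorem eich_unique {e w : V} {g g' : quadIso Q} (h : IsEich Q e w g) (h' : IsEich Q e w g') : g = g' :=
  Subtype.ext (LinearEquiv.ext fun x => (h x).trans (h' x).symm)

theorem exists_eich {e w : V} (he : Q e = 0) (hew : polar Q e w = 0) : ∃ g, IsEich Q e w g := by
  let mk : V → V →ₗ[F] V := fun w => LinearMap.id + ((polarBilin Q e).smulRight w +
    (-(polarBilin Q w) - Q w • polarBilin Q e).smulRight e)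
  have hmk : ∀ w x, mk w x = x + (polar Q e x • w + (-(polar Q w x) - Q w * polar Q e x) • e) :=
    fun w x => by simp [mk]
  have hinv : ∀ w, polar Q e w = 0 → mk w ∘ₗ mk (-w) = LinearMap.id := fun w hw => by
    ext x
    simp only [LinearMap.comp_apply, hmk, QuadraticMap.map_neg, LinearMap.id_coe, id_eq, polar_add_right,
      polar_smul_right, polar_neg_left, polar_neg_right, ReflectionGen.pol_self, he, hw,
      polar_comm Q w e, smul_eq_mul, smul_neg]
    match_scalars <;> ring
  refine ⟨⟨LinearEquiv.ofLinearMap (mk w) (mk (-w)) (hinv w hew) (by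
    have := hinv (-w) (by rw [polar_neg_right, hew, neg_zero])
    rwa [neg_neg] at this), fun x => ?_⟩, fun x => hmk w x⟩
  show Q (mk w x) = Q x
  rw [hmk, QuadraticMap.map_add Q x, QuadraticMap.map_add Q (polar Q e x • w)]
  simp only [QuadraticMap.map_smul, he, smul_eq_mul, polar_smul_left, polar_smul_right,
    polar_add_right, hew, polar_comm Q w e, polar_comm Q x e, polar_comm Q x w]
  ring

theorem eich_add {e w₁ w₂ : V} (he : Q e = 0) (h1 : polar Q e w₁ = 0) (h2 : polar Q e w₂ = 0)
    {g₁ g₂ : quadIso Q} (hg₁ : IsEich Q e w₁ g₁) (hg₂ : IsEich Q e w₂ g₂) :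
    IsEich Q e (w₁ + w₂) (g₁ * g₂) := fun x => by
  show g₁.1 (g₂.1 x) = _
  rw [hg₁, hg₂, QuadraticMap.map_add Q w₁]
  simp only [polar_add_right, polar_add_left, polar_smul_right, ReflectionGen.pol_self, he, h1, h2,
    polar_comm Q w₁ e, smul_eq_mul]
  match_scalars <;> ring

theorem eich_shift {e w : V} (he : Q e = 0) (hew : polar Q e w = 0) (t : F) {g : quadIso Q}
    (hg : IsEich Q e w g) : IsEich Q e (w + t • e) g := fun x => by
  rw [hg x, QuadraticMap.map_add Q w]
  simp only [QuadraticMap.map_smul, he, polar_add_left, polar_smul_left, polar_smul_right,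
    polar_comm Q w e, hew, smul_eq_mul]
  match_scalars <;> ring

theorem eich_zero (e : V) : IsEich Q e 0 1 := fun x => by simp

/-- An Eichler transformation with anisotropic vector is a product of two reflections. -/
theorem eich_refl {e w : V} (he : Q e = 0) (hew : polar Q e w = 0) (hw : Q w ≠ 0)
    (hw' : Q (w + (-Q w) • e) ≠ 0) : IsEich Q e w (refl Q hw' * refl Q hw) := fun x => by
  have hQw' : Q (w + (-Q w) • e) = Q w := by
    rw [QuadraticMap.map_add Q, QuadraticMap.map_smul, he, polar_smul_right, polar_comm Q w e, hew]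
    simp
  show (refl Q hw').1 ((refl Q hw).1 x) = _
  rw [refl_apply, refl_apply, hQw']
  simp only [polar_add_left, polar_smul_left, polar_add_right, polar_smul_right,
    ReflectionGen.pol_self, hew, smul_eq_mul]
  match_scalars <;> field_simp <;> ring

/-- Conjugates of reflections. -/
theorem conj_refl (g : quadIso Q) {v : V} (hv : Q v ≠ 0) (hgv : Q (g.1 v) ≠ 0) :
    g * refl Q hv * g⁻¹ = refl Q hgv := by
  refine mul_inv_eq_of_eq_mul (Subtype.ext (LinearEquiv.ext fun x => ?_))
  show g.1 ((refl Q hv).1 x) = (refl Q hgv).1 (g.1 x)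
  rw [refl_apply, refl_apply, OrthOrder.polar_map g.2, g.2, map_add, map_smul]

theorem refl_smul {v : V} (hv : Q v ≠ 0) {s : F} (hs : s ≠ 0) (hsv : Q (s • v) ≠ 0) :
    refl Q hsv = refl Q hv := Subtype.ext (LinearEquiv.ext fun x => by
  rw [refl_apply, refl_apply, QuadraticMap.map_smul, polar_smul_left, smul_smul, smul_eq_mul,
    smul_eq_mul]
  congr 2
  field_simp)

/-- The orthogonal of a pair. -/
def perp (e f : V) : Submodule F V := LinearMap.ker (polarBilin Q e) ⊓ LinearMap.ker (polarBilin Q f)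

theorem mem_perp {e f w : V} : w ∈ perp Q e f ↔ polar Q e w = 0 ∧ polar Q f w = 0 := Iff.rfl

theorem proj_mem {e f : V} (he : Q e = 0) (hf : Q f = 0) (hef : polar Q e f = 1) (y : V) :
    y - polar Q f y • e - polar Q e y • f ∈ perp Q e f := by
  rw [mem_perp]
  constructor <;>
    simp [sub_eq_add_neg, polar_add_right, polar_neg_right, polar_smul_right, ReflectionGen.pol_self,
      polar_comm Q f e, he, hf, hef]

theorem perp_nondeg (hQ : (polarBilin Q).Nondegenerate) {e f : V} (he : Q e = 0) (hf : Q f = 0)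
    (hef : polar Q e f = 1) : (polarBilin (Q.comp (perp Q e f).subtype)).Nondegenerate := by
  have hl : ∀ u : perp Q e f, (∀ w : perp Q e f, polar Q u.1 w.1 = 0) → u = 0 := fun u h => by
    refine Subtype.ext (hQ.1 u.1 fun y => ?_)
    show polar Q u.1 y = 0
    have h' := h ⟨_, proj_mem Q he hf hef y⟩
    obtain ⟨h1, h2⟩ := (mem_perp Q).mp u.2
    simpa [sub_eq_add_neg, polar_add_right, polar_neg_right, polar_smul_right, polar_comm Q u.1 e,
      polar_comm Q u.1 f, h1, h2] using h'
  have hc : ∀ u w : perp Q e f, polarBilin (Q.comp (perp Q e f).subtype) u w = polar Q u.1 w.1 :=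
    fun u w => by simp [polar]
  refine ⟨fun u h => hl u fun w => ?_, fun u h => hl u fun w => ?_⟩
  · rw [← hc]; exact h w
  · rw [polar_comm, ← hc]; exact h w

variable [FiniteDimensional F V]

theorem perp_finrank {e f : V} (he : Q e = 0) (hf : Q f = 0) (hef : polar Q e f = 1) :
    finrank F V ≤ finrank F (perp Q e f) + 2 := by
  have htop : perp Q e f ⊔ Submodule.span F ({e, f} : Set V) = ⊤ := by
    refine eq_top_iff.mpr fun y _ => Submodule.mem_sup.mpr ⟨_, proj_mem Q he hf hef y,
      polar Q f y • e + polar Q e y • f, Submodule.mem_span_pair.mpr ⟨_, _, rfl⟩, by abel⟩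
  have h := Submodule.finrank_add_le_finrank_add_finrank (perp Q e f) (Submodule.span F ({e, f} : Set V))
  rw [htop, finrank_top] at h
  have h2 : finrank F (Submodule.span F ({e, f} : Set V)) ≤ 2 := by
    classical
    have h := finrank_span_le_card (R := F) ({e, f} : Set V)
    have h' : ({e, f} : Set V).toFinset.card ≤ 2 := by simp; exact Finset.card_le_two
    omega
  omega

theorem exists_partner (hQ : (polarBilin Q).Nondegenerate) {e : V} (he0 : e ≠ 0) (he : Q e = 0) :
    ∃ f, Q f = 0 ∧ polar Q e f = 1 := by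
  obtain ⟨y, hy⟩ : ∃ y, polar Q e y ≠ 0 := by
    by_contra h
    push Not at h
    exact he0 (hQ.1 e h)
  set f' := (polar Q e y)⁻¹ • y
  have h1 : polar Q e f' = 1 := by simp [f', polar_smul_right, hy]
  clear_value f'
  refine ⟨f' + (-Q f') • e, ?_, ?_⟩
  · rw [QuadraticMap.map_add Q f', QuadraticMap.map_smul, he, polar_smul_right, polar_comm Q f' e, h1]
    simp
  · simp [polar_add_right, ReflectionGen.pol_self, he, h1]

variable [Finite F]

theorem universal_perp (h2 : (2 : F) ≠ 0) (hQ : (polarBilin Q).Nondegenerate) (hn : 4 ≤ finrank F V)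
    {e f : V} (he : Q e = 0) (hf : Q f = 0) (hef : polar Q e f = 1) (α : F) :
    ∃ w ∈ perp Q e f, Q w = α := by
  by_cases hα : α = 0
  · exact ⟨0, zero_mem _, by rw [hα, QuadraticMap.map_zero]⟩
  have := perp_finrank Q he hf hef
  obtain ⟨w, hw⟩ := SpinorMatrix.universal (Q.comp (perp Q e f).subtype) h2
    (perp_nondeg Q hQ he hf hef) (by omega) hα
  exact ⟨w.1, w.2, hw⟩

theorem singular_avoid (h2 : (2 : F) ≠ 0) (hQ : (polarBilin Q).Nondegenerate) (hn : 4 ≤ finrank F V)
    {e b : V} (he0 : e ≠ 0) (he : Q e = 0) (hb : b ≠ 0) :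
    ∃ f, Q f = 0 ∧ polar Q e f = 1 ∧ polar Q f b ≠ 0 := by
  obtain ⟨f, hf, hef⟩ := exists_partner Q hQ he0 he
  by_contra h
  push Not at h
  have key : ∀ w ∈ perp Q e f, polar Q b f + polar Q b w - Q w * polar Q b e = 0 := fun w hw => by
    obtain ⟨hew, hfw⟩ := (mem_perp Q).mp hw
    have h' := h (f + w + (-Q w) • e) (by
      rw [QuadraticMap.map_add Q (f + w), QuadraticMap.map_add Q f, QuadraticMap.map_smul, he, hf,
        polar_smul_right, polar_add_left, polar_comm Q f e, hef, polar_comm Q w e, hew, hfw]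
      simp) (by
      simp [polar_add_right, ReflectionGen.pol_self, he, hef, hew])
    rw [polar_comm] at h'
    simpa [polar_add_right, polar_smul_right, sub_eq_add_neg] using h'
  have hbf : polar Q b f = 0 := by simpa using key 0 (zero_mem _)
  have hbw : ∀ w ∈ perp Q e f, polar Q b w = 0 := fun w hw => by
    have h1 := key w hw
    have h1' := key (-w) (neg_mem hw)
    rw [QuadraticMap.map_neg, polar_neg_right] at h1'
    have : 2 * polar Q b w = 0 := by linear_combination h1 - h1'
    exact (mul_eq_zero.mp this).resolve_left h2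
  obtain ⟨w, hw, hQw⟩ := universal_perp Q h2 hQ hn he hf hef 1
  have hbe : polar Q b e = 0 := by
    have := key w hw
    rw [hbf, hbw w hw, hQw] at this
    linear_combination -this
  refine hb (hQ.1 b fun y => ?_)
  show polar Q b y = 0
  have := hbw _ (proj_mem Q he hf hef y)
  simpa [sub_eq_add_neg, polar_add_right, polar_neg_right, polar_smul_right, hbe, hbf] using this

/-- A subgroup containing the Eichler transformations is transitive on each non-zero level set. -/
theorem transitive (h2 : (2 : F) ≠ 0) (hQ : (polarBilin Q).Nondegenerate) (hn : 4 ≤ finrank F V)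
    (N : Subgroup (quadIso Q))
    (hN : ∀ e w, e ≠ 0 → Q e = 0 → polar Q e w = 0 → ∀ g, IsEich Q e w g → g ∈ N)
    {a b : V} (ha : Q a ≠ 0) (hab : Q a = Q b) : ∃ g ∈ N, g.1 a = b := by
  have step : ∀ e, e ≠ 0 → Q e = 0 → ∀ a x, polar Q e a ≠ 0 → Q x = Q a →
      polar Q e x = polar Q e a → ∃ g ∈ N, g.1 a = x := by
    intro e he0 he a x hA hQx hex
    set w := (polar Q e a)⁻¹ • (x - a) with hw
    have hew : polar Q e w = 0 := by
      simp [hw, polar_smul_right, sub_eq_add_neg, polar_add_right, polar_neg_right, hex]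
    obtain ⟨g, hg⟩ := exists_eich Q he hew
    refine ⟨g, hN e w he0 he hew g hg, ?_⟩
    set κ := -(polar Q w a) - Q w * polar Q e a
    have hga : g.1 a = x + κ • e := by
      rw [hg a, hw, smul_smul, mul_inv_cancel₀ hA, one_smul]
      abel
    have hq := g.2 a
    rw [hga, QuadraticMap.map_add Q x, QuadraticMap.map_smul, he, polar_smul_right, polar_comm Q x e,
      hex, hQx] at hq
    simp at hq
    rw [hga, hq.resolve_right hA, zero_smul, add_zero]
  obtain ⟨e₀, he₀0, he₀⟩ := FiniteForms.exists_singular Q (by omega)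
  obtain ⟨e, he, hee, hea⟩ := singular_avoid Q h2 hQ hn he₀0 he₀ (b := a)
    (fun h => ha (by rw [h, QuadraticMap.map_zero]))
  have he0 : e ≠ 0 := fun h => by simp [h] at hee
  obtain ⟨f, hf, hef, hfb⟩ := singular_avoid Q h2 hQ hn he0 he (b := b)
    (fun h => ha (by rw [hab, h, QuadraticMap.map_zero]))
  obtain ⟨w, hw, hQw⟩ := universal_perp Q h2 hQ hn he hf hef (Q a - polar Q e a * polar Q f b)
  obtain ⟨hew, hfw⟩ := (mem_perp Q).mp hw
  set x := polar Q e a • f + polar Q f b • e + w with hx
  have hex : polar Q e x = polar Q e a := by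
    simp [hx, polar_add_right, polar_smul_right, ReflectionGen.pol_self, he, hef, hew]
  have hfx : polar Q f x = polar Q f b := by
    simp [hx, polar_add_right, polar_smul_right, ReflectionGen.pol_self, hf, polar_comm Q f e, hef, hfw]
  have hQx : Q x = Q a := by
    rw [hx, QuadraticMap.map_add Q (polar Q e a • f + polar Q f b • e),
      QuadraticMap.map_add Q (polar Q e a • f), QuadraticMap.map_smul, QuadraticMap.map_smul, he, hf,
      hQw]
    simp [polar_add_left, polar_smul_left, polar_smul_right, polar_comm Q f e, hef, hew, hfw]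
    ring
  obtain ⟨g₁, hg₁, h₁⟩ := step e he0 he a x hea hQx hex
  have hf0 : f ≠ 0 := fun h => by simp [h] at hef
  obtain ⟨g₂, hg₂, h₂⟩ := step f hf0 hf x b (by rw [hfx]; exact hfb) (by rw [hQx, hab]) hfx.symm
  refine ⟨g₂ * g₁, mul_mem hg₂ hg₁, ?_⟩
  show g₂.1 (g₁.1 a) = b
  rw [h₁, h₂]

/-- Reflections in vectors of equal norm agree modulo a normal subgroup containing the Eichler
transformations. -/
theorem refl_quot (h2 : (2 : F) ≠ 0) (hQ : (polarBilin Q).Nondegenerate) (hn : 4 ≤ finrank F V)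
    (N : Subgroup (quadIso Q)) [N.Normal]
    (hN : ∀ e w, e ≠ 0 → Q e = 0 → polar Q e w = 0 → ∀ g, IsEich Q e w g → g ∈ N)
    {a b : V} (ha : Q a ≠ 0) (hb : Q b ≠ 0) {s : F} (hab : Q b = s * s * Q a) :
    (QuotientGroup.mk (refl Q ha) : quadIso Q ⧸ N) = QuotientGroup.mk (refl Q hb) := by
  have hs : s ≠ 0 := fun h => hb (by rw [hab, h]; ring)
  have hsa : Q (s • a) ≠ 0 := by rw [QuadraticMap.map_smul, smul_eq_mul, ← hab]; exact hb
  rw [← refl_smul Q ha hs hsa]
  obtain ⟨g, hg, hgab⟩ := transitive Q h2 hQ hn N hN hsa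
    (show Q (s • a) = Q b by rw [QuadraticMap.map_smul, smul_eq_mul, hab])
  have h := conj_refl Q g hsa (by rw [g.2]; exact hsa)
  have h' : refl Q hb = g * refl Q hsa * g⁻¹ := by
    rw [h]; congr 1; exact hgab.symm
  have hg1 : (QuotientGroup.mk g : quadIso Q ⧸ N) = 1 := (QuotientGroup.eq_one_iff g).mpr hg
  rw [h', QuotientGroup.mk_mul, QuotientGroup.mk_mul, QuotientGroup.mk_inv, hg1]
  simp

/-- A normal subgroup containing the Eichler transformations contains the derived group. -/
theorem commutator_le (h2 : (2 : F) ≠ 0) (hQ : (polarBilin Q).Nondegenerate) (hn : 4 ≤ finrank F V)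
    (N : Subgroup (quadIso Q)) [N.Normal]
    (hN : ∀ e w, e ≠ 0 → Q e = 0 → polar Q e w = 0 → ∀ g, IsEich Q e w g → g ∈ N) :
    commutator (quadIso Q) ≤ N := by
  have hc : Subgroup.closure (Refl Q) = ⊤ := closure_refl Q hQ
    (Or.inl ⟨-1, neg_ne_zero.mpr one_ne_zero, fun h => h2 (by linear_combination -h)⟩)
  rw [← Subgroup.Normal.quotient_commutative_iff_commutator_le]
  set π := QuotientGroup.mk' N
  have hgen : ∀ {a b : V} (ha : Q a ≠ 0) (hb : Q b ≠ 0),
      Commute (π (refl Q ha)) (π (refl Q hb)) := by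
    intro a b ha hb
    have hrb : Q ((refl Q ha).1 b) ≠ 0 := by rw [(refl Q ha).2]; exact hb
    have e : π (refl Q ha * refl Q hb * (refl Q ha)⁻¹) = π (refl Q hb) := by
      rw [conj_refl Q (refl Q ha) hb hrb]
      exact (refl_quot Q h2 hQ hn N hN hb hrb (s := 1) (by rw [(refl Q ha).2, one_mul, one_mul])).symm
    rw [map_mul, map_mul, map_inv, mul_inv_eq_iff_eq_mul] at e
    exact e
  refine ⟨⟨fun x y => ?_⟩⟩
  obtain ⟨x, rfl⟩ := QuotientGroup.mk'_surjective N x
  obtain ⟨y, rfl⟩ := QuotientGroup.mk'_surjective N y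
  show Commute (π x) (π y)
  refine closure_induction_refl Q hc (fun x => ∀ y, Commute (π x) (π y)) (fun y => ?_)
    (fun u hu a ha y => ?_) x y
  · rw [map_one]; exact Commute.one_left _
  · rw [map_mul]
    refine Commute.mul_left ?_ (ha y)
    refine closure_induction_refl Q hc (fun y => Commute (π (refl Q hu)) (π y)) ?_ (fun v hv b hb => ?_) y
    · rw [map_one]; exact Commute.one_right _
    · rw [map_mul]; exact (hgen hu hv).mul_right hb

/-! ### Siegel transformations -/

/-- `g` is the Siegel transformation attached to `u`, `v`, `c`. -/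
def IsSieg (u v : V) (c : F) (g : quadIso Q) : Prop :=
  ∀ x, g.1 x = x + ((c * polar Q u x) • v + (-(c * polar Q v x)) • u)

/-- The Siegel transformations attached to totally singular pairs. -/
def Sieg : Set (quadIso Q) :=
  {g | ∃ u v c, Q u = 0 ∧ Q v = 0 ∧ polar Q u v = 0 ∧ IsSieg Q u v c g}

omit [FiniteDimensional F V] [Finite F] in
theorem sieg_eich {u v : V} {c : F} (hv : Q v = 0) (g : quadIso Q) :
    IsSieg Q u v c g ↔ IsEich Q u (c • v) g := by
  refine forall_congr' fun x => ?_
  rw [QuadraticMap.map_smul, hv, smul_zero, zero_mul, sub_zero, polar_smul_left, smul_smul, smul_eq_mul,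
    mul_comm (polar Q u x)]

omit [Finite F] in
/-- Every Siegel transformation is a commutator. -/
theorem sieg_commutator (h2 : (2 : F) ≠ 0) (hQ : (polarBilin Q).Nondegenerate) {g : quadIso Q}
    (hg : g ∈ Sieg Q) : g ∈ commutatorSet (quadIso Q) := by
  obtain ⟨u, v, c, hu, hv, huv, hg⟩ := hg
  by_cases hdep : ∀ p, polar Q v p = 0 ∨ polar Q u p ≠ 0
  · -- `v` is a multiple of `u`
    refine ⟨1, 1, ?_⟩
    rw [commutatorElement_self]
    refine (Subtype.ext (LinearEquiv.ext fun x => ?_)).symm
    rw [hg x]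
    show _ = x
    by_cases hu0 : u = 0
    · simp [hu0, QuadraticMap.polar_zero_left]
    obtain ⟨p₀, hp₀⟩ : ∃ p, polar Q u p ≠ 0 := by
      by_contra h; push Not at h; exact hu0 (hQ.1 u h)
    set t := polar Q v p₀ / polar Q u p₀ with ht
    have hker : ∀ p, polar Q v p = t * polar Q u p := fun p => by
      have h := hdep (p + (-(polar Q u p / polar Q u p₀)) • p₀)
      rw [polar_add_right, polar_add_right, polar_smul_right, polar_smul_right, smul_eq_mul,
        smul_eq_mul] at h
      have h' := h.resolve_right (not_not.mpr (by field_simp; ring))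
      rw [ht]
      field_simp
      field_simp at h'
      linear_combination h'
    have hvt : v = t • u := sub_eq_zero.mp (hQ.1 _ fun p => by
      show polar Q (v - t • u) p = 0
      rw [sub_eq_add_neg, polar_add_left, polar_neg_left, polar_smul_left, hker p, smul_eq_mul,
        add_neg_cancel])
    rw [hvt, polar_smul_left, smul_eq_mul]
    match_scalars <;> ring
  push Not at hdep
  obtain ⟨q₀, hvq, huq⟩ := hdep
  have hu0 : u ≠ 0 ∨ u = 0 := ne_or_eq u 0
  rcases hu0 with hu0 | hu0
  swap
  · refine ⟨1, 1, ?_⟩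
    rw [commutatorElement_self]
    refine (Subtype.ext (LinearEquiv.ext fun x => ?_)).symm
    rw [hg x, hu0, QuadraticMap.polar_zero_left]
    simp
  obtain ⟨p, hp⟩ : ∃ p, polar Q u p = 1 ∧ polar Q v p = 0 := by
    obtain ⟨p₁, hp₁⟩ : ∃ p, polar Q u p ≠ 0 := by
      by_contra h; push Not at h; exact hu0 (hQ.1 u h)
    set p₂ := p₁ + (-(polar Q v p₁ / polar Q v q₀)) • q₀
    refine ⟨(polar Q u p₁)⁻¹ • p₂, ?_, ?_⟩
    · simp [p₂, polar_smul_right, polar_add_right, huq, hp₁]
    · simp [p₂, polar_smul_right, polar_add_right, hvq]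
  obtain ⟨hup, hvp⟩ := hp
  set f := p + (-Q p) • u with hf
  have hQf : Q f = 0 := by
    rw [hf, QuadraticMap.map_add Q p, QuadraticMap.map_smul, hu, polar_smul_right, polar_comm Q p u, hup]
    simp
  have huf : polar Q u f = 1 := by simp [hf, polar_add_right, ReflectionGen.pol_self, hu, hup]
  have hvf : polar Q v f = 0 := by
    simp [hf, polar_add_right, polar_smul_right, hvp, polar_comm Q v u, huv]
  have h1 : Q (u + f) ≠ 0 := by rw [QuadraticMap.map_add Q, hu, hQf, huf]; simp
  have h3 : Q (u + (-1 : F) • f) ≠ 0 := by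
    rw [QuadraticMap.map_add Q, QuadraticMap.map_smul, hu, hQf, polar_smul_right, huf]; simp
  set h := refl Q h1 * refl Q h3
  have hh : ∀ x, h.1 x = x + ((-2) * polar Q f x) • u + ((-2) * polar Q u x) • f := fun x => by
    show (refl Q h1).1 ((refl Q h3).1 x) = _
    rw [refl_apply, refl_apply, QuadraticMap.map_add Q u, QuadraticMap.map_add Q u,
      QuadraticMap.map_smul, hu, hQf, polar_smul_right]
    simp only [polar_add_left, polar_add_right, polar_smul_left, polar_smul_right,
      ReflectionGen.pol_self, hu, hQf, huf, polar_comm Q f u, smul_eq_mul]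
    match_scalars <;> field_simp <;> ring
  set c' := -c / 2 with hc'
  obtain ⟨g', hg'⟩ := exists_eich Q hu (w := c' • v) (by rw [polar_smul_right, huv, smul_zero])
  have hg'' := (sieg_eich Q (c := c') hv g').mpr hg'
  refine ⟨h, g', ?_⟩
  rw [commutatorElement_def, mul_inv_eq_iff_eq_mul, mul_inv_eq_iff_eq_mul]
  refine Subtype.ext (LinearEquiv.ext fun x => ?_)
  show h.1 (g'.1 x) = g.1 (g'.1 (h.1 x))
  rw [hg, hg'', hg'' (h.1 x), hh, hh]
  simp only [polar_add_right, polar_smul_right, ReflectionGen.pol_self, hu, hv, hQf, huv, huf, hvf,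
    polar_comm Q v u, polar_comm Q f u, polar_comm Q f v, smul_eq_mul, hc']
  match_scalars <;> field_simp <;> ring

instance closure_sieg_normal : (Subgroup.closure (Sieg Q)).Normal := by
  rw [← Subgroup.normalizer_eq_top_iff, eq_top_iff]
  intro g _
  have key : ∀ g : quadIso Q, ∀ n ∈ Subgroup.closure (Sieg Q), g * n * g⁻¹ ∈ Subgroup.closure (Sieg Q) := by
    intro g n hn
    refine Subgroup.closure_induction (p := fun n _ => g * n * g⁻¹ ∈ Subgroup.closure (Sieg Q)) ?_ ?_ ?_ ?_ hn
    · rintro s ⟨u, v, c, hu, hv, huv, hs⟩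
      refine Subgroup.subset_closure ⟨g.1 u, g.1 v, c, by rw [g.2, hu], by rw [g.2, hv],
        by rw [OrthOrder.polar_map g.2, huv], fun x => ?_⟩
      show g.1 (s.1 (g.1.symm x)) = _
      rw [hs, map_add, map_add, map_smul, map_smul, LinearEquiv.apply_symm_apply,
        ← OrthOrder.polar_map g.2 u (g.1.symm x), ← OrthOrder.polar_map g.2 v (g.1.symm x),
        LinearEquiv.apply_symm_apply]
    · simp
    · intro a b _ _ ha hb; simpa [mul_assoc] using mul_mem ha hb
    · intro a _ ha; simpa [mul_assoc] using inv_mem ha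
  rw [Subgroup.mem_normalizer_iff]
  exact fun n => ⟨key g n, fun hn => by simpa [mul_assoc] using key g⁻¹ _ hn⟩

theorem eich_mem_closure (h2 : (2 : F) ≠ 0) (hQ : (polarBilin Q).Nondegenerate) (hn : 5 ≤ finrank F V)
    {e w : V} (he0 : e ≠ 0) (he : Q e = 0) (hew : polar Q e w = 0) {g : quadIso Q}
    (hg : IsEich Q e w g) : g ∈ Subgroup.closure (Sieg Q) := by
  obtain ⟨f, hf, hef⟩ := exists_partner Q hQ he0 he
  set U := perp Q e f
  have hU : finrank F V ≤ finrank F U + 2 := perp_finrank Q he hf hef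
  have hUn := perp_nondeg Q hQ he hf hef
  set P : V → Prop := fun w => polar Q e w = 0 ∧ ∃ g, IsEich Q e w g ∧ g ∈ Subgroup.closure (Sieg Q)
  have Padd : ∀ a b, P a → P b → P (a + b) := by
    rintro a b ⟨ha, g₁, hg₁, m₁⟩ ⟨hb, g₂, hg₂, m₂⟩
    exact ⟨by rw [polar_add_right, ha, hb, add_zero], g₁ * g₂, eich_add Q he ha hb hg₁ hg₂, mul_mem m₁ m₂⟩
  have Psing : ∀ v ∈ U, Q v = 0 → ∀ c : F, P (c • v) := fun v hv hQv c => by
    obtain ⟨hev, -⟩ := (mem_perp Q).mp hv
    have hec : polar Q e (c • v) = 0 := by rw [polar_smul_right, hev, smul_zero]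
    obtain ⟨g, hg⟩ := exists_eich Q he hec
    exact ⟨hec, g, hg, Subgroup.subset_closure ⟨e, v, c, he, hQv, hev, (sieg_eich Q hQv g).mpr hg⟩⟩
  obtain ⟨e₂, he₂0, he₂⟩ := FiniteForms.exists_singular (Q.comp U.subtype)
    (show 3 ≤ finrank F U by omega)
  obtain ⟨f₂, hf₂, hef₂⟩ := exists_partner (Q.comp U.subtype) hUn he₂0 he₂
  set w' : U := ⟨_, proj_mem Q he hf hef w⟩ with hw'
  set Q' := Q.comp U.subtype
  set w₂ : U := w' - polar Q' f₂ w' • e₂ - polar Q' e₂ w' • f₂
  have hw₂ : polar Q' e₂ w₂ = 0 ∧ polar Q' f₂ w₂ = 0 :=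
    (mem_perp Q').mp (proj_mem Q' he₂ hf₂ hef₂ w')
  set sv : U := f₂ + w₂ + (-Q' w₂) • e₂
  have hsv : Q' sv = 0 := by
    rw [QuadraticMap.map_add Q', QuadraticMap.map_add Q', QuadraticMap.map_smul, he₂, hf₂,
      polar_smul_right, polar_add_left, polar_comm Q' f₂ e₂, hef₂, polar_comm Q' w₂ e₂, hw₂.1, hw₂.2]
    simp
  have hdec : (w' : U) = (polar Q' f₂ w' + Q' w₂) • e₂ + (polar Q' e₂ w' - 1) • f₂ + (1 : F) • sv := by
    simp only [sv, w₂]
    module
  have hP : P w'.1 := by
    have h := congrArg Subtype.val hdec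
    simp only [Submodule.coe_add, Submodule.coe_smul] at h
    rw [h]
    exact Padd _ _ (Padd _ _ (Psing _ e₂.2 he₂ _) (Psing _ f₂.2 hf₂ _)) (Psing _ sv.2 hsv _)
  obtain ⟨hew', g', hg', hm⟩ := hP
  have hww : w = w'.1 + polar Q f w • e := by
    simp [hw', hew]
  have hs := eich_shift Q he hew' (polar Q f w) hg'
  rw [← hww] at hs
  rw [eich_unique Q hg hs]
  exact hm

/-- The derived group of `O(Q)` is generated by the Siegel transformations. -/
theorem commutator_eq_closure (h2 : (2 : F) ≠ 0) (hQ : (polarBilin Q).Nondegenerate)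
    (hn : 5 ≤ finrank F V) : commutator (quadIso Q) = Subgroup.closure (Sieg Q) := by
  refine le_antisymm (commutator_le Q h2 hQ (by omega) _
    fun e w he0 he hew g hg => eich_mem_closure Q h2 hQ hn he0 he hew hg) ?_
  rw [_root_.commutator_eq_closure]
  exact Subgroup.closure_mono fun g hg => sieg_commutator Q h2 hQ hg

end CfsgLib.Eichler
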