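import Mathlib
import Cfsg.Agent.Lib.SpinorMatrix
import Cfsg.Agent.Lib.FiniteForms.Witt

/-! The centre of `Ω` consists of scalars. -/

set_option autoImplicit false

namespace CfsgLib.OmegaCenter

open QuadraticMap CfsgLib.WittExtension Module CfsgLib.SpinorNorm
open scoped commutatorElement

variable {F V : Type*} [Field F] [AddCommGroup V] [Module F V] (Q : QuadraticForm F V)

/-- An isometry commuting with `(r_a r_b)²` maps `a` into `⟨a, b⟩`. -/
theorem mem_plane {a b : V} (ha : Q a ≠ 0) (hb : Q b ≠ 0) (h1 : polar Q a b ≠ 0)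
    (h4 : polar Q a b * polar Q a b ≠ 4 * (Q a * Q b)) (z : quadIso Q)
    (hz : Commute z ⁅refl Q ha, refl Q hb⁆) : z.1 a ∈ Submodule.span F ({a, b} : Set V) := by
  set W := Submodule.span F ({a, b} : Set V)
  have haW : a ∈ W := Submodule.subset_span (by simp)
  have hbW : b ∈ W := Submodule.subset_span (by simp)
  set c := ⁅refl Q ha, refl Q hb⁆ with hc
  have hcx : ∀ x, c.1 x = (refl Q ha).1 ((refl Q hb).1 ((refl Q ha).1 ((refl Q hb).1 x))) := fun x => by
    rw [hc, commutatorElement_def, refl_inv, refl_inv]; rfl
  have hrW : ∀ (v : V) (hv : Q v ≠ 0), v ∈ W → ∀ x, (refl Q hv).1 x - x ∈ W := fun v hv hvW x => by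
    rw [refl_apply, add_sub_cancel_left]
    exact W.smul_mem _ hvW
  have hcW : ∀ x, c.1 x - x ∈ W := fun x => by
    have h := W.add_mem (W.add_mem (W.add_mem
      (hrW a ha haW ((refl Q hb).1 ((refl Q ha).1 ((refl Q hb).1 x))))
      (hrW b hb hbW ((refl Q ha).1 ((refl Q hb).1 x))))
      (hrW a ha haW ((refl Q hb).1 x))) (hrW b hb hbW x)
    rw [hcx]
    convert h using 1
    abel
  have key : ∀ x, z.1 (c.1 x - x) ∈ W := fun x => by
    have e : z.1 (c.1 x) = c.1 (z.1 x) := congrArg (fun g : quadIso Q => g.1 x) hz.eq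
    rw [map_sub, e]
    exact hcW _
  set β := polar Q a b with hβ
  set t := β * β / (Q a * Q b) with ht
  have hab0 : Q a * Q b ≠ 0 := mul_ne_zero ha hb
  have ht4 : t * (4 - t) ≠ 0 := by
    refine mul_ne_zero (div_ne_zero (mul_ne_zero h1 h1) hab0) (sub_ne_zero.mpr fun h => h4 ?_)
    rw [ht, eq_div_iff hab0] at h
    exact h.symm
  have hid : (t * (4 - t)) • a = (-t) • (c.1 a - a) + ((β / Q b) * (t - 2)) • (c.1 b - b) := by
    simp only [hcx, refl_apply, polar_add_right, polar_smul_right, ReflectionGen.pol_self,
      polar_comm Q b a, ← hβ, smul_eq_mul, ht]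
    match_scalars <;> field_simp <;> ring
  have : (t * (4 - t)) • z.1 a ∈ W := by
    rw [← map_smul, hid, map_add, map_smul, map_smul]
    exact W.add_mem (W.smul_mem _ (key a)) (W.smul_mem _ (key b))
  exact (W.smul_mem_iff ht4).mp this

variable [Finite F] [FiniteDimensional F V]

theorem anisotropic_span (hQ : (polarBilin Q).Nondegenerate) {x : V}
    (h : ∀ a, Q a ≠ 0 → polar Q a x = 0) (hn : 3 ≤ finrank F V) : x = 0 := by
  obtain ⟨a, -, ha⟩ := ReflectionGen.exists_anisotropic Q hQ ⊥ (by rw [finrank_bot]; omega)
  refine hQ.2 x fun v => ?_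
  show polar Q v x = 0
  by_cases hv : Q v = 0
  · by_cases hv' : Q (v + a) = 0
    · by_cases hv'' : Q (v - a) = 0
      · have h2 : (2 : F) * Q a = 0 := by
          rw [QuadraticMap.map_add Q, hv] at hv'
          rw [sub_eq_add_neg, QuadraticMap.map_add Q, hv, QuadraticMap.map_neg, polar_neg_right] at hv''
          linear_combination hv' + hv''
        have h2' : (2 : F) = 0 := (mul_eq_zero.mp h2).resolve_right ha
        rw [QuadraticMap.map_add Q, hv] at hv'
        -- find a third vector
        obtain ⟨d, hd, hd'⟩ : ∃ d, polar Q d x = 0 ∧ polar Q (d + v) x = 0 := by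
          obtain ⟨w, hw, hw'⟩ := ReflectionGen.exists_anisotropic Q hQ (F ∙ v) (by
            have := finrank_span_le_card (R := F) ({v} : Set V)
            simp at this
            omega)
          have hwv : polar Q v w = 0 := hw v (Submodule.mem_span_singleton_self v)
          refine ⟨w, h w hw', h _ ?_⟩
          rw [QuadraticMap.map_add Q, hv, polar_comm Q w v, hwv, add_zero, add_zero]
          exact hw'
        rwa [polar_add_left, hd, zero_add] at hd'
      · have := h _ hv''
        rw [sub_eq_add_neg, polar_add_left, polar_neg_left, h a ha, neg_zero, add_zero] at this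
        exact this
    · have := h _ hv'
      rwa [polar_add_left, h a ha, add_zero] at this
  · exact h v hv

/-- An isometry commuting with all commutators of `O(Q)` is `±1`. -/
theorem central_scalar (hQ : (polarBilin Q).Nondegenerate) (hn : 5 ≤ finrank F V) (z : quadIso Q)
    (hz : ∀ g h : quadIso Q, Commute z ⁅g, h⁆) :
    ∃ s : F, s * s = 1 ∧ ∀ x, z.1 x = s • x := by
  classical
  have hsurj : ∀ f : V →ₗ[F] F, ∃ y, ∀ x, polar Q x y = f x := fun f => by
    obtain ⟨y, hy⟩ := (LinearMap.BilinForm.toDual (polarBilin Q) hQ).surjective f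
    exact ⟨y, fun x => by rw [polar_comm Q x y]; exact LinearMap.congr_fun hy x⟩
  have hline : ∀ a, Q a ≠ 0 → ∃ l : F, l * l = 1 ∧ z.1 a = l • a := by
    intro a ha
    have ha0 : a ≠ 0 := fun e => ha (by rw [e, QuadraticMap.map_zero])
    set S := LinearMap.BilinForm.orthogonal (polarBilin Q) (F ∙ a) with hS
    have hSd : finrank F S = finrank F V - 1 := by
      rw [hS, LinearMap.BilinForm.finrank_orthogonal hQ, finrank_span_singleton ha0]
    obtain ⟨e', he'0, he'⟩ := FiniteForms.exists_singular (Q.comp S.subtype) (by omega)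
    set e : V := e'.1
    have he0 : e ≠ 0 := fun h => he'0 (Subtype.ext h)
    have hQe : Q e = 0 := he'
    have hae : polar Q a e = 0 := e'.2 a (Submodule.mem_span_singleton_self a)
    have hli : LinearIndependent F ![a, e] := by
      rw [LinearIndependent.pair_iff]
      intro s t hst
      have hq : Q (s • a + t • e) = 0 := by rw [hst, QuadraticMap.map_zero]
      rw [QuadraticMap.map_add Q, QuadraticMap.map_smul, QuadraticMap.map_smul, polar_smul_left,
        polar_smul_right, hae, hQe] at hq
      simp [ha] at hq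
      exact ⟨hq, (smul_eq_zero.mp (by rw [← hst, hq, zero_smul, zero_add] : t • e = 0)).resolve_right he0⟩
    obtain ⟨f, hf⟩ := ((Basis.span hli).constr F (fun _ : Fin 2 => (1 : F))).exists_extend
    obtain ⟨b₁, hb₁⟩ := hsurj f
    have hspan : ∀ i, polar Q (![a, e] i) b₁ = 1 := fun i => by
      rw [hb₁]
      have h := LinearMap.congr_fun hf (Basis.span hli i)
      rw [Basis.constr_basis] at h
      rw [← h]
      show f _ = f _
      rw [Submodule.coe_subtype]
      exact congrArg f (congrArg Subtype.val (Basis.span_apply hli i)).symm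
    have hab₁ : polar Q a b₁ = 1 := hspan 0
    have heb₁ : polar Q e b₁ = 1 := hspan 1
    obtain ⟨w, hw0, hw4⟩ : ∃ w : F, w ≠ 0 ∧ 4 * (Q a * w) ≠ 1 := by
      by_cases h : 4 * (Q a * 1) = 1
      · refine ⟨-1, neg_ne_zero.mpr one_ne_zero, fun h' => ?_⟩
        have h2 : (2 : F) = 0 := by linear_combination -h - h'
        exact one_ne_zero (α := F) (by linear_combination -h + 2 * Q a * h2)
      · exact ⟨1, one_ne_zero, h⟩
    have hin : ∀ y, polar Q a y = 0 → polar Q e y = 0 → ∃ t : F, Q (b₁ + y + t • e) = w ∧
        z.1 a ∈ Submodule.span F ({a, b₁ + y + t • e} : Set V) := by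
      intro y hay hey
      refine ⟨w - Q (b₁ + y), ?_, ?_⟩
      · rw [QuadraticMap.map_add Q, QuadraticMap.map_smul, hQe, polar_smul_right, polar_comm Q (b₁ + y) e,
          polar_add_right, heb₁, hey]
        simp
      · set b := b₁ + y + (w - Q (b₁ + y)) • e
        have hQb : Q b = w := by
          rw [QuadraticMap.map_add Q, QuadraticMap.map_smul, hQe, polar_smul_right,
            polar_comm Q (b₁ + y) e, polar_add_right, heb₁, hey]
          simp
        have hb : Q b ≠ 0 := hQb ▸ hw0
        have hpab : polar Q a b = 1 := by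
          simp [b, polar_add_right, polar_smul_right, hab₁, hay, hae]
        refine mem_plane Q ha hb (hpab ▸ one_ne_zero) ?_ z (hz _ _)
        rw [hpab, hQb, one_mul]
        exact hw4.symm
    set P := LinearMap.BilinForm.orthogonal (polarBilin Q) (Submodule.span F (Set.range ![a, e]))
    have hPd : finrank F P = finrank F V - 2 := by
      rw [LinearMap.BilinForm.finrank_orthogonal hQ, finrank_span_eq_card hli, Fintype.card_fin]
    obtain ⟨y, hyP, hy⟩ : ∃ y ∈ P, y ∉ Submodule.span F (Set.range ![a, e]) := by
      by_contra hc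
      push Not at hc
      have := Submodule.finrank_mono (show P ≤ Submodule.span F (Set.range ![a, e]) from hc)
      rw [hPd, finrank_span_eq_card hli, Fintype.card_fin] at this
      omega
    have hay : polar Q a y = 0 := hyP a (Submodule.subset_span ⟨0, rfl⟩)
    have hey : polar Q e y = 0 := hyP e (Submodule.subset_span ⟨1, rfl⟩)
    obtain ⟨t, -, hz1⟩ := hin 0 (polar_zero_right _ _) (polar_zero_right _ _)
    obtain ⟨t', -, hz2⟩ := hin y hay hey
    rw [add_zero] at hz1
    obtain ⟨l, μ, h1⟩ := Submodule.mem_span_pair.mp hz1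
    obtain ⟨l', μ', h2⟩ := Submodule.mem_span_pair.mp hz2
    have hd : (l - l') • a + μ • (b₁ + t • e) - μ' • (b₁ + y + t' • e) = 0 := by
      have h12 := h1.trans h2.symm
      linear_combination (norm := module) h12
    have hμ : μ = μ' := by
      have h := congrArg (polar Q e) hd
      simp [sub_eq_add_neg, polar_add_right, polar_smul_right, polar_neg_right, polar_comm Q e a, hae,
        ReflectionGen.pol_self, hQe, heb₁, hey] at h
      linear_combination h
    have hμ0 : μ' = 0 := by
      by_contra hne
      refine hy ?_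
      rw [Matrix.range_cons_cons_empty, Submodule.mem_span_pair]
      refine ⟨(l - l') / μ', t - t', ?_⟩
      subst hμ
      have h' := congrArg (fun v => μ⁻¹ • v) hd
      simp only [smul_zero, smul_add, smul_sub, smul_smul, inv_mul_cancel₀ hne] at h'
      rw [div_eq_inv_mul]
      linear_combination (norm := (match_scalars <;> field_simp <;> ring)) h'
    refine ⟨l, ?_, ?_⟩
    · have hq := z.2 a
      rw [← h1, hμ, hμ0, zero_smul, add_zero, QuadraticMap.map_smul, smul_eq_mul] at hq
      exact (mul_eq_right₀ ha).mp hq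
    · rw [← h1, hμ, hμ0, zero_smul, add_zero]
  choose L hL2 hL using hline
  have hadj : ∀ a b (ha : Q a ≠ 0) (hb : Q b ≠ 0), polar Q a b ≠ 0 → L a ha = L b hb := by
    intro a b ha hb hab
    have h := CfsgLib.OrthOrder.polar_map z.2 a b
    rw [hL a ha, hL b hb, polar_smul_left, polar_smul_right, smul_eq_mul, smul_eq_mul] at h
    have h' : L a ha * L b hb = 1 := mul_right_cancel₀ hab (by linear_combination h)
    calc L a ha = L a ha * (L b hb * L b hb) := by rw [hL2, mul_one]
      _ = L b hb := by rw [← mul_assoc, h', one_mul]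
  obtain ⟨a, -, ha⟩ := ReflectionGen.exists_anisotropic Q hQ ⊥ (by rw [finrank_bot]; omega)
  have hall : ∀ b (hb : Q b ≠ 0), L b hb = L a ha := by
    intro b hb
    by_cases hab : polar Q a b = 0
    · by_cases h2 : (2 : F) = 0
      · have h1 : ∀ v (hv : Q v ≠ 0), L v hv = 1 := fun v hv => by
          have := hL2 v hv
          rcases mul_self_eq_one_iff.mp this with h | h
          · exact h
          · rw [h]; linear_combination -h2
        rw [h1, h1]
      · obtain ⟨c, hc, hca, hcb⟩ : ∃ c, Q c ≠ 0 ∧ polar Q a c ≠ 0 ∧ polar Q b c ≠ 0 := by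
          obtain ⟨d, hd, hd'⟩ := ReflectionGen.exists_anisotropic Q hQ (Submodule.span F {a, b}) (by
            have h := finrank_span_le_card (R := F) ({a, b} : Set V)
            have h' : ({a, b} : Set V).toFinset.card ≤ 2 := by simp; exact Finset.card_le_two
            omega)
          have hda : polar Q a d = 0 := hd a (Submodule.subset_span (by simp))
          have hdb : polar Q b d = 0 := hd b (Submodule.subset_span (by simp))
          have hba : polar Q b a = 0 := by rw [polar_comm, hab]
          by_cases hs : Q a + Q b = 0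
          · refine ⟨a + b + d, ?_, ?_, ?_⟩
            · rw [QuadraticMap.map_add Q, QuadraticMap.map_add Q a b, hab, polar_add_left, hda, hdb, hs]
              simpa using hd'
            · simp [polar_add_right, ReflectionGen.pol_self, hab, hda, h2, ha]
            · simp [polar_add_right, ReflectionGen.pol_self, hba, hdb, h2, hb]
          · refine ⟨a + b, ?_, ?_, ?_⟩
            · rw [QuadraticMap.map_add Q, hab, add_zero]; exact hs
            · simp [polar_add_right, ReflectionGen.pol_self, hab, h2, ha]
            · simp [polar_add_right, ReflectionGen.pol_self, hba, h2, hb]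
        rw [hadj b c hb hc hcb, hadj a c ha hc hca]
    · exact (hadj a b ha hb hab).symm
  refine ⟨L a ha, hL2 a ha, fun x => ?_⟩
  refine sub_eq_zero.mp (anisotropic_span Q hQ (fun b hb => ?_) (by omega))
  have h := CfsgLib.OrthOrder.polar_map z.2 b x
  rw [hL b hb, hall b hb, polar_smul_left, smul_eq_mul] at h
  rw [sub_eq_add_neg, polar_add_right, polar_neg_right, polar_smul_right, smul_eq_mul]
  linear_combination (L a ha) * h - polar Q b (z.1 x) * hL2 a ha

end CfsgLib.OmegaCenter
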