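import Mathlib
import Cfsg.Agent.Lib.Eichler
import Cfsg.Agent.Lib.OmegaCenter
import Cfsg.Prelude.Def_Classical

/-! Simplicity of the derived group of an isotropic orthogonal group modulo its centre, in every
characteristic. -/

set_option autoImplicit false
set_option linter.style.haveILetI false

namespace CfsgLib.OmegaSimple

open QuadraticMap CfsgLib.WittExtension Module CfsgLib.SpinorNorm CfsgLib.Eichler
open scoped commutatorElement Pointwise

variable {F V : Type*} [Field F] [AddCommGroup V] [Module F V] (Q : QuadraticForm F V)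

/-- Conjugates of Eichler transformations. -/
theorem eich_conj {e w : V} {g : quadIso Q} (hg : IsEich Q e w g) (h : quadIso Q) :
    IsEich Q (h.1 e) (h.1 w) (h * g * h⁻¹) := fun x => by
  show h.1 (g.1 (h.1.symm x)) = _
  rw [hg, map_add, map_add, map_smul, map_smul, LinearEquiv.apply_symm_apply, h.2 w,
    ← OrthOrder.polar_map h.2 e (h.1.symm x), ← OrthOrder.polar_map h.2 w (h.1.symm x),
    LinearEquiv.apply_symm_apply]

theorem eich_scale {e w : V} (c : F) {g : quadIso Q} (hg : IsEich Q (c • e) w g) :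
    IsEich Q e (c • w) g := fun x => by
  rw [hg x, polar_smul_left, polar_smul_left, QuadraticMap.map_smul]
  simp only [smul_eq_mul]
  match_scalars <;> ring

/-- Pairs with polar value one. -/
theorem exists_polar_one {W : Type*} [AddCommGroup W] [Module F W] (R : QuadraticForm F W)
    (hR : (polarBilin R).Nondegenerate) (hW : 0 < finrank F W) : ∃ a b, polar R a b = 1 := by
  haveI := Module.nontrivial_of_finrank_pos (R := F) hW
  obtain ⟨a, ha⟩ := exists_ne (0 : W)
  obtain ⟨y, hy⟩ : ∃ y, polar R a y ≠ 0 := by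
    by_contra h; push Not at h; exact ha (hR.1 a h)
  exact ⟨a, (polar R a y)⁻¹ • y, by rw [polar_smul_right, smul_eq_mul, inv_mul_cancel₀ hy]⟩

theorem exists_nonzero_value {W : Type*} [AddCommGroup W] [Module F W] (R : QuadraticForm F W)
    (hR : (polarBilin R).Nondegenerate) (hW : 0 < finrank F W) : ∃ a, R a ≠ 0 := by
  obtain ⟨a, b, hab⟩ := exists_polar_one R hR hW
  by_contra h
  push Not at h
  simp [polar, h] at hab

variable [FiniteDimensional F V] [Finite F]

theorem singular_avoid' (hQ : (polarBilin Q).Nondegenerate) (hn : 4 ≤ finrank F V)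
    {e b : V} (he0 : e ≠ 0) (he : Q e = 0) (hb : b ≠ 0) :
    ∃ f, Q f = 0 ∧ polar Q e f = 1 ∧ polar Q f b ≠ 0 := by
  obtain ⟨f, hf, hef⟩ := exists_partner Q hQ he0 he
  by_contra h
  push Not at h
  have key : ∀ w ∈ perp Q e f, polar Q b f + polar Q b w - Q w * polar Q b e = 0 := fun w hw => by
    obtain ⟨hew, hfw⟩ := (mem_perp Q).mp hw
    have h' := h (f + w + (-Q w) • e) (by
      rw [QuadraticMap.map_add Q (f + w), QuadraticMap.map_add Q f, QuadraticMap.map_smul, he, hf,
        polar_smul_right, polar_add_left, polar_comm Q f e, hef, polar_comm Q w e, hew, hfw]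
      simp) (by
      simp [polar_add_right, ReflectionGen.pol_self, he, hef, hew])
    rw [polar_comm] at h'
    simpa [polar_add_right, polar_smul_right, sub_eq_add_neg] using h'
  have hbf : polar Q b f = 0 := by simpa using key 0 (zero_mem _)
  have hB : ∀ w ∈ perp Q e f, polar Q b w = Q w * polar Q b e := fun w hw => by
    have := key w hw
    rw [hbf] at this
    linear_combination this
  obtain ⟨w1, w2, h12⟩ := exists_polar_one (Q.comp (perp Q e f).subtype) (perp_nondeg Q hQ he hf hef)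
    (by have := perp_finrank Q he hf hef; omega)
  have h12' : polar Q w1.1 w2.1 = 1 := h12
  have hbe : polar Q b e = 0 := by
    have h3 := hB _ (add_mem w1.2 w2.2)
    rw [polar_add_right, hB _ w1.2, hB _ w2.2, QuadraticMap.map_add Q, h12'] at h3
    linear_combination -h3
  have hbw : ∀ w ∈ perp Q e f, polar Q b w = 0 := fun w hw => by rw [hB w hw, hbe, mul_zero]
  refine hb (hQ.1 b fun y => ?_)
  show polar Q b y = 0
  have := hbw _ (proj_mem Q he hf hef y)
  simpa [sub_eq_add_neg, polar_add_right, polar_neg_right, polar_smul_right, hbe, hbf] using this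

/-- A subgroup containing the Eichler transformations is transitive on each non-zero level set. -/
theorem transitive' (hQ : (polarBilin Q).Nondegenerate) (hn : 5 ≤ finrank F V)
    (N : Subgroup (quadIso Q))
    (hN : ∀ e w, e ≠ 0 → Q e = 0 → polar Q e w = 0 → ∀ g, IsEich Q e w g → g ∈ N)
    {a b : V} (ha : Q a ≠ 0) (hab : Q a = Q b) : ∃ g ∈ N, g.1 a = b := by
  have step : ∀ e, e ≠ 0 → Q e = 0 → ∀ a x, polar Q e a ≠ 0 → Q x = Q a →
      polar Q e x = polar Q e a → ∃ g ∈ N, g.1 a = x := by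
    intro e he0 he a x hA hQx hex
    set w := (polar Q e a)⁻¹ • (x - a) with hw
    have hew : polar Q e w = 0 := by
      simp [hw, polar_smul_right, sub_eq_add_neg, polar_add_right, polar_neg_right, hex]
    obtain ⟨g, hg⟩ := exists_eich Q he hew
    refine ⟨g, hN e w he0 he hew g hg, ?_⟩
    set κ := -(polar Q w a) - Q w * polar Q e a
    have hga : g.1 a = x + κ • e := by
      rw [hg a, hw, smul_smul, mul_inv_cancel₀ hA, one_smul]
      abel
    have hq := g.2 a
    rw [hga, QuadraticMap.map_add Q x, QuadraticMap.map_smul, he, polar_smul_right, polar_comm Q x e,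
      hex, hQx] at hq
    simp at hq
    rw [hga, hq.resolve_right hA, zero_smul, add_zero]
  obtain ⟨e₀, he₀0, he₀⟩ := FiniteForms.exists_singular Q (by omega)
  obtain ⟨e, he, hee, hea⟩ := singular_avoid' Q hQ (by omega) he₀0 he₀ (b := a)
    (fun h => ha (by rw [h, QuadraticMap.map_zero]))
  have he0 : e ≠ 0 := fun h => by simp [h] at hee
  obtain ⟨f, hf, hef, hfb⟩ := singular_avoid' Q hQ (by omega) he0 he (b := b)
    (fun h => ha (by rw [hab, h, QuadraticMap.map_zero]))
  have hU := perp_finrank Q he hf hef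
  obtain ⟨u, hu0, hu⟩ := FiniteForms.exists_singular (Q.comp (perp Q e f).subtype)
    (show 3 ≤ finrank F (perp Q e f) by omega)
  obtain ⟨u', hu', huu⟩ := exists_partner (Q.comp (perp Q e f).subtype) (perp_nondeg Q hQ he hf hef) hu0 hu
  set α := Q a - polar Q e a * polar Q f b with hα
  obtain ⟨w, hw, hQw⟩ : ∃ w ∈ perp Q e f, Q w = α := by
    refine ⟨(α • u + u').1, (α • u + u').2, ?_⟩
    show (Q.comp (perp Q e f).subtype) (α • u + u') = α
    rw [QuadraticMap.map_add (Q.comp (perp Q e f).subtype), QuadraticMap.map_smul, hu, hu', polar_smul_left, huu]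
    simp
  obtain ⟨hew, hfw⟩ := (mem_perp Q).mp hw
  set x := polar Q e a • f + polar Q f b • e + w with hx
  have hex : polar Q e x = polar Q e a := by
    simp [hx, polar_add_right, polar_smul_right, ReflectionGen.pol_self, he, hef, hew]
  have hfx : polar Q f x = polar Q f b := by
    simp [hx, polar_add_right, polar_smul_right, ReflectionGen.pol_self, hf, polar_comm Q f e, hef, hfw]
  have hQx : Q x = Q a := by
    rw [hx, QuadraticMap.map_add Q (polar Q e a • f + polar Q f b • e),
      QuadraticMap.map_add Q (polar Q e a • f), QuadraticMap.map_smul, QuadraticMap.map_smul, he, hf,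
      hQw, hα]
    simp [polar_add_left, polar_smul_left, polar_smul_right, polar_comm Q f e, hef, hew, hfw]
    ring
  obtain ⟨g₁, hg₁, h₁⟩ := step e he0 he a x hea hQx hex
  have hf0 : f ≠ 0 := fun h => by simp [h] at hef
  obtain ⟨g₂, hg₂, h₂⟩ := step f hf0 hf x b (by rw [hfx]; exact hfb) (by rw [hQx, hab]) hfx.symm
  refine ⟨g₂ * g₁, mul_mem hg₂ hg₁, ?_⟩
  show g₂.1 (g₁.1 a) = b
  rw [h₁, h₂]

/-- Singular vectors span. -/
theorem singular_span (hQ : (polarBilin Q).Nondegenerate) (hn : 5 ≤ finrank F V) (p : V → Prop)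
    (padd : ∀ a b, p a → p b → p (a + b)) (psing : ∀ v, Q v = 0 → ∀ c : F, p (c • v)) {e f : V}
    (he : Q e = 0) (hf : Q f = 0) (hef : polar Q e f = 1) {u : V} (hu : u ∈ perp Q e f) : p u := by
  have hU := perp_finrank Q he hf hef
  set Q' := Q.comp (perp Q e f).subtype
  obtain ⟨e₂, he₂0, he₂⟩ := FiniteForms.exists_singular Q' (show 3 ≤ finrank F (perp Q e f) by omega)
  obtain ⟨f₂, hf₂, hef₂⟩ := exists_partner Q' (perp_nondeg Q hQ he hf hef) he₂0 he₂
  set w' : perp Q e f := ⟨u, hu⟩
  set w₂ : perp Q e f := w' - polar Q' f₂ w' • e₂ - polar Q' e₂ w' • f₂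
  have hw₂ : polar Q' e₂ w₂ = 0 ∧ polar Q' f₂ w₂ = 0 :=
    (mem_perp Q').mp (proj_mem Q' he₂ hf₂ hef₂ w')
  set sv : perp Q e f := f₂ + w₂ + (-Q' w₂) • e₂
  have hsv : Q' sv = 0 := by
    rw [QuadraticMap.map_add Q', QuadraticMap.map_add Q', QuadraticMap.map_smul, he₂, hf₂,
      polar_smul_right, polar_add_left, polar_comm Q' f₂ e₂, hef₂, polar_comm Q' w₂ e₂, hw₂.1, hw₂.2]
    simp
  have hdec : (w' : perp Q e f) = (polar Q' f₂ w' + Q' w₂) • e₂ + (polar Q' e₂ w' - 1) • f₂ + (1 : F) • sv := by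
    simp only [sv, w₂]
    module
  have h := congrArg Subtype.val hdec
  simp only [Submodule.coe_add, Submodule.coe_smul] at h
  show p w'.1
  rw [h]
  exact padd _ _ (padd _ _ (psing _ he₂ _) (psing _ hf₂ _)) (psing _ hsv _)

theorem eich_mem (hQ : (polarBilin Q).Nondegenerate) (hn : 5 ≤ finrank F V)
    {e w : V} (he0 : e ≠ 0) (he : Q e = 0) (hew : polar Q e w = 0) {g : quadIso Q}
    (hg : IsEich Q e w g) : g ∈ Subgroup.closure (Sieg Q) := by
  obtain ⟨f, hf, hef⟩ := exists_partner Q hQ he0 he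
  set p : V → Prop := fun w => polar Q e w = 0 → ∃ g, IsEich Q e w g ∧ g ∈ Subgroup.closure (Sieg Q)
  have key : ∀ u ∈ perp Q e f, polar Q e u = 0 ∧ ∃ g, IsEich Q e u g ∧ g ∈ Subgroup.closure (Sieg Q) := by
    intro u hu
    set U := perp Q e f
    have hU : finrank F V ≤ finrank F U + 2 := perp_finrank Q he hf hef
    set Q' := Q.comp U.subtype
    obtain ⟨e₂, he₂0, he₂⟩ := FiniteForms.exists_singular Q' (show 3 ≤ finrank F U by omega)
    obtain ⟨f₂, hf₂, hef₂⟩ := exists_partner Q' (perp_nondeg Q hQ he hf hef) he₂0 he₂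
    set P : V → Prop := fun w => polar Q e w = 0 ∧ ∃ g, IsEich Q e w g ∧ g ∈ Subgroup.closure (Sieg Q)
    have Padd : ∀ a b, P a → P b → P (a + b) := by
      rintro a b ⟨ha, g₁, hg₁, m₁⟩ ⟨hb, g₂, hg₂, m₂⟩
      exact ⟨by rw [polar_add_right, ha, hb, add_zero], g₁ * g₂, eich_add Q he ha hb hg₁ hg₂, mul_mem m₁ m₂⟩
    have Psing : ∀ v ∈ U, Q v = 0 → ∀ c : F, P (c • v) := fun v hv hQv c => by
      obtain ⟨hev, -⟩ := (mem_perp Q).mp hv
      have hec : polar Q e (c • v) = 0 := by rw [polar_smul_right, hev, smul_zero]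
      obtain ⟨g, hg⟩ := exists_eich Q he hec
      exact ⟨hec, g, hg, Subgroup.subset_closure ⟨e, v, c, he, hQv, hev, (sieg_eich Q hQv g).mpr hg⟩⟩
    set w' : U := ⟨u, hu⟩
    set w₂ : U := w' - polar Q' f₂ w' • e₂ - polar Q' e₂ w' • f₂
    have hw₂ : polar Q' e₂ w₂ = 0 ∧ polar Q' f₂ w₂ = 0 :=
      (mem_perp Q').mp (proj_mem Q' he₂ hf₂ hef₂ w')
    set sv : U := f₂ + w₂ + (-Q' w₂) • e₂
    have hsv : Q' sv = 0 := by
      rw [QuadraticMap.map_add Q', QuadraticMap.map_add Q', QuadraticMap.map_smul, he₂, hf₂,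
        polar_smul_right, polar_add_left, polar_comm Q' f₂ e₂, hef₂, polar_comm Q' w₂ e₂, hw₂.1, hw₂.2]
      simp
    have hdec : (w' : U) = (polar Q' f₂ w' + Q' w₂) • e₂ + (polar Q' e₂ w' - 1) • f₂ + (1 : F) • sv := by
      simp only [sv, w₂]
      module
    have h := congrArg Subtype.val hdec
    simp only [Submodule.coe_add, Submodule.coe_smul] at h
    show P w'.1
    rw [h]
    exact Padd _ _ (Padd _ _ (Psing _ e₂.2 he₂ _) (Psing _ f₂.2 hf₂ _)) (Psing _ sv.2 hsv _)
  obtain ⟨hew', g', hg', hm⟩ := key _ (proj_mem Q he hf hef w)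
  have hs := eich_shift Q he hew' (polar Q f w) hg'
  rw [show (w - polar Q f w • e - polar Q e w • f) + polar Q f w • e = w by simp [hew]] at hs
  rw [eich_unique Q hg hs]
  exact hm

/-- Eichler transformations of singular vectors are commutators of Eichler transformations. -/
theorem sing_mem_perfect (hQ : (polarBilin Q).Nondegenerate) (hn : 5 ≤ finrank F V)
    {e w : V} (he : Q e = 0) (hw : Q w = 0) (hew : polar Q e w = 0) {g : quadIso Q}
    (hg : IsEich Q e w g) :
    g ∈ ⁅Subgroup.closure (Sieg Q), Subgroup.closure (Sieg Q)⁆ := by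
  have hone : ∀ g : quadIso Q, IsEich Q e 0 g → g ∈ ⁅Subgroup.closure (Sieg Q), Subgroup.closure (Sieg Q)⁆ :=
    fun g hg => by rw [eich_unique Q hg (eich_zero Q e)]; exact one_mem _
  by_cases he0 : e = 0
  · subst he0
    refine hone g fun x => ?_
    rw [hg x]
    simp [QuadraticMap.polar_zero_left]
  obtain ⟨f, hf, hef⟩ := exists_partner Q hQ he0 he
  set v := w + (-polar Q f w) • e with hvdef
  have hv : IsEich Q e v g := eich_shift Q he hew _ hg
  have hev : polar Q e v = 0 := by
    simp [hvdef, polar_add_right, ReflectionGen.pol_self, he, hew]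
  have hfv : polar Q f v = 0 := by
    simp [hvdef, polar_add_right, polar_smul_right, polar_comm Q f e, hef]
  have hQv : Q v = 0 := by
    rw [hvdef, QuadraticMap.map_add Q, QuadraticMap.map_smul, hw, he, polar_smul_right,
      polar_comm Q w e, hew]
    simp
  by_cases hv0 : v = 0
  · rw [hv0] at hv; exact hone g hv
  set U := perp Q e f
  let v₀ : U := ⟨v, (mem_perp Q).mpr ⟨hev, hfv⟩⟩
  have hUn := perp_nondeg Q hQ he hf hef
  have hU : finrank F V ≤ finrank F U + 2 := perp_finrank Q he hf hef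
  obtain ⟨v', hv', hvv'⟩ := exists_partner (Q.comp U.subtype) hUn (e := v₀)
    (fun h => hv0 (congrArg Subtype.val h)) hQv
  have hWn := perp_nondeg (Q.comp U.subtype) hUn (e := v₀) hQv hv' hvv'
  have hW := perp_finrank (Q.comp U.subtype) (e := v₀) hQv hv' hvv'
  obtain ⟨a, b, hab⟩ := exists_polar_one _ hWn (by omega)
  have hab' : polar Q (a.1.1) (b.1.1) = 1 := hab
  have hva : polar Q v a.1.1 = 0 := ((mem_perp (Q.comp U.subtype)).mp a.2).1
  have hvb : polar Q v b.1.1 = 0 := ((mem_perp (Q.comp U.subtype)).mp b.2).1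
  have hea : polar Q e a.1.1 = 0 := ((mem_perp Q).mp a.1.2).1
  have heb : polar Q e b.1.1 = 0 := ((mem_perp Q).mp b.1.2).1
  have hve : polar Q v ((-1 : F) • e) = 0 := by
    rw [polar_smul_right, polar_comm Q v e, hev, smul_zero]
  obtain ⟨g₁, h₁⟩ := exists_eich Q he hea
  obtain ⟨g₂, h₂⟩ := exists_eich Q hQv hvb
  obtain ⟨k, hk⟩ := exists_eich Q hQv hve
  have hk' : IsEich Q e v k := fun x => by
    rw [hk x, QuadraticMap.map_smul, he, polar_smul_left, hQv]
    simp only [smul_eq_mul]
    match_scalars <;> ring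
  have hc := eich_conj Q h₂ g₁
  have e1 : g₁.1 v = v := by
    rw [h₁ v, hev, polar_comm Q a.1.1 v, hva]
    simp
  have e2 : g₁.1 b.1.1 = (-1 : F) • e + b.1.1 := by
    rw [h₁ b.1.1, heb, hab']
    simp [add_comm]
  rw [e1, e2] at hc
  have hsum := eich_add Q hQv hve hvb hk h₂
  have hgk : g = ⁅g₁, g₂⁆ := by
    rw [commutatorElement_def, eich_unique Q hc hsum, mul_inv_cancel_right]
    exact eich_unique Q hv hk'
  rw [hgk]
  exact Subgroup.commutator_mem_commutator (eich_mem Q hQ hn he0 he hea h₁)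
    (eich_mem Q hQ hn hv0 hQv hvb h₂)

theorem perfect (hQ : (polarBilin Q).Nondegenerate) (hn : 5 ≤ finrank F V) :
    ⁅Subgroup.closure (Sieg Q), Subgroup.closure (Sieg Q)⁆ = Subgroup.closure (Sieg Q) := by
  refine le_antisymm (Subgroup.commutator_le_left _ _) ?_
  rw [Subgroup.closure_le]
  rintro g ⟨u, v, c, hu, hv, huv, hg⟩
  exact sing_mem_perfect Q hQ hn hu (by rw [QuadraticMap.map_smul, hv, smul_zero])
    (by rw [polar_smul_right, huv, smul_zero]) ((sieg_eich Q hv g).mp hg)

/-- The derived group is generated by the Siegel transformations. -/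
theorem commutator_eq (hQ : (polarBilin Q).Nondegenerate) (hn : 5 ≤ finrank F V) :
    commutator (quadIso Q) = Subgroup.closure (Sieg Q) := by
  refine le_antisymm ?_ ?_
  swap
  · rw [← perfect Q hQ hn, _root_.commutator_def]
    exact Subgroup.commutator_mono le_top le_top
  set N := Subgroup.closure (Sieg Q)
  have hN : ∀ e w, e ≠ 0 → Q e = 0 → polar Q e w = 0 → ∀ g, IsEich Q e w g → g ∈ N :=
    fun e w he0 he hew g hg => eich_mem Q hQ hn he0 he hew hg
  have hc : Subgroup.closure (Refl Q) = ⊤ := closure_refl Q hQ (Or.inr (by omega))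
  rw [← Subgroup.Normal.quotient_commutative_iff_commutator_le]
  set π := QuotientGroup.mk' N
  have hgen : ∀ {a b : V} (ha : Q a ≠ 0) (hb : Q b ≠ 0),
      Commute (π (refl Q ha)) (π (refl Q hb)) := by
    intro a b ha hb
    obtain ⟨g, hg, hgb⟩ := transitive' Q hQ hn N hN hb ((refl Q ha).2 b).symm
    have hrb : Q ((refl Q ha).1 b) ≠ 0 := by rw [(refl Q ha).2]; exact hb
    have e : π (refl Q ha * refl Q hb * (refl Q ha)⁻¹) = π (refl Q hb) := by
      have hgQ : Q (g.1 b) ≠ 0 := by rw [g.2]; exact hb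
      have hg1 : π g = 1 := (QuotientGroup.eq_one_iff g).mpr hg
      rw [conj_refl Q (refl Q ha) hb hrb, show refl Q hrb = refl Q hgQ by congr 1; exact hgb.symm,
        ← conj_refl Q g hb hgQ, map_mul, map_mul, map_inv, hg1]
      simp
    rw [map_mul, map_mul, map_inv, mul_inv_eq_iff_eq_mul] at e
    exact e
  refine ⟨⟨fun x y => ?_⟩⟩
  obtain ⟨x, rfl⟩ := QuotientGroup.mk'_surjective N x
  obtain ⟨y, rfl⟩ := QuotientGroup.mk'_surjective N y
  show Commute (π x) (π y)
  refine closure_induction_refl Q hc (fun x => ∀ y, Commute (π x) (π y)) (fun y => ?_)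
    (fun u hu a ha y => ?_) x y
  · rw [map_one]; exact Commute.one_left _
  · rw [map_mul]
    refine Commute.mul_left ?_ (ha y)
    refine closure_induction_refl Q hc (fun y => Commute (π (refl Q hu)) (π y)) ?_ (fun v hv b hb => ?_) y
    · rw [map_one]; exact Commute.one_right _
    · rw [map_mul]; exact (hgen hu hv).mul_right hb


/-! ### The action on singular points -/

/-- The singular points. -/
def SPt : Type _ := {S : Submodule F V // ∃ e, e ≠ 0 ∧ Q e = 0 ∧ S = Submodule.span F {e}}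

variable {Q}

theorem map_span_single (g : quadIso Q) (e : V) :
    (Submodule.span F {e}).map (g.1 : V →ₗ[F] V) = Submodule.span F {g.1 e} := by
  rw [Submodule.map_span, Set.image_singleton]; rfl

instance : MulAction (quadIso Q) (SPt Q) where
  smul g x := ⟨x.1.map (g.1 : V →ₗ[F] V), by
    obtain ⟨e, he0, he, hx⟩ := x.2
    exact ⟨g.1 e, fun h => he0 (g.1.injective (h.trans g.1.map_zero.symm)), by rw [g.2, he],
      by rw [hx, map_span_single]⟩⟩
  one_smul x := Subtype.ext (Submodule.map_id x.1)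
  mul_smul g h x := Subtype.ext (show x.1.map ((g * h).1 : V →ₗ[F] V) = (x.1.map (h.1 : V →ₗ[F] V)).map (g.1 : V →ₗ[F] V) by
    rw [← Submodule.map_comp]; rfl)

/-- The point of a singular vector. -/
def pt {e : V} (he0 : e ≠ 0) (he : Q e = 0) : SPt Q := ⟨Submodule.span F {e}, e, he0, he, rfl⟩

theorem pt_surj (x : SPt Q) : ∃ (e : V) (he0 : e ≠ 0) (he : Q e = 0), x = pt he0 he := by
  obtain ⟨e, he0, he, hx⟩ := x.2
  exact ⟨e, he0, he, Subtype.ext hx⟩

theorem smul_pt_eq (g : quadIso Q) {e f : V} (he0 : e ≠ 0) (he : Q e = 0) (hf0 : f ≠ 0) (hf : Q f = 0)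
    {c : F} (hc : c ≠ 0) (h : g.1 e = c • f) : g • pt he0 he = pt hf0 hf :=
  Subtype.ext (show (Submodule.span F {e}).map (g.1 : V →ₗ[F] V) = Submodule.span F {f} by
    rw [map_span_single, h, Submodule.span_singleton_smul_eq hc.isUnit])

theorem smul_pt (g : quadIso Q) {e : V} (he0 : e ≠ 0) (he : Q e = 0) :
    g • pt he0 he = pt (fun h => he0 (g.1.injective (h.trans g.1.map_zero.symm))) (by rw [g.2, he]) :=
  smul_pt_eq g he0 he _ _ one_ne_zero (one_smul F _).symm

theorem pt_eq {e f : V} (he0 : e ≠ 0) (he : Q e = 0) (hf0 : f ≠ 0) (hf : Q f = 0) (c : F) (h : e = c • f) :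
    pt he0 he = pt hf0 hf :=
  Subtype.ext (show Submodule.span F {e} = Submodule.span F {f} by
    have hc : c ≠ 0 := fun hc => he0 (by rw [h, hc, zero_smul])
    rw [h, Submodule.span_singleton_smul_eq hc.isUnit])

variable (Q)

/-- Move a singular vector to another one with the same value against `f`. -/
theorem move (hQ : (polarBilin Q).Nondegenerate) (hn : 5 ≤ finrank F V) {f y z : V} (hf : Q f = 0)
    (hy : Q y = 0) (hz : Q z = 0) (hfy : polar Q f y ≠ 0) (hfz : polar Q f z ≠ 0) :
    ∃ g ∈ Subgroup.closure (Sieg Q), g.1 f = f ∧ ∃ c : F, c ≠ 0 ∧ g.1 y = c • z := by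
  have hf0 : f ≠ 0 := fun h => hfy (by rw [h, QuadraticMap.polar_zero_left])
  set c := polar Q f y * (polar Q f z)⁻¹
  set z' := c • z with hz'
  have hfz' : polar Q f z' = polar Q f y := by
    rw [hz', polar_smul_right, smul_eq_mul]; simp [c, hfz]
  have hQz' : Q z' = 0 := by rw [hz', QuadraticMap.map_smul, hz, smul_zero]
  set w := (polar Q f y)⁻¹ • (z' - y) with hw
  have hfw : polar Q f w = 0 := by
    simp [hw, polar_smul_right, sub_eq_add_neg, polar_add_right, polar_neg_right, hfz']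
  obtain ⟨g, hg⟩ := exists_eich Q hf hfw
  refine ⟨g, eich_mem Q hQ hn hf0 hf hfw hg, ?_, c, mul_ne_zero hfy (inv_ne_zero hfz), ?_⟩
  · rw [hg f, ReflectionGen.pol_self, hf, polar_comm Q w f, hfw]; simp
  · set κ := -(polar Q w y) - Q w * polar Q f y
    have hga : g.1 y = z' + κ • f := by
      rw [hg y, hw, smul_smul, mul_inv_cancel₀ hfy, one_smul]
      abel
    have hq := g.2 y
    rw [hga, QuadraticMap.map_add Q z', hQz', QuadraticMap.map_smul, hf, polar_smul_right, polar_comm Q z' f,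
      hfz', hy] at hq
    simp at hq
    rw [hga, hq.resolve_right hfy, zero_smul, add_zero]

/-- An isometry fixing every singular point is scalar. -/
theorem scalar_of_fix (hQ : (polarBilin Q).Nondegenerate) (hn : 5 ≤ finrank F V) (g : quadIso Q)
    (hg : ∀ x : SPt Q, g • x = x) : ∃ c : F, ∀ v, g.1 v = c • v := by
  have h1 : ∀ e, e ≠ 0 → Q e = 0 → ∃ l : F, g.1 e = l • e := fun e he0 he => by
    have := congrArg Subtype.val (hg (pt he0 he))
    change (Submodule.span F {e}).map (g.1 : V →ₗ[F] V) = Submodule.span F {e} at this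
    rw [map_span_single] at this
    obtain ⟨l, hl⟩ := Submodule.mem_span_singleton.mp (this ▸ Submodule.mem_span_singleton_self (g.1 e))
    exact ⟨l, hl.symm⟩
  choose! lam hlam using h1
  have hperp : ∀ e v, e ≠ 0 → v ≠ 0 → Q e = 0 → Q v = 0 → polar Q e v = 0 → lam e = lam v := by
    intro e v he0 hv0 he hv hev
    by_cases hdep : ∃ t : F, v = t • e
    · obtain ⟨t, rfl⟩ := hdep
      have h := hlam _ hv0 hv
      rw [map_smul, hlam e he0 he, smul_smul, smul_smul] at h
      have ht : t ≠ 0 := fun e => hv0 (by rw [e, zero_smul])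
      have := smul_left_injective F he0 h
      exact mul_left_cancel₀ ht (this.trans (mul_comm _ _))
    · have hsum0 : e + v ≠ 0 := fun h => hdep ⟨-1, by rw [neg_one_smul]; exact (eq_neg_of_add_eq_zero_right h)⟩
      have hsum : Q (e + v) = 0 := by rw [QuadraticMap.map_add Q, he, hv, hev]; simp
      have h := hlam _ hsum0 hsum
      rw [map_add, hlam e he0 he, hlam v hv0 hv, smul_add] at h
      set L := lam (e + v)
      have h' : (lam e - L) • e = (L - lam v) • v := by
        rw [sub_smul, sub_smul, sub_eq_sub_iff_add_eq_add, h]; abel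
      by_cases hv' : L - lam v = 0
      · rw [hv', zero_smul, smul_eq_zero] at h'
        rw [sub_eq_zero.mp (h'.resolve_right he0)]
        exact sub_eq_zero.mp hv'
      · exact absurd ⟨(L - lam v)⁻¹ * (lam e - L), by rw [mul_smul, h', inv_smul_smul₀ hv']⟩ hdep
  have hall : ∀ e v, e ≠ 0 → v ≠ 0 → Q e = 0 → Q v = 0 → lam e = lam v := by
    intro e v he0 hv0 he hv
    by_cases hev : polar Q e v = 0
    · exact hperp e v he0 hv0 he hv hev
    set f := (polar Q e v)⁻¹ • v with hf
    have hQf : Q f = 0 := by rw [hf, QuadraticMap.map_smul, hv, smul_zero]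
    have hef : polar Q e f = 1 := by rw [hf, polar_smul_right, smul_eq_mul, inv_mul_cancel₀ hev]
    have := perp_finrank Q he hQf hef
    obtain ⟨u, hu0, hu⟩ := FiniteForms.exists_singular (Q.comp (perp Q e f).subtype)
      (show 3 ≤ finrank F (perp Q e f) by omega)
    obtain ⟨heu, hfu⟩ := (mem_perp Q).mp u.2
    have hu0' : (u : V) ≠ 0 := fun h => hu0 (Subtype.ext h)
    have hvu : polar Q v u = 0 := by
      have hvf : v = polar Q e v • f := by rw [hf, smul_inv_smul₀ hev]
      refine (congrArg (fun a => polar Q a (u : V)) hvf).trans ?_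
      show polar Q (polar Q e v • f) (u : V) = 0
      rw [polar_smul_left, hfu, smul_zero]
    exact (hperp e u he0 hu0' he hu heu).trans (hperp v u hv0 hu0' hv hu hvu).symm
  obtain ⟨e, he0, he⟩ := FiniteForms.exists_singular Q (by omega)
  obtain ⟨f, hf, hef⟩ := exists_partner Q hQ he0 he
  refine ⟨lam e, fun x => ?_⟩
  have hs : ∀ v, Q v = 0 → ∀ c : F, g.1 (c • v) = lam e • (c • v) := fun v hv c => by
    by_cases hv0 : v = 0
    · simp [hv0]
    rw [map_smul, hlam v hv0 hv, hall e v he0 hv0 he hv, smul_comm]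
  have hp := singular_span Q hQ hn (fun v => g.1 v = lam e • v)
    (fun a b ha hb => by rw [map_add, ha, hb, smul_add]) hs he hf hef (proj_mem Q he hf hef x)
  conv_lhs => rw [show x = (x - polar Q f x • e - polar Q e x • f) + polar Q f x • e + polar Q e x • f by abel]
  rw [map_add, map_add, hp, hs e he, hs f hf, ← smul_add, ← smul_add]
  congr 1
  abel

theorem exists_nonperp_pair (hQ : (polarBilin Q).Nondegenerate) (hn : 5 ≤ finrank F V) {e x : V}
    (hx0 : x ≠ 0) (he : Q e = 0) (hx : Q x = 0) (hex : polar Q e x = 0)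
    (hind : ∀ c : F, e ≠ c • x) :
    ∃ g ∈ Subgroup.closure (Sieg Q), g.1 x = x ∧ polar Q e (g.1 e) ≠ 0 := by
  obtain ⟨p, hp⟩ : ∃ p, polar Q x p = 1 := by
    obtain ⟨y, hy⟩ : ∃ y, polar Q x y ≠ 0 := by by_contra h; push Not at h; exact hx0 (hQ.1 x h)
    exact ⟨(polar Q x y)⁻¹ • y, by rw [polar_smul_right, smul_eq_mul, inv_mul_cancel₀ hy]⟩
  obtain ⟨z, hxz, hez⟩ : ∃ z, polar Q x z = 0 ∧ polar Q e z = 1 := by
    obtain ⟨z, hxz, hez⟩ : ∃ z, polar Q x z = 0 ∧ polar Q e z ≠ 0 := by
      by_contra h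
      push Not at h
      refine hind (polar Q e p) (sub_eq_zero.mp (hQ.1 _ fun y => ?_))
      show polar Q (e - polar Q e p • x) y = 0
      have := h (y - polar Q x y • p) (by
        simp [sub_eq_add_neg, polar_add_right, polar_neg_right, polar_smul_right, hp])
      simp [sub_eq_add_neg, polar_add_right, polar_neg_right, polar_smul_right] at this
      simp [sub_eq_add_neg, polar_add_left, polar_neg_left, polar_smul_left]
      linear_combination this
    exact ⟨(polar Q e z)⁻¹ • z, by simp [polar_smul_right, hxz], by simp [polar_smul_right, hez]⟩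
  set y := z + (-Q z) • e with hy'
  have hy : Q y = 0 := by
    rw [hy', QuadraticMap.map_add Q z, QuadraticMap.map_smul, he, polar_smul_right, polar_comm Q z e, hez]
    simp
  have hey : polar Q e y = 1 := by simp [hy', polar_add_right, ReflectionGen.pol_self, he, hez]
  have hxy : polar Q x y = 0 := by
    simp [hy', polar_add_right, polar_smul_right, hxz, polar_comm Q x e, hex]
  set U := perp Q e y
  let x₀ : U := ⟨x, (mem_perp Q).mpr ⟨hex, by rw [polar_comm, hxy]⟩⟩
  have hUn := perp_nondeg Q hQ he hy hey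
  have hU : finrank F V ≤ finrank F U + 2 := perp_finrank Q he hy hey
  obtain ⟨x', hx', hxx'⟩ := exists_partner (Q.comp U.subtype) hUn (e := x₀)
    (fun h => hx0 (congrArg Subtype.val h)) hx
  have hWn := perp_nondeg (Q.comp U.subtype) hUn (e := x₀) hx hx' hxx'
  have hW := perp_finrank (Q.comp U.subtype) (e := x₀) hx hx' hxx'
  obtain ⟨a, ha⟩ := exists_nonzero_value _ hWn (by omega)
  have ha' : Q a.1.1 ≠ 0 := ha
  have hxa : polar Q x a.1.1 = 0 := ((mem_perp (Q.comp U.subtype)).mp a.2).1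
  obtain ⟨hea, hya⟩ := (mem_perp Q).mp a.1.2
  obtain ⟨g, hg⟩ := exists_eich Q hy hya
  have hy0 : y ≠ 0 := fun h => by simp [h] at hey
  refine ⟨g, eich_mem Q hQ hn hy0 hy hya hg, ?_, ?_⟩
  · rw [hg x, polar_comm Q y x, hxy, polar_comm Q a.1.1 x, hxa]; simp
  · rw [hg e]
    simp only [polar_add_right, polar_smul_right, ReflectionGen.pol_self, he, hea, hey,
      polar_comm Q y e, polar_comm Q a.1.1 e, smul_eq_mul]
    ring_nf
    simpa using ha'

theorem primitive (hQ : (polarBilin Q).Nondegenerate) (hn : 5 ≤ finrank F V) :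
    MulAction.IsPreprimitive (Subgroup.closure (Sieg Q)) (SPt Q) := by
  set N := Subgroup.closure (Sieg Q)
  have hne : ∀ {v : V}, ∀ {w : V}, polar Q v w ≠ 0 → v ≠ 0 := fun h e => h (by rw [e, QuadraticMap.polar_zero_left])
  have hmove : ∀ {f y z : V} (hy0 : y ≠ 0) (hy : Q y = 0) (hz0 : z ≠ 0) (hz : Q z = 0) (hf0 : f ≠ 0) (hf : Q f = 0),
      polar Q f y ≠ 0 → polar Q f z ≠ 0 → ∃ g : N, g • pt hy0 hy = pt hz0 hz ∧ g • pt hf0 hf = pt hf0 hf := by
    intro f y z hy0 hy hz0 hz hf0 hf h1 h2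
    obtain ⟨g, hg, hgf, c, hc, hgy⟩ := move Q hQ hn hf hy hz h1 h2
    exact ⟨⟨g, hg⟩, smul_pt_eq g hy0 hy hz0 hz hc hgy,
      smul_pt_eq g hf0 hf hf0 hf one_ne_zero (hgf.trans (one_smul F _).symm)⟩
  haveI : MulAction.IsPretransitive N (SPt Q) := ⟨fun x y => by
    obtain ⟨e, he0, he, rfl⟩ := pt_surj x
    obtain ⟨z, hz0, hz, rfl⟩ := pt_surj y
    obtain ⟨f, hf, hef, hfz⟩ := singular_avoid' Q hQ (by omega) he0 he hz0
    have hfe : polar Q f e ≠ 0 := by rw [polar_comm, hef]; exact one_ne_zero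
    obtain ⟨g, hg, -⟩ := hmove he0 he hz0 hz (hne hfe) hf hfe hfz
    exact ⟨g, hg⟩⟩
  refine ⟨fun {S} hS => ?_⟩
  by_cases hsub : S.Subsingleton
  · exact Or.inl hsub
  right
  have hstab : ∀ g : N, ∀ x ∈ S, g • x ∈ S → g • S = S := fun g x hx hgx => by
    have := hS.smul_eq_smul_of_nonempty (g₁ := g) (g₂ := 1) ⟨g • x, Set.smul_mem_smul_set hx, by rw [one_smul]; exact hgx⟩
    rwa [one_smul] at this
  have full : ∀ e f (he0 : e ≠ 0) (he : Q e = 0) (hf0 : f ≠ 0) (hf : Q f = 0), pt he0 he ∈ S → pt hf0 hf ∈ S →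
      polar Q e f ≠ 0 → S = Set.univ := by
    have extend : ∀ e f (he0 : e ≠ 0) (he : Q e = 0) (hf0 : f ≠ 0) (hf : Q f = 0), pt he0 he ∈ S → pt hf0 hf ∈ S →
        polar Q e f ≠ 0 → ∀ z (hz0 : z ≠ 0) (hz : Q z = 0), polar Q e z ≠ 0 → pt hz0 hz ∈ S := by
      intro e f he0 he hf0 hf heS hfS hef z hz0 hz hez
      obtain ⟨g, hg, hge⟩ := hmove hf0 hf hz0 hz he0 he hef hez
      have := hstab g _ heS (by rw [hge]; exact heS)
      rw [← hg, ← this]
      exact Set.smul_mem_smul_set hfS
    intro e f he0 he hf0 hf heS hfS hef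
    rw [Set.eq_univ_iff_forall]
    intro x
    obtain ⟨z, hz0, hz, rfl⟩ := pt_surj x
    obtain ⟨y, hy, hey, hyz⟩ := singular_avoid' Q hQ (by omega) he0 he hz0
    have hey' : polar Q e y ≠ 0 := by rw [hey]; exact one_ne_zero
    have hy0 : y ≠ 0 := hne hyz
    have hyS := extend e f he0 he hf0 hf heS hfS hef y hy0 hy hey'
    exact extend y e hy0 hy he0 he hyS heS (by rw [polar_comm]; exact hey') z hz0 hz hyz
  obtain ⟨x, hxS, y, hyS, hxy⟩ := Set.not_subsingleton_iff.mp hsub
  obtain ⟨e, he0, he, rfl⟩ := pt_surj x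
  obtain ⟨v, hv0, hv, rfl⟩ := pt_surj y
  by_cases hev : polar Q e v = 0
  · obtain ⟨g, hg, hgv, hge⟩ := exists_nonperp_pair Q hQ hn hv0 he hv hev
      (fun c hc => hxy (pt_eq he0 he hv0 hv c hc))
    let g' : N := ⟨g, hg⟩
    have hfix : g' • pt hv0 hv = pt hv0 hv := smul_pt_eq g hv0 hv hv0 hv one_ne_zero (hgv.trans (one_smul F _).symm)
    have hS' := hstab g' _ hyS (by rw [hfix]; exact hyS)
    have hgeS : g' • pt he0 he ∈ S := hS' ▸ Set.smul_mem_smul_set hxS
    refine full e (g.1 e) he0 he (fun h => he0 (g.1.injective (h.trans g.1.map_zero.symm))) (by rw [g.2, he]) hxS ?_ hge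
    rwa [show g' • pt he0 he = g • pt he0 he from rfl, smul_pt] at hgeS
  · exact full e v he0 he hv0 hv hxS hyS hev

/-- The Eichler transformations at a singular vector. -/
def eichSub {e : V} (he : Q e = 0) : Subgroup (quadIso Q) where
  carrier := {g | ∃ w, polar Q e w = 0 ∧ IsEich Q e w g}
  mul_mem' := fun ⟨a, ha, hga⟩ ⟨b, hb, hgb⟩ => ⟨a + b, by rw [polar_add_right, ha, hb, add_zero], eich_add Q he ha hb hga hgb⟩
  one_mem' := ⟨0, QuadraticMap.polar_zero_right Q e, eich_zero Q e⟩
  inv_mem' := fun {g} ⟨a, ha, hga⟩ => by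
    obtain ⟨g', hg'⟩ := exists_eich Q he (w := -a) (by rw [polar_neg_right, ha, neg_zero])
    have h := eich_add Q he ha (by rw [polar_neg_right, ha, neg_zero]) hga hg'
    rw [add_neg_cancel] at h
    rw [inv_eq_of_mul_eq_one_right (eich_unique Q h (eich_zero Q e))]
    exact ⟨-a, by rw [polar_neg_right, ha, neg_zero], hg'⟩

theorem eichSub_eq {e f : V} (he : Q e = 0) (hf : Q f = 0) {c : F} (hc : c ≠ 0) (h : e = c • f) :
    eichSub Q he = eichSub Q hf := by
  subst h
  ext g
  constructor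
  · rintro ⟨w, hw, hg⟩
    refine ⟨c • w, ?_, eich_scale Q c hg⟩
    rw [polar_smul_left, smul_eq_mul] at hw
    rw [polar_smul_right, (mul_eq_zero.mp hw).resolve_left hc, smul_zero]
  · rintro ⟨w, hw, hg⟩
    refine ⟨c⁻¹ • w, by simp [polar_smul_left, polar_smul_right, hw], ?_⟩
    have h' : IsEich Q (c⁻¹ • (c • f)) w g := by rwa [inv_smul_smul₀ hc]
    exact eich_scale Q c⁻¹ h'

/-- The derived group of an isotropic orthogonal group is simple modulo its centre. -/
theorem simple (hQ : (polarBilin Q).Nondegenerate) (hn : 5 ≤ finrank F V) :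
    IsSimpleGroup (↥(Subgroup.closure (Sieg Q)) ⧸ Subgroup.center ↥(Subgroup.closure (Sieg Q))) := by
  classical
  set N := Subgroup.closure (Sieg Q) with hNdef
  set M := ↥N ⧸ Subgroup.center ↥N
  haveI := primitive Q hQ hn
  have hker : (MulAction.toPermHom N (SPt Q)).ker = Subgroup.center N := by
    ext g
    rw [MonoidHom.mem_ker]
    constructor
    · intro h
      obtain ⟨c, hc⟩ := scalar_of_fix Q hQ hn g.1 (fun x => Equiv.ext_iff.mp h x)
      rw [Subgroup.mem_center_iff]
      intro k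
      refine Subtype.ext (Subtype.ext (LinearEquiv.ext fun x => ?_))
      show k.1.1 (g.1.1 x) = g.1.1 (k.1.1 x)
      rw [hc, hc, map_smul]
    · intro hg
      obtain ⟨s, hs, hsx⟩ := OmegaCenter.central_scalar Q hQ hn g.1 (fun a b => by
        have hab : ⁅a, b⁆ ∈ N := by
          rw [hNdef, ← commutator_eq Q hQ hn, _root_.commutator_def]
          exact Subgroup.commutator_mem_commutator (Subgroup.mem_top a) (Subgroup.mem_top b)
        exact (congrArg Subtype.val (Subgroup.mem_center_iff.mp hg ⟨_, hab⟩)).symm)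
      refine Equiv.ext fun x => ?_
      obtain ⟨e, he0, he, rfl⟩ := pt_surj x
      exact smul_pt_eq g.1 he0 he he0 he (fun h => one_ne_zero (α := F) (by rw [← hs, h, zero_mul])) (hsx e)
  let perm : M →* Equiv.Perm (SPt Q) := QuotientGroup.lift _ (MulAction.toPermHom N (SPt Q)) hker.ge
  letI : MulAction M (SPt Q) := MulAction.compHom _ perm
  have hsm : ∀ (g : N) (x : SPt Q), (g : M) • x = g • x := fun g x => rfl
  haveI : MulAction.IsPreprimitive M (SPt Q) :=
    MulAction.IsPreprimitive.of_surjective (f := (⟨id, fun g x => hsm g x⟩ :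
      SPt Q →ₑ[(QuotientGroup.mk' (Subgroup.center N) : N → M)] SPt Q)) Function.surjective_id
  have hperf : commutator M = ⊤ := by
    have hN : commutator N = ⊤ := by
      refine Subgroup.map_injective N.subtype_injective ?_
      rw [Subgroup.map_subtype_commutator, perfect Q hQ hn, ← MonoidHom.range_eq_map, Subgroup.range_subtype]
    have : Group.IsPerfect N := ⟨hN⟩
    exact (inferInstance : Group.IsPerfect M).commutator_eq_top
  have hfaith : FaithfulSMul M (SPt Q) := ⟨fun {a b} hab => by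
    have hinj : Function.Injective perm := (QuotientGroup.injective_lift_iff _ _ _).mpr hker.symm
    exact hinj (Equiv.ext hab)⟩
  haveI : Nontrivial M := by
    obtain ⟨e, he0, he⟩ := FiniteForms.exists_singular Q (by omega)
    obtain ⟨f, hf, hef⟩ := exists_partner Q hQ he0 he
    obtain ⟨u, hu, hfu, hue⟩ := singular_avoid' Q hQ (by omega) he0 he (b := e) he0
    have := perp_finrank Q he hf hef
    obtain ⟨a, ha⟩ := exists_nonzero_value _ (perp_nondeg Q hQ he hf hef)
      (show 0 < finrank F (perp Q e f) by omega)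
    obtain ⟨hea, hfa⟩ := (mem_perp Q).mp a.2
    obtain ⟨g, hg⟩ := exists_eich Q hf hfa
    have hf0 : f ≠ 0 := fun h => by simp [h] at hef
    refine ⟨⟨((⟨g, eich_mem Q hQ hn hf0 hf hfa hg⟩ : N) : M), 1, fun hc => ?_⟩⟩
    have h : ((⟨g, eich_mem Q hQ hn hf0 hf hfa hg⟩ : N) : M) • pt he0 he = pt he0 he := by
      rw [hc, one_smul]
    rw [hsm] at h
    have h2 : g.1 e ∈ Submodule.span F {e} := by
      have h' : (Submodule.span F {e}).map (g.1 : V →ₗ[F] V) = Submodule.span F {e} := congrArg Subtype.val h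
      rw [map_span_single] at h'
      exact h' ▸ Submodule.mem_span_singleton_self _
    obtain ⟨l, hl⟩ := Submodule.mem_span_singleton.mp h2
    have hp := congrArg (polar Q e) hl
    rw [hg e, polar_add_right, polar_add_right, polar_smul_right, polar_smul_right, polar_smul_right,
      ReflectionGen.pol_self, he, hea, polar_comm Q a.1 e, hea, polar_comm Q f e, hef] at hp
    simp at hp
    exact ha hp
  have hex : ∀ x : SPt Q, ∃ e : V, ∃ he0 : e ≠ 0, ∃ he : Q e = 0, x = pt he0 he := pt_surj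
  choose rep hrep0 hrep hrepx using hex
  let T : SPt Q → Subgroup M := fun x =>
    ((eichSub Q (hrep x)).subgroupOf N).map (QuotientGroup.mk' (Subgroup.center N))
  have hTpt : ∀ {e : V} (he0 : e ≠ 0) (he : Q e = 0),
      T (pt he0 he) = ((eichSub Q he).subgroupOf N).map (QuotientGroup.mk' (Subgroup.center N)) := by
    intro e he0 he
    have h := congrArg Subtype.val (hrepx (pt he0 he))
    change Submodule.span F {e} = Submodule.span F {rep (pt he0 he)} at h
    obtain ⟨c, hc⟩ := Submodule.mem_span_singleton.mp (h ▸ Submodule.mem_span_singleton_self e)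
    have hc0 : c ≠ 0 := fun h0 => he0 (by rw [← hc, h0, zero_smul])
    show ((eichSub Q (hrep _)).subgroupOf N).map _ = _
    rw [← eichSub_eq Q he (hrep _) hc0 hc.symm]
  refine MulAction.IwasawaStructure.isSimpleGroup hperf (⟨T, fun x => ?_, fun g x => ?_, ?_⟩ :
    MulAction.IwasawaStructure M (SPt Q)) hfaith
  · refine ⟨⟨fun ⟨a, ha⟩ ⟨b, hb⟩ => Subtype.ext ?_⟩⟩
    obtain ⟨a, ⟨wa, hwa, hga⟩, rfl⟩ := ha
    obtain ⟨b, ⟨wb, hwb, hgb⟩, rfl⟩ := hb
    show QuotientGroup.mk' _ a * QuotientGroup.mk' _ b = QuotientGroup.mk' _ b * QuotientGroup.mk' _ a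
    rw [← map_mul, ← map_mul]
    congr 1
    exact Subtype.ext (eich_unique Q (eich_add Q (hrep x) hwa hwb hga hgb)
      (add_comm wb wa ▸ eich_add Q (hrep x) hwb hwa hgb hga))
  · obtain ⟨g, rfl⟩ := QuotientGroup.mk_surjective g
    obtain ⟨e, he0, he, rfl⟩ := pt_surj x
    have hge : Q (g.1.1 e) = 0 := by rw [g.1.2, he]
    have hge0 : g.1.1 e ≠ 0 := fun h => he0 (g.1.1.injective (h.trans g.1.1.map_zero.symm))
    rw [hsm, show g • pt he0 he = pt hge0 hge from smul_pt g.1 he0 he, hTpt, hTpt]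
    ext a
    rw [Subgroup.mem_pointwise_smul_iff_inv_smul_mem]
    constructor
    · rintro ⟨k, ⟨w, hw, hk⟩, rfl⟩
      refine ⟨g⁻¹ * k * g, ⟨g.1⁻¹.1 w, ?_, ?_⟩, ?_⟩
      · have := OrthOrder.polar_map g.1.2 e (g.1⁻¹.1 w)
        rw [← this]
        show polar Q (g.1.1 e) (g.1.1 (g.1.1.symm w)) = 0
        rw [LinearEquiv.apply_symm_apply]; exact hw
      · have h := eich_conj Q hk g.1⁻¹
        rw [inv_inv] at h
        have e' : g.1⁻¹.1 (g.1.1 e) = e := g.1.1.symm_apply_apply e
        rw [e'] at h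
        exact h
      · rw [map_mul, map_mul, map_inv]
        simp [MulAut.smul_def]
    · rintro ⟨k, ⟨w, hw, hk⟩, hka⟩
      refine ⟨g * k * g⁻¹, ⟨g.1.1 w, by rw [OrthOrder.polar_map g.1.2]; exact hw, eich_conj Q hk g.1⟩, ?_⟩
      rw [map_mul, map_mul, map_inv, hka]
      simp [MulAut.smul_def, mul_assoc]
  · rw [eq_top_iff]
    intro y _
    obtain ⟨⟨g, hg⟩, rfl⟩ := QuotientGroup.mk_surjective y
    have key : ∀ (g : quadIso Q) (hg : g ∈ N), ((⟨g, hg⟩ : N) : M) ∈ iSup T := by
      intro g hg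
      refine Subgroup.closure_induction (p := fun g hg => ((⟨g, hg⟩ : N) : M) ∈ iSup T) ?_ ?_ ?_ ?_ hg
      · rintro s ⟨u, v, c, hu, hv, huv, hs⟩
        have hE := (sieg_eich Q hv s).mp hs
        by_cases hu0 : u = 0
        · subst hu0
          have : s = 1 := Subtype.ext (LinearEquiv.ext fun x => by
            rw [hE x]; simp [QuadraticMap.polar_zero_left])
          subst this
          exact one_mem _
        refine Subgroup.mem_iSup_of_mem (pt hu0 hu) ?_
        rw [hTpt]
        exact ⟨⟨s, _⟩, ⟨c • v, by rw [polar_smul_right, huv, smul_zero], hE⟩, rfl⟩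
      · exact one_mem _
      · intro a b ha hb iha ihb
        exact mul_mem iha ihb
      · intro a ha iha
        exact inv_mem iha
    exact key g hg

/-- Simplicity of the projective group in matrix form. -/
theorem pomega_simple {F : Type*} [Field F] [Finite F] {ι : Type} [Fintype ι] [DecidableEq ι]
    (Q : QuadraticForm F (ι → F)) (f : (ι → F) → F) (hf : ∀ v, f v = Q v)
    (hQ : (polarBilin Q).Nondegenerate) (hn : 5 ≤ Fintype.card ι) : IsSimpleGroup (Cfsg.POmega F f) := by
  obtain rfl : f = ⇑Q := funext hf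
  have hn' : 5 ≤ finrank F (ι → F) := by rw [Module.finrank_fintype_fun_eq_card]; exact hn
  haveI := simple Q hQ hn'
  let e := CfsgLib.SpinorMatrix.isoEquiv Q
  have hmap : (Cfsg.Omega F ⇑Q).map e.toMonoidHom = Subgroup.closure (Sieg Q) := by
    rw [← commutator_eq Q hQ hn', show Cfsg.Omega F ⇑Q = commutator _ from rfl, _root_.commutator_def,
      _root_.commutator_def, Subgroup.map_commutator,
      Subgroup.map_top_of_surjective _ e.surjective]
  let e' : ↥(Cfsg.Omega F ⇑Q) ≃* ↥(Subgroup.closure (Sieg Q)) :=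
    (e.subgroupMap _).trans (MulEquiv.subgroupCongr hmap)
  refine (QuotientGroup.congr (Subgroup.center _) (Subgroup.center _) e' ?_).isSimpleGroup
  ext x
  constructor
  · rintro ⟨y, hy, rfl⟩
    refine Subgroup.mem_center_iff.mpr fun k => ?_
    obtain ⟨k, rfl⟩ := e'.surjective k
    show e' k * e' y = e' y * e' k
    rw [← map_mul, ← map_mul, Subgroup.mem_center_iff.mp hy k]
  · intro hx
    refine ⟨e'.symm x, Subgroup.mem_center_iff.mpr fun k => e'.injective ?_, e'.apply_symm_apply x⟩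
    rw [map_mul, map_mul, e'.apply_symm_apply]
    exact Subgroup.mem_center_iff.mp hx _

end CfsgLib.OmegaSimple
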