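import Mathlib
import Cfsg.Prelude.Def_Classical
import Cfsg.Agent.Lib.FiniteForms.WittBasis
import Cfsg.Agent.Lib.WittExtension

/-! The two families of maximal totally singular subspaces of a hyperbolic quadratic space. -/

set_option autoImplicit false

namespace CfsgLib.Lagrangian

open QuadraticMap Module

variable {F : Type*} [Field F] {m : ℕ}

local notation "V" => (Fin m ⊕ Fin m → F)

/-- The plus-type form as a quadratic form. -/
def Qp (m : ℕ) (F : Type*) [Field F] : QuadraticForm F (Fin m ⊕ Fin m → F) :=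
  ∑ i, QuadraticMap.linMulLin (LinearMap.proj (Sum.inl i)) (LinearMap.proj (Sum.inr i))

theorem Qp_apply (v : V) : Qp m F v = Cfsg.quadFormPlus m F v := by
  simp [Qp, Cfsg.quadFormPlus]

theorem Qp_nondeg : (polarBilin (Qp m F)).Nondegenerate := by
  have hl : ∀ u : V, (∀ v, polar (Qp m F) u v = 0) → u = 0 := by
    intro u h
    classical
    have hp : ∀ v : V, polar (Qp m F) u v =
        ∑ i, (u (.inl i) * v (.inr i) + v (.inl i) * u (.inr i)) := fun v => by
      simp only [polar, Qp_apply, Cfsg.quadFormPlus, Pi.add_apply, add_mul, mul_add,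
        Finset.sum_add_distrib]
      ring
    funext s
    rcases s with i | i
    · simpa [hp, Pi.single_apply] using h (Pi.single (Sum.inr i) 1)
    · simpa [hp, Pi.single_apply] using h (Pi.single (Sum.inl i) 1)
  exact ⟨fun u h => hl u h, fun v h => hl v fun u => (polar_comm _ v u).trans (h u)⟩

/-- Maximal totally singular subspace. -/
def IsLag (U : Submodule F V) : Prop :=
  finrank F U = m ∧ ∀ w ∈ U, Cfsg.quadFormPlus m F w = 0

theorem polar_eq_zero {U : Submodule F V} (hU : ∀ w ∈ U, Cfsg.quadFormPlus m F w = 0) {u v : V}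
    (hu : u ∈ U) (hv : v ∈ U) : polar (Qp m F) u v = 0 := by
  simp [polar, Qp_apply, hU _ (U.add_mem hu hv), hU _ hu, hU _ hv]

/-- The perpendicular space. -/
def perp (H : Submodule F V) : Submodule F V :=
  LinearMap.BilinForm.orthogonal (polarBilin (Qp m F)) H

theorem mem_perp {H : Submodule F V} {x : V} : x ∈ perp H ↔ ∀ h ∈ H, polar (Qp m F) h x = 0 :=
  Iff.rfl

theorem finrank_perp (H : Submodule F V) : finrank F (perp H) = 2 * m - finrank F H := by
  rw [perp, LinearMap.BilinForm.finrank_orthogonal Qp_nondeg]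
  simp [two_mul]

theorem finrank_inf_perp {X : Submodule F V} (hX : IsLag X) {H : Submodule F V}
    (hH : ∀ w ∈ H, Cfsg.quadFormPlus m F w = 0) (hHd : finrank F H + 1 = m) :
    finrank F ↥(X ⊓ perp H) = finrank F ↥(X ⊓ H) + 1 := by
  have hXperp : perp X = X := by
    have hle : X ≤ perp X := fun x hx h hh => polar_eq_zero hX.2 hh hx
    refine (Submodule.eq_of_le_of_finrank_eq hle ?_).symm
    rw [finrank_perp, hX.1]; omega
  have hsup : X ⊓ perp H = perp (X ⊔ H) := by
    ext z
    constructor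
    · rintro ⟨hz1, hz2⟩ w hw
      obtain ⟨a, ha, b, hb, rfl⟩ := Submodule.mem_sup.mp hw
      show polar (Qp m F) (a + b) z = 0
      rw [polar_add_left, polar_eq_zero hX.2 ha hz1, mem_perp.mp hz2 b hb, add_zero]
    · intro hz
      refine ⟨?_, fun h hh => hz h (Submodule.mem_sup_right hh)⟩
      rw [SetLike.mem_coe, ← hXperp]
      exact fun h hh => hz h (Submodule.mem_sup_left hh)
  have h1 := Submodule.finrank_sup_add_finrank_inf_eq X H
  have h2 := finrank_perp (X ⊔ H)
  have h3 : finrank F ↥(X ⊔ H) ≤ 2 * m := by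
    simpa [two_mul] using Submodule.finrank_le (X ⊔ H)
  rw [hsup]
  rw [hX.1] at h1
  omega

/-- Every vector singular and perpendicular to `H` lies in one of two adjacent maximal subspaces. -/
theorem perp_subset {U U' : Submodule F V} (hU : IsLag U) (hU' : IsLag U') {H : Submodule F V}
    (hHU : H ≤ U) (hHU' : H ≤ U') (hHd : finrank F H + 1 = m) (hne : U ≠ U')
    {x : V} (hx : x ∈ perp H) (hq : Cfsg.quadFormPlus m F x = 0) : x ∈ U ∨ x ∈ U' := by
  have hH : ∀ w ∈ H, Cfsg.quadFormPlus m F w = 0 := fun w hw => hU.2 w (hHU hw)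
  have hnle : ¬ U ≤ U' := fun h =>
    hne (Submodule.eq_of_le_of_finrank_eq h (hU.1.trans hU'.1.symm))
  have hinf : U ⊓ U' = H := by
    refine (Submodule.eq_of_le_of_finrank_le (le_inf hHU hHU') ?_).symm
    have := Submodule.finrank_lt_finrank_of_lt (lt_of_le_of_ne inf_le_left
      (fun h => hnle (inf_eq_left.mp h)) : U ⊓ U' < U)
    rw [hU.1] at this
    omega
  have hsup : U ⊔ U' = perp H := by
    refine Submodule.eq_of_le_of_finrank_eq (sup_le ?_ ?_) ?_
    · exact fun z hz h hh => polar_eq_zero hU.2 (hHU hh) hz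
    · exact fun z hz h hh => polar_eq_zero hU'.2 (hHU' hh) hz
    · have h1 := Submodule.finrank_sup_add_finrank_inf_eq U U'
      rw [hinf, hU.1, hU'.1] at h1
      rw [finrank_perp]; omega
  obtain ⟨u, hu, u', hu', rfl⟩ := Submodule.mem_sup.mp (hsup ▸ hx : x ∈ U ⊔ U')
  by_cases huH : u ∈ H
  · exact Or.inr (U'.add_mem (hHU' huH) hu')
  by_cases hu'H : u' ∈ H
  · exact Or.inl (U.add_mem hu (hHU hu'H))
  exfalso
  have hp : polar (Qp m F) u u' = 0 := by
    rw [polar, Qp_apply, Qp_apply, Qp_apply, hq, hU.2 u hu, hU'.2 u' hu', sub_zero, sub_zero]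
  -- then `U ⊔ U'` would be totally singular
  have key : ∀ a b : V, U = H ⊔ F ∙ a → a ∈ U → U' = H ⊔ F ∙ b → b ∈ U' → polar (Qp m F) a b = 0 →
      False := by
    intro a b hUa ha hUb hb hab
    have hts : ∀ w ∈ U ⊔ U', Cfsg.quadFormPlus m F w = 0 := by
      intro w hw
      obtain ⟨s, hs, s', hs', rfl⟩ := Submodule.mem_sup.mp hw
      rw [hUb] at hs'
      obtain ⟨h', hh', t', ht', rfl⟩ := Submodule.mem_sup.mp hs'
      obtain ⟨c', rfl⟩ := Submodule.mem_span_singleton.mp ht'
      have hs2 := hs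
      rw [hUa] at hs2
      obtain ⟨h, hh, t, ht, rfl⟩ := Submodule.mem_sup.mp hs2
      obtain ⟨c, rfl⟩ := Submodule.mem_span_singleton.mp ht
      have e : h + c • a + (h' + c' • b) = (h + h' + c • a) + c' • b := by abel
      rw [← Qp_apply, e, QuadraticMap.map_add (Qp m F), polar_smul_right, polar_add_left,
        polar_smul_left, hab, polar_eq_zero hU'.2 (hHU' (H.add_mem hh hh')) hb, Qp_apply,
        Qp_apply, hU.2 _ (U.add_mem (hHU (H.add_mem hh hh')) (U.smul_mem c ha)),
        hU'.2 _ (U'.smul_mem c' hb)]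
      simp
    have := CfsgLib.FiniteForms.plus_totally_singular_le _ hts
    rw [hsup, finrank_perp] at this
    omega
  have gen : ∀ (W : Submodule F V), finrank F W = m → H ≤ W → ∀ a ∈ W, a ∉ H → W = H ⊔ F ∙ a := by
    intro W hW hHW a ha haH
    refine (Submodule.eq_of_le_of_finrank_le (sup_le hHW ((Submodule.span_singleton_le_iff_mem _ _).mpr ha)) ?_).symm
    have := Submodule.finrank_lt_finrank_of_lt (lt_of_le_of_ne le_sup_left
      (fun h => haH (h ▸ Submodule.mem_sup_right (Submodule.mem_span_singleton_self a))) : H < H ⊔ F ∙ a)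
    omega
  exact key u u' (gen U hU.1 hHU u hu huH) hu (gen U' hU'.1 hHU' u' hu' hu'H) hu' hp

/-- Adjacent subspaces meet any third one in dimensions differing by one. -/
theorem adjacent {X U U' : Submodule F V} (hX : IsLag X) (hU : IsLag U) (hU' : IsLag U')
    {H : Submodule F V} (hHU : H ≤ U) (hHU' : H ≤ U') (hHd : finrank F H + 1 = m) (hne : U ≠ U') :
    finrank F ↥(X ⊓ U) = finrank F ↥(X ⊓ U') + 1 ∨ finrank F ↥(X ⊓ U') = finrank F ↥(X ⊓ U) + 1 := by
  have hH : ∀ w ∈ H, Cfsg.quadFormPlus m F w = 0 := fun w hw => hU.2 w (hHU hw)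
  have hd := finrank_inf_perp hX hH hHd
  have main : ∀ {A B : Submodule F V}, IsLag A → IsLag B → H ≤ A → H ≤ B → A ≠ B →
      X ⊓ perp H ≤ A → finrank F ↥(X ⊓ A) = finrank F ↥(X ⊓ B) + 1 := by
    intro A B hA hB hHA hHB hAB hle
    have e1 : X ⊓ A = X ⊓ perp H := le_antisymm
      (inf_le_inf_left _ fun z hz h hh => polar_eq_zero hA.2 (hHA hh) hz) (le_inf inf_le_left hle)
    have e2 : X ⊓ B = X ⊓ H := by
      refine le_antisymm (fun z hz => ⟨hz.1, ?_⟩) (inf_le_inf_left _ hHB)
      have hzA : z ∈ A := hle ⟨hz.1, fun h hh => polar_eq_zero hB.2 (hHB hh) hz.2⟩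
      have : A ⊓ B = H := by
        refine (Submodule.eq_of_le_of_finrank_le (le_inf hHA hHB) ?_).symm
        have := Submodule.finrank_lt_finrank_of_lt (lt_of_le_of_ne inf_le_left
          (fun h => hAB (Submodule.eq_of_le_of_finrank_eq (inf_eq_left.mp h)
            (hA.1.trans hB.1.symm))) : A ⊓ B < A)
        rw [hA.1] at this
        omega
      exact this ▸ (⟨hzA, hz.2⟩ : z ∈ A ⊓ B)
    rw [e1, e2, hd]
  have hcov : ∀ x ∈ X ⊓ perp H, x ∈ U ∨ x ∈ U' := fun x hx =>
    perp_subset hU hU' hHU hHU' hHd hne hx.2 (hX.2 x hx.1)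
  by_cases h : X ⊓ perp H ≤ U
  · exact Or.inl (main hU hU' hHU hHU' hne h)
  · refine Or.inr (main hU' hU hHU' hHU (Ne.symm hne) fun x hx => ?_)
    by_contra hxU'
    obtain ⟨y, hy, hyU⟩ := SetLike.not_le_iff_exists.mp h
    have hxU := (hcov x hx).resolve_right hxU'
    have hyU' := (hcov y hy).resolve_left hyU
    rcases hcov _ ((X ⊓ perp H).add_mem hx hy) with h' | h'
    · exact hyU (by simpa using U.sub_mem h' hxU)
    · exact hxU' (by simpa using U'.sub_mem h' hyU')

theorem parity : ∀ (d : ℕ) (U W X : Submodule F V), IsLag U → IsLag W → IsLag X →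
    m - finrank F ↥(U ⊓ W) = d →
    Even ((m - finrank F ↥(U ⊓ W)) + (m - finrank F ↥(W ⊓ X)) + (m - finrank F ↥(U ⊓ X))) := by
  intro d
  induction d using Nat.strong_induction_on with
  | _ d ih =>
    intro U W X hU hW hX hd
    have hle : ∀ {A B : Submodule F V}, IsLag A → finrank F ↥(A ⊓ B) ≤ m := fun hA =>
      (Submodule.finrank_mono inf_le_left).trans hA.1.le
    rcases Nat.eq_zero_or_pos d with rfl | hpos
    · have h0 : finrank F ↥(U ⊓ W) = m := by have := hle (B := W) hU; omega
      have hUW : U = W := (Submodule.eq_of_le_of_finrank_eq inf_le_left (h0.trans hU.1.symm)).symm.trans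
        (Submodule.eq_of_le_of_finrank_eq inf_le_right (h0.trans hW.1.symm))
      subst hUW
      exact ⟨m - finrank F ↥(U ⊓ X), by omega⟩
    -- a hyperplane of `U` containing `U ⊓ W`
    obtain ⟨f, hf0, hf⟩ : ∃ f : Module.Dual F U, f ≠ 0 ∧
        ((U ⊓ W).comap U.subtype).map f = ⊥ := by
      refine Submodule.exists_dual_map_eq_bot_of_lt_top (lt_top_iff_ne_top.mpr fun h => ?_) inferInstance
      rw [Submodule.comap_subtype_eq_top] at h
      have : finrank F ↥(U ⊓ W) = m := by rw [inf_eq_left.mpr (h.trans inf_le_right), hU.1]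
      omega
    set H : Submodule F V := (LinearMap.ker f).map U.subtype with hHdef
    have hHU : H ≤ U := Submodule.map_subtype_le _ _
    have hHd : finrank F H + 1 = m := by
      have h := LinearMap.finrank_range_add_finrank_ker f
      rw [LinearMap.range_eq_top.mpr (LinearMap.surjective hf0), finrank_top, Module.finrank_self,
        hU.1] at h
      rw [hHdef, Submodule.finrank_map_subtype_eq]
      omega
    have hUWH : U ⊓ W ≤ H := fun z hz => ⟨⟨z, hz.1⟩, by
      have hm : f ⟨z, hz.1⟩ ∈ ((U ⊓ W).comap U.subtype).map f := Submodule.mem_map_of_mem hz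
      rw [hf, Submodule.mem_bot] at hm
      exact hm, rfl⟩
    have hWH : W ⊓ H = U ⊓ W := le_antisymm (fun z hz => ⟨hHU hz.2, hz.1⟩)
      (le_inf inf_le_right hUWH)
    have hH : ∀ w ∈ H, Cfsg.quadFormPlus m F w = 0 := fun w hw => hU.2 w (hHU hw)
    have hinf := finrank_inf_perp hW hH hHd
    rw [hWH] at hinf
    set U' := H ⊔ (W ⊓ perp H) with hU'def
    have hU'd : finrank F U' = m := by
      have h1 := Submodule.finrank_sup_add_finrank_inf_eq H (W ⊓ perp H)
      have e : H ⊓ (W ⊓ perp H) = U ⊓ W :=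
        le_antisymm (fun z hz => ⟨hHU hz.1, hz.2.1⟩)
          (le_inf hUWH (le_inf inf_le_right fun z hz h hh => polar_eq_zero hU.2 (hHU hh) hz.1))
      rw [e, hinf] at h1
      rw [hU'def]
      omega
    have hU' : IsLag U' := ⟨hU'd, fun w hw => by
      obtain ⟨a, ha, b, hb, rfl⟩ := Submodule.mem_sup.mp hw
      rw [← Qp_apply, QuadraticMap.map_add (Qp m F), Qp_apply, Qp_apply, hH a ha, hW.2 b hb.1,
        mem_perp.mp hb.2 a ha]
      ring⟩
    have hne : U ≠ U' := fun h => by
      have h2 : W ⊓ perp H ≤ U ⊓ W := le_inf (h ▸ le_sup_right) inf_le_left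
      have := Submodule.finrank_mono h2
      omega
    have h1 : finrank F ↥(U' ⊓ W) ≥ finrank F ↥(U ⊓ W) + 1 := by
      rw [← hinf]
      exact Submodule.finrank_mono (le_inf le_sup_right inf_le_left)
    have h2 := adjacent hW hU hU' hHU le_sup_left hHd hne
    rw [inf_comm W U, inf_comm W U'] at h2
    have h3 : finrank F ↥(U' ⊓ W) = finrank F ↥(U ⊓ W) + 1 := by omega
    have h4 := adjacent hX hU hU' hHU le_sup_left hHd hne
    rw [inf_comm X U, inf_comm X U'] at h4
    have h5 := ih (d - 1) (by omega) U' W X hU' hW hX (by omega)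
    have := hle (B := X) hU
    have := hle (B := X) hU'
    have := hle (B := W) hU'
    have := hle (B := X) hW
    obtain ⟨r, hr⟩ := h5
    rw [even_iff_two_dvd]
    omega

/-- Coordinate subspaces. -/
def coordSub (T : Set (Fin m ⊕ Fin m)) : Submodule F V where
  carrier := {v | ∀ s, s ∉ T → v s = 0}
  add_mem' ha hb s hs := by simp [ha s hs, hb s hs]
  zero_mem' s hs := rfl
  smul_mem' c v hv s hs := by simp [hv s hs]

theorem finrank_coordSub (T : Finset (Fin m ⊕ Fin m)) :
    finrank F (coordSub (F := F) (T : Set (Fin m ⊕ Fin m))) = T.card := by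
  classical
  let e : coordSub (F := F) (T : Set (Fin m ⊕ Fin m)) ≃ₗ[F] (T → F) :=
    { toFun := fun v t => v.1 t
      invFun := fun w => ⟨fun s => if h : s ∈ T then w ⟨s, h⟩ else 0, fun s hs => dif_neg hs⟩
      left_inv := fun v => Subtype.ext (funext fun s => by
        show (if h : s ∈ T then v.1 s else 0) = v.1 s
        by_cases h : s ∈ T
        · exact dif_pos h
        · rw [dif_neg h, v.2 s h])
      right_inv := fun w => funext fun t => dif_pos t.2
      map_add' := fun a b => rfl
      map_smul' := fun c a => rfl }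
  rw [e.finrank_eq, Module.finrank_pi, Fintype.card_coe]

/-- Choosing one coordinate from each pair. -/
theorem isLag_coord (side : Fin m → Bool) :
    IsLag (coordSub (F := F) ((Finset.univ.image fun i => if side i then Sum.inl i else Sum.inr i :
      Finset (Fin m ⊕ Fin m)) : Set (Fin m ⊕ Fin m))) := by
  classical
  refine ⟨?_, fun v hv => Finset.sum_eq_zero fun i _ => ?_⟩
  · rw [finrank_coordSub, Finset.card_image_of_injective, Finset.card_univ, Fintype.card_fin]
    intro i j h
    simp only at h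
    split_ifs at h <;> first | exact Sum.inl.inj h | exact Sum.inr.inj h
  · cases hs : side i with
    | true => rw [hv (Sum.inr i), mul_zero]; simp; grind
    | false => rw [hv (Sum.inl i), zero_mul]; simp; grind

end CfsgLib.Lagrangian
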