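import Mathlib
import Cfsg.Agent.Lib.Lagrangian
import Cfsg.Agent.Lib.OrthOrderBase

/-! The standard minus-type and odd-dimensional forms as quadratic forms. -/

set_option autoImplicit false

namespace CfsgLib.StdQuadForms

/-- The minus form as a quadratic form. -/
def Qm {F : Type*} [Field F] (m : ℕ) (a b : F) : QuadraticForm F ((Fin m ⊕ Fin m) ⊕ Fin 2 → F) :=
  (CfsgLib.Lagrangian.Qp m F).comp (LinearMap.funLeft F F Sum.inl) +
    (CfsgLib.OrthOrder.binForm a b).comp (LinearMap.funLeft F F Sum.inr)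

theorem Qm_apply {F : Type*} [Field F] (m : ℕ) (a b : F) (v : (Fin m ⊕ Fin m) ⊕ Fin 2 → F) :
    Qm m a b v = Cfsg.quadFormMinus m F a b v := by
  simp [Qm, CfsgLib.Lagrangian.Qp_apply, CfsgLib.OrthOrder.binForm_apply, Cfsg.quadFormMinus,
    Cfsg.quadFormPlus, LinearMap.funLeft_apply]

theorem Qm_nondeg {F : Type*} [Field F] [Fintype F] (m : ℕ) {a b : F}
    (hab : ∀ z₁ z₂ : F, z₁ ^ 2 + a * z₁ * z₂ + b * z₂ ^ 2 = 0 → z₁ = 0 ∧ z₂ = 0) :
    (QuadraticMap.polarBilin (Qm m a b)).Nondegenerate := by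
  have hl : ∀ u : (Fin m ⊕ Fin m) ⊕ Fin 2 → F, (∀ v, QuadraticMap.polar (Qm m a b) u v = 0) → u = 0 := by
    intro u h
    have hp : ∀ v, QuadraticMap.polar (Qm m a b) u v =
        QuadraticMap.polar (CfsgLib.Lagrangian.Qp m F) (u ∘ Sum.inl) (v ∘ Sum.inl) +
          QuadraticMap.polar (CfsgLib.OrthOrder.binForm a b) (u ∘ Sum.inr) (v ∘ Sum.inr) := fun v => by
      simp only [QuadraticMap.polar, Qm, QuadraticMap.add_apply, QuadraticMap.comp_apply]
      show _ = _
      simp only [LinearMap.funLeft, LinearMap.coe_mk, AddHom.coe_mk]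
      rw [show (u + v) ∘ Sum.inl = u ∘ Sum.inl + v ∘ Sum.inl from rfl,
        show (u + v) ∘ Sum.inr = u ∘ Sum.inr + v ∘ Sum.inr from rfl]
      ring
    have h1 : u ∘ Sum.inl = 0 := CfsgLib.Lagrangian.Qp_nondeg.1 _ fun y => by
      have := h (Sum.elim y 0)
      rw [hp, Sum.elim_comp_inl, Sum.elim_comp_inr, QuadraticMap.polar_zero_right, add_zero] at this
      exact this
    have h2 : u ∘ Sum.inr = 0 := CfsgLib.OrthOrder.bin_nondeg hab _ fun y => by
      have := h (Sum.elim 0 y)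
      rw [hp, Sum.elim_comp_inl, Sum.elim_comp_inr, QuadraticMap.polar_zero_right, zero_add] at this
      exact this
    funext s
    rcases s with s | s
    · exact congrFun h1 s
    · exact congrFun h2 s
  exact ⟨fun u h => hl u h, fun v h => hl v fun u => (QuadraticMap.polar_comm _ v u).trans (h u)⟩

/-- The odd-dimensional form as a quadratic form. -/
def Qo {F : Type*} [Field F] (m : ℕ) : QuadraticForm F (Unit ⊕ (Fin m ⊕ Fin m) → F) :=
  (QuadraticMap.proj (Sum.inl ()) (Sum.inl ()) : QuadraticForm F (Unit ⊕ (Fin m ⊕ Fin m) → F)) +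
    (CfsgLib.Lagrangian.Qp m F).comp (LinearMap.funLeft F F Sum.inr)

theorem Qo_apply {F : Type*} [Field F] (m : ℕ) (v : Unit ⊕ (Fin m ⊕ Fin m) → F) :
    Qo m v = Cfsg.quadFormOdd m F v := by
  simp [Qo, CfsgLib.Lagrangian.Qp_apply, Cfsg.quadFormOdd, Cfsg.quadFormPlus, LinearMap.funLeft_apply, sq]

theorem Qo_nondeg {F : Type*} [Field F] (h2 : (2 : F) ≠ 0) (m : ℕ) :
    (QuadraticMap.polarBilin (Qo (F := F) m)).Nondegenerate := by
  have hl : ∀ u : Unit ⊕ (Fin m ⊕ Fin m) → F, (∀ v, QuadraticMap.polar (Qo m) u v = 0) → u = 0 := by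
    intro u h
    have hp : ∀ v, QuadraticMap.polar (Qo m) u v = 2 * (u (Sum.inl ()) * v (Sum.inl ())) +
        QuadraticMap.polar (CfsgLib.Lagrangian.Qp m F) (u ∘ Sum.inr) (v ∘ Sum.inr) := fun v => by
      simp only [QuadraticMap.polar, Qo, QuadraticMap.add_apply, QuadraticMap.comp_apply,
        QuadraticMap.proj_apply, LinearMap.funLeft, LinearMap.coe_mk, AddHom.coe_mk, Pi.add_apply]
      rw [show (u + v) ∘ Sum.inr = u ∘ Sum.inr + v ∘ Sum.inr from rfl]
      ring
    funext s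
    rcases s with s | s
    · have := h (Sum.elim 1 0)
      rw [hp, Sum.elim_comp_inr, QuadraticMap.polar_zero_right, add_zero] at this
      simpa [h2] using this
    · refine congrFun (CfsgLib.Lagrangian.Qp_nondeg.1 (u ∘ Sum.inr) fun y => ?_) s
      have := h (Sum.elim 0 y)
      rw [hp, Sum.elim_comp_inr] at this
      simpa using this
  exact ⟨fun u h => hl u h, fun v h => hl v fun u => (QuadraticMap.polar_comm _ v u).trans (h u)⟩

end CfsgLib.StdQuadForms
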