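import Mathlib
import Cfsg.Agent.Lib.FiniteForms.Standard

/-! Half-dimensional totally isotropic subspaces and the discriminant; tensor products of forms. -/

set_option autoImplicit false

namespace CfsgLib.BilinLag

open Module Matrix
open scoped Kronecker TensorProduct

variable {F V : Type*} [Field F] [AddCommGroup V] [Module F V] [FiniteDimensional F V]

/-- There is a totally isotropic subspace of dimension `m`. -/
def HasLag (B : LinearMap.BilinForm F V) (m : ℕ) : Prop :=
  ∃ X : Submodule F V, finrank F X = m ∧ ∀ x ∈ X, ∀ y ∈ X, B x y = 0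

theorem isSymm_toMatrix {κ : Type*} [Fintype κ] [DecidableEq κ] (b : Basis κ F V)
    {B : LinearMap.BilinForm F V} (hS : B.IsSymm) : (LinearMap.BilinForm.toMatrix b B).IsSymm :=
  Matrix.IsSymm.ext fun i j => by
    simp only [LinearMap.BilinForm.toMatrix_apply]; exact hS.eq (b j) (b i)

/-- Discriminant criterion for a half-dimensional totally isotropic subspace. -/
theorem hasLag_iff [Finite F] (h2 : (2 : F) ≠ 0) {m : ℕ} {κ : Type*} [Fintype κ] [DecidableEq κ]
    (b : Basis κ F V) (hκ : Fintype.card κ = 2 * m) (B : LinearMap.BilinForm F V) (hS : B.IsSymm)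
    (hB : (LinearMap.BilinForm.toMatrix b B).det ≠ 0) :
    HasLag B m ↔ IsSquare ((-1 : F) ^ m * (LinearMap.BilinForm.toMatrix b B).det) := by
  classical
  let e : κ ≃ Fin m ⊕ Fin m := Fintype.equivOfCardEq (by simp [hκ, two_mul])
  let b' := b.reindex e
  have hre : LinearMap.BilinForm.toMatrix b' B =
      (LinearMap.BilinForm.toMatrix b B).submatrix e.symm e.symm := by
    ext i j
    simp [b', LinearMap.BilinForm.toMatrix_apply]
  have hdet : (LinearMap.BilinForm.toMatrix b' B).det = (LinearMap.BilinForm.toMatrix b B).det := by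
    rw [hre, Matrix.det_submatrix_equiv_self]
  rw [← hdet]
  have hB' : (LinearMap.BilinForm.toMatrix b' B).det ≠ 0 := hdet ▸ hB
  constructor
  · rintro ⟨X, hXd, hX⟩
    obtain ⟨Y, hY⟩ := Submodule.exists_isCompl X
    have hYd : finrank F Y = m := by
      have := Submodule.finrank_add_eq_of_isCompl hY
      rw [Module.finrank_eq_card_basis b, hκ, hXd] at this
      omega
    let c := ((Module.finBasisOfFinrankEq F X hXd).prod (Module.finBasisOfFinrankEq F Y hYd)).map
      (Submodule.prodEquivOfIsCompl X Y hY)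
    have hc : ∀ i, c (Sum.inl i) ∈ X := fun i => by simp [c]
    set G := LinearMap.BilinForm.toMatrix c B with hG
    have h11 : G.toBlocks₁₁ = 0 := by
      ext i j
      simp [hG, Matrix.toBlocks₁₁, LinearMap.BilinForm.toMatrix_apply, hX _ (hc i) _ (hc j)]
    have h21 : G.toBlocks₂₁ = G.toBlocks₁₂ᵀ := by
      ext i j
      simp only [hG, Matrix.toBlocks₂₁, Matrix.toBlocks₁₂, Matrix.transpose_apply, Matrix.of_apply,
        LinearMap.BilinForm.toMatrix_apply]
      exact (hS.eq (c (Sum.inl j)) (c (Sum.inr i))).symm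
    have key : (CfsgLib.FiniteForms.hypMat F m).det * G.det = G.toBlocks₁₂.det * G.toBlocks₁₂.det := by
      rw [← Matrix.det_mul, ← Matrix.fromBlocks_toBlocks G, CfsgLib.FiniteForms.hypMat,
        Matrix.fromBlocks_multiply, h11, h21]
      simp
    rw [CfsgLib.FiniteForms.det_hypMat] at key
    have hch := congrArg Matrix.det (LinearMap.BilinForm.toMatrix_mul_basis_toMatrix c b' B)
    rw [Matrix.det_mul, Matrix.det_mul, Matrix.det_transpose, ← hG] at hch
    refine ⟨(c.toMatrix ⇑b').det * G.toBlocks₁₂.det, ?_⟩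
    rw [← hch]
    linear_combination (c.toMatrix ⇑b').det * (c.toMatrix ⇑b').det * key
  · intro hsq
    obtain ⟨P, hP, hPe⟩ := (CfsgLib.FiniteForms.congr_iff h2 (isSymm_toMatrix b' hS)
      (CfsgLib.FiniteForms.hypMat_isSymm m) hB' (by
        rw [CfsgLib.FiniteForms.det_hypMat]; exact pow_ne_zero _ (neg_ne_zero.mpr one_ne_zero))).mpr
      (by rw [CfsgLib.FiniteForms.det_hypMat, mul_comm]; exact hsq)
    let c := b'.map (Matrix.toLinearEquiv b' P (isUnit_iff_ne_zero.mpr hP))
    have hbP : b'.toMatrix ⇑c = P := by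
      ext i j
      rw [Basis.toMatrix_apply, Basis.map_apply]
      show b'.repr (Matrix.toLin b' b' P (b' j)) i = _
      rw [← LinearMap.toMatrix_apply b' b' (Matrix.toLin b' b' P), LinearMap.toMatrix_toLin]
    have hc : ∀ i j, B (c (Sum.inl i)) (c (Sum.inl j)) = 0 := fun i j => by
      rw [← LinearMap.BilinForm.toMatrix_apply c B,
        ← LinearMap.BilinForm.toMatrix_mul_basis_toMatrix b' c B, hbP, hPe]
      simp [CfsgLib.FiniteForms.hypMat]
    refine ⟨Submodule.span F (Set.range fun i => c (Sum.inl i)), ?_, fun x hx y hy => ?_⟩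
    · rw [finrank_span_eq_card (b := fun i => c (Sum.inl i))
        (c.linearIndependent.comp _ Sum.inl_injective), Fintype.card_fin]
    · induction hx, hy using Submodule.span_induction₂ with
      | mem_mem x y hx hy =>
        obtain ⟨i, rfl⟩ := hx
        obtain ⟨j, rfl⟩ := hy
        exact hc i j
      | zero_left y hy => simp
      | zero_right x hx => simp
      | add_left x y z hx hy hz h1 h2 => simp [h1, h2]
      | add_right x y z hx hy hz h1 h2 => simp [h1, h2]
      | smul_left r x y hx hy h => simp [h]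
      | smul_right r x y hx hy h => simp [h]

variable {U W : Type*} [AddCommGroup U] [Module F U] [AddCommGroup W] [Module F W]

theorem toMatrix_tmul {κ μ : Type*} [Fintype κ] [DecidableEq κ] [Fintype μ] [DecidableEq μ]
    (bU : Basis κ F U) (bW : Basis μ F W) (B₁ : LinearMap.BilinForm F U)
    (B₂ : LinearMap.BilinForm F W) :
    LinearMap.BilinForm.toMatrix (bU.tensorProduct bW) (B₁.tmul B₂) =
      LinearMap.BilinForm.toMatrix bU B₁ ⊗ₖ LinearMap.BilinForm.toMatrix bW B₂ := by
  ext ⟨i, j⟩ ⟨i', j'⟩
  rw [LinearMap.BilinForm.toMatrix_apply, Matrix.kroneckerMap_apply,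
    Basis.tensorProduct_apply, Basis.tensorProduct_apply,
    LinearMap.BilinForm.toMatrix_apply, LinearMap.BilinForm.toMatrix_apply]
  simp [LinearMap.BilinForm.tmul, LinearMap.BilinForm.tensorDistrib_tmul, mul_comm]

variable [FiniteDimensional F U] [FiniteDimensional F W]

theorem tmul_det {κ μ : Type*} [Fintype κ] [DecidableEq κ] [Fintype μ] [DecidableEq μ]
    (bU : Basis κ F U) (bW : Basis μ F W) (B₁ : LinearMap.BilinForm F U)
    (B₂ : LinearMap.BilinForm F W) :
    (LinearMap.BilinForm.toMatrix (bU.tensorProduct bW) (B₁.tmul B₂)).det =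
      (LinearMap.BilinForm.toMatrix bU B₁).det ^ Fintype.card μ *
        (LinearMap.BilinForm.toMatrix bW B₂).det ^ Fintype.card κ := by
  rw [toMatrix_tmul, Matrix.det_kronecker]

theorem det_ne_zero {κ : Type*} [Fintype κ] [DecidableEq κ] (bU : Basis κ F U)
    {B : LinearMap.BilinForm F U} (hB : B.Nondegenerate) :
    (LinearMap.BilinForm.toMatrix bU B).det ≠ 0 :=
  (LinearMap.BilinForm.nondegenerate_iff_det_ne_zero bU).mp hB

theorem tmul_nondegenerate {B₁ : LinearMap.BilinForm F U} {B₂ : LinearMap.BilinForm F W}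
    (h₁ : B₁.Nondegenerate) (h₂ : B₂.Nondegenerate) : (B₁.tmul B₂).Nondegenerate := by
  classical
  let bU := Module.finBasis F U
  let bW := Module.finBasis F W
  refine (LinearMap.BilinForm.nondegenerate_iff_det_ne_zero (bU.tensorProduct bW)).mpr ?_
  rw [tmul_det]
  exact mul_ne_zero (pow_ne_zero _ (det_ne_zero bU h₁)) (pow_ne_zero _ (det_ne_zero bW h₂))

end CfsgLib.BilinLag
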