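import Mathlib
import Cfsg.Agent.Lib.Subnormal

/-!
Bartels' form of the zipper lemma: if the normal closure of `A` is everything and the subgroups
generated by their conjugates of `A` generate a proper subgroup, then `A` lies in a unique maximal
subgroup.
-/

set_option autoImplicit false

namespace CfsgLib.Bartels

open Subgroup CfsgLib
open scoped Pointwise

variable {G : Type*} [Group G]

/-- `H` is subnormal in `X`. -/
def Sn (H X : Subgroup G) : Prop := H ≤ X ∧ (H.subgroupOf X).IsSubnormal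

/-- All maximal subgroups containing `A`, except `M`, contain it subnormally. -/
def Good (A M : Subgroup G) : Prop :=
  IsCoatom M ∧ A ≤ M ∧ ∀ Z : Subgroup G, IsCoatom Z → Z ≠ M → A ≤ Z → Sn A Z

/-- The proper subgroups generated by their conjugates of `A`. -/
def Mem (A H : Subgroup G) : Prop :=
  A ≤ H ∧ H ≠ ⊤ ∧ Subgroup.normalClosure ((A.subgroupOf H : Subgroup H) : Set H) = ⊤

/-- At most one maximal subgroup lies over `C`. -/
def Uniq (C : Subgroup G) : Prop :=
  ∀ X Z : Subgroup G, IsCoatom X → IsCoatom Z → C ≤ X → C ≤ Z → X = Z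

theorem cj_eq (g : G) (H : Subgroup G) : MulAut.conj g • H = H.map (MulAut.conj g).toMonoidHom := rfl

theorem cj_mul (a b : G) (H : Subgroup G) :
    MulAut.conj a • (MulAut.conj b • H) = MulAut.conj (a * b) • H := by rw [map_mul, mul_smul]

theorem cj_mono {H K : Subgroup G} (g : G) (h : H ≤ K) : MulAut.conj g • H ≤ MulAut.conj g • K :=
  Subgroup.map_mono h

theorem cj_mem {g : G} {K : Subgroup G} (hg : g ∈ K) : MulAut.conj g • K = K := by
  ext x
  rw [mem_conj_smul_iff]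
  constructor
  · intro hx
    simpa [mul_assoc] using K.mul_mem (K.mul_mem hg hx) (K.inv_mem hg)
  · intro hx
    exact K.mul_mem (K.mul_mem (K.inv_mem hg) hx) hg

theorem cj_le {g : G} {H K : Subgroup G} (hg : g ∈ K) (h : H ≤ K) : MulAut.conj g • H ≤ K :=
  (cj_mono g h).trans (cj_mem hg).le

theorem mem_normalizer_of_cj {g : G} {H : Subgroup G} (h : MulAut.conj g • H = H) :
    g ∈ Subgroup.normalizer (H : Set G) := by
  rw [Subgroup.mem_normalizer_iff]
  intro s
  conv_rhs => rw [← h, mem_conj_smul_iff]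
  simp [mul_assoc]

theorem cj_eq_of_le [Finite G] {g : G} {H : Subgroup G} (h : MulAut.conj g • H ≤ H) : MulAut.conj g • H = H :=
  Subgroup.eq_of_le_of_card_ge h (card_conj_smul g H).ge

theorem cj_inv_le {g : G} {H K : Subgroup G} : H ≤ MulAut.conj g • K ↔ MulAut.conj g⁻¹ • H ≤ K := by
  constructor
  · intro h
    have := cj_mono g⁻¹ h
    rwa [cj_mul, inv_mul_cancel, map_one, one_smul] at this
  · intro h
    have := cj_mono g h
    rwa [cj_mul, mul_inv_cancel, map_one, one_smul] at this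

theorem isCoatom_cj {M : Subgroup G} (hM : IsCoatom M) (g : G) : IsCoatom (MulAut.conj g • M) := by
  refine ⟨fun e => hM.1 ?_, fun K hK => ?_⟩
  · rw [eq_top_iff]
    intro x _
    have : g * x * g⁻¹ ∈ MulAut.conj g • M := e ▸ mem_top _
    rw [mem_conj_smul_iff] at this
    simpa [mul_assoc] using this
  · have h2 : M < MulAut.conj g⁻¹ • K := by
      refine lt_of_le_of_ne ?_ fun e => hK.ne ?_
      · have := cj_mono g⁻¹ hK.le
        rwa [cj_mul, inv_mul_cancel, map_one, one_smul] at this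
      · rw [e, cj_mul, mul_inv_cancel, map_one, one_smul]
    rw [eq_top_iff]
    intro x _
    have : g⁻¹ * x * g ∈ MulAut.conj g⁻¹ • K := hM.2 _ h2 ▸ mem_top _
    rw [mem_conj_smul_iff] at this
    simpa [mul_assoc] using this

theorem normalClosure_cj {A : Subgroup G} (hA : normalClosure (A : Set G) = ⊤) (g : G) :
    normalClosure ((MulAut.conj g • A : Subgroup G) : Set G) = ⊤ := by
  rw [eq_top_iff, ← hA]
  refine normalClosure_le_normal fun x hx => ?_
  have h1 : g * x * g⁻¹ ∈ normalClosure ((MulAut.conj g • A : Subgroup G) : Set G) :=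
    subset_normalClosure (by
      show g * x * g⁻¹ ∈ MulAut.conj g • A
      rw [mem_conj_smul_iff]; simpa [mul_assoc] using hx)
  simpa [mul_assoc] using (normalClosure_normal).conj_mem _ h1 g⁻¹

theorem normalClosure_mono_top {A C : Subgroup G} (hA : normalClosure (A : Set G) = ⊤) (h : A ≤ C) :
    normalClosure (C : Set G) = ⊤ := by
  rw [eq_top_iff, ← hA]
  exact normalClosure_mono h

theorem not_le_of_normalClosure {A N : Subgroup G} (hA : normalClosure (A : Set G) = ⊤) (hN : N.Normal)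
    (hNt : N ≠ ⊤) : ¬ A ≤ N := fun h => hNt (eq_top_iff.mpr (hA ▸ normalClosure_le_normal h))

theorem mem_of_cj_eq {A M : Subgroup G} (hA : normalClosure (A : Set G) = ⊤) (hM : IsCoatom M) (hAM : A ≤ M)
    {g : G} (h : MulAut.conj g • M = M) : g ∈ M := by
  rcases hM.le_iff.mp (le_normalizer : M ≤ normalizer (M : Set G)) with e | e
  · exact absurd hAM (not_le_of_normalClosure hA (normalizer_eq_top_iff.mp e) hM.1)
  · exact e ▸ mem_normalizer_of_cj h

theorem sn_mono {C H X : Subgroup G} (h : Sn C X) (h1 : C ≤ H) (h2 : H ≤ X) : Sn C H :=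
  ⟨h1, (congrArg Subgroup.IsSubnormal (show (C.subgroupOf X).comap (Subgroup.inclusion h2) = C.subgroupOf H from
    rfl)).mp (h.2.comap _)⟩

theorem sn_cj {A X : Subgroup G} (h : Sn A X) (g : G) : Sn (MulAut.conj g • A) (MulAut.conj g • X) := by
  refine ⟨cj_mono g h.1, ?_⟩
  let f : (MulAut.conj g • X : Subgroup G) →* X :=
    MonoidHom.mk' (fun z => ⟨g⁻¹ * z * g, mem_conj_smul_iff.mp z.2⟩) (fun a b => Subtype.ext (by simp [mul_assoc]))
  have h1 := h.2.comap f
  have heq : (A.subgroupOf X).comap f = (MulAut.conj g • A).subgroupOf (MulAut.conj g • X) := by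
    ext z
    simp [f, Subgroup.mem_subgroupOf, mem_conj_smul_iff]
  rwa [heq] at h1

theorem sn_sup [Finite G] {A B X : Subgroup G} (hA : Sn A X) (hB : Sn B X) : Sn (A ⊔ B) X := by
  refine ⟨sup_le hA.1 hB.1, ?_⟩
  rw [Subgroup.subgroupOf_sup hA.1 hB.1]
  exact isSubnormal_sup hA.2 hB.2

theorem sn_sSup [Finite G] {X : Subgroup G} {S : Set (Subgroup G)} (h : ∀ B ∈ S, Sn B X) :
    Sn (sSup S) X := by
  induction S, S.toFinite using Set.Finite.induction_on with
  | empty => simpa [Sn] using (Subgroup.IsSubnormal.bot : (⊥ : Subgroup X).IsSubnormal)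
  | @insert B T _ _ ih =>
    rw [sSup_insert]
    exact sn_sup (h B (Set.mem_insert _ _)) (ih fun C hC => h C (Set.mem_insert_of_mem _ hC))

theorem good_cj {A M : Subgroup G} (h : Good A M) (g : G) :
    Good (MulAut.conj g • A) (MulAut.conj g • M) := by
  refine ⟨isCoatom_cj h.1 g, cj_mono g h.2.1, fun Z hZ hne hAZ => ?_⟩
  have h1 := h.2.2 (MulAut.conj g⁻¹ • Z) (isCoatom_cj hZ g⁻¹) (fun e => hne (by
    rw [← e, cj_mul, mul_inv_cancel, map_one, one_smul])) (by
    rw [cj_inv_le, inv_inv]; exact hAZ)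
  have h2 := sn_cj h1 g
  rwa [cj_mul, mul_inv_cancel, map_one, one_smul] at h2

/-- A subgroup subnormal in `X` is normalised by an element of `X` outside `D`, as soon as each of its
conjugates in `D` lies in it. -/
theorem grow [Finite G] {W X D : Subgroup G} (hW : Sn W X) (hXD : ¬ X ≤ D)
    (hcl : ∀ x ∈ X, MulAut.conj x • W ≤ D → MulAut.conj x • W ≤ W) :
    ∃ f ∈ X, f ∉ D ∧ MulAut.conj f • W = W := by
  by_cases hn : (W.subgroupOf X).Normal
  · obtain ⟨f, hfX, hfD⟩ := SetLike.not_le_iff_exists.mp hXD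
    refine ⟨f, hfX, hfD, cj_eq_of_le fun y hy => ?_⟩
    have h1 : f⁻¹ * y * f ∈ W := mem_conj_smul_iff.mp hy
    simpa [Subgroup.mem_subgroupOf, mul_assoc] using hn.conj_mem ⟨_, hW.1 h1⟩ h1 ⟨f, hfX⟩
  · obtain ⟨x, hxne, hxle⟩ := exists_conj_ne_le_normalizer hW.2 hn
    have hnle : ¬ MulAut.conj (x : G) • W ≤ D := fun h => hxne (by
      have h2 := cj_eq_of_le (hcl x x.2 h)
      ext z
      rw [mem_conj_smul_iff]
      show (x : G)⁻¹ * z * x ∈ W ↔ (z : G) ∈ W
      conv_rhs => rw [← h2, mem_conj_smul_iff])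
    obtain ⟨y, hy, hyD⟩ := SetLike.not_le_iff_exists.mp hnle
    have hyX : y ∈ X := cj_le x.2 hW.1 hy
    refine ⟨y, hyX, hyD, cj_eq_of_le fun z hz => ?_⟩
    have h1 : y⁻¹ * z * y ∈ W := mem_conj_smul_iff.mp hz
    have h2 := hxle (x := ⟨y, hyX⟩) ((mem_conj_smul_iff (G := X)).mpr (mem_conj_smul_iff.mp hy :))
    have h3 := (Subgroup.mem_normalizer_iff.mp h2 ⟨_, hW.1 h1⟩).mp h1
    simpa [Subgroup.mem_subgroupOf, mul_assoc] using h3

section Main

variable {n : ℕ}

/-- The consequence of the induction hypothesis. -/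
def Key (G : Type*) [Group G] (n : ℕ) : Prop :=
  ∀ M C : Subgroup G, IsCoatom M → n < Nat.card C → normalClosure (C : Set G) = ⊤ → C ≤ M →
    (∀ Z : Subgroup G, IsCoatom Z → Z ≠ M → C ≤ Z → Sn C Z) → Uniq C

variable [Finite G]

theorem key_one (hk : Key G n) {A M : Subgroup G} (hg : Good A M) (hn : Nat.card A = n)
    (hA : normalClosure (A : Set G) = ⊤) {m : G} (hm : m ∈ M) {Z : Subgroup G} (hZ : IsCoatom Z)
    (hne : Z ≠ M) (hAZ : A ≤ Z) (hmZ : MulAut.conj m • A ≤ Z) : MulAut.conj m • A = A := by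
  by_contra hc
  set C := A ⊔ MulAut.conj m • A with hC
  have hlt : n < Nat.card C := by
    rw [← hn]
    refine lt_of_le_of_ne (Subgroup.card_le_of_le le_sup_left) fun e => hc (cj_eq_of_le ?_)
    exact le_sup_right.trans (Subgroup.eq_of_le_of_card_ge (le_sup_left : A ≤ C) e.ge).ge
  have := hk M C hg.1 hlt (normalClosure_mono_top hA le_sup_left) (sup_le hg.2.1 (cj_le hm hg.2.1))
    fun Z' hZ' hne' hle => by
      refine sn_sup (hg.2.2 Z' hZ' hne' (le_sup_left.trans hle)) ((good_cj hg m).2.2 Z' hZ' ?_ (le_sup_right.trans hle))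
      rwa [cj_mem hm]
  exact hne (this Z M hZ hg.1 (sup_le hAZ hmZ) (sup_le hg.2.1 (cj_le hm hg.2.1)))

theorem key_two (hk : Key G n) {A M : Subgroup G} (hg : Good A M) (hn : Nat.card A = n)
    (hA : normalClosure (A : Set G) = ⊤) {g : G} (hgM : MulAut.conj g • A ≤ M) {Z : Subgroup G}
    (hZ : IsCoatom Z) (hne : Z ≠ M) (hAZ : A ≤ Z) (hgZ : MulAut.conj g • A ≤ Z) :
    A ≤ MulAut.conj g • M := by
  by_contra hc
  set C := A ⊔ MulAut.conj g • A with hC
  have hlt : n < Nat.card C := by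
    rw [← hn]
    refine lt_of_le_of_ne (Subgroup.card_le_of_le le_sup_left) fun e => hc ?_
    have h1 : MulAut.conj g • A = A :=
      cj_eq_of_le (le_sup_right.trans (Subgroup.eq_of_le_of_card_ge (le_sup_left : A ≤ C) e.ge).ge)
    exact h1 ▸ cj_mono g hg.2.1
  have := hk M C hg.1 hlt (normalClosure_mono_top hA le_sup_left) (sup_le hg.2.1 hgM)
    fun Z' hZ' hne' hle => by
      refine sn_sup (hg.2.2 Z' hZ' hne' (le_sup_left.trans hle)) ((good_cj hg g).2.2 Z' hZ' ?_ (le_sup_right.trans hle))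
      exact fun e => hc ((le_sup_left.trans hle).trans e.le)
  exact hne (this Z M hZ hg.1 (sup_le hAZ hgZ) (sup_le hg.2.1 hgM))

/-- The conjugates of `A` in `D`, joined. -/
def U (A D : Subgroup G) : Subgroup G := sSup {B | B ≤ D ∧ ∃ g : G, B = MulAut.conj g • A}

omit [Finite G] in
theorem le_U {A D : Subgroup G} {g : G} (h : MulAut.conj g • A ≤ D) : MulAut.conj g • A ≤ U A D :=
  le_sSup ⟨h, g, rfl⟩

omit [Finite G] in
theorem cj_sSup_le {S : Set (Subgroup G)} {T : Subgroup G} {f : G}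
    (h : ∀ B ∈ S, MulAut.conj f • B ≤ T) : MulAut.conj f • sSup S ≤ T := by
  rw [← inv_inv f, ← cj_inv_le]
  exact sSup_le fun B hB => by rw [cj_inv_le, inv_inv]; exact h B hB

theorem grow_special (hk : Key G n) {A M : Subgroup G} (hg : Good A M) (hn : Nat.card A = n)
    (hA : normalClosure (A : Set G) = ⊤) {L : Subgroup G} (hL : IsCoatom L) (hne : L ≠ M) (hAL : A ≤ L) :
    ∃ f ∈ M, f ∉ L ∧ MulAut.conj f • U A (M ⊓ L) ≤ U A (M ⊓ L) := by
  have hML : ¬ M ≤ L := fun h => (hg.1.le_iff.mp h).elim hL.1 hne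
  have hLM : ¬ L ≤ M := fun h => (hL.le_iff.mp h).elim hg.1.1 hne.symm
  have hex : ∃ g : G, g ∉ M ∧ MulAut.conj g • A ≤ M ⊓ L := by
    by_contra hno
    push Not at hno
    obtain ⟨f, hf, hfD, hfe⟩ := grow (D := M ⊓ L) (hg.2.2 L hL hne hAL) (fun h => hLM (h.trans inf_le_left))
      fun x _ hxD => by
        have hxM : x ∈ M := by_contra fun hxM => hno x hxM hxD
        exact (key_one hk hg hn hA hxM hL hne hAL (hxD.trans inf_le_right)).le
    exact hno f (fun hfM => hfD ⟨hfM, hf⟩) (hfe.le.trans (le_inf hg.2.1 hAL))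
  obtain ⟨g, hgM, hgD⟩ := hex
  set Ω : Set (Subgroup G) := {B | B ≤ M ⊓ L ∧ ∃ g : G, g ∉ M ∧ B = MulAut.conj g • A} with hΩ
  have hsp : ∀ g : G, g ∉ M → MulAut.conj g • M ≠ M := fun g hg' e => hg' (mem_of_cj_eq hA hg.1 hg.2.1 e)
  have hR : Sn (sSup Ω) M := sn_sSup fun B hB => by
    obtain ⟨hBD, g, hgM, rfl⟩ := hB
    exact (good_cj hg g).2.2 M hg.1 (hsp g hgM).symm (hBD.trans inf_le_left)
  obtain ⟨f, hfM, hfD, hfe⟩ := grow (D := M ⊓ L) hR (fun h => hML (h.trans inf_le_right))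
    fun x hx hxD => cj_sSup_le fun B hB => by
      refine le_sSup ?_
      obtain ⟨hBD, g, hgM, rfl⟩ := hB
      refine ⟨(cj_mono x (le_sSup (⟨hBD, g, hgM, rfl⟩ : MulAut.conj g • A ∈ Ω))).trans hxD, x * g, ?_, cj_mul x g A⟩
      exact fun h => hgM (by simpa using M.mul_mem (M.inv_mem hx) h)
  have hfA : MulAut.conj f • A = A := by
    have h1 : MulAut.conj (f * g) • A ≤ M ⊓ L := by
      rw [← cj_mul]
      refine (cj_mono f (le_sSup (⟨hgD, g, hgM, rfl⟩ : MulAut.conj g • A ∈ Ω))).trans (hfe.le.trans (sSup_le ?_))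
      exact fun B hB => hB.1
    have hfg : f * g ∉ M := fun h => hgM (by simpa using M.mul_mem (M.inv_mem hfM) h)
    have h2 := key_two hk hg hn hA (h1.trans inf_le_left) hL hne hAL (h1.trans inf_le_right)
    have h3 : MulAut.conj f • A ≤ MulAut.conj (f * g) • M := by
      rw [← cj_mul]
      exact cj_mono f (key_two hk hg hn hA (hgD.trans inf_le_left) hL hne hAL (hgD.trans inf_le_right))
    exact key_one hk hg hn hA hfM (isCoatom_cj hg.1 _) (hsp _ hfg) h2 h3
  refine ⟨f, hfM, fun h => hfD ⟨hfM, h⟩, cj_sSup_le fun B hB => ?_⟩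
  obtain ⟨hBD, h, rfl⟩ := hB
  by_cases hh : h ∈ M
  · rw [key_one hk hg hn hA hh hL hne hAL (hBD.trans inf_le_right), hfA]
    exact le_sSup ⟨le_inf hg.2.1 hAL, 1, by rw [map_one, one_smul]⟩
  · refine (cj_mono f (le_sSup (⟨hBD, h, hh, rfl⟩ : MulAut.conj h • A ∈ Ω))).trans (hfe.le.trans ?_)
    exact sSup_le fun B hB => le_sSup ⟨hB.1, hB.2.imp fun _ h => h.2⟩

theorem uniq_of_good (hk : Key G n) {A M : Subgroup G} (hg : Good A M) (hn : Nat.card A = n)
    (hA : normalClosure (A : Set G) = ⊤) : Uniq A := by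
  suffices h : ∀ L : Subgroup G, IsCoatom L → A ≤ L → L = M from
    fun X Z hX hZ hAX hAZ => (h X hX hAX).trans (h Z hZ hAZ).symm
  intro L₀ hL₀ hAL₀
  by_contra hne₀
  obtain ⟨L, ⟨hL, hAL, hne⟩, hmax⟩ := Set.exists_max_image
    {L : Subgroup G | IsCoatom L ∧ A ≤ L ∧ L ≠ M} (fun L => Nat.card (M ⊓ L : Subgroup G))
    (Set.toFinite _) ⟨L₀, hL₀, hAL₀, hne₀⟩
  set D := M ⊓ L with hD
  have hLM : ¬ L ≤ M := fun h => (hL.le_iff.mp h).elim hg.1.1 hne.symm
  obtain ⟨f, hfM, hfL, hfU⟩ := grow_special hk hg hn hA hL hne hAL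
  have hl : ∃ y ∈ L, y ∉ M ∧ MulAut.conj y • U A D ≤ U A D := by
    by_cases hs : ∃ h : G, MulAut.conj h • A ≤ D ∧ MulAut.conj h • M = L
    · obtain ⟨h, hhD, hhL⟩ := hs
      have hgh := hhL ▸ good_cj hg h
      obtain ⟨y, hy, hyM, hyU⟩ := grow_special hk hgh (by rw [card_conj_smul, hn]) (normalClosure_cj hA h)
        hg.1 hne.symm (hhD.trans inf_le_left)
      have hU : U (MulAut.conj h • A) (L ⊓ M) = U A D := by
        refine congrArg sSup (Set.ext fun B => ?_)
        constructor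
        · rintro ⟨h1, g, rfl⟩
          exact ⟨le_of_le_of_eq h1 (inf_comm L M), g * h, cj_mul g h A⟩
        · rintro ⟨h1, g, rfl⟩
          exact ⟨le_of_le_of_eq h1 (inf_comm M L), g * h⁻¹, by rw [cj_mul, inv_mul_cancel_right]⟩
      exact ⟨y, hy, hyM, hU ▸ hyU⟩
    · push Not at hs
      have hsn : Sn (U A D) L := sn_sSup fun B hB => by
        obtain ⟨hBD, g, rfl⟩ := hB
        exact (good_cj hg g).2.2 L hL (hs g hBD).symm (hBD.trans inf_le_right)
      obtain ⟨y, hy, hyD, hye⟩ := grow (D := D) hsn (fun h => hLM (h.trans inf_le_left))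
        fun x _ hxD => cj_sSup_le fun B hB => by
          obtain ⟨hBD, g, rfl⟩ := hB
          rw [cj_mul]
          refine le_U ?_
          rw [← cj_mul]
          exact (cj_mono x (le_U hBD)).trans hxD
      exact ⟨y, hy, fun h => hyD ⟨h, hy⟩, hye.le⟩
  obtain ⟨y, hyL, hyM, hyU⟩ := hl
  set N := normalizer (U A D : Set G) with hN
  have hAU : A ≤ U A D := le_sSup ⟨le_inf hg.2.1 hAL, 1, by rw [map_one, one_smul]⟩
  have hDN : D ≤ N := fun d hd => mem_normalizer_of_cj (cj_eq_of_le (cj_sSup_le fun B hB => by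
    obtain ⟨hBD, g, rfl⟩ := hB
    rw [cj_mul]
    refine le_U ?_
    rw [← cj_mul]
    exact cj_le hd hBD))
  have hNt : N ≠ ⊤ := fun e => not_le_of_normalClosure hA (normalizer_eq_top_iff.mp e)
    (fun e' => hg.1.1 (eq_top_iff.mpr (e'.ge.trans (sSup_le fun B hB => hB.1.trans inf_le_left)))) hAU
  obtain ⟨L', hL', hNL'⟩ := (eq_top_or_exists_le_coatom N).resolve_left hNt
  have hL'M : L' ≠ M := fun e => hyM (e ▸ hNL' (mem_normalizer_of_cj (cj_eq_of_le hyU)))
  have hlt : D < M ⊓ L' := lt_of_le_of_ne (le_inf inf_le_left (hDN.trans hNL')) fun e => hfL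
    ((e.ge ⟨hfM, hNL' (mem_normalizer_of_cj (cj_eq_of_le hfU))⟩).2)
  exact absurd (hmax L' ⟨hL', (le_inf hg.2.1 hAL).trans (hDN.trans hNL'), hL'M⟩)
    (not_le.mpr (lt_of_le_of_ne (Subgroup.card_le_of_le hlt.le)
      fun e => hlt.ne (Subgroup.eq_of_le_of_card_ge hlt.le e.ge)))

end Main

theorem mem_trans {A Z H : Subgroup G} (h1 : Mem A Z) (h2 : Mem Z H) : Mem A H := by
  refine ⟨h1.1.trans h2.1, h2.2.1, ?_⟩
  rw [eq_top_iff, ← h2.2.2]
  refine normalClosure_le_normal fun z hz => ?_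
  set W := normalClosure ((A.subgroupOf H : Subgroup H) : Set H) with hW
  have h : normalClosure ((A.subgroupOf Z : Subgroup Z) : Set Z) ≤ W.comap (Subgroup.inclusion h2.1) :=
    normalClosure_le_normal fun a ha => subset_normalClosure ha
  rw [h1.2.2] at h
  exact h (mem_top (⟨(z : G), hz⟩ : Z))

theorem eq_of_mem_sn {C H : Subgroup G} (h1 : Mem C H) (h2 : Sn C H) : H ≤ C := by
  rcases h2.2.lt_normal with h | ⟨N, hN, hCN, hNt⟩
  · exact subgroupOf_eq_top.mp h
  · exact absurd (h1.2.2.ge.trans (normalClosure_le_normal hCN)) hNt.not_ge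

/-- Every proper overgroup contains a member subnormally. -/
theorem exists_mem_sn [Finite G] {A Z : Subgroup G} (hAZ : A ≤ Z) (hZ : Z ≠ ⊤) :
    ∃ K : Subgroup G, Mem A K ∧ Sn K Z := by
  obtain ⟨K, ⟨hAK, hKs⟩, hmin⟩ := Set.exists_min_image {K : Subgroup G | A ≤ K ∧ Sn K Z}
    (fun K => Nat.card K) (Set.toFinite _) ⟨Z, hAZ, le_rfl, by simp⟩
  refine ⟨K, ⟨hAK, fun e => hZ (eq_top_iff.mpr (e.ge.trans hKs.1)), ?_⟩, hKs⟩
  by_contra hne
  set W := normalClosure ((A.subgroupOf K : Subgroup K) : Set K) with hW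
  have hWK : W.map K.subtype ≤ K := map_subtype_le _
  have hAW : A ≤ W.map K.subtype := fun a ha => ⟨⟨a, hAK ha⟩, subset_normalClosure ha, rfl⟩
  have hsn : Sn (W.map K.subtype) Z := by
    refine ⟨hWK.trans hKs.1, Subgroup.IsSubnormal.step _ (K.subgroupOf Z) (Subgroup.comap_mono hWK) hKs.2 ?_⟩
    have hn : K ≤ normalizer (W.map K.subtype : Set G) := by
      have := le_normalizer_map (H := W) K.subtype
      rw [normalizer_eq_top_iff.mpr normalClosure_normal, ← MonoidHom.range_eq_map, range_subtype] at this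
      exact this
    refine (normal_subgroupOf_iff_le_normalizer (show (W.map K.subtype).subgroupOf Z ≤ K.subgroupOf Z from
      Subgroup.comap_mono hWK)).mpr ?_
    exact (Subgroup.comap_mono hn).trans (le_normalizer_comap Z.subtype)
  exact hne (by
    have h1 := Subgroup.eq_of_le_of_card_ge hWK (hmin _ ⟨hAW, hsn⟩)
    refine map_injective K.subtype_injective ?_
    rw [h1, ← MonoidHom.range_eq_map, range_subtype])

/-- **Bartels.** -/
theorem uniq [Finite G] (A : Subgroup G) (hA : normalClosure (A : Set G) = ⊤) (hAt : A ≠ ⊤)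
    (hY : sSup {H | Mem A H} ≠ ⊤) : Uniq A := by
  induction hd : Nat.card G - Nat.card A using Nat.strong_induction_on generalizing A with
  | h d ih =>
    subst hd
    have hrec : ∀ C : Subgroup G, Nat.card A < Nat.card C → normalClosure (C : Set G) = ⊤ → C ≠ ⊤ →
        sSup {H | Mem C H} ≠ ⊤ → Uniq C := fun C hlt h1 h2 h3 =>
      ih _ (by have := Subgroup.card_le_card_group C; omega) C h1 h2 h3 rfl
    have hk : Key G (Nat.card A) := by
      intro M C hM hlt hC hCM hsn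
      refine hrec C hlt hC (fun e => hM.1 (eq_top_iff.mpr (e.ge.trans hCM))) fun e => hM.1 (eq_top_iff.mpr ?_)
      rw [← e]
      refine sSup_le fun H hH => ?_
      obtain ⟨Z, hZ, hHZ⟩ := (eq_top_or_exists_le_coatom H).resolve_left hH.2.1
      by_cases hZM : Z = M
      · exact hZM ▸ hHZ
      · exact (eq_of_mem_sn hH (sn_mono (hsn Z hZ hZM (hH.1.trans hHZ)) hH.1 hHZ)).trans hCM
    suffices hgood : ∃ M, Good A M by
      obtain ⟨M, hM⟩ := hgood
      exact uniq_of_good hk hM rfl hA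
    by_cases hall : ∀ Z : Subgroup G, IsCoatom Z → A ≤ Z → Sn A Z
    · obtain ⟨M, hM, hAM⟩ := (eq_top_or_exists_le_coatom A).resolve_left hAt
      exact ⟨M, hM, hAM, fun Z hZ _ h => hall Z hZ h⟩
    push Not at hall
    obtain ⟨Z₀, hZ₀, hAZ₀, hns⟩ := hall
    obtain ⟨M, hM, hYM⟩ := (eq_top_or_exists_le_coatom (sSup {H | Mem A H})).resolve_left hY
    have hbad : ∀ Z : Subgroup G, IsCoatom Z → A ≤ Z → ¬ Sn A Z → Z = M := by
      intro Z hZ hAZ hnsn
      obtain ⟨K, hK, hKs⟩ := exists_mem_sn hAZ hZ.1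
      have hlt : Nat.card A < Nat.card K := lt_of_le_of_ne (Subgroup.card_le_of_le hK.1) fun e =>
        hnsn ((Subgroup.eq_of_le_of_card_ge hK.1 e.ge).symm ▸ hKs)
      exact hrec K hlt (normalClosure_mono_top hA hK.1) hK.2.1 (fun e => hY (eq_top_iff.mpr (e.ge.trans
        (sSup_le fun H hH => le_sSup (mem_trans hK hH))))) Z M hZ hM hKs.1 ((le_sSup (show K ∈ {H | Mem A H} from hK)).trans hYM)
    exact ⟨M, hM, hAZ₀.trans (hbad Z₀ hZ₀ hAZ₀ hns).le, fun Z hZ hne hAZ =>
      by_contra fun h => hne (hbad Z hZ hAZ h)⟩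

end CfsgLib.Bartels
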