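import Mathlib
import Cfsg.Agent.Lib.Bartels

/-!
`[G, α] = G` implies that iterated commutators with `α` generate.
-/

set_option autoImplicit false

namespace CfsgLib.AutGen

open Subgroup CfsgLib CfsgLib.Bartels
open scoped Pointwise

variable {G : Type*} [Group G]

/-- The commutator map. -/
def cf (α : MulAut G) : G → G := fun c => c * (α c)⁻¹

theorem cf_map (α : MulAut G) (x : G) : α (cf α x) = cf α (α x) := by simp [cf]

theorem cf_iterate_map (α : MulAut G) (k : ℕ) (x : G) : α ((cf α)^[k] x) = (cf α)^[k] (α x) :=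
  (Function.Semiconj.iterate_right (cf_map α) k).eq x

variable [Finite G]

theorem zpowers_invariant {α : MulAut G} {T : Subgroup G} (h : ∀ x ∈ T, α x ∈ T) {β : MulAut G}
    (hβ : β ∈ zpowers α) {x : G} (hx : x ∈ T) : β x ∈ T := by
  have h1 : α • T = T := Subgroup.eq_of_le_of_card_ge (by
      rintro _ ⟨y, hy, rfl⟩
      exact h y hy) (Nat.card_congr (Subgroup.equivSMul α T).toEquiv).le
  have h2 : β • T = T := (zpowers_le.mpr (MulAction.mem_stabilizer_iff.mpr h1) : zpowers α ≤ MulAction.stabilizer _ T) hβ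
  exact h2 ▸ Subgroup.smul_mem_pointwise_smul x β T hx

/-- The semidirect product with `⟨α⟩`. -/
abbrev Ext (α : MulAut G) := SemidirectProduct G (zpowers α) (zpowers α).subtype

/-- The elements with left component in `T`. -/
def hat (α : MulAut G) (T : Subgroup G) (h : ∀ x ∈ T, α x ∈ T) : Subgroup (Ext α) where
  carrier := {γ | γ.left ∈ T}
  one_mem' := T.one_mem
  mul_mem' {γ δ} h1 h2 := T.mul_mem h1 (zpowers_invariant h γ.right.2 h2)
  inv_mem' {γ} h1 := zpowers_invariant h (γ.right⁻¹).2 (T.inv_mem h1)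

theorem iterate_mem_step (α : MulAut G) {M : Subgroup (Ext α)} (hM : IsCoatom M)
    (hA : normalClosure ((zpowers (SemidirectProduct.inr (⟨α, mem_zpowers α⟩ : zpowers α) : Ext α)) : Set (Ext α)) = ⊤)
    (hu : Uniq (zpowers (SemidirectProduct.inr (⟨α, mem_zpowers α⟩ : zpowers α) : Ext α)))
    (haM : SemidirectProduct.inr (⟨α, mem_zpowers α⟩ : zpowers α) ∈ M) {y : G}
    (hy : SemidirectProduct.inl (cf α y) ∈ M) : SemidirectProduct.inl y ∈ M := by
  set a : Ext α := SemidirectProduct.inr ⟨α, mem_zpowers α⟩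
  set b : Ext α := SemidirectProduct.inl y
  have h1 : b * a * b⁻¹ = SemidirectProduct.inl (cf α y) * a := by
    refine SemidirectProduct.ext ?_ ?_ <;> simp [a, b, cf]
  have h2 : b * a * b⁻¹ ∈ M := h1 ▸ M.mul_mem hy haM
  have h3 : MulAut.conj b⁻¹ • M = M := hu _ _ (isCoatom_cj hM _) hM (by
    rw [zpowers_le, mem_conj_smul_iff, inv_inv]; exact h2) (zpowers_le.mpr haM)
  exact inv_mem_iff.mp (mem_of_cj_eq hA hM (zpowers_le.mpr haM) h3)

theorem gen (α : MulAut G) (hG : closure (Set.range (cf α)) = ⊤) (k : ℕ) :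
    closure (Set.range ((cf α)^[k])) = ⊤ := by
  induction hn : Nat.card G using Nat.strong_induction_on generalizing G with
  | h n ih =>
    subst hn
    by_contra hT
    set T := closure (Set.range ((cf α)^[k])) with hTd
    have hTα : ∀ x ∈ T, α x ∈ T := fun x hx =>
      (closure_le (T.comap α.toMonoidHom)).mpr (by
        rintro _ ⟨y, rfl⟩
        exact subset_closure ⟨α y, (cf_iterate_map α k y).symm⟩) hx
    haveI : Finite (Ext α) := Finite.of_equiv _ SemidirectProduct.equivProd.symm
    set a : Ext α := SemidirectProduct.inr ⟨α, mem_zpowers α⟩ with ha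
    have hinr : ∀ r : zpowers α, (SemidirectProduct.inr r : Ext α) ∈ zpowers a := by
      rintro ⟨_, i, rfl⟩
      exact ⟨i, (map_zpow SemidirectProduct.inr (⟨α, mem_zpowers α⟩ : zpowers α) i).symm⟩
    have hdec : ∀ (K : Subgroup (Ext α)), a ∈ K → ∀ γ : Ext α, γ.left ∈ K.comap SemidirectProduct.inl → γ ∈ K := by
      intro K haK γ h
      rw [← SemidirectProduct.inl_left_mul_inr_right γ]
      exact K.mul_mem h (zpowers_le.mpr haK (hinr _))
    have hconj : ∀ h : G, (SemidirectProduct.inl h : Ext α) * a * (SemidirectProduct.inl h)⁻¹ =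
        SemidirectProduct.inl (cf α h) * a := fun h => by
      refine SemidirectProduct.ext ?_ ?_ <;> simp [a, cf]
    have hA : normalClosure (zpowers a : Set (Ext α)) = ⊤ := by
      rw [eq_top_iff]
      set N := normalClosure (zpowers a : Set (Ext α))
      have haN : a ∈ N := subset_normalClosure (mem_zpowers a)
      have h1 : closure (Set.range (cf α)) ≤ N.comap SemidirectProduct.inl := (closure_le _).mpr (by
        rintro _ ⟨g, rfl⟩
        have h2 := N.mul_mem (normalClosure_normal.conj_mem _ haN (SemidirectProduct.inl g)) (N.inv_mem haN)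
        rwa [hconj, mul_inv_cancel_right] at h2)
      exact fun γ _ => hdec N haN γ (h1 (hG ▸ mem_top _))
    have haT : a ∈ hat α T hTα := T.one_mem
    have hTt : hat α T hTα ≠ ⊤ := fun e => hT (eq_top_iff.mpr fun x _ =>
      (show (SemidirectProduct.inl x : Ext α) ∈ hat α T hTα from e ▸ mem_top _ : x ∈ T))
    have hY : sSup {H | Mem (zpowers a) H} ≠ ⊤ := fun e => hTt (eq_top_iff.mpr (e.ge.trans (sSup_le fun H hH => by
      have haH : a ∈ H := hH.1 (mem_zpowers a)
      set H₀ := H.comap (SemidirectProduct.inl : G →* Ext α) with hH₀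
      have hleft : ∀ γ ∈ H, γ.left ∈ H₀ := fun γ hγ => by
        have h1 : (SemidirectProduct.inl γ.left : Ext α) = γ * (SemidirectProduct.inr γ.right)⁻¹ :=
          eq_mul_inv_of_mul_eq (SemidirectProduct.inl_left_mul_inr_right γ)
        show SemidirectProduct.inl γ.left ∈ H
        rw [h1]; exact H.mul_mem hγ (H.inv_mem (zpowers_le.mpr haH (hinr _)))
      have hH₀α : ∀ x ∈ H₀, α x ∈ H₀ := fun x hx => by
        have h1 : (SemidirectProduct.inl (α x) : Ext α) = a * SemidirectProduct.inl x * a⁻¹ := by
          rw [ha, ← map_inv]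
          exact SemidirectProduct.inl_aut (φ := (zpowers α).subtype) ⟨α, mem_zpowers α⟩ x
        show SemidirectProduct.inl (α x) ∈ H
        rw [h1]; exact H.mul_mem (H.mul_mem haH hx) (H.inv_mem haH)
      -- `[H₀, α] = H₀`
      set S := closure (cf α '' (H₀ : Set G)) with hS
      have hSα : ∀ x ∈ S, α x ∈ S := fun x hx => (closure_le (S.comap α.toMonoidHom)).mpr (by
        rintro _ ⟨y, hy, rfl⟩
        exact subset_closure ⟨α y, hH₀α y hy, (cf_map α y).symm⟩) hx
      set W := hat α S hSα with hW
      have haW : a ∈ W := S.one_mem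
      have hWn : ∀ h ∈ H₀, ∀ w ∈ W,
          (SemidirectProduct.inl h : Ext α) * w * (SemidirectProduct.inl h)⁻¹ ∈ W := by
        intro h hh w hw
        set V := W.comap (MulAut.conj (SemidirectProduct.inl h : Ext α)).toMonoidHom
        have haV : a ∈ V := by
          show (SemidirectProduct.inl h : Ext α) * a * (SemidirectProduct.inl h)⁻¹ ∈ W
          rw [hconj]
          refine W.mul_mem ?_ haW
          exact (subset_closure ⟨h, hh, rfl⟩ : cf α h ∈ S)
        have hSV : S ≤ V.comap SemidirectProduct.inl := (closure_le _).mpr (by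
          rintro _ ⟨u, hu, rfl⟩
          show (SemidirectProduct.inl h : Ext α) * SemidirectProduct.inl (cf α u) * (SemidirectProduct.inl h)⁻¹ ∈ W
          rw [← map_inv, ← map_mul, ← map_mul]
          show h * cf α u * h⁻¹ ∈ S
          rw [show h * cf α u * h⁻¹ = cf α (h * u) * (cf α h)⁻¹ by simp [cf, mul_assoc]]
          exact S.mul_mem (subset_closure ⟨h * u, H₀.mul_mem hh hu, rfl⟩) (S.inv_mem (subset_closure ⟨h, hh, rfl⟩)))
        exact hdec V haV w (hSV hw)
      have hn : (W.subgroupOf H).Normal := ⟨fun w hw g => by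
        show (g : Ext α) * w * (g : Ext α)⁻¹ ∈ W
        rw [show (g : Ext α) * (w : Ext α) * (g : Ext α)⁻¹ = SemidirectProduct.inl (g : Ext α).left *
            (SemidirectProduct.inr (g : Ext α).right * (w : Ext α) * (SemidirectProduct.inr (g : Ext α).right)⁻¹) *
            (SemidirectProduct.inl (g : Ext α).left)⁻¹ by
          conv_lhs => rw [← SemidirectProduct.inl_left_mul_inr_right (g : Ext α)]
          group]
        have h1 : (SemidirectProduct.inr (g : Ext α).right : Ext α) ∈ W := zpowers_le.mpr haW (hinr _)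
        have h2 := hWn _ (hleft g g.2) _ (W.mul_mem (W.mul_mem h1 hw) (W.inv_mem h1))
        exact h2⟩
      have hHW : H₀ ≤ S := fun h hh => by
        have h1 : normalClosure (((zpowers a).subgroupOf H : Subgroup H) : Set H) ≤ W.subgroupOf H :=
          normalClosure_le_normal fun z hz => zpowers_le.mpr haW hz
        rw [hH.2.2] at h1
        exact (h1 (mem_top (⟨SemidirectProduct.inl h, hh⟩ : H)) : h ∈ S)
      have hcard : Nat.card H₀ < Nat.card G := lt_of_le_of_ne (Subgroup.card_le_card_group H₀) fun e' =>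
        hH.2.1 (eq_top_iff.mpr fun γ _ => hdec H haH γ (show γ.left ∈ H₀ from
          (Subgroup.eq_top_of_card_eq H₀ e').symm ▸ mem_top _))
      let β : MulAut H₀ := MulEquiv.ofBijective
        (MonoidHom.mk' (fun x : H₀ => (⟨α x, hH₀α x x.2⟩ : H₀)) (fun x y => Subtype.ext (map_mul α (x : G) y)))
        (Finite.injective_iff_bijective.mp fun x y hxy => Subtype.ext (α.injective (congrArg Subtype.val hxy)))
      have hgen : closure (Set.range (cf β)) = ⊤ := by
        refine Subgroup.map_injective H₀.subtype_injective ?_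
        rw [MonoidHom.map_closure, ← MonoidHom.range_eq_map, range_subtype, ← Set.range_comp]
        refine le_antisymm ((closure_le _).mpr ?_) (hHW.trans (closure_mono ?_))
        · rintro _ ⟨x, rfl⟩; exact (cf β x).2
        · rintro _ ⟨x, hx, rfl⟩; exact ⟨⟨x, hx⟩, rfl⟩
      have h0 := ih _ hcard β hgen rfl
      intro γ hγ
      have h2 : closure (Set.range ((cf β)^[k])) ≤ T.subgroupOf H₀ := (closure_le _).mpr (by
        rintro _ ⟨x, rfl⟩
        refine (subset_closure ⟨(x : G), ?_⟩ : _ ∈ T)
        exact ((Function.Semiconj.iterate_right (f := ((↑) : H₀ → G)) (ga := cf β) (gb := cf α) (fun _ => rfl) k).eq x).symm)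
      rw [h0] at h2
      exact h2 (mem_top (⟨γ.left, hleft γ hγ⟩ : H₀)))))
    have hu := uniq (zpowers a) hA (fun e => hTt (eq_top_iff.mpr (e.ge.trans (zpowers_le.mpr haT)))) hY
    obtain ⟨M, hM, hTM⟩ := (eq_top_or_exists_le_coatom (hat α T hTα)).resolve_left hTt
    have hdown : ∀ j : ℕ, ∀ y : G, SemidirectProduct.inl ((cf α)^[j] y) ∈ M → SemidirectProduct.inl y ∈ M := by
      intro j
      induction j with
      | zero => exact fun y h => h
      | succ j ihj =>
        intro y h
        exact iterate_mem_step α hM hA hu (hTM haT) (ihj _ (by rwa [Function.iterate_succ_apply] at h))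
    refine hM.1 (eq_top_iff.mpr fun γ _ => hdec M (hTM haT) γ ?_)
    exact hdown k _ (hTM (subset_closure ⟨_, rfl⟩ : (cf α)^[k] γ.left ∈ T))

end CfsgLib.AutGen
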