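import Mathlib
import Cfsg.Prelude.Def_Transfer
import Cfsg.Prelude.Def_CaseTheorems
import Cfsg.Prelude.Def_EvenType
import Cfsg.Agent.Lib.Frobenius.UniqueSubgroup
import Cfsg.Agent.Lib.Elementary

/-!
The classification of extraspecial `2`-groups by order and number of square roots of the identity.
-/

set_option autoImplicit false

namespace CfsgLib.ExtraTwo

open scoped commutatorElement

universe u v

/-- A group whose centre is `{1, z}` and contains all squares. -/
structure Ext2 (E : Type u) [Group E] (z : E) : Prop where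
  ne : z ≠ 1
  center_iff : ∀ g : E, g ∈ Subgroup.center E ↔ g = 1 ∨ g = z
  sq : ∀ g : E, g * g = 1 ∨ g * g = z

variable {E : Type u} [Group E] {z : E}

theorem ofExtraspecial [Finite E] (hE : Cfsg.IsExtraspecial 2 E) : ∃ z : E, Ext2 E z := by
  obtain ⟨⟨hp, hΦ, -⟩, hc⟩ := hE
  have := Fact.mk Nat.prime_two
  obtain ⟨w, hw, huniq⟩ := (Nat.card_eq_two_iff' (1 : Subgroup.center E)).mp hc
  refine ⟨w, fun e => hw (Subtype.ext e), fun g => ⟨fun hg => ?_, ?_⟩, fun g => ?_⟩
  · by_cases h : g = 1
    · exact Or.inl h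
    · exact Or.inr (congrArg Subtype.val (huniq ⟨g, hg⟩ fun e => h (congrArg Subtype.val e)))
  · rintro (rfl | rfl)
    · exact one_mem _
    · exact w.2
  · have h1 : g * g ∈ Subgroup.center E := by
      rw [← hΦ, ← pow_two]; exact CfsgLib.pow_mem_frattini_pGroup hp g
    by_cases h : g * g = 1
    · exact Or.inl h
    · exact Or.inr (congrArg Subtype.val (huniq ⟨_, h1⟩ fun e => h (congrArg Subtype.val e)))

namespace Ext2

theorem z_comm (h : Ext2 E z) (g : E) : Commute g z :=
  Subgroup.mem_center_iff.mp ((h.center_iff z).mpr (Or.inr rfl)) g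

theorem zz (h : Ext2 E z) : z * z = 1 := by
  rcases (h.center_iff (z * z)).mp (mul_mem ((h.center_iff z).mpr (Or.inr rfl)) ((h.center_iff z).mpr (Or.inr rfl))) with e | e
  · exact e
  · exact absurd (mul_eq_right.mp e) h.ne

theorem sq_central (h : Ext2 E z) (g : E) : g * g ∈ Subgroup.center E := (h.center_iff _).mpr (h.sq g)

theorem comm_cases (h : Ext2 E z) (a b : E) : ⁅a, b⁆ = 1 ∨ ⁅a, b⁆ = z := by
  refine (h.center_iff _).mp ?_
  have e : ⁅a, b⁆ = (a * a) * ((a⁻¹ * b) * (a⁻¹ * b)) * (b * b)⁻¹ := by rw [commutatorElement_def]; group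
  rw [e]
  exact mul_mem (mul_mem (h.sq_central a) (h.sq_central _)) (inv_mem (h.sq_central b))

theorem pow_four (h : Ext2 E z) (g : E) : g ^ 4 = 1 := by
  rw [show (4 : ℕ) = 2 * 2 from rfl, pow_mul, pow_two, pow_two]
  rcases h.sq g with e | e <;> rw [e]
  · exact one_mul 1
  · exact h.zz

theorem isPGroup (h : Ext2 E z) : IsPGroup 2 E := fun g => ⟨2, h.pow_four g⟩

theorem card_center (h : Ext2 E z) : Nat.card (Subgroup.center E) = 2 := by
  refine (Nat.card_eq_two_iff' (1 : Subgroup.center E)).mpr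
    ⟨⟨z, (h.center_iff z).mpr (Or.inr rfl)⟩, fun e => h.ne (congrArg Subtype.val e), ?_⟩
  rintro ⟨g, hg⟩ hne
  exact Subtype.ext (((h.center_iff g).mp hg).resolve_left fun e => hne (Subtype.ext e))

/-- The commutation sign. -/
noncomputable def chi (_h : Ext2 E z) (g a : E) : ℤ :=
  haveI := Classical.propDecidable
  if g * a = a * g then 1 else -1

theorem mul_comm_iff (h : Ext2 E z) {g₁ g₂ a : E} :
    (g₁ * g₂) * a = a * (g₁ * g₂) ↔ (g₁ * a = a * g₁ ↔ g₂ * a = a * g₂) := by
  have key : ⁅g₁ * g₂, a⁆ = ⁅g₁, a⁆ * ⁅g₂, a⁆ := by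
    rw [show ⁅g₁ * g₂, a⁆ = g₁ * ⁅g₂, a⁆ * g₁⁻¹ * ⁅g₁, a⁆ by simp only [commutatorElement_def]; group]
    rcases h.comm_cases g₂ a with e | e <;> rw [e]
    · simp
    · rw [(h.z_comm g₁).eq, mul_inv_cancel_right]
      exact (h.z_comm _).eq.symm
  rw [← commutatorElement_eq_one_iff_mul_comm, ← commutatorElement_eq_one_iff_mul_comm,
    ← commutatorElement_eq_one_iff_mul_comm, key]
  rcases h.comm_cases g₁ a with e | e <;> rcases h.comm_cases g₂ a with e' | e' <;> rw [e, e'] <;>
    simp [h.ne, h.zz]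

theorem chi_mul (h : Ext2 E z) (g₁ g₂ a : E) : h.chi (g₁ * g₂) a = h.chi g₁ a * h.chi g₂ a := by
  unfold chi
  have := h.mul_comm_iff (g₁ := g₁) (g₂ := g₂) (a := a)
  by_cases h1 : g₁ * a = a * g₁ <;> by_cases h2 : g₂ * a = a * g₂ <;> simp [h1, h2, this]

theorem chi_symm (h : Ext2 E z) (g a : E) : h.chi g a = h.chi a g := by
  unfold chi
  by_cases h1 : g * a = a * g
  · rw [if_pos h1, if_pos h1.symm]
  · rw [if_neg h1, if_neg fun e => h1 e.symm]

/-- A subgroup containing `z` and its centralizer. -/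
theorem card_mul_card_centralizer [Finite E] (h : Ext2 E z) {A : Subgroup E} (hz : z ∈ A) :
    Nat.card A * Nat.card (Subgroup.centralizer (A : Set E)) = Nat.card E * 2 := by
  classical
  have : Fintype E := Fintype.ofFinite E
  set C := Subgroup.centralizer (A : Set E)
  have h1 : ∀ a : E, (∑ g : E, h.chi g a) = if a ∈ Subgroup.center E then (Fintype.card E : ℤ) else 0 := by
    intro a
    split_ifs with ha
    · rw [Finset.sum_eq_card_nsmul (b := (1 : ℤ)) fun g _ => show h.chi g a = 1 from if_pos (Subgroup.mem_center_iff.mp ha g)]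
      simp
    · obtain ⟨g₀, hg₀⟩ : ∃ g₀, g₀ * a ≠ a * g₀ := by
        by_contra hall
        push Not at hall
        exact ha (Subgroup.mem_center_iff.mpr hall)
      have h2 := Equiv.sum_comp (Equiv.mulLeft g₀) (fun g => h.chi g a)
      simp only [Equiv.coe_mulLeft, h.chi_mul, show h.chi g₀ a = -1 from if_neg hg₀, neg_one_mul,
        Finset.sum_neg_distrib] at h2
      linarith
  have h2 : ∀ g : E, (∑ a : A, h.chi g a) = if g ∈ C then (Fintype.card A : ℤ) else 0 := by
    intro g
    split_ifs with hg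
    · rw [Finset.sum_eq_card_nsmul (b := (1 : ℤ)) fun (a : A) _ => show h.chi g a = 1 from if_pos (Subgroup.mem_centralizer_iff.mp hg a a.2).symm]
      simp
    · obtain ⟨a₀, ha₀, hne⟩ : ∃ a₀ ∈ A, g * a₀ ≠ a₀ * g := by
        by_contra hall
        push Not at hall
        exact hg (Subgroup.mem_centralizer_iff.mpr fun a ha => (hall a ha).symm)
      have h3 := Equiv.sum_comp (Equiv.mulLeft (⟨a₀, ha₀⟩ : A)) (fun a : A => h.chi g a)
      simp only [Equiv.coe_mulLeft, Subgroup.coe_mul] at h3
      have h4 : ∀ a : A, h.chi g (a₀ * a) = - h.chi g a := fun a => by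
        rw [h.chi_symm, h.chi_mul, h.chi_symm a₀, h.chi_symm (a : E), show h.chi g a₀ = -1 from if_neg hne, neg_one_mul]
      simp only [h4, Finset.sum_neg_distrib] at h3
      linarith
  have h5 : ∑ g : E, ∑ a : A, h.chi g a = ∑ a : A, ∑ g : E, h.chi g a := Finset.sum_comm
  simp only [h1, h2, Finset.sum_ite, Finset.sum_const, smul_zero, add_zero, nsmul_eq_mul] at h5
  have hcC : (Finset.univ.filter (fun g : E => g ∈ C)).card = Nat.card C := by
    rw [Nat.card_eq_fintype_card, Fintype.card_subtype]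
  have hcZ : (Finset.univ.filter (fun a : A => (a : E) ∈ Subgroup.center E)).card = 2 := by
    rw [← h.card_center, ← Fintype.card_subtype, ← Nat.card_eq_fintype_card]
    refine Nat.card_congr ⟨fun a => ⟨_, a.2⟩, fun g => ⟨⟨g, ?_⟩, g.2⟩, fun a => rfl, fun g => rfl⟩
    rcases (h.center_iff g).mp g.2 with e | e <;> rw [e]
    exacts [one_mem _, hz]
  rw [hcC, hcZ, ← Nat.card_eq_fintype_card, ← Nat.card_eq_fintype_card] at h5
  have h6 : Nat.card C * Nat.card A = 2 * Nat.card E := by exact_mod_cast h5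
  rw [mul_comm, h6, mul_comm]

end Ext2

/-- The number of square roots of the identity. -/
noncomputable def rootCount (E : Type u) [Group E] : ℕ := Nat.card {x : E // x * x = 1}

theorem rootCount_eq (E : Type u) [Group E] : Nat.card {x : E // x ^ 2 = 1} = rootCount E :=
  Nat.card_congr (Equiv.subtypeEquivRight fun x => by rw [pow_two])

/-- The map from the dihedral group of order eight. -/
theorem exists_dihedral_hom (h : Ext2 E z) {x y : E} (hx : x * x = 1) (hy : y * y = 1) (hxy : x * y ≠ y * x) :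
    ∃ δ : DihedralGroup 4 →* E, δ (DihedralGroup.r 2) = z ∧ δ (DihedralGroup.sr 0) = x ∧ δ (DihedralGroup.sr 1) = y ∧
      ∀ g : E, g * x = x * g → g * y = y * g → ∀ d, Commute (δ d) g := by
  set a := x * y with ha
  have hxi : x⁻¹ = x := inv_eq_of_mul_eq_one_right hx
  have hyi : y⁻¹ = y := inv_eq_of_mul_eq_one_right hy
  have ha2 : a * a = z := by
    refine (h.sq a).resolve_left fun e => hxy ?_
    have : (x * y)⁻¹ = x * y := inv_eq_of_mul_eq_one_right e
    rw [mul_inv_rev, hxi, hyi] at this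
    exact this.symm
  have ha4 : a ^ 4 = 1 := h.pow_four a
  set e : ZMod 4 → E := fun i => a ^ i.val with he
  have hadd : ∀ i j, e (i + j) = e i * e j := fun i j => by
    simp only [he]
    rw [← pow_add, ZMod.val_add]
    conv_rhs => rw [← Nat.mod_add_div (i.val + j.val) 4, pow_add, pow_mul, ha4, one_pow, mul_one]
  have he0 : e 0 = 1 := by simp [he]
  have hneg : ∀ i, e (-i) = (e i)⁻¹ := fun i => by
    apply eq_inv_of_mul_eq_one_left
    rw [← hadd, neg_add_cancel, he0]
  have hsub : ∀ i j, e (j - i) = (e i)⁻¹ * e j := fun i j => by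
    rw [sub_eq_add_neg, add_comm, hadd, hneg]
  have hconj : x * a * x⁻¹ = a⁻¹ := by
    rw [ha, mul_inv_rev, hxi, hyi, show x * (x * y) * x = (x * x) * y * x by group, hx, one_mul]
  have hex : ∀ i, e i * x = x * (e i)⁻¹ := fun i => by
    have h1 : x * e i * x⁻¹ = (e i)⁻¹ := by
      simp only [he]
      rw [← MulAut.conj_apply, map_pow, MulAut.conj_apply, hconj, inv_pow]
    calc e i * x = (x * e i * x⁻¹)⁻¹ * x := by rw [h1, inv_inv]
      _ = x * (e i)⁻¹ := by group
  let f : DihedralGroup 4 → E := fun q => match q with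
    | .r i => e i
    | .sr i => x * e i
  have hmul : ∀ u v, f (u * v) = f u * f v := by
    rintro (i | i) (j | j)
    · rw [DihedralGroup.r_mul_r]; exact hadd i j
    · rw [DihedralGroup.r_mul_sr]
      show x * e (j - i) = e i * (x * e j)
      rw [← mul_assoc, hex, mul_assoc, hsub]
    · rw [DihedralGroup.sr_mul_r]
      show x * e (i + j) = x * e i * e j
      rw [mul_assoc, hadd]
    · rw [DihedralGroup.sr_mul_sr]
      show e (j - i) = x * e i * (x * e j)
      rw [show x * e i * (x * e j) = x * (e i * x) * e j by group, hex, hsub, ← mul_assoc x x, hx, one_mul]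
  refine ⟨MonoidHom.mk' f hmul, ?_, ?_, ?_, fun g hgx hgy d => ?_⟩
  · show a ^ (2 : ZMod 4).val = z
    rw [show (2 : ZMod 4).val = 2 from rfl, pow_two, ha2]
  · show x * e 0 = x
    rw [he0, mul_one]
  · show x * a ^ (1 : ZMod 4).val = y
    rw [show (1 : ZMod 4).val = 1 from rfl, pow_one, ha, ← mul_assoc, hx, one_mul]
  · have hga : Commute a g := (Commute.mul_left (Commute.symm hgx) (Commute.symm hgy))
    match d with
    | .r i => exact hga.pow_left _
    | .sr i => exact Commute.mul_left (Commute.symm hgx) (hga.pow_left _)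

/-- Splitting off a dihedral group of order eight. -/
theorem exists_split [Finite E] (h : Ext2 E z) {x : E} (hx : x * x = 1) (hxc : x ∉ Subgroup.center E) :
    ∃ (C : Subgroup E) (hz : z ∈ C) (ψ : DihedralGroup 4 × C →* E), Ext2 C ⟨z, hz⟩ ∧ Function.Surjective ψ ∧
      Nat.card E = 4 * Nat.card C ∧ (∀ q : DihedralGroup 4 × C, q ∈ ψ.ker ↔ q = 1 ∨ q = (DihedralGroup.r 2, ⟨z, hz⟩)) ∧
      (∀ c : C, Commute x (c : E)) ∧ x ∉ C := by
  classical
  obtain ⟨y₀, hy₀⟩ : ∃ y, x * y ≠ y * x := by
    by_contra hall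
    push Not at hall
    exact hxc (Subgroup.mem_center_iff.mpr fun g => (hall g).symm)
  obtain ⟨y, hy, hxy⟩ : ∃ y, y * y = 1 ∧ x * y ≠ y * x := by
    rcases h.sq y₀ with e | e
    · exact ⟨y₀, e, hy₀⟩
    refine ⟨x * y₀, ?_, fun hc => hy₀ ?_⟩
    · have hc : ⁅x, y₀⁆ = z := (h.comm_cases x y₀).resolve_left fun hc => hy₀ (commutatorElement_eq_one_iff_mul_comm.mp hc)
      calc x * y₀ * (x * y₀) = ⁅x, y₀⁆ * (y₀ * y₀) := by
            rw [commutatorElement_def, inv_eq_of_mul_eq_one_right hx]; group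
        _ = 1 := by rw [hc, e, h.zz]
    · exact mul_left_cancel (hc.trans (mul_assoc x y₀ x))
  obtain ⟨δ, hδz, hδx, hδy, hδc⟩ := exists_dihedral_hom h hx hy hxy
  let C : Subgroup E := Subgroup.centralizer ({x, y} : Set E)
  have hmemC : ∀ {g : E}, g ∈ C ↔ g * x = x * g ∧ g * y = y * g := fun {g} => by
    simp only [C, Subgroup.mem_centralizer_iff, Set.mem_insert_iff, Set.mem_singleton_iff, forall_eq_or_imp, forall_eq]
    exact ⟨fun hh => ⟨hh.1.symm, hh.2.symm⟩, fun hh => ⟨hh.1.symm, hh.2.symm⟩⟩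
  have hzC : z ∈ C := hmemC.mpr ⟨(h.z_comm x).eq.symm, (h.z_comm y).eq.symm⟩
  let ψ : DihedralGroup 4 × C →* E := MonoidHom.noncommCoprod δ C.subtype
    (fun d c => hδc c (hmemC.mp c.2).1 (hmemC.mp c.2).2 d)
  have hcover : ∀ g : E, ∃ d, (δ d)⁻¹ * g ∈ C := by
    intro g
    have hxn : ¬ (x * y = y * x) := hxy
    have hyn : ¬ (y * x = x * y) := fun e => hxy e.symm
    have m1 := h.mul_comm_iff (g₁ := x) (g₂ := g) (a := x)
    have m2 := h.mul_comm_iff (g₁ := x) (g₂ := g) (a := y)
    have m3 := h.mul_comm_iff (g₁ := y) (g₂ := g) (a := x)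
    have m4 := h.mul_comm_iff (g₁ := y) (g₂ := g) (a := y)
    have m5 := h.mul_comm_iff (g₁ := y) (g₂ := x * g) (a := x)
    have m6 := h.mul_comm_iff (g₁ := y) (g₂ := x * g) (a := y)
    have hxi : x⁻¹ = x := inv_eq_of_mul_eq_one_right hx
    have hyi : y⁻¹ = y := inv_eq_of_mul_eq_one_right hy
    by_cases h1 : g * x = x * g <;> by_cases h2 : g * y = y * g
    · exact ⟨1, by rw [map_one, inv_one, one_mul]; exact hmemC.mpr ⟨h1, h2⟩⟩
    · refine ⟨DihedralGroup.sr 0, ?_⟩
      rw [hδx, hxi]
      exact hmemC.mpr ⟨m1.mpr ⟨fun _ => h1, fun _ => rfl⟩, m2.mpr ⟨fun e => absurd e hxn, fun e => absurd e h2⟩⟩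
    · refine ⟨DihedralGroup.sr 1, ?_⟩
      rw [hδy, hyi]
      exact hmemC.mpr ⟨m3.mpr ⟨fun e => absurd e hyn, fun e => absurd e h1⟩, m4.mpr ⟨fun _ => h2, fun _ => rfl⟩⟩
    · refine ⟨DihedralGroup.sr 0 * DihedralGroup.sr 1, ?_⟩
      rw [map_mul, hδx, hδy, mul_inv_rev, hxi, hyi, mul_assoc]
      have a1 : ¬ x * g * x = x * (x * g) := fun e => h1 ((m1.mp e).mp rfl)
      have a2 : x * g * y = y * (x * g) := m2.mpr ⟨fun e => absurd e hxn, fun e => absurd e h2⟩
      exact hmemC.mpr ⟨m5.mpr ⟨fun e => absurd e hyn, fun e => absurd e a1⟩, m6.mpr ⟨fun _ => a2, fun _ => rfl⟩⟩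
  have hsurj : Function.Surjective ψ := fun g => by
    obtain ⟨d, hd⟩ := hcover g
    exact ⟨(d, ⟨_, hd⟩), by
      show δ d * ((δ d)⁻¹ * g) = g
      rw [mul_inv_cancel_left]⟩
  -- the centre of C
  have hExt : Ext2 C ⟨z, hzC⟩ := by
    refine ⟨fun e => h.ne (congrArg Subtype.val e), fun c => ⟨fun hc => ?_, ?_⟩, fun c => ?_⟩
    · have hcc : (c : E) ∈ Subgroup.center E := by
        rw [Subgroup.mem_center_iff]
        intro g
        obtain ⟨⟨d, c'⟩, rfl⟩ := hsurj g
        exact (((hδc c (hmemC.mp c.2).1 (hmemC.mp c.2).2 d).mul_left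
          (congrArg Subtype.val (Subgroup.mem_center_iff.mp hc c') : _))).eq
      rcases (h.center_iff _).mp hcc with e | e
      · exact Or.inl (Subtype.ext e)
      · exact Or.inr (Subtype.ext e)
    · rintro (rfl | rfl)
      · exact one_mem _
      · exact Subgroup.mem_center_iff.mpr fun c => Subtype.ext (h.z_comm c).eq
    · rcases h.sq (c : E) with e | e
      · exact Or.inl (Subtype.ext e)
      · exact Or.inr (Subtype.ext e)
  -- order
  have hxC : x ∉ C := fun hh => hxy (hmemC.mp hh).2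
  have hyC : y ∉ C := fun hh => hxy (hmemC.mp hh).1.symm
  have hxyC : x * y ∉ C := fun hh => by
    have h1 := ((h.mul_comm_iff (g₁ := x) (g₂ := y) (a := x)).mp (hmemC.mp hh).1).mp rfl
    exact hxy h1.symm
  have hle : (C.index : ℕ) = 4 := by
    let f : E → Bool × Bool := fun g => (decide (g * x = x * g), decide (g * y = y * g))
    refine (Nat.card_eq_of_bijective (Quotient.lift (s := QuotientGroup.leftRel C) f ?_) ⟨?_, ?_⟩).trans (by simp)
    · intro g g' hgg
      have hk := hmemC.mp (QuotientGroup.leftRel_apply.mp hgg)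
      have e : g' = g * (g⁻¹ * g') := by group
      have e1 := h.mul_comm_iff (g₁ := g) (g₂ := g⁻¹ * g') (a := x)
      have e2 := h.mul_comm_iff (g₁ := g) (g₂ := g⁻¹ * g') (a := y)
      rw [← e] at e1 e2
      simp only [f, Prod.mk.injEq, decide_eq_decide]
      exact ⟨⟨fun a => e1.mpr ⟨fun _ => hk.1, fun _ => a⟩, fun a => (e1.mp a).mpr hk.1⟩,
        ⟨fun a => e2.mpr ⟨fun _ => hk.2, fun _ => a⟩, fun a => (e2.mp a).mpr hk.2⟩⟩
    · rintro ⟨g⟩ ⟨g'⟩ hgg
      simp only [Quotient.lift_mk, f, Prod.mk.injEq, decide_eq_decide] at hgg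
      refine QuotientGroup.eq.mpr (hmemC.mpr ⟨?_, ?_⟩)
      · have e1 := h.mul_comm_iff (g₁ := g) (g₂ := g⁻¹ * g') (a := x)
        rw [mul_inv_cancel_left] at e1
        by_cases hh : g * x = x * g
        · exact (e1.mp (hgg.1.mp hh)).mp hh
        · by_contra hc
          exact hh (hgg.1.mpr (e1.mpr ⟨fun a => absurd a hh, fun a => absurd a hc⟩))
      · have e1 := h.mul_comm_iff (g₁ := g) (g₂ := g⁻¹ * g') (a := y)
        rw [mul_inv_cancel_left] at e1
        by_cases hh : g * y = y * g
        · exact (e1.mp (hgg.2.mp hh)).mp hh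
        · by_contra hc
          exact hh (hgg.2.mpr (e1.mpr ⟨fun a => absurd a hh, fun a => absurd a hc⟩))
    · have hyn : ¬ (y * x = x * y) := fun e => hxy e.symm
      have m1 := h.mul_comm_iff (g₁ := x) (g₂ := y) (a := x)
      have m2 := h.mul_comm_iff (g₁ := x) (g₂ := y) (a := y)
      rintro ⟨_ | _, _ | _⟩
      · exact ⟨Quotient.mk _ (x * y), by
          simp only [Quotient.lift_mk, f, Prod.mk.injEq, decide_eq_false_iff_not]
          exact ⟨fun a => hyn ((m1.mp a).mp rfl), fun a => hxy ((m2.mp a).mpr rfl)⟩⟩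
      · exact ⟨Quotient.mk _ y, by
          simp only [Quotient.lift_mk, f, Prod.mk.injEq, decide_eq_false_iff_not, decide_eq_true_iff]
          exact ⟨hyn, trivial⟩⟩
      · exact ⟨Quotient.mk _ x, by
          simp only [Quotient.lift_mk, f, Prod.mk.injEq, decide_eq_false_iff_not, decide_eq_true_iff]
          exact ⟨trivial, hxy⟩⟩
      · exact ⟨Quotient.mk _ 1, by simp [f]⟩
  have hcard : Nat.card E = 4 * Nat.card C := by rw [← C.card_mul_index, hle, mul_comm]
  have hker : ∀ q : DihedralGroup 4 × C, q ∈ ψ.ker ↔ q = 1 ∨ q = (DihedralGroup.r 2, ⟨z, hzC⟩) := by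
    have hmem : (DihedralGroup.r 2, (⟨z, hzC⟩ : C)) ∈ ψ.ker := by
      show δ (DihedralGroup.r 2) * z = 1
      rw [hδz, h.zz]
    have hk2 : Nat.card ψ.ker = 2 := by
      have h1 := ψ.ker.card_mul_index
      rw [Subgroup.index_ker, MonoidHom.range_eq_top.mpr hsurj, Subgroup.card_top, Nat.card_prod,
        show Nat.card (DihedralGroup 4) = 2 * 4 from DihedralGroup.nat_card, hcard] at h1
      exact Nat.eq_of_mul_eq_mul_right (Nat.mul_pos (by norm_num) (Nat.card_pos (α := C))) (h1.trans (by ring))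
    intro q
    refine ⟨fun hq => ?_, ?_⟩
    · obtain ⟨w, -, hu⟩ := (Nat.card_eq_two_iff' (1 : ψ.ker)).mp hk2
      by_cases hq1 : q = 1
      · exact Or.inl hq1
      · right
        have e1 := hu ⟨q, hq⟩ fun e => hq1 (congrArg Subtype.val e)
        have e2 := hu ⟨_, hmem⟩ fun e => by
          have := congrArg (fun t : ψ.ker => (((t : DihedralGroup 4 × C).2 : C) : E)) e
          exact h.ne this
        exact congrArg Subtype.val (e1.trans e2.symm)
    · rintro (rfl | rfl)
      exacts [one_mem _, hmem]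
  exact ⟨C, hzC, ψ, hExt, hsurj, hcard, hker, fun c => Commute.symm (hmemC.mp c.2).1, hxC⟩

/-- Counting through a splitting. -/
theorem rootCount_split [Finite E] (h : Ext2 E z) {C : Subgroup E} {hz : z ∈ C} (hC : Ext2 C ⟨z, hz⟩)
    (ψ : DihedralGroup 4 × C →* E) (hsurj : Function.Surjective ψ)
    (hker : ∀ q : DihedralGroup 4 × C, q ∈ ψ.ker ↔ q = 1 ∨ q = (DihedralGroup.r 2, ⟨z, hz⟩)) :
    rootCount E = 2 * rootCount C + Nat.card C := by
  classical
  have hk2 : Nat.card ψ.ker = 2 := by
    refine (Nat.card_eq_two_iff' (1 : ψ.ker)).mpr ⟨⟨_, (hker _).mpr (Or.inr rfl)⟩, fun e => ?_, ?_⟩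
    · have := congrArg (fun t : ψ.ker => (((t : DihedralGroup 4 × C).2 : C) : E)) e
      exact h.ne this
    · rintro ⟨q, hq⟩ hne
      exact Subtype.ext (((hker q).mp hq).resolve_left fun e => hne (Subtype.ext e))
  have hd : ∀ d : DihedralGroup 4, d * d = 1 ∨ d * d = DihedralGroup.r 2 := by decide
  have : Fintype {x : E // x * x = 1} := Fintype.ofFinite _
  have h1 : Nat.card {q : DihedralGroup 4 × C // ψ q * ψ q = 1} = 2 * rootCount E := by
    rw [Nat.card_congr (Equiv.sigmaFiberEquiv (fun q : {q : DihedralGroup 4 × C // ψ q * ψ q = 1} => (⟨ψ q, q.2⟩ : {x : E // x * x = 1}))).symm,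
      Nat.card_sigma]
    rw [Fintype.sum_congr _ (fun _ => 2) fun x => ?_]
    · simp [rootCount, Nat.card_eq_fintype_card, mul_comm]
    · rw [← hk2]
      refine Nat.card_congr (Equiv.trans ?_ (ψ.fiberEquivKerOfSurjective hsurj x.1))
      exact ⟨fun q => ⟨q.1.1, congrArg Subtype.val q.2⟩, fun q => ⟨⟨q.1, by
        have hq : ψ q.1 = x.1 := q.2
        rw [hq]; exact x.2⟩, Subtype.ext q.2⟩, fun q => rfl, fun q => rfl⟩
  have hiff : ∀ (d : DihedralGroup 4) (c : C), ψ (d, c) * ψ (d, c) = 1 ↔ (d * d = 1 ↔ c * c = 1) := by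
    intro d c
    rw [← map_mul, ← MonoidHom.mem_ker, hker]
    have hr : (DihedralGroup.r 2 : DihedralGroup 4) ≠ 1 := by decide
    have hzne : (⟨z, hz⟩ : C) ≠ 1 := fun e => h.ne (congrArg Subtype.val e)
    rcases hd d with e | e <;> rcases hC.sq c with e' | e' <;>
      simp [Prod.ext_iff, e, e', hr, hr.symm, hzne, hzne.symm]
  have h2 : Nat.card {q : DihedralGroup 4 × C // ψ q * ψ q = 1} =
      ∑ d : DihedralGroup 4, (if d * d = 1 then rootCount C else Nat.card C - rootCount C) := by
    rw [Nat.card_congr ((Equiv.subtypeProdEquivSigmaSubtype (fun d c => ψ (d, c) * ψ (d, c) = 1))), Nat.card_sigma]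
    refine Fintype.sum_congr _ _ fun d => ?_
    split_ifs with hdd
    · exact Nat.card_congr (Equiv.subtypeEquivRight fun c => by rw [hiff]; simp [hdd])
    · have : Fintype C := Fintype.ofFinite C
      rw [rootCount, Nat.card_eq_fintype_card, Nat.card_eq_fintype_card, Nat.card_eq_fintype_card,
        ← Fintype.card_subtype_compl]
      exact Fintype.card_congr (Equiv.subtypeEquivRight fun c => by rw [hiff]; simp [hdd])
  have h3 : ∀ A B : ℕ, ∑ d : DihedralGroup 4, (if d * d = 1 then A else B) = 6 * A + 2 * B := by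
    intro A B
    rw [Finset.sum_ite, Finset.sum_const, Finset.sum_const,
      show (Finset.univ.filter (fun d : DihedralGroup 4 => d * d = 1)).card = 6 by decide,
      show (Finset.univ.filter (fun d : DihedralGroup 4 => ¬ d * d = 1)).card = 2 by decide]
    simp
  have h4 : rootCount C ≤ Nat.card C := Nat.card_le_card_of_injective Subtype.val Subtype.val_injective
  rw [h1, h3] at h2
  omega

/-- Without a non-central square root of the identity the group has order two or is quaternion of order eight. -/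
theorem small_cases [Finite E] (h : Ext2 E z) (hno : ∀ x : E, x * x = 1 → x ∈ Subgroup.center E) :
    rootCount E = 2 ∧ ((Nat.card E = 2 ∧ IsCyclic E) ∨ (Nat.card E = 8 ∧ Nonempty (E ≃* QuaternionGroup 2))) := by
  have := Fact.mk Nat.prime_two
  have hroot : ∀ x : E, x * x = 1 ↔ x = 1 ∨ x = z := fun x =>
    ⟨fun hx => (h.center_iff x).mp (hno x hx), by rintro (rfl | rfl); exacts [mul_one 1, h.zz]⟩
  refine ⟨?_, ?_⟩
  · rw [rootCount, ← h.card_center]
    exact Nat.card_congr (Equiv.subtypeEquivRight fun x => by rw [hroot, h.center_iff])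
  have huniq : CfsgLib.Frob.UniqSub 2 E := by
    have key : ∀ H : Subgroup E, Nat.card H = 2 → H = Subgroup.zpowers z := by
      intro H hH
      refine Subgroup.eq_of_le_of_card_ge (fun g hg => ?_) ?_
      · have : g ^ 2 = 1 := by
          have h1 := orderOf_dvd_iff_pow_eq_one.mp ((Subgroup.orderOf_dvd_natCard H hg).trans hH.dvd)
          exact h1
        rcases (hroot g).mp (by rwa [← pow_two]) with e | e <;> rw [e]
        exacts [one_mem _, Subgroup.mem_zpowers z]
      · rw [hH, Nat.card_zpowers]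
        exact Nat.le_of_dvd two_pos (orderOf_dvd_of_pow_eq_one (by rw [pow_two, h.zz]))
    exact fun H K hH hK => (key H hH).trans (key K hK).symm
  rcases CfsgLib.Frob.cyclic_or_quaternion_two h.isPGroup huniq with hc | ⟨k, ⟨e⟩⟩
  · left
    refine ⟨?_, hc⟩
    have htop : Subgroup.center E = ⊤ := eq_top_iff.mpr fun g _ => Subgroup.mem_center_iff.mpr fun g' =>
      hc.isMulCommutative.is_comm.comm g' g
    rw [← h.card_center, htop, Subgroup.card_top]
  · rcases Nat.lt_or_ge k 1 with hk | hk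
    · left
      obtain rfl : k = 0 := by omega
      have hc : IsCyclic E := e.isCyclic.mpr QuaternionGroup.quaternionGroup_one_isCyclic
      have htop : Subgroup.center E = ⊤ := eq_top_iff.mpr fun g _ => Subgroup.mem_center_iff.mpr fun g' =>
        hc.isMulCommutative.is_comm.comm g' g
      exact ⟨by rw [← h.card_center, htop, Subgroup.card_top], hc⟩
    · have hd : 2 * 2 ^ k ∣ 2 ^ 2 := by
        rw [← QuaternionGroup.orderOf_a_one (n := 2 ^ k), ← MulEquiv.orderOf_eq e.symm]
        exact orderOf_dvd_of_pow_eq_one (h.pow_four _)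
      rw [← pow_succ', Nat.pow_dvd_pow_iff_le_right (by norm_num)] at hd
      obtain rfl : k = 1 := by omega
      have : NeZero (2 ^ 1) := ⟨by norm_num⟩
      refine Or.inr ⟨?_, ⟨e⟩⟩
      rw [Nat.card_congr e.toEquiv, Nat.card_eq_fintype_card, QuaternionGroup.card]
      norm_num

/-- The invariants. -/
theorem invariants : ∀ (N : ℕ) (E : Type u) [Group E] [Finite E] (z : E), Nat.card E = N → Ext2 E z →
    ∃ n : ℕ, N = 2 ^ (2 * n + 1) ∧
      ((rootCount E = 2 ^ (2 * n) + 2 ^ n ∧ Cfsg.PRankAtLeast 2 (n + 1) E) ∨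
        (1 ≤ n ∧ rootCount E + 2 ^ n = 2 ^ (2 * n) ∧ Cfsg.PRankAtLeast 2 n E)) := by
  intro N
  induction N using Nat.strong_induction_on with
  | _ N IH =>
  intro E _ _ z hN h
  subst hN
  by_cases hex : ∃ x : E, x * x = 1 ∧ x ∉ Subgroup.center E
  · obtain ⟨x, hx, hxc⟩ := hex
    obtain ⟨C, hz, ψ, hC, hsurj, hcard, hker, hxcomm, hxC⟩ := exists_split h hx hxc
    obtain ⟨n, hn, hcases⟩ := IH (Nat.card C) (by have := Nat.card_pos (α := C); omega) C ⟨z, hz⟩ rfl hC
    have hj := rootCount_split h hC ψ hsurj hker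
    have hext : ∀ k, Cfsg.PRankAtLeast 2 k C → Cfsg.PRankAtLeast 2 (k + 1) E := by
      rintro k ⟨A, hA, hA2, hAk⟩
      let A' := A.map C.subtype
      have hcomm : ∀ a ∈ A', ∀ b ∈ A', a * b = b * a := by
        rintro _ ⟨a, ha, rfl⟩ _ ⟨b, hb, rfl⟩
        exact congrArg Subtype.val (congrArg Subtype.val (hA.is_comm.comm ⟨a, ha⟩ ⟨b, hb⟩) : a * b = b * a)
      have hxA : ∀ a ∈ A', Commute x a := by rintro _ ⟨a, _, rfl⟩; exact hxcomm a
      have hsqA : ∀ a ∈ A', a * a = 1 := by
        rintro _ ⟨a, ha, rfl⟩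
        show ((a * a : C) : E) = ((1 : C) : E)
        rw [← pow_two, hA2 a ha]
      let B : Subgroup E :=
        { carrier := {g | g ∈ A' ∨ x * g ∈ A'}
          one_mem' := Or.inl (one_mem _)
          mul_mem' := by
            rintro g g' (hg | hg) (hg' | hg')
            · exact Or.inl (mul_mem hg hg')
            · refine Or.inr ?_
              rw [← mul_assoc, (hxA g hg).eq, mul_assoc]
              exact mul_mem hg hg'
            · exact Or.inr (by rw [← mul_assoc]; exact mul_mem hg hg')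
            · refine Or.inl ?_
              have e : g * g' = (x * g) * (x * g') := by
                have hc : Commute x g := by
                  have h1 : Commute x (x * (x * g)) := (Commute.refl x).mul_right (hxA _ hg)
                  rwa [← mul_assoc, hx, one_mul] at h1
                calc g * g' = x * (x * g) * g' := by rw [← mul_assoc x x, hx, one_mul]
                  _ = x * (g * x) * g' := by rw [hc.eq]
                  _ = (x * g) * (x * g') := by group
              rw [e]
              exact mul_mem hg hg'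
          inv_mem' := by
            rintro g (hg | hg)
            · exact Or.inl (inv_mem hg)
            · refine Or.inr ?_
              have hc : Commute x g := by
                have h1 : Commute x (x * (x * g)) := (Commute.refl x).mul_right (hxA _ hg)
                rwa [← mul_assoc, hx, one_mul] at h1
              have e : x * g⁻¹ = (x * g)⁻¹ := by
                rw [mul_inv_rev, inv_eq_of_mul_eq_one_right hx]
                exact hc.inv_right.eq
              rw [e]
              exact inv_mem hg }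
      have hBc : ∀ g ∈ B, Commute x g ∧ g * g = 1 := by
        rintro g (hg | hg)
        · exact ⟨hxA g hg, hsqA g hg⟩
        · have hc : Commute x g := by
            have h1 : Commute x (x * (x * g)) := (Commute.refl x).mul_right (hxA _ hg)
            rwa [← mul_assoc, hx, one_mul] at h1
          refine ⟨hc, ?_⟩
          have h2 := hsqA _ hg
          rwa [← pow_two, hc.mul_pow, pow_two, pow_two, hx, one_mul] at h2
      refine ⟨B, ⟨⟨fun a b => Subtype.ext ?_⟩⟩, fun g hg => by rw [pow_two]; exact (hBc g hg).2, ?_⟩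
      · have inv : ∀ c ∈ B, c⁻¹ = c := fun c hc => inv_eq_of_mul_eq_one_right (hBc c hc).2
        calc (a : E) * b = ((a : E) * b)⁻¹ := (inv _ (B.mul_mem a.2 b.2)).symm
          _ = (b : E) * a := by rw [mul_inv_rev, inv _ a.2, inv _ b.2]
      · have hinj : Nat.card (Bool × A) ≤ Nat.card B := by
          refine Nat.card_le_card_of_injective (fun q => if q.1 then (⟨x * ((q.2 : C) : E), Or.inr (by
            rw [← mul_assoc, hx, one_mul]; exact ⟨q.2, q.2.2, rfl⟩)⟩ : B) else ⟨((q.2 : C) : E), Or.inl ⟨q.2, q.2.2, rfl⟩⟩) ?_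
          rintro ⟨b, a⟩ ⟨b', a'⟩ heq
          have hmix : ∀ c c' : A, x * ((c : C) : E) ≠ ((c' : C) : E) := fun c c' e => hxC (by
            have h3 : x = ((c' : C) : E) * ((c : C) : E)⁻¹ := by rw [← e, mul_inv_cancel_right]
            rw [h3]
            exact C.mul_mem (c' : C).2 (C.inv_mem (c : C).2))
          cases b <;> cases b' <;> have h' := congrArg Subtype.val heq <;> simp at h'
          · rw [h']
          · exact absurd h'.symm (hmix _ _)
          · exact absurd h' (hmix _ _)
          · rw [h']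
        rw [Nat.card_prod, Nat.card_eq_fintype_card (α := Bool), Fintype.card_bool] at hinj
        rw [pow_succ']
        exact (Nat.mul_le_mul_left 2 hAk).trans hinj
    have e1 : 2 ^ (2 * (n + 1)) = 4 * 2 ^ (2 * n) := by rw [mul_add, pow_add]; ring
    refine ⟨n + 1, by rw [hcard, hn, show 2 * (n + 1) + 1 = (2 * n + 1) + 2 by ring, pow_add (2 : ℕ) (2 * n + 1) 2]; ring, ?_⟩
    rw [pow_succ] at hn
    rcases hcases with ⟨hjC, hr⟩ | ⟨-, hjC, hr⟩
    · exact Or.inl ⟨by rw [hj, hjC, hn, e1, pow_succ]; ring, hext _ hr⟩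
    · refine Or.inr ⟨by omega, ?_, hext _ hr⟩
      rw [hj, hn, e1, pow_succ]
      omega
  · push Not at hex
    obtain ⟨hj, hc⟩ := small_cases h hex
    have hz2 : Nat.card (Subgroup.zpowers z) = 2 := by
      rw [Nat.card_zpowers]; exact orderOf_eq_prime (by rw [pow_two, h.zz]) h.ne
    have hA : Cfsg.PRankAtLeast 2 1 E := ⟨Subgroup.zpowers z, inferInstance, fun a ha => by
      obtain ⟨i, rfl⟩ := Subgroup.mem_zpowers_iff.mp ha
      rw [← zpow_natCast, ← zpow_mul, mul_comm, zpow_mul, zpow_natCast, pow_two, h.zz, one_zpow], by rw [hz2]; norm_num⟩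
    rcases hc with ⟨hcard, -⟩ | ⟨hcard, -⟩
    · exact ⟨0, by rw [hcard]; norm_num, Or.inl ⟨by rw [hj]; norm_num, hA⟩⟩
    · exact ⟨1, by rw [hcard]; norm_num, Or.inr ⟨le_rfl, by rw [hj]; norm_num, hA⟩⟩

/-- A large elementary abelian subgroup determines the count. -/
theorem card_elementary_le [Finite E] (h : Ext2 E z) {n : ℕ} (hn : Nat.card E = 2 ^ (2 * n + 1)) {A : Subgroup E}
    (hA : IsMulCommutative A) (hA2 : ∀ a ∈ A, a ^ 2 = 1) :
    Nat.card A ≤ 2 ^ (n + 1) ∧ (Nat.card A = 2 ^ (n + 1) → rootCount E = 2 ^ (2 * n) + 2 ^ n) := by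
  classical
  have := Fact.mk Nat.prime_two
  have main : ∀ A : Subgroup E, z ∈ A → (∀ a ∈ A, ∀ b ∈ A, a * b = b * a) → (∀ a ∈ A, a * a = 1) →
      Nat.card A ≤ 2 ^ (n + 1) ∧ (Nat.card A = 2 ^ (n + 1) → rootCount E = 2 ^ (2 * n) + 2 ^ n) := by
    intro A hz hc hs
    have h1 := h.card_mul_card_centralizer hz
    rw [hn, ← pow_succ, show 2 * n + 1 + 1 = (n + 1) + (n + 1) by ring, pow_add] at h1
    have hle : A ≤ Subgroup.centralizer (A : Set E) := fun a ha => Subgroup.mem_centralizer_iff.mpr fun b hb => hc b hb a ha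
    refine ⟨?_, fun he => ?_⟩
    · exact Nat.mul_self_le_mul_self_iff.mp (h1 ▸ Nat.mul_le_mul_left _ (Subgroup.card_le_of_le hle))
    · rw [he] at h1
      have hCA : A = Subgroup.centralizer (A : Set E) := Subgroup.eq_of_le_of_card_ge hle
        (le_of_eq ((Nat.eq_of_mul_eq_mul_left (pow_pos two_pos _) h1).trans he.symm))
      have : Fintype E := Fintype.ofFinite E
      have e1 : Nat.card {q : A × E // q.2 * q.2 = 1} = Nat.card A * rootCount E := by
        rw [rootCount, ← Nat.card_prod]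
        exact Nat.card_congr ⟨fun q => (q.1.1, ⟨q.1.2, q.2⟩), fun q => ⟨(q.1, q.2.1), q.2.2⟩, fun q => rfl, fun q => rfl⟩
      have e2 : Nat.card {q : A × E // q.2 * q.2 = 1} = ∑ g : E, Nat.card {a : A // (g * a) * (g * a) = 1} := by
        rw [← Nat.card_sigma]
        exact Nat.card_congr ⟨fun q => ⟨q.1.2 * (q.1.1 : E)⁻¹, q.1.1, by rw [inv_mul_cancel_right]; exact q.2⟩,
          fun q => ⟨(q.2.1, q.1 * (q.2.1 : E)), q.2.2⟩, fun q => by
            refine Subtype.ext (Prod.ext rfl ?_); exact inv_mul_cancel_right _ _,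
          fun ⟨g, a, ha⟩ => by
            refine Sigma.subtype_ext ?_ rfl; exact mul_inv_cancel_right _ _⟩
      have e3 : ∀ g : E, 2 * Nat.card {a : A // (g * a) * (g * a) = 1} =
          if g ∈ A then 2 * Nat.card A else Nat.card A := by
        intro g
        split_ifs with hg
        · congr 1
          exact Nat.card_congr (Equiv.subtypeUnivEquiv fun a => hs _ (A.mul_mem hg a.2))
        · obtain ⟨a₀, ha₀, hne⟩ : ∃ a₀ ∈ A, g * a₀ ≠ a₀ * g := by
            by_contra hall
            push Not at hall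
            exact hg (hCA ▸ Subgroup.mem_centralizer_iff.mpr fun a ha => (hall a ha).symm)
          have hflip : ∀ a : A, (g * (a * a₀ : E)) * (g * (a * a₀ : E)) = z * ((g * a) * (g * a)) := by
            intro a
            have hga : ⁅a₀, g * a⁆ = z := by
              refine (h.comm_cases _ _).resolve_left fun e => hne ?_
              have e' := commutatorElement_eq_one_iff_mul_comm.mp e
              rw [mul_assoc g, hc _ a.2 _ ha₀, ← mul_assoc g, ← mul_assoc a₀] at e'
              exact (mul_right_cancel e').symm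
            calc (g * (a * a₀ : E)) * (g * (a * a₀ : E)) = (g * a) * ⁅a₀, g * a⁆ * (g * a) * (a₀ * a₀) := by
                  rw [commutatorElement_def]; group
              _ = z * ((g * a) * (g * a)) := by
                  rw [hga, hs a₀ ha₀, mul_one, (h.z_comm (g * a)).eq, mul_assoc]
          have hswap : Nat.card {a : A // (g * a) * (g * a) = 1} = Nat.card {a : A // ¬ (g * a) * (g * a) = 1} := by
            refine Nat.card_congr (Equiv.subtypeEquiv (Equiv.mulRight ⟨a₀, ha₀⟩) fun a => ?_)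
            show _ ↔ ¬ (g * ((a : E) * a₀)) * (g * ((a : E) * a₀)) = 1
            rw [hflip]
            rcases h.sq (g * a) with e | e <;> rw [e]
            · simp [h.ne]
            · simp [h.zz, h.ne]
          have hsum : Nat.card {a : A // (g * a) * (g * a) = 1} + Nat.card {a : A // ¬ (g * a) * (g * a) = 1} = Nat.card A := by
            rw [← Nat.card_sum]
            exact Nat.card_congr (Equiv.sumCompl _)
          omega
      have e4 : 2 * (Nat.card A * rootCount E) = Nat.card A * (Nat.card E + Nat.card A) := by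
        rw [← e1, e2, Finset.mul_sum, Fintype.sum_congr _ _ e3]
        have hfil : (Finset.univ.filter (fun g : E => g ∈ A)).card = Nat.card A := by
          rw [Nat.card_eq_fintype_card, Fintype.card_subtype]
        have hneg := Finset.card_filter_add_card_filter_not (s := (Finset.univ : Finset E)) (fun g => g ∈ A)
        rw [Finset.card_univ, ← Nat.card_eq_fintype_card] at hneg
        rw [Finset.sum_ite, Finset.sum_const, Finset.sum_const, smul_eq_mul, smul_eq_mul, ← hneg, hfil]
        ring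
      rw [mul_left_comm] at e4
      have e5 := Nat.eq_of_mul_eq_mul_left Nat.card_pos e4
      rw [hn, he, pow_succ, pow_succ] at e5
      omega
  -- adjoin z
  set A' := A ⊔ Subgroup.zpowers z with hA'
  have hzA' : z ∈ A' := Subgroup.mem_sup_right (Subgroup.mem_zpowers z)
  have hform : ∀ g ∈ A', ∃ a ∈ A, g = a ∨ g = a * z := by
    intro g hg
    have : (Subgroup.zpowers z).Normal := ⟨fun w hw g => by
      obtain ⟨i, rfl⟩ := Subgroup.mem_zpowers_iff.mp hw
      rw [((h.z_comm g).zpow_right i).eq, mul_inv_cancel_right]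
      exact Subgroup.zpow_mem _ (Subgroup.mem_zpowers z) i⟩
    obtain ⟨a, ha, w, hw, rfl⟩ := Subgroup.mem_sup_of_normal_right.mp hg
    refine ⟨a, ha, ?_⟩
    obtain ⟨i, rfl⟩ := mem_powers_iff_mem_zpowers.mpr hw
    show a * z ^ i = a ∨ a * z ^ i = a * z
    rw [← Nat.mod_add_div i 2, pow_add, pow_mul, pow_two, h.zz, one_pow, mul_one]
    rcases Nat.mod_two_eq_zero_or_one i with e | e <;> simp [e]
  have hcA : ∀ a ∈ A, ∀ b ∈ A, a * b = b * a := fun a ha b hb => congrArg Subtype.val (hA.is_comm.comm ⟨a, ha⟩ ⟨b, hb⟩)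
  have hs' : ∀ a ∈ A', a * a = 1 := by
    intro g hg
    obtain ⟨a, ha, rfl | rfl⟩ := hform g hg
    · rw [← pow_two, hA2 _ ha]
    · rw [← pow_two, (h.z_comm a).mul_pow, hA2 _ ha, pow_two, h.zz, one_mul]
  have hc' : ∀ a ∈ A', ∀ b ∈ A', a * b = b * a := by
    intro a ha b hb
    have inv : ∀ c ∈ A', c⁻¹ = c := fun c hc => inv_eq_of_mul_eq_one_right (hs' c hc)
    calc a * b = (a * b)⁻¹ := (inv _ (A'.mul_mem ha hb)).symm
      _ = b * a := by rw [mul_inv_rev, inv _ ha, inv _ hb]
  obtain ⟨hb, heq⟩ := main A' hzA' hc' hs'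
  have hle := Subgroup.card_le_of_le (le_sup_left : A ≤ A')
  exact ⟨hle.trans hb, fun he => heq (le_antisymm hb (he ▸ hle))⟩

/-- Classification by order and count. -/
theorem nonempty_equiv : ∀ (N : ℕ) (E : Type u) [Group E] [Finite E] (E' : Type v) [Group E'] [Finite E'] (z : E) (z' : E'),
    Nat.card E = N → Nat.card E' = N → Ext2 E z → Ext2 E' z' → rootCount E = rootCount E' → Nonempty (E ≃* E') := by
  intro N
  induction N using Nat.strong_induction_on with
  | _ N IH =>
  intro E _ _ E' _ _ z z' hN hN' h h' hj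
  have hdich : ∀ {F : Type u} [Group F] [Finite F] {w : F}, Ext2 F w →
      ((∃ x : F, x * x = 1 ∧ x ∉ Subgroup.center F) ↔ 2 < rootCount F) := by
    intro F _ _ w hw
    constructor
    · rintro ⟨x, hx, hxc⟩
      have h1 : Nat.card ({1, w, x} : Set F) ≤ rootCount F := by
        refine Nat.card_le_card_of_injective (fun g => ⟨g.1, ?_⟩) fun a b e => Subtype.ext (congrArg Subtype.val e :)
        rcases g.2 with e | e | e <;> rw [e]
        exacts [mul_one 1, hw.zz, hx]
      have h2 : Nat.card ({1, w, x} : Set F) = 3 := by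
        rw [Nat.card_coe_set_eq]
        have hx1 : x ≠ 1 := fun e => hxc (e ▸ one_mem _)
        have hxw : x ≠ w := fun e => hxc (e ▸ (hw.center_iff w).mpr (Or.inr rfl))
        rw [Set.ncard_insert_of_notMem (by simp [hw.ne.symm, hx1.symm]), Set.ncard_pair hxw.symm]
      omega
    · intro h2
      by_contra hc
      push Not at hc
      have := (small_cases hw hc).1
      omega
  have hdich' : ((∃ x : E', x * x = 1 ∧ x ∉ Subgroup.center E') ↔ 2 < rootCount E') := by
    constructor
    · rintro ⟨x, hx, hxc⟩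
      obtain ⟨C, hz, ψ, hC, hsurj, hcard, hker, -, -⟩ := exists_split h' hx hxc
      rw [rootCount_split h' hC ψ hsurj hker]
      have : 1 ≤ rootCount C := Nat.succ_le_of_lt (Nat.card_pos_iff.mpr ⟨⟨⟨1, mul_one 1⟩⟩, inferInstance⟩)
      have h2 : 1 < Nat.card C := Finite.one_lt_card_iff_nontrivial.mpr ⟨⟨_, 1, hC.ne⟩⟩
      omega
    · intro h2
      by_contra hc
      push Not at hc
      have := (small_cases h' hc).1
      omega
  by_cases hex : ∃ x : E, x * x = 1 ∧ x ∉ Subgroup.center E
  · obtain ⟨x', hx', hxc'⟩ := hdich'.mpr (hj ▸ (hdich h).mp hex)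
    obtain ⟨x, hx, hxc⟩ := hex
    obtain ⟨C, hz, ψ, hC, hsurj, hcard, hker, -, -⟩ := exists_split h hx hxc
    obtain ⟨C', hz', ψ', hC', hsurj', hcard', hker', -, -⟩ := exists_split h' hx' hxc'
    have hj1 := rootCount_split h hC ψ hsurj hker
    have hj2 := rootCount_split h' hC' ψ' hsurj' hker'
    obtain ⟨e⟩ := IH (Nat.card C) (by have := Nat.card_pos (α := C); omega) C C' ⟨z, hz⟩ ⟨z', hz'⟩ rfl (by omega) hC hC' (by omega)
    have hez : e ⟨z, hz⟩ = ⟨z', hz'⟩ := by
      refine ((hC'.center_iff _).mp ?_).resolve_left fun e1 => hC.ne (e.injective (e1.trans (map_one e).symm))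
      rw [Subgroup.mem_center_iff]
      intro g
      obtain ⟨g, rfl⟩ := e.surjective g
      rw [← map_mul, ← map_mul, Subgroup.mem_center_iff.mp ((hC.center_iff _).mpr (Or.inr rfl)) g]
    let Ψ : DihedralGroup 4 × C →* E' := ψ'.comp ((MonoidHom.id _).prodMap e.toMonoidHom)
    have hΨs : Function.Surjective Ψ := hsurj'.comp (Function.surjective_id.prodMap e.surjective)
    have hkeq : ψ.ker = Ψ.ker := by
      ext q
      rw [hker, MonoidHom.mem_ker]
      show _ ↔ ψ' (q.1, e q.2) = 1
      rw [← MonoidHom.mem_ker, hker']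
      simp only [Prod.ext_iff, Prod.fst_one, Prod.snd_one]
      rw [← hez, e.injective.eq_iff, ← map_one e, e.injective.eq_iff]
    exact ⟨(QuotientGroup.quotientKerEquivOfSurjective ψ hsurj).symm.trans
      ((QuotientGroup.quotientMulEquivOfEq hkeq).trans (QuotientGroup.quotientKerEquivOfSurjective Ψ hΨs))⟩
  · have hex' : ¬ ∃ x : E', x * x = 1 ∧ x ∉ Subgroup.center E' := fun hh => hex ((hdich h).mpr (hj ▸ hdich'.mp hh))
    push Not at hex hex'
    obtain ⟨-, hc⟩ := small_cases h hex
    obtain ⟨-, hc'⟩ := small_cases h' hex'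
    rcases hc with ⟨a, b⟩ | ⟨a, ⟨e⟩⟩ <;> rcases hc' with ⟨a', b'⟩ | ⟨a', ⟨e'⟩⟩
    · exact ⟨mulEquivOfCyclicCardEq (a.trans a'.symm)⟩
    · omega
    · omega
    · exact ⟨e.trans e'.symm⟩

end CfsgLib.ExtraTwo
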