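import Mathlib
import Cfsg.Agent.Lib.ExtraspecialTwo

/-!
Extraspecial `2`-groups with the same order and number of square roots of the identity are isomorphic.
-/

set_option autoImplicit false
set_option linter.unusedSectionVars false

namespace CfsgLib.ExtraTwo

universe u v w

theorem iso_of_invariants : ∀ (N : ℕ) (E : Type u) [Group E] [Finite E] (z : E) (E' : Type v) [Group E'] [Finite E']
    (z' : E'), Nat.card E = N → Nat.card E' = N → Ext2 E z → Ext2 E' z' → rootCount E = rootCount E' →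
    ∃ e : E ≃* E', e z = z' := by
  intro N
  induction N using Nat.strong_induction_on with
  | _ N IH =>
  intro E _ _ z E' _ _ z' hN hN' h h' hr
  have fix : ∀ e : E ≃* E', e z = z' := fun e => by
    have hc : e z ∈ Subgroup.center E' := by
      rw [Subgroup.mem_center_iff]
      intro g
      obtain ⟨g, rfl⟩ := e.surjective g
      rw [← map_mul, ← map_mul, (h.z_comm g).eq]
    rcases (h'.center_iff _).mp hc with h1 | h1
    · exact absurd (e.injective (h1.trans (map_one e).symm)) h.ne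
    · exact h1
  suffices Nonempty (E ≃* E') from this.elim fun e => ⟨e, fix e⟩
  by_cases hex : ∃ x : E, x * x = 1 ∧ x ∉ Subgroup.center E
  · obtain ⟨x, hx, hxc⟩ := hex
    obtain ⟨C, hz, ψ, hC, hsurj, hcard, hker, -, -⟩ := exists_split h hx hxc
    have hj := rootCount_split h hC ψ hsurj hker
    by_cases hex' : ∃ x : E', x * x = 1 ∧ x ∉ Subgroup.center E'
    · obtain ⟨x', hx', hxc'⟩ := hex'
      obtain ⟨C', hz', ψ', hC', hsurj', hcard', hker', -, -⟩ := exists_split h' hx' hxc'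
      have hj' := rootCount_split h' hC' ψ' hsurj' hker'
      obtain ⟨φ, hφ⟩ := IH (Nat.card C) (by have := Nat.card_pos (α := C); omega) C ⟨z, hz⟩ C' ⟨z', hz'⟩ rfl
        (by omega) hC hC' (by omega)
      set θ : DihedralGroup 4 × C →* E' := ψ'.comp ((MulEquiv.refl (DihedralGroup 4)).prodCongr φ).toMonoidHom with hθ
      have hle : ψ.ker ≤ θ.ker := by
        intro q hq
        show ((MulEquiv.refl (DihedralGroup 4)).prodCongr φ) q ∈ ψ'.ker
        rcases (hker q).mp hq with rfl | rfl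
        · rw [map_one]; exact one_mem _
        · exact (hker' _).mpr (Or.inr (Prod.ext rfl hφ))
      set F : E →* E' := ψ.liftOfSurjective hsurj ⟨θ, hle⟩ with hF
      have hFs : Function.Surjective F := by
        intro y
        obtain ⟨q, rfl⟩ := hsurj' y
        obtain ⟨q, rfl⟩ := ((MulEquiv.refl (DihedralGroup 4)).prodCongr φ).surjective q
        exact ⟨ψ q, MonoidHom.liftOfRightInverse_comp_apply _ _ _ ⟨θ, hle⟩ q⟩
      haveI := Fintype.ofFinite E
      haveI := Fintype.ofFinite E'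
      have hb : Function.Bijective F := (Fintype.bijective_iff_surjective_and_card F).2
        ⟨hFs, by rw [← Nat.card_eq_fintype_card, ← Nat.card_eq_fintype_card, hN, hN']⟩
      exact ⟨MulEquiv.ofBijective F hb⟩
    · push Not at hex'
      exfalso
      have := (small_cases h' hex').1
      have hpos : 0 < rootCount C := by
        haveI : Nonempty {x : C // x * x = 1} := ⟨⟨1, one_mul 1⟩⟩
        exact Nat.card_pos
      have h2 : 1 < Nat.card C := by
        haveI : Nontrivial C := ⟨⟨1, ⟨z, hz⟩, fun e => h.ne (congrArg Subtype.val e).symm⟩⟩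
        exact Finite.one_lt_card
      omega
  · push Not at hex
    obtain ⟨hr2, hc⟩ := small_cases h hex
    by_cases hex' : ∃ x : E', x * x = 1 ∧ x ∉ Subgroup.center E'
    · obtain ⟨x', hx', hxc'⟩ := hex'
      obtain ⟨C', hz', ψ', hC', hsurj', hcard', hker', -, -⟩ := exists_split h' hx' hxc'
      have hj' := rootCount_split h' hC' ψ' hsurj' hker'
      exfalso
      have hpos : 0 < rootCount C' := by
        haveI : Nonempty {x : C' // x * x = 1} := ⟨⟨1, one_mul 1⟩⟩
        exact Nat.card_pos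
      have h2 : 1 < Nat.card C' := by
        haveI : Nontrivial C' := ⟨⟨1, ⟨z', hz'⟩, fun e => h'.ne (congrArg Subtype.val e).symm⟩⟩
        exact Finite.one_lt_card
      omega
    · push Not at hex'
      obtain ⟨-, hc'⟩ := small_cases h' hex'
      rcases hc with ⟨h2, hcy⟩ | ⟨h8, ⟨e⟩⟩
      · rcases hc' with ⟨h2', hcy'⟩ | ⟨h8', -⟩
        · exact ⟨mulEquivOfCyclicCardEq (by omega)⟩
        · omega
      · rcases hc' with ⟨h2', -⟩ | ⟨h8', ⟨e'⟩⟩
        · omega
        · exact ⟨e.trans e'.symm⟩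

theorem two_classes {E₁ : Type u} {E₂ : Type v} {E₃ : Type w} [Group E₁] [Group E₂] [Group E₃] [Finite E₁]
    [Finite E₂] [Finite E₃] (h₁ : Cfsg.IsExtraspecial 2 E₁) (h₂ : Cfsg.IsExtraspecial 2 E₂)
    (h₃ : Cfsg.IsExtraspecial 2 E₃) (h12 : Nat.card E₁ = Nat.card E₂) (h23 : Nat.card E₂ = Nat.card E₃) :
    Nonempty (E₁ ≃* E₂) ∨ Nonempty (E₂ ≃* E₃) ∨ Nonempty (E₁ ≃* E₃) := by
  obtain ⟨z₁, g₁⟩ := ofExtraspecial h₁
  obtain ⟨z₂, g₂⟩ := ofExtraspecial h₂
  obtain ⟨z₃, g₃⟩ := ofExtraspecial h₃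
  obtain ⟨n, hn, c₁⟩ := invariants _ E₁ z₁ rfl g₁
  obtain ⟨m, hm, c₂⟩ := invariants _ E₂ z₂ rfl g₂
  obtain ⟨k, hk, c₃⟩ := invariants _ E₃ z₃ rfl g₃
  have hnm : 2 * n + 1 = 2 * m + 1 := Nat.pow_right_injective (le_refl 2) (hn.symm.trans (h12.trans hm))
  have hmk : 2 * m + 1 = 2 * k + 1 := Nat.pow_right_injective (le_refl 2) (hm.symm.trans (h23.trans hk))
  obtain rfl : n = m := by omega
  obtain rfl : n = k := by omega
  have key : rootCount E₁ = rootCount E₂ ∨ rootCount E₂ = rootCount E₃ ∨ rootCount E₁ = rootCount E₃ := by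
    rcases c₁ with ⟨a, -⟩ | ⟨-, a, -⟩ <;> rcases c₂ with ⟨b, -⟩ | ⟨-, b, -⟩ <;> rcases c₃ with ⟨c, -⟩ | ⟨-, c, -⟩ <;> omega
  rcases key with h | h | h
  · exact Or.inl ((iso_of_invariants _ E₁ z₁ E₂ z₂ rfl h12.symm g₁ g₂ h).elim fun e _ => ⟨e⟩)
  · exact Or.inr (Or.inl ((iso_of_invariants _ E₂ z₂ E₃ z₃ rfl h23.symm g₂ g₃ h).elim fun e _ => ⟨e⟩))
  · exact Or.inr (Or.inr ((iso_of_invariants _ E₁ z₁ E₃ z₃ rfl (h12.trans h23).symm g₁ g₃ h).elim fun e _ => ⟨e⟩))

end CfsgLib.ExtraTwo
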