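import Mathlib
import Cfsg.Agent.Lib.PLocal.Offender.Application
import Cfsg.Agent.Lib.Blocks.FongReduction
import Cfsg.Agent.Lib.Blocks.FongSwanAux
import Cfsg.Agent.Lib.Coprime
import Cfsg.Agent.Lib.PLocal.SolvableSeparable

/-!
A prime dividing the order of some `p`-automizer divides the order of the automizer of a normal subgroup of a Sylow
`p`-subgroup, when all `p`-automizers are `p`-solvable and the two primes are not 2 and 3.
-/

set_option autoImplicit false
set_option linter.unusedSectionVars false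

namespace CfsgLib.AutomizerPrime

open Subgroup
open scoped commutatorElement

universe u

/-- `K ≤ Q` is invariant under the automorphisms of `Q`. -/
def Chr {G : Type*} [Group G] (Q K : Subgroup G) : Prop :=
  K ≤ Q ∧ ∀ φ : Q ≃* Q, ∀ a : Q, (a : G) ∈ K → (φ a : G) ∈ K

/-- Some `q`-element normalizes `K` without centralizing it. -/
def Act {G : Type*} [Group G] (q : ℕ) (K : Subgroup G) : Prop :=
  ∃ x : G, (∃ k : ℕ, x ^ q ^ k = 1) ∧ x ∈ normalizer (K : Set G) ∧ x ∉ centralizer (K : Set G)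

variable {G : Type u} [Group G] [Finite G] {p q : ℕ}

theorem mem_normalizer_of_conj_mem {K : Subgroup G} {g : G} (h : ∀ a ∈ K, g * a * g⁻¹ ∈ K) :
    g ∈ normalizer (K : Set G) := by
  have hle : K.map (MulAut.conj g).toMonoidHom ≤ K := by rintro _ ⟨a, ha, rfl⟩; exact h a ha
  have heq := eq_of_le_of_card_ge hle (card_map_of_injective (MulAut.conj g).injective).ge
  refine mem_normalizer_iff.mpr fun a => ⟨h a, fun ha => ?_⟩
  obtain ⟨b, hb, hba⟩ := heq.ge ha
  obtain rfl : b = a := (MulAut.conj g).injective hba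
  exact hb

theorem normalizer_le_of_chr {Q K : Subgroup G} (h : Chr Q K) : normalizer (Q : Set G) ≤ normalizer (K : Set G) := by
  intro g hg
  refine mem_normalizer_of_conj_mem fun a ha => ?_
  let φ : Q ≃* Q :=
    { toFun := fun b => ⟨g * b * g⁻¹, (mem_normalizer_iff.mp hg b).mp b.2⟩
      invFun := fun b => ⟨g⁻¹ * b * g, (mem_normalizer_iff.mp hg _).mpr (by
        rw [show g * (g⁻¹ * b * g) * g⁻¹ = (b : G) by group]; exact b.2)⟩
      left_inv := fun b => Subtype.ext (by group)
      right_inv := fun b => Subtype.ext (by group)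
      map_mul' := fun b c => Subtype.ext (by simp only [coe_mul]; group) }
  exact h.2 φ ⟨a, h.1 ha⟩ ha

theorem Act.map {H : Type*} [Group H] (f : G →* H) (hf : Function.Injective f) {K : Subgroup G} (h : Act q K) :
    Act q (K.map f) := by
  obtain ⟨x, ⟨k, hk⟩, hN, hC⟩ := h
  refine ⟨f x, ⟨k, by rw [← map_pow, hk, map_one]⟩, le_normalizer_map f ⟨x, hN, rfl⟩, fun hc => hC ?_⟩
  rw [mem_centralizer_iff] at hc ⊢
  intro a ha
  exact hf (by rw [map_mul, map_mul]; exact hc (f a) ⟨a, ha, rfl⟩)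

theorem Chr.map {H : Type*} [Group H] (f : G →* H) (hf : Function.Injective f) {Q K : Subgroup G} (h : Chr Q K) :
    Chr (Q.map f) (K.map f) := by
  refine ⟨map_mono h.1, fun φ b hb => ?_⟩
  set e := Q.equivMapOfInjective f hf with he
  obtain ⟨a, rfl⟩ := e.surjective b
  obtain ⟨c, hc, hca⟩ := hb
  rw [coe_equivMapOfInjective_apply] at hca
  have hac : (a : G) ∈ K := (hf hca) ▸ hc
  refine ⟨_, h.2 (e.trans (φ.trans e.symm)) a hac, ?_⟩
  rw [← coe_equivMapOfInjective_apply Q f hf]
  exact congrArg Subtype.val (e.apply_symm_apply (φ (e a)))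

theorem chr_pull {H : Type*} [Group H] (f : G →* H) {Q : Subgroup G} {Kb : Subgroup H} (h : Chr (Q.map f) Kb)
    (hker : ∀ φ : Q ≃* Q, ∀ a : Q, f a = 1 → f (φ a) = 1) : Chr Q (Q ⊓ Kb.comap f) := by
  refine ⟨inf_le_left, fun φ a ha => ⟨(φ a).2, ?_⟩⟩
  let fQ : Q →* Q.map f := f.subgroupMap Q
  have hs : Function.Surjective fQ := f.subgroupMap_surjective Q
  let ψ : Q.map f →* Q.map f := fQ.liftOfSurjective hs ⟨fQ.comp φ.toMonoidHom, fun b hb => by
    rw [MonoidHom.mem_ker] at hb ⊢
    exact Subtype.ext (hker φ b (congrArg Subtype.val hb))⟩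
  have hψ : ∀ b, ψ (fQ b) = fQ (φ b) := fun b => MonoidHom.liftOfRightInverse_comp_apply _ _ _ _ b
  have hψs : Function.Surjective ψ := fun y => by
    obtain ⟨b, rfl⟩ := hs y
    exact ⟨fQ (φ.symm b), by rw [hψ, φ.apply_symm_apply]⟩
  haveI : Finite (Q.map f) := Finite.of_surjective _ hs
  let ψe : Q.map f ≃* Q.map f := MulEquiv.ofBijective ψ ⟨Finite.injective_iff_surjective.mpr hψs, hψs⟩
  have := h.2 ψe (fQ a) ha.2
  rw [show ψe (fQ a) = fQ (φ a) from hψ a] at this
  exact this

theorem qpart {H : Type*} [Group H] (f : G →* H) [hq : Fact q.Prime] {g : G} (hg : ∃ k : ℕ, (f g) ^ q ^ k = 1) :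
    ∃ m : ℕ, (∃ j : ℕ, (g ^ m) ^ q ^ j = 1) ∧ ∃ i : ℕ, f g = f (g ^ m) ^ i := by
  obtain ⟨k, hk⟩ := hg
  have hn : orderOf g ≠ 0 := (orderOf_pos g).ne'
  refine ⟨orderOf g / q ^ (orderOf g).factorization q, ⟨(orderOf g).factorization q, ?_⟩, ?_⟩
  · rw [← pow_mul, Nat.div_mul_cancel (Nat.ordProj_dvd _ _), pow_orderOf_eq_one]
  · have hcop : (orderOf g / q ^ (orderOf g).factorization q).Coprime (orderOf (f g)) :=
      Nat.Coprime.coprime_dvd_right (orderOf_dvd_of_pow_eq_one hk)
        ((Nat.coprime_ordCompl hq.out hn).symm.pow_right k)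
    obtain ⟨i, hi⟩ := exists_pow_eq_self_of_coprime hcop
    exact ⟨i, by rw [map_pow, hi]⟩

theorem act_of_index [hq : Fact q.Prime] {K : Subgroup G}
    (h : q ∣ ((centralizer (K : Set G)).subgroupOf (normalizer (K : Set G))).index) : Act q K := by
  set N := normalizer (K : Set G)
  set C := (centralizer (K : Set G)).subgroupOf N with hC
  haveI : C.Normal := by rw [hC, ← normalizerMonoidHom_ker]; infer_instance
  obtain ⟨y, hy⟩ := exists_prime_orderOf_dvd_card' (G := N ⧸ C) q h
  obtain ⟨g, rfl⟩ := QuotientGroup.mk'_surjective C y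
  obtain ⟨m, ⟨j, hj⟩, i, hi⟩ := qpart (QuotientGroup.mk' C) (g := g) (q := q)
    ⟨1, by rw [pow_one, ← hy, pow_orderOf_eq_one]⟩
  refine ⟨((g ^ m : N) : G), ⟨j, by rw [← SubmonoidClass.coe_pow, hj]; rfl⟩, (g ^ m).2, fun hc => ?_⟩
  have h1 : QuotientGroup.mk' C (g ^ m) = 1 := (QuotientGroup.eq_one_iff _).mpr hc
  rw [hi, h1, one_pow, orderOf_one] at hy
  exact hq.out.one_lt.ne hy

theorem dvd_index_of_act [hq : Fact q.Prime] {K : Subgroup G} (h : Act q K) :
    q ∣ ((centralizer (K : Set G)).subgroupOf (normalizer (K : Set G))).index := by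
  obtain ⟨x, ⟨k, hk⟩, hN, hC⟩ := h
  set C := (centralizer (K : Set G)).subgroupOf (normalizer (K : Set G)) with hCdef
  haveI : C.Normal := by rw [hCdef, ← normalizerMonoidHom_ker]; infer_instance
  set y := QuotientGroup.mk' C ⟨x, hN⟩ with hy
  have h1 : orderOf y ∣ q ^ k := orderOf_dvd_of_pow_eq_one (by
    rw [hy, ← map_pow, show (⟨x, hN⟩ : normalizer (K : Set G)) ^ q ^ k = 1 from Subtype.ext hk, map_one])
  obtain ⟨i, -, hi⟩ := (Nat.dvd_prime_pow hq.out).mp h1
  have hi0 : i ≠ 0 := by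
    rintro rfl
    rw [pow_zero, orderOf_eq_one_iff, hy, QuotientGroup.mk'_apply, QuotientGroup.eq_one_iff] at hi
    exact hC hi
  exact (hi ▸ dvd_pow_self q hi0).trans (_root_.orderOf_dvd_natCard y)

/-- Lifting the witness along an epimorphism. -/
theorem act_lift {H : Type*} [Group H] [Fact p.Prime] [Fact q.Prime] (f : G →* H) (hf : Function.Surjective f)
    {K : Subgroup G} (hK : IsPGroup p K) (hsyl : ¬ p ∣ K.relIndex ((K.map f).comap f)) (h : Act q (K.map f)) :
    Act q K := by
  obtain ⟨xb, ⟨k, hk⟩, hN, hC⟩ := h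
  obtain ⟨x, rfl⟩ := hf xb
  set S := (K.map f).comap f with hS
  have hKS : K ≤ S := le_comap_map f K
  have hxS : ∀ a ∈ K, x * a * x⁻¹ ∈ S := fun a ha => by
    show f (x * a * x⁻¹) ∈ K.map f
    rw [map_mul, map_mul, map_inv]
    exact (mem_normalizer_iff.mp hN (f a)).mp ⟨a, ha, rfl⟩
  let P : Sylow p S := (hK.comap_subtype (K := S)).toSylow hsyl
  set K' := K.map (MulAut.conj x).toMonoidHom with hK'
  have hK'S : K' ≤ S := by rintro _ ⟨a, ha, rfl⟩; exact hxS a ha
  obtain ⟨P', hP'⟩ := ((hK.map _).comap_subtype (K := S) : IsPGroup p (K'.subgroupOf S)).exists_le_sylow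
  obtain ⟨s, hs⟩ := MulAction.exists_smul_eq S P' P
  have hsK : ∀ a ∈ K, (s : G) * (x * a * x⁻¹) * (s : G)⁻¹ ∈ K := fun a ha => by
    have h1 : (⟨x * a * x⁻¹, hxS a ha⟩ : S) ∈ P' := hP' (show x * a * x⁻¹ ∈ K' from ⟨a, ha, rfl⟩)
    have h2 : s * ⟨x * a * x⁻¹, hxS a ha⟩ * s⁻¹ ∈ ((s • P' : Sylow p S) : Subgroup S) := by
      rw [Sylow.coe_subgroup_smul]
      exact ⟨_, h1, rfl⟩
    rw [hs] at h2
    exact h2
  obtain ⟨c, hc, hcs⟩ : f s ∈ K.map f := s.2
  set n := c⁻¹ * (s : G) * x with hn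
  have hnN : n ∈ normalizer (K : Set G) := mem_normalizer_of_conj_mem fun a ha => by
    rw [show n * a * n⁻¹ = c⁻¹ * ((s : G) * (x * a * x⁻¹) * (s : G)⁻¹) * c by rw [hn]; group]
    exact K.mul_mem (K.mul_mem (K.inv_mem hc) (hsK a ha)) hc
  have hfn : f n = f x := by rw [hn, map_mul, map_mul, map_inv, hcs, inv_mul_cancel, one_mul]
  obtain ⟨m, hm, i, hi⟩ := qpart f (g := n) (q := q) ⟨k, by rw [hfn, hk]⟩
  refine ⟨n ^ m, hm, pow_mem hnN m, fun hc => hC ?_⟩
  rw [← hfn, hi]
  refine pow_mem (mem_centralizer_iff.mpr ?_) i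
  rintro _ ⟨a, ha, rfl⟩
  rw [← map_mul, ← map_mul, mem_centralizer_iff.mp hc a ha]

theorem sylow_inf_normal [Fact p.Prime] (Q : Sylow p G) (C : Subgroup G) [C.Normal] :
    ¬ p ∣ ((Q : Subgroup G) ⊓ C).relIndex C := by
  obtain ⟨T⟩ : Nonempty (Sylow p C) := inferInstance
  obtain ⟨Q', hQ'⟩ := (T.2.map C.subtype).exists_le_sylow
  obtain ⟨g, hg⟩ := MulAction.exists_smul_eq G Q' Q
  set T' := ((T : Subgroup C).map C.subtype).map (MulAut.conj g).toMonoidHom with hT'
  have hle : T' ≤ (Q : Subgroup G) ⊓ C := by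
    rintro _ ⟨t, ht, rfl⟩
    refine ⟨?_, ‹C.Normal›.conj_mem _ (map_subtype_le _ ht) g⟩
    rw [← hg, Sylow.coe_subgroup_smul]
    exact ⟨t, hQ' ht, rfl⟩
  intro hd
  refine T.not_dvd_index (hd.trans ((relIndex_dvd_of_le_left C hle).trans (dvd_of_eq ?_)))
  have h1 : Nat.card T' = Nat.card (T : Subgroup C) := by
    rw [hT', card_map_of_injective (MulAut.conj g).injective, card_map_of_injective C.subtype_injective]
  have h2 := (T'.subgroupOf C).index_mul_card
  rw [Nat.card_congr (subgroupOfEquivOfLe (hle.trans inf_le_right)).toEquiv, h1,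
    ← (T : Subgroup C).index_mul_card] at h2
  exact Nat.eq_of_mul_eq_mul_right Nat.card_pos h2

/-- A `p`-solvable group has a subgroup containing a Sylow `p`-subgroup whose order involves exactly `p` and `q`. -/
theorem exists_pq [hp : Fact p.Prime] [hq : Fact q.Prime] (hpq : p ≠ q) : ∀ (n : ℕ) (M : Type u) [Group M] [Finite M],
    Nat.card M = n → Cfsg.IsPSolvable p M → ∀ Q : Sylow p M, q ∣ Nat.card M →
      ∃ Y : Subgroup M, (Q : Subgroup M) ≤ Y ∧ q ∣ Nat.card Y ∧ ∀ r : ℕ, r.Prime → r ∣ Nat.card Y → r = p ∨ r = q := by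
  intro n
  induction n using Nat.strong_induction_on with
  | _ n ih =>
  intro M _ _ hn hsol Q hqM
  have hpow : ∀ {A : Subgroup M}, IsPGroup p A → ∀ r : ℕ, r.Prime → r ∣ Nat.card A → r = p := by
    intro A hA r hr hd
    obtain ⟨e, he⟩ := hA.exists_card_eq
    exact (Nat.prime_dvd_prime_iff_eq hr hp.out).mp (hr.dvd_of_dvd_pow (he ▸ hd))
  by_cases hO : Cfsg.pPrimeCore p M = ⊥
  · -- a normal p-subgroup
    have hHH := Blocks.hall_higman hsol hO
    set N := Cfsg.pCore p M with hN
    have hNp : IsPGroup p N := CfsgLib.isPGroup_pCore p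
    have hN1 : N ≠ ⊥ := fun h => by
      rw [h] at hHH
      have htop : (⊤ : Subgroup M) = ⊥ := le_bot_iff.mp ((fun x _ => mem_centralizer_iff.mpr fun a ha => by
        rw [Subgroup.mem_bot.mp ha, one_mul, mul_one]) |> fun hle => le_trans hle hHH)
      have := congrArg (fun S : Subgroup M => Nat.card S) htop
      simp only [card_top, card_bot] at this
      rw [this] at hqM
      exact hq.out.one_lt.ne' (Nat.dvd_one.mp hqM)
    have hlt : Nat.card (M ⧸ N) < n := by
      rw [← hn, card_eq_card_quotient_mul_card_subgroup N]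
      exact lt_mul_of_one_lt_right Nat.card_pos ((one_lt_card_iff_ne_bot N).2 hN1)
    have hs := QuotientGroup.mk'_surjective N
    obtain ⟨Yb, hQY, hqY, hY⟩ := ih _ hlt (M ⧸ N) rfl (PSolvableClosure.of_surjective _ hs hsol)
      (Q.mapSurjective hs) (by
        have h1 := hqM
        rw [card_eq_card_quotient_mul_card_subgroup N] at h1
        exact (hq.out.dvd_mul.mp h1).resolve_right fun h => hpq (hpow hNp q hq.out h).symm)
    have hcard : Nat.card (Yb.comap (QuotientGroup.mk' N)) = Nat.card Yb * Nat.card N :=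
      (CfsgLib.card_comap_mk N Yb).trans (mul_comm _ _)
    refine ⟨Yb.comap (QuotientGroup.mk' N), map_le_iff_le_comap.mp hQY, hcard ▸ hqY.mul_right _, fun r hr hd => ?_⟩
    rw [hcard] at hd
    exact (hr.dvd_mul.mp hd).elim (hY r hr) fun h => Or.inl (hpow hNp r hr h)
  · set N := Cfsg.pPrimeCore p M with hN
    have hNc : (Nat.card N).Coprime p := CfsgLib.card_pPrimeCore_coprime p
    obtain ⟨e, he⟩ := Q.2.exists_card_eq
    by_cases hqN : q ∣ Nat.card N
    · haveI : Group.IsNilpotent (Q : Subgroup M) := Q.2.isNilpotent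
      obtain ⟨R, hR⟩ := coprime_exists_invariant_sylow (A := (Q : Subgroup M)) (K := N)
        (le_normalizer_of_normal ..) (by rw [he]; exact (hNc.pow_right e).symm) (Or.inl inferInstance) q
      set R' := (R : Subgroup N).map N.subtype with hR'
      obtain ⟨j, hj⟩ := R.2.exists_card_eq
      have hR'c : Nat.card R' = q ^ j := by rw [hR', card_map_of_injective N.subtype_injective]; exact hj
      have hj0 : j ≠ 0 := fun h0 => by
        refine R.not_dvd_index ?_
        rw [(eq_bot_of_card_eq (R : Subgroup N) (by rw [hj, h0, pow_zero]) : (R : Subgroup N) = ⊥), index_bot]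
        exact hqN
      refine ⟨(Q : Subgroup M) ⊔ R', le_sup_left, (hR'c ▸ dvd_pow_self q hj0).trans (card_dvd_of_le le_sup_right),
        fun r hr hd => ?_⟩
      have hprod : Nat.card ↥((Q : Subgroup M) ⊔ R') ∣ Nat.card (Q : Subgroup M) * Nat.card R' := by
        haveI : (R'.subgroupOf ((Q : Subgroup M) ⊔ R')).Normal :=
          normal_subgroupOf_sup_of_le_normalizer hR
        have h1 := (R'.subgroupOf ((Q : Subgroup M) ⊔ R')).index_mul_card
        rw [← h1, Nat.card_congr (subgroupOfEquivOfLe (le_sup_right : R' ≤ (Q : Subgroup M) ⊔ R')).toEquiv]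
        refine Nat.mul_dvd_mul_right ?_ _
        set U := (Q : Subgroup M) ⊔ R' with hU
        set R0 := R'.subgroupOf U
        set Q0 := (Q : Subgroup M).subgroupOf U with hQ0
        have htop : Q0 ⊔ R0 = ⊤ := by rw [← subgroupOf_sup le_sup_left le_sup_right, subgroupOf_self]
        rw [← relIndex_top_right, ← htop, relIndex_sup_right,
          ← Nat.card_congr (subgroupOfEquivOfLe (le_sup_left : (Q : Subgroup M) ≤ U)).toEquiv]
        exact relIndex_dvd_card _ _
      rcases hr.dvd_mul.mp (hd.trans hprod) with h | h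
      · exact Or.inl (hpow Q.2 r hr h)
      · exact Or.inr ((Nat.prime_dvd_prime_iff_eq hr hq.out).mp (hr.dvd_of_dvd_pow (hR'c ▸ h)))
    · have hlt : Nat.card (M ⧸ N) < n := by
        rw [← hn, card_eq_card_quotient_mul_card_subgroup N]
        exact lt_mul_of_one_lt_right Nat.card_pos ((one_lt_card_iff_ne_bot N).2 hO)
      have hs := QuotientGroup.mk'_surjective N
      obtain ⟨Yb, hQY, hqY, hY⟩ := ih _ hlt (M ⧸ N) rfl (PSolvableClosure.of_surjective _ hs hsol)
        (Q.mapSurjective hs) (by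
          have h1 := hqM
          rw [card_eq_card_quotient_mul_card_subgroup N] at h1
          exact (hq.out.dvd_mul.mp h1).resolve_right hqN)
      set Y0 := Yb.comap (QuotientGroup.mk' N) with hY0
      have hQY0 : (Q : Subgroup M) ≤ Y0 := map_le_iff_le_comap.mp hQY
      have hNY0 : N ≤ Y0 := fun x hx => by
        show QuotientGroup.mk' N x ∈ Yb
        rw [QuotientGroup.mk'_apply, (QuotientGroup.eq_one_iff x).mpr hx]
        exact Yb.one_mem
      set N0 := N.subgroupOf Y0 with hN0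
      have hN0c : Nat.card N0 = Nat.card N := Nat.card_congr (subgroupOfEquivOfLe hNY0).toEquiv
      have hN0i : N0.index = Nat.card Yb := by
        have h1 := N0.index_mul_card
        rw [hN0c, show Nat.card Y0 = Nat.card Yb * Nat.card N from (CfsgLib.card_comap_mk N Yb).trans (mul_comm _ _)] at h1
        exact Nat.eq_of_mul_eq_mul_right Nat.card_pos h1
      obtain ⟨C, hC⟩ := exists_right_complement'_of_coprime (N := N0) (Nat.coprime_of_dvd fun r hr h1 h2 => by
        rw [hN0c] at h1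
        rw [hN0i] at h2
        rcases hY r hr h2 with rfl | rfl
        · exact hp.out.ne_one (Nat.eq_one_of_dvd_coprimes hNc h1 dvd_rfl)
        · exact hqN h1)
      have hCc : Nat.card C = Nat.card Yb := by
        have h1 := hC.card_mul
        have h2 := N0.index_mul_card
        rw [hN0i] at h2
        exact Nat.eq_of_mul_eq_mul_left (Nat.card_pos : 0 < Nat.card N0) (by rw [h1, ← h2, mul_comm])
      obtain ⟨R⟩ : Nonempty (Sylow p C) := inferInstance
      have hQ0i : ¬ p ∣ ((Q : Subgroup M).subgroupOf Y0).index := fun h =>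
        Q.not_dvd_index (h.trans (relIndex_dvd_index_of_le hQY0))
      let Q0 : Sylow p Y0 := (Q.2.comap_subtype (K := Y0)).toSylow hQ0i
      have hRi : ¬ p ∣ ((R : Subgroup C).map C.subtype).index := by
        rw [index_map_subtype]
        intro h
        rcases hp.out.dvd_mul.mp h with h | h
        · exact R.not_dvd_index h
        · rw [hC.index_eq_card, hN0c] at h
          exact hp.out.ne_one (Nat.eq_one_of_dvd_coprimes hNc h dvd_rfl)
      let R0 : Sylow p Y0 := (R.2.map C.subtype).toSylow hRi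
      obtain ⟨g, hg⟩ := MulAction.exists_smul_eq Y0 R0 Q0
      refine ⟨(C.map (MulAut.conj g).toMonoidHom).map Y0.subtype, fun a ha => ?_, ?_, fun r hr hd => hY r hr ?_⟩
      · have h1 : (⟨a, hQY0 ha⟩ : Y0) ∈ ((g • R0 : Sylow p Y0) : Subgroup Y0) := by rw [hg]; exact ha
        rw [Sylow.coe_subgroup_smul] at h1
        obtain ⟨b, hb, hba⟩ := h1
        exact ⟨_, ⟨b, map_subtype_le _ hb, rfl⟩, congrArg Subtype.val hba⟩
      · rwa [card_map_of_injective Y0.subtype_injective, card_map_of_injective (MulAut.conj g).injective, hCc]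
      · rwa [card_map_of_injective Y0.subtype_injective, card_map_of_injective (MulAut.conj g).injective, hCc] at hd

theorem pPrimeCore_overgroup [Fact p.Prime] (hsol : Cfsg.IsPSolvable p G) (hO : Cfsg.pPrimeCore p G = ⊥)
    {Y : Subgroup G} (hY : Cfsg.pCore p G ≤ Y) : Cfsg.pPrimeCore p Y = ⊥ := by
  set D := (Cfsg.pPrimeCore p Y).map Y.subtype with hD
  set H := Cfsg.pCore p G with hH
  have hdisj : D ⊓ H = ⊥ := by
    obtain ⟨e, he⟩ := (CfsgLib.isPGroup_pCore (G := G) p).exists_card_eq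
    refine inf_eq_bot_of_coprime ?_
    rw [hD, card_map_of_injective Y.subtype_injective, he]
    exact (CfsgLib.card_pPrimeCore_coprime p).pow_right e
  have hle : D ≤ H := by
    refine le_trans ?_ (Blocks.hall_higman hsol hO)
    rintro _ ⟨d, hd, rfl⟩
    refine mem_centralizer_iff.mpr fun a ha => ?_
    have h1 : ⁅(d : G), a⁆ ∈ D ⊓ H := by
      refine ⟨⟨⁅d, ⟨a, hY ha⟩⁆, ?_, rfl⟩, ?_⟩
      · rw [commutatorElement_def, mul_assoc d, mul_assoc d]
        exact (Cfsg.pPrimeCore p Y).mul_mem hd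
          ((inferInstance : (Cfsg.pPrimeCore p Y).Normal).conj_mem _ ((Cfsg.pPrimeCore p Y).inv_mem hd) _)
      · rw [commutatorElement_def]
        exact H.mul_mem ((inferInstance : H.Normal).conj_mem a ha _) (H.inv_mem ha)
    rw [hdisj, Subgroup.mem_bot] at h1
    exact (commutatorElement_eq_one_iff_mul_comm.mp h1).symm
  rw [inf_eq_left.mpr hle] at hdisj
  rwa [hD, map_eq_bot_iff_of_injective _ Y.subtype_injective] at hdisj

theorem factorizable [hp : Fact p.Prime] (hq : q.Prime) (h23 : ¬ ((p = 2 ∧ q = 3) ∨ (p = 3 ∧ q = 2)))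
    (hsol : Cfsg.IsPSolvable p G) (hO : Cfsg.pPrimeCore p G = ⊥)
    (hprimes : ∀ r : ℕ, r.Prime → r ∣ Nat.card G → r = p ∨ r = q) : Cfsg.IsThompsonFactorizable p G := by
  haveI := CfsgLib.Offender.omegaJoin_normal (G := G) (p := p)
  obtain ⟨hV, hVO⟩ := CfsgLib.Offender.omegaJoin_props hsol hO
  refine (CfsgLib.PLocal.isThompsonFactorizable_iff_centralizes hO).2 ?_
  by_contra hJ
  obtain ⟨hp23, E, -, -, -, hn, ⟨e⟩⟩ := CfsgLib.Offender.exists_normal_sl2 hV hsol hVO hJ
  have hd : Nat.card (Matrix.SpecialLinearGroup (Fin 2) (ZMod p)) ∣ Nat.card G := by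
    rw [← Nat.card_congr e.toEquiv]
    exact (card_quotient_dvd_card _).trans (card_subgroup_dvd_card E)
  rcases hp23 with rfl | rfl
  · rw [Nat.card_eq_fintype_card, show Fintype.card (Matrix.SpecialLinearGroup (Fin 2) (ZMod 2)) = 6 by decide +kernel] at hd
    rcases hprimes 3 Nat.prime_three ((show (3 : ℕ) ∣ 6 by norm_num).trans hd) with h | h
    · norm_num at h
    · exact h23 (Or.inl ⟨rfl, h.symm⟩)
  · rw [Nat.card_eq_fintype_card, show Fintype.card (Matrix.SpecialLinearGroup (Fin 2) (ZMod 3)) = 24 by decide +kernel] at hd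
    rcases hprimes 2 Nat.prime_two ((show (2 : ℕ) ∣ 24 by norm_num).trans hd) with h | h
    · norm_num at h
    · exact h23 (Or.inr ⟨rfl, h.symm⟩)

theorem thompson_chr (Q : Subgroup G) : Chr Q (Cfsg.thompsonSubgroupOf p Q) := by
  refine ⟨map_subtype_le _, fun φ a ha => ?_⟩
  obtain ⟨b, hb, hba⟩ := ha
  obtain rfl : b = a := Subtype.ext hba
  refine ⟨φ b, ?_, rfl⟩
  have hle : Cfsg.thompsonSubgroup p Q ≤ (Cfsg.thompsonSubgroup p Q).comap φ.toMonoidHom := by
    refine sSup_le fun A hA => map_le_iff_le_comap.mp (le_sSup ?_)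
    refine ⟨⟨map_isMulCommutative_aux hA.1.1, ?_⟩, fun B hB => ?_⟩
    · rintro _ ⟨c, hc, rfl⟩
      rw [← map_pow, hA.1.2 c hc, map_one]
    · rw [card_map_of_injective φ.injective]
      exact hA.2 B hB
  exact hle hb
where
  map_isMulCommutative_aux {A B : Type u} [Group A] [Group B] {H : Subgroup A} {f : A →* B}
      (h : IsMulCommutative H) : IsMulCommutative (H.map f) :=
    ⟨⟨by rintro ⟨_, a, ha, rfl⟩ ⟨_, b, hb, rfl⟩; exact Subtype.ext (by
        show f a * f b = f b * f a
        rw [← map_mul, ← map_mul]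
        exact congrArg f (congrArg Subtype.val (h.is_comm.comm ⟨a, ha⟩ ⟨b, hb⟩)))⟩⟩

/-- `Ω₁(Z(Q))`. -/
abbrev omegaZQ (p : ℕ) (Q : Subgroup G) : Subgroup G := Cfsg.omegaOne p (Q ⊓ centralizer (Q : Set G))

theorem omegaZQ_le (Q : Subgroup G) : omegaZQ p Q ≤ Q ⊓ centralizer (Q : Set G) :=
  (closure_le _).mpr fun _ hx => hx.1

theorem omegaZQ_pow (Q : Subgroup G) {v : G} (hv : v ∈ omegaZQ p Q) : v ^ p = 1 := by
  induction hv using Subgroup.closure_induction with
  | mem x hx => exact hx.2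
  | one => exact one_pow p
  | mul x y hx hy ihx ihy =>
    have hy' := (omegaZQ_le (p := p) Q hy).1
    have hx' := mem_centralizer_iff.mp (omegaZQ_le (p := p) Q hx).2 y hy'
    rw [(show Commute x y from hx'.symm).mul_pow, ihx, ihy, one_mul]
  | inv x _ ihx => rw [inv_pow, ihx, inv_one]

theorem omegaZQ_aut (Q : Subgroup G) (φ : Q ≃* Q) (a : Q) (ha : (a : G) ∈ omegaZQ p Q) :
    (φ a : G) ∈ omegaZQ p Q := by
  refine subset_closure ⟨⟨(φ a).2, mem_centralizer_iff.mpr fun b hb => ?_⟩, ?_⟩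
  · obtain ⟨c, hc⟩ := φ.surjective ⟨b, hb⟩
    have h1 : c * a = a * c := Subtype.ext (mem_centralizer_iff.mp (omegaZQ_le Q ha).2 c c.2)
    have h2 := congrArg Subtype.val (congrArg φ h1)
    rw [map_mul, map_mul, hc] at h2
    exact h2
  · rw [← SubmonoidClass.coe_pow, ← map_pow, show a ^ p = 1 from Subtype.ext (omegaZQ_pow Q ha), map_one]; rfl

theorem omegaZQ_le_thompson (Q : Subgroup G) : omegaZQ p Q ≤ Cfsg.thompsonSubgroupOf p Q := by
  intro v hv
  have hvQ := (omegaZQ_le Q hv).1
  let V : Subgroup Q := (omegaZQ p Q).subgroupOf Q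
  refine ⟨⟨v, hvQ⟩, ?_, rfl⟩
  obtain ⟨A, hA, hmax⟩ := Set.exists_max_image {A : Subgroup Q | Cfsg.IsElementaryAbelian p A}
    (fun A => Nat.card A) (Set.toFinite _) ⟨⊥, ⟨⟨⟨fun a b => Subsingleton.elim _ _⟩⟩,
      fun a ha => by rw [Subgroup.mem_bot.mp ha, one_pow]⟩⟩
  have hVc : ∀ w ∈ V, ∀ b : Q, b * w = w * b := fun w hw b =>
    Subtype.ext (mem_centralizer_iff.mp (omegaZQ_le Q hw).2 b b.2)
  have hAV : Cfsg.IsElementaryAbelian p (A ⊔ V : Subgroup Q) := by
    haveI : V.Normal := ⟨fun w hw b => by rw [hVc w hw b, mul_inv_cancel_right]; exact hw⟩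
    refine ⟨⟨⟨fun ⟨x, hx⟩ ⟨y, hy⟩ => Subtype.ext ?_⟩⟩, fun x hx => ?_⟩
    · obtain ⟨a, ha, w, hw, rfl⟩ := mem_sup_of_normal_right.mp hx
      obtain ⟨b, hb, u, hu, rfl⟩ := mem_sup_of_normal_right.mp hy
      show a * w * (b * u) = b * u * (a * w)
      have hab : a * b = b * a := congrArg Subtype.val (hA.1.is_comm.comm ⟨a, ha⟩ ⟨b, hb⟩)
      calc a * w * (b * u) = a * (w * b) * u := by group
        _ = a * b * (w * u) := by rw [← hVc w hw b]; group
        _ = b * (a * u) * w := by rw [hab, hVc u hu w, ]; group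
        _ = b * u * (a * w) := by rw [hVc u hu a]; group
    · obtain ⟨a, ha, w, hw, rfl⟩ := mem_sup_of_normal_right.mp hx
      rw [(show Commute a w from hVc w hw a).mul_pow, hA.2 a ha,
        show w ^ p = 1 from Subtype.ext (omegaZQ_pow Q hw), one_mul]
  have heq : A = A ⊔ V := eq_of_le_of_card_ge le_sup_left (hmax _ hAV)
  exact le_sSup (show A ∈ Cfsg.maxElementaryAbelianSubgroups p Q from ⟨hA, hmax⟩)
    (heq ▸ mem_sup_right (show (⟨v, hvQ⟩ : Q) ∈ V from hv))

/-- The local lemma. -/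
theorem core [hp : Fact p.Prime] [hq : Fact q.Prime] (hpq : p ≠ q)
    (h23 : ¬ ((p = 2 ∧ q = 3) ∨ (p = 3 ∧ q = 2))) : ∀ (n : ℕ) (X : Type u) [Group X] [Finite X],
    Nat.card X = n → Cfsg.IsPSolvable p X → Cfsg.pPrimeCore p X = ⊥ →
    (∀ r : ℕ, r.Prime → r ∣ Nat.card X → r = p ∨ r = q) → q ∣ Nat.card X → ∀ Q : Sylow p X,
      ∃ K : Subgroup X, Chr (Q : Subgroup X) K ∧ Act q K := by
  intro n
  induction n using Nat.strong_induction_on with
  | _ n ih =>
  intro X _ _ hn hsol hO hprimes hqX Q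
  set V := omegaZQ p (Q : Subgroup X) with hV
  by_cases hVc : V ≤ center X
  · -- quotient
    have hV1 : V ≠ ⊥ := by
      intro h
      have hQ : (Q : Subgroup X) ≠ ⊥ := fun hQ => by
        have hi := Q.not_dvd_index
        rw [hQ, index_bot] at hi
        have h1 : (⊤ : Subgroup X) ≤ Cfsg.pPrimeCore p X := CfsgLib.le_pPrimeCore (by
          rw [card_top]; exact ((hp.out.coprime_iff_not_dvd).mpr hi).symm)
        rw [hO, le_bot_iff] at h1
        have := congrArg (fun S : Subgroup X => Nat.card S) h1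
        simp only [card_top, card_bot] at this
        rw [this] at hqX
        exact hq.out.one_lt.ne' (Nat.dvd_one.mp hqX)
      haveI : Nontrivial (Q : Subgroup X) := (nontrivial_iff_ne_bot _).mpr hQ
      haveI := Q.2.center_nontrivial
      obtain ⟨e, he, hce⟩ := (Q.2.to_subgroup (center ↥(Q : Subgroup X))).nontrivial_iff_card.mp inferInstance
      obtain ⟨z, hz⟩ := exists_prime_orderOf_dvd_card' (G := center ↥(Q : Subgroup X)) p (hce ▸ dvd_pow_self p (by omega))
      rw [← orderOf_coe, ← orderOf_coe] at hz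
      have hzp : ((z : ↥(Q : Subgroup X)) : X) ^ p = 1 := orderOf_dvd_iff_pow_eq_one.mp hz.dvd
      have hzc : ((z : ↥(Q : Subgroup X)) : X) ∈ centralizer ((Q : Subgroup X) : Set X) :=
        mem_centralizer_iff.mpr fun b hb => congrArg Subtype.val (mem_center_iff.mp z.2 ⟨b, hb⟩)
      have hzV : ((z : ↥(Q : Subgroup X)) : X) ∈ V :=
        subset_closure ⟨⟨(z : ↥(Q : Subgroup X)).2, hzc⟩, hzp⟩
      rw [h, Subgroup.mem_bot] at hzV
      rw [hzV, orderOf_one] at hz
      exact hp.out.one_lt.ne hz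
    haveI : V.Normal := ⟨fun v hv g => by rw [mem_center_iff.mp (hVc hv) g, mul_inv_cancel_right]; exact hv⟩
    have hs := QuotientGroup.mk'_surjective V
    have hVp : IsPGroup p V := Q.2.to_le ((omegaZQ_le _).trans inf_le_left)
    have hlt : Nat.card (X ⧸ V) < n := by
      rw [← hn, card_eq_card_quotient_mul_card_subgroup V]
      exact lt_mul_of_one_lt_right Nat.card_pos ((one_lt_card_iff_ne_bot V).2 hV1)
    have hOq : Cfsg.pPrimeCore p (X ⧸ V) = ⊥ := by
      set U := (Cfsg.pPrimeCore p (X ⧸ V)).comap (QuotientGroup.mk' V) with hU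
      have hVU : V ≤ U := fun x hx => by
        show QuotientGroup.mk' V x ∈ Cfsg.pPrimeCore p (X ⧸ V)
        rw [QuotientGroup.mk'_apply, (QuotientGroup.eq_one_iff x).mpr hx]
        exact one_mem _
      haveI : U.Normal := Normal.comap inferInstance _
      have hUc : Nat.card U = Nat.card (Cfsg.pPrimeCore p (X ⧸ V)) * Nat.card V := (CfsgLib.card_comap_mk V _).trans (mul_comm _ _)
      set V0 := V.subgroupOf U with hV0
      have hV0c : Nat.card V0 = Nat.card V := Nat.card_congr (subgroupOfEquivOfLe hVU).toEquiv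
      have hV0i : V0.index = Nat.card (Cfsg.pPrimeCore p (X ⧸ V)) := by
        have h1 := V0.index_mul_card
        rw [hV0c, hUc] at h1
        exact Nat.eq_of_mul_eq_mul_right Nat.card_pos h1
      obtain ⟨e, he⟩ := hVp.exists_card_eq
      obtain ⟨C, hC⟩ := exists_right_complement'_of_coprime (N := V0) (by
        rw [hV0c, hV0i, he]; exact ((CfsgLib.card_pPrimeCore_coprime p).pow_right e).symm)
      haveI hCn : C.Normal := by
        refine normalizer_eq_top_iff.mp (top_le_iff.mp ?_)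
        rw [← hC.sup_eq_top]
        refine sup_le (fun v hv => mem_normalizer_of_conj_mem fun c hc => ?_) le_normalizer
        have : v * c = c * v := Subtype.ext (mem_center_iff.mp (hVc hv) (c : X)).symm
        rw [this, mul_inv_cancel_right]
        exact hc
      have hCi : V0.index = Nat.card C := hC.symm.index_eq_card
      have hCc : (Nat.card C).Coprime p := by
        rw [← hCi, hV0i]; exact CfsgLib.card_pPrimeCore_coprime p
      have hC1 : C ≤ Cfsg.pPrimeCore p U := CfsgLib.le_pPrimeCore hCc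
      have hQU : Cfsg.pPrimeCore p U = ⊥ := by
        haveI : ((Cfsg.pPrimeCore p U).map U.subtype).Normal := ConjAct.normal_of_characteristic_of_normal
        have h1 : (Cfsg.pPrimeCore p U).map U.subtype ≤ Cfsg.pPrimeCore p X := CfsgLib.le_pPrimeCore (by
          rw [card_map_of_injective U.subtype_injective]; exact CfsgLib.card_pPrimeCore_coprime p)
        rwa [hO, le_bot_iff, map_eq_bot_iff_of_injective _ U.subtype_injective] at h1
      refine eq_bot_of_card_eq _ ?_
      rw [← hV0i, hCi, le_bot_iff.mp (hC1.trans hQU.le), card_bot]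
    have hqb : q ∣ Nat.card (X ⧸ V) := by
      have h1 := hqX
      rw [card_eq_card_quotient_mul_card_subgroup V] at h1
      refine (hq.out.dvd_mul.mp h1).resolve_right fun h => hpq ?_
      obtain ⟨e, he⟩ := hVp.exists_card_eq
      exact ((Nat.prime_dvd_prime_iff_eq hq.out hp.out).mp (hq.out.dvd_of_dvd_pow (he ▸ h))).symm
    obtain ⟨Kb, hKb, hact⟩ := ih _ hlt (X ⧸ V) rfl (PSolvableClosure.of_surjective _ hs hsol) hOq
      (fun r hr hd => hprimes r hr (hd.trans (card_quotient_dvd_card V))) hqb (Q.mapSurjective hs)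
    refine ⟨(Q : Subgroup X) ⊓ Kb.comap (QuotientGroup.mk' V), chr_pull _ hKb fun φ a ha => ?_, ?_⟩
    · exact (QuotientGroup.eq_one_iff _).mpr (omegaZQ_aut _ φ a ((QuotientGroup.eq_one_iff _).mp ha))
    · set K := (Q : Subgroup X) ⊓ Kb.comap (QuotientGroup.mk' V) with hK
      have hVQ : V ≤ (Q : Subgroup X) := (omegaZQ_le _).trans inf_le_left
      have hVK : V ≤ K := le_inf hVQ fun x hx => by
        show QuotientGroup.mk' V x ∈ Kb
        rw [QuotientGroup.mk'_apply, (QuotientGroup.eq_one_iff x).mpr hx]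
        exact one_mem _
      have hmap : K.map (QuotientGroup.mk' V) = Kb := by
        refine le_antisymm (map_le_iff_le_comap.mpr inf_le_right) fun y hy => ?_
        obtain ⟨a, ha, rfl⟩ := hKb.1 hy
        exact ⟨a, ⟨ha, hy⟩, rfl⟩
      refine act_lift (p := p) _ hs (Q.2.to_le inf_le_left) ?_ (hmap ▸ hact)
      rw [comap_map_eq, QuotientGroup.ker_mk', sup_eq_left.mpr hVK, relIndex_self]
      exact hp.out.not_dvd_one
  · have hfac := factorizable (G := X) (p := p) hq.out h23 hsol hO hprimes Q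
    set Cv := centralizer (V : Set X) with hCv
    have hQCv : (Q : Subgroup X) ≤ Cv := fun a ha => mem_centralizer_iff.mpr fun v hv =>
      (mem_centralizer_iff.mp (omegaZQ_le _ hv).2 a ha).symm
    by_cases hqC : q ∣ Nat.card Cv
    · have hlt : Nat.card Cv < n := by
        rw [← hn]
        refine lt_of_le_of_ne (card_le_card_group Cv) fun h => hVc fun v hv => mem_center_iff.mpr fun g => ?_
        have hg : g ∈ Cv := by
          rw [eq_top_of_card_eq Cv (by simpa using h)]; exact mem_top g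
        exact (mem_centralizer_iff.mp hg v hv).symm
      have hp' : ¬ p ∣ ((Q : Subgroup X).subgroupOf Cv).index := fun h =>
        Q.not_dvd_index (h.trans (relIndex_dvd_index_of_le hQCv))
      let Qc : Sylow p Cv := (Q.2.comap_subtype (K := Cv)).toSylow hp'
      haveI := Fintype.ofFinite X
      obtain ⟨K, hK, hact⟩ := ih _ hlt Cv rfl (CfsgLib.Blocks.isPSolvable_subgroup hp.out hsol Cv)
        (pPrimeCore_overgroup hsol hO ((CfsgLib.isPGroup_pCore p).exists_le_sylow.elim fun R hR => by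
          obtain ⟨g, hg⟩ := MulAction.exists_smul_eq X R Q
          rintro a ha
          refine hQCv ?_
          rw [← hg, Sylow.coe_subgroup_smul]
          exact ⟨g⁻¹ * a * g, hR (by
      have := Normal.conj_mem (H := Cfsg.pCore p X) inferInstance a ha g⁻¹
      rwa [inv_inv] at this),
            by simp [mul_assoc]⟩))
        (fun r hr hd => hprimes r hr (hd.trans (card_subgroup_dvd_card Cv))) hqC Qc
      refine ⟨K.map Cv.subtype, ?_, hact.map _ Cv.subtype_injective⟩
      have h1 := hK.map _ Cv.subtype_injective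
      rwa [show (Qc : Subgroup Cv).map Cv.subtype = (Q : Subgroup X) from map_subgroupOf_eq_of_le hQCv] at h1
    · refine ⟨Cfsg.thompsonSubgroupOf p (Q : Subgroup X), thompson_chr _, ?_⟩
      set N := normalizer (Cfsg.thompsonSubgroupOf p (Q : Subgroup X) : Set X) with hN
      have hqN : q ∣ Nat.card N := by
        by_contra hqN
        have hqi : q ∣ N.index := by
          have h1 := hqX
          rw [← N.card_mul_index] at h1
          exact (hq.out.dvd_mul.mp h1).resolve_left hqN
        have hcov : ∀ g : X, ∃ c ∈ Cv, ∃ m ∈ N, g = c * m := fun g => by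
          obtain ⟨x, hx, c, hc, m, hm, rfl⟩ := hfac g
          rw [hO, Subgroup.mem_bot] at hx
          exact ⟨c, hc, m, hm, by rw [hx, one_mul]⟩
        haveI : MulAction.IsPretransitive Cv (X ⧸ N) := (MulAction.isPretransitive_iff_orbit_eq_univ (G := Cv)
          ((1 : X) : X ⧸ N)).mpr (Set.eq_univ_of_forall fun z => by
            obtain ⟨g, rfl⟩ := QuotientGroup.mk_surjective z
            obtain ⟨c, hc, m, hm, rfl⟩ := hcov g
            exact ⟨⟨c, hc⟩, by
              show ((c * 1 : X) : X ⧸ N) = _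
              rw [QuotientGroup.eq, mul_one, inv_mul_cancel_left]; exact hm⟩)
        refine hqC (hqi.trans ?_)
        show Nat.card (X ⧸ N) ∣ _
        rw [← MulAction.index_stabilizer_of_transitive Cv ((1 : X) : X ⧸ N)]
        exact index_dvd_card _
      obtain ⟨x, hx⟩ := exists_prime_orderOf_dvd_card' (G := N) q hqN
      rw [← orderOf_coe] at hx
      refine ⟨x, ⟨1, by rw [pow_one, ← hx, pow_orderOf_eq_one]⟩, x.2, fun hc => hqC ?_⟩
      have hxC : (x : X) ∈ Cv := mem_centralizer_iff.mpr fun v hv =>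
        mem_centralizer_iff.mp hc v (omegaZQ_le_thompson _ hv)
      rw [← hx]
      exact orderOf_dvd_natCard Cv hxC

/-- The step from the automizer of `H` to a characteristic subgroup of a Sylow subgroup of its normalizer. -/
theorem step [hp : Fact p.Prime] [hq : Fact q.Prime] (hpq : p ≠ q)
    (h23 : ¬ ((p = 2 ∧ q = 3) ∨ (p = 3 ∧ q = 2))) {H : Subgroup G} (hH : IsPGroup p H) (hact : Act q H)
    (hsol : Cfsg.IsPSolvable p (↥(normalizer (H : Set G)) ⧸ (centralizer (H : Set G)).subgroupOf (normalizer (H : Set G))))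
    (QL : Sylow p (normalizer (H : Set G))) :
    ∃ K : Subgroup G, Chr ((QL : Subgroup (normalizer (H : Set G))).map (normalizer (H : Set G)).subtype) K ∧ Act q K := by
  let L := normalizer (H : Set G)
  set C := (centralizer (H : Set G)).subgroupOf L with hC
  haveI : C.Normal := by rw [hC, show L = normalizer (H : Set G) from rfl, ← normalizerMonoidHom_ker]; infer_instance
  haveI := Fintype.ofFinite L
  haveI := Fintype.ofFinite (L ⧸ C)
  obtain ⟨x, ⟨k, hk⟩, hxN, hxC⟩ := hact
  set T := (QL : Subgroup L) ⊓ C with hT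
  have hTp : IsPGroup p T := QL.2.to_le inf_le_left
  have hTi : ¬ p ∣ T.relIndex C := sylow_inf_normal QL C
  let T0 : Sylow p C := (hTp.comap_subtype (K := C)).toSylow hTi
  have hT0 : (T0 : Subgroup C).map C.subtype = T := map_subgroupOf_eq_of_le inf_le_right
  have hsup : normalizer (T : Set L) ⊔ C = ⊤ := by rw [← hT0]; exact Sylow.normalizer_sup_eq_top T0
  set M := normalizer (T : Set L) with hM
  obtain ⟨n, hn, c, hc, hnc⟩ := mem_sup_of_normal_right.mp (hsup ▸ mem_top (⟨x, hxN⟩ : L))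
  set f := (QuotientGroup.mk' C).comp M.subtype with hf
  have hfn : f ⟨n, hn⟩ = QuotientGroup.mk' C ⟨x, hxN⟩ := by
    show QuotientGroup.mk' C n = _
    rw [← hnc, map_mul, show QuotientGroup.mk' C c = 1 from (QuotientGroup.eq_one_iff c).mpr hc, mul_one]
  obtain ⟨m, ⟨j, hj⟩, i, hi⟩ := qpart f (g := (⟨n, hn⟩ : M)) (q := q) ⟨k, by
    rw [hfn, ← map_pow, show (⟨x, hxN⟩ : L) ^ q ^ k = 1 from Subtype.ext hk, map_one]⟩
  set y : M := ⟨n, hn⟩ ^ m with hy
  have hyC : (y : L) ∉ C := fun h => by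
    have h1 : f y = 1 := (QuotientGroup.eq_one_iff _).mpr h
    rw [h1, one_pow, hfn] at hi
    exact hxC ((QuotientGroup.eq_one_iff (⟨x, hxN⟩ : L)).mp hi : (⟨x, hxN⟩ : L) ∈ C)
  have hQM : (QL : Subgroup L) ≤ M := fun a ha => mem_normalizer_of_conj_mem fun t ht =>
    ⟨(QL : Subgroup L).mul_mem ((QL : Subgroup L).mul_mem ha ht.1) ((QL : Subgroup L).inv_mem ha),
      ‹C.Normal›.conj_mem t ht.2 a⟩
  set T1 := T.subgroupOf M with hT1
  haveI : T1.Normal := normal_in_normalizer
  -- `M` is `p`-solvable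
  have hMsol : Cfsg.IsPSolvable p M := by
    have hr : Cfsg.IsPSolvable p f.range := CfsgLib.Blocks.isPSolvable_subgroup hp.out hsol _
    let g : M ⧸ T1 →* f.range := QuotientGroup.lift T1 f.rangeRestrict fun t ht => by
      rw [MonoidHom.mem_ker]
      exact Subtype.ext ((QuotientGroup.eq_one_iff _).mpr ht.2)
    have hgs : Function.Surjective g := fun z => by
      obtain ⟨w, hw⟩ := f.rangeRestrict_surjective z
      exact ⟨QuotientGroup.mk' T1 w, hw⟩
    have hgk : g.ker = (C.subgroupOf M).map (QuotientGroup.mk' T1) := by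
      ext z
      obtain ⟨w, rfl⟩ := QuotientGroup.mk'_surjective T1 z
      refine ⟨fun h => ⟨w, ?_, rfl⟩, ?_⟩
      · exact (QuotientGroup.eq_one_iff (w : L)).mp (congrArg Subtype.val (MonoidHom.mem_ker.mp h))
      · rintro ⟨v, hv, hvw⟩
        rw [MonoidHom.mem_ker, ← hvw]
        exact Subtype.ext ((QuotientGroup.eq_one_iff _).mpr hv)
    have h1 : Cfsg.IsPSolvable p (M ⧸ T1) := CfsgLib.FongSwan.of_pPrime_ker g hgs (by
      rw [hgk, ← relIndex_ker, QuotientGroup.ker_mk', Nat.coprime_comm, hp.out.coprime_iff_not_dvd]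
      refine fun hd => hTi (hd.trans ?_)
      have hTM : T ≤ C ⊓ M := le_inf inf_le_right le_normalizer
      rw [show C.subgroupOf M = (C ⊓ M).subgroupOf M from (inf_subgroupOf_right C M).symm,
        hT1, relIndex_subgroupOf inf_le_right]
      exact ⟨_, (relIndex_mul_relIndex T (C ⊓ M) C hTM inf_le_left).symm⟩) hr
    refine CfsgLib.PLocal.isPSolvable_of_ker (QuotientGroup.mk' T1) (QuotientGroup.mk'_surjective T1) (Or.inl ?_) h1
    rw [QuotientGroup.ker_mk']
    exact (hTp.comap_subtype).exists_card_eq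
  -- the Sylow subgroup of `M`
  have hQi : ¬ p ∣ ((QL : Subgroup L).subgroupOf M).index := fun h =>
    QL.not_dvd_index (h.trans (relIndex_dvd_index_of_le hQM))
  let Q0 : Sylow p M := (QL.2.comap_subtype (K := M)).toSylow hQi
  set U := (H.subgroupOf L).subgroupOf M with hU
  haveI : (H.subgroupOf L).Normal := normal_in_normalizer
  haveI : U.Normal := Normal.comap ‹(H.subgroupOf L).Normal› _
  have hUp : IsPGroup p U := (hH.comap_subtype (K := L)).comap_subtype
  set O := Cfsg.pPrimeCore p M with hO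
  have hyO : y ∉ O := fun hyO => hyC (mem_centralizer_iff.mpr fun a ha => by
    have hM' : (⟨a, le_normalizer ha⟩ : L) ∈ M := mem_normalizer_of_conj_mem fun t ht => by
      refine ⟨?_, ‹C.Normal›.conj_mem t ht.2 _⟩
      obtain ⟨R, hR⟩ := (hH.comap_subtype (K := L)).exists_le_sylow
      obtain ⟨g, hg⟩ := MulAction.exists_smul_eq L R QL
      have haQ : (⟨a, le_normalizer ha⟩ : L) ∈ (QL : Subgroup L) := by
        rw [← hg, Sylow.coe_subgroup_smul]
        exact ⟨g⁻¹ * ⟨a, le_normalizer ha⟩ * g, hR (by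
          simpa using (‹(H.subgroupOf L).Normal›).conj_mem _ (show (⟨a, le_normalizer ha⟩ : L) ∈ H.subgroupOf L from ha) g⁻¹),
          by simp [mul_assoc]⟩
      exact (QL : Subgroup L).mul_mem ((QL : Subgroup L).mul_mem haQ ht.1) ((QL : Subgroup L).inv_mem haQ)
    have hd : Disjoint U O := by
      obtain ⟨e, he⟩ := hUp.exists_card_eq
      refine Subgroup.disjoint_of_coprime_natCard ?_
      rw [he]
      exact ((CfsgLib.card_pPrimeCore_coprime p).pow_right e).symm
    have := commute_of_normal_of_disjoint U O inferInstance inferInstance hd ⟨⟨a, le_normalizer ha⟩, hM'⟩ y ha hyO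
    exact congrArg (fun z : M => ((z : L) : G)) this)
  -- pass to the quotient
  set X := M ⧸ O with hX
  have hs := QuotientGroup.mk'_surjective O
  have hXsol : Cfsg.IsPSolvable p X := PSolvableClosure.of_surjective _ hs hMsol
  have hqX : q ∣ Nat.card X := by
    have h1 : orderOf (QuotientGroup.mk' O y) ∣ q ^ j := orderOf_dvd_of_pow_eq_one (by rw [← map_pow, hj, map_one])
    obtain ⟨e, -, he⟩ := (Nat.dvd_prime_pow hq.out).mp h1
    have he0 : e ≠ 0 := by
      rintro rfl
      rw [pow_zero, orderOf_eq_one_iff, QuotientGroup.mk'_apply, QuotientGroup.eq_one_iff] at he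
      exact hyO he
    exact (he ▸ dvd_pow_self q he0).trans (_root_.orderOf_dvd_natCard _)
  set Qb := Q0.mapSurjective hs with hQb
  obtain ⟨Y, hQY, hqY, hY⟩ := exists_pq hpq _ X rfl hXsol Qb hqX
  have hXO : Cfsg.pPrimeCore p X = ⊥ := CfsgLib.pPrimeCore_quotient_eq_bot p
  have hcore : Cfsg.pCore p X ≤ (Qb : Subgroup X) := by
    obtain ⟨R, hR⟩ := (CfsgLib.isPGroup_pCore (G := X) p).exists_le_sylow
    obtain ⟨g, hg⟩ := MulAction.exists_smul_eq X R Qb
    intro a ha
    rw [← hg, Sylow.coe_subgroup_smul]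
    exact ⟨g⁻¹ * a * g, hR (by
      have := Normal.conj_mem (H := Cfsg.pCore p X) inferInstance a ha g⁻¹
      rwa [inv_inv] at this),
      by simp [mul_assoc]⟩
  have hQyi : ¬ p ∣ ((Qb : Subgroup X).subgroupOf Y).index := fun h =>
    Qb.not_dvd_index (h.trans (relIndex_dvd_index_of_le hQY))
  let Qy : Sylow p Y := (Qb.2.comap_subtype (K := Y)).toSylow hQyi
  haveI := Fintype.ofFinite X
  obtain ⟨Ky, hKy, hactY⟩ := core hpq h23 _ Y rfl (CfsgLib.Blocks.isPSolvable_subgroup hp.out hXsol Y)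
    (pPrimeCore_overgroup hXsol hXO (hcore.trans hQY)) hY hqY Qy
  have hKb : Chr ((Q0 : Subgroup M).map (QuotientGroup.mk' O)) (Ky.map Y.subtype) := by
    have h1 := hKy.map _ Y.subtype_injective
    rwa [show (Qy : Subgroup Y).map Y.subtype = (Qb : Subgroup X) from map_subgroupOf_eq_of_le hQY] at h1
  set Kb := Ky.map Y.subtype with hKbdef
  have hinj : ∀ a ∈ (Q0 : Subgroup M), QuotientGroup.mk' O a = 1 → a = 1 := fun a ha h1 => by
    obtain ⟨e, he⟩ := Q0.2.exists_card_eq
    have hd : Disjoint (Q0 : Subgroup M) O := Subgroup.disjoint_of_coprime_natCard (by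
      rw [he]; exact ((CfsgLib.card_pPrimeCore_coprime p).pow_right e).symm)
    exact Subgroup.disjoint_def.mp hd ha ((QuotientGroup.eq_one_iff a).mp h1)
  set K0 := (Q0 : Subgroup M) ⊓ Kb.comap (QuotientGroup.mk' O) with hK0
  have hK0chr : Chr (Q0 : Subgroup M) K0 := chr_pull _ hKb fun φ a ha => by
    rw [show a = 1 from Subtype.ext (hinj a a.2 ha), map_one]
    exact map_one _
  have hmap : K0.map (QuotientGroup.mk' O) = Kb := by
    refine le_antisymm (map_le_iff_le_comap.mpr inf_le_right) fun z hz => ?_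
    obtain ⟨a, ha, rfl⟩ := hKb.1 hz
    exact ⟨a, ⟨ha, hz⟩, rfl⟩
  have hK0act : Act q K0 := by
    refine act_lift (p := p) _ hs (Q0.2.to_le inf_le_left) ?_ (hmap ▸ hactY.map _ Y.subtype_injective)
    have h1 := (K0.subgroupOf ((K0.map (QuotientGroup.mk' O)).comap (QuotientGroup.mk' O))).index_mul_card
    rw [Nat.card_congr (subgroupOfEquivOfLe (le_comap_map _ _)).toEquiv, CfsgLib.card_comap_mk] at h1
    have h2 : Nat.card (K0.map (QuotientGroup.mk' O)) = Nat.card K0 := by
      refine card_map_of_injective_on _ fun a ha b hb hab => ?_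
      refine inv_mul_eq_one.mp (hinj _ ((Q0 : Subgroup M).mul_mem ((Q0 : Subgroup M).inv_mem ha.1) hb.1) ?_)
      rw [map_mul, map_inv, hab, inv_mul_cancel]
    rw [h2] at h1
    rw [show K0.relIndex _ = Nat.card O from Nat.eq_of_mul_eq_mul_right Nat.card_pos h1]
    exact fun hd => hp.out.ne_one (Nat.eq_one_of_dvd_coprimes (CfsgLib.card_pPrimeCore_coprime p) hd dvd_rfl)
  refine ⟨(K0.map M.subtype).map L.subtype, ?_, (hK0act.map _ M.subtype_injective).map _ L.subtype_injective⟩
  have h1 := (hK0chr.map _ M.subtype_injective).map _ L.subtype_injective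
  rw [show (Q0 : Subgroup M).map M.subtype = (QL : Subgroup L) from map_subgroupOf_eq_of_le hQM] at h1
  exact h1
where
  card_map_of_injective_on {A B : Type u} [Group A] [Group B] (g : A →* B) {K : Subgroup A}
      (h : ∀ a ∈ K, ∀ b ∈ K, g a = g b → a = b) : Nat.card (K.map g) = Nat.card K :=
    (Nat.card_congr (Equiv.ofBijective (fun a : K => (⟨g a, a, a.2, rfl⟩ : K.map g))
      ⟨fun a b hab => Subtype.ext (h a a.2 b b.2 (congrArg Subtype.val hab)),
        fun z => by obtain ⟨_, a, ha, rfl⟩ := z; exact ⟨⟨a, ha⟩, rfl⟩⟩)).symm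

/-- The main statement. -/
theorem main [hp : Fact p.Prime] [hq : Fact q.Prime] (hpq : p ≠ q)
    (h23 : ¬ ((p = 2 ∧ q = 3) ∨ (p = 3 ∧ q = 2)))
    (hsol : ∀ H : Subgroup G, IsPGroup p H → Cfsg.IsPSolvable p
      (↥(normalizer (H : Set G)) ⧸ (centralizer (H : Set G)).subgroupOf (normalizer (H : Set G))))
    {H₀ : Subgroup G} (hH₀ : IsPGroup p H₀) (hact₀ : Act q H₀) (Gp : Sylow p G) :
    ∃ K : Subgroup G, K ≤ (Gp : Subgroup G) ∧ (Gp : Subgroup G) ≤ normalizer (K : Set G) ∧ Act q K := by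
  obtain ⟨H, ⟨hH, hact⟩, hmax⟩ := Set.exists_max_image {H : Subgroup G | IsPGroup p H ∧ Act q H}
    (fun H => (Nat.card (normalizer (H : Set G))).factorization p) (Set.toFinite _) ⟨H₀, hH₀, hact₀⟩
  obtain ⟨QL⟩ : Nonempty (Sylow p (normalizer (H : Set G))) := inferInstance
  set Q := (QL : Subgroup (normalizer (H : Set G))).map (normalizer (H : Set G)).subtype with hQ
  have hQp : IsPGroup p Q := QL.2.map _
  have hQc : Nat.card Q = p ^ (Nat.card (normalizer (H : Set G))).factorization p := by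
    rw [hQ, card_map_of_injective (normalizer (H : Set G)).subtype_injective]
    exact QL.card_eq_multiplicity
  by_cases hi : p ∣ Q.index
  · exfalso
    obtain ⟨K, hK, hKact⟩ := step hpq h23 hH hact (hsol H hH) QL
    have h1 : p ^ ((Nat.card (normalizer (H : Set G))).factorization p + 1) ∣ Nat.card G := by
      rw [← Q.card_mul_index, hQc, pow_succ]
      exact Nat.mul_dvd_mul_left _ hi
    have h2 := (Sylow.prime_pow_dvd_card_normalizer h1 hQc).trans (card_dvd_of_le (normalizer_le_of_chr hK))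
    have h3 := (hp.out.pow_dvd_iff_le_factorization Nat.card_pos.ne').mp h2
    have h4 := hmax K ⟨hQp.to_le hK.1, hKact⟩
    omega
  · let Qs : Sylow p G := hQp.toSylow hi
    obtain ⟨g, hg⟩ := MulAction.exists_smul_eq G Qs Gp
    have hQg : (Gp : Subgroup G) = Q.map (MulAut.conj g).toMonoidHom := by
      rw [← hg, Sylow.coe_subgroup_smul]
      rfl
    have hHQ : H ≤ Q := by
      haveI : (H.subgroupOf (normalizer (H : Set G))).Normal := normal_in_normalizer
      obtain ⟨R, hR⟩ := (hH.comap_subtype (K := normalizer (H : Set G))).exists_le_sylow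
      obtain ⟨t, ht⟩ := MulAction.exists_smul_eq (normalizer (H : Set G)) R QL
      intro a ha
      refine ⟨⟨a, le_normalizer ha⟩, ?_, rfl⟩
      rw [← ht, Sylow.coe_subgroup_smul]
      exact ⟨t⁻¹ * ⟨a, le_normalizer ha⟩ * t, hR (by
        simpa using (inferInstance : (H.subgroupOf (normalizer (H : Set G))).Normal).conj_mem _
          (show (⟨a, le_normalizer ha⟩ : normalizer (H : Set G)) ∈ H.subgroupOf _ from ha) t⁻¹),
        by simp [mul_assoc]⟩
    refine ⟨H.map (MulAut.conj g).toMonoidHom, hQg ▸ map_mono hHQ, ?_, hact.map _ (MulAut.conj g).injective⟩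
    rw [hQg]
    refine (map_mono ?_).trans (le_normalizer_map _)
    rw [hQ]
    exact map_subtype_le _

end CfsgLib.AutomizerPrime
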