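import Mathlib.LinearAlgebra.Matrix.Charpoly.Minpoly
import Mathlib.LinearAlgebra.Matrix.Charpoly.Coeff
import Mathlib.LinearAlgebra.Matrix.ToLin
import Mathlib.LinearAlgebra.Matrix.Rank
import Mathlib.LinearAlgebra.FiniteDimensional.Lemmas
import Mathlib.LinearAlgebra.Eigenspace.Zero
import Mathlib.RingTheory.AdjoinRoot
import Mathlib.RingTheory.IntegralDomain
import Mathlib.FieldTheory.Finite.Basic
import Mathlib.LinearAlgebra.Matrix.GeneralLinearGroup.Defs

/-!
Cyclic vectors, commutants, regular nilpotent matrices and irreducible cyclic subgroups of `GL_n`.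
-/

set_option autoImplicit false

namespace CfsgLib.CyclicVector

open Matrix Polynomial

variable {F : Type*} [Field F] {n : ℕ}

/-- `v` is a cyclic vector for `M`. -/
def Cyc (M : Matrix (Fin n) (Fin n) F) (v : Fin n → F) : Prop :=
  ∀ w, ∃ P : F[X], aeval M P *ᵥ v = w

theorem commute_aeval (M : Matrix (Fin n) (Fin n) F) {h : Matrix (Fin n) (Fin n) F}
    (hh : Commute h M) (P : F[X]) : Commute h (aeval M P) := by
  induction P using Polynomial.induction_on' with
  | add P Q hP hQ => rw [map_add]; exact hP.add_right hQ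
  | monomial k a =>
    rw [aeval_monomial]
    exact (Algebra.commute_algebraMap_right a h).mul_right (hh.pow_right k)

theorem ext_of_cyc {M : Matrix (Fin n) (Fin n) F} {v : Fin n → F} (hv : Cyc M v)
    {h₁ h₂ : Matrix (Fin n) (Fin n) F} (c₁ : Commute h₁ M) (c₂ : Commute h₂ M)
    (e : h₁ *ᵥ v = h₂ *ᵥ v) : h₁ = h₂ := by
  refine Matrix.ext_of_mulVec_single fun i => ?_
  obtain ⟨P, hP⟩ := hv (Pi.single i 1)
  rw [← hP, mulVec_mulVec, mulVec_mulVec, (commute_aeval M c₁ P).eq, (commute_aeval M c₂ P).eq,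
    ← mulVec_mulVec, ← mulVec_mulVec, e]

/-- Everything commuting with a matrix having a cyclic vector is a polynomial in it. -/
theorem exists_poly_of_commute {M : Matrix (Fin n) (Fin n) F} {v : Fin n → F} (hv : Cyc M v)
    {h : Matrix (Fin n) (Fin n) F} (hh : Commute h M) : ∃ P : F[X], h = aeval M P := by
  obtain ⟨P, hP⟩ := hv (h *ᵥ v)
  exact ⟨P, ext_of_cyc hv hh ((commute_aeval M (Commute.refl M) P).symm) hP.symm⟩

section Nilpotent

variable {N : Matrix (Fin n) (Fin n) F}

theorem finrank_ker_pow_le (hr : n - 1 ≤ N.rank) (k : ℕ) :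
    Module.finrank F (LinearMap.ker (N ^ k).mulVecLin) ≤ k := by
  have h1 : Module.finrank F (LinearMap.ker N.mulVecLin) ≤ 1 := by
    have h := LinearMap.finrank_range_add_finrank_ker N.mulVecLin
    rw [Module.finrank_fin_fun] at h
    have : N.rank = Module.finrank F (LinearMap.range N.mulVecLin) := rfl
    omega
  induction k with
  | zero => simp
  | succ k ih =>
    let f : ↥(LinearMap.ker (N ^ (k + 1)).mulVecLin) →ₗ[F] ↥(LinearMap.ker N.mulVecLin) :=
      ((N ^ k).mulVecLin.comp (Submodule.subtype _)).codRestrict _ fun x => by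
        have hx := x.2
        rw [LinearMap.mem_ker, Matrix.mulVecLin_apply] at hx
        show N *ᵥ (N ^ k *ᵥ (x : Fin n → F)) = 0
        rw [mulVec_mulVec, ← pow_succ']
        exact hx
    have h2 := LinearMap.finrank_range_add_finrank_ker f
    have h3 : Module.finrank F (LinearMap.range f) ≤ 1 := (Submodule.finrank_le _).trans h1
    have h4 : Module.finrank F (LinearMap.ker f) ≤ k := by
      refine le_trans ?_ ih
      refine LinearMap.finrank_le_finrank_of_injective
        (f := ((Submodule.subtype _).comp (LinearMap.ker f).subtype).codRestrict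
          (LinearMap.ker (N ^ k).mulVecLin) fun x => ?_) ?_
      · exact congrArg Subtype.val x.2
      · intro x y hxy
        exact Subtype.ext (Subtype.ext (congrArg Subtype.val hxy :))
    omega

theorem exists_top_vector (hn : 1 ≤ n) (hr : n - 1 ≤ N.rank) :
    ∃ v, N ^ (n - 1) *ᵥ v ≠ 0 := by
  by_contra h
  push Not at h
  have hk := finrank_ker_pow_le hr (n - 1)
  rw [show LinearMap.ker (N ^ (n - 1)).mulVecLin = ⊤ from
    eq_top_iff.mpr fun v _ => h v, finrank_top, Module.finrank_fin_fun] at hk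
  omega

theorem linearIndependent_chain (hnil : N ^ n = 0) {v : Fin n → F} (hv : N ^ (n - 1) *ᵥ v ≠ 0) :
    LinearIndependent F fun i : Fin n => N ^ (i : ℕ) *ᵥ v := by
  rw [Fintype.linearIndependent_iff]
  intro g hg
  by_contra hne
  push Not at hne
  classical
  let S := Finset.univ.filter fun i => g i ≠ 0
  have hS : S.Nonempty := by
    obtain ⟨i, hi⟩ := hne
    exact ⟨i, Finset.mem_filter.mpr ⟨Finset.mem_univ _, hi⟩⟩
  set i₀ := S.min' hS with hi₀
  have hg0 : g i₀ ≠ 0 := (Finset.mem_filter.mp (S.min'_mem hS)).2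
  have e := congrArg (fun w => N ^ (n - 1 - (i₀ : ℕ)) *ᵥ w) hg
  simp only [mulVec_sum, mulVec_smul, mulVec_mulVec, ← pow_add, mulVec_zero] at e
  rw [Finset.sum_eq_single i₀] at e
  · rw [show n - 1 - (i₀ : ℕ) + i₀ = n - 1 by omega] at e
    exact hv ((smul_eq_zero.mp e).resolve_left hg0)
  · intro j _ hj
    rcases lt_or_gt_of_ne hj with hlt | hgt
    · have : g j = 0 := by
        by_contra hj0
        exact absurd (S.min'_le j (Finset.mem_filter.mpr ⟨Finset.mem_univ _, hj0⟩))
          (not_le.mpr hlt)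
      rw [this, zero_smul]
    · rw [pow_eq_zero_of_le (by have : (i₀ : ℕ) < j := hgt; omega) hnil, zero_mulVec, smul_zero]
  · exact fun h => absurd (Finset.mem_univ _) h

theorem cyc_nilpotent (hnil : N ^ n = 0) {v : Fin n → F} (hv : N ^ (n - 1) *ᵥ v ≠ 0) :
    Cyc N v := by
  intro w
  have hw : w ∈ Submodule.span F (Set.range fun i : Fin n => N ^ (i : ℕ) *ᵥ v) := by
    rw [(linearIndependent_chain hnil hv).span_eq_top_of_card_eq_finrank' (by simp)]
    trivial
  obtain ⟨a, ha⟩ := (Submodule.mem_span_range_iff_exists_fun F).mp hw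
  refine ⟨∑ i : Fin n, C (a i) * X ^ (i : ℕ), ?_⟩
  simp only [map_sum, map_mul, aeval_C, map_pow, aeval_X, sum_mulVec, ← Algebra.smul_def,
    smul_mulVec, ha]

/-- The unit polynomials in a regular nilpotent matrix parametrise its centralizer. -/
theorem card_centralizer_nilpotent [Fintype F] {u : GL (Fin n) F} (hn : 1 ≤ n)
    (hu : u.1 - 1 = N) (hnil : N ^ n = 0) (hr : n - 1 ≤ N.rank) :
    Nat.card ↥(Subgroup.centralizer ({u} : Set (GL (Fin n) F))) =
      (Fintype.card F - 1) * Fintype.card F ^ (n - 1) := by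
  classical
  obtain ⟨v, hv⟩ := exists_top_vector hn hr
  have hcyc := cyc_nilpotent hnil hv
  let E : (Fin n → F) → Matrix (Fin n) (Fin n) F := fun a => ∑ i, a i • N ^ (i : ℕ)
  have hEc : ∀ a, Commute (E a) N := fun a =>
    Commute.sum_left _ _ _ fun i _ => ((Commute.refl N).pow_left _).smul_left _
  have hEinj : Function.Injective E := by
    intro a b h
    have e : ∑ i, (a i - b i) • (N ^ (i : ℕ) *ᵥ v) = 0 := by
      have := congrArg (fun M => M *ᵥ v) h
      simp only [E, sum_mulVec, smul_mulVec] at this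
      simp only [sub_smul, Finset.sum_sub_distrib, this, sub_self]
    funext i
    exact sub_eq_zero.mp (Fintype.linearIndependent_iff.mp (linearIndependent_chain hnil hv) _ e i)
  let i₀ : Fin n := ⟨0, hn⟩
  have hsplit : ∀ a, E a = algebraMap F (Matrix (Fin n) (Fin n) F) (a i₀) +
      ∑ i ∈ Finset.univ.erase i₀, a i • N ^ (i : ℕ) := fun a => by
    rw [show E a = ∑ i, a i • N ^ (i : ℕ) from rfl,
      ← Finset.add_sum_erase _ _ (Finset.mem_univ i₀), Algebra.algebraMap_eq_smul_one]
    simp [i₀]
  have hnilR : ∀ a : Fin n → F, IsNilpotent (∑ i ∈ Finset.univ.erase i₀, a i • N ^ (i : ℕ)) := by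
    intro a
    refine Commute.isNilpotent_sum (fun i hi => ?_) fun i j _ _ => ?_
    · refine IsNilpotent.smul ?_ _
      refine IsNilpotent.pow_of_pos ⟨n, hnil⟩ fun h0 => (Finset.mem_erase.mp hi).1 (Fin.ext h0)
    · exact (((Commute.refl N).pow_pow _ _).smul_left _).smul_right _
  have hunit : ∀ a, a i₀ ≠ 0 → IsUnit (E a) := fun a ha => by
    rw [hsplit, add_comm]
    exact (hnilR a).isUnit_add_right_of_commute ((isUnit_iff_ne_zero.mpr ha).map _)
      ((Algebra.commutes (a i₀) _).symm)
  let T := {a : Fin n → F // a i₀ ≠ 0}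
  let f : T → ↥(Subgroup.centralizer ({u} : Set (GL (Fin n) F))) := fun a =>
    ⟨(hunit a.1 a.2).unit, by
      rw [Subgroup.mem_centralizer_singleton_iff]
      refine Units.ext ?_
      show E a.1 * u.1 = u.1 * E a.1
      rw [show u.1 = N + 1 by rw [← hu, sub_add_cancel], Matrix.mul_add, Matrix.add_mul,
        (hEc a.1).eq, Matrix.mul_one, Matrix.one_mul]⟩
  have hf : Function.Bijective f := by
    refine ⟨fun a b h => Subtype.ext (hEinj ?_), fun h => ?_⟩
    · exact congrArg (fun x : ↥(Subgroup.centralizer ({u} : Set (GL (Fin n) F))) =>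
        (x.1 : GL (Fin n) F).1) h
    · have hh : Commute (h.1 : GL (Fin n) F).1 N := by
        have := congrArg (fun x : GL (Fin n) F => x.1)
          (Subgroup.mem_centralizer_singleton_iff.mp h.2)
        rw [← hu]
        exact (show Commute (h.1 : GL (Fin n) F).1 u.1 from this).sub_right (Commute.one_right _)
      have hw : (h.1 : GL (Fin n) F).1 *ᵥ v ∈
          Submodule.span F (Set.range fun i : Fin n => N ^ (i : ℕ) *ᵥ v) := by
        rw [(linearIndependent_chain hnil hv).span_eq_top_of_card_eq_finrank' (by simp)]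
        trivial
      obtain ⟨a, ha⟩ := (Submodule.mem_span_range_iff_exists_fun F).mp hw
      have he : (h.1 : GL (Fin n) F).1 = E a := ext_of_cyc hcyc hh (hEc a) (by
        rw [← ha]; simp only [E, sum_mulVec, smul_mulVec])
      refine ⟨⟨a, fun h0 => ?_⟩, Subtype.ext (Units.ext he.symm)⟩
      have hnot := hnilR a
      have hu' : IsUnit (E a) := he ▸ (h.1 : GL (Fin n) F).isUnit
      rw [hsplit, h0, map_zero, zero_add] at hu'
      haveI : Nonempty (Fin n) := ⟨i₀⟩
      exact hnot.not_isUnit hu'
  rw [← Nat.card_eq_of_bijective f hf]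
  obtain ⟨k, rfl⟩ : ∃ k, n = k + 1 := ⟨n - 1, by omega⟩
  let e : T ≃ Fˣ × (Fin k → F) :=
    { toFun := fun a => (Units.mk0 _ a.2, fun i => a.1 i.succ)
      invFun := fun p => ⟨Fin.cons (p.1 : F) p.2, by
        show (Fin.cons (p.1 : F) p.2 : Fin (k + 1) → F) 0 ≠ 0
        rw [Fin.cons_zero]; exact p.1.ne_zero⟩
      left_inv := fun a => Subtype.ext (funext fun i => by
        refine Fin.cases ?_ (fun j => ?_) i
        · rfl
        · simp)
      right_inv := fun p => Prod.ext (Units.ext rfl) (funext fun i => by simp) }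
  rw [Nat.card_congr e, Nat.card_prod, Nat.card_units, Nat.card_fun, Nat.card_fin,
    Nat.card_eq_fintype_card (α := F), Nat.add_sub_cancel]

/-- Invariant subspaces of a regular nilpotent matrix. -/
theorem invariant_eq_ker (hnil : N ^ n = 0) (hr : n - 1 ≤ N.rank) (W : Submodule F (Fin n → F))
    (hW : ∀ v ∈ W, N *ᵥ v ∈ W) :
    W = LinearMap.ker (N ^ Module.finrank F W).mulVecLin := by
  set d := Module.finrank F W
  refine Submodule.eq_of_le_of_finrank_le ?_ (finrank_ker_pow_le hr d)
  intro w hw
  rw [LinearMap.mem_ker, Matrix.mulVecLin_apply]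
  let g : W →ₗ[F] W := N.mulVecLin.restrict fun v hv => hW v hv
  have hg : ∀ (k : ℕ) (x : W), ((g ^ k) x : Fin n → F) = N ^ k *ᵥ (x : Fin n → F) := by
    intro k
    induction k with
    | zero => intro x; simp
    | succ k ih =>
      intro x
      rw [pow_succ' g, Module.End.mul_apply, pow_succ' N, ← mulVec_mulVec, ← ih]
      rfl
  have hgn : IsNilpotent g := ⟨n, LinearMap.ext fun x => Subtype.ext (by
    rw [hg, hnil, zero_mulVec]; rfl)⟩
  have hgd : g ^ d = 0 := by
    have h1 := IsNilpotent.charpoly_eq_X_pow_finrank hgn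
    have h2 := LinearMap.aeval_self_charpoly g
    rw [h1, map_pow, aeval_X] at h2
    exact h2
  have := hg d ⟨w, hw⟩
  rw [hgd] at this
  exact this.symm

end Nilpotent

section Irreducible

variable [Fintype F]

/-- An element of prime order whose order is primitive for `(q, n)` generates a field acting
regularly; its centralizer is the multiplicative group of that field. -/
theorem centralizer_of_primitive {p : ℕ} [Fact p.Prime] [CharP F p] {r : ℕ} (hn : 1 ≤ n)
    (hr : r.Prime) (hrp : r ≠ p) (hi : orderOf (Fintype.card F : ZMod r) = n)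
    (x : GL (Fin n) F) (hx : orderOf x = r) :
    IsCyclic ↥(Subgroup.centralizer ({x} : Set (GL (Fin n) F))) ∧
      Nat.card ↥(Subgroup.centralizer ({x} : Set (GL (Fin n) F))) = Fintype.card F ^ n - 1 := by
  classical
  haveI := Fact.mk hr
  set M : Matrix (Fin n) (Fin n) F := x.1 with hM
  set P := minpoly F M
  have hPdeg : P.natDegree ≤ n := by
    have := natDegree_le_of_dvd (Matrix.minpoly_dvd_charpoly M) M.charpoly_monic.ne_zero
    simpa [Matrix.charpoly_natDegree_eq_dim] using this
  have hMr : M ^ r = 1 := by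
    rw [hM, ← Units.val_pow_eq_pow_val, ← hx, pow_orderOf_eq_one, Units.val_one]
  have hPint : IsIntegral F M := Algebra.IsIntegral.isIntegral M
  set G : F[X] := ∑ i ∈ Finset.range r, X ^ i
  have hG : (X - 1) * G = X ^ r - 1 := by
    simp only [G]; rw [mul_comm]; exact geom_sum_mul X r
  have hPG : P ∣ (X - 1) * G := minpoly.dvd F M (by rw [hG]; simp [hMr])
  have hG1 : G.eval 1 ≠ 0 := by
    simp only [G, eval_finsetSum, eval_pow, eval_X, one_pow, Finset.sum_const, Finset.card_range,
      nsmul_eq_mul, mul_one]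
    intro h0
    exact hrp ((Nat.prime_dvd_prime_iff_eq Fact.out hr).mp
      ((CharP.cast_eq_zero_iff F p r).mp h0)).symm
  obtain ⟨f, hf, hfP, hfG⟩ : ∃ f : F[X], Irreducible f ∧ f ∣ P ∧ f ∣ G := by
    by_contra hc
    push Not at hc
    have hco : IsCoprime P G := by
      refine isCoprime_of_irreducible_dvd ?_ fun z hz h1 h2 => hc z hz h1 h2
      rintro ⟨h0, -⟩
      exact minpoly.ne_zero hPint h0
    have h1 := hco.dvd_of_dvd_mul_right hPG
    have h2 : aeval M (X - 1 : F[X]) = 0 := aeval_eq_zero_of_dvd_aeval_eq_zero h1 (minpoly.aeval F M)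
    simp [sub_eq_zero] at h2
    have : x = 1 := Units.ext h2
    rw [this, orderOf_one] at hx
    exact hr.one_lt.ne hx
  haveI := Fact.mk hf
  set d := f.natDegree
  let pb := AdjoinRoot.powerBasis hf.ne_zero
  haveI : Module.Finite F (AdjoinRoot f) := pb.finite
  haveI : Finite (AdjoinRoot f) := Module.finite_of_finite F
  have hK : Nat.card (AdjoinRoot f) = Fintype.card F ^ d := by
    rw [Module.natCard_eq_pow_finrank (K := F), pb.finrank, AdjoinRoot.powerBasis_dim,
      Nat.card_eq_fintype_card]
  set ζ := AdjoinRoot.root f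
  have hGζ : aeval ζ G = 0 := by
    rw [AdjoinRoot.aeval_eq, AdjoinRoot.mk_eq_zero]; exact hfG
  have hζr : ζ ^ r = 1 := by
    have := congrArg (aeval ζ) hG
    rw [map_mul, hGζ, mul_zero, map_sub, map_pow, aeval_X, map_one] at this
    exact sub_eq_zero.mp this.symm
  have hζ1 : ζ ≠ 1 := by
    intro h1
    rw [h1] at hGζ
    rw [show (1 : AdjoinRoot f) = algebraMap F _ 1 from (map_one _).symm,
      Polynomial.aeval_algebraMap_apply_eq_algebraMap_eval, map_eq_zero] at hGζ
    exact hG1 hGζ
  have hdvd : r ∣ Fintype.card F ^ d - 1 := by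
    have hz : ζ ≠ 0 := fun h0 => by rw [h0, zero_pow hr.ne_zero] at hζr; exact zero_ne_one hζr
    have ho : orderOf (Units.mk0 ζ hz) = r := orderOf_eq_prime (Units.ext hζr) fun h1 =>
      hζ1 (congrArg Units.val h1)
    have := orderOf_dvd_natCard (Units.mk0 ζ hz)
    rwa [ho, Nat.card_units, hK] at this
  have hnd : n ∣ d := by
    rw [← hi]
    refine orderOf_dvd_of_pow_eq_one ?_
    rw [← Nat.cast_pow, ← Nat.cast_one, ZMod.natCast_eq_natCast_iff']
    exact ((Nat.modEq_iff_dvd' (Nat.one_le_pow _ _ Fintype.card_pos)).mpr hdvd).symm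
  have hd : d = n := by
    have h1 : d ≤ P.natDegree := natDegree_le_of_dvd hfP (minpoly.ne_zero hPint)
    have h2 := Nat.le_of_dvd hf.natDegree_pos hnd
    omega
  have hassoc : Associated f P := associated_of_dvd_of_natDegree_le hfP (minpoly.ne_zero hPint)
    (by show P.natDegree ≤ d; omega)
  have hfM : aeval M f = 0 := aeval_eq_zero_of_dvd_aeval_eq_zero hassoc.symm.dvd (minpoly.aeval F M)
  let ψ : AdjoinRoot f →ₐ[F] Matrix (Fin n) (Fin n) F :=
    { toFun := fun a => aeval M (Quotient.out a : F[X])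
      map_one' := ?_
      map_mul' := ?_
      map_zero' := ?_
      map_add' := ?_
      commutes' := ?_ }
  rotate_left
  all_goals
    have key : ∀ Q : F[X], aeval M (Quotient.out (AdjoinRoot.mk f Q) : F[X]) = aeval M Q := by
      intro Q
      have h := AdjoinRoot.mk_eq_mk.mp
        (show AdjoinRoot.mk f (Quotient.out (AdjoinRoot.mk f Q) : F[X]) = AdjoinRoot.mk f Q from
          Quotient.out_eq _)
      have := aeval_eq_zero_of_dvd_aeval_eq_zero h hfM
      rwa [map_sub, sub_eq_zero] at this
  · show aeval M (Quotient.out (1 : AdjoinRoot f) : F[X]) = 1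
    rw [← map_one (AdjoinRoot.mk f), key, map_one]
  · intro a b
    induction a using AdjoinRoot.induction_on with | ih A => ?_
    induction b using AdjoinRoot.induction_on with | ih B => ?_
    show aeval M (Quotient.out (AdjoinRoot.mk f A * AdjoinRoot.mk f B) : F[X]) = _ * _
    rw [← map_mul, key, key, key, map_mul]
  · show aeval M (Quotient.out (0 : AdjoinRoot f) : F[X]) = 0
    rw [← map_zero (AdjoinRoot.mk f), key, map_zero]
  · intro a b
    induction a using AdjoinRoot.induction_on with | ih A => ?_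
    induction b using AdjoinRoot.induction_on with | ih B => ?_
    show aeval M (Quotient.out (AdjoinRoot.mk f A + AdjoinRoot.mk f B) : F[X]) = _ + _
    rw [← map_add, key, key, key, map_add]
  · intro c
    show aeval M (Quotient.out (algebraMap F (AdjoinRoot f) c) : F[X]) = _
    rw [AdjoinRoot.algebraMap_eq, ← AdjoinRoot.mk_C, key, aeval_C]
  have hψ : ∀ Q : F[X], ψ (AdjoinRoot.mk f Q) = aeval M Q := fun Q => key Q
  haveI : Nonempty (Fin n) := ⟨⟨0, hn⟩⟩
  let v : Fin n → F := Pi.single ⟨0, hn⟩ 1
  have hv : v ≠ 0 := fun h => by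
    have := congrFun h ⟨0, hn⟩
    simp [v] at this
  let ev : AdjoinRoot f →ₗ[F] (Fin n → F) :=
    { toFun := fun a => ψ a *ᵥ v
      map_add' := fun a b => by rw [map_add, add_mulVec]
      map_smul' := fun c a => by rw [map_smul, smul_mulVec, RingHom.id_apply] }
  have hev : Function.Bijective ev := by
    have hinj : Function.Injective ev := by
      rw [injective_iff_map_eq_zero]
      intro a ha
      by_contra h0
      apply hv
      have : ψ a⁻¹ *ᵥ (ψ a *ᵥ v) = 0 := by
        rw [show ψ a *ᵥ v = 0 from ha, mulVec_zero]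
      rwa [mulVec_mulVec, ← map_mul, inv_mul_cancel₀ h0, map_one, one_mulVec] at this
    rw [Nat.bijective_iff_injective_and_card]
    exact ⟨hinj, by rw [hK, hd, Nat.card_fun, Nat.card_fin, Nat.card_eq_fintype_card]⟩
  have hcyc : Cyc M v := fun w => by
    obtain ⟨a, ha⟩ := hev.2 w
    induction a using AdjoinRoot.induction_on with | ih A => ?_
    exact ⟨A, by rw [← hψ]; exact ha⟩
  let φ : (AdjoinRoot f)ˣ →* ↥(Subgroup.centralizer ({x} : Set (GL (Fin n) F))) :=
    (Units.map ψ.toRingHom.toMonoidHom).codRestrict _ fun a => by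
      rw [Subgroup.mem_centralizer_singleton_iff]
      refine Units.ext ?_
      show ψ a * M = M * ψ a
      rw [← aeval_X (R := F) M, ← hψ, ← map_mul, ← map_mul, mul_comm]
  have hφ : Function.Bijective φ := by
    have hψinj : Function.Injective ψ := ψ.toRingHom.injective
    refine ⟨fun a b h => Units.ext (hψinj (congrArg (fun y : ↥(Subgroup.centralizer
      ({x} : Set (GL (Fin n) F))) => (y.1 : GL (Fin n) F).1) h)), fun h => ?_⟩
    have hh : Commute (h.1 : GL (Fin n) F).1 M := congrArg (fun y : GL (Fin n) F => y.1)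
      (Subgroup.mem_centralizer_singleton_iff.mp h.2)
    obtain ⟨A, hA⟩ := exists_poly_of_commute hcyc hh
    have hne : AdjoinRoot.mk f A ≠ 0 := fun h0 => by
      rw [← hψ, h0, map_zero] at hA
      exact (h.1 : GL (Fin n) F).isUnit.ne_zero hA
    exact ⟨Units.mk0 _ hne, Subtype.ext (Units.ext ((hψ A).trans hA.symm))⟩
  refine ⟨isCyclic_of_surjective φ hφ.2, ?_⟩
  rw [← Nat.card_eq_of_bijective φ hφ, Nat.card_units, hK, hd]

end Irreducible

end CfsgLib.CyclicVector
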