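import Mathlib
import Cfsg.Prelude.Def_Sz

/-!
Basic facts on the Suzuki matrix groups: the defining set is a subgroup, and elements with a
nonzero fixed vector are unipotent.
-/

set_option autoImplicit false

namespace CfsgLib.Suzuki

open Matrix Cfsg.Lie

variable {F : Type*} [Field F]

local notation "M4" => Matrix (Fin 4) (Fin 4) F

/-- The alternating form matrix. -/
def J : M4 := Matrix.of fun i j => if (i : ℕ) + j = 3 then 1 else 0

theorem altForm4_eq (u v : Fin 4 → F) : altForm4 u v = u ⬝ᵥ J *ᵥ v := by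
  simp [altForm4, J, dotProduct, mulVec, Fin.sum_univ_four]

theorem J_sq : (J : M4) * J = 1 := by
  ext i j
  fin_cases i <;> fin_cases j <;> simp [J, Matrix.mul_apply, Fin.sum_univ_four]

theorem mem_Sp4_iff (g : GL (Fin 4) F) : g ∈ Sp4 F ↔ g.1ᵀ * J * g.1 = J := by
  show (∀ u v, altForm4 (g.1 *ᵥ u) (g.1 *ᵥ v) = altForm4 u v) ↔ _
  simp only [altForm4_eq]
  constructor
  · intro h
    ext i j
    have h' := h (Pi.single i 1) (Pi.single j 1)
    rw [← vecMul_transpose, ← dotProduct_mulVec, mulVec_mulVec, mulVec_mulVec] at h'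
    simpa using h'
  · intro h u v
    rw [← vecMul_transpose, ← dotProduct_mulVec, mulVec_mulVec, mulVec_mulVec, h]

/-- The inverse of a symplectic matrix is `J gᵀ J`. -/
theorem inv_eq {g : GL (Fin 4) F} (hg : g ∈ Sp4 F) : (g⁻¹).1 = J * g.1ᵀ * J := by
  have h := (mem_Sp4_iff g).1 hg
  have h1 : (J * g.1ᵀ * J) * g.1 = 1 := by
    rw [Matrix.mul_assoc J, Matrix.mul_assoc J, h, J_sq]
  calc (g⁻¹).1 = (J * g.1ᵀ * J) * g.1 * (g⁻¹).1 := by rw [h1, Matrix.one_mul]
    _ = _ := by rw [Matrix.mul_assoc, ← Units.val_mul, mul_inv_cancel, Units.val_one, Matrix.mul_one]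

/-- Rows of a symplectic matrix form a symplectic basis as well. -/
theorem row_rel {g : GL (Fin 4) F} (hg : g ∈ Sp4 F) (k l : Fin 4) :
    g.1 k 0 * g.1 l 3 + g.1 k 1 * g.1 l 2 + g.1 k 2 * g.1 l 1 + g.1 k 3 * g.1 l 0 =
      (J : M4) k l := by
  have h : g.1 * J * g.1ᵀ = J := by
    have h1 : g.1 * (g⁻¹).1 = 1 := by rw [← Units.val_mul, mul_inv_cancel, Units.val_one]
    rw [inv_eq hg] at h1
    calc g.1 * J * g.1ᵀ = g.1 * (J * g.1ᵀ * J) * J := by
          simp only [Matrix.mul_assoc, J_sq, Matrix.mul_one]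
      _ = J := by rw [h1, Matrix.one_mul]
  have h' := congrFun (congrFun h k) l
  simp [Matrix.mul_apply, Fin.sum_univ_four, J] at h'
  rw [← show _ = (J : M4) k l from h']
  ring

theorem col_rel {g : GL (Fin 4) F} (hg : g ∈ Sp4 F) (i j : Fin 4) :
    g.1 0 i * g.1 3 j + g.1 1 i * g.1 2 j + g.1 2 i * g.1 1 j + g.1 3 i * g.1 0 j =
      (J : M4) i j := by
  have h' := congrFun (congrFun ((mem_Sp4_iff g).1 hg) i) j
  simp [Matrix.mul_apply, Fin.sum_univ_four, J] at h'
  rw [← show _ = (J : M4) i j from h']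
  ring

theorem J_pairOf (p : Fin 4) : (J : M4) (pairOf p).1 (pairOf p).2 = 0 := by
  fin_cases p <;> simp [J, pairOf]

/-- The sum of the principal `2 × 2` minors. -/
def e2 {R : Type*} [CommRing R] (M : Matrix (Fin 4) (Fin 4) R) : R :=
  (M 0 0 * M 1 1 - M 0 1 * M 1 0) + (M 0 0 * M 2 2 - M 0 2 * M 2 0) +
    (M 0 0 * M 3 3 - M 0 3 * M 3 0) + (M 1 1 * M 2 2 - M 1 2 * M 2 1) +
    (M 1 1 * M 3 3 - M 1 3 * M 3 1) + (M 2 2 * M 3 3 - M 2 3 * M 3 2)

open Polynomial in
theorem charpoly_four {R : Type*} [CommRing R] (M : Matrix (Fin 4) (Fin 4) R) :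
    M.charpoly = X ^ 4 - C M.trace * X ^ 3 + C (e2 M) * X ^ 2 - C M.adjugate.trace * X +
      C M.det := by
  simp only [Matrix.charpoly, e2, Matrix.trace, Matrix.diag_apply, Fin.sum_univ_four,
    Matrix.adjugate_fin_succ_eq_det_submatrix]
  simp [Matrix.det_succ_row_zero, Fin.sum_univ_succ, Fin.succAbove, Matrix.charmatrix_apply]
  ring

variable [CharP F 2]

/-- The map `g ↦ g*` is multiplicative on the symplectic group. -/
theorem star4_mul {g h : GL (Fin 4) F} (hg : g ∈ Sp4 F) (hh : h ∈ Sp4 F) :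
    star4 (g * h).1 = star4 g.1 * star4 h.1 := by
  have key : ∀ k l i j : Fin 4,
      g.1 k 0 * g.1 l 3 + g.1 k 1 * g.1 l 2 + g.1 k 2 * g.1 l 1 + g.1 k 3 * g.1 l 0 = 0 →
      h.1 0 i * h.1 3 j + h.1 1 i * h.1 2 j + h.1 2 i * h.1 1 j + h.1 3 i * h.1 0 j = 0 →
      (g.1 * h.1) k i * (g.1 * h.1) l j - (g.1 * h.1) l i * (g.1 * h.1) k j =
        (g.1 k 0 * g.1 l 1 - g.1 l 0 * g.1 k 1) * (h.1 0 i * h.1 1 j - h.1 1 i * h.1 0 j) +
        (g.1 k 0 * g.1 l 2 - g.1 l 0 * g.1 k 2) * (h.1 0 i * h.1 2 j - h.1 2 i * h.1 0 j) +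
        (g.1 k 1 * g.1 l 3 - g.1 l 1 * g.1 k 3) * (h.1 1 i * h.1 3 j - h.1 3 i * h.1 1 j) +
        (g.1 k 2 * g.1 l 3 - g.1 l 2 * g.1 k 3) * (h.1 2 i * h.1 3 j - h.1 3 i * h.1 2 j) := by
    intro k l i j hr hc
    simp only [Matrix.mul_apply, Fin.sum_univ_four]
    have h2 : (2 : F) = 0 := CharTwo.two_eq_zero
    have h4 : (4 : F) = 0 := by linear_combination 2 * h2
    linear_combination (norm := (ring_nf; simp [h2, h4]))
      (g.1 k 0 * g.1 l 3 - g.1 l 0 * g.1 k 3) * hc +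
      (h.1 1 i * h.1 2 j - h.1 2 i * h.1 1 j) * hr
  ext p r
  have hk := key (pairOf p).1 (pairOf p).2 (pairOf r).1 (pairOf r).2
    (by rw [row_rel hg, J_pairOf]) (by rw [col_rel hh, J_pairOf])
  rw [Matrix.mul_apply, Fin.sum_univ_four]
  simpa [star4, pairOf] using hk

omit [CharP F 2] in
theorem star4_one : star4 (1 : M4) = 1 := by
  ext p r
  fin_cases p <;> fin_cases r <;> simp [star4, pairOf, Matrix.one_apply]

/-- The predicate defining `Sz`. -/
def IsSz (e : ℕ) (g : GL (Fin 4) F) : Prop :=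
  g ∈ Sp4 F ∧ star4 g.1 = g.1.map (fun x => x ^ e)

theorem map_pow_mul (a : ℕ) (A B : M4) :
    (A * B).map (fun x => x ^ 2 ^ a) = A.map (fun x => x ^ 2 ^ a) * B.map (fun x => x ^ 2 ^ a) := by
  haveI : Fact (Nat.Prime 2) := ⟨Nat.prime_two⟩
  exact Matrix.map_mul (f := iterateFrobenius F 2 a)

theorem mem_Sz_iff [Finite F] {a : ℕ} {g : GL (Fin 4) F} :
    g ∈ Sz F (2 ^ a) ↔ IsSz (2 ^ a) g := by
  refine ⟨fun h => ?_, fun h => Subgroup.subset_closure h⟩
  have hmul : ∀ x y : GL (Fin 4) F, IsSz (2 ^ a) x → IsSz (2 ^ a) y → IsSz (2 ^ a) (x * y) := by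
    intro x y hx hy
    refine ⟨mul_mem hx.1 hy.1, ?_⟩
    rw [star4_mul hx.1 hy.1, hx.2, hy.2, ← map_pow_mul, ← Units.val_mul]
  have hone : IsSz (2 ^ a) (1 : GL (Fin 4) F) := by
    refine ⟨one_mem _, ?_⟩
    rw [Units.val_one, star4_one]
    exact (Matrix.map_one (fun x : F => x ^ 2 ^ a) (zero_pow (pow_ne_zero _ two_ne_zero))
      (one_pow _)).symm
  have hpow : ∀ x : GL (Fin 4) F, IsSz (2 ^ a) x → ∀ i : ℕ, IsSz (2 ^ a) (x ^ i) := fun x hx i => by
    induction i with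
    | zero => rw [pow_zero]; exact hone
    | succ i ih => rw [pow_succ]; exact hmul _ _ ih hx
  induction h using Subgroup.closure_induction with
  | mem x hx => exact hx
  | one => exact hone
  | mul x y _ _ hx hy => exact hmul x y hx hy
  | inv x _ hx =>
    rw [show x⁻¹ = x ^ (orderOf x - 1) from inv_eq_of_mul_eq_one_right (by
      rw [← pow_succ', Nat.sub_add_cancel (orderOf_pos x), pow_orderOf_eq_one])]
    exact hpow x hx _

/-- A symplectic element with a fixed vector whose star has trace a power of its trace. -/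
theorem pow_four_eq_one {a : ℕ} {g : GL (Fin 4) F} (hg : IsSz (2 ^ a) g) {v : Fin 4 → F}
    (hv : v ≠ 0) (hfix : g.1 *ᵥ v = v) : g ^ 4 = 1 := by
  obtain ⟨hsp, hstar⟩ := hg
  set M := g.1 with hM
  have h2 : (2 : F) = 0 := CharTwo.two_eq_zero
  -- determinant
  have hdet : M.det = 1 := by
    have h := congrArg Matrix.det ((mem_Sp4_iff g).1 hsp)
    have hJ : (J : M4).det * (J : M4).det = 1 := by rw [← Matrix.det_mul, J_sq, Matrix.det_one]
    rw [Matrix.det_mul, Matrix.det_mul, Matrix.det_transpose] at h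
    have h' : (M.det - 1) * (M.det - 1) = 0 := by
      linear_combination (J : M4).det * h - M.det * M.det * hJ + hJ + (1 - M.det) * h2
    exact sub_eq_zero.1 (mul_self_eq_zero.1 h')
  have he₃ : M.adjugate.trace = M.trace := by
    have hadj : M.adjugate = (g⁻¹).1 := by
      calc M.adjugate = M.adjugate * (M * (g⁻¹).1) := by
            rw [hM, ← Units.val_mul, mul_inv_cancel, Units.val_one, Matrix.mul_one]
        _ = (g⁻¹).1 := by
            rw [← Matrix.mul_assoc, Matrix.adjugate_mul, hdet, one_smul, Matrix.one_mul]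
    rw [hadj, inv_eq hsp, Matrix.trace_mul_comm, ← Matrix.mul_assoc, J_sq, Matrix.one_mul,
      Matrix.trace_transpose]
  have hstar' : e2 M = (star4 M).trace := by
    have r03 := col_rel hsp 0 3
    have r12 := row_rel hsp 1 2
    simp [J] at r03 r12
    rw [← hM] at r03 r12
    simp [e2, Matrix.trace, Matrix.diag_apply, Fin.sum_univ_four, star4, pairOf]
    have h4 : (4 : F) = 0 := by linear_combination 2 * h2
    linear_combination (norm := (ring_nf; simp [h2, h4])) r03 + r12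
  have htr : e2 M = M.trace ^ 2 ^ a := by
    haveI : Fact (Nat.Prime 2) := ⟨Nat.prime_two⟩
    rw [hstar', hstar]
    simp only [Matrix.trace, Matrix.diag_apply, Matrix.map_apply, Fin.sum_univ_four, add_pow_char_pow]
  have h0 : M.charpoly.eval 1 = 0 := by
    rw [Matrix.eval_charpoly]
    exact Matrix.exists_mulVec_eq_zero_iff.1 ⟨v, hv, by
      rw [map_one, Matrix.sub_mulVec, Matrix.one_mulVec, hfix, sub_self]⟩
  rw [charpoly_four, he₃, hdet] at h0
  simp at h0
  have he₂0 : e2 M = 0 := by linear_combination h0 + (M.trace - 1) * h2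
  have he₁0 : M.trace = 0 := (pow_eq_zero_iff (by positivity)).1 (htr.symm.trans he₂0)
  have := Matrix.aeval_self_charpoly M
  rw [charpoly_four, he₃, hdet, he₂0, he₁0] at this
  simp at this
  apply Units.ext
  rw [Units.val_pow_eq_pow_val, ← hM, Units.val_one, eq_neg_of_add_eq_zero_left this]
  ext i j
  simp [CharTwo.neg_eq]

/-- An involution of every Suzuki group. -/
theorem exists_involution (e : ℕ) (he : e ≠ 0) : ∃ g ∈ Sz F e, g ≠ 1 ∧ g ^ 2 = 1 := by
  let C0 : M4 := !![1, 1, 0, 1; 1, 0, 1, 0; 1, 0, 0, 1; 1, 1, 1, 1]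
  have h2 : (2 : F) = 0 := CharTwo.two_eq_zero
  have hC : C0 * C0 = 1 := by
    ext i j
    fin_cases i <;> fin_cases j <;>
      simp [C0, Matrix.mul_apply, Fin.sum_univ_four, CharTwo.add_self_eq_zero]
  refine ⟨⟨C0, C0, hC, hC⟩, Subgroup.subset_closure ⟨?_, ?_⟩, fun h => ?_, ?_⟩
  · rw [mem_Sp4_iff]
    ext i j
    fin_cases i <;> fin_cases j <;>
      simp [C0, J, Matrix.mul_apply, Fin.sum_univ_four, CharTwo.add_self_eq_zero]
  · ext i j
    fin_cases i <;> fin_cases j <;>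
      simp [C0, star4, pairOf, he, CharTwo.sub_eq_add, CharTwo.add_self_eq_zero]
  · have := congrArg (fun x : GL (Fin 4) F => x.1 1 1) h
    simp [C0] at this
  · exact Units.ext (by rw [sq]; exact hC)

end CfsgLib.Suzuki
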