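import Cfsg.Agent.Lib.UnitaryFourSylow
import Cfsg.Agent.Lib.Basic

/-!
The automorphism group of a Sylow 2-subgroup of `SU(3, 2ⁿ)`.
-/

set_option autoImplicit false
set_option linter.unusedSectionVars false

namespace CfsgLib.UnitarySylowAut

open Matrix CfsgLib.PSUBorel

variable {F : Type*} [Field F] [Fintype F]

/-- Coordinates for the Heisenberg-type group. -/
structure Model (c : Conj F) (W : Type*) [Group W] where
  κ : W → F × F
  inj : Function.Injective κ
  mul : ∀ x y, κ (x * y) = ((κ x).1 + (κ y).1, (κ y).2 - (κ x).1 * c.σ (κ y).1 + (κ x).2)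
  range : ∀ a b : F, (∃ x, κ x = (a, b)) ↔ b + c.σ b + a * c.σ a = 0

variable {c : Conj F} [CharP F 2]

/-- The fixed elements. -/
def fixed (c : Conj F) : AddSubgroup F where
  carrier := {b | c.σ b = b}
  zero_mem' := map_zero _
  add_mem' {a b} ha hb := by show c.σ (a + b) = a + b; rw [map_add, show c.σ a = a from ha, show c.σ b = b from hb]
  neg_mem' {a} ha := by show c.σ (-a) = -a; rw [map_neg, show c.σ a = a from ha]

theorem mem_fixed {b : F} : b ∈ fixed c ↔ c.σ b = b := Iff.rfl

theorem norm_fixed (a : F) : a * c.σ a ∈ fixed c := by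
  rw [mem_fixed, map_mul, c.invol, mul_comm]

theorem bilin_fixed (x y : F) : x * c.σ y + y * c.σ x ∈ fixed c := by
  rw [mem_fixed, map_add, map_mul, map_mul, c.invol, c.invol]
  ring

/-- The semilinear maps are the only additive maps compatible with the norm. -/
theorem classify (g : F →+ F) (hg : Function.Bijective g) (h : F → F)
    (hadd : ∀ k ∈ fixed c, ∀ l ∈ fixed c, h (k + l) = h k + h l)
    (hN : ∀ a, h (a * c.σ a) = g a * c.σ (g a)) :
    ∃ (u : Fˣ) (φ : F ≃+* F), ∀ a, g a = u * φ a := by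
  classical
  have h2 : (2 : F) = 0 := CharTwo.two_eq_zero
  have hT : ∀ x y, h (x * c.σ y + y * c.σ x) = g x * c.σ (g y) + g y * c.σ (g x) := by
    intro x y
    have e := hN (x + y)
    rw [show (x + y) * c.σ (x + y) = x * c.σ x + y * c.σ y + (x * c.σ y + y * c.σ x) by rw [map_add]; ring,
      hadd _ ((fixed c).add_mem (norm_fixed x) (norm_fixed y)) _ (bilin_fixed x y),
      hadd _ (norm_fixed x) _ (norm_fixed y), hN, hN, map_add, map_add] at e
    linear_combination e
  have h00 : h 0 = 0 := by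
    have := hadd 0 (zero_mem _) 0 (zero_mem _)
    rw [add_zero] at this
    linear_combination this + (0 : F) * h2 - this * 2
  have hinj : ∀ k ∈ fixed c, h k = 0 → k = 0 := by
    intro k hk e
    obtain ⟨a, ha⟩ := c.exists_norm hk
    rw [← ha, hN] at e
    rw [← ha]
    rcases mul_eq_zero.1 e with e1 | e1
    · rw [(map_eq_zero_iff g hg.1).1 e1, zero_mul]
    · rw [map_eq_zero] at e1
      rw [(map_eq_zero_iff g hg.1).1 e1, zero_mul]
  set u := g 1 with hu
  have hu0 : u ≠ 0 := fun e => one_ne_zero ((map_eq_zero_iff g hg.1).1 e)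
  have hσu0 : c.σ u ≠ 0 := fun e => hu0 ((map_eq_zero _).1 e)
  set f : F → F := fun a => g a / u with hf
  have fadd : ∀ a b, f (a + b) = f a + f b := fun a b => by simp only [hf, map_add, add_div]
  have f1 : f 1 = 1 := div_self hu0
  set hh : F → F := fun k => h k / (u * c.σ u) with hhd
  have fT : ∀ x y, hh (x * c.σ y + y * c.σ x) = f x * c.σ (f y) + f y * c.σ (f x) := by
    intro x y
    simp only [hhd, hf, hT, map_div₀]
    field_simp
  have fN : ∀ x, hh (x * c.σ x) = f x * c.σ (f x) := by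
    intro x
    simp only [hhd, hf, hN, map_div₀]
    field_simp
  have hhinj : ∀ k ∈ fixed c, hh k = 0 → k = 0 := fun k hk e =>
    hinj k hk ((div_eq_zero_iff.1 e).resolve_right (mul_ne_zero hu0 hσu0))
  have hh0 : hh 0 = 0 := by simp [hhd, h00]
  -- the fixed field is preserved
  have hfix : ∀ k, k ∈ fixed c ↔ f k ∈ fixed c := by
    intro k
    have e := fT 1 k
    rw [f1, map_one, mul_one, one_mul, one_mul, mul_one] at e
    have hmem : c.σ k + k ∈ fixed c := by simpa using bilin_fixed (c := c) 1 k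
    constructor
    · intro hk
      rw [mem_fixed] at hk ⊢
      rw [hk, CharTwo.add_self_eq_zero, hh0] at e
      exact (CharTwo.add_eq_zero.1 e.symm)
    · intro hk
      rw [mem_fixed] at hk ⊢
      rw [hk, CharTwo.add_self_eq_zero] at e
      exact CharTwo.add_eq_zero.1 (hhinj _ hmem e)
  -- semilinearity
  have hsemi : ∀ x, x ∉ fixed c → ∀ k ∈ fixed c, f (k * x) = f k * f x := by
    intro x hx k hk
    have hσk : c.σ k = k := hk
    have hfx : f x ∉ fixed c := fun e => hx ((hfix x).2 e)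
    have hσfk : c.σ (f k) = f k := (hfix k).1 hk
    have line : ∀ y, y ≠ 0 → f y ≠ 0 → ∀ l ∈ fixed c, ∃ m ∈ fixed c, f (l * y) = m * f y := by
      intro y hy hfy l hl
      have hσl : c.σ l = l := hl
      have e := fT y (l * y)
      rw [map_mul, hσl, show y * (l * c.σ y) + l * y * c.σ y = 0 by
        linear_combination (l * y * c.σ y) * h2, hh0] at e
      have e' := CharTwo.add_eq_zero.1 e.symm
      have hs : c.σ (f y) ≠ 0 := fun e => hfy ((map_eq_zero _).1 e)
      refine ⟨f (l * y) / f y, ?_, (div_mul_cancel₀ _ hfy).symm⟩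
      rw [mem_fixed, map_div₀, div_eq_div_iff hs hfy]
      linear_combination e'
    have hne : ∀ y, y ≠ 0 → f y ≠ 0 := fun y hy e =>
      hy ((map_eq_zero_iff g hg.1).1 ((div_eq_zero_iff.1 e).resolve_right hu0))
    have hx0 : x ≠ 0 := fun e => hx (e ▸ zero_mem _)
    obtain ⟨m, hm, em⟩ := line x hx0 (hne x hx0) k hk
    have hx1 : x + 1 ≠ 0 := fun e => hx (by rw [CharTwo.add_eq_zero.1 e]; exact map_one c.σ)
    obtain ⟨m', hm', em'⟩ := line (x + 1) hx1 (hne _ hx1) k hk
    rw [mul_add, mul_one, fadd, fadd, f1, em] at em'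
    have hσm : c.σ m = m := hm
    have hσm' : c.σ m' = m' := hm'
    have key : m = m' := by
      by_contra hmm
      refine hfx ?_
      have h3 : f x = (m' - f k) / (m - m') := by
        rw [eq_div_iff (sub_ne_zero.2 hmm)]
        linear_combination em'
      rw [mem_fixed, h3, map_div₀, map_sub, map_sub, hσm, hσm', hσfk]
    subst key
    rw [em, show f k = m by linear_combination em']
  obtain ⟨w, hw⟩ : ∃ w, w ∉ fixed c := c.exists_moved
  have hKmul : ∀ k ∈ fixed c, ∀ l ∈ fixed c, f (k * l) = f k * f l := by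
    intro k hk l hl
    rcases eq_or_ne l 0 with rfl | hl0
    · have : f 0 = 0 := by simp [hf]
      rw [mul_zero, this, mul_zero]
    have hlw : l * w ∉ fixed c := fun e => hw (by
      rw [mem_fixed, map_mul, show c.σ l = l from hl] at e
      exact mul_left_cancel₀ hl0 e)
    have hkl : k * l ∈ fixed c := by
      rw [mem_fixed, map_mul, show c.σ k = k from hk, show c.σ l = l from hl]
    have hfw : f w ≠ 0 := fun e => hw (((hfix w).2 (e ▸ zero_mem _)))
    refine mul_right_cancel₀ hfw ?_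
    rw [← hsemi w hw _ hkl, mul_assoc k, hsemi _ hlw k hk, hsemi w hw l hl, mul_assoc]
  have hlin : ∀ k ∈ fixed c, ∀ x, f (k * x) = f k * f x := fun k hk x => by
    by_cases hx : x ∈ fixed c
    · exact hKmul k hk x hx
    · exact hsemi x hx k hk
  have hhK : ∀ k ∈ fixed c, hh k = f k := by
    intro k hk
    obtain ⟨s, hs⟩ := (Finite.injective_iff_bijective.1 (frobenius_inj F 2)).2 k
    rw [frobenius_def] at hs
    have hsfix : s ∈ fixed c := by
      refine frobenius_inj F 2 ?_
      rw [frobenius_def, frobenius_def, ← map_pow, hs]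
      exact hk
    have e := fN s
    rw [show c.σ s = s from hsfix, show c.σ (f s) = f s from (hfix s).1 hsfix, ← sq, hs] at e
    rw [e, ← hKmul s hsfix s hsfix, ← sq, hs]
  have hsq : ∀ x, f (x * x) = f x * f x := by
    intro x
    have hT1 : x + c.σ x ∈ fixed c := by
      rw [mem_fixed, map_add, c.invol, add_comm]
    have e1 := fT x 1
    rw [f1, map_one, mul_one, one_mul, mul_one, one_mul, hhK _ hT1] at e1
    have e2 := fN x
    rw [hhK _ (norm_fixed x)] at e2
    have e3 : x * x = (x + c.σ x) * x + x * c.σ x := by linear_combination -(x * c.σ x) * h2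
    rw [e3, fadd, hlin _ hT1, e1, e2]
    linear_combination (f x * c.σ (f x)) * h2
  have hmul : ∀ x y, f (x * y) = f x * f y := by
    intro x y
    by_cases hx : x ∈ fixed c
    · exact hlin x hx y
    have hd : x + c.σ x ≠ 0 := fun e => hx (CharTwo.add_eq_zero.1 e).symm
    set t := (y + c.σ y) / (x + c.σ x) with ht
    have htf : t ∈ fixed c := by
      rw [mem_fixed, ht, map_div₀, map_add, map_add, c.invol, c.invol, add_comm, add_comm (c.σ x)]
    set r := y + t * x with hr
    have hrf : r ∈ fixed c := by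
      rw [mem_fixed, hr, map_add, map_mul, show c.σ t = t from htf]
      have e : t * (x + c.σ x) = y + c.σ y := div_mul_cancel₀ _ hd
      linear_combination e + (c.σ y - t * x) * h2
    have hy : y = r + t * x := by rw [hr]; linear_combination -(t * x) * h2
    rw [hy, fadd, hlin t htf, show x * (r + t * x) = r * x + t * (x * x) by ring, fadd, hlin r hrf, hlin t htf, hsq]
    ring
  let φ₀ : F →+* F :=
    { toFun := f, map_one' := f1, map_mul' := hmul, map_zero' := by simp [hf], map_add' := fadd }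
  refine ⟨Units.mk0 u hu0, RingEquiv.ofBijective φ₀ (Finite.injective_iff_bijective.1 φ₀.injective), fun a => ?_⟩
  show g a = u * (g a / u)
  rw [mul_div_cancel₀ _ hu0]

variable {W : Type*} [Group W]

theorem Model.mem (M : Model c W) (x : W) :
    (M.κ x).2 + c.σ (M.κ x).2 + (M.κ x).1 * c.σ (M.κ x).1 = 0 := (M.range _ _).1 ⟨x, rfl⟩

theorem Model.one (M : Model c W) : M.κ 1 = (0, 0) := by
  have h := M.mul 1 1
  rw [mul_one] at h
  have h1 : (M.κ 1).1 = 0 := by simpa using congrArg Prod.fst h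
  have h2 := congrArg Prod.snd h
  simp [h1] at h2
  exact Prod.ext h1 h2

theorem Model.sq (M : Model c W) (x : W) : M.κ (x * x) = (0, (M.κ x).1 * c.σ (M.κ x).1) := by
  rw [M.mul]
  refine Prod.ext (CharTwo.add_self_eq_zero _) ?_
  show _ = _
  linear_combination ((M.κ x).2 - (M.κ x).1 * c.σ (M.κ x).1) * (CharTwo.two_eq_zero (R := F))

theorem Model.sq_eq_one (M : Model c W) (x : W) : x * x = 1 ↔ (M.κ x).1 = 0 := by
  rw [← M.inj.eq_iff, M.sq, M.one, Prod.mk.injEq, mul_eq_zero]
  exact ⟨fun h => h.2.elim id fun h' => (map_eq_zero _).1 h', fun h => ⟨rfl, Or.inl h⟩⟩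

/-- The automorphisms preserve the fibres. -/
theorem Model.fibre (M : Model c W) (θ : MulAut W) {x y : W} (h : (M.κ x).1 = (M.κ y).1) :
    (M.κ (θ x)).1 = (M.κ (θ y)).1 := by
  have hy : (M.κ y⁻¹).1 = (M.κ y).1 := by
    have := congrArg Prod.fst (M.mul y⁻¹ y)
    rw [inv_mul_cancel, M.one] at this
    exact CharTwo.add_eq_zero.1 this.symm
  have h1 : (x * y⁻¹) * (x * y⁻¹) = 1 := by
    rw [M.sq_eq_one, M.mul]
    show (M.κ x).1 + (M.κ y⁻¹).1 = 0
    rw [hy, h, CharTwo.add_self_eq_zero]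
  have h2 : θ (x * y⁻¹) * θ (x * y⁻¹) = 1 := by rw [← map_mul, h1, map_one]
  rw [M.sq_eq_one] at h2
  rw [show θ x = θ (x * y⁻¹) * θ y by rw [← map_mul, inv_mul_cancel_right], M.mul, h2, zero_add]

theorem Model.lift (M : Model c W) (a : F) : ∃ x, (M.κ x).1 = a := by
  obtain ⟨e, he⟩ := c.exists_trace_one
  obtain ⟨x, hx⟩ := (M.range a (e * (a * c.σ a))).2 (by
    rw [map_mul, show c.σ (a * c.σ a) = a * c.σ a from norm_fixed a]
    linear_combination (a * c.σ a) * he + (a * c.σ a) * (CharTwo.two_eq_zero (R := F)))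
  exact ⟨x, by rw [hx]⟩

theorem Model.central (M : Model c W) {k : F} (hk : k ∈ fixed c) : ∃ x, M.κ x = (0, k) :=
  (M.range 0 k).2 (by rw [show c.σ k = k from hk, zero_mul, add_zero, CharTwo.add_self_eq_zero])

/-- Every automorphism acts semilinearly on the quotient by the centre. -/
theorem Model.semilinear (M : Model c W) (θ : MulAut W) :
    ∃ (u : Fˣ) (φ : F ≃+* F), ∀ x, (M.κ (θ x)).1 = u * φ (M.κ x).1 := by
  classical
  choose sec hsec using M.lift
  choose z hz using fun k : fixed c => M.central k.2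
  let g0 : F → F := fun a => (M.κ (θ (sec a))).1
  have hg : ∀ x, (M.κ (θ x)).1 = g0 (M.κ x).1 := fun x => M.fibre θ (hsec _).symm
  let g : F →+ F := AddMonoidHom.mk' g0 fun a b => by
    have h1 : (M.κ (sec a * sec b)).1 = a + b := by rw [M.mul]; simp [hsec]
    rw [← h1, ← hg, map_mul, M.mul]
  have hbij : Function.Bijective g := Finite.surjective_iff_bijective.1 fun a => by
    obtain ⟨x, rfl⟩ := M.lift a
    exact ⟨(M.κ (θ⁻¹ x)).1, by
      show g0 _ = _
      rw [← hg]
      simp⟩
  let h : F → F := fun k => if hk : k ∈ fixed c then (M.κ (θ (z ⟨k, hk⟩))).2 else 0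
  obtain ⟨u, φ, hu⟩ := classify (c := c) g hbij h (fun k hk l hl => by
    simp only [h, dif_pos hk, dif_pos hl, dif_pos (add_mem hk hl)]
    have h1 : z ⟨k + l, add_mem hk hl⟩ = z ⟨k, hk⟩ * z ⟨l, hl⟩ := M.inj (by
      rw [M.mul, hz, hz, hz]
      simp [add_comm])
    have h0 : (M.κ (θ (z ⟨k, hk⟩))).1 = 0 := by
      rw [← M.sq_eq_one, ← map_mul, (M.sq_eq_one _).2 (by rw [hz]), map_one]
    rw [h1, map_mul, M.mul, h0]
    simp [add_comm]) fun a => by
    simp only [h, dif_pos (norm_fixed (c := c) a)]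
    have h1 : z ⟨a * c.σ a, norm_fixed a⟩ = sec a * sec a := M.inj (by rw [hz, M.sq, hsec])
    rw [h1, map_mul, M.sq]
    rfl
  exact ⟨u, φ, fun x => (hg x).trans (hu _)⟩

theorem sigma_comm (φ : F ≃+* F) (x : F) : φ (c.σ x) = c.σ (φ x) := by
  rw [c.hσ, c.hσ, map_pow]

theorem Model.exists_sem (M : Model c W) [Finite W] (u : Fˣ) (φ : F ≃+* F) :
    ∃ θ : MulAut W, ∀ x, M.κ (θ x) = ((u : F) * φ (M.κ x).1, (u : F) * c.σ u * φ (M.κ x).2) := by
  have hact : ∀ x, ∃ y, M.κ y = ((u : F) * φ (M.κ x).1, (u : F) * c.σ u * φ (M.κ x).2) := fun x =>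
    (M.range _ _).2 (by
      have e := congrArg φ (M.mem x)
      rw [map_add, map_add, map_mul, map_zero, sigma_comm, sigma_comm] at e
      simp only [map_mul, c.invol]
      linear_combination ((u : F) * c.σ u) * e)
  choose act hact using hact
  refine ⟨MulEquiv.ofBijective (MonoidHom.mk' act fun x y => M.inj ?_)
    (Finite.injective_iff_bijective.1 fun x y e => M.inj ?_), hact⟩
  · rw [hact, M.mul, M.mul, hact, hact]
    refine Prod.ext (by show _ = _; rw [map_add]; ring) ?_
    show _ = _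
    simp only [map_add, map_sub, map_mul, sigma_comm]
    ring
  · have e' := congrArg M.κ (show act x = act y from e)
    rw [hact, hact, Prod.mk.injEq] at e'
    exact Prod.ext (φ.injective (mul_left_cancel₀ u.ne_zero e'.1))
      (φ.injective (mul_left_cancel₀ (mul_ne_zero u.ne_zero (fun h => u.ne_zero ((map_eq_zero _).1 h))) e'.2))

theorem Model.exists_lam (M : Model c W) [Finite W] (l : F →+ fixed c) :
    ∃ θ : MulAut W, ∀ x, M.κ (θ x) = ((M.κ x).1, (M.κ x).2 + (l (M.κ x).1 : F)) := by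
  have hact : ∀ x, ∃ y, M.κ y = ((M.κ x).1, (M.κ x).2 + (l (M.κ x).1 : F)) := fun x =>
    (M.range _ _).2 (by
      rw [map_add, show c.σ (l (M.κ x).1 : F) = l (M.κ x).1 from (l (M.κ x).1).2]
      linear_combination M.mem x + (l (M.κ x).1 : F) * (CharTwo.two_eq_zero (R := F)))
  choose act hact using hact
  refine ⟨MulEquiv.ofBijective (MonoidHom.mk' act fun x y => M.inj ?_)
    (Finite.injective_iff_bijective.1 fun x y e => M.inj ?_), hact⟩
  · rw [hact, M.mul, M.mul, hact, hact]
    refine Prod.ext rfl ?_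
    show _ = _
    simp only [map_add, AddSubgroup.coe_add]
    ring
  · have e' := congrArg M.κ (show act x = act y from e)
    rw [hact, hact, Prod.mk.injEq] at e'
    exact Prod.ext e'.1 (by have := e'.2; rwa [e'.1, add_left_inj] at this)

/-- The automorphisms acting trivially on the quotient by the centre. -/
def Model.kern (M : Model c W) : Subgroup (MulAut W) where
  carrier := {θ | ∀ x, (M.κ (θ x)).1 = (M.κ x).1}
  one_mem' _ := rfl
  mul_mem' {θ η} hθ hη := fun x => (hθ (η x)).trans (hη x)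
  inv_mem' {θ} hθ := fun x => by
    have := hθ (θ⁻¹ x)
    rw [MulAut.apply_inv_self] at this
    exact this.symm

theorem Model.mem_kern (M : Model c W) {θ : MulAut W} : θ ∈ M.kern ↔ ∀ x, (M.κ (θ x)).1 = (M.κ x).1 := Iff.rfl

theorem Model.kern_eq_lam (M : Model c W) {θ : MulAut W} (hθ : θ ∈ M.kern) :
    ∃ l : F →+ fixed c, ∀ x, M.κ (θ x) = ((M.κ x).1, (M.κ x).2 + (l (M.κ x).1 : F)) := by
  classical
  choose sec hsec using M.lift
  let d : W → F := fun x => (M.κ (θ x)).2 + (M.κ x).2
  have hd : ∀ x, d x ∈ fixed c := fun x => by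
    have e1 := M.mem (θ x)
    rw [hθ x] at e1
    rw [mem_fixed, map_add]
    linear_combination e1 - M.mem x + ((M.κ x).2 + c.σ (M.κ x).2 - (M.κ (θ x)).2 - (M.κ x).2) * (CharTwo.two_eq_zero (R := F)) + ((M.κ x).2 + c.σ (M.κ x).2) * 0
  have hdm : ∀ x y, d (x * y) = d x + d y := fun x y => by
    simp only [d, map_mul, M.mul, hθ x, hθ y]
    linear_combination (-((M.κ x).1 * c.σ (M.κ y).1)) * (CharTwo.two_eq_zero (R := F))
  have hz : ∀ z, (M.κ z).1 = 0 → d z = 0 := by
    intro z hz
    have hmem : (M.κ z).2 ∈ fixed c := by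
      have := M.mem z
      rw [hz, zero_mul, add_zero] at this
      exact (CharTwo.add_eq_zero.1 this).symm
    obtain ⟨a, ha⟩ := c.exists_norm hmem
    have e : z = sec a * sec a := M.inj (by rw [M.sq, hsec]; exact Prod.ext hz ha.symm)
    rw [e, hdm, CharTwo.add_self_eq_zero]
  have hdep : ∀ x y, (M.κ x).1 = (M.κ y).1 → d x = d y := by
    intro x y e
    have h1 : (M.κ (x * y)).1 = 0 := by rw [M.mul, e]; exact CharTwo.add_self_eq_zero _
    exact CharTwo.add_eq_zero.1 ((hdm x y).symm.trans (hz _ h1))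
  refine ⟨AddMonoidHom.mk' (fun a => ⟨d (sec a), hd _⟩) fun a b => Subtype.ext ?_, fun x => Prod.ext (hθ x) ?_⟩
  · show d (sec (a + b)) = d (sec a) + d (sec b)
    rw [← hdm]
    exact hdep _ _ (by rw [M.mul]; simp [hsec])
  · show (M.κ (θ x)).2 = (M.κ x).2 + d (sec (M.κ x).1)
    rw [hdep _ x (hsec _)]
    simp only [d]
    linear_combination -(M.κ x).2 * (CharTwo.two_eq_zero (R := F))

theorem card_ringEquiv {n : ℕ} (hF : Fintype.card F = 4 ^ n) : Nat.card (F ≃+* F) = 2 * n := by
  letI : Algebra (ZMod 2) F := ZMod.algebra F 2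
  haveI : Fact (Nat.Prime 2) := ⟨Nat.prime_two⟩
  rw [Nat.card_congr (β := F ≃ₐ[ZMod 2] F)
    { toFun := fun φ => AlgEquiv.ofRingEquiv (f := φ) fun x =>
        RingHom.congr_fun (Subsingleton.elim ((φ : F →+* F).comp (algebraMap (ZMod 2) F)) (algebraMap (ZMod 2) F)) x
      invFun := fun φ => φ.toRingEquiv
      left_inv := fun φ => RingEquiv.ext fun x => rfl
      right_inv := fun φ => AlgEquiv.ext fun x => rfl },
    IsGalois.card_aut_eq_finrank]
  have h := Module.natCard_eq_pow_finrank (K := ZMod 2) (V := F)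
  rw [Nat.card_eq_fintype_card, hF, Nat.card_zmod, show (4 : ℕ) = 2 ^ 2 from rfl, ← pow_mul] at h
  exact (Nat.pow_right_injective le_rfl h).symm

theorem card_fixed {n : ℕ} (hF : Fintype.card F = 4 ^ n) : Nat.card (fixed c) = 2 ^ n := by
  let tr : F →+ F := AddMonoidHom.mk' (fun b => b + c.σ b) fun a b => by rw [map_add]; ring
  have hker : tr.ker = fixed c := by
    ext b
    exact ⟨fun h => (CharTwo.add_eq_zero.1 h).symm, fun h => by
      show b + c.σ b = 0
      rw [show c.σ b = b from h, CharTwo.add_self_eq_zero]⟩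
  have hran : tr.range = fixed c := by
    obtain ⟨e, he⟩ := c.exists_trace_one
    ext b
    constructor
    · rintro ⟨a, rfl⟩
      show c.σ (a + c.σ a) = a + c.σ a
      rw [map_add, c.invol, add_comm]
    · intro (hb : c.σ b = b)
      exact ⟨e * b, by show e * b + c.σ (e * b) = b; rw [map_mul, hb, ← add_mul, he, one_mul]⟩
  have h1 := AddSubgroup.card_mul_index tr.ker
  rw [AddSubgroup.index_ker, hker, hran, Nat.card_eq_fintype_card (α := F), hF, show (4 : ℕ) = 2 ^ 2 from rfl,
    ← pow_mul, mul_comm 2, pow_mul, ← sq] at h1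
  exact Nat.pow_left_injective two_ne_zero h1

theorem card_hom {n : ℕ} (hF : Fintype.card F = 4 ^ n) : Nat.card (F →+ fixed c) = 2 ^ (2 * n ^ 2) := by
  letI : Algebra (ZMod 2) F := ZMod.algebra F 2
  haveI : Fact (Nat.Prime 2) := ⟨Nat.prime_two⟩
  set K : Submodule (ZMod 2) F := AddSubgroup.toZModSubmodule 2 (fixed c)
  have hK : Nat.card K = 2 ^ n := card_fixed hF
  show Nat.card (F →+ K) = _
  rw [Nat.card_congr (β := F →ₗ[ZMod 2] K)
    { toFun := fun l => AddMonoidHom.toZModLinearMap 2 (l : F →+ K)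
      invFun := fun l => l.toAddMonoidHom
      left_inv := fun l => rfl
      right_inv := fun l => rfl }, Module.natCard_eq_pow_finrank (K := ZMod 2), Module.finrank_linearMap, Nat.card_zmod]
  have h1 := Module.natCard_eq_pow_finrank (K := ZMod 2) (V := F)
  have h2 := Module.natCard_eq_pow_finrank (K := ZMod 2) (V := K)
  rw [Nat.card_eq_fintype_card, hF, Nat.card_zmod, show (4 : ℕ) = 2 ^ 2 from rfl, ← pow_mul] at h1
  rw [hK, Nat.card_zmod] at h2
  rw [← Nat.pow_right_injective le_rfl h1, ← Nat.pow_right_injective le_rfl h2]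
  congr 1
  ring

/-- The main count. -/
theorem Model.main (M : Model c W) [Finite W] {n : ℕ} (hF : Fintype.card F = 4 ^ n) :
    Cfsg.IsElementaryAbelian 2 (Cfsg.pCore 2 (MulAut W)) ∧
      Nat.card ↥(Cfsg.pCore 2 (MulAut W)) = 2 ^ (2 * n ^ 2) ∧
      Nat.card (MulAut W) = 2 ^ (2 * n ^ 2) * (2 * n * ((2 ^ n) ^ 2 - 1)) := by
  classical
  haveI : Fact (Nat.Prime 2) := ⟨Nat.prime_two⟩
  choose sem hsem using fun p : Fˣ × (F ≃+* F) => M.exists_sem p.1 p.2
  choose lam hlam using fun l : F →+ fixed c => M.exists_lam l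
  choose sec hsec using M.lift
  have lamk : ∀ l, lam l ∈ M.kern := fun l x => by rw [hlam]
  have hkern : Nat.card M.kern = 2 ^ (2 * n ^ 2) := by
    rw [← card_hom (c := c) hF]
    refine (Nat.card_eq_of_bijective (fun l => (⟨lam l, lamk l⟩ : M.kern)) ⟨fun l l' e => ?_, fun θ => ?_⟩).symm
    · ext a
      have e1 := congrArg (fun t : MulAut W => M.κ (t (sec a))) (congrArg Subtype.val e)
      simp only [hlam, hsec, Prod.mk.injEq, true_and, add_right_inj] at e1
      exact e1
    · obtain ⟨l, hl⟩ := M.kern_eq_lam θ.2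
      exact ⟨l, Subtype.ext (MulEquiv.ext fun x => M.inj ((hlam l x).trans (hl x).symm))⟩
  haveI hnorm : M.kern.Normal := ⟨fun θ hθ η x => by
    show (M.κ (η (θ (η⁻¹ x)))).1 = _
    rw [M.fibre η (hθ (η⁻¹ x)), MulAut.apply_inv_self]⟩
  have hel : ∀ θ ∈ M.kern, ∀ η ∈ M.kern, θ * η = η * θ ∧ θ ^ 2 = 1 := by
    intro θ hθ η hη
    obtain ⟨l, hl⟩ := M.kern_eq_lam hθ
    obtain ⟨m, hm⟩ := M.kern_eq_lam hη
    refine ⟨MulEquiv.ext fun x => M.inj ?_, MulEquiv.ext fun x => M.inj ?_⟩
    · show M.κ (θ (η x)) = M.κ (η (θ x))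
      simp only [hl, hm, add_right_comm]
    · rw [pow_two]
      show M.κ (θ (θ x)) = M.κ x
      simp only [hl, add_assoc, CharTwo.add_self_eq_zero, add_zero]
  have hfull : Nat.card (MulAut W) = 2 ^ (2 * n ^ 2) * (2 * n * ((2 ^ n) ^ 2 - 1)) := by
    have hb : Function.Bijective fun p : (Fˣ × (F ≃+* F)) × M.kern => sem p.1 * (p.2 : MulAut W) := by
      refine ⟨?_, fun θ => ?_⟩
      · rintro ⟨⟨u, φ⟩, k⟩ ⟨⟨u', φ'⟩, k'⟩ e
        have e1 : ∀ a, (u : F) * φ a = u' * φ' a := fun a => by
          have := congrArg (fun t : MulAut W => (M.κ (t (sec a))).1) e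
          simp only [MulAut.mul_apply, hsem, k.2 _, k'.2 _, hsec] at this
          exact this
        have hu : u = u' := Units.ext (by simpa using e1 1)
        subst hu
        have hφ : φ = φ' := RingEquiv.ext fun a => mul_left_cancel₀ u.ne_zero (e1 a)
        subst hφ
        simp only [mul_right_inj] at e
        rw [Subtype.ext e]
      · obtain ⟨u, φ, hu⟩ := M.semilinear θ
        have hk : (sem (u, φ))⁻¹ * θ ∈ M.kern := by
          intro x
          have h1 := congrArg Prod.fst (hsem (u, φ) ((sem (u, φ))⁻¹ (θ x)))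
          rw [MulAut.apply_inv_self, hu] at h1
          exact φ.injective (mul_left_cancel₀ u.ne_zero h1.symm)
        exact ⟨((u, φ), ⟨_, hk⟩), mul_inv_cancel_left _ _⟩
    rw [← Nat.card_eq_of_bijective _ hb, Nat.card_prod, Nat.card_prod, hkern, card_ringEquiv hF, Nat.card_units,
      Nat.card_eq_fintype_card, hF, show (4 : ℕ) ^ n = (2 ^ n) ^ 2 by rw [← pow_mul, mul_comm, pow_mul]; norm_num]
    ring
  have hcore : Cfsg.pCore 2 (MulAut W) = M.kern := by
    refine le_antisymm (fun θ hθ => ?_) ?_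
    · haveI hN : (Cfsg.pCore 2 (MulAut W)).Normal := inferInstance
      have hP : IsPGroup 2 (Cfsg.pCore 2 (MulAut W)) := CfsgLib.isPGroup_pCore 2
      obtain ⟨u, φ, hu⟩ := M.semilinear θ
      have hpow : ∀ (t : MulAut W) (v : F) (ψ : F ≃+* F), (∀ x, (M.κ (t x)).1 = v * ψ (M.κ x).1) → (∀ a, ψ a = a) →
          t ∈ Cfsg.pCore 2 (MulAut W) → v = 1 := by
        intro t v ψ ht hψ htm
        obtain ⟨j, hj⟩ := hP ⟨t, htm⟩
        have hj' : t ^ 2 ^ j = 1 := congrArg Subtype.val hj
        have hit : ∀ i : ℕ, ∀ x, (M.κ ((t ^ i) x)).1 = v ^ i * (M.κ x).1 := by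
          intro i
          induction i with
          | zero => intro x; simp
          | succ i ih => intro x; rw [pow_succ', MulAut.mul_apply, ht, hψ, ih, pow_succ']; ring
        have h1 := hit (2 ^ j) (sec 1)
        rw [hj', hsec, mul_one, MulAut.one_apply, hsec] at h1
        exact iterateFrobenius_inj F 2 j (by rw [iterateFrobenius_def, iterateFrobenius_def, one_pow]; exact h1.symm)
      have hφ : ∀ a, φ a = a := by
        intro a
        rcases eq_or_ne a 0 with rfl | ha
        · exact map_zero φ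
        set δ := sem (Units.mk0 a ha, RingEquiv.refl F)
        have hδ : ∀ x, (M.κ (δ x)).1 = a * (M.κ x).1 := fun x => by rw [hsem]; rfl
        have hδ' : ∀ x, (M.κ (δ⁻¹ x)).1 = a⁻¹ * (M.κ x).1 := fun x => by
          have := hδ (δ⁻¹ x)
          rw [MulAut.apply_inv_self] at this
          rw [this, inv_mul_cancel_left₀ ha]
        have hθ' : ∀ x, (M.κ (θ⁻¹ x)).1 = φ.symm ((u : F)⁻¹ * (M.κ x).1) := fun x => by
          have := hu (θ⁻¹ x)
          rw [MulAut.apply_inv_self] at this
          rw [this, inv_mul_cancel_left₀ u.ne_zero, RingEquiv.symm_apply_apply]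
        have hc' : θ * δ * θ⁻¹ * δ⁻¹ ∈ Cfsg.pCore 2 (MulAut W) := by
          rw [mul_assoc θ, mul_assoc θ]
          exact mul_mem hθ (hN.conj_mem _ (inv_mem hθ) δ)
        have := hpow _ (φ a * a⁻¹) (RingEquiv.refl F) (fun x => by
          simp only [MulAut.mul_apply, hu, hδ, hθ', hδ', map_mul, RingEquiv.apply_symm_apply, RingEquiv.refl_apply]
          field_simp) (fun _ => rfl) hc'
        rwa [mul_inv_eq_one₀ ha] at this
      have hu1 : (u : F) = 1 := hpow θ u φ hu hφ hθ
      intro x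
      rw [hu x, hu1, one_mul, hφ]
    · refine le_sSup ⟨hnorm, IsPGroup.of_card (n := 2 * n ^ 2) hkern⟩
  refine ⟨?_, by rw [hcore, hkern], hfull⟩
  rw [hcore]
  exact ⟨⟨⟨fun x y => Subtype.ext (hel x x.2 y y.2).1⟩⟩, fun a ha => (hel a ha a ha).2⟩

/-- The coordinates on the unipotent radical. -/
theorem exists_model {n : ℕ} (hn : 1 ≤ n) (hF : Fintype.card F = (2 ^ n) ^ 2) (S : Sylow 2 (Cfsg.SU 3 F (2 ^ n))) :
    ∃ c : Conj F, Nonempty (Model c (S : Subgroup (Cfsg.SU 3 F (2 ^ n)))) := by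
  classical
  haveI : Fact (Nat.Prime 2) := ⟨Nat.prime_two⟩
  obtain ⟨-, σ, hσ⟩ := CfsgLib.UnitaryBasic.frob_exists hF
  let c : Conj F := ⟨2 ^ n, σ, hF, hσ⟩
  refine ⟨c, ?_⟩
  obtain ⟨E⟩ := exists_iso c (n := 3)
  let φ : SUs c 3 →* Cfsg.SU 3 F (2 ^ n) := E.toMonoidHom
  have hker : ∀ z ∈ φ.ker, z = 1 := fun z hz => E.injective (hz.trans (map_one E).symm)
  have hc : Cover c 2 φ := ⟨E.surjective, fun z hz => by rw [hker z hz]; exact one_mem _, 1, Nat.coprime_one_left 2,
    fun z hz => by rw [hker z hz, one_pow]⟩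
  obtain ⟨U, hU⟩ := exists_sylow c 2 hc
  have hinj : Function.Injective (φ.comp (UU c 3).subtype) := fun a b h => Subtype.ext (E.injective h)
  have hrng : (φ.comp (UU c 3).subtype).range = (U : Subgroup (Cfsg.SU 3 F (2 ^ n))) := by
    rw [hU, MonoidHom.range_comp, Subgroup.range_subtype]
  let e : (S : Subgroup (Cfsg.SU 3 F (2 ^ n))) ≃* UU c 3 :=
    (Sylow.equiv S U).trans ((MulEquiv.subgroupCongr hrng.symm).trans (MonoidHom.ofInjective hinj).symm)
  have hform : ∀ A : UU c 3, A.1.1.1 1 2 = -c.σ (A.1.1.1 0 1) ∧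
      A.1.1.1 0 2 + c.σ (A.1.1.1 0 2) + A.1.1.1 0 1 * c.σ (A.1.1.1 0 1) = 0 := by
    intro A
    have h00 := UU_diag c A.2 (0 : Fin 3)
    have h11 := UU_diag c A.2 (1 : Fin 3)
    have h10 : A.1.1.1 1 0 = 0 := UU_below c A.2 (show (0 : Fin 3) < 1 by decide)
    have h01 := cond_apply c A.1.2 (0 : Fin 3) 1
    have h0 := cond_apply c A.1.2 (0 : Fin 3) 0
    rw [Fin.sum_univ_three, if_neg (by decide)] at h01 h0
    rw [show (0 : Fin 3).rev = 2 from rfl, show (1 : Fin 3).rev = 1 from rfl, show (2 : Fin 3).rev = 0 from rfl] at h01 h0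
    change _ + _ * c.σ _ + _ * c.σ _ = _ at h01
    change _ * c.σ _ + _ * c.σ _ + _ * c.σ _ = _ at h01 h0
    rw [h00, h11, h10, map_zero, map_one, one_mul, mul_one, mul_zero, add_zero] at h01
    rw [h00, map_one, one_mul, mul_one] at h0
    refine ⟨?_, by linear_combination h0⟩
    have h3 := congrArg c.σ h01
    rw [map_add, c.invol, map_zero] at h3
    linear_combination h3
  refine ⟨⟨fun x => ((e x).1.1.1 0 1, (e x).1.1.1 0 2), ?_, fun x y => ?_, fun a b => ?_⟩⟩
  · intro x y h
    refine e.injective (Subtype.ext (SUs_ext c ?_))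
    have h1 : (e x).1.1.1 0 1 = (e y).1.1.1 0 1 := congrArg Prod.fst h
    have h2 : (e x).1.1.1 0 2 = (e y).1.1.1 0 2 := congrArg Prod.snd h
    ext i j
    fin_cases i <;> fin_cases j
    · exact (UU_diag c (e x).2 0).trans (UU_diag c (e y).2 0).symm
    · exact h1
    · exact h2
    · exact (UU_below c (e x).2 (show (0 : Fin 3) < 1 by decide)).trans
        (UU_below c (e y).2 (show (0 : Fin 3) < 1 by decide)).symm
    · exact (UU_diag c (e x).2 1).trans (UU_diag c (e y).2 1).symm
    · exact ((hform _).1.trans (congrArg (fun t => -c.σ t) h1)).trans (hform _).1.symm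
    · exact (UU_below c (e x).2 (show (0 : Fin 3) < 2 by decide)).trans
        (UU_below c (e y).2 (show (0 : Fin 3) < 2 by decide)).symm
    · exact (UU_below c (e x).2 (show (1 : Fin 3) < 2 by decide)).trans
        (UU_below c (e y).2 (show (1 : Fin 3) < 2 by decide)).symm
    · exact (UU_diag c (e x).2 2).trans (UU_diag c (e y).2 2).symm
  · rw [map_mul]
    refine Prod.ext ?_ ?_
    · show ((e x).1.1.1 * (e y).1.1.1) 0 1 = _
      rw [Matrix.mul_apply, Fin.sum_univ_three, UU_diag c (e x).2, UU_diag c (e y).2,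
        UU_below c (e y).2 (show (1 : Fin 3) < 2 by decide)]
      show _ = (e x).1.1.1 0 1 + (e y).1.1.1 0 1
      ring
    · show ((e x).1.1.1 * (e y).1.1.1) 0 2 = _
      rw [Matrix.mul_apply, Fin.sum_univ_three, UU_diag c (e x).2, UU_diag c (e y).2, (hform (e y)).1]
      show _ = (e y).1.1.1 0 2 - (e x).1.1.1 0 1 * c.σ ((e y).1.1.1 0 1) + (e x).1.1.1 0 2
      ring
  · constructor
    · rintro ⟨x, hx⟩
      rw [Prod.mk.injEq] at hx
      rw [← hx.1, ← hx.2]
      exact (hform (e x)).2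
    · intro hb
      refine ⟨e.symm ⟨r3 c a b hb, ?_⟩, ?_⟩
      · refine ⟨fun i j hij => ?_, fun i j hij => ?_⟩
        · show m3 c.σ a b i j = 0
          fin_cases i <;> fin_cases j <;> first | rfl | (exfalso; simp at hij)
        · show m3 c.σ a b i j = (1 : Matrix (Fin 3) (Fin 3) F) i j
          fin_cases i <;> fin_cases j <;> first | rfl | (exfalso; simp at hij) | simp [m3]
      · rw [MulEquiv.apply_symm_apply]
        rfl

end CfsgLib.UnitarySylowAut
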