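import Mathlib
import Cfsg.Prelude.Def_ClassicalGeometry
import Cfsg.Prelude.Def_LieClassical
import Cfsg.Agent.S0749
import Cfsg.Agent.Lib.UnitaryOrder
import Cfsg.Agent.Lib.SympGen

/-! Counting frames and totally isotropic subspaces, and stabiliser orders. -/

set_option autoImplicit false

namespace CfsgLib.IsotropicCount

open Module
open scoped Matrix

variable {F : Type*} [Field F] {ι : Type} [Fintype ι]

local notation "V" => (ι → F)

/-- Ordered bases of totally isotropic subspaces. -/
abbrev Frame (β : V → V → F) (k : ℕ) : Type _ :=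
  {v : Fin k → V // LinearIndependent F v ∧ ∀ i j, β (v i) (v j) = 0}

/-- Totally isotropic subspaces. -/
abbrev Sub (β : V → V → F) (k : ℕ) : Type _ :=
  {W : Submodule F V // finrank F W = k ∧ ∀ u ∈ W, ∀ v ∈ W, β u v = 0}

/-- Number of ordered bases. -/
def glc (q k : ℕ) : ℕ := ∏ i : Fin k, (q ^ k - q ^ (i : ℕ))

theorem glc_pos (q k : ℕ) (hq : 1 < q) : 0 < glc q k :=
  Finset.prod_pos fun i _ => Nat.sub_pos_of_lt (Nat.pow_lt_pow_right hq i.2)

/-- The predicate of a form being biadditive and scalar-compatible up to a function. -/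
def Span2 (β : V → V → F) : Prop :=
  ∀ (s : Set V), (∀ u ∈ s, ∀ v ∈ s, β u v = 0) →
    ∀ u ∈ Submodule.span F s, ∀ v ∈ Submodule.span F s, β u v = 0

variable [Fintype F]

theorem card_frame_zero (β : V → V → F) : Nat.card (Frame β 0) = 1 :=
  Nat.card_eq_one_iff_unique.mpr
    ⟨⟨fun a b => Subtype.ext (funext fun i => i.elim0)⟩,
      ⟨⟨Fin.elim0, linearIndependent_empty_type, fun i => i.elim0⟩⟩⟩

theorem card_frame_succ (β : V → V → F) (k c : ℕ)
    (hc : ∀ s : Frame β k, Nat.card {v : V // v ∉ Submodule.span F (Set.range s.1) ∧ β v v = 0 ∧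
      ∀ i, β (s.1 i) v = 0 ∧ β v (s.1 i) = 0} = c) :
    Nat.card (Frame β (k + 1)) = Nat.card (Frame β k) * c := by
  classical
  let e : Frame β (k + 1) ≃ Σ s : Frame β k, {v : V // v ∉ Submodule.span F (Set.range s.1) ∧
      β v v = 0 ∧ ∀ i, β (s.1 i) v = 0 ∧ β v (s.1 i) = 0} :=
    { toFun := fun w => ⟨⟨Fin.init w.1, by
          have h := w.2.1
          rw [← Fin.snoc_init_self w.1] at h
          exact (linearIndependent_finSnoc.mp h).1, fun i j => w.2.2 _ _⟩,
        ⟨w.1 (Fin.last k), by
          have h := w.2.1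
          rw [← Fin.snoc_init_self w.1] at h
          exact (linearIndependent_finSnoc.mp h).2, w.2.2 _ _, fun i => ⟨w.2.2 _ _, w.2.2 _ _⟩⟩⟩
      invFun := fun p => ⟨Fin.snoc p.1.1 p.2.1,
        linearIndependent_finSnoc.mpr ⟨p.1.2.1, p.2.2.1⟩, fun i j => by
          refine Fin.lastCases ?_ (fun i => ?_) i <;> refine Fin.lastCases ?_ (fun j => ?_) j <;>
            simp only [Fin.snoc_last, Fin.snoc_castSucc]
          · exact p.2.2.2.1
          · exact (p.2.2.2.2 j).2
          · exact (p.2.2.2.2 i).1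
          · exact p.1.2.2 i j⟩
      left_inv := fun w => Subtype.ext (Fin.snoc_init_self w.1)
      right_inv := fun p => by
        refine Sigma.subtype_ext (Subtype.ext ?_) ?_
        · exact Fin.init_snoc (α := fun _ => V) _ _
        · exact Fin.snoc_last (α := fun _ => V) _ _ }
  rw [Nat.card_congr e, Nat.card_sigma, Finset.sum_congr rfl fun s _ => hc s, Finset.sum_const,
    Finset.card_univ, smul_eq_mul, ← Nat.card_eq_fintype_card]

theorem card_bases (W : Submodule F V) {k : ℕ} (hW : finrank F W = k) :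
    Nat.card {v : Fin k → W // LinearIndependent F v} = glc (Fintype.card F) k := by
  rw [card_linearIndependent (le_of_eq hW.symm), hW]
  rfl

/-- Every subspace carries `glc` frames. -/
theorem card_frame_eq (β : V → V → F) (hβ : Span2 β) (k : ℕ) :
    Nat.card (Frame β k) = Nat.card (Sub β k) * glc (Fintype.card F) k := by
  classical
  let f : Frame β k → Sub β k := fun s => ⟨Submodule.span F (Set.range s.1),
    (finrank_span_eq_card s.2.1).trans (Fintype.card_fin k),
    hβ _ (by rintro _ ⟨i, rfl⟩ _ ⟨j, rfl⟩; exact s.2.2 i j)⟩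
  have hfib : ∀ W, Nat.card {s // f s = W} = glc (Fintype.card F) k := by
    intro W
    rw [← card_bases W.1 W.2.1]
    have hmem : ∀ s : {s // f s = W}, ∀ i, s.1.1 i ∈ W.1 := fun s i => by
      rw [← congrArg Subtype.val s.2]
      exact Submodule.subset_span ⟨i, rfl⟩
    refine Nat.card_congr
      { toFun := fun s => ⟨fun i => ⟨s.1.1 i, hmem s i⟩,
          LinearIndependent.of_comp W.1.subtype s.1.2.1⟩
        invFun := fun v => ⟨⟨fun i => (v.1 i : V), v.2.map' W.1.subtype W.1.ker_subtype,
            fun i j => W.2.2 _ (v.1 i).2 _ (v.1 j).2⟩, Subtype.ext (by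
          refine Submodule.eq_of_le_of_finrank_eq (Submodule.span_le.mpr ?_) ?_
          · rintro _ ⟨i, rfl⟩; exact (v.1 i).2
          · exact ((finrank_span_eq_card (b := fun i => (v.1 i : V))
              (v.2.map' W.1.subtype W.1.ker_subtype)).trans (Fintype.card_fin k)).trans W.2.1.symm)⟩
        left_inv := fun s => rfl
        right_inv := fun v => rfl }
  haveI : Fintype (Sub β k) := Fintype.ofFinite _
  rw [← Nat.card_congr (Equiv.sigmaFiberEquiv f), Nat.card_sigma,
    Finset.sum_congr rfl fun W _ => hfib W, Finset.sum_const, Finset.card_univ, smul_eq_mul,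
    ← Nat.card_eq_fintype_card]

variable [DecidableEq ι]

/-- Orbit-stabiliser for frames. -/
theorem card_stab {G : Type*} [Group G] [Finite G] (ρ : G →* Matrix ι ι F) (β : V → V → F)
    (hβ : ∀ g u v, β (ρ g *ᵥ u) (ρ g *ᵥ v) = β u v) {k : ℕ}
    (htrans : ∀ s t : Frame β k, ∃ g, ∀ i, ρ g *ᵥ s.1 i = t.1 i)
    (W : Sub β k) :
    Nat.card ↥(Cfsg.stabilizing ρ (W.1 : Set V)) * Nat.card (Frame β k) =
      Nat.card G * glc (Fintype.card F) k := by
  classical
  haveI := Fintype.ofFinite G
  have hinj : ∀ g u v, ρ g *ᵥ u = ρ g *ᵥ v → u = v := fun g u v h => by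
    have := congrArg (fun x => ρ g⁻¹ *ᵥ x) h
    simpa [Matrix.mulVec_mulVec, ← map_mul] using this
  let b := Module.finBasisOfFinrankEq F W.1 W.2.1
  have hb : LinearIndependent F fun i => (b i : V) :=
    b.linearIndependent.map' W.1.subtype W.1.ker_subtype
  let s₀ : Frame β k := ⟨fun i => (b i : V), hb, fun i j => W.2.2 _ (b i).2 _ (b j).2⟩
  let act : G → Frame β k → Frame β k := fun g s => ⟨fun i => ρ g *ᵥ s.1 i,
    s.2.1.map' (ρ g).mulVecLin (LinearMap.ker_eq_bot.mpr (fun u v h => hinj g u v h)),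
    fun i j => by rw [hβ]; exact s.2.2 i j⟩
  let P := {g : G // act g s₀ = s₀}
  have hact : ∀ g h s, act (g * h) s = act g (act h s) := fun g h s =>
    Subtype.ext (funext fun i => by simp [act, map_mul, Matrix.mulVec_mulVec])
  have hone : ∀ s, act 1 s = s := fun s =>
    Subtype.ext (funext fun i => by simp [act])
  have hfibre : ∀ t, Nat.card {g // act g s₀ = t} = Nat.card P := by
    intro t
    obtain ⟨g₀, hg₀⟩ := htrans s₀ t
    have hg₀' : act g₀ s₀ = t := Subtype.ext (funext hg₀)
    refine Nat.card_congr ((Equiv.mulLeft g₀⁻¹).subtypeEquiv fun g => ?_)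
    show act g s₀ = t ↔ act (g₀⁻¹ * g) s₀ = s₀
    rw [hact]
    constructor
    · intro h; rw [h, ← hg₀', ← hact, inv_mul_cancel, hone]
    · intro h
      have := congrArg (act g₀) h
      rwa [← hact, mul_inv_cancel, hone, hg₀'] at this
  have hG : Nat.card G = Nat.card (Frame β k) * Nat.card P := by
    haveI := Fintype.ofFinite (Frame β k)
    rw [← Nat.card_congr (Equiv.sigmaFiberEquiv fun g => act g s₀), Nat.card_sigma,
      Finset.sum_congr rfl fun t _ => hfibre t, Finset.sum_const, Finset.card_univ, smul_eq_mul,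
      ← Nat.card_eq_fintype_card]
  have hSmem : ∀ g : G, g ∈ Cfsg.stabilizing ρ (W.1 : Set V) ↔ ∀ i, (act g s₀).1 i ∈ W.1 := by
    intro g
    refine ⟨fun h i => (h _).mp (b i).2, fun h => ?_⟩
    have hle : W.1.map (ρ g).mulVecLin ≤ W.1 := by
      rintro _ ⟨x, hx, rfl⟩
      have hxs : x = ∑ i, b.repr ⟨x, hx⟩ i • (b i : V) := by
        have h' := congrArg Subtype.val (b.sum_repr ⟨x, hx⟩)
        simp only [Submodule.coe_sum, Submodule.coe_smul] at h'
        exact h'.symm
      rw [hxs, map_sum]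
      exact Submodule.sum_mem _ fun i _ => by rw [map_smul]; exact Submodule.smul_mem _ _ (h i)
    have heq := Submodule.eq_of_le_of_finrank_eq hle
      (Submodule.equivMapOfInjective _ (fun u v e => hinj g u v e) W.1).finrank_eq.symm
    intro v
    refine ⟨fun hv => hle ⟨v, hv, rfl⟩, fun hv => ?_⟩
    rw [SetLike.mem_coe, ← heq] at hv
    obtain ⟨x, hx, hxv⟩ := hv
    rwa [SetLike.mem_coe, ← hinj g _ _ hxv]
  let T := {v : Fin k → W.1 // LinearIndependent F v}
  let f : ↥(Cfsg.stabilizing ρ (W.1 : Set V)) → T := fun g =>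
    ⟨fun i => ⟨(act g.1 s₀).1 i, (hSmem g.1).mp g.2 i⟩,
      LinearIndependent.of_comp W.1.subtype (act g.1 s₀).2.1⟩
  have hfib2 : ∀ v : T, Nat.card {g // f g = v} = Nat.card P := by
    intro v
    let t : Frame β k := ⟨fun i => (v.1 i : V), v.2.map' W.1.subtype W.1.ker_subtype,
      fun i j => W.2.2 _ (v.1 i).2 _ (v.1 j).2⟩
    rw [← hfibre t]
    refine Nat.card_congr
      { toFun := fun g => ⟨g.1.1, Subtype.ext (congrArg (fun w : T => fun i => (w.1 i : V)) g.2)⟩
        invFun := fun g => ⟨⟨g.1, (hSmem g.1).mpr fun i => by rw [g.2]; exact (v.1 i).2⟩,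
          Subtype.ext (funext fun i => Subtype.ext (by
            show (act g.1 s₀).1 i = _
            rw [g.2]))⟩
        left_inv := fun g => rfl
        right_inv := fun g => rfl }
  have hS : Nat.card ↥(Cfsg.stabilizing ρ (W.1 : Set V)) = glc (Fintype.card F) k * Nat.card P := by
    haveI := Fintype.ofFinite T
    rw [← Nat.card_congr (Equiv.sigmaFiberEquiv f), Nat.card_sigma,
      Finset.sum_congr rfl fun v _ => hfib2 v, Finset.sum_const, Finset.card_univ, smul_eq_mul,
      ← Nat.card_eq_fintype_card, card_bases W.1 W.2.1]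
  rw [hS, hG]
  ring

end CfsgLib.IsotropicCount
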