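import Mathlib
import Cfsg.Agent.Lib.IsotropicCount

/-! Frames for the standard alternating form. -/

set_option autoImplicit false

namespace CfsgLib.IsotropicCount

open Module
open scoped Matrix

variable {F : Type*} [Field F] {m : ℕ}

local notation "Vec" => (Fin m ⊕ Fin m → F)

/-- The alternating form as a bilinear form. -/
noncomputable def sympB (m : ℕ) (F : Type*) [Field F] : LinearMap.BilinForm F (Fin m ⊕ Fin m → F) :=
  Matrix.toBilin' (Matrix.J (Fin m) F)

theorem sympB_apply (u v : Vec) : sympB m F u v = Cfsg.sympForm m F u v :=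
  Matrix.toBilin'_apply' _ _ _

theorem sympB_alt : (sympB m F).IsAlt := fun v => by
  show sympB m F v v = 0
  rw [sympB_apply]; exact CfsgLib.SympTransvection.dot_J_self v

theorem sympB_nondeg : (sympB m F).Nondegenerate := by
  have h : ∀ u : Vec, (∀ v, sympB m F u v = 0) → u = 0 := by
    intro u hu
    by_contra hne
    obtain ⟨z, hz⟩ := CfsgLib.SympTransvection.exists_dot_ne hne
    have := hu z
    rw [sympB_apply] at this
    refine hz ?_
    rw [CfsgLib.SympTransvection.swap]
    simp only [Cfsg.sympForm] at this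
    rw [this, neg_zero]
  exact ⟨h, fun v hv => h v fun u => by rw [← LinearMap.IsAlt.neg (B := sympB m F) sympB_alt u v, hv u, neg_zero]⟩

theorem symp_span2 : Span2 (Cfsg.sympForm m F) := by
  intro s hs u hu v hv
  rw [← sympB_apply]
  induction hu, hv using Submodule.span_induction₂ with
  | mem_mem x y hx hy => rw [sympB_apply]; exact hs x hx y hy
  | zero_left y hy => simp
  | zero_right x hx => simp
  | add_left x y z hx hy hz h1 h2 => simp [h1, h2]
  | add_right x y z hx hy hz h1 h2 => simp [h1, h2]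
  | smul_left r x y hx hy h => simp [h]
  | smul_right r x y hx hy h => simp [h]

theorem symp_preserves (g : Matrix.symplecticGroup (Fin m) F) (u v : Vec) :
    Cfsg.sympForm m F (Cfsg.spToMat m F g *ᵥ u) (Cfsg.spToMat m F g *ᵥ v) = Cfsg.sympForm m F u v :=
  CfsgLib.SympGen.B_map g u v

/-- Witt's theorem for the symplectic matrix group. -/
theorem symp_extend (X : Submodule F Vec) (φ : X →ₗ[F] Vec) (hinj : Function.Injective φ)
    (hφ : ∀ x x' : X, Cfsg.sympForm m F (φ x) (φ x') = Cfsg.sympForm m F x x') :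
    ∃ g : Matrix.symplecticGroup (Fin m) F, ∀ x : X, g.1 *ᵥ (x : Vec) = φ x := by
  obtain ⟨g, hg, hgX⟩ := Cfsg.Agent.S0749.aux (sympB m F) sympB_nondeg sympB_alt _ X φ rfl hinj
    (fun x x' => by rw [sympB_apply, sympB_apply, hφ])
  set M := LinearMap.toMatrix' (g : Vec →ₗ[F] Vec)
  have hM : ∀ x, M *ᵥ x = g x := fun x => LinearMap.toMatrix'_mulVec _ _
  refine ⟨⟨M, SymplecticGroup.mem_iff'.mpr (Matrix.ext fun i j => ?_)⟩, fun x => (hM _).trans (hgX x)⟩
  have h := hg (Pi.single i 1) (Pi.single j 1)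
  rw [← hM, ← hM, sympB_apply, sympB_apply, Cfsg.sympForm, Cfsg.sympForm, Matrix.mulVec_mulVec,
    Matrix.dotProduct_mulVec, ← Matrix.vecMul_transpose, Matrix.vecMul_vecMul,
    ← Matrix.dotProduct_mulVec, Matrix.mulVec_single_one, single_dotProduct, one_mul,
    Matrix.mulVec_single_one, single_dotProduct, one_mul] at h
  rw [Matrix.mul_assoc]
  exact h

theorem symp_trans {k : ℕ} (s t : Frame (Cfsg.sympForm m F) k) :
    ∃ g : Matrix.symplecticGroup (Fin m) F, ∀ i, Cfsg.spToMat m F g *ᵥ s.1 i = t.1 i := by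
  let b := Basis.span s.2.1
  let φ := b.constr F t.1
  have hb : ∀ i, (b i : Vec) = s.1 i := fun i => congrArg Subtype.val (Basis.span_apply s.2.1 i) |>.trans rfl
  have hφ0 : ∀ x, φ x ∈ Submodule.span F (Set.range t.1) := fun x => by
    rw [Basis.constr_apply_fintype]
    exact Submodule.sum_mem _ fun i _ => Submodule.smul_mem _ _ (Submodule.subset_span ⟨i, rfl⟩)
  have hinj : Function.Injective φ := by
    rw [injective_iff_map_eq_zero]
    intro x hx
    rw [Basis.constr_apply_fintype] at hx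
    have := Fintype.linearIndependent_iff.mp t.2.1 _ hx
    exact b.equivFun.injective (funext fun i => (this i).trans (by simp))
  obtain ⟨g, hg⟩ := symp_extend _ φ hinj (fun x x' => by
    have hz : ∀ (r : Frame (Cfsg.sympForm m F) k), ∀ u ∈ Submodule.span F (Set.range r.1),
        ∀ v ∈ Submodule.span F (Set.range r.1), Cfsg.sympForm m F u v = 0 := fun r =>
      symp_span2 _ (by rintro _ ⟨i, rfl⟩ _ ⟨j, rfl⟩; exact r.2.2 i j)
    rw [hz t _ (hφ0 x) _ (hφ0 x'), hz s _ x.2 _ x'.2])
  refine ⟨g, fun i => ?_⟩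
  show g.1 *ᵥ s.1 i = t.1 i
  rw [← hb, hg, Basis.constr_basis]

variable [Fintype F]

theorem symp_next {k : ℕ} (s : Frame (Cfsg.sympForm m F) k) :
    Nat.card {v : Vec // v ∉ Submodule.span F (Set.range s.1) ∧ Cfsg.sympForm m F v v = 0 ∧
      ∀ i, Cfsg.sympForm m F (s.1 i) v = 0 ∧ Cfsg.sympForm m F v (s.1 i) = 0} =
      Fintype.card F ^ (2 * m - k) - Fintype.card F ^ k := by
  classical
  set S := Submodule.span F (Set.range s.1)
  set P := LinearMap.BilinForm.orthogonal (sympB m F) S
  have hP : finrank F P = 2 * m - k := by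
    rw [LinearMap.BilinForm.finrank_orthogonal sympB_nondeg, finrank_span_eq_card s.2.1]
    simp [two_mul]
  have hle : S ≤ P := fun u hu w hw => by
    show sympB m F w u = 0
    rw [sympB_apply]
    exact symp_span2 _ (by rintro _ ⟨i, rfl⟩ _ ⟨j, rfl⟩; exact s.2.2 i j) _ hw _ hu
  have hiff : ∀ v : Vec, (v ∉ S ∧ Cfsg.sympForm m F v v = 0 ∧
      ∀ i, Cfsg.sympForm m F (s.1 i) v = 0 ∧ Cfsg.sympForm m F v (s.1 i) = 0) ↔ v ∈ (P : Set Vec) \ S := by
    intro v
    constructor
    · rintro ⟨h1, -, h3⟩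
      refine ⟨fun w hw => ?_, h1⟩
      show sympB m F w v = 0
      have hker : S ≤ LinearMap.ker ((sympB m F).flip v) := by
        rw [Submodule.span_le]
        rintro _ ⟨i, rfl⟩
        show sympB m F (s.1 i) v = 0
        rw [sympB_apply]; exact (h3 i).1
      exact hker hw
    · rintro ⟨h1, h2⟩
      have h3 : ∀ i, sympB m F (s.1 i) v = 0 := fun i => h1 _ (Submodule.subset_span ⟨i, rfl⟩)
      refine ⟨h2, CfsgLib.SympTransvection.dot_J_self v, fun i => ⟨?_, ?_⟩⟩
      · rw [← sympB_apply]; exact h3 i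
      · rw [← sympB_apply, ← LinearMap.IsAlt.neg (B := sympB m F) sympB_alt (s.1 i) v, h3 i, neg_zero]
  rw [Nat.card_congr (Equiv.subtypeEquivRight hiff)]
  show ((P : Set Vec) \ S).ncard = _
  rw [Set.ncard_sdiff hle]
  show Nat.card P - Nat.card S = _
  rw [Module.natCard_eq_pow_finrank (K := F) (V := P), Module.natCard_eq_pow_finrank (K := F) (V := S), hP,
    show finrank F S = k from (finrank_span_eq_card s.2.1).trans (Fintype.card_fin k), Nat.card_eq_fintype_card]

theorem card_sympFrame (k : ℕ) :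
    Nat.card (Frame (Cfsg.sympForm m F) k) =
      ∏ i ∈ Finset.range k, (Fintype.card F ^ (2 * m - i) - Fintype.card F ^ i) := by
  induction k with
  | zero => rw [card_frame_zero]; simp
  | succ k ih => rw [card_frame_succ _ k _ symp_next, ih, Finset.prod_range_succ]

end CfsgLib.IsotropicCount
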