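import Cfsg.Agent.Lib.DihedralCoreSLTwoThree

/-!
A group with a copy of `SL(2,3)` of index two and an outer involution is `GL(2,3)`.
-/

set_option autoImplicit false

namespace CfsgLib.GLTwoThreeExt

open CfsgLib.QuatSection (SL23)

abbrev M23 := Matrix (Fin 2) (Fin 2) (ZMod 3)

def genU : SL23 := ⟨!![1, 1; 0, 1], by decide⟩
def genL : SL23 := ⟨!![1, 0; 1, 1], by decide⟩

theorem gen_facts : genU ^ 3 = 1 ∧ genU ≠ 1 ∧ genL ^ 3 = 1 ∧ genL ≠ 1 ∧ (genU * genL) ^ 4 = 1 ∧
    (genU * genL) ^ 2 ≠ 1 := by decide +kernel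

theorem gen_word : ∀ s : SL23, ∃ a b c d : Fin 3,
    s = genU ^ a.val * genL ^ b.val * genU ^ c.val * genL ^ d.val := by decide +kernel

theorem pair_conj : ∀ p r : SL23, p ^ 3 = 1 → p ≠ 1 → r ^ 3 = 1 → r ≠ 1 → (p * r) ^ 4 = 1 → (p * r) ^ 2 ≠ 1 →
    ∃ x : M23, x.det ≠ 0 ∧ x * (genU : M23) = (p : M23) * x ∧ x * (genL : M23) = (r : M23) * x := by
  decide +kernel

theorem sq_scalar : ∀ x : M23, x.det = -1 →
    x * x * (genU : M23) = (genU : M23) * (x * x) → x * x * (genL : M23) = (genL : M23) * (x * x) →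
    x * x = 1 := by decide +kernel

theorem det_cases : ∀ a : ZMod 3, a ≠ 0 → a = 1 ∨ a = -1 := by decide

theorem gl_det (a : GL (Fin 2) (ZMod 3)) : (a : M23).det = 1 ∨ (a : M23).det = -1 :=
  det_cases _ (Matrix.GeneralLinearGroup.det a).ne_zero

/-- A matrix of determinant one, as an element of the special linear group. -/
def mkSL (A : M23) (h : A.det = 1) : SL23 := ⟨A, h⟩

theorem coe_mkSL (A : M23) (h : A.det = 1) : (mkSL A h : M23) = A := rfl

theorem invol_unique : ∀ s : SL23, s * s = 1 → s ≠ 1 → s = -1 := by decide +kernel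

variable {Q : Type*} [Group Q]

/-- The extension of an embedding of `SL(2,3)` by an involution outside its image. -/
theorem nonempty_equiv (θ : SL23 →* Q) (hθ : Function.Injective θ) (hidx : θ.range.index = 2) {t : Q}
    (ht : t * t = 1) (htU : t ∉ θ.range) (hC : ∀ c : Q, (∀ s, c * θ s = θ s * c) → c ∈ θ.range) :
    Nonempty (GL (Fin 2) (ZMod 3) ≃* Q) := by
  classical
  haveI : θ.range.Normal := Subgroup.normal_of_index_eq_two hidx
  have hti : t⁻¹ = t := inv_eq_of_mul_eq_one_right ht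
  choose σ hσ using fun s : SL23 => (inferInstance : θ.range.Normal).conj_mem _ ⟨s, rfl⟩ t
  have hσm : ∀ a b, σ (a * b) = σ a * σ b := fun a b => hθ (by
    rw [map_mul, hσ, hσ, hσ, map_mul]; group)
  have hσ1 : σ 1 = 1 := hθ (by rw [hσ, map_one, mul_one, mul_inv_cancel])
  have hσp : ∀ a (k : ℕ), σ (a ^ k) = σ a ^ k := fun a k => by
    induction k with
    | zero => rw [pow_zero, pow_zero, hσ1]
    | succ k ih => rw [pow_succ, pow_succ, hσm, ih]
  have hσi : Function.Injective σ := fun a b h => hθ (by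
    have h' := congrArg θ h
    rw [hσ, hσ] at h'
    exact mul_left_cancel (mul_right_cancel h'))
  have hσσ : ∀ a, σ (σ a) = a := fun a => hθ (by
    rw [hσ, hσ, hti, ← mul_assoc, ← mul_assoc, ht, one_mul, mul_assoc, ht, mul_one])
  obtain ⟨u3, u1, l3, l1, ul4, ul2⟩ := gen_facts
  obtain ⟨x, hx0, hxu, hxl⟩ := pair_conj (σ genU) (σ genL) (by rw [← hσp, u3, hσ1])
    (fun h => u1 (hσi (h.trans hσ1.symm))) (by rw [← hσp, l3, hσ1])
    (fun h => l1 (hσi (h.trans hσ1.symm))) (by rw [← hσm, ← hσp, ul4, hσ1])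
    (fun h => ul2 (hσi (by rw [hσp, hσm, h, hσ1])))
  have hall : ∀ s : SL23, x * (s : M23) = (σ s : M23) * x := by
    let M : Submonoid SL23 :=
      { carrier := {s | x * (s : M23) = (σ s : M23) * x}
        one_mem' := by
          show x * ((1 : SL23) : M23) = (σ 1 : M23) * x
          rw [hσ1]; simp
        mul_mem' := fun {a b} ha hb => by
          show x * ((a * b : SL23) : M23) = (σ (a * b) : M23) * x
          rw [hσm, Matrix.SpecialLinearGroup.coe_mul, Matrix.SpecialLinearGroup.coe_mul, ← mul_assoc, ha,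
            mul_assoc, hb, mul_assoc] }
    have hu : genU ∈ M := hxu
    have hl : genL ∈ M := hxl
    intro s
    obtain ⟨a, b, c, d, rfl⟩ := gen_word s
    exact mul_mem (mul_mem (mul_mem (pow_mem hu _) (pow_mem hl _)) (pow_mem hu _)) (pow_mem hl _)
  have hdet : x.det = -1 := by
    refine (det_cases _ hx0).resolve_left fun h1 => htU ?_
    set v : SL23 := ⟨x, h1⟩ with hv
    have hv' : ∀ s, v * s = σ s * v := fun s => Subtype.ext (hall s)
    have : (θ v)⁻¹ * t ∈ θ.range := hC _ fun s => by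
      have h2 := congrArg θ (hv' s)
      rw [map_mul, map_mul, hσ] at h2
      have h3 : θ s = (θ v)⁻¹ * (t * θ s * t⁻¹ * θ v) := by rw [← h2, inv_mul_cancel_left]
      conv_rhs => rw [h3]
      group
    have := mul_mem (show θ v ∈ θ.range from ⟨v, rfl⟩) this
    rwa [mul_inv_cancel_left] at this
  have hxx : x * x = 1 := by
    refine sq_scalar x hdet ?_ ?_
    · rw [mul_assoc, hall, ← mul_assoc, hall, hσσ, mul_assoc]
    · rw [mul_assoc, hall, ← mul_assoc, hall, hσσ, mul_assoc]
  have hswap : ∀ s : SL23, x * (σ s : M23) = (s : M23) * x := fun s => by rw [hall, hσσ]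
  have htθ : ∀ s, t * θ s = θ (σ s) * t := fun s => by rw [hσ, inv_mul_cancel_right]
  have hpf : ∀ a : GL (Fin 2) (ZMod 3), ¬ (a : M23).det = 1 → ((a : M23) * x).det = 1 := fun a h => by
    rw [Matrix.det_mul, hdet, (gl_det a).resolve_left h]
    decide
  let f : GL (Fin 2) (ZMod 3) → Q := fun a =>
    if h : (a : M23).det = 1 then θ (mkSL a h) else θ (mkSL ((a : M23) * x) (hpf a h)) * t
  have hneg : ∀ a : GL (Fin 2) (ZMod 3), ¬ (a : M23).det = 1 → (a : M23).det = -1 := fun a h =>
    (gl_det a).resolve_left h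
  have hfm : ∀ a b, f (a * b) = f a * f b := by
    intro a b
    have hab : ((a * b : GL (Fin 2) (ZMod 3)) : M23) = (a : M23) * b := rfl
    have h11 : ¬ ((-1 : ZMod 3) = 1) := by decide
    by_cases ha : (a : M23).det = 1 <;> by_cases hb : (b : M23).det = 1
    · have h : ((a * b : GL (Fin 2) (ZMod 3)) : M23).det = 1 := by rw [hab, Matrix.det_mul, ha, hb, one_mul]
      simp only [f, dif_pos h, dif_pos ha, dif_pos hb]
      refine Eq.trans (congrArg θ ?_) (map_mul θ _ _)
      exact Subtype.ext hab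
    · have h : ¬ ((a * b : GL (Fin 2) (ZMod 3)) : M23).det = 1 := by
        rw [hab, Matrix.det_mul, ha, hneg b hb, one_mul]; exact h11
      simp only [f, dif_neg h, dif_pos ha, dif_neg hb]
      rw [← mul_assoc (θ _), ← map_mul θ]
      refine congrArg (fun z => θ z * t) (Subtype.ext ?_)
      show ((a * b : GL (Fin 2) (ZMod 3)) : M23) * x = (a : M23) * ((b : M23) * x)
      rw [hab, mul_assoc]
    · have h : ¬ ((a * b : GL (Fin 2) (ZMod 3)) : M23).det = 1 := by
        rw [hab, Matrix.det_mul, hb, hneg a ha, mul_one]; exact h11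
      simp only [f, dif_neg h, dif_neg ha, dif_pos hb]
      rw [mul_assoc (θ _) t, htθ, ← mul_assoc, ← map_mul]
      refine congrArg (fun z => θ z * t) (Subtype.ext ?_)
      show ((a * b : GL (Fin 2) (ZMod 3)) : M23) * x = (a : M23) * x * (σ (mkSL b hb) : M23)
      rw [hab, mul_assoc, mul_assoc, hswap, coe_mkSL]
    · have h : ((a * b : GL (Fin 2) (ZMod 3)) : M23).det = 1 := by
        rw [hab, Matrix.det_mul, hneg a ha, hneg b hb]; decide
      simp only [f, dif_pos h, dif_neg ha, dif_neg hb]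
      rw [mul_assoc (θ _) t, ← mul_assoc t, htθ, mul_assoc (θ (σ _)), ht, mul_one, ← map_mul]
      refine congrArg θ (Subtype.ext ?_)
      show ((a * b : GL (Fin 2) (ZMod 3)) : M23) = (a : M23) * x * (σ _ : M23)
      rw [hab, mul_assoc, hswap, coe_mkSL]
      rw [mul_assoc _ x x, hxx, mul_one]
  let F : GL (Fin 2) (ZMod 3) →* Q := MonoidHom.mk' f hfm
  refine ⟨MulEquiv.ofBijective F ⟨?_, ?_⟩⟩
  · rw [injective_iff_map_eq_one]
    intro a ha
    change f a = 1 at ha
    by_cases h : (a : M23).det = 1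
    · simp only [f, dif_pos h] at ha
      have := hθ (ha.trans (map_one θ).symm)
      exact Units.ext (congrArg Subtype.val this)
    · simp only [f, dif_neg h] at ha
      refine absurd ?_ htU
      rw [eq_inv_of_mul_eq_one_right ha]
      exact inv_mem ⟨_, rfl⟩
  · intro q
    by_cases hq : q ∈ θ.range
    · obtain ⟨s, rfl⟩ := hq
      refine ⟨Matrix.GeneralLinearGroup.mkOfDetNeZero (s : M23) (by rw [s.2]; decide), ?_⟩
      show f _ = _
      simp only [f]
      rw [dif_pos (show (Matrix.GeneralLinearGroup.mkOfDetNeZero (s : M23) _ : M23).det = 1 from s.2)]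
      rfl
    · obtain ⟨s, hs⟩ : q * t⁻¹ ∈ θ.range := by
        rw [Subgroup.mul_mem_iff_of_index_two hidx, inv_mem_iff]
        exact iff_of_false hq htU
      refine ⟨Matrix.GeneralLinearGroup.mkOfDetNeZero ((s : M23) * x)
        (by rw [Matrix.det_mul, s.2, hdet]; decide), ?_⟩
      show f _ = _
      simp only [f]
      rw [dif_neg (show ¬ (Matrix.GeneralLinearGroup.mkOfDetNeZero ((s : M23) * x) _ : M23).det = 1 by
        show ¬ ((s : M23) * x).det = 1
        rw [Matrix.det_mul, s.2, hdet]; decide)]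
      rw [show q = θ s * t by rw [hs, inv_mul_cancel_right]]
      refine congrArg (fun z => θ z * t) (Subtype.ext ?_)
      show (s : M23) * x * x = s
      rw [mul_assoc, hxx, mul_one]

end CfsgLib.GLTwoThreeExt
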