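import Cfsg.Agent.Lib.Elementary
import Cfsg.Agent.Lib.Local
import Mathlib.GroupTheory.SpecificGroups.Cyclic
import Mathlib.Algebra.BigOperators.Intervals
import Mathlib.Algebra.Group.Subgroup.Basic

/-!
Products over orbits of a `p`-group on an abelian normal subgroup.
-/

set_option autoImplicit false
set_option linter.unusedSectionVars false

namespace CfsgLib.ConjProduct

open CfsgLib CfsgLib.Local
open scoped IsMulCommutative

variable {G : Type*} [Group G] [Finite G] {V : Subgroup G} [V.Normal]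

/-- The orbit of `w` under `T`. -/
noncomputable def orb (T : Subgroup G) (w : V) : Finset V :=
  (Set.toFinite {v : V | ∃ t ∈ T, MulAut.conjNormal t w = v}).toFinset

theorem mem_orb {T : Subgroup G} {w v : V} : v ∈ orb T w ↔ ∃ t ∈ T, MulAut.conjNormal t w = v := by
  simp [orb]

theorem self_mem_orb (T : Subgroup G) (w : V) : w ∈ orb T w :=
  mem_orb.2 ⟨1, T.one_mem, by simp⟩

theorem conj_mem_orb {T : Subgroup G} {w v : V} (hv : v ∈ orb T w) {t : G} (ht : t ∈ T) :
    MulAut.conjNormal t v ∈ orb T w := by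
  obtain ⟨s, hs, rfl⟩ := mem_orb.1 hv
  exact mem_orb.2 ⟨t * s, T.mul_mem ht hs, by simp⟩

theorem orb_subset {T : Subgroup G} {w : V} {s : Finset V} (hw : w ∈ s)
    (hs : ∀ t ∈ T, ∀ v ∈ s, MulAut.conjNormal t v ∈ s) : orb T w ⊆ s := fun v hv => by
  obtain ⟨t, ht, rfl⟩ := mem_orb.1 hv
  exact hs t ht w hw

theorem stable_sdiff [DecidableEq V] {T : Subgroup G} {w : V} {s : Finset V}
    (hs : ∀ t ∈ T, ∀ v ∈ s, MulAut.conjNormal t v ∈ s) {t : G} (ht : t ∈ T) {v : V}
    (hv : v ∈ s \ orb T w) : MulAut.conjNormal t v ∈ s \ orb T w := by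
  rw [Finset.mem_sdiff] at hv ⊢
  refine ⟨hs t ht v hv.1, fun h => hv.2 ?_⟩
  have := conj_mem_orb h (T.inv_mem ht)
  rwa [map_inv, MulAut.inv_apply, MulEquiv.symm_apply_apply] at this

/-- A maximal subgroup containing the stabilizer. -/
theorem exists_step {p : ℕ} [Fact p.Prime] {T : Subgroup G} (hT : IsPGroup p T) {w : V}
    (hw : ∃ t ∈ T, MulAut.conjNormal t w ≠ w) :
    ∃ M : Subgroup G, M ≤ T ∧ (∀ t ∈ T, MulAut.conjNormal t w = w → t ∈ M) ∧
      (M.subgroupOf T).Normal ∧ (M.subgroupOf T).index = p := by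
  let St : Subgroup T :=
    { carrier := {t | MulAut.conjNormal (t : G) w = w}
      one_mem' := by simp
      mul_mem' := fun {a b} ha hb => by
        show MulAut.conjNormal ((a : G) * b) w = w
        rw [map_mul, MulAut.mul_apply, hb, ha]
      inv_mem' := fun {a} ha => by
        show MulAut.conjNormal ((a : G)⁻¹) w = w
        conv_lhs => rw [← (show MulAut.conjNormal (a : G) w = w from ha)]
        rw [map_inv, MulAut.inv_apply, MulEquiv.symm_apply_apply] }
  obtain ⟨t, ht, htw⟩ := hw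
  rcases eq_top_or_exists_le_coatom St with h | ⟨M, hM, hle⟩
  · exact absurd (show (⟨t, ht⟩ : T) ∈ St from h ▸ Subgroup.mem_top _) htw
  obtain ⟨hn, hi⟩ := index_coatom_pGroup hT hM
  have e : (M.map T.subtype).subgroupOf T = M :=
    Subgroup.comap_map_eq_self_of_injective T.subtype_injective M
  refine ⟨M.map T.subtype, Subgroup.map_subtype_le M, fun s hs hsw => ⟨⟨s, hs⟩, hle hsw, rfl⟩, ?_, ?_⟩
  · rw [e]; exact hn
  · rw [e]; exact hi

section step

variable {p : ℕ} [Fact p.Prime] {T M : Subgroup G} {w : V} {a : G}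

theorem conj_notMem_orb (hMT : M ≤ T) (hst : ∀ t ∈ T, MulAut.conjNormal t w = w → t ∈ M) (ha : a ∈ T)
    (haM : a ∉ M) {v : V} (hv : v ∈ orb M w) : MulAut.conjNormal a v ∉ orb M w := by
  intro h
  obtain ⟨m, hm, rfl⟩ := mem_orb.1 hv
  obtain ⟨m', hm', e⟩ := mem_orb.1 h
  refine haM ?_
  have h1 : MulAut.conjNormal (m'⁻¹ * a * m) w = w := by
    rw [map_mul, map_mul, MulAut.mul_apply, MulAut.mul_apply, ← e, map_inv, MulAut.inv_apply,
      MulEquiv.symm_apply_apply]
  have h2 := hst _ (T.mul_mem (T.mul_mem (T.inv_mem (hMT hm')) ha) (hMT hm)) h1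
  have h3 := M.mul_mem (M.mul_mem hm' h2) (M.inv_mem hm)
  simpa [mul_assoc] using h3

variable [IsMulCommutative V] [(M.subgroupOf T).Normal]

/-- The orbit under `T` is the union of `p` translates of the orbit under `M`. -/
theorem prod_orb_step (hMT : M ≤ T) (hst : ∀ t ∈ T, MulAut.conjNormal t w = w → t ∈ M)
    (hidx : (M.subgroupOf T).index = p) (ha : a ∈ T) (haM : a ∉ M) :
    (orb T w).card = p * (orb M w).card ∧
      (∏ v ∈ orb T w, v) = ∏ i ∈ Finset.range p, MulAut.conjNormal (a ^ i) (∏ v ∈ orb M w, v) := by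
  classical
  set N := M.subgroupOf T
  set qa : T ⧸ N := QuotientGroup.mk ⟨a, ha⟩ with hqa
  have hcard : Nat.card (T ⧸ N) = p := hidx
  have hne : qa ≠ 1 := fun e => haM (Subgroup.mem_subgroupOf.1 ((QuotientGroup.eq_one_iff _).1 e))
  have hord : orderOf qa = p := orderOf_eq_prime (by rw [← hcard]; exact pow_card_eq_one') hne
  have hinj : ∀ i < p, ∀ j < p, ∀ v ∈ orb M w, ∀ v' ∈ orb M w,
      MulAut.conjNormal (a ^ i) v = MulAut.conjNormal (a ^ j) v' → i = j := by
    intro i hi j hj v hv v' hv' e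
    obtain ⟨m, hm, rfl⟩ := mem_orb.1 hv
    obtain ⟨m', hm', rfl⟩ := mem_orb.1 hv'
    have h1 : MulAut.conjNormal ((a ^ j * m')⁻¹ * (a ^ i * m)) w = w := by
      have e' : MulAut.conjNormal (a ^ i * m) w = MulAut.conjNormal (a ^ j * m') w := by
        rw [map_mul, MulAut.mul_apply, e, map_mul, MulAut.mul_apply]
      rw [map_mul, MulAut.mul_apply, e', map_inv, MulAut.inv_apply, MulEquiv.symm_apply_apply]
    have h2 := hst _ (T.mul_mem (T.inv_mem (T.mul_mem (T.pow_mem ha j) (hMT hm')))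
      (T.mul_mem (T.pow_mem ha i) (hMT hm))) h1
    have h3 : (a ^ j)⁻¹ * a ^ i ∈ M := by
      have := M.mul_mem (M.mul_mem hm' h2) (M.inv_mem hm)
      simpa [mul_assoc] using this
    refine pow_injOn_Iio_orderOf (x := qa) (by simpa [hord] using hi) (by simpa [hord] using hj) ?_
    show qa ^ i = qa ^ j
    rw [hqa, ← QuotientGroup.mk_pow, ← QuotientGroup.mk_pow, eq_comm, QuotientGroup.eq,
      Subgroup.mem_subgroupOf]
    simpa using h3
  have hset : orb T w = (Finset.range p).biUnion (fun i => (orb M w).image (MulAut.conjNormal (a ^ i))) := by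
    ext v
    simp only [Finset.mem_biUnion, Finset.mem_range, Finset.mem_image]
    constructor
    · intro hv
      obtain ⟨t, ht, rfl⟩ := mem_orb.1 hv
      obtain ⟨i, hi⟩ := mem_powers_of_prime_card (p := p) hcard (g' := (QuotientGroup.mk ⟨t, ht⟩ : T ⧸ N)) hne
      have hi' : qa ^ (i % p) = QuotientGroup.mk ⟨t, ht⟩ := by
        rw [← hord, pow_mod_orderOf]; exact hi
      rw [hqa, ← QuotientGroup.mk_pow, QuotientGroup.eq, Subgroup.mem_subgroupOf] at hi'
      refine ⟨i % p, Nat.mod_lt _ (Fact.out : p.Prime).pos, _,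
        mem_orb.2 ⟨(a ^ (i % p))⁻¹ * t, by simpa using hi', rfl⟩, ?_⟩
      rw [← MulAut.mul_apply, ← map_mul, mul_inv_cancel_left]
    · rintro ⟨i, _, u, hu, rfl⟩
      obtain ⟨m, hm, rfl⟩ := mem_orb.1 hu
      exact mem_orb.2 ⟨a ^ i * m, T.mul_mem (T.pow_mem ha i) (hMT hm), by simp⟩
  have hdisj : Set.PairwiseDisjoint ↑(Finset.range p)
      (fun i => (orb M w).image (MulAut.conjNormal (a ^ i))) := by
    intro i hi j hj hij
    refine Finset.disjoint_left.2 fun v hv hv' => hij ?_
    obtain ⟨u, hu, rfl⟩ := Finset.mem_image.1 hv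
    obtain ⟨u', hu', e⟩ := Finset.mem_image.1 hv'
    exact hinj i (Finset.mem_range.1 hi) j (Finset.mem_range.1 hj) u hu u' hu' e.symm
  constructor
  · rw [hset, Finset.card_biUnion hdisj, Finset.sum_congr rfl fun i _ =>
      Finset.card_image_of_injective _ (MulEquiv.injective (MulAut.conjNormal (a ^ i) : MulAut V)),
      Finset.sum_const, Finset.card_range, smul_eq_mul]
  · rw [hset, Finset.prod_biUnion hdisj]
    refine Finset.prod_congr rfl fun i _ => ?_
    rw [map_prod, Finset.prod_image fun u _ u' _ e => (MulEquiv.injective _) e]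

end step

variable [IsMulCommutative V]

theorem fix_prod {s : Finset V} {g : G} (hs : ∀ v ∈ s, MulAut.conjNormal g v ∈ s) :
    MulAut.conjNormal g (∏ v ∈ s, v) = ∏ v ∈ s, v := by
  classical
  have h : s.image (MulAut.conjNormal g) = s := Finset.eq_of_subset_of_card_le
    (Finset.image_subset_iff.2 hs) (by rw [Finset.card_image_of_injective _ (MulEquiv.injective _)])
  conv_rhs => rw [← h]
  rw [map_prod, Finset.prod_image fun u _ u' _ e => (MulEquiv.injective _) e]

/-- Translates of a product along a quadratically acting element. -/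
theorem prod_translates {a : G} {P : V}
    (he : MulAut.conjNormal a (MulAut.conjNormal a P * P⁻¹) = MulAut.conjNormal a P * P⁻¹) (n : ℕ) :
    (∏ i ∈ Finset.range n, MulAut.conjNormal (a ^ i) P) =
      (MulAut.conjNormal a P * P⁻¹) ^ (∑ i ∈ Finset.range n, i) * P ^ n := by
  set e := MulAut.conjNormal a P * P⁻¹ with hE
  have h : ∀ i : ℕ, MulAut.conjNormal (a ^ i) P = e ^ i * P := by
    intro i
    induction i with
    | zero => simp
    | succ i ih =>
      rw [pow_succ', map_mul, MulAut.mul_apply, ih, map_mul, map_pow (MulAut.conjNormal a : MulAut V) e i, he]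
      rw [show MulAut.conjNormal a P = e * P from (inv_mul_cancel_right _ _).symm, pow_succ, ← mul_assoc]
  rw [Finset.prod_congr rfl fun i _ => h i, Finset.prod_mul_distrib, Finset.prod_pow_eq_pow_sum,
    Finset.prod_const, Finset.card_range]

/-- The quadratic error of a fixed point free orbit union of an abelian 2-group is trivial. -/
theorem conj_prod_of_quad {B Y : Subgroup G} (hB : IsPGroup 2 B) (hYB : Y ≤ B) {a : G} (ha : a ∈ B)
    (hquad : ∀ v : V, ∀ b ∈ B, ∀ c ∈ B,
      MulAut.conjNormal c (MulAut.conjNormal b v * v⁻¹) = MulAut.conjNormal b v * v⁻¹)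
    (hsq : ∀ v : V, MulAut.conjNormal a (v * v) = v * v)
    (s : Finset V) (hs : ∀ t ∈ Y, ∀ v ∈ s, MulAut.conjNormal t v ∈ s)
    (hfree : ∀ v ∈ s, ∃ t ∈ Y, MulAut.conjNormal t v ≠ v) :
    MulAut.conjNormal a (∏ v ∈ s, v) = ∏ v ∈ s, v := by
  classical
  haveI : Fact (Nat.Prime 2) := ⟨Nat.prime_two⟩
  induction s using Finset.strongInduction with
  | H s ih =>
    rcases s.eq_empty_or_nonempty with rfl | ⟨w, hw⟩
    · simp
    have hsub := orb_subset hw hs
    have hlt : s \ orb Y w ⊂ s := Finset.sdiff_ssubset hsub ⟨w, self_mem_orb Y w⟩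
    rw [← Finset.prod_sdiff hsub, map_mul,
      ih _ hlt (fun t ht v hv => stable_sdiff hs ht hv) (fun v hv => hfree v (Finset.mem_sdiff.1 hv).1)]
    congr 1
    obtain ⟨M, hMY, hst, hn, hidx⟩ := exists_step (p := 2) (isPGroup_of_le hYB hB) (hfree w hw)
    obtain ⟨⟨c, hcY⟩, hcM⟩ : ∃ c : Y, c ∉ M.subgroupOf Y := by
      by_contra h
      push Not at h
      rw [(Subgroup.eq_top_iff' _).2 h, Subgroup.index_top] at hidx
      norm_num at hidx
    rw [(prod_orb_step hMY hst hidx hcY (fun h => hcM (Subgroup.mem_subgroupOf.2 h))).2,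
      prod_translates (hquad _ c (hYB hcY) c (hYB hcY)), map_mul]
    simp only [Finset.sum_range_succ, Finset.sum_range_zero, zero_add, pow_one, sq]
    rw [hsq, hquad _ c (hYB hcY) a ha]

end CfsgLib.ConjProduct
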