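import Mathlib
import Cfsg.Agent.Lib.SLCard
import Cfsg.Agent.S0263

/-! Sylow `p`-subgroups of `GL₂(q)` and `SL₂(q)` in the natural characteristic. -/

set_option autoImplicit false

namespace CfsgLib.SL2Sylow

open Matrix
open scoped Pointwise

variable {F : Type*} [Field F]

local notation "GL2" => Matrix.GeneralLinearGroup (Fin 2) F
local notation "SL2" => Matrix.SpecialLinearGroup (Fin 2) F

/-- `[[1,t],[0,1]]`. -/
def us : Multiplicative F →* SL2 where
  toFun t := ⟨!![1, t.toAdd; 0, 1], by simp [det_fin_two_of]⟩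
  map_one' := Subtype.ext (by simp [Matrix.one_fin_two])
  map_mul' s t := Subtype.ext (by
    show _ = (!![1, s.toAdd; 0, 1] : Matrix (Fin 2) (Fin 2) F) * !![1, t.toAdd; 0, 1]
    simp [Matrix.mul_fin_two, add_comm])

theorem us_injective : Function.Injective (us (F := F)) := fun s t h => by
  have h' : s.toAdd = t.toAdd := congrFun (congrFun (congrArg Subtype.val h) 0) 1
  exact Multiplicative.toAdd.injective h'

/-- The upper unitriangular subgroup of `GL₂`. -/
def UG : Subgroup GL2 := ((SpecialLinearGroup.toGL).comp (us (F := F))).range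

theorem card_UG [Fintype F] : Nat.card (UG (F := F)) = Fintype.card F := by
  rw [UG, ← Nat.card_congr (MonoidHom.ofInjective
    (f := (SpecialLinearGroup.toGL).comp (us (F := F))) (SLCard.toGL_injective.comp us_injective)).toEquiv]
  rw [Nat.card_congr Multiplicative.toAdd, Nat.card_eq_fintype_card]

theorem mem_UG {g : GL2} : g ∈ UG ↔ ∃ t : F, g.1 = !![1, t; 0, 1] := by
  constructor
  · rintro ⟨t, rfl⟩; exact ⟨t.toAdd, rfl⟩
  · rintro ⟨t, h⟩; exact ⟨Multiplicative.ofAdd t, Units.ext h.symm⟩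

theorem exists_conj_UG [Fintype F] (p : ℕ) [Fact p.Prime] [CharP F p] (P : Sylow p GL2) :
    ∃ g : GL2, (P : Subgroup GL2) = (UG (F := F)).map (MulAut.conj g).toMonoidHom := by
  classical
  obtain ⟨f, -, hf⟩ := FiniteField.card F p
  have hU : IsPGroup p (UG (F := F)) := IsPGroup.of_card (n := (f : ℕ)) (by rw [card_UG, hf])
  obtain ⟨Q, hQ⟩ := hU.exists_le_sylow
  have hQeq : UG (F := F) = (Q : Subgroup GL2) := Subgroup.eq_of_le_of_card_ge hQ (by
    rw [card_UG, Cfsg.Agent.S0263.result rfl p 2 Q, pow_one])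
  obtain ⟨g, hg⟩ := MulAction.exists_smul_eq GL2 Q P
  refine ⟨g, ?_⟩
  rw [← hg, hQeq]
  rfl

theorem mem_normalizer_UG {g : GL2} : g ∈ Subgroup.normalizer (UG (F := F) : Set GL2) ↔ g.1 1 0 = 0 := by
  constructor
  · intro hg
    obtain ⟨t, ht⟩ := mem_UG.mp ((Subgroup.mem_normalizer_iff.mp hg _).mp
      (mem_UG.mpr ⟨1, (rfl : (SpecialLinearGroup.toGL (us (Multiplicative.ofAdd (1 : F)))).1 = !![1, 1; 0, 1])⟩))
    have h : g.1 * !![1, 1; 0, 1] = !![1, t; 0, 1] * g.1 := by
      rw [← ht]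
      show _ = (g * SpecialLinearGroup.toGL (us (Multiplicative.ofAdd (1 : F))) * g⁻¹ * g : GL2).1
      rw [inv_mul_cancel_right]
      rfl
    have := congrFun (congrFun h 1) 1
    simp [Matrix.mul_apply, Fin.sum_univ_two] at this
    exact this
  · intro hg
    have hd : g.1 0 0 ≠ 0 ∧ g.1 1 1 ≠ 0 := by
      have := g.det_ne_zero
      rw [det_fin_two, hg, mul_zero, sub_zero] at this
      exact mul_ne_zero_iff.mp this
    have key : ∀ (x : GL2) (t : F), x.1 = !![1, t; 0, 1] →
        g * x * g⁻¹ = SpecialLinearGroup.toGL (us (Multiplicative.ofAdd (g.1 0 0 * t / g.1 1 1))) := by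
      intro x t hx
      rw [mul_inv_eq_iff_eq_mul]
      apply Units.ext
      show g.1 * x.1 = !![1, g.1 0 0 * t / g.1 1 1; 0, 1] * g.1
      rw [hx]
      ext i j
      fin_cases i <;> fin_cases j <;> simp [Matrix.mul_apply, Fin.sum_univ_two, hg]
      field_simp [hd.2]
      ring
    rw [Subgroup.mem_normalizer_iff]
    intro x
    constructor
    · intro hx
      obtain ⟨t, ht⟩ := mem_UG.mp hx
      rw [key x t ht]
      exact ⟨_, rfl⟩
    · intro hx
      obtain ⟨s, hs⟩ := mem_UG.mp hx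
      refine mem_UG.mpr ⟨g.1 1 1 * s / g.1 0 0, ?_⟩
      let y : GL2 := SpecialLinearGroup.toGL (us (Multiplicative.ofAdd (g.1 1 1 * s / g.1 0 0)))
      have hy : g * y * g⁻¹ = g * x * g⁻¹ := by
        rw [key y _ rfl]
        apply Units.ext
        rw [hs]
        show !![1, _; 0, 1] = !![1, s; 0, 1]
        simp only [toAdd_ofAdd]
        congr
        field_simp [hd.1, hd.2]
      exact (congrArg Units.val (mul_left_cancel (mul_right_cancel hy))).symm

theorem card_normalizer_UG [Fintype F] :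
    Nat.card (Subgroup.normalizer (UG (F := F) : Set GL2)) = Fintype.card F * (Fintype.card F - 1) ^ 2 := by
  classical
  let e : Subgroup.normalizer (UG (F := F) : Set GL2) ≃ Fˣ × Fˣ × F :=
    { toFun := fun g =>
        have hd : g.1.1 0 0 ≠ 0 ∧ g.1.1 1 1 ≠ 0 := by
          have := g.1.det_ne_zero
          rw [det_fin_two, mem_normalizer_UG.mp g.2, mul_zero, sub_zero] at this
          exact mul_ne_zero_iff.mp this
        (Units.mk0 _ hd.1, Units.mk0 _ hd.2, g.1.1 0 1)
      invFun := fun p => ⟨GeneralLinearGroup.mkOfDetNeZero !![(p.1 : F), p.2.2; 0, p.2.1] (by simp [det_fin_two_of]),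
        mem_normalizer_UG.mpr rfl⟩
      left_inv := fun g => by
        apply Subtype.ext; apply Units.ext
        show !![g.1.1 0 0, g.1.1 0 1; 0, g.1.1 1 1] = g.1.1
        conv_rhs => rw [Matrix.eta_fin_two g.1.1, mem_normalizer_UG.mp g.2]
      right_inv := fun p => Prod.ext (Units.ext rfl) (Prod.ext (Units.ext rfl) rfl) }
  rw [Nat.card_congr e, Nat.card_prod, Nat.card_prod, Nat.card_units, Nat.card_eq_fintype_card]
  ring

theorem mem_centralizer_UG {u : GL2} {d : F} (hu : u.1 = !![1, d; 0, 1]) (hd : d ≠ 0) {g : GL2} :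
    g ∈ Subgroup.centralizer ({u} : Set GL2) ↔ g.1 1 0 = 0 ∧ g.1 1 1 = g.1 0 0 := by
  rw [Subgroup.mem_centralizer_singleton_iff]
  constructor
  · intro h
    have e := congrArg Units.val h
    simp only [Units.val_mul, hu] at e
    have e00 := congrFun (congrFun e 0) 0
    have e01 := congrFun (congrFun e 0) 1
    simp [Matrix.mul_apply, Fin.sum_univ_two, hd] at e00 e01
    exact ⟨e00, mul_left_cancel₀ hd (by linear_combination -e01)⟩
  · rintro ⟨h1, h2⟩
    apply Units.ext
    simp only [Units.val_mul, hu]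
    ext i j
    fin_cases i <;> fin_cases j <;> simp [Matrix.mul_apply, Fin.sum_univ_two, h1, h2, mul_comm, add_comm]

theorem card_centralizer_UG [Fintype F] {u : GL2} {d : F} (hu : u.1 = !![1, d; 0, 1]) (hd : d ≠ 0) :
    Nat.card (Subgroup.centralizer ({u} : Set GL2)) = Fintype.card F * (Fintype.card F - 1) := by
  classical
  let e : Subgroup.centralizer ({u} : Set GL2) ≃ Fˣ × F :=
    { toFun := fun g =>
        have h0 : g.1.1 0 0 ≠ 0 := by
          have h := g.1.det_ne_zero
          obtain ⟨h1, h2⟩ := (mem_centralizer_UG hu hd).mp g.2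
          rw [det_fin_two, h1, mul_zero, sub_zero, h2] at h
          exact left_ne_zero_of_mul h
        (Units.mk0 _ h0, g.1.1 0 1)
      invFun := fun p => ⟨GeneralLinearGroup.mkOfDetNeZero !![(p.1 : F), p.2; 0, p.1] (by simp [det_fin_two_of]),
        (mem_centralizer_UG hu hd).mpr ⟨rfl, rfl⟩⟩
      left_inv := fun g => by
        obtain ⟨h1, h2⟩ := (mem_centralizer_UG hu hd).mp g.2
        apply Subtype.ext; apply Units.ext
        show !![g.1.1 0 0, g.1.1 0 1; 0, g.1.1 0 0] = g.1.1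
        conv_rhs => rw [Matrix.eta_fin_two g.1.1, h1, h2]
      right_inv := fun p => Prod.ext (Units.ext rfl) rfl }
  rw [Nat.card_congr e, Nat.card_prod, Nat.card_units, Nat.card_eq_fintype_card, mul_comm]

theorem commute_centralizer_UG {u : GL2} {d : F} (hu : u.1 = !![1, d; 0, 1]) (hd : d ≠ 0) {g h : GL2}
    (hg : g ∈ Subgroup.centralizer ({u} : Set GL2)) (hh : h ∈ Subgroup.centralizer ({u} : Set GL2)) :
    g * h = h * g := by
  obtain ⟨a1, a2⟩ := (mem_centralizer_UG hu hd).mp hg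
  obtain ⟨b1, b2⟩ := (mem_centralizer_UG hu hd).mp hh
  apply Units.ext
  simp only [Units.val_mul]
  ext i j
  fin_cases i <;> fin_cases j <;> simp [Matrix.mul_apply, Fin.sum_univ_two, a1, a2, b1, b2] <;> ring

theorem map_centralizer {G : Type*} [Group G] (g a : G) :
    (Subgroup.centralizer ({a} : Set G)).map (MulAut.conj g).toMonoidHom =
      Subgroup.centralizer ({g * a * g⁻¹} : Set G) := by
  ext x
  rw [Subgroup.mem_map, Subgroup.mem_centralizer_singleton_iff]
  constructor
  · rintro ⟨y, hy, rfl⟩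
    rw [Subgroup.mem_centralizer_singleton_iff] at hy
    show g * y * g⁻¹ * (g * a * g⁻¹) = g * a * g⁻¹ * (g * y * g⁻¹)
    calc g * y * g⁻¹ * (g * a * g⁻¹) = g * (y * a) * g⁻¹ := by group
      _ = g * (a * y) * g⁻¹ := by rw [hy]
      _ = _ := by group
  · intro h
    refine ⟨g⁻¹ * x * g, Subgroup.mem_centralizer_singleton_iff.mpr ?_, by simp [MulAut.conj_apply]; group⟩
    calc g⁻¹ * x * g * a = g⁻¹ * (x * (g * a * g⁻¹)) * g := by group
      _ = g⁻¹ * ((g * a * g⁻¹) * x) * g := by rw [h]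
      _ = _ := by group

theorem exists_std_of_mem [Fintype F] (p : ℕ) [Fact p.Prime] [CharP F p] (P : Sylow p GL2) {a : GL2}
    (ha : a ∈ P) (ha1 : a ≠ 1) :
    ∃ (g u : GL2) (d : F), (P : Subgroup GL2) = (UG (F := F)).map (MulAut.conj g).toMonoidHom ∧
      a = g * u * g⁻¹ ∧ u.1 = !![1, d; 0, 1] ∧ d ≠ 0 := by
  obtain ⟨g, hg⟩ := exists_conj_UG p P
  have hm : a ∈ (UG (F := F)).map (MulAut.conj g).toMonoidHom := hg ▸ ha
  obtain ⟨u, hu, rfl⟩ := hm
  obtain ⟨d, hd⟩ := mem_UG.mp hu
  refine ⟨g, u, d, hg, rfl, hd, fun h0 => ha1 ?_⟩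
  have : u = 1 := Units.ext (by rw [hd, h0]; simp [Matrix.one_fin_two])
  simp [this]

theorem card_centralizer [Fintype F] (p : ℕ) [Fact p.Prime] [CharP F p] (P : Sylow p GL2) {a : GL2}
    (ha : a ∈ P) (ha1 : a ≠ 1) :
    Nat.card (Subgroup.centralizer ({a} : Set GL2)) = Fintype.card F * (Fintype.card F - 1) := by
  obtain ⟨g, u, d, -, rfl, hu, hd⟩ := exists_std_of_mem p P ha ha1
  rw [← map_centralizer, ← card_centralizer_UG hu hd]
  exact (Nat.card_congr ((Subgroup.centralizer ({u} : Set GL2)).equivMapOfInjective _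
    (MulAut.conj g).injective).toEquiv).symm

theorem inf_eq_bot [Fintype F] (p : ℕ) [Fact p.Prime] [CharP F p] (P Q : Sylow p GL2) (h : P ≠ Q) :
    (P : Subgroup GL2) ⊓ (Q : Subgroup GL2) = ⊥ := by
  rw [Subgroup.eq_bot_iff_forall]
  rintro a ⟨haP, haQ⟩
  by_contra ha1
  obtain ⟨g, u, d, -, hau, hu, hd⟩ := exists_std_of_mem p P haP ha1
  have hab : ∀ (R : Sylow p GL2), a ∈ R → ∀ x ∈ (R : Subgroup GL2), x ∈ Subgroup.centralizer ({a} : Set GL2) := by
    intro R haR x hx
    obtain ⟨k, hk⟩ := exists_conj_UG p R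
    have h1 : a ∈ (UG (F := F)).map (MulAut.conj k).toMonoidHom := hk ▸ haR
    have h2 : x ∈ (UG (F := F)).map (MulAut.conj k).toMonoidHom := hk ▸ hx
    obtain ⟨_, ⟨s, rfl⟩, e1⟩ := h1
    obtain ⟨_, ⟨t, rfl⟩, e2⟩ := h2
    rw [Subgroup.mem_centralizer_singleton_iff, ← e1, ← e2, ← map_mul, ← map_mul, ← map_mul, ← map_mul, mul_comm]
  have hcomm : ∀ x ∈ (P : Subgroup GL2), ∀ y ∈ (Q : Subgroup GL2), x * y = y * x := by
    intro x hx y hy
    have hx' := hab P haP x hx
    have hy' := hab Q haQ y hy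
    rw [hau, ← map_centralizer, Subgroup.mem_map] at hx' hy'
    obtain ⟨x', hxc, rfl⟩ := hx'
    obtain ⟨y', hyc, rfl⟩ := hy'
    rw [← map_mul, ← map_mul, commute_centralizer_UG hu hd hxc hyc]
  have hnorm : (P : Subgroup GL2) ≤ Subgroup.normalizer ((Q : Subgroup GL2) : Set GL2) := by
    intro x hx
    rw [Subgroup.mem_normalizer_iff]
    intro y
    constructor
    · intro hy; rwa [hcomm x hx y hy, mul_inv_cancel_right]
    · intro hy
      have e := hcomm x hx _ hy
      have : y = x * y * x⁻¹ := by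
        calc y = x⁻¹ * ((x * y * x⁻¹) * x) := by group
          _ = x⁻¹ * (x * (x * y * x⁻¹)) := by rw [e]
          _ = x * y * x⁻¹ := by group
      rw [this]; exact hy
  have hsup : IsPGroup p ((P : Subgroup GL2) ⊔ Q : Subgroup GL2) :=
    IsPGroup.to_sup_of_normal_right' P.2 Q.2 hnorm
  exact h (Sylow.ext ((P.is_maximal' hsup le_sup_left).symm.trans (Q.is_maximal' hsup le_sup_right)))

theorem card_normalizer [Fintype F] (p : ℕ) [Fact p.Prime] [CharP F p] (P : Sylow p GL2) :
    Nat.card (Subgroup.normalizer ((P : Subgroup GL2) : Set GL2)) = Fintype.card F * (Fintype.card F - 1) ^ 2 := by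
  obtain ⟨g, hg⟩ := exists_conj_UG p P
  rw [hg, ← Subgroup.map_normalizer_eq_of_bijective (UG (F := F)) (f := (MulAut.conj g).toMonoidHom)
    (MulAut.conj g).bijective, ← card_normalizer_UG]
  exact (Nat.card_congr ((Subgroup.normalizer (UG (F := F) : Set GL2)).equivMapOfInjective _
    (MulAut.conj g).injective).toEquiv).symm

theorem card_sylow [Fintype F] (p : ℕ) [Fact p.Prime] [CharP F p] :
    Nat.card (Sylow p GL2) = Fintype.card F + 1 := by
  let P : Sylow p GL2 := default
  have h := (Subgroup.normalizer ((P : Subgroup GL2) : Set GL2)).card_mul_index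
  rw [show (Subgroup.normalizer ((P : Subgroup GL2) : Set GL2)).index = Nat.card (Sylow p GL2) from
      (Sylow.card_eq_index_normalizer P).symm, card_normalizer p P, Matrix.card_GL_field, Fin.prod_univ_two] at h
  simp only [Fin.val_zero, pow_zero, Fin.val_one, pow_one] at h
  obtain ⟨r, hr⟩ := Nat.exists_eq_add_of_le (Fintype.one_lt_card (α := F))
  rw [hr] at h ⊢
  have e1 : (1 + 1 + r) ^ 2 - 1 = (1 + r) * (3 + r) := by
    have : (1 + 1 + r) ^ 2 = (1 + r) * (3 + r) + 1 := by ring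
    omega
  have e2 : (1 + 1 + r) ^ 2 - (1 + 1 + r) = (1 + r) * (1 + 1 + r) := by
    have : (1 + 1 + r) ^ 2 = (1 + r) * (1 + 1 + r) + (1 + 1 + r) := by ring
    omega
  rw [show 1 + 1 + r - 1 = 1 + r by omega] at h
  simp only [Nat.succ_eq_add_one] at h
  rw [e1, e2] at h
  exact Nat.eq_of_mul_eq_mul_left (show 0 < (1 + 1 + r) * (1 + r) ^ 2 by positivity) (by rw [h]; ring)

theorem conj_comp {G : Type*} [Group G] (a b : G) :
    (MulAut.conj a).toMonoidHom.comp (MulAut.conj b).toMonoidHom = (MulAut.conj (a * b)).toMonoidHom :=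
  MonoidHom.ext fun x => by simp [MulAut.conj_apply, mul_assoc]

/-- The upper unitriangular subgroup of `SL₂`. -/
def US : Subgroup SL2 := (us (F := F)).range

theorem sylow_SL [Fintype F] (p : ℕ) [Fact p.Prime] [CharP F p] (P : Sylow p SL2) :
    ∃ g : SL2, (P : Subgroup SL2) = (US (F := F)).map (MulAut.conj g).toMonoidHom := by
  obtain ⟨f, -, hf⟩ := FiniteField.card F p
  have hpp : p.Prime := Fact.out
  have hcard : Nat.card (US (F := F)) = p ^ (f : ℕ) := by
    rw [US, ← Nat.card_congr (MonoidHom.ofInjective us_injective).toEquiv, Nat.card_congr Multiplicative.toAdd,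
      Nat.card_eq_fintype_card, hf]
  obtain ⟨Q, hQ⟩ := (IsPGroup.of_card hcard).exists_le_sylow
  have hQeq : US (F := F) = (Q : Subgroup SL2) := Subgroup.eq_of_le_of_card_ge hQ (by
    rw [hcard, Sylow.card_eq_multiplicity, SLCard.card_SL_two, hf]
    have hne : (p ^ (f : ℕ)) ^ 2 - 1 ≠ 0 := by
      have := Nat.one_lt_pow (two_ne_zero) (Nat.one_lt_pow f.ne_zero hpp.one_lt)
      omega
    have hnd : ¬ p ∣ (p ^ (f : ℕ)) ^ 2 - 1 := by
      intro h
      rw [← pow_mul] at h
      have h5 := Nat.dvd_sub (dvd_pow_self p (show (f : ℕ) * 2 ≠ 0 by simp)) h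
      rw [Nat.sub_sub_self (Nat.one_le_pow _ _ hpp.pos)] at h5
      exact hpp.not_dvd_one h5
    rw [Nat.factorization_mul (pow_ne_zero _ hpp.ne_zero) hne, Finsupp.add_apply,
      Nat.factorization_pow_self hpp, Nat.factorization_eq_zero_of_not_dvd hnd, add_zero])
  obtain ⟨g, hg⟩ := MulAction.exists_smul_eq SL2 Q P
  refine ⟨g, ?_⟩
  rw [← hg, hQeq]
  rfl

theorem sup_US {g : SL2} (hg : g.1 1 0 ≠ 0) :
    US (F := F) ⊔ (US (F := F)).map (MulAut.conj g).toMonoidHom = ⊤ := by
  set H := US (F := F) ⊔ (US (F := F)).map (MulAut.conj g).toMonoidHom with hH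
  have hU : ∀ t, us (Multiplicative.ofAdd t) ∈ H := fun t => Subgroup.mem_sup_left ⟨_, rfl⟩
  have hQ : ∀ t, g * us (Multiplicative.ofAdd t) * g⁻¹ ∈ H := fun t => Subgroup.mem_sup_right ⟨_, ⟨_, rfl⟩, rfl⟩
  set x : F := -g.1 0 0 / g.1 1 0 with hx
  set h : SL2 := us (Multiplicative.ofAdd x) * g with hh
  have hconj : ∀ t, h * us (Multiplicative.ofAdd t) * h⁻¹ ∈ H := fun t => by
    rw [hh, show us (Multiplicative.ofAdd x) * g * us (Multiplicative.ofAdd t) * (us (Multiplicative.ofAdd x) * g)⁻¹ =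
      us (Multiplicative.ofAdd x) * (g * us (Multiplicative.ofAdd t) * g⁻¹) * (us (Multiplicative.ofAdd x))⁻¹ by group]
    exact H.mul_mem (H.mul_mem (hU x) (hQ t)) (H.inv_mem (hU x))
  have h00 : h.1 0 0 = 0 := by
    show (!![1, x; 0, 1] * g.1) 0 0 = 0
    simp [Matrix.mul_apply, Fin.sum_univ_two, hx]
    field_simp
    ring
  have h10 : h.1 1 0 = g.1 1 0 := by
    show (!![1, x; 0, 1] * g.1) 1 0 = _
    simp [Matrix.mul_apply, Fin.sum_univ_two]
  have hdet : h.1 0 0 * h.1 1 1 - h.1 0 1 * h.1 1 0 = 1 := by rw [← det_fin_two]; exact h.2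
  rw [h00, zero_mul, zero_sub] at hdet
  have hL : ∀ s : F, SpecialLinearGroup.transvection (one_ne_zero : (1 : Fin 2) ≠ 0) s ∈ H := by
    intro s
    have e : h * us (Multiplicative.ofAdd (-(s / h.1 1 0 ^ 2))) * h⁻¹ =
        SpecialLinearGroup.transvection (one_ne_zero : (1 : Fin 2) ≠ 0) s := by
      rw [mul_inv_eq_iff_eq_mul]
      apply Subtype.ext
      show h.1 * !![1, -(s / h.1 1 0 ^ 2); 0, 1] = (1 + single 1 0 s) * h.1
      have h1 : h.1 1 0 ≠ 0 := by rw [h10]; exact hg
      ext i j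
      fin_cases i <;> fin_cases j <;> simp [Matrix.mul_apply, Fin.sum_univ_two, h00]
      field_simp
      linear_combination s * hdet
    rw [← e]; exact hconj _
  rw [eq_top_iff]
  intro A _
  refine SL2.transvection_induction (fun A => A ∈ H) (fun i j hij c => ?_) (fun A B => H.mul_mem) A
  fin_cases i <;> fin_cases j
  · exact absurd rfl hij
  · have e : us (Multiplicative.ofAdd c) = SpecialLinearGroup.transvection (zero_ne_one : (0 : Fin 2) ≠ 1) c := by
      apply Subtype.ext
      show !![1, c; 0, 1] = 1 + single 0 1 c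
      ext a b; fin_cases a <;> fin_cases b <;> simp
    have := hU c
    rw [e] at this
    exact this
  · exact hL c
  · exact absurd rfl hij

theorem sup_eq_top [Fintype F] (p : ℕ) [Fact p.Prime] [CharP F p] (P Q : Sylow p SL2) (h : P ≠ Q) :
    (P : Subgroup SL2) ⊔ (Q : Subgroup SL2) = ⊤ := by
  obtain ⟨k, hk⟩ := sylow_SL p P
  obtain ⟨l, hl⟩ := sylow_SL p Q
  have hg : (k⁻¹ * l).1 1 0 ≠ 0 := by
    intro h0
    apply h
    apply Sylow.ext
    rw [hk, hl]
    have hn : (US (F := F)).map (MulAut.conj (k⁻¹ * l)).toMonoidHom = US := by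
      apply Subgroup.eq_of_le_of_card_ge
      · rintro _ ⟨_, ⟨t, rfl⟩, rfl⟩
        set g := k⁻¹ * l with hg
        have hd : g.1 0 0 * g.1 1 1 = 1 := by
          have h2 : g.1.det = 1 := g.2
          rw [det_fin_two, h0, mul_zero, sub_zero] at h2
          exact h2
        refine ⟨Multiplicative.ofAdd (g.1 0 0 ^ 2 * t.toAdd), ?_⟩
        show us _ = g * us t * g⁻¹
        rw [eq_mul_inv_iff_mul_eq]
        apply Subtype.ext
        show !![1, g.1 0 0 ^ 2 * t.toAdd; 0, 1] * g.1 = g.1 * !![1, t.toAdd; 0, 1]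
        ext i j
        fin_cases i <;> fin_cases j <;> simp [Matrix.mul_apply, Fin.sum_univ_two, h0]
        linear_combination g.1 0 0 * t.toAdd * hd
      · exact (Nat.card_congr ((US (F := F)).equivMapOfInjective _ (MulAut.conj (k⁻¹ * l)).injective).toEquiv).le
    conv_lhs => rw [← hn, Subgroup.map_map, conj_comp, mul_inv_cancel_left]
  have := congrArg (Subgroup.map (MulAut.conj k).toMonoidHom) (sup_US hg)
  rw [Subgroup.map_sup, Subgroup.map_top_of_surjective _ (MulAut.conj k).surjective, Subgroup.map_map] at this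
  rw [hk, hl, ← this, conj_comp, mul_inv_cancel_left]

end CfsgLib.SL2Sylow
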