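import Cfsg.Agent.Lib.ThompsonComplementBase
import Cfsg.Agent.Lib.Components
import Cfsg.Agent.Lib.ClassTwoSylow

/-!
Thompson's normal `p`-complement criterion with `C(Z(S))` and `N(J(S))`, for `p` odd or groups
without section `S₄`.
-/

set_option autoImplicit false
set_option linter.unusedSectionVars false
set_option maxHeartbeats 400000

namespace CfsgLib.ThompsonComplement

open CfsgLib CfsgLib.Local Cfsg Subgroup
open scoped commutatorElement Pointwise

universe u
variable {G : Type u} [Group G]

/-- The centre of a subgroup, inside the ambient group. -/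
def Zc (T : Subgroup G) : Subgroup G := T ⊓ Subgroup.centralizer (T : Set G)

theorem Zc_map {H : Type*} [Group H] (f : G →* H) (T : Subgroup G) (hf : Set.InjOn f (T : Set G)) :
    Zc (T.map f) = (Zc T).map f := by
  ext y
  constructor
  · rintro ⟨⟨x, hx, rfl⟩, hy⟩
    refine ⟨x, ⟨hx, fun t ht => hf (T.mul_mem ht hx) (T.mul_mem hx ht) ?_⟩, rfl⟩
    rw [map_mul, map_mul]
    exact hy _ ⟨t, ht, rfl⟩
  · rintro ⟨x, ⟨hx, hx'⟩, rfl⟩
    refine ⟨⟨x, hx, rfl⟩, ?_⟩
    rintro _ ⟨t, ht, rfl⟩
    rw [← map_mul, ← map_mul, hx' t ht]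

theorem J_map [Finite G] {e : ℕ} {H : Type*} [Group H] (f : G →* H) (T : Subgroup G) (hf : Set.InjOn f (T : Set G)) :
    ZJ.thompsonJ e (T.map f) = (ZJ.thompsonJ e T).map f := by
  have h1 := ZJ.thompsonJ_map e (f := f.comp T.subtype) (fun x y h => Subtype.ext (hf x.2 y.2 h)) ⊤
  have h2 := ZJ.thompsonJ_map e T.subtype_injective ⊤
  rw [← MonoidHom.range_eq_map, MonoidHom.range_comp, Subgroup.range_subtype] at h1
  rw [← MonoidHom.range_eq_map, Subgroup.range_subtype] at h2
  rw [h1, ← Subgroup.map_map, ← h2]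

theorem normalizer_le_normalizer_Zc (T : Subgroup G) :
    Subgroup.normalizer (T : Set G) ≤ Subgroup.normalizer (Zc T : Set G) := by
  intro g hg
  refine mem_normalizer_of_map_conj_eq ?_
  rw [← Zc_map _ _ (MulAut.conj g).injective.injOn, map_conj_eq_of_mem_normalizer hg]

theorem normalizer_le_normalizer_J [Finite G] {e : ℕ} (T : Subgroup G) :
    Subgroup.normalizer (T : Set G) ≤ Subgroup.normalizer (ZJ.thompsonJ e T : Set G) := by
  intro g hg
  refine mem_normalizer_of_map_conj_eq ?_
  rw [← J_map _ _ (MulAut.conj g).injective.injOn, map_conj_eq_of_mem_normalizer hg]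

theorem Zc_ne_bot [Finite G] {p : ℕ} [Fact p.Prime] {T : Subgroup G} (hT : IsPGroup p T) (hne : T ≠ ⊥) :
    Zc T ≠ ⊥ := by
  haveI : Nontrivial T := (Subgroup.nontrivial_iff_ne_bot _).mpr hne
  haveI := hT.center_nontrivial
  obtain ⟨⟨z, hz⟩, hz1⟩ := exists_ne (1 : Subgroup.center T)
  intro hb
  have : (z : G) ∈ Zc T :=
    ⟨z.2, fun y hy => congrArg Subtype.val (Subgroup.mem_center_iff.mp hz ⟨y, hy⟩)⟩
  rw [hb, Subgroup.mem_bot] at this
  exact hz1 (Subtype.ext (Subtype.ext this))

theorem J_ne_bot [Finite G] {p e : ℕ} [Fact p.Prime] (he : e = 0 ∨ e = p) {T : Subgroup G}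
    (hT : IsPGroup p T) (hne : T ≠ ⊥) :
    ZJ.thompsonJ e T ≠ ⊥ := fun h => ZJ.zj_ne_bot he hT hne (by
  rw [ZJ.zj, h]; simp)

/-- The hypothesis of the criterion for one `p`-subgroup. -/
def Crit (p e : ℕ) (T : Subgroup G) : Prop :=
  HasNormalPComplement p (Subgroup.centralizer (Zc T : Set G)) ∧
    HasNormalPComplement p (Subgroup.normalizer (ZJ.thompsonJ e T : Set G))

theorem Crit.of_normalizers [Finite G] {p e : ℕ} [Fact p.Prime] {T : Subgroup G}
    (h1 : HasNormalPComplement p (Subgroup.normalizer (Zc T : Set G)))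
    (h2 : HasNormalPComplement p (Subgroup.normalizer (ZJ.thompsonJ e T : Set G))) : Crit p e T :=
  ⟨ZJ.hasNormalPComplement_of_le (Subgroup.centralizer_le_normalizer _) h1, h2⟩

theorem Crit.conj [Finite G] {p e : ℕ} [Fact p.Prime] {T : Subgroup G} (h : Crit p e T) (g : G) :
    Crit p e (T.map (MulAut.conj g).toMonoidHom) := by
  refine ⟨?_, ?_⟩
  · rw [Zc_map _ _ (MulAut.conj g).injective.injOn]
    refine ZJ.hasNormalPComplement_of_le (fun x hx => ?_)
      (ZJ.hasNormalPComplement_map (MulAut.conj g).toMonoidHom h.1)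
    refine mem_map_conj.2 fun z hz => ?_
    have h1 := hx (g * z * g⁻¹) ⟨z, hz, rfl⟩
    calc z * (g⁻¹ * x * g) = g⁻¹ * ((g * z * g⁻¹) * x) * g := by group
      _ = g⁻¹ * (x * (g * z * g⁻¹)) * g := by rw [h1]
      _ = _ := by group
  · rw [J_map _ _ (MulAut.conj g).injective.injOn]
    rw [← Subgroup.map_equiv_normalizer_eq]
    exact ZJ.hasNormalPComplement_map _ h.2

theorem Crit.sub [Finite G] {p e : ℕ} [Fact p.Prime] {X : Subgroup G} {R : Subgroup X}
    (h : Crit p e (R.map X.subtype)) : Crit p e R := by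
  refine ⟨ZJ.hasNormalPComplement_of_isPGroup_map X.subtype_injective (ZJ.hasNormalPComplement_of_le ?_ h.1),
    ZJ.hasNormalPComplement_of_isPGroup_map X.subtype_injective (ZJ.hasNormalPComplement_of_le ?_ h.2)⟩
  · rw [Zc_map _ _ X.subtype_injective.injOn]
    rintro _ ⟨x, hx, rfl⟩ _ ⟨z, hz, rfl⟩
    exact congrArg Subtype.val (hx z hz)
  · rw [J_map _ _ X.subtype_injective.injOn]
    exact Subgroup.le_normalizer_map _

theorem involves_of_subgroup {A : Type*} [Group A] {X : Subgroup G} (h : Involves A X) : Involves A G := by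
  obtain ⟨K, R, hR, ⟨e⟩⟩ := h
  set i := K.equivMapOfInjective X.subtype X.subtype_injective
  have e1 : (R.map X.subtype).subgroupOf (K.map X.subtype) = (R.subgroupOf K).map i.toMonoidHom := by
    ext ⟨y, k, hk, rfl⟩
    constructor
    · rintro ⟨r, hr, hre⟩
      have hrk : r = k := X.subtype_injective hre
      subst hrk
      exact ⟨⟨r, hk⟩, hr, rfl⟩
    · rintro ⟨⟨r, hr'⟩, hr, hre⟩
      refine ⟨r, hr, ?_⟩
      have h1 := congrArg (fun q : (K.map X.subtype) => (q : G)) hre
      exact h1
  haveI hn : ((R.map X.subtype).subgroupOf (K.map X.subtype)).Normal := by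
    rw [e1]; exact hR.map _ i.surjective
  exact ⟨K.map X.subtype, R.map X.subtype, hn, ⟨(QuotientGroup.congr _ _ i e1.symm).symm.trans e⟩⟩

theorem hasNormalPComplement_of_crit {G : Type u} [Group G] [Finite G] {p e : ℕ} [Fact p.Prime]
    (he : e = 0 ∨ e = p)
    (hfree : p ≠ 2 ∨ ¬ Involves (Equiv.Perm (Fin 4)) G) (P : Sylow p G) (hC : Crit p e (P : Subgroup G)) :
    HasNormalPComplement p G := by
  induction hn : Nat.card G using Nat.strong_induction_on generalizing G with
  | h n ih =>
    subst hn
    have hp : p.Prime := Fact.out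
    have hconj : ∀ T : Sylow p G, Crit p e (T : Subgroup G) := by
      intro T
      obtain ⟨g, hg⟩ := MulAction.exists_smul_eq G P T
      rw [← hg, Sylow.coe_subgroup_smul, Subgroup.pointwise_smul_def]
      exact hC.conj g
    have hsub : ∀ (X : Subgroup G) (R : Sylow p X), X ≠ ⊤ →
        Crit p e ((R : Subgroup X).map X.subtype) → HasNormalPComplement p X := fun X R hX h =>
      ih _ (CfsgLib.card_lt_of_lt_top hX.lt_top) (hfree.imp id fun h4 hX4 => h4 (involves_of_subgroup hX4))
        R h.sub rfl
    by_contra hG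
    set bad : Set (Subgroup G) := {Q | IsPGroup p Q ∧ Q ≠ ⊥ ∧
      ¬ HasNormalPComplement p (Subgroup.normalizer (Q : Set G))} with hbad
    let f : Subgroup G → ℕ := fun Q => p ^ (Nat.card (Subgroup.normalizer (Q : Set G))).factorization p
    have hne : bad.Nonempty := by
      by_contra h
      rw [Set.not_nonempty_iff_eq_empty] at h
      refine hG (hasNormalPComplement_of_local fun Q hQ hQ0 => ?_)
      by_contra h'
      exact (Set.eq_empty_iff_forall_notMem.mp h) Q ⟨hQ, hQ0, h'⟩
    obtain ⟨H₁, hH₁, hmax₁⟩ := Set.exists_max_image bad f (Set.toFinite _) hne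
    obtain ⟨H, ⟨hH, hfH⟩, hmax₂⟩ := Set.exists_max_image {Q | Q ∈ bad ∧ f Q = f H₁}
      (fun Q => Nat.card Q) (Set.toFinite _) ⟨H₁, hH₁, rfl⟩
    -- the maximal bad subgroup is normal
    have hNtop : Subgroup.normalizer (H : Set G) = ⊤ := by
      by_contra hNne
      set N := Subgroup.normalizer (H : Set G) with hNdef
      obtain ⟨R⟩ := (inferInstance : Nonempty (Sylow p N))
      set R' := (R : Subgroup N).map N.subtype with hR'
      have hR'p : IsPGroup p R' := R.2.map _
      obtain ⟨T, hT⟩ := hR'p.exists_le_sylow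
      by_cases heq : R' = (T : Subgroup G)
      · exact hH.2.2 (hsub N R hNne (by rw [← hR', heq]; exact hconj T))
      have hHR : H ≤ R' := by
        have h1 : H.subgroupOf N ≤ (R : Subgroup N) := by
          haveI : (H.subgroupOf N).Normal := Subgroup.normal_in_normalizer
          exact (CfsgLib.le_pCore (N := H.subgroupOf N) hH.1.comap_subtype).trans (pCore_le_sylow R)
        intro x hx
        exact ⟨⟨x, Subgroup.le_normalizer hx⟩, h1 hx, rfl⟩
      have hR'0 : R' ≠ ⊥ := fun e => hH.2.1 (le_bot_iff.mp (e ▸ hHR))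
      have hlt := CfsgLib.inf_normalizer_lt T hT heq
      have hXgood : ∀ X : Subgroup G, IsPGroup p X → X ≠ ⊥ →
          Subgroup.normalizer (R' : Set G) ≤ Subgroup.normalizer (X : Set G) →
          HasNormalPComplement p (Subgroup.normalizer (X : Set G)) := by
        intro X hXp hX0 hNX
        by_contra hXb
        have hle := hmax₁ X ⟨hXp, hX0, hXb⟩
        rw [← hfH] at hle
        have h1 : Nat.card ↥((T : Subgroup G) ⊓ Subgroup.normalizer (R' : Set G)) ≤ f X :=
          ZJ.card_le_pPart (inf_le_right.trans hNX) (T.2.to_le inf_le_left)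
        have h2 : Nat.card R' = f H := by
          rw [hR', Subgroup.card_map_of_injective N.subtype_injective]
          exact R.card_eq_multiplicity
        have h3 : Nat.card R' < Nat.card ↥((T : Subgroup G) ⊓ Subgroup.normalizer (R' : Set G)) :=
          lt_of_le_of_ne (Subgroup.card_le_of_le hlt.le) fun h =>
            hlt.ne (Subgroup.eq_of_le_of_card_ge hlt.le h.ge)
        omega
      exact hH.2.2 (hsub N R hNne (Crit.of_normalizers
        (hXgood _ (hR'p.to_le inf_le_left) (Zc_ne_bot hR'p hR'0) (normalizer_le_normalizer_Zc R'))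
        (hXgood _ (hR'p.to_le (ZJ.thompsonJ_le e R')) (J_ne_bot he hR'p hR'0) (normalizer_le_normalizer_J R'))))
    haveI hHn : H.Normal := Subgroup.normalizer_eq_top_iff.mp hNtop
    set O := pCore p G with hO
    have hOp : IsPGroup p O := isPGroup_pCore p
    have hHO : H ≤ O := CfsgLib.le_pCore hH.1
    have hfull : f H = p ^ (Nat.card G).factorization p := by
      simp only [f, hNtop, Subgroup.card_top]
    have hgoodX : ∀ X : Subgroup G, IsPGroup p X → O < X → ∀ T : Sylow p G,
        (T : Subgroup G) ≤ Subgroup.normalizer (X : Set G) →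
        HasNormalPComplement p (Subgroup.normalizer (X : Set G)) := by
      intro X hXp hOX T hT
      by_contra hXb
      have hX0 : X ≠ ⊥ := fun e => (bot_le (a := O)).not_gt (e ▸ hOX)
      have h1 : f H ≤ f X := by
        rw [hfull, ← T.card_eq_multiplicity]
        exact ZJ.card_le_pPart hT T.2
      have h2 : f X = f H₁ := le_antisymm (hmax₁ X ⟨hXp, hX0, hXb⟩) (hfH ▸ h1)
      have h3 := hmax₂ X ⟨⟨hXp, hX0, hXb⟩, h2⟩
      exact (lt_of_lt_of_le (lt_of_le_of_lt hHO hOX) le_rfl).ne
        (Subgroup.eq_of_le_of_card_ge (hHO.trans hOX.le) h3)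
    -- `O_{p'}(G) = 1`
    have hK1 : pPrimeCore p G = ⊥ := by
      by_contra hne'
      set K := pPrimeCore p G with hK
      let π := QuotientGroup.mk' K
      have hs : Function.Surjective π := QuotientGroup.mk'_surjective K
      have hlt : Nat.card (G ⧸ K) < Nat.card G := by
        rw [Subgroup.card_eq_card_quotient_mul_card_subgroup K]
        haveI : Nontrivial K := (Subgroup.nontrivial_iff_ne_bot K).mpr hne'
        exact lt_mul_of_one_lt_right Nat.card_pos Finite.one_lt_card
      have hdisj : ∀ x ∈ (P : Subgroup G), x ∈ K → x = 1 := by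
        intro x hx hxK
        obtain ⟨k, hk⟩ := P.2.exists_card_eq
        exact Subgroup.disjoint_def.mp (Subgroup.disjoint_of_coprime_natCard (by
          rw [hk]; exact ((card_pPrimeCore_coprime p).pow_right k).symm)) hx hxK
      have hinj : Set.InjOn π ((P : Subgroup G) : Set G) := by
        intro x hx y hy hxy
        have h1 : x⁻¹ * y ∈ K := QuotientGroup.eq.mp hxy
        exact inv_mul_eq_one.mp (hdisj _ (mul_mem (inv_mem hx) hy) h1)
      have hlift : ∀ Z : Subgroup G, Z ≤ (P : Subgroup G) →
          Subgroup.normalizer ((Z.map π : Subgroup (G ⧸ K)) : Set (G ⧸ K)) ≤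
            (Subgroup.normalizer (Z : Set G)).map π := by
        intro Z hZP y hy
        obtain ⟨g, rfl⟩ := hs y
        have hZp : IsPGroup p Z := P.2.to_le hZP
        haveI : Group.IsNilpotent Z := hZp.isNilpotent
        have hcop : (Nat.card Z).Coprime (Nat.card K) := by
          obtain ⟨k, hk⟩ := hZp.exists_card_eq
          rw [hk]
          exact ((card_pPrimeCore_coprime p).pow_right k).symm
        have hka : ∀ a ∈ Z, g⁻¹ * a * g ∈ K ⊔ Z := by
          intro a ha
          have h1 : π (g⁻¹ * a * g) ∈ Z.map π := by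
            refine (Subgroup.mem_normalizer_iff.mp hy _).mpr ?_
            rw [← map_inv, ← map_mul, ← map_mul]
            exact ⟨a, ha, congrArg π (by group)⟩
          have h2 : g⁻¹ * a * g ∈ (Z.map π).comap π := h1
          rwa [Subgroup.comap_map_eq, QuotientGroup.ker_mk', sup_comm] at h2
        obtain ⟨w, hw, hwA⟩ := coprime_key_normalize hcop (Or.inl inferInstance) (A := Z) (W := K)
          (fun a _ => by rw [Subgroup.normalizer_eq_top_iff.2 inferInstance]; exact Subgroup.mem_top a) hka
        refine ⟨g * w, mem_normalizer_of_map_conj_eq (Subgroup.eq_of_le_of_card_ge (map_conj_le hwA)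
          (Subgroup.card_map_of_injective (MulAut.conj (g * w)).injective).ge), ?_⟩
        rw [map_mul, show π w = 1 from (QuotientGroup.eq_one_iff w).mpr hw, mul_one]
      have hq := ih _ hlt (hfree.imp id fun h4 hX4 => h4 (ClassTwoSylow.involves_of_quotient hX4))
        (P.mapSurjective hs) (by
          show Crit p e ((P : Subgroup G).map π)
          refine ⟨?_, ?_⟩
          · rw [Zc_map _ _ hinj]
            refine ZJ.hasNormalPComplement_of_le (fun y hy => ?_) (ZJ.hasNormalPComplement_map π hC.1)
            obtain ⟨g, hg, rfl⟩ := hlift (Zc (P : Subgroup G)) inf_le_left (Subgroup.centralizer_le_normalizer _ hy)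
            refine ⟨g, fun z hz => ?_, rfl⟩
            have h1 := hy (π z) ⟨z, hz, rfl⟩
            have h2 : g * z * g⁻¹ ∈ Zc (P : Subgroup G) := (Subgroup.mem_normalizer_iff.mp hg z).mp hz
            have h3 : g * z * g⁻¹ = z := hinj h2.1 hz.1 (by
              rw [map_mul, map_mul, map_inv, ← h1, mul_inv_cancel_right])
            exact (mul_inv_eq_iff_eq_mul.mp h3).symm
          · rw [J_map _ _ hinj]
            exact ZJ.hasNormalPComplement_of_le (hlift _ (ZJ.thompsonJ_le e _))
              (ZJ.hasNormalPComplement_map π hC.2)) rfl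
      refine hG ?_
      rw [hasNormalPComplement_iff] at hq ⊢
      have hb : pPrimeCore p (G ⧸ K) = ⊥ := pPrimeCore_quotient_eq_bot p
      intro x
      obtain ⟨k, hk⟩ := hq (QuotientGroup.mk x)
      refine ⟨k, ?_⟩
      rw [← QuotientGroup.mk_pow, QuotientGroup.eq_one_iff, hb, Subgroup.mem_bot] at hk
      exact hk
    -- `G / O_p(G)` has a normal `p`-complement
    have hPO : (P : Subgroup G) ≠ O := by
      intro h
      refine hG ?_
      have h1 : Subgroup.normalizer (ZJ.thompsonJ e (P : Subgroup G) : Set G) = ⊤ := by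
        rw [eq_top_iff]
        refine le_trans ?_ (normalizer_le_normalizer_J _)
        rw [h]
        exact (Subgroup.normalizer_eq_top_iff.mpr inferInstance).ge
      have h2 := hC.2
      rw [h1] at h2
      exact hasNormalPComplement_of_equiv Subgroup.topEquiv h2
    let π := QuotientGroup.mk' O
    have hs : Function.Surjective π := QuotientGroup.mk'_surjective O
    have hπ1 : ∀ x ∈ O, π x = 1 := fun x hx => (QuotientGroup.eq_one_iff x).mpr hx
    have hO0 : O ≠ ⊥ := fun e => hH.2.1 (le_bot_iff.mp (e ▸ hHO))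
    have hltQ : Nat.card (G ⧸ O) < Nat.card G := by
      rw [Subgroup.card_eq_card_quotient_mul_card_subgroup O]
      haveI : Nontrivial O := (Subgroup.nontrivial_iff_ne_bot O).mpr hO0
      exact lt_mul_of_one_lt_right Nat.card_pos Finite.one_lt_card
    have hQnpc : HasNormalPComplement p (G ⧸ O) := by
      refine ih _ hltQ (hfree.imp id fun h4 hX4 => h4 (ClassTwoSylow.involves_of_quotient hX4))
        (P.mapSurjective hs) ?_ rfl
      set T : Subgroup (G ⧸ O) := (P.mapSurjective hs : Subgroup (G ⧸ O)) with hT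
      have hTp : IsPGroup p T := (P.mapSurjective hs).2
      have hTmap : T = (P : Subgroup G).map π := rfl
      have hT0 : T ≠ ⊥ := fun e => hPO (le_antisymm (by
        rw [hTmap, Subgroup.map_eq_bot_iff, QuotientGroup.ker_mk'] at e
        exact e) (pCore_le_sylow P))
      have hgood : ∀ Z : Subgroup (G ⧸ O), Z ≤ T → Z ≠ ⊥ →
          Subgroup.normalizer (T : Set (G ⧸ O)) ≤ Subgroup.normalizer (Z : Set (G ⧸ O)) →
          HasNormalPComplement p (Subgroup.normalizer (Z : Set (G ⧸ O))) := by
        intro Z hZT hZ0 hNZ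
        set X := Z.comap π with hX
        have hOX : O < X := by
          refine lt_of_le_of_ne (fun x hx => ?_) fun h => hZ0 ?_
          · rw [hX, Subgroup.mem_comap, hπ1 x hx]
            exact one_mem _
          · refine (Subgroup.eq_bot_iff_forall _).mpr fun y hy => ?_
            obtain ⟨g, rfl⟩ := hs y
            exact hπ1 g (h.ge hy)
        have hXp : IsPGroup p X := (hTp.to_le hZT).comap_of_ker_isPGroup π (by
          rw [QuotientGroup.ker_mk']; exact isPGroup_pCore p)
        have hNX : Subgroup.normalizer (X : Set G) = (Subgroup.normalizer (Z : Set (G ⧸ O))).comap π :=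
          (Subgroup.comap_normalizer_eq_of_surjective Z hs).symm
        have hPX : (P : Subgroup G) ≤ Subgroup.normalizer (X : Set G) := by
          rw [hNX]
          exact fun x hx => (Subgroup.le_normalizer.trans hNZ) (Subgroup.mem_map_of_mem π hx)
        have h1 := hgoodX X hXp hOX P hPX
        rw [hNX] at h1
        have h2 := ZJ.hasNormalPComplement_map π h1
        rwa [Subgroup.map_comap_eq_self_of_surjective hs] at h2
      exact Crit.of_normalizers (hgood _ inf_le_left (Zc_ne_bot hTp hT0) (normalizer_le_normalizer_Zc T))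
        (hgood _ (ZJ.thompsonJ_le e T) (J_ne_bot he hTp hT0) (normalizer_le_normalizer_J T))
    set Kb := pPrimeCore p (G ⧸ O) with hKb
    set M := Kb.comap π with hM
    haveI hMn : M.Normal := Subgroup.normal_comap _
    have hOM : O ≤ M := fun x hx => by
      rw [hM, Subgroup.mem_comap, hπ1 x hx]; exact one_mem _
    have hQp : IsPGroup p ((G ⧸ O) ⧸ Kb) := isPGroup_quotient_of_hasNormalPComplement hQnpc
    have hKcop : ∀ m ∈ M, ∀ k : ℕ, m ^ p ^ k ∈ O → m ∈ O := by
      intro m hm k hmp
      have hmK : π m ∈ Kb := Subgroup.mem_comap.mp hm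
      have h1 : (orderOf (π m)).Coprime p :=
        Nat.Coprime.coprime_dvd_left (Subgroup.orderOf_dvd_natCard Kb hmK)
          (card_pPrimeCore_coprime (G := G ⧸ O) p)
      have h2 : (π m) ^ p ^ k = 1 := by
        rw [← map_pow]
        exact hπ1 _ hmp
      have h3 : π m = 1 := orderOf_eq_one_iff.mp
        (Nat.eq_one_of_dvd_coprimes (h1.pow_right k) dvd_rfl (orderOf_dvd_of_pow_eq_one h2))
      exact (QuotientGroup.eq_one_iff (N := O) m).mp h3
    have hpel : ∀ m ∈ M, (∃ k, m ^ p ^ k = 1) → m ∈ O := fun m hm ⟨k, hk⟩ =>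
      hKcop m hm k (by rw [hk]; exact one_mem _)
    have hMq : ∀ g : G, ∃ k : ℕ, g ^ p ^ k ∈ M := by
      intro g
      obtain ⟨k, hk⟩ := hQp (QuotientGroup.mk (π g))
      refine ⟨k, ?_⟩
      show π (g ^ p ^ k) ∈ Kb
      rw [map_pow]
      exact (QuotientGroup.eq_one_iff _).mp (by rw [QuotientGroup.mk_pow]; exact hk)
    -- `C(O) ≤ O`
    have hCO : Subgroup.centralizer (O : Set G) ≤ O := by
      set C := Subgroup.centralizer (O : Set G) with hCdef
      haveI : C.Normal := Subgroup.normal_centralizer
      set Y := M ⊓ C with hY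
      haveI : Y.Normal := inferInstance
      obtain ⟨R⟩ := (inferInstance : Nonempty (Sylow p Y))
      have hRc : ∀ r ∈ (R : Subgroup Y), ∀ y : Y, y * r = r * y := by
        intro r hr y
        have hrO : (r : G) ∈ O := hpel _ r.2.1 (by
          obtain ⟨k, hk⟩ := R.2 ⟨r, hr⟩
          exact ⟨k, congrArg (fun q : (R : Subgroup Y) => ((q : Y) : G)) hk⟩)
        exact Subtype.ext (y.2.2 (r : G) hrO).symm
      have hYnpc : HasNormalPComplement p Y :=
        hasNormalPComplement_of_normalizer_le_centralizer R fun y _ r hr => (hRc r hr y).symm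
      have hYK : pPrimeCore p Y = ⊥ := by
        refine (Subgroup.map_eq_bot_iff_of_injective _ Y.subtype_injective).mp ?_
        exact le_bot_iff.mp ((map_pPrimeCore_le p Y).trans hK1.le)
      have hYp : IsPGroup p Y := by
        have h1 := isPGroup_quotient_of_hasNormalPComplement hYnpc
        intro y
        obtain ⟨k, hk⟩ := h1 (QuotientGroup.mk y)
        refine ⟨k, ?_⟩
        rwa [← QuotientGroup.mk_pow, QuotientGroup.eq_one_iff, hYK, Subgroup.mem_bot] at hk
      refine CfsgLib.le_pCore (N := C) ?_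
      intro c
      obtain ⟨k, hk⟩ := hMq (c : G)
      obtain ⟨l, hl⟩ := hYp ⟨_, (⟨hk, pow_mem c.2 _⟩ : (c : G) ^ p ^ k ∈ Y)⟩
      exact ⟨k + l, Subtype.ext (by simpa [pow_add, pow_mul] using congrArg Subtype.val hl)⟩
    -- a normal subgroup with a normal `p`-complement lies in `O`
    have hnpcO : ∀ N : Subgroup G, N.Normal → HasNormalPComplement p N → N ≤ O := by
      intro N hN hNnpc
      haveI := hN
      refine CfsgLib.le_pCore ?_
      have h1 := isPGroup_quotient_of_hasNormalPComplement hNnpc
      have hb : pPrimeCore p N = ⊥ := (Subgroup.map_eq_bot_iff_of_injective _ N.subtype_injective).mp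
        (le_bot_iff.mp ((map_pPrimeCore_le p N).trans hK1.le))
      intro y
      obtain ⟨k, hk⟩ := h1 (QuotientGroup.mk y)
      refine ⟨k, ?_⟩
      rwa [← QuotientGroup.mk_pow, QuotientGroup.eq_one_iff, hb, Subgroup.mem_bot] at hk
    have hcen : Subgroup.centralizer ((O ⊓ Subgroup.centralizer (O : Set G) : Subgroup G) : Set G) ≤ O := by
      refine hnpcO _ Subgroup.normal_centralizer (ZJ.hasNormalPComplement_of_le (Subgroup.centralizer_le ?_) hC.1)
      have hOP : O ≤ (P : Subgroup G) := pCore_le_sylow P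
      intro z hz
      exact ⟨hCO fun o ho => hz.2 o (hOP ho), fun o ho => hz.2 o (hOP ho)⟩
    -- no proper non-trivial `P`-invariant subgroup between `O` and `M`
    have hinv : ∀ L : Subgroup G, O ≤ L → L ≤ M → L ≠ M →
        (P : Subgroup G) ≤ Subgroup.normalizer (L : Set G) → L = O := by
      intro L hOL hLM hne hPL
      set X := L ⊔ (P : Subgroup G) with hX
      have hXtop : X ≠ ⊤ := by
        intro h
        refine hne (le_antisymm hLM fun x hx => ?_)
        have hx' : x ∈ X := by rw [h]; exact Subgroup.mem_top x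
        rw [hX] at hx'
        obtain ⟨l, hl, u, hu, rfl⟩ := mem_sup_of_le_normalizer hPL hx'
        have huM : u ∈ M := by
          have h2 := M.mul_mem (M.inv_mem (hLM hl)) hx
          simpa using h2
        obtain ⟨k, hk⟩ := P.2 ⟨u, hu⟩
        exact mul_mem hl (hOL (hpel u huM ⟨k, congrArg Subtype.val hk⟩))
      have hXnpc : HasNormalPComplement p X := hsub X (P.subtype le_sup_right) hXtop (by
        rw [Sylow.coe_subtype, Subgroup.subgroupOf_map_subtype, inf_eq_left.mpr le_sup_right]
        exact hC)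
      set K := (pPrimeCore p X).map X.subtype with hK
      have hOX : O ≤ X := hOL.trans le_sup_left
      have hKC : K ≤ O := by
        refine le_trans ?_ hCO
        rintro _ ⟨k, hk, rfl⟩ o ho
        haveI : (O.subgroupOf X).Normal := Subgroup.normal_subgroupOf
        have hd : Disjoint (O.subgroupOf X) (pPrimeCore p X) := by
          have hOp' : IsPGroup p (O.subgroupOf X) := hOp.comap_subtype (K := X)
          obtain ⟨j, hj⟩ := hOp'.exists_card_eq
          exact Subgroup.disjoint_of_coprime_natCard (by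
            rw [hj]; exact ((card_pPrimeCore_coprime p).pow_right j).symm)
        exact congrArg Subtype.val (Subgroup.commute_of_normal_of_disjoint (O.subgroupOf X)
          (pPrimeCore p X) inferInstance inferInstance hd ⟨o, hOX ho⟩ k ho hk)
      refine le_antisymm (fun x hx => hpel x (hLM hx) ?_) hOL
      have h1 := isPGroup_quotient_of_hasNormalPComplement hXnpc
      obtain ⟨k, hk⟩ := h1 (QuotientGroup.mk (⟨x, Subgroup.mem_sup_left hx⟩ : X))
      rw [← QuotientGroup.mk_pow, QuotientGroup.eq_one_iff] at hk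
      obtain ⟨l, hl⟩ := hOp ⟨_, hKC (Subgroup.mem_map_of_mem X.subtype hk)⟩
      exact ⟨k + l, by simpa [pow_add, pow_mul] using congrArg Subtype.val hl⟩
    have hpre : ∀ Lb : Subgroup (G ⧸ O), Lb ≤ Kb →
        (P : Subgroup G).map π ≤ Subgroup.normalizer (Lb : Set (G ⧸ O)) → Lb = Kb ∨ Lb = ⊥ := by
      intro Lb hle hPn
      by_cases he' : Lb.comap π = M
      · exact Or.inl ((Subgroup.comap_injective hs) (he'.trans hM))
      right
      have h1 := hinv (Lb.comap π) (fun x hx => by
        rw [Subgroup.mem_comap, hπ1 x hx]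
        exact one_mem _) (Subgroup.comap_mono hle) he' (by
        rw [← Subgroup.comap_normalizer_eq_of_surjective Lb hs]
        exact Subgroup.map_le_iff_le_comap.mp hPn)
      rw [Subgroup.eq_bot_iff_forall]
      intro y hy
      obtain ⟨g, rfl⟩ := hs y
      exact hπ1 g (h1.le hy)
    have hab : ∀ m ∈ M, ∀ n ∈ M, ⁅m, n⁆ ∈ O := by
      by_cases hKb0 : Kb = ⊥
      · intro m hm n _
        have hmO : m ∈ O := by
          rw [← QuotientGroup.eq_one_iff, ← Subgroup.mem_bot, ← hKb0]
          exact hm
        have h1 := O.mul_mem hmO ((inferInstance : O.Normal).conj_mem _ (O.inv_mem hmO) n)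
        simpa [commutatorElement_def, mul_assoc] using h1
      obtain ⟨q, hq, hqd⟩ := Nat.exists_prime_and_dvd (n := Nat.card Kb) (fun h =>
        hKb0 (Subgroup.eq_bot_of_card_eq Kb h))
      haveI := Fact.mk hq
      set Pb := (P : Subgroup G).map π with hPb
      have hPbp : IsPGroup p Pb := P.2.map π
      obtain ⟨k, hk⟩ := hPbp.exists_card_eq
      haveI : Group.IsNilpotent Pb := hPbp.isNilpotent
      obtain ⟨Q, hQ⟩ := coprime_exists_invariant_sylow (A := Pb) (K := Kb)
        (Subgroup.le_normalizer_of_normal ..)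
        (by rw [hk]; exact ((card_pPrimeCore_coprime p).pow_right k).symm) (Or.inl inferInstance) q
      have hQ0 : (Q : Subgroup Kb).map Kb.subtype ≠ ⊥ := by
        rw [ne_eq, Subgroup.map_eq_bot_iff_of_injective _ Kb.subtype_injective]
        intro h
        have := Q.not_dvd_index
        rw [h, Subgroup.index_bot] at this
        exact this hqd
      have hQK := (hpre _ (Subgroup.map_subtype_le _) hQ).resolve_right hQ0
      have hKq : IsPGroup q Kb := by
        rw [← hQK]
        exact Q.2.map _
      haveI : Group.IsNilpotent Kb := hKq.isNilpotent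
      haveI : Nontrivial Kb := (Subgroup.nontrivial_iff_ne_bot Kb).mpr hKb0
      set D := (_root_.commutator Kb).map Kb.subtype with hD
      have hD' := hpre D (Subgroup.map_subtype_le _) (Subgroup.le_normalizer_of_normal ..)
      have hDbot : D = ⊥ := hD'.resolve_left fun h =>
        (Group.IsSolvable.commutator_lt_top_of_nontrivial Kb).ne (Subgroup.map_injective Kb.subtype_injective (by
          rw [← MonoidHom.range_eq_map, Subgroup.range_subtype]; exact h))
      intro m hm n hn
      rw [← QuotientGroup.eq_one_iff, ← Subgroup.mem_bot, ← hDbot]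
      exact ⟨⁅(⟨π m, hm⟩ : Kb), ⟨π n, hn⟩⁆,
        Subgroup.commutator_mem_commutator (Subgroup.mem_top _) (Subgroup.mem_top _),
        by simp only [map_commutatorElement, Subgroup.coe_subtype]; exact (map_commutatorElement π m n).symm⟩
    -- the Thompson subgroup is normal
    have hbase : Base p G M := ⟨hcen, hOM, hab, hKcop, hMq⟩
    have hgm : ZJ.goodMax e (P : Subgroup G) = ZJ.goodMax e O := by
      have hOP : O ≤ (P : Subgroup G) := pCore_le_sylow P
      obtain ⟨A0, hA0⟩ := ZJ.goodMax_nonempty e (P : Subgroup G)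
      have hA0O : A0 ≤ O := hbase.le_pCore hfree P he hA0
      ext A
      constructor
      · intro hA
        exact ⟨hbase.le_pCore hfree P he hA, hA.2.1, fun B hB hBg => hA.2.2 B (hB.trans hOP) hBg⟩
      · rintro ⟨h1, h2, h3⟩
        exact ⟨h1.trans hOP, h2, fun B hB hBg => (hA0.2.2 B hB hBg).trans (h3 A0 hA0O hA0.2.1)⟩
    have hJ : Subgroup.normalizer (ZJ.thompsonJ e (P : Subgroup G) : Set G) = ⊤ := by
      rw [show ZJ.thompsonJ e (P : Subgroup G) = ZJ.thompsonJ e O by rw [ZJ.thompsonJ, ZJ.thompsonJ, hgm]]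
      refine top_le_iff.1 (le_trans ?_ (normalizer_le_normalizer_J O))
      exact (Subgroup.normalizer_eq_top_iff.mpr inferInstance).ge
    refine hG (hasNormalPComplement_of_equiv Subgroup.topEquiv ?_)
    have h2 := hC.2
    rwa [hJ] at h2

end CfsgLib.ThompsonComplement
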