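import Cfsg.Agent.Lib.AbelianOffender
import Cfsg.Agent.Lib.FourSection
import Cfsg.Agent.Lib.ClassTwoSylow
import Cfsg.Agent.Lib.ThompsonComplementJ
import Cfsg.Agent.Lib.Subnormal
import Cfsg.Agent.Lib.Components

/-!
An element of order three modulo the centralizer of an abelian normal 2-subgroup, inverted by an
involution of the quotient, forces a section `S₄`.
-/

set_option autoImplicit false
set_option linter.unusedSectionVars false

namespace CfsgLib.S4Criterion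

open CfsgLib CfsgLib.Local CfsgLib.AbelianOffender Cfsg
open scoped Pointwise

variable {G : Type*} [Group G] [Finite G]

theorem involves_of_inverting {V : Subgroup G} [V.Normal] (hV : IsPGroup 2 V)
    (hVc : ∀ v ∈ V, ∀ w ∈ V, v * w = w * v) {r b : G}
    (hr3 : r ^ 3 ∈ Subgroup.centralizer (V : Set G)) (hr : r ∉ Subgroup.centralizer (V : Set G))
    (hb2 : b * b ∈ Subgroup.centralizer (V : Set G))
    (hbr : b * r * b⁻¹ * r ∈ Subgroup.centralizer (V : Set G)) :
    Involves (Equiv.Perm (Fin 4)) G := by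
  set K := Subgroup.centralizer (V : Set G) with hK
  haveI : K.Normal := Subgroup.normal_centralizer
  haveI : Fact (Nat.Prime 3) := ⟨Nat.prime_three⟩
  set π := QuotientGroup.mk' K
  have hπ : ∀ g, π g = 1 ↔ g ∈ K := fun g => QuotientGroup.eq_one_iff g
  -- replace `r` by an element of 3-power order
  obtain ⟨j, t, ht, hjt⟩ := Nat.exists_eq_pow_mul_and_not_dvd (orderOf_pos r).ne' 3 (by norm_num)
  set r' := r ^ t with hr'
  have hr'pow : r' ^ 3 ^ j = 1 := by rw [hr', ← pow_mul, mul_comm t, ← hjt, pow_orderOf_eq_one]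
  have hord : orderOf (π r) = 3 := orderOf_eq_prime (by rw [← map_pow]; exact (hπ _).2 hr3)
    (fun e => hr ((hπ r).1 e))
  have hr'K : r' ∉ K := fun h => ht (by
    rw [← hord]
    exact orderOf_dvd_of_pow_eq_one (by rw [← map_pow]; exact (hπ _).2 h))
  have hr'3 : π r' ^ 3 = 1 := by
    rw [hr', map_pow, ← pow_mul, mul_comm, pow_mul, ← hord, pow_orderOf_eq_one, one_pow]
  have hbb : π b * π b = 1 := by rw [← map_mul]; exact (hπ _).2 hb2
  have hbπ : π b * π r' * (π b)⁻¹ = (π r')⁻¹ := by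
    have h1 : π b * π r * (π b)⁻¹ = (π r)⁻¹ := by
      refine mul_eq_one_iff_eq_inv.1 ?_
      rw [← map_inv, ← map_mul, ← map_mul, ← map_mul]
      exact (hπ _).2 hbr
    rw [hr', map_pow, ← conj_pow, h1, inv_pow]
  -- a 3-subgroup normalized by a conjugate of `b`
  set L : Subgroup G := (Subgroup.zpowers (π r')).comap π with hL
  have hbL : ∀ l ∈ L, b * l * b⁻¹ ∈ L := by
    intro l hl
    obtain ⟨k, hk⟩ := Subgroup.mem_zpowers_iff.1 (show π l ∈ Subgroup.zpowers (π r') from hl)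
    show π (b * l * b⁻¹) ∈ Subgroup.zpowers (π r')
    rw [map_mul, map_mul, map_inv, ← hk, ← conj_zpow, hbπ]
    exact Subgroup.zpow_mem _ (Subgroup.inv_mem _ (Subgroup.mem_zpowers _)) k
  have hz : Subgroup.zpowers r' ≤ L := by
    rw [Subgroup.zpowers_le]
    exact Subgroup.mem_zpowers (π r')
  have hzp : IsPGroup 3 (Subgroup.zpowers r') := by
    refine IsPGroup.of_card_dvd_pow (n := j) ?_
    rw [Nat.card_zpowers]
    exact orderOf_dvd_of_pow_eq_one hr'pow
  obtain ⟨Q, ⟨hQp, hQL, hrQ'⟩, hQmax⟩ := Set.exists_max_image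
    {Q : Subgroup G | IsPGroup 3 Q ∧ Q ≤ L ∧ Subgroup.zpowers r' ≤ Q}
    (fun Q => Nat.card Q) (Set.toFinite _) ⟨_, hzp, hz, le_rfl⟩
  have hrQ : r' ∈ Q := hrQ' (Subgroup.mem_zpowers r')
  obtain ⟨c, hcL, P, hP, hPL, hQP, hBP⟩ := exists_conj_isPGroup (C := L)
    hQp (hQp.map (MulAut.conj b).toMonoidHom) hQL (map_conj_le fun x hx => hbL x (hQL hx))
  have hPQ : Q = P := Subgroup.eq_of_le_of_card_ge hQP (hQmax P ⟨hP, hPL, hrQ'.trans hQP⟩)
  set y := c * b with hy
  have hyQ : y ∈ Subgroup.normalizer (Q : Set G) := by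
    refine mem_normalizer_of_map_conj_eq (Subgroup.eq_of_le_of_card_ge ?_
      (Subgroup.card_map_of_injective (MulAut.conj y).injective).ge)
    refine map_conj_le fun x hx => ?_
    have h1 := hBP ⟨_, ⟨x, hx, rfl⟩, rfl⟩
    rw [hPQ]
    simpa [hy, mul_assoc] using h1
  obtain ⟨k, hk⟩ := Subgroup.mem_zpowers_iff.1 (show π c ∈ Subgroup.zpowers (π r') from hcL)
  have hyπ : π y * π r' * (π y)⁻¹ = (π r')⁻¹ := by
    calc π y * π r' * (π y)⁻¹ = π c * (π b * π r' * (π b)⁻¹) * (π c)⁻¹ := by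
          rw [hy, map_mul]; group
      _ = (π r')⁻¹ := by rw [hbπ, ← hk]; group
  have hyy : π y * π y = 1 := by
    have h1 : π b * π c * (π b)⁻¹ = (π c)⁻¹ := by rw [← hk, ← conj_zpow, hbπ, inv_zpow]
    calc π y * π y = π c * (π b * π c * (π b)⁻¹) * (π b * π b) := by rw [hy, map_mul]; group
      _ = 1 := by rw [h1, hbb, mul_one, mul_inv_cancel]
  -- the involutions of `V`
  let V₁ : Subgroup G :=
    { carrier := {v | v ∈ V ∧ v * v = 1}
      one_mem' := ⟨V.one_mem, one_mul 1⟩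
      mul_mem' := fun {a b} ha hb => ⟨V.mul_mem ha.1 hb.1, by
        calc a * b * (a * b) = a * (b * a) * b := by group
          _ = (a * a) * (b * b) := by rw [hVc _ hb.1 _ ha.1]; group
          _ = 1 := by rw [ha.2, hb.2, one_mul]⟩
      inv_mem' := fun {a} ha => ⟨V.inv_mem ha.1, by rw [← mul_inv_rev, ha.2, inv_one]⟩ }
  have hV₁n : ∀ g : G, ∀ v ∈ V₁, g * v * g⁻¹ ∈ V₁ := fun g v hv =>
    ⟨(inferInstance : V.Normal).conj_mem v hv.1 g, by
      calc g * v * g⁻¹ * (g * v * g⁻¹) = g * (v * v) * g⁻¹ := by group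
        _ = 1 := by rw [hv.2]; group⟩
  haveI : V₁.Normal := ⟨fun v hv g => hV₁n g v hv⟩
  have hodd : Odd (orderOf r') := by
    obtain ⟨i, -, hi⟩ := (Nat.dvd_prime_pow Nat.prime_three).1 (orderOf_dvd_of_pow_eq_one hr'pow)
    rw [hi]
    exact (by decide : Odd 3).pow
  obtain ⟨u, huV, hu⟩ : ∃ u ∈ V₁, r' * u * r'⁻¹ ≠ u := by
    by_contra h
    push Not at h
    refine hr'K fun v hv => ?_
    have h1 := ClassTwoSylow.fixes_abelian_two hV hVc hodd
      (fun a ha => (inferInstance : V.Normal).conj_mem a ha r') (fun a ha ha2 => h a ⟨ha, ha2⟩) v hv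
    exact (mul_inv_eq_iff_eq_mul.1 h1).symm
  -- elements of `V₁` normalizing `Q` are fixed by `r'`
  have hfix : ∀ v ∈ V₁, v ∈ Subgroup.normalizer (Q : Set G) → r' * v * r'⁻¹ = v := by
    intro v hv hvQ
    have h1 : v * r' * v⁻¹ * r'⁻¹ ∈ Q :=
      Q.mul_mem ((Subgroup.mem_normalizer_iff.1 hvQ r').1 hrQ) (Q.inv_mem hrQ)
    have h2 : v * r' * v⁻¹ * r'⁻¹ ∈ V₁ := by
      rw [show v * r' * v⁻¹ * r'⁻¹ = v * (r' * v⁻¹ * r'⁻¹) by group]
      exact V₁.mul_mem hv (hV₁n r' _ (V₁.inv_mem hv))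
    obtain ⟨i, hi⟩ := hQp ⟨_, h1⟩
    have h3 : (v * r' * v⁻¹ * r'⁻¹) ^ 3 ^ i = 1 := congrArg Subtype.val hi
    have h4 := ClassTwoSylow.eq_one_of_two_pow ((by decide : Odd 3).pow) h2.2 h3
    calc r' * v * r'⁻¹ = (v * r' * v⁻¹ * r'⁻¹)⁻¹ * v := by group
      _ = v := by rw [h4, inv_one, one_mul]
  set NQ := Subgroup.normalizer (Q : Set G)
  set K₀ := NQ ⊓ Subgroup.centralizer (V₁ : Set G) with hK₀
  set M := V₁ ⊔ NQ with hM
  haveI hK₀n : (K₀.subgroupOf M).Normal := by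
    haveI : (Subgroup.centralizer (V₁ : Set G)).Normal := Subgroup.normal_centralizer
    refine Subgroup.normal_subgroupOf_of_le_normalizer (sup_le (fun v hv => ?_) fun g hg => ?_)
    · refine mem_normalizer_of_map_conj_eq (Subgroup.eq_of_le_of_card_ge (map_conj_le fun x hx => ?_)
        (Subgroup.card_map_of_injective (MulAut.conj v).injective).ge)
      rwa [hx.2 v hv, mul_inv_cancel_right]
    · refine mem_normalizer_of_map_conj_eq (Subgroup.eq_of_le_of_card_ge (map_conj_le fun x hx => ?_)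
        (Subgroup.card_map_of_injective (MulAut.conj g).injective).ge)
      exact ⟨NQ.mul_mem (NQ.mul_mem hg hx.1) (NQ.inv_mem hg),
        (inferInstance : (Subgroup.centralizer (V₁ : Set G)).Normal).conj_mem x hx.2 g⟩
  set ρ := QuotientGroup.mk' (K₀.subgroupOf M)
  have hρ : ∀ g : M, ρ g = 1 ↔ (g : G) ∈ K₀ := fun g => by
    rw [← MonoidHom.mem_ker, QuotientGroup.ker_mk', Subgroup.mem_subgroupOf]
  have hρK : ∀ g : M, π g = 1 → (g : G) ∈ NQ → ρ g = 1 := fun g h h' =>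
    (hρ g).2 ⟨h', fun v hv => (hπ _).1 h v hv.1⟩
  set Wb := (V₁.subgroupOf M).map ρ
  have hrM : r' ∈ M := Subgroup.mem_sup_right (Subgroup.le_normalizer hrQ)
  have hyM : y ∈ M := Subgroup.mem_sup_right hyQ
  refine CfsgLib.ThompsonComplement.involves_of_subgroup (X := M)
    (ClassTwoSylow.involves_of_quotient (N := K₀.subgroupOf M) ?_)
  refine FourSection.involves_S4 (T := ⊥) (V := Wb) (IsPGroup.of_bot) ?_ ?_ ?_
    (x := ρ ⟨r', hrM⟩) (y := ρ ⟨y, hyM⟩) ?_ ?_ ?_ ?_ ?_ (v0 := ρ ⟨u, Subgroup.mem_sup_left huV⟩) ?_ ?_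
  · intro t ht v _
    rw [Subgroup.mem_bot.1 ht, one_mul, mul_one]
  · rintro _ ⟨v, hv, rfl⟩
    rw [← map_mul, show v * v = 1 from Subtype.ext hv.2, map_one]
  · rintro _ ⟨v, hv, rfl⟩ _ ⟨w, hw, rfl⟩
    rw [← map_mul, ← map_mul, show v * w = w * v from Subtype.ext (hVc _ hv.1 _ hw.1)]
  · rintro _ ⟨v, hv, rfl⟩
    rw [← map_inv, ← map_mul, ← map_mul]
    exact ⟨_, hV₁n r' _ hv, rfl⟩
  · rintro _ ⟨v, hv, rfl⟩
    rw [← map_inv, ← map_mul, ← map_mul]
    exact ⟨_, hV₁n y _ hv, rfl⟩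
  · rw [← map_pow]
    refine hρK _ ?_ ?_
    · rw [SubmonoidClass.coe_pow, map_pow]; exact hr'3
    · exact Subgroup.le_normalizer (Q.pow_mem hrQ 3)
  · rw [← map_inv, ← map_mul, ← map_mul, ← map_mul, Subgroup.mem_bot]
    refine hρK _ ?_ ?_
    · show π (y * r' * y⁻¹ * r') = 1
      rw [map_mul, map_mul, map_mul, map_inv, hyπ, inv_mul_cancel]
    · exact NQ.mul_mem (NQ.mul_mem (NQ.mul_mem hyQ (Subgroup.le_normalizer hrQ)) (NQ.inv_mem hyQ))
        (Subgroup.le_normalizer hrQ)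
  · rintro _ ⟨v, hv, rfl⟩
    rw [← map_inv, ← map_mul, ← map_mul, ← map_mul, ← map_mul]
    refine congrArg ρ (Subtype.ext ?_)
    show y * (y * (v : G) * y⁻¹) * y⁻¹ = (v : G)
    have h1 : y * y ∈ K := by rw [← hπ, map_mul]; exact hyy
    calc y * (y * (v : G) * y⁻¹) * y⁻¹ = (y * y) * v * (y * y)⁻¹ := by group
      _ = v := by rw [show y * y * (v : G) = v * (y * y) from (h1 _ hv.1).symm, mul_inv_cancel_right]
  · exact ⟨⟨u, Subgroup.mem_sup_left huV⟩, huV, rfl⟩
  · intro e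
    rw [← map_inv, ← map_mul, ← map_mul, ← mul_inv_eq_one, ← map_inv, ← map_mul, hρ] at e
    set d := r' * u * r'⁻¹ * u⁻¹ with hd
    have hdV : d ∈ V₁ := V₁.mul_mem (hV₁n r' u huV) (V₁.inv_mem huV)
    have hdfix := hfix d hdV e.1
    have h1 := conj_pow_eq (g := r') (v := u) (d := d) (by rw [hd]; group) hdfix (orderOf r')
    rw [pow_orderOf_eq_one, one_mul, inv_one, mul_one, eq_comm, mul_eq_right] at h1
    have h2 := ClassTwoSylow.eq_one_of_two_pow hodd hdV.2 h1
    rw [hd, mul_inv_eq_one] at h2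
    exact hu h2

theorem isPGroup_closure_pair {X : Type*} [Group X] [Finite X] {u v : X} (hu : u * u = 1)
    (hv : v * v = 1) {k : ℕ} (h : (u * v) ^ 2 ^ k = 1) :
    IsPGroup 2 ↥(Subgroup.zpowers u ⊔ Subgroup.zpowers v) := by
  haveI : Fact (Nat.Prime 2) := ⟨Nat.prime_two⟩
  set Q := Subgroup.zpowers (u * v)
  have hQ : IsPGroup 2 Q := IsPGroup.of_card_dvd_pow (n := k) (by
    rw [Nat.card_zpowers]; exact orderOf_dvd_of_pow_eq_one h)
  have hU : IsPGroup 2 (Subgroup.zpowers u) := IsPGroup.of_card_dvd_pow (n := 1) (by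
    rw [Nat.card_zpowers]; exact orderOf_dvd_of_pow_eq_one (by rw [pow_one, sq, hu]))
  have hui : u⁻¹ = u := inv_eq_of_mul_eq_one_right hu
  have hvi : v⁻¹ = v := inv_eq_of_mul_eq_one_right hv
  have hn : Subgroup.zpowers u ≤ Subgroup.normalizer (Q : Set X) := by
    rw [Subgroup.zpowers_le]
    refine mem_normalizer_of_map_conj_eq (Subgroup.eq_of_le_of_card_ge (map_conj_le fun x hx => ?_)
      (Subgroup.card_map_of_injective (MulAut.conj u).injective).ge)
    obtain ⟨i, rfl⟩ := Subgroup.mem_zpowers_iff.1 hx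
    have e : u * (u * v) * u⁻¹ = (u * v)⁻¹ := by
      rw [mul_inv_rev, hui, hvi, ← mul_assoc, hu, one_mul]
    rw [← conj_zpow, e]
    exact Subgroup.zpow_mem _ (Subgroup.inv_mem _ (Subgroup.mem_zpowers _)) i
  refine isPGroup_of_le (sup_le le_sup_right ?_) (hQ.to_sup_of_normal_left' hU hn)
  rw [Subgroup.zpowers_le]
  have h2 : v = u⁻¹ * (u * v) := by group
  rw [h2]
  exact Subgroup.mul_mem _ (Subgroup.inv_mem _ (Subgroup.mem_sup_right (Subgroup.mem_zpowers u)))
    (Subgroup.mem_sup_left (Subgroup.mem_zpowers _))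

theorem iterate_six_eq_self {X : Type*} [Finite X] {α : X → X} (hinj : Function.Injective α)
    {x₀ : X} (hone : α x₀ = x₀) (h4 : Nat.card X ≤ 4) (a : X) : α^[6] a = a := by
  haveI : Fintype X := Fintype.ofFinite _
  rw [Nat.card_eq_fintype_card] at h4
  classical
  by_cases ha : a = x₀
  · rw [ha]; exact Function.iterate_fixed hone 6
  -- the orbit of `a` avoids the fixed point, so has at most three elements
  have hne : ∀ i, α^[i] a ≠ x₀ := fun i e =>
    ha (hinj.iterate i (e.trans (Function.iterate_fixed hone i).symm))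
  obtain ⟨i, j, hij, e⟩ : ∃ i j : Fin 4, i < j ∧ α^[i] a = α^[j] a := by
    have hc : Fintype.card {z : X // z ≠ x₀} < Fintype.card (Fin 4) := by
      rw [Fintype.card_fin, Fintype.card_subtype_compl, Fintype.card_subtype_eq]
      omega
    obtain ⟨i, j, hij, e⟩ := Fintype.exists_ne_map_eq_of_card_lt
      (fun i : Fin 4 => (⟨α^[i] a, hne i⟩ : {z : X // z ≠ x₀})) hc
    rcases lt_or_gt_of_ne hij with h | h
    · exact ⟨i, j, h, congrArg Subtype.val e⟩
    · exact ⟨j, i, h, congrArg Subtype.val e.symm⟩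
  have hd : α^[(j : ℕ) - i] a = a := by
    apply hinj.iterate i
    rw [← Function.iterate_add_apply, Nat.add_sub_cancel' (Fin.le_def.1 hij.le)]
    exact e.symm
  have hsmall : (j : ℕ) - i = 1 ∨ (j : ℕ) - i = 2 ∨ (j : ℕ) - i = 3 := by
    have h1 := Fin.lt_def.1 hij
    have h2 := j.isLt
    omega
  rcases hsmall with h | h | h <;> rw [h] at hd
  · exact Function.iterate_fixed hd 6
  · rw [show 6 = 2 * 3 from rfl, Function.iterate_mul]; exact Function.iterate_fixed hd 3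
  · rw [show 6 = 3 * 2 from rfl, Function.iterate_mul]; exact Function.iterate_fixed hd 2

theorem card_ne_two_mul {V : Subgroup G} [V.Normal] (hV : IsPGroup 2 V)
    (hVc : ∀ v ∈ V, ∀ w ∈ V, v * w = w * v) (hS4 : ¬ Involves (Equiv.Perm (Fin 4)) G)
    (hcore : ∀ (hn : (Subgroup.centralizer (V : Set G)).Normal),
      pCore 2 (G ⧸ Subgroup.centralizer (V : Set G)) = ⊥)
    {B C₀ : Subgroup G} (hB : Min 2 V C₀ B) : Nat.card B ≠ 2 * Nat.card C₀ := by
  intro hcard
  haveI : Fact (Nat.Prime 2) := ⟨Nat.prime_two⟩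
  set K := Subgroup.centralizer (V : Set G) with hK
  haveI hKn : K.Normal := Subgroup.normal_centralizer
  have hVn : ∀ g : G, ∀ v ∈ V, g * v * g⁻¹ ∈ V := fun g v hv =>
    (inferInstance : V.Normal).conj_mem v hv g
  obtain ⟨b, hbB, hbC⟩ := SetLike.exists_of_lt hB.lt
  have hidx : (C₀.subgroupOf B).index = 2 := by
    have h1 : Nat.card C₀ * (C₀.subgroupOf B).index = Nat.card B :=
      CfsgLib.Products.card_mul_relIndex_of_le hB.lt.le
    rw [hcard, mul_comm 2] at h1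
    exact Nat.eq_of_mul_eq_mul_left Nat.card_pos h1
  have hbK : b * b ∈ K := by
    have h1 := Subgroup.mul_self_mem_of_index_two hidx ⟨b, hbB⟩
    rw [Subgroup.mem_subgroupOf] at h1
    exact (hB.ker ▸ h1 : b * b ∈ B ⊓ K).2
  have hbnK : b ∉ K := fun h => hbC (by rw [hB.ker]; exact ⟨hbB, h⟩)
  -- the fixed points of `b` have index two
  set F := V ⊓ Subgroup.centralizer (B : Set G) with hF
  have hVF : Nat.card V ≤ 2 * Nat.card F := by
    have h1 := hB.big
    rw [hcard] at h1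
    refine Nat.le_of_mul_le_mul_right (c := Nat.card C₀) ?_ Nat.card_pos
    calc Nat.card V * Nat.card C₀ ≤ 2 * Nat.card C₀ * Nat.card F := h1
      _ = _ := by ring
  -- a conjugate generating with `b` a group which is not a 2-group modulo `K`
  set π := QuotientGroup.mk' K
  have hπ : ∀ g, π g = 1 ↔ g ∈ K := fun g => QuotientGroup.eq_one_iff g
  have hbb : π b * π b = 1 := by rw [← map_mul]; exact (hπ _).2 hbK
  obtain ⟨g, hg⟩ : ∃ g : G, ∀ k : ℕ, (b * (g * b * g⁻¹)) ^ 2 ^ k ∉ K := by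
    by_contra h
    push Not at h
    have hA : IsPGroup 2 (Subgroup.zpowers (π b)) := IsPGroup.of_card_dvd_pow (n := 1) (by
      rw [Nat.card_zpowers]; exact orderOf_dvd_of_pow_eq_one (by rw [pow_one, sq, hbb]))
    have h1 : ∀ q : G ⧸ K, Group.IsNilpotent
        (Subgroup.zpowers (π b) ⊔ MulAut.conj q • Subgroup.zpowers (π b) : Subgroup (G ⧸ K)) := by
      intro q
      obtain ⟨g, rfl⟩ := QuotientGroup.mk'_surjective K q
      obtain ⟨k, hk⟩ := h g
      have e : MulAut.conj (π g) • Subgroup.zpowers (π b) = Subgroup.zpowers (π (g * b * g⁻¹)) := by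
        show (Subgroup.zpowers (π b)).map (MulAut.conj (π g)).toMonoidHom = _
        rw [MonoidHom.map_zpowers]
        simp
      rw [e]
      refine (isPGroup_closure_pair hbb ?_ (k := k) ?_).isNilpotent
      · rw [← map_mul, hπ]
        have := hKn.conj_mem _ hbK g
        simpa [mul_assoc] using this
      · rw [← map_mul, ← map_pow]
        exact (hπ _).2 hk
    have h2 := isSubnormal_isPGroup_le_pCore (le_fitting_of_sup_conj_nilpotent _ h1).1 hA
    rw [hcore hKn, Subgroup.zpowers_le, Subgroup.mem_bot] at h2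
    exact hbnK ((hπ b).1 h2)
  set c := g * b * g⁻¹ with hc
  set q := b * c with hq
  -- `q` fixes a subgroup of index at most four
  set D := F ⊓ F.map (MulAut.conj g).toMonoidHom with hD
  have hD4 : Nat.card V ≤ 4 * Nat.card D := by
    have hFV : F ⊔ F.map (MulAut.conj g).toMonoidHom ≤ V :=
      sup_le inf_le_left (map_conj_le fun x hx => hVn g x hx.1)
    have h1 := CfsgLib.Products.card_mul_card_le F (F.map (MulAut.conj g).toMonoidHom)
    rw [Subgroup.card_map_of_injective (MulAut.conj g).injective, ← hD] at h1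
    have h2 := h1.trans (Nat.mul_le_mul_right _ (Subgroup.card_le_of_le hFV))
    have h3 := Nat.mul_le_mul hVF hVF
    nlinarith
  have hqD : ∀ d ∈ D, q * d * q⁻¹ = d := by
    rintro d ⟨hd1, f, hf, rfl⟩
    have hc' : c * (g * f * g⁻¹) * c⁻¹ = g * f * g⁻¹ := by
      calc c * (g * f * g⁻¹) * c⁻¹ = g * (b * f * b⁻¹) * g⁻¹ := by rw [hc]; group
        _ = g * f * g⁻¹ := by rw [hf.2 b hbB, mul_inv_cancel_right]
    change q * (g * f * g⁻¹) * q⁻¹ = g * f * g⁻¹
    calc q * (g * f * g⁻¹) * q⁻¹ = b * (c * (g * f * g⁻¹) * c⁻¹) * b⁻¹ := by rw [hq]; group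
      _ = g * f * g⁻¹ := by
        rw [hc']
        have h : b * (g * f * g⁻¹) = g * f * g⁻¹ * b := hd1.2 b hbB
        rw [h, mul_inv_cancel_right]
  have hqn : ∀ n : ℕ, ∀ d ∈ D, q ^ n * d * (q ^ n)⁻¹ = d := by
    intro n
    induction n with
    | zero => simp
    | succ n ih =>
      intro d hd
      calc q ^ (n + 1) * d * (q ^ (n + 1))⁻¹ = q ^ n * (q * d * q⁻¹) * (q ^ n)⁻¹ := by
            rw [pow_succ]; group
        _ = d := by rw [hqD d hd, ih d hd]
  -- `q ^ 6` moves nothing modulo `D`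
  have hDV : D ≤ V := inf_le_left.trans inf_le_left
  haveI : (D.subgroupOf V).Normal := ⟨fun n hn v => by
    rw [Subgroup.mem_subgroupOf] at hn ⊢
    show (v : G) * n * (v : G)⁻¹ ∈ D
    rwa [hVc _ v.2 _ n.2, mul_inv_cancel_right]⟩
  let α : V ⧸ D.subgroupOf V → V ⧸ D.subgroupOf V :=
    Quotient.map' (fun v => ⟨q * v * q⁻¹, hVn q v v.2⟩) fun v w h => by
      rw [QuotientGroup.leftRel_apply, Subgroup.mem_subgroupOf] at h ⊢
      have h1 := hqD _ h
      show (q * (v : G) * q⁻¹)⁻¹ * (q * (w : G) * q⁻¹) ∈ D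
      rw [show (q * (v : G) * q⁻¹)⁻¹ * (q * (w : G) * q⁻¹) = q * ((v : G)⁻¹ * w) * q⁻¹ by group]
      exact h1 ▸ h
  have hα : ∀ v : V, α (QuotientGroup.mk v) = QuotientGroup.mk ⟨q * v * q⁻¹, hVn q v v.2⟩ :=
    fun v => rfl
  have hinj : Function.Injective α := by
    intro a b e
    obtain ⟨v, rfl⟩ := QuotientGroup.mk_surjective a
    obtain ⟨w, rfl⟩ := QuotientGroup.mk_surjective b
    rw [hα, hα, QuotientGroup.eq, Subgroup.mem_subgroupOf] at e
    refine QuotientGroup.eq.2 (Subgroup.mem_subgroupOf.2 ?_)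
    have e' : (q * (v : G) * q⁻¹)⁻¹ * (q * (w : G) * q⁻¹) ∈ D := e
    have h1 : q⁻¹ * ((q * (v : G) * q⁻¹)⁻¹ * (q * (w : G) * q⁻¹)) * q =
        (q * (v : G) * q⁻¹)⁻¹ * (q * (w : G) * q⁻¹) := by
      conv_lhs => rw [← hqD _ e']
      group
    show (v : G)⁻¹ * w ∈ D
    have h2 : (v : G)⁻¹ * w = q⁻¹ * ((q * (v : G) * q⁻¹)⁻¹ * (q * (w : G) * q⁻¹)) * q := by group
    rw [h2, h1]
    exact e'
  have hone : α (QuotientGroup.mk 1) = QuotientGroup.mk 1 := by
    rw [hα]
    exact congrArg _ (Subtype.ext (by simp))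
  have hper : ∀ a, α^[6] a = a := by
    refine iterate_six_eq_self hinj hone ?_
    rw [← Subgroup.index_eq_card]
    have h1 : Nat.card D * (D.subgroupOf V).index = Nat.card V :=
      CfsgLib.Products.card_mul_relIndex_of_le hDV
    refine Nat.le_of_mul_le_mul_left (show Nat.card D * _ ≤ Nat.card D * 4 from ?_) Nat.card_pos
    rw [h1, mul_comm]
    exact hD4
  have hqV : ∀ v ∈ V, q ^ 6 * v * (q ^ 6)⁻¹ * v⁻¹ ∈ D := by
    intro v hv
    have h : ∀ i : ℕ, α^[i] (QuotientGroup.mk ⟨v, hv⟩) =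
        QuotientGroup.mk ⟨q ^ i * v * (q ^ i)⁻¹, hVn _ v hv⟩ := by
      intro i
      induction i with
      | zero =>
        refine congrArg QuotientGroup.mk (Subtype.ext ?_)
        show v = q ^ 0 * v * (q ^ 0)⁻¹
        group
      | succ i ih =>
        rw [Function.iterate_succ_apply', ih, hα]
        exact congrArg _ (Subtype.ext (by simp [pow_succ', mul_assoc]))
    have h1 := hper (QuotientGroup.mk ⟨v, hv⟩)
    rw [h, QuotientGroup.eq, Subgroup.mem_subgroupOf] at h1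
    have h2 : (q ^ 6 * v * (q ^ 6)⁻¹)⁻¹ * v ∈ D := h1
    have h3 := hVc _ (hVn (q ^ 6) v hv) _ (V.inv_mem hv)
    rw [h3, ← D.inv_mem_iff]
    simpa [mul_assoc] using h2
  obtain ⟨e2, he2⟩ := hV.exists_card_eq
  have hkill : (q ^ 6) ^ 2 ^ e2 ∈ K := by
    intro v hv
    have hd := hqV v hv
    have h1 := conj_pow_eq (g := q ^ 6) (v := v) (d := q ^ 6 * v * (q ^ 6)⁻¹ * v⁻¹)
      (by group) (hqn 6 _ hd) (2 ^ e2)
    have h2 : (q ^ 6 * v * (q ^ 6)⁻¹ * v⁻¹) ^ 2 ^ e2 = 1 := by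
      have := orderOf_dvd_iff_pow_eq_one.1 (he2 ▸ Subgroup.orderOf_dvd_natCard V (hDV hd))
      exact this
    rw [h2, one_mul, mul_inv_eq_iff_eq_mul] at h1
    exact h1.symm
  -- an odd power of `q`
  set r := q ^ 2 ^ (e2 + 1) with hr
  refine hS4 (involves_of_inverting hV hVc (r := r) (b := b) ?_ (hg (e2 + 1)) hbK ?_)
  · have e : r ^ 3 = (q ^ 6) ^ 2 ^ e2 := by
      rw [hr, ← pow_mul, ← pow_mul, pow_succ]
      congr 1
      ring
    rw [e]; exact hkill
  · rw [← hπ, map_mul, map_mul, map_mul, map_inv, hr, map_pow, ← conj_pow, hq, map_mul]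
    have hcc : π c * π c = 1 := by
      rw [← map_mul, hπ]
      have := hKn.conj_mem _ hbK g
      simpa [hc, mul_assoc] using this
    rw [show π b * (π b * π c) * (π b)⁻¹ = (π b * π c)⁻¹ by
      rw [mul_inv_rev, inv_eq_of_mul_eq_one_right hbb, inv_eq_of_mul_eq_one_right hcc, ← mul_assoc, hbb, one_mul],
      inv_pow, inv_mul_cancel]

end CfsgLib.S4Criterion
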