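import Mathlib

set_option autoImplicit false
set_option linter.unusedVariables false
set_option linter.unusedSectionVars false

/-!
A finite additive group of endomorphisms of an abelian group which contains `1`, is closed under
`x * y * x` and consists, apart from `0`, of injective maps, is commutative.
-/

namespace CfsgLib.JordanDiv

open Polynomial Finset

section Semilinear

variable {K : Type*} [Field K] {U : Type*} [AddCommGroup U] [Module K U] (σ : K →+* K) (w : U →+ U)

theorem semi_iterate (hw : ∀ (k : K) v, w (k • v) = σ k • w v) (j : ℕ) (k : K) (v : U) :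
    (⇑w)^[j] (k • v) = (⇑σ)^[j] k • (⇑w)^[j] v := by
  induction j with
  | zero => simp
  | succ j ih => rw [Function.iterate_succ_apply', ih, hw, Function.iterate_succ_apply', Function.iterate_succ_apply']

/-- A semilinear map of finite order `r`, the order of the twist, has a fixed vector. -/
theorem fixed_vector (g : K) (r : ℕ) (hr : 0 < r) (hsep : ∀ j, 0 < j → j < r → (⇑σ)^[j] g ≠ g)
    (hσ : ∀ k, (⇑σ)^[r] k = k) (hw : ∀ (k : K) v, w (k • v) = σ k • w v) {v₁ : U} (hv₁ : v₁ ≠ 0)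
    (hwr : (⇑w)^[r] v₁ = v₁) : ∃ v, v ≠ 0 ∧ w v = v := by
  classical
  by_cases hall : ∀ ξ : K, ∑ j ∈ range r, (⇑w)^[j] (ξ • v₁) = 0
  · exfalso
    set h : K[X] := ∏ j ∈ (range r).erase 0, (X - C ((⇑σ)^[j] g))
    have h0 : ∑ j ∈ range r, h.eval ((⇑σ)^[j] g) • (⇑w)^[j] v₁ = 0 := by
      simp only [eval_eq_sum_range, sum_smul, mul_smul]
      rw [sum_comm]
      refine sum_eq_zero fun m _ => ?_
      rw [← smul_sum]
      have := hall (g ^ m)
      simp only [semi_iterate σ w hw, iterate_map_pow] at this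
      rw [this, smul_zero]
    rw [sum_eq_single_of_mem 0 (mem_range.mpr hr)] at h0
    · have hne : h.eval g ≠ 0 := by
        rw [eval_prod]
        refine prod_ne_zero_iff.mpr fun j hj => ?_
        rw [eval_sub, eval_X, eval_C, sub_ne_zero]
        obtain ⟨hj0, hjr⟩ := mem_erase.mp hj
        exact (hsep j (Nat.pos_of_ne_zero hj0) (mem_range.mp hjr)).symm
      simp only [Function.iterate_zero_apply] at h0
      rcases smul_eq_zero.mp h0 with h1 | h1
      · exact hne h1
      · exact hv₁ h1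
    · intro j hj hj0
      rw [eval_prod, prod_eq_zero (mem_erase.mpr ⟨hj0, hj⟩) (by simp), zero_smul]
  · push Not at hall
    obtain ⟨ξ, hξ⟩ := hall
    refine ⟨_, hξ, ?_⟩
    rw [map_sum]
    simp only [← Function.iterate_succ_apply' (⇑w)]
    have e := Finset.sum_range_succ' (fun j => (⇑w)^[j] (ξ • v₁)) r
    rw [Finset.sum_range_succ] at e
    have hlast : (⇑w)^[r] (ξ • v₁) = ξ • v₁ := by rw [semi_iterate σ w hw, hσ, hwr]
    simp only [Function.iterate_zero_apply, hlast] at e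
    exact (add_right_cancel e).symm

end Semilinear

/-- The norm onto the fixed field is surjective. -/
theorem norm_surjective {K : Type*} [Field K] [Finite K] (σ : K →+* K) (g : K) (r : ℕ) (hr : 0 < r)
    (hsep : ∀ j, 0 < j → j < r → (⇑σ)^[j] g ≠ g) (hσ : ∀ k, (⇑σ)^[r] k = k) {a : K} (ha : a ≠ 0) (hfix : σ a = a) :
    ∃ κ, κ ≠ 0 ∧ ∏ j ∈ range r, (⇑σ)^[j] κ = a := by
  classical
  let Nm : Kˣ →* Kˣ := Units.map
    ({ toFun := fun k => ∏ j ∈ range r, (⇑σ)^[j] k
       map_one' := prod_eq_one fun j _ => iterate_map_one σ j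
       map_mul' := fun k l => by simp only [iterate_map_mul, prod_mul_distrib] } : K →* K)
  let D : Kˣ →* Kˣ := (MonoidHom.id Kˣ) / Units.map (σ : K →* K)
  have hker : D.ker = (MonoidHom.id Kˣ).eqLocus (Units.map (σ : K →* K)) := by
    ext x
    rw [MonoidHom.mem_ker]
    show x / Units.map (σ : K →* K) x = 1 ↔ x = Units.map (σ : K →* K) x
    exact div_eq_one
  have h1 : Nm.range ≤ D.ker := by
    rintro _ ⟨x, rfl⟩
    rw [hker]
    show Nm x = Units.map (σ : K →* K) (Nm x)
    apply Units.ext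
    show ∏ j ∈ range r, (⇑σ)^[j] (x : K) = σ (∏ j ∈ range r, (⇑σ)^[j] (x : K))
    rw [map_prod]
    simp only [← Function.iterate_succ_apply' (⇑σ)]
    have e := Finset.prod_range_succ' (fun j => (⇑σ)^[j] (x : K)) r
    rw [Finset.prod_range_succ] at e
    simp only [Function.iterate_zero_apply, hσ] at e
    exact mul_right_cancel₀ x.ne_zero e
  have h2 : Nm.ker ≤ D.range := by
    intro k hk
    let w : K →+ K := (AddMonoidHom.mulLeft (k : K)).comp σ.toAddMonoidHom
    have hit : ∀ m, (⇑w)^[m] (1 : K) = ∏ j ∈ range m, (⇑σ)^[j] (k : K) := fun m => by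
      induction m with
      | zero => simp
      | succ m ih =>
        rw [Function.iterate_succ_apply', ih]
        show (k : K) * σ (∏ j ∈ range m, (⇑σ)^[j] (k : K)) = _
        rw [map_prod, Finset.prod_range_succ', mul_comm]
        simp only [← Function.iterate_succ_apply' (⇑σ), Function.iterate_zero_apply]
    obtain ⟨θ, hθ, e⟩ := fixed_vector σ w g r hr hsep hσ (fun a v => by
      show (k : K) * σ (a * v) = σ a * ((k : K) * σ v)
      rw [map_mul]; ring) (one_ne_zero (α := K)) (by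
      rw [hit]; exact congrArg Units.val (MonoidHom.mem_ker.mp hk))
    refine ⟨Units.mk0 θ hθ, ?_⟩
    show Units.mk0 θ hθ / Units.map (σ : K →* K) (Units.mk0 θ hθ) = k
    rw [div_eq_iff_eq_mul]
    exact Units.ext e.symm
  have e1 := Subgroup.card_mul_index Nm.ker
  have e2 := Subgroup.card_mul_index D.ker
  rw [Subgroup.index_ker] at e1 e2
  have h3 := Subgroup.card_le_of_le h2
  have h4 : Nat.card ↥D.ker ≤ Nat.card ↥Nm.range := by
    by_contra hlt
    push Not at hlt
    have := Nat.mul_lt_mul_of_le_of_lt h3 hlt Nat.card_pos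
    rw [mul_comm (Nat.card ↥D.range), e1, e2] at this
    exact lt_irrefl _ this
  have h5 : Units.mk0 a ha ∈ D.ker := by
    rw [hker]; exact Units.ext hfix.symm
  rw [← Subgroup.eq_of_le_of_card_ge h1 h4] at h5
  obtain ⟨κ, hκ⟩ := h5
  exact ⟨κ, κ.ne_zero, congrArg Units.val hκ⟩

/-- A semilinear map whose `r`-th power has an eigenvector with a fixed eigenvalue has an eigenvector. -/
theorem eigvec {K : Type*} [Field K] [Finite K] {U : Type*} [AddCommGroup U] [Module K U] (σ : K →+* K)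
    (w : U →+ U) (g : K) (r : ℕ) (hr : 0 < r) (hsep : ∀ j, 0 < j → j < r → (⇑σ)^[j] g ≠ g)
    (hσ : ∀ k, (⇑σ)^[r] k = k) (hw : ∀ (k : K) v, w (k • v) = σ k • w v) {a : K} (ha : a ≠ 0) (hfix : σ a = a)
    {v₁ : U} (hv₁ : v₁ ≠ 0) (hwr : (⇑w)^[r] v₁ = a • v₁) :
    ∃ κ : K, κ ≠ 0 ∧ ∃ v, v ≠ 0 ∧ w v = κ • v := by
  obtain ⟨κ, hκ0, hκ⟩ := norm_surjective σ g r hr hsep hσ ha hfix
  let w' : U →+ U := (DistribSMul.toAddMonoidHom U κ⁻¹).comp w
  have hit : ∀ m, (⇑w')^[m] v₁ = (∏ j ∈ range m, (⇑σ)^[j] κ⁻¹) • (⇑w)^[m] v₁ := fun m => by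
    induction m with
    | zero => simp
    | succ m ih =>
      rw [Function.iterate_succ_apply', ih]
      show κ⁻¹ • w _ = _
      rw [hw, smul_smul, map_prod, Finset.prod_range_succ', mul_comm]
      simp only [← Function.iterate_succ_apply' (⇑σ), ← Function.iterate_succ_apply' (⇑w), Function.iterate_zero_apply]
  obtain ⟨v, hv, e⟩ := fixed_vector σ w' g r hr hsep hσ (fun k v => by
    show κ⁻¹ • w (k • v) = σ k • κ⁻¹ • w v
    rw [hw, smul_comm]) hv₁ (by
    rw [hit, hwr, smul_smul]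
    have hinv : ∀ j, (⇑σ)^[j] κ⁻¹ = ((⇑σ)^[j] κ)⁻¹ := fun j => by
      induction j with
      | zero => rfl
      | succ j ih => rw [Function.iterate_succ_apply', Function.iterate_succ_apply', ih, map_inv₀]
    rw [prod_congr rfl fun j _ => hinv j, prod_inv_distrib, hκ, inv_mul_cancel₀ ha, one_smul])
  refine ⟨κ, hκ0, v, hv, ?_⟩
  have e' : κ⁻¹ • w v = v := e
  conv_rhs => rw [← e']
  rw [smul_inv_smul₀ hκ0]

variable {U : Type*} [AddCommGroup U] [Finite U]

/-- The closure properties of `S`. -/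
structure Jordan (S : AddSubgroup (AddMonoid.End U)) : Prop where
  one : (1 : AddMonoid.End U) ∈ S
  tri : ∀ x ∈ S, ∀ y ∈ S, x * y * x ∈ S
  inj : ∀ x ∈ S, x ≠ 0 → ∀ v : U, x v = 0 → v = 0

variable {S : AddSubgroup (AddMonoid.End U)}

theorem Jordan.symm_mul (h : Jordan S) {x y : AddMonoid.End U} (hx : x ∈ S) (hy : y ∈ S) : x * y + y * x ∈ S := by
  have h1 := h.tri _ (S.add_mem hx hy) 1 h.one
  have h2 := h.tri _ hx 1 h.one
  have h3 := h.tri _ hy 1 h.one
  have e : x * y + y * x = (x + y) * 1 * (x + y) - x * 1 * x - y * 1 * y := by noncomm_ring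
  rw [e]; exact S.sub_mem (S.sub_mem h1 h2) h3

theorem Jordan.pow_mem (h : Jordan S) {x : AddMonoid.End U} (hx : x ∈ S) : ∀ n : ℕ, x ^ n ∈ S
  | 0 => by rw [pow_zero]; exact h.one
  | 1 => by rw [pow_one]; exact hx
  | n + 2 => by
    have := h.tri _ hx _ (h.pow_mem hx n)
    rwa [show x * x ^ n * x = x ^ (n + 2) by rw [← pow_succ', ← pow_succ]] at this

theorem Jordan.exists_prime (h : Jordan S) [Nontrivial U] : ∃ p : ℕ, p.Prime ∧ (p : AddMonoid.End U) = 0 := by
  obtain ⟨p, hp, hdvd⟩ := Nat.exists_prime_and_dvd (Finite.one_lt_card (α := U)).ne'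
  haveI : Fact p.Prime := ⟨hp⟩
  obtain ⟨v, hv⟩ := exists_prime_addOrderOf_dvd_card' (G := U) p hdvd
  refine ⟨p, hp, by_contra fun hne => ?_⟩
  have hmem : (p : AddMonoid.End U) ∈ S := by
    rw [← nsmul_one]; exact S.nsmul_mem h.one p
  have := h.inj _ hmem hne v (by rw [AddMonoid.End.natCast_apply]; exact hv ▸ addOrderOf_nsmul_eq_zero v)
  rw [this, addOrderOf_zero] at hv
  exact hp.ne_one hv.symm

section Field

variable [Nontrivial U] {K : Type*} [Field K] [Finite K] (ι : K →+* AddMonoid.End U) (g : K)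

/-- Multiplication from the left, as a ring homomorphism. -/
def lmul (R : Type*) [Ring R] : R →+* AddMonoid.End R where
  toFun := AddMonoidHom.mulLeft
  map_one' := AddMonoidHom.ext one_mul
  map_mul' a b := AddMonoidHom.ext fun z => mul_assoc a b z
  map_zero' := AddMonoidHom.ext zero_mul
  map_add' a b := AddMonoidHom.ext fun z => add_mul a b z

/-- Multiplication from the right. -/
def rmul {R : Type*} [Ring R] (a : R) : AddMonoid.End R := AddMonoidHom.mulRight a

/-- Polynomials acting on endomorphisms: coefficients from the left, the variable as `g` from the right. -/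
noncomputable def Ψ : K[X] →+* AddMonoid.End (AddMonoid.End U) :=
  eval₂RingHom' ((lmul (AddMonoid.End U)).comp ι) (rmul (ι g))
    fun k => AddMonoidHom.ext fun z => (mul_assoc (ι k) z (ι g)).symm

local notation "E" => AddMonoid.End U

theorem Ψ_C (k : K) (z : E) : Ψ ι g (C k) z = ι k * z := by
  show Polynomial.eval₂ ((lmul E).comp ι) (rmul (ι g)) (C k) z = _
  rw [eval₂_C]; rfl

theorem Ψ_X (z : E) : Ψ ι g X z = z * ι g := by
  show Polynomial.eval₂ ((lmul E).comp ι) (rmul (ι g)) X z = _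
  rw [eval₂_X]; rfl

theorem Ψ_mul (P Q : K[X]) (z : E) : Ψ ι g (P * Q) z = Ψ ι g P (Ψ ι g Q z) := by
  rw [map_mul]; rfl

theorem Ψ_add (P Q : K[X]) (z : E) : Ψ ι g (P + Q) z = Ψ ι g P z + Ψ ι g Q z := by
  rw [map_add]; rfl

theorem Ψ_sub (P Q : K[X]) (z : E) : Ψ ι g (P - Q) z = Ψ ι g P z - Ψ ι g Q z := by
  rw [map_sub]; rfl

theorem Ψ_one (z : E) : Ψ ι g 1 z = z := by rw [map_one]; rfl

theorem Ψ_X_pow (n : ℕ) (z : E) : Ψ ι g (X ^ n) z = z * ι g ^ n := by
  induction n generalizing z with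
  | zero => rw [pow_zero, pow_zero, Ψ_one, mul_one]
  | succ n ih => rw [pow_succ', Ψ_mul, Ψ_X, ih, pow_succ, mul_assoc]

theorem Ψ_lin (c : K) (z : E) : Ψ ι g (X - C c) z = z * ι g - ι c * z := by
  rw [Ψ_sub, Ψ_X, Ψ_C]

/-- On an eigenvector the action is by evaluation. -/
theorem Ψ_eig {z : E} {c : K} (hz : z * ι g = ι c * z) (P : K[X]) : Ψ ι g P z = ι (P.eval c) * z := by
  induction P using Polynomial.induction_on' with
  | add P Q hP hQ => rw [Ψ_add, hP, hQ, eval_add, map_add, add_mul]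
  | monomial n a =>
    have hpow : z * ι g ^ n = ι (c ^ n) * z := by
      rw [map_pow]; exact (show SemiconjBy z (ι g) (ι c) from hz).pow_right n
    rw [← C_mul_X_pow_eq_monomial, Ψ_mul, Ψ_X_pow, Ψ_C, hpow, eval_mul, eval_C, eval_pow, eval_X, ← mul_assoc, ← map_mul]

theorem mul_left_eq_zero {k : K} {z : E} (hk : k ≠ 0) (h : ι k * z = 0) : z = 0 := by
  rw [show z = ι k⁻¹ * (ι k * z) by rw [← mul_assoc, ← map_mul, inv_mul_cancel₀ hk, map_one, one_mul], h, mul_zero]

/-- Eigenvectors for different eigenvalues are independent. -/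
theorem eig_kill {z : E} {c : K} (hz : z * ι g = ι c * z) {P : K[X]} (h : Ψ ι g P z = 0) (hP : P.eval c ≠ 0) : z = 0 := by
  rw [Ψ_eig ι g hz] at h
  exact mul_left_eq_zero ι hP h

variable (hgen : ∀ k : K, k ≠ 0 → ∃ n : ℕ, g ^ n = k)

include hgen in
theorem semi_of_gen {σ : K →+* K} {z : E} (hz : z * ι g = ι (σ g) * z) (k : K) : z * ι k = ι (σ k) * z := by
  rcases eq_or_ne k 0 with rfl | hk
  · simp
  · obtain ⟨n, rfl⟩ := hgen k hk
    rw [map_pow, map_pow, map_pow]
    exact (show SemiconjBy z (ι g) (ι (σ g)) from hz).pow_right n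

variable {p : ℕ} [Fact p.Prime] [CharP K p]

theorem exists_natCast_of_pow_eq {k : K} (h : k ^ p = k) : ∃ n : ℕ, (n : K) = k := by
  classical
  by_contra hno
  push Not at hno
  set s : Finset K := (range p).image (fun n : ℕ => (n : K)) with hs
  have hcard : s.card = p := by
    rw [hs, card_image_of_injOn, card_range]
    intro a ha b hb e
    have := (CharP.natCast_eq_natCast K p).mp e
    rwa [Nat.ModEq, Nat.mod_eq_of_lt (mem_range.mp ha), Nat.mod_eq_of_lt (mem_range.mp hb)] at this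
  have hk : k ∉ s := by
    rw [hs]; simp only [mem_image, not_exists, not_and]; exact fun n _ => hno n
  have hle : (insert k s).card ≤ p := by
    have hP : (X ^ p - X : K[X]) ≠ 0 := FiniteField.X_pow_card_sub_X_ne_zero K (Fact.out : p.Prime).one_lt
    refine le_trans (card_le_card (t := (X ^ p - X : K[X]).roots.toFinset) ?_) ?_
    · intro x hx
      rw [Multiset.mem_toFinset, mem_roots hP, IsRoot, eval_sub, eval_pow, eval_X, sub_eq_zero]
      rcases mem_insert.mp hx with rfl | hx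
      · exact h
      · obtain ⟨n, -, rfl⟩ := mem_image.mp (hs ▸ hx)
        rw [← frobenius_def, map_natCast]
    · refine le_trans (Multiset.toFinset_card_le _) ((card_roots' _).trans ?_)
      rw [FiniteField.X_pow_card_sub_X_natDegree_eq K (Fact.out : p.Prime).one_lt]
  rw [card_insert_of_notMem hk, hcard] at hle
  omega

/-- The product over the conjugates of `g` acts as zero. -/
theorem Ψ_orbit {d : ℕ} (hd : 0 < d) (hgd : g ^ p ^ d = g) (z : E) :
    Ψ ι g (∏ j ∈ range d, (X - C (g ^ p ^ j))) z = 0 := by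
  set P : K[X] := ∏ j ∈ range d, (X - C (g ^ p ^ j)) with hP
  have hmap : P.map (frobenius K p) = P := by
    rw [hP, Polynomial.map_prod]
    simp only [Polynomial.map_sub, Polynomial.map_X, Polynomial.map_C, frobenius_def, ← pow_mul, ← pow_succ]
    obtain ⟨d', rfl⟩ := Nat.exists_eq_succ_of_ne_zero hd.ne'
    rw [Finset.prod_range_succ, Finset.prod_range_succ' (fun j => X - C (g ^ p ^ j)) d']
    rw [hgd, pow_zero, pow_one]
  have hco : ∀ i, ∃ n : ℕ, (n : K) = P.coeff i := fun i => exists_natCast_of_pow_eq (p := p) (by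
    conv_rhs => rw [← hmap, coeff_map, frobenius_def])
  choose n hn using hco
  have heval : P.eval g = 0 := by
    rw [hP, eval_prod]
    exact prod_eq_zero (mem_range.mpr hd) (by simp)
  have key : ∀ Q : K[X], (∀ i, ∃ n : ℕ, (n : K) = Q.coeff i) → Ψ ι g Q z = z * ι (Q.eval g) := by
    intro Q hQ
    have e : Ψ ι g Q z = ∑ i ∈ range (Q.natDegree + 1), Ψ ι g (C (Q.coeff i) * X ^ i) z := by
      conv_lhs => rw [Q.as_sum_range_C_mul_X_pow, map_sum]
      exact AddMonoidHom.finsetSum_apply _ _ _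
    rw [e, eval_eq_sum_range, map_sum, Finset.mul_sum]
    refine sum_congr rfl fun i _ => ?_
    obtain ⟨m, hm⟩ := hQ i
    rw [Ψ_mul, Ψ_X_pow, Ψ_C, ← hm, map_natCast, map_mul, map_natCast, map_pow, ← mul_assoc, ← mul_assoc,
      (Nat.cast_commute m z).eq]
  rw [key P fun i => ⟨n i, hn i⟩, heval, map_zero, mul_zero]

variable {ι g}

/-- The polynomials preserving `S`. -/
def Good (S : AddSubgroup E) (P : K[X]) : Prop := ∀ z ∈ S, Ψ ι g P z ∈ S

variable (hJ : Jordan S) (hιS : ∀ k, ι k ∈ S)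

include hJ hιS in
theorem sym_mem (M : ℕ) : Good (ι := ι) (g := g) S ((X - C (g ^ M)) * (C g - X ^ M)) := by
  intro z hz
  have e : ((X - C (g ^ M)) * (C g - X ^ M) : K[X])
      = C g * X + C (g ^ M) * X ^ M - (C (g ^ (M + 1)) + X ^ (M + 1)) := by
    rw [pow_succ, pow_succ, map_mul]; ring
  rw [e, Ψ_sub, Ψ_add, Ψ_add, Ψ_mul, Ψ_mul, Ψ_X, Ψ_X_pow, Ψ_X_pow, Ψ_C, Ψ_C, Ψ_C, ← map_pow, ← map_pow, ← mul_assoc,
    ← mul_assoc]
  exact S.sub_mem (S.add_mem (hJ.tri _ (hιS g) z hz) (hJ.tri _ (hιS _) z hz)) (hJ.symm_mul (hιS _) hz)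

include p in
/-- An element killed by a small power of `X - c` is killed by `X - c`. -/
theorem semisimple {c : K} {z : E} {n : ℕ} (hn : n ≤ Nat.card K) (hgq : g ^ Nat.card K = g) (hc : c ^ Nat.card K = c)
    (h : Ψ ι g ((X - C c) ^ n) z = 0) : z * ι g = ι c * z := by
  haveI := Fintype.ofFinite K
  obtain ⟨d, hp, hd⟩ := FiniteField.card K p
  have hq : Nat.card K = p ^ (d : ℕ) := by rw [Nat.card_eq_fintype_card, hd]
  have h' : Ψ ι g ((X - C c) ^ Nat.card K) z = 0 := by
    obtain ⟨m, hm⟩ := Nat.exists_eq_add_of_le hn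
    rw [hm, add_comm, pow_add, Ψ_mul, h, map_zero]
  rw [hq, sub_pow_char_pow, ← map_pow, Ψ_sub, Ψ_C, Ψ_X_pow, ← map_pow, ← hq, hgq, hc] at h'
  exact sub_eq_zero.mp h'

/-- Twisted commutation by an iterate. -/
def Semi (σ : K → K) (m : ℕ) (z : E) : Prop := ∀ k, z * ι k = ι (σ^[m] k) * z

theorem Semi.mul {σ : K → K} {m n : ℕ} {z w : E} (hz : Semi (ι := ι) σ m z) (hw : Semi (ι := ι) σ n w) :
    Semi (ι := ι) σ (m + n) (z * w) := fun k => by
  rw [mul_assoc, hw k, ← mul_assoc, hz, mul_assoc, Function.iterate_add_apply]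

theorem Semi.pow {σ : K → K} {m : ℕ} {z : E} (hz : Semi (ι := ι) σ m z) : ∀ j, Semi (ι := ι) σ (m * j) (z ^ j)
  | 0 => fun k => by simp
  | j + 1 => by rw [pow_succ, Nat.mul_succ]; exact (hz.pow j).mul hz

end Field

section Pair

local notation "E" => AddMonoid.End U

variable [Nontrivial U] {K : Type*} [Field K] [Finite K]

theorem card_le_of_pow_eq {P : ℕ} (hP : 1 < P) (h : ∀ k : K, k ^ P = k) : Nat.card K ≤ P := by
  classical
  haveI := Fintype.ofFinite K
  rw [Nat.card_eq_fintype_card, ← FiniteField.X_pow_card_sub_X_natDegree_eq K hP, ← card_univ]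
  refine le_trans (card_le_card (t := (X ^ P - X : K[X]).roots.toFinset) fun x _ => ?_)
    ((Multiset.toFinset_card_le _).trans (card_roots' _))
  rw [Multiset.mem_toFinset, mem_roots (FiniteField.X_pow_card_sub_X_ne_zero K hP), IsRoot, eval_sub, eval_pow,
    eval_X, h, sub_self]

variable {ι : K →+* AddMonoid.End U} {g : K} (hgen : ∀ k : K, k ≠ 0 → ∃ n : ℕ, g ^ n = k)

include hgen in
theorem all_of_gen {τ τ' : K →+* K} (h : τ g = τ' g) (k : K) : τ k = τ' k := by
  rcases eq_or_ne k 0 with rfl | hk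
  · simp
  · obtain ⟨n, rfl⟩ := hgen k hk
    rw [map_pow, map_pow, h]

theorem iterate_period {α : Type*} {σ : α → α} {r : ℕ} (h : ∀ k, σ^[r] k = k) (j m : ℕ) (k : α) :
    σ^[r * j + m] k = σ^[m] k := by
  induction j with
  | zero => simp
  | succ j ih =>
    rw [show r * (j + 1) + m = r + (r * j + m) by ring, Function.iterate_add_apply, h, ih]

theorem pow_apply_ne {z : E} (hz : ∀ v, z v = 0 → v = 0) {v : U} (hv : v ≠ 0) (m : ℕ) : (z ^ m) v ≠ 0 := by
  induction m with
  | zero => simpa using hv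
  | succ m ih =>
    intro e
    exact ih (hz _ (by rw [pow_succ'] at e; exact e))

variable (hJ : Jordan S) (hιS : ∀ k, ι k ∈ S)
  (hmax : ∀ z ∈ S, z * ι g = ι g * z → ∃ k, ι k = z)

include hgen hJ hιS hmax in
/-- No element of `S` is purely semilinear. -/
theorem single {τ : K →+* K} {r : ℕ} (hr : 0 < r) (hsep : ∀ j, 0 < j → j < r → (⇑τ)^[j] g ≠ g)
    (hτ : ∀ k, (⇑τ)^[r] k = k) (hτg : τ g ≠ g) {y : E} (hy : y ∈ S) (hy0 : y ≠ 0) (hs : Semi (ι := ι) τ 1 y) :
    False := by
  have hyr : Semi (ι := ι) τ r (y ^ r) := by simpa using hs.pow r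
  obtain ⟨c, hc⟩ := hmax _ (hJ.pow_mem hy r) (by rw [hyr g, hτ])
  have hfix : τ c = c := by
    have h1 : ι (τ c) * y = ι c * y := by
      rw [← Function.iterate_one (⇑τ), ← hs c, hc, ← pow_succ', pow_succ]
    by_contra hne
    exact hy0 (mul_left_eq_zero ι (sub_ne_zero.mpr hne) (by rw [map_sub, sub_mul, h1, sub_self]))
  obtain ⟨v₁, hv₁⟩ := exists_ne (0 : U)
  have hc0 : c ≠ 0 := by
    rintro rfl
    exact pow_apply_ne (hJ.inj y hy hy0) hv₁ r (by rw [← hc, map_zero]; rfl)
  letI : Module K U := Module.compHom U ι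
  obtain ⟨κ, -, v, hv, e⟩ := eigvec τ y g r hr hsep hτ (fun k v => DFunLike.congr_fun (hs k) v) hc0 hfix hv₁
    (by
      show _ = ι c v₁
      rw [hc, AddMonoid.End.coe_pow]; rfl)
  have hker : (y - ι κ) v = 0 := by
    show y v - ι κ v = 0
    rw [sub_eq_zero]; exact e
  have hyκ : y = ι κ := sub_eq_zero.mp (by_contra fun hne => hv (hJ.inj _ (S.sub_mem hy (hιS κ)) hne v hker))
  refine hy0 (mul_left_eq_zero ι (sub_ne_zero.mpr hτg) ?_)
  rw [map_sub, sub_mul, ← Function.iterate_one (⇑τ), ← hs g, hyκ, ← map_mul, ← map_mul, mul_comm, sub_self]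

variable {p : ℕ} [Fact p.Prime] [CharP K p]

include hgen hJ hιS p in
/-- The multipliers of a pair element fill the field. -/
theorem multipliers {τ : K →+* K} (hτ2 : τ (τ g) ≠ g) {u u' : E} (hu : ∀ k, u * ι k = ι (τ k) * u)
    (hu' : ∀ k, u' * ι (τ k) = ι k * u') (h : u + u' ∈ S) (l : K) : ι l * u + u' * ι l ∈ S := by
  classical
  let L : Set K := {l | ι l * u + u' * ι l ∈ S}
  let M : Subring K :=
    { carrier := {m | ∀ l ∈ L, m * l ∈ L}
      one_mem' := fun l hl => by rwa [one_mul]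
      mul_mem' := fun {a b} ha hb l hl => by rw [mul_assoc]; exact ha _ (hb l hl)
      zero_mem' := fun l _ => by
        show ι (0 * l) * u + u' * ι (0 * l) ∈ S
        simp [S.zero_mem]
      add_mem' := fun {a b} ha hb l hl => by
        show ι ((a + b) * l) * u + u' * ι ((a + b) * l) ∈ S
        rw [add_mul, map_add, add_mul, mul_add, add_add_add_comm]
        exact S.add_mem (ha l hl) (hb l hl)
      neg_mem' := fun {a} ha l hl => by
        show ι (-a * l) * u + u' * ι (-a * l) ∈ S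
        rw [neg_mul, map_neg, neg_mul, mul_neg, ← neg_add]
        exact S.neg_mem (ha l hl) }
  have hst : ∀ k, k + τ k ∈ M ∧ k * τ k ∈ M := by
    intro k
    constructor
    · intro l hl
      show ι ((k + τ k) * l) * u + u' * ι ((k + τ k) * l) ∈ S
      convert hJ.symm_mul (hιS k) hl using 1
      have a1 : (ι l * u) * ι k = ι (l * τ k) * u := by rw [mul_assoc, hu, ← mul_assoc, ← map_mul]
      have a2 : ι k * (u' * ι l) = u' * ι (τ k * l) := by rw [← mul_assoc, ← hu', mul_assoc, ← map_mul]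
      rw [mul_add, add_mul (ι l * u), a1, a2, ← mul_assoc, ← map_mul, mul_assoc u', ← map_mul, add_mul, map_add,
        add_mul, mul_add, mul_comm l (τ k), mul_comm l k]
      abel
    · intro l hl
      show ι (k * τ k * l) * u + u' * ι (k * τ k * l) ∈ S
      convert hJ.tri _ (hιS k) _ hl using 1
      have a1 : ι k * (ι l * u) * ι k = ι (k * τ k * l) * u := by
        rw [mul_assoc, mul_assoc (ι l), hu, ← mul_assoc (ι l), ← map_mul, ← mul_assoc, ← map_mul,
          show k * (l * τ k) = k * τ k * l by ring]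
      have a2 : ι k * (u' * ι l) * ι k = u' * ι (k * τ k * l) := by
        rw [← mul_assoc, ← hu', mul_assoc u', ← map_mul, mul_assoc u', ← map_mul,
          show τ k * l * k = k * τ k * l by ring]
      rw [mul_add, add_mul, a1, a2]
  suffices hM : ∀ k, k ∈ M by
    have := hM l 1 (show ι 1 * u + u' * ι 1 ∈ S by rw [map_one, one_mul, mul_one]; exact h)
    rwa [mul_one] at this
  haveI := Fintype.ofFinite ↥M
  letI : Field ↥M := Fintype.fieldOfDomain ↥M
  haveI : CharP ↥M p := inferInstance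
  obtain ⟨e, -, he⟩ := FiniteField.card ↥M p
  have hpow : ∀ x ∈ M, x ^ p ^ (e : ℕ) = x := fun x hx => by
    have := congrArg (Subtype.val) (FiniteField.pow_card (⟨x, hx⟩ : ↥M))
    rw [he] at this
    simpa using this
  set φ := iterateFrobenius K p e
  have hφ : ∀ x, φ x = x ^ p ^ (e : ℕ) := fun x => iterateFrobenius_def p e x
  obtain ⟨hs, ht⟩ := hst g
  have hroot : (φ g - g) * (φ g - τ g) = 0 := by
    have e1 : φ g * φ g - φ (g + τ g) * φ g + φ (g * τ g) = 0 := by
      rw [← map_mul, ← map_mul, ← map_sub, ← map_add, show g * g - (g + τ g) * g + g * τ g = 0 by ring, map_zero]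
    rw [hφ (g + τ g), hpow _ hs, hφ (g * τ g), hpow _ ht] at e1
    linear_combination e1
  rcases mul_eq_zero.mp hroot with h1 | h1
  · have hall : ∀ k : K, k ^ p ^ (e : ℕ) = k := fun k => by
      rw [← hφ]; exact all_of_gen hgen (τ' := RingHom.id K) (sub_eq_zero.mp h1) k
    have hle := card_le_of_pow_eq (Nat.one_lt_pow e.pos.ne' (Fact.out : p.Prime).one_lt) hall
    rw [← he, ← Nat.card_eq_fintype_card] at hle
    intro k
    have : (M : Set K) = Set.univ := Set.eq_of_subset_of_ncard_le (Set.subset_univ _) (by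
      rw [Set.ncard_univ]; exact hle.trans (le_of_eq (Nat.card_coe_set_eq _)))
    exact (Set.eq_univ_iff_forall.mp this) k
  · exfalso
    have hτφ : ∀ k, τ k = k ^ p ^ (e : ℕ) := fun k => by
      rw [← hφ]; exact all_of_gen hgen (sub_eq_zero.mp h1).symm k
    have e2 := hpow _ hs
    rw [← hτφ, map_add, add_comm g] at e2
    exact hτ2 (by linear_combination e2)

/-- The polynomial of a symmetric operator. -/
noncomputable def G (p : ℕ) (g : K) (j : ℕ) : K[X] := (X - C (g ^ p ^ j)) * (C g - X ^ p ^ j)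

include hJ hιS in
theorem good_prod {γ : Type*} (s : Finset γ) (f : γ → ℕ) : Good (ι := ι) (g := g) S (∏ j ∈ s, G p g (f j)) :=
  Finset.prod_induction _ (fun P => Good (ι := ι) (g := g) S P) (fun P Q hP hQ z hz => by
    rw [Ψ_mul]; exact hP _ (hQ z hz)) (fun z hz => by rw [Ψ_one]; exact hz) fun j _ => sym_mem hJ hιS _

include hJ hιS in
/-- An element of `S` in a pair of eigenspaces. -/
theorem exists_pair {d : ℕ} (hd : Nat.card K = p ^ d) {x : E} (hx : x ∈ S) (hxg : x * ι g ≠ ι g * x) :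
    ∃ i y, 0 < i ∧ i < d ∧ y ∈ S ∧ y * ι g ≠ ι g * y ∧ Ψ ι g (G p g i) y = 0 := by
  classical
  haveI := Fintype.ofFinite K
  have hgq : g ^ Nat.card K = g := by rw [Nat.card_eq_fintype_card]; exact FiniteField.pow_card g
  have hd0 : 0 < d := Nat.pos_of_ne_zero fun h => by
    rw [h, pow_zero] at hd; exact absurd hd (Finite.one_lt_card (α := K)).ne'
  set f : ℕ → E := fun m => Ψ ι g (∏ j ∈ range m, G p g j) x
  have hfd : f d = 0 := by
    show Ψ ι g (∏ j ∈ range d, G p g j) x = 0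
    simp only [G]
    rw [Finset.prod_mul_distrib, Ψ_mul, Ψ_orbit ι g hd0 (hd ▸ hgq)]
  have hex : ∃ m, f m = 0 := ⟨d, hfd⟩
  set m := Nat.find hex with hm
  have hmd : m ≤ d := Nat.find_le hfd
  have hsq : ∀ z : E, Ψ ι g (G p g 0) z = 0 → Ψ ι g ((X - C g) ^ 2) z = 0 := by
    intro z hz
    have e : ((X - C g) ^ 2 : K[X]) = - G p g 0 := by simp only [G, pow_zero, pow_one]; ring
    rw [e, map_neg]
    show - Ψ ι g (G p g 0) z = 0
    rw [hz, neg_zero]
  have h2q : 2 ≤ Nat.card K := Finite.one_lt_card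
  have hm2 : 2 ≤ m := by
    by_contra hlt
    have hs := Nat.find_spec hex
    rw [← hm] at hs
    interval_cases m
    · simp only [f, range_zero, prod_empty, Ψ_one] at hs
      exact hxg (by rw [hs, zero_mul, mul_zero])
    · simp only [f, prod_range_one] at hs
      exact hxg (semisimple (p := p) h2q hgq hgq (hsq x hs))
  refine ⟨m - 1, f (m - 1), by omega, by omega, good_prod hJ hιS _ id x hx, ?_, ?_⟩
  · intro hcomm
    have hy0 : f (m - 1) ≠ 0 := Nat.find_min hex (by omega)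
    set w : E := Ψ ι g (∏ j ∈ range (m - 2), G p g (j + 1)) x with hw
    have hfw : f (m - 1) = Ψ ι g (G p g 0) w := by
      show Ψ ι g (∏ j ∈ range (m - 1), G p g j) x = _
      rw [hw, ← Ψ_mul, show m - 1 = m - 2 + 1 by omega, Finset.prod_range_succ', mul_comm]
    have h3 : Ψ ι g ((X - C g) ^ 3) w = 0 := by
      rw [show ((X - C g) ^ 3 : K[X]) = - ((X - C g) * G p g 0) by simp only [G, pow_zero, pow_one]; ring, map_neg]
      show - Ψ ι g ((X - C g) * G p g 0) w = 0
      rw [Ψ_mul, ← hfw, Ψ_lin, hcomm, sub_self, neg_zero]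
    have h3q : 3 ≤ Nat.card K := by
      rw [hd]
      have := Nat.pow_le_pow_left (Fact.out : p.Prime).two_le d
      have := Nat.pow_le_pow_right (show 0 < 2 by norm_num) (show 2 ≤ d by omega)
      omega
    have hw' := semisimple (p := p) h3q hgq hgq h3
    refine hy0 ?_
    rw [hfw, show G p g 0 = -((X - C g) * (X - C g)) by simp only [G, pow_zero, pow_one]; ring, map_neg]
    show - Ψ ι g ((X - C g) * (X - C g)) w = 0
    rw [Ψ_mul, Ψ_lin ι g g w, hw', sub_self, map_zero, neg_zero]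
  · show Ψ ι g (G p g (m - 1)) (f (m - 1)) = 0
    have hs := Nat.find_spec hex
    rw [← hm, show m = m - 1 + 1 by omega] at hs
    simp only [f, Finset.prod_range_succ] at hs
    rw [mul_comm, Ψ_mul] at hs
    exact hs

end Pair

section Main

local notation "E" => AddMonoid.End U

variable [Nontrivial U] {K : Type*} [Field K] [Finite K] {p : ℕ} [Fact p.Prime] [CharP K p]
variable {ι : K →+* AddMonoid.End U} {g : K} (hgen : ∀ k : K, k ≠ 0 → ∃ n : ℕ, g ^ n = k)
  (hJ : Jordan S) (hιS : ∀ k, ι k ∈ S) (hmax : ∀ z ∈ S, z * ι g = ι g * z → ∃ k, ι k = z)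

/-- An endomorphism twisting `K` and commuting with `a` twists `K[a]`. -/
theorem lift_semi {f : K[X]} [Fact (Irreducible f)] {a : E} (ι' : AdjoinRoot f →+* E) (hof : ∀ k, ι' (AdjoinRoot.of f k) = ι k)
    (hroot : ι' (AdjoinRoot.root f) = a) (σ : K →+* K) (σ' : AdjoinRoot f →+* AdjoinRoot f)
    (hσ'of : ∀ k, σ' (AdjoinRoot.of f k) = AdjoinRoot.of f (σ k)) (hσ'r : σ' (AdjoinRoot.root f) = AdjoinRoot.root f)
    {z : E} {m : ℕ} (hz : Semi (ι := ι) σ m z) (hza : z * a = a * z) : Semi (ι := ι') σ' m z := by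
  intro ξ
  have h1 : ∀ m k, (⇑σ')^[m] (AdjoinRoot.of f k) = AdjoinRoot.of f ((⇑σ)^[m] k) := fun m k => by
    induction m with
    | zero => rfl
    | succ m ih => rw [Function.iterate_succ_apply', ih, hσ'of, Function.iterate_succ_apply']
  have h2 : (⇑σ')^[m] (AdjoinRoot.root f) = AdjoinRoot.root f := Function.iterate_fixed hσ'r m
  induction ξ using AdjoinRoot.induction_on with
  | _ P =>
    induction P using Polynomial.induction_on' with
    | add P Q hP hQ => rw [map_add, map_add, mul_add, hP, hQ, iterate_map_add, map_add, add_mul]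
    | monomial n k =>
      rw [← C_mul_X_pow_eq_monomial, map_mul, map_pow, AdjoinRoot.mk_C, AdjoinRoot.mk_X, map_mul, iterate_map_mul,
        h1, iterate_map_pow, h2, map_mul, hof, hof, map_pow, hroot, ← mul_assoc, hz k, mul_assoc,
        (show Commute z a from hza).pow_right n, mul_assoc]

include hgen hJ hιS hmax p in
/-- Every element of `S` lies in `K`. -/
theorem no_outside {x : E} (hx : x ∈ S) : x * ι g = ι g * x := by
  classical
  by_contra hxg
  haveI : Nontrivial (AddMonoid.End U) := ⟨⟨1, 0, fun e => by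
    obtain ⟨v, hv⟩ := exists_ne (0 : U); exact hv (DFunLike.congr_fun e v)⟩⟩
  haveI := Fintype.ofFinite K
  obtain ⟨dd, -, hdd⟩ := FiniteField.card K p
  set d : ℕ := (dd : ℕ) with hddef
  have hd : Nat.card K = p ^ d := by rw [Nat.card_eq_fintype_card, hdd]
  have hp1 : 1 < p := (Fact.out : p.Prime).one_lt
  have hgq : g ^ Nat.card K = g := by rw [Nat.card_eq_fintype_card]; exact FiniteField.pow_card g
  obtain ⟨i, y, hi0, hid, hy, hyg, hGy⟩ := exists_pair (p := p) hJ hιS hd hx hxg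
  have hy0 : y ≠ 0 := fun e => hyg (by rw [e, zero_mul, mul_zero])
  set σ := iterateFrobenius K p i with hσdef
  have hσk : ∀ k, σ k = k ^ p ^ i := iterateFrobenius_def p i
  have hσm : ∀ m k, (⇑σ)^[m] k = k ^ p ^ (i * m) := fun m k => by
    induction m with
    | zero => simp
    | succ m ih => rw [Function.iterate_succ_apply', ih, hσk, ← pow_mul, ← pow_add, Nat.mul_succ]
  have hfix : ∀ m, g ^ p ^ m = g → p ^ d ∣ p ^ m ∨ m = 0 := by
    intro m hm
    rcases Nat.eq_zero_or_pos m with h0 | h0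
    · exact .inr h0
    refine .inl (pow_dvd_pow p ?_)
    have hall : ∀ k : K, k ^ p ^ m = k := fun k => by
      rw [← iterateFrobenius_def (R := K) p m]
      exact all_of_gen hgen (τ' := RingHom.id K) (by rw [iterateFrobenius_def]; exact hm) k
    have := card_le_of_pow_eq (Nat.one_lt_pow h0.ne' hp1) hall
    rw [hd] at this
    exact (Nat.pow_le_pow_iff_right hp1).mp this
  have hσg : σ g ≠ g := by
    intro e
    rw [hσk] at e
    rcases hfix i e with h | h
    · exact absurd (Nat.le_of_dvd (pow_pos (by omega) _) h) (not_le.mpr (Nat.pow_lt_pow_right hp1 hid))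
    · omega
  have hσd : (⇑σ)^[d] g = g := by
    rw [hσm, mul_comm, pow_mul, ← hdd, FiniteField.pow_card_pow]
  have hex : ∃ m, 0 < m ∧ (⇑σ)^[m] g = g := ⟨d, dd.pos, hσd⟩
  set r := Nat.find hex with hr
  obtain ⟨hr0, hrg⟩ := Nat.find_spec hex
  rw [← hr] at hr0 hrg
  have hsep : ∀ j, 0 < j → j < r → (⇑σ)^[j] g ≠ g := fun j hj hjr e => Nat.find_min hex hjr ⟨hj, e⟩
  have hσr : ∀ k, (⇑σ)^[r] k = k := fun k => by
    rcases eq_or_ne k 0 with rfl | hk
    · exact iterate_map_zero σ r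
    · obtain ⟨n, rfl⟩ := hgen k hk
      rw [iterate_map_pow, hrg]
  have hmod : ∀ m k, (⇑σ)^[m] k = (⇑σ)^[m % r] k := fun m k => by
    conv_lhs => rw [← Nat.div_add_mod m r]
    exact iterate_period hσr _ _ _
  have hsep' : ∀ m, (⇑σ)^[m] g = g → r ∣ m := fun m e => by
    rw [hmod] at e
    rcases Nat.eq_zero_or_pos (m % r) with h | h
    · exact Nat.dvd_of_mod_eq_zero h
    · exact absurd e (hsep _ h (Nat.mod_lt _ hr0))
  have hGy' : Ψ ι g (C g - X ^ p ^ i) (Ψ ι g (X - C (σ g)) y) = 0 := by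
    rw [← Ψ_mul, mul_comm, hσk]; exact hGy
  -- two eigenspaces coincide
  by_cases h2 : σ (σ g) = g
  · have hi' : p ^ i + 1 ≤ Nat.card K := by
      rw [hd]; exact Nat.pow_lt_pow_right hp1 hid
    have h := semisimple (p := p) (c := σ g) hi' hgq
      (by rw [Nat.card_eq_fintype_card]; exact FiniteField.pow_card _) (show Ψ ι g ((X - C (σ g)) ^ (p ^ i + 1)) y = 0 by
      rw [pow_succ, Ψ_mul, sub_pow_char_pow, ← map_pow, ← hσk (σ g), h2, ← neg_sub (C g), map_neg]
      show - Ψ ι g (C g - X ^ p ^ i) _ = 0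
      rw [hGy', neg_zero])
    exact single hgen hJ hιS hmax hr0 hsep hσr hσg hy hy0 fun k => semi_of_gen ι g hgen h k
  have hr3 : 3 ≤ r := by
    rcases (show r = 1 ∨ r = 2 ∨ 3 ≤ r by omega) with h | h | h
    · rw [h] at hrg; exact absurd hrg hσg
    · rw [h] at hrg; exact absurd hrg h2
    · exact h
  obtain ⟨w, hw⟩ : ∃ z, z = y * ι g - ι (σ g) * y := ⟨_, rfl⟩
  have hw' : ι g * w = w * ι (σ g) := by
    rw [Ψ_lin, ← hw, Ψ_sub, Ψ_C, Ψ_X_pow, ← map_pow, ← hσk, sub_eq_zero] at hGy'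
    exact hGy'
  have hsym : ∀ k, ι k * w = w * ι (σ k) := fun k => by
    rcases eq_or_ne k 0 with rfl | hk
    · simp
    · obtain ⟨n, rfl⟩ := hgen k hk
      rw [map_pow, map_pow, map_pow]
      exact ((show SemiconjBy w (ι (σ g)) (ι g) from hw'.symm).pow_right n).symm
  set δ := g - σ (σ g) with hδ
  have hδ0 : δ ≠ 0 := sub_ne_zero.mpr fun e => h2 e.symm
  obtain ⟨u', hu'def⟩ : ∃ z, z = w * ι δ⁻¹ := ⟨_, rfl⟩
  have hu' : ∀ k, u' * ι (σ k) = ι k * u' := fun k => by
    rw [hu'def, mul_assoc, ← map_mul, mul_comm δ⁻¹, map_mul, ← mul_assoc, ← hsym, mul_assoc]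
  obtain ⟨u, hudef⟩ : ∃ z, z = y - u' := ⟨_, rfl⟩
  have hyu : u + u' = y := by rw [hudef]; exact sub_add_cancel y u'
  have hu : ∀ k, u * ι k = ι (σ k) * u := fun k => semi_of_gen ι g hgen (by
    have e1 : u' * ι δ = w := by
      rw [hu'def, mul_assoc, ← map_mul, inv_mul_cancel₀ hδ0, map_one, mul_one]
    have e2 : u' * ι g - ι (σ g) * u' = w := by
      rw [← hu' (σ g), ← mul_sub, ← map_sub, ← hδ, e1]
    rw [← sub_eq_zero, hudef, sub_mul, mul_sub]
    have e3 : y * ι g - u' * ι g - (ι (σ g) * y - ι (σ g) * u') = w - (u' * ι g - ι (σ g) * u') := by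
      rw [hw]; abel
    rw [e3, e2, sub_self]) k
  have su : Semi (ι := ι) σ 1 u := fun k => hu k
  have su' : Semi (ι := ι) σ (r - 1) u' := fun k => by
    conv_lhs => rw [← hσr k, show r = r - 1 + 1 by omega, Function.iterate_succ_apply']
    exact hu' _
  have scancel : ∀ (z : E) (k l : K), z ≠ 0 → ι k * z = ι l * z → k = l := fun z k l hz e => by
    by_contra hne
    exact hz (mul_left_eq_zero ι (sub_ne_zero.mpr hne) (by rw [map_sub, sub_mul, e, sub_self]))
  have hu0 : u ≠ 0 := by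
    intro e
    have hyu' : u' = y := by rw [← hyu, e, zero_add]
    let τ : K →+* K := iterateFrobenius K p (i * (r - 1))
    have hτ : ∀ k, τ k = (⇑σ)^[r - 1] k := fun k => by rw [hσm]; exact iterateFrobenius_def _ _ _
    have hτm : ∀ m k, (⇑τ)^[m] k = (⇑σ)^[(r - 1) * m] k := fun m k => by
      induction m with
      | zero => simp
      | succ m ih => rw [Function.iterate_succ_apply', ih, hτ, ← Function.iterate_add_apply, Nat.mul_succ, add_comm]
    refine single hgen hJ hιS hmax hr0 (τ := τ) (fun j hj hjr e' => ?_)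
      (fun k => by rw [hτm, mul_comm, ← add_zero (r * (r - 1)), iterate_period hσr, Function.iterate_zero_apply]) ?_
      hy hy0 (fun k => by rw [Function.iterate_one, hτ]; exact hyu' ▸ su' k)
    · rw [hτm] at e'
      have h1 : r ∣ (r - 1) * j + j := by
        rw [← Nat.succ_mul, show (r - 1).succ = r by omega]; exact Dvd.intro j rfl
      have h2 := (Nat.dvd_add_right (hsep' _ e')).mp h1
      exact absurd (Nat.le_of_dvd hj h2) (not_le.mpr hjr)
    · rw [hτ]
      intro e'
      exact absurd (Nat.le_of_dvd (by omega) (hsep' _ e')) (by omega)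
  -- projection to the centralizer of `g`
  set H : K[X] := ∏ j ∈ (range d).erase 0, G p g j with hH
  have hHS : Good (ι := ι) (g := g) S H := good_prod hJ hιS _ id
  have hHg : H.eval g ≠ 0 := by
    rw [hH, eval_prod]
    refine prod_ne_zero_iff.mpr fun j hj => ?_
    obtain ⟨hj0, hjd⟩ := mem_erase.mp hj
    have hne : g ^ p ^ j ≠ g := fun e => by
      rcases hfix j e with h | h
      · exact absurd (Nat.le_of_dvd (pow_pos (by omega) _) h)
          (not_le.mpr (Nat.pow_lt_pow_right hp1 (mem_range.mp hjd)))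
      · exact hj0 h
    simp only [G, eval_mul, eval_sub, eval_X, eval_C, eval_pow]
    exact mul_ne_zero (sub_ne_zero.mpr hne.symm) (sub_ne_zero.mpr hne.symm)
  have hkill : ∀ (z : E) (m : ℕ), Semi (ι := ι) σ m z → (⇑σ)^[m] g ≠ g → Ψ ι g H z = 0 := by
    intro z m hz hm
    rw [Ψ_eig ι g (hz g), hH, eval_prod, prod_eq_zero (i := (i * m) % d), map_zero, zero_mul]
    · have e : g ^ p ^ (i * m) = g ^ p ^ (i * m % d) := by
        conv_lhs => rw [← Nat.div_add_mod (i * m) d, pow_add, pow_mul, pow_mul, ← hdd, FiniteField.pow_card_pow]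
      refine mem_erase.mpr ⟨fun e' => hm ?_, mem_range.mpr (Nat.mod_lt _ dd.pos)⟩
      rw [hσm, e, e', pow_zero, pow_one]
    · have e : g ^ p ^ (i * m) = g ^ p ^ (i * m % d) := by
        conv_lhs => rw [← Nat.div_add_mod (i * m) d, pow_add, pow_mul, pow_mul, ← hdd, FiniteField.pow_card_pow]
      simp only [G, eval_mul, eval_sub, eval_X, eval_C]
      rw [hσm, e, sub_self, zero_mul]
  have proj : ∀ z ∈ S, ∀ z₀ : E, z₀ * ι g = ι g * z₀ → Ψ ι g H (z - z₀) = 0 → ∃ k, ι k = z₀ := by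
    intro z hz z₀ hz₀ h
    have e : Ψ ι g H z = ι (H.eval g) * z₀ := by
      rw [map_sub, sub_eq_zero] at h; rw [h, Ψ_eig ι g hz₀]
    obtain ⟨k, hk⟩ := hmax _ (e ▸ hHS z hz) (by rw [mul_assoc, hz₀, ← mul_assoc, ← map_mul, mul_comm, map_mul, mul_assoc])
    exact ⟨(H.eval g)⁻¹ * k, by rw [map_mul, hk, ← mul_assoc, ← map_mul, inv_mul_cancel₀ hHg, map_one, one_mul]⟩
  have hcomm0 : ∀ {z : E} {m : ℕ}, Semi (ι := ι) σ m z → r ∣ m → ∀ k, z * ι k = ι k * z := by
    intro z m hz hm k
    rw [hz k, hmod, Nat.mod_eq_zero_of_dvd hm, Function.iterate_zero_apply]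
  have hne2 : (⇑σ)^[1 + 1] g ≠ g := h2
  have hne2' : (⇑σ)^[(r - 1) + (r - 1)] g ≠ g := fun e => by
    have h1 : r ∣ (r - 1) + (r - 1) + 2 := by
      rw [show (r - 1) + (r - 1) + 2 = 2 * r by omega]; exact Dvd.intro_left 2 rfl
    have h2 := Nat.le_of_dvd (by omega) ((Nat.dvd_add_right (hsep' _ e)).mp h1)
    omega
  have hrr : ∀ k, (⇑σ)^[r - 1] (σ k) = k := fun k => by
    rw [← Function.iterate_succ_apply, show (r - 1).succ = r by omega, hσr]
  -- `u u'` and `u' u` are scalars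
  have hC : ∀ k, ∃ k', ι k' = u * ι k * u' + u' * ι k * u := by
    intro k
    have hterm : ∀ {z z' : E} {m n : ℕ}, Semi (ι := ι) σ m z → Semi (ι := ι) σ n z' → Semi (ι := ι) σ (m + n) (z * ι k * z') := by
      intro z z' m n hz hz'
      have h0 : Semi (ι := ι) σ 0 (ι k) := fun l => by rw [← map_mul, ← map_mul, mul_comm]; rfl
      simpa using (hz.mul h0).mul hz'
    refine proj _ (hJ.tri y hy _ (hιS k)) _ ?_ ?_
    · rw [add_mul, mul_add, hcomm0 (hterm su su') (by rw [show 1 + (r - 1) = r by omega]) g,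
        hcomm0 (hterm su' su) (by rw [show (r - 1) + 1 = r by omega]) g]
    · have e : y * ι k * y - (u * ι k * u' + u' * ι k * u) = u * ι k * u + u' * ι k * u' := by
        rw [← hyu]; noncomm_ring
      rw [e, map_add, hkill _ _ (hterm su su) hne2, hkill _ _ (hterm su' su') hne2', add_zero]
  obtain ⟨k1, hk1⟩ := hC 1
  obtain ⟨k2, hk2⟩ := hC (σ g)
  rw [map_one, mul_one, mul_one] at hk1
  rw [hu, hu', mul_assoc, mul_assoc] at hk2
  have hδ' : σ (σ g) - g ≠ 0 := sub_ne_zero.mpr h2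
  obtain ⟨c, hcdef⟩ : ∃ z, z = (σ (σ g) - g)⁻¹ * (k2 - g * k1) := ⟨_, rfl⟩
  have hc : u * u' = ι c := by
    have e1 : ι (σ (σ g) - g) * (u * u') = ι (k2 - g * k1) := by
      rw [map_sub, map_sub, map_mul, hk1, hk2, sub_mul, mul_add]; abel
    rw [hcdef, map_mul, ← e1, ← mul_assoc, ← map_mul, inv_mul_cancel₀ hδ', map_one, one_mul]
  obtain ⟨c', hc'def⟩ : ∃ z, z = k1 - c := ⟨_, rfl⟩
  have hc' : u' * u = ι c' := by rw [hc'def, map_sub, hk1, ← hc, add_sub_cancel_left]
  have hcc : σ c' = c := scancel u _ _ hu0 (by rw [← hu, ← hc', ← mul_assoc, hc])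
  have hc'' : c' = (⇑σ)^[r - 1] c := by rw [← hcc, hrr]
  obtain ⟨a, ha⟩ : ∃ z, z = u ^ r := ⟨_, rfl⟩
  obtain ⟨a', ha'⟩ : ∃ z, z = u' ^ r := ⟨_, rfl⟩
  have sa : Semi (ι := ι) σ r a := by rw [ha]; simpa using su.pow r
  have sa' : Semi (ι := ι) σ ((r - 1) * r) a' := by rw [ha']; exact su'.pow r
  have hak : ∀ k, a * ι k = ι k * a := hcomm0 sa (dvd_refl r)
  have ha'k : ∀ k, a' * ι k = ι k * a' := hcomm0 sa' (Dvd.intro_left _ rfl)
  have hau : a * u = u * a := by rw [ha, ← pow_succ, ← pow_succ']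
  have ha'u : a' * u = u * a' := by
    obtain ⟨m, hm⟩ : ∃ m, r = m + 1 := ⟨r - 1, by omega⟩
    have hsm : Semi (ι := ι) σ ((r - 1) * m) (u' ^ m) := su'.pow m
    have h1 : u' ^ (m + 1) * u = ι ((⇑σ)^[(r - 1) * m] c') * u' ^ m := by rw [pow_succ, mul_assoc, hc', hsm c']
    rw [ha', hm, h1, pow_succ', ← mul_assoc, hc]
    congr 2
    rw [← hcc, hmod]
    have : (r - 1) * m % r = 1 := by
      obtain rfl : m = r - 1 := by omega
      obtain ⟨l, hl⟩ : ∃ l, r = l + 2 := ⟨r - 2, by omega⟩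
      rw [hl, show l + 2 - 1 = l + 1 by omega, show (l + 1) * (l + 1) = 1 + (l + 2) * l by ring,
        Nat.add_mul_mod_self_left, Nat.mod_eq_of_lt (by omega)]
    rw [this, Function.iterate_one]
  -- the trace
  let P0 : AddSubgroup E :=
    { carrier := {z | ∃ k, Ψ ι g H (z - ι k) = 0}
      zero_mem' := ⟨0, by rw [map_zero, sub_zero, map_zero]⟩
      add_mem' := fun {z z'} ⟨k, hk⟩ ⟨k', hk'⟩ => ⟨k + k', by
        rw [map_add ι, show z + z' - (ι k + ι k') = (z - ι k) + (z' - ι k') by abel, map_add, hk, hk', add_zero]⟩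
      neg_mem' := fun {z} ⟨k, hk⟩ => ⟨-k, by
        rw [map_neg ι, show -z - -ι k = -(z - ι k) by abel, map_neg, hk, neg_zero]⟩ }
  let Lm : ℕ → AddSubgroup E := fun m =>
    AddSubgroup.closure {z | ∃ k, ∃ j ≤ m, z = ι k * u ^ j ∨ z = ι k * u' ^ j}
  have hmemL : ∀ {m j : ℕ} (k : K), j ≤ m → ι k * u ^ j ∈ Lm m ∧ ι k * u' ^ j ∈ Lm m := fun k h =>
    ⟨AddSubgroup.subset_closure ⟨k, _, h, .inl rfl⟩, AddSubgroup.subset_closure ⟨k, _, h, .inr rfl⟩⟩
  have hu'k : ∀ k, u' * ι k = ι ((⇑σ)^[r - 1] k) * u' := su'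
  have hstep : ∀ m, ∀ z ∈ Lm m, y * z ∈ Lm (m + 1) := by
    intro m z hz
    induction hz using AddSubgroup.closure_induction with
    | mem z hz =>
      obtain ⟨k, j, hj, rfl | rfl⟩ := hz
      · rw [← hyu, add_mul, ← mul_assoc, hu, mul_assoc, ← pow_succ', ← mul_assoc, hu'k, mul_assoc]
        refine add_mem (hmemL _ (by omega)).1 ?_
        rcases j with _ | j
        · rw [pow_zero, mul_one, ← pow_one u']; exact (hmemL _ (by omega)).2
        · rw [pow_succ' u, ← mul_assoc u', hc', ← mul_assoc, ← map_mul]; exact (hmemL _ (by omega)).1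
      · rw [← hyu, add_mul, ← mul_assoc, hu, mul_assoc, ← mul_assoc u', hu'k, mul_assoc _ u', ← pow_succ']
        refine add_mem ?_ (hmemL _ (by omega)).2
        rcases j with _ | j
        · rw [pow_zero, mul_one, ← pow_one u]; exact (hmemL _ (by omega)).1
        · rw [pow_succ' u', ← mul_assoc u, hc, ← mul_assoc, ← map_mul]; exact (hmemL _ (by omega)).2
    | zero => rw [mul_zero]; exact zero_mem _
    | add z z' _ _ h h' => rw [mul_add]; exact add_mem h h'
    | neg z _ h => rw [mul_neg]; exact neg_mem h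
  have hexp : ∀ m, y ^ (m + 1) - (u ^ (m + 1) + u' ^ (m + 1)) ∈ Lm m := by
    intro m
    induction m with
    | zero => simp [hyu]
    | succ m ih =>
      have e : y ^ (m + 1 + 1) - (u ^ (m + 1 + 1) + u' ^ (m + 1 + 1))
          = y * (y ^ (m + 1) - (u ^ (m + 1) + u' ^ (m + 1))) + (ι c * u' ^ m + ι c' * u ^ m) := by
        rw [← hc, ← hc', pow_succ' y (m + 1), pow_succ' u (m + 1), pow_succ' u' (m + 1)]
        generalize y ^ (m + 1) = Y
        rw [pow_succ' u m, pow_succ' u' m, ← hyu]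
        generalize u ^ m = U1
        generalize u' ^ m = U2
        noncomm_ring
      rw [e]
      exact add_mem (hstep m _ ih) (add_mem (hmemL _ (by omega)).2 (hmemL _ (by omega)).1)
  have hP0 : Lm (r - 1) ≤ P0 := by
    refine (AddSubgroup.closure_le _).mpr ?_
    rintro z ⟨k, j, hj, hz⟩
    rcases Nat.eq_zero_or_pos j with rfl | hj0
    · exact ⟨k, by rcases hz with rfl | rfl <;> simp⟩
    refine ⟨0, ?_⟩
    rw [map_zero, sub_zero]
    have h0 : Semi (ι := ι) σ 0 (ι k) := fun l => by rw [← map_mul, ← map_mul, mul_comm]; rfl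
    rcases hz with rfl | rfl
    · exact hkill _ _ (h0.mul (su.pow j)) (by simpa using hsep j hj0 (by omega))
    · refine hkill _ _ (h0.mul (su'.pow j)) fun e => ?_
      rw [zero_add] at e
      have h1 : r ∣ (r - 1) * j + j := by
        rw [← Nat.succ_mul, show (r - 1).succ = r by omega]; exact Dvd.intro j rfl
      exact absurd (Nat.le_of_dvd hj0 ((Nat.dvd_add_right (hsep' _ e)).mp h1)) (by omega)
  obtain ⟨k0, hk0⟩ : ∃ k, Ψ ι g H (y ^ r - (a + a') - ι k) = 0 := hP0 (by
    have := hexp (r - 1)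
    rw [show r - 1 + 1 = r by omega] at this
    rwa [ha, ha'])
  obtain ⟨k3, hk3⟩ := proj _ (hJ.pow_mem hy r) (a + a' + ι k0)
    (by rw [add_mul, add_mul, mul_add, mul_add, hak, ha'k, ← map_mul, ← map_mul, mul_comm k0])
    (by rw [← hk0]; congr 1; abel)
  obtain ⟨e, hedef⟩ : ∃ z, z = k3 - k0 := ⟨_, rfl⟩
  have he : ι e = a + a' := by rw [hedef, map_sub, hk3, add_sub_cancel_right]
  have hef : σ e = e := scancel u _ _ hu0 (by rw [← hu, he, mul_add, add_mul, hau, ha'u])
  -- the norm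
  have hN : ∀ m, ∃ n, u ^ m * u' ^ m = ι n ∧ (c ≠ 0 → n ≠ 0) ∧ (c = 0 → 0 < m → n = 0) := by
    intro m
    induction m with
    | zero => exact ⟨1, by simp, fun _ => one_ne_zero, fun _ h => absurd h (lt_irrefl 0)⟩
    | succ m ih =>
      obtain ⟨n, hn, hn1, hn2⟩ := ih
      refine ⟨σ n * c, ?_, fun h => mul_ne_zero ((map_ne_zero σ).mpr (hn1 h)) h, fun h _ => by rw [h, mul_zero]⟩
      rw [pow_succ', pow_succ, mul_assoc, ← mul_assoc (u ^ m), hn, ← mul_assoc, hu, mul_assoc, hc, map_mul]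
  obtain ⟨n, hn, hn1, hn2⟩ := hN r
  rw [← ha, ← ha'] at hn
  have hnf : σ n = n := scancel u _ _ hu0 (by rw [← hu, ← hn, ← mul_assoc, ← hau, mul_assoc, mul_assoc, ha'u])
  have ha'e : a' = ι e - a := by rw [he, add_sub_cancel_left]
  have hq : a * a - ι e * a + ι n = 0 := by
    rw [← hn, ha'e, mul_sub, hak]; abel
  have ha'a : a' * a = ι n := by
    rw [← hn, ha'e, sub_mul, mul_sub, hak]
  have hfac : ∀ α, α * α - e * α + n = 0 → (a - ι α) * (a - ι (e - α)) = 0 := by
    intro α hα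
    have h1 : ι n = ι e * ι α - ι α * ι α := by
      rw [← map_mul, ← map_mul, ← map_sub]; congr 1; linear_combination hα
    rw [h1] at hq
    rw [map_sub, sub_mul, mul_sub a, mul_sub a, hak e, hak α, mul_sub (ι α), mul_sub (ι α), ← map_mul ι α e,
      mul_comm α e, map_mul]
    rw [← hq]; abel
  letI : Module K U := Module.compHom U ι
  obtain ⟨v₀, hv₀⟩ := exists_ne (0 : U)
  have hav : ∀ α, α * α - e * α + n = 0 → ∃ β, (β = α ∨ β = e - α) ∧ ∃ v : U, v ≠ 0 ∧ a v = ι β v := by
    intro α hα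
    by_cases h : (a - ι (e - α)) v₀ = 0
    · exact ⟨_, .inr rfl, v₀, hv₀, sub_eq_zero.mp h⟩
    · exact ⟨_, .inl rfl, _, h, sub_eq_zero.mp (DFunLike.congr_fun (hfac α hα) v₀)⟩
  have hu'v : ∀ {v : U} {κ : K}, κ ≠ 0 → u v = ι κ v → u' v = ι (((⇑σ)^[r - 1] κ)⁻¹ * c') v := by
    intro v κ hκ hv
    have h1 : ι ((⇑σ)^[r - 1] κ) (u' v) = ι c' v := by
      have e1 : (ι ((⇑σ)^[r - 1] κ) * u') v = (u' * ι κ) v := by rw [hu'k]
      have e2 : (u' * u) v = ι c' v := by rw [hc']
      exact e1.trans (((congrArg u' hv.symm).trans e2))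
    have hne : (⇑σ)^[r - 1] κ ≠ 0 := by rw [hσm]; exact pow_ne_zero _ hκ
    rw [map_mul]
    show u' v = ι ((⇑σ)^[r - 1] κ)⁻¹ (ι c' v)
    rw [← h1]
    show u' v = (ι ((⇑σ)^[r - 1] κ)⁻¹ * ι ((⇑σ)^[r - 1] κ)) (u' v)
    rw [← map_mul, inv_mul_cancel₀ hne, map_one]; rfl
  have finish1 : ∀ z ∈ S, ∀ (k : K) (v : U), v ≠ 0 → z v = ι k v → z = ι k := fun z hz k v hv h =>
    sub_eq_zero.mp (by_contra fun hne => hv (hJ.inj _ (S.sub_mem hz (hιS k)) hne v (sub_eq_zero.mpr h)))
  -- a fixed eigenvalue gives a fixed line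
  have caseA : ∀ α v₁, α ≠ 0 → σ α = α → v₁ ≠ 0 → a v₁ = ι α v₁ → False := by
    intro α v₁ hα hαf hv₁ hav₁
    obtain ⟨κ, hκ, v, hv, huv⟩ := eigvec σ u g r hr0 hsep hσr (fun k v => DFunLike.congr_fun (hu k) v) hα hαf hv₁
      ((DFunLike.congr_fun ha v₁ |>.trans (congrFun (AddMonoid.End.coe_pow (M := U) u r) v₁)).symm.trans hav₁)
    have h1 := finish1 y hy (κ + ((⇑σ)^[r - 1] κ)⁻¹ * c') v hv (by
      rw [← hyu, map_add]
      show u v + u' v = ι κ v + _
      rw [hu'v hκ huv]; exact congrArg (· + _) huv)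
    exact hyg (by rw [h1, ← map_mul, ← map_mul, mul_comm])
  by_cases hc0 : c = 0
  · have hn0 : n = 0 := hn2 hc0 hr0
    have hc'0 : c' = 0 := by rw [hc'', hc0]; exact iterate_map_zero σ _
    have hpow : ∀ m, y ^ (m + 1) = u ^ (m + 1) + u' ^ (m + 1) := by
      intro m
      induction m with
      | zero => simp [hyu]
      | succ m ih =>
        rw [pow_succ' y, ih, ← hyu, add_mul, mul_add, mul_add, pow_succ' u' m, pow_succ' u m, ← mul_assoc u u',
          ← mul_assoc u' u, hc, hc', hc0, hc'0, map_zero, zero_mul, zero_mul, add_zero, zero_add, ← pow_succ',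
          ← pow_succ', ← pow_succ', ← pow_succ']
    have hyr : y ^ r = ι e := by
      have := hpow (r - 1)
      rwa [show r - 1 + 1 = r by omega, ← ha, ← ha', ← he] at this
    have he0 : e ≠ 0 := by
      intro h
      exact pow_apply_ne (hJ.inj y hy hy0) hv₀ r (by rw [hyr, h, map_zero]; rfl)
    have ha0 : a ≠ 0 := by
      intro h
      refine hu0 (mul_left_eq_zero ι he0 ?_)
      rw [← hef, ← hu, he, h, zero_add, ha', show r = r - 1 + 1 by omega, pow_succ', ← mul_assoc, hc, hc0, map_zero,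
        zero_mul]
    obtain ⟨v, hv⟩ : ∃ v, a v ≠ 0 := by
      by_contra h
      push Not at h
      exact ha0 (AddMonoidHom.ext h)
    refine caseA e (a v) he0 hef hv ?_
    rw [hn0, map_zero, add_zero, sub_eq_zero] at hq
    exact DFunLike.congr_fun hq v
  have hn0 : n ≠ 0 := hn1 hc0
  by_cases hroot : ∃ α, σ α = α ∧ α * α - e * α + n = 0
  · obtain ⟨α, hαf, hα⟩ := hroot
    obtain ⟨β, hβ, v, hv, hav⟩ := hav α hα
    have hβ0 : β ≠ 0 := by
      rcases hβ with rfl | rfl <;> intro h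
      · exact hn0 (by rw [h] at hα; simpa using hα)
      · exact hn0 (by rw [sub_eq_zero.mp h] at hα; linear_combination hα)
    refine caseA β v hβ0 ?_ hv hav
    rcases hβ with rfl | rfl
    · exact hαf
    · rw [map_sub, hef, hαf]
  have hainj : ∀ v, u v = 0 → v = 0 := by
    intro v hv
    have h1 : ι n v = 0 := by
      rw [← ha'a, ha, show r = r - 1 + 1 by omega, pow_succ u, ← mul_assoc]
      show (a' * u ^ (r - 1)) (u v) = 0
      rw [hv, map_zero]
    have h3 : (ι n⁻¹ * ι n) v = 0 := by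
      show ι n⁻¹ (ι n v) = 0
      rw [h1, map_zero]
    rw [← map_mul, inv_mul_cancel₀ hn0, map_one] at h3
    exact h3
  have hu2 : u * u ≠ 0 := fun h => hv₀ (hainj _ (hainj _ (DFunLike.congr_fun h v₀)))
  obtain ⟨z2, hz2⟩ : ∃ z, z = u * u + u' * u' := ⟨_, rfl⟩
  have hz2S : z2 ∈ S := by
    have h := S.sub_mem (S.sub_mem (hJ.tri y hy 1 hJ.one) (hιS c)) (hιS c')
    rwa [mul_one, show y * y - ι c - ι c' = z2 by rw [hz2, ← hyu, ← hc, ← hc']; noncomm_ring] at h
  have suu : Semi (ι := ι) σ 2 (u * u) := su.mul su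
  have suu' : Semi (ι := ι) σ (r - 1 + (r - 1)) (u' * u') := su'.mul su'
  have ha'u' : a * u' = u' * a := by
    have h0 : u * (a * u' - u' * a) = 0 := by
      rw [mul_sub, ← mul_assoc, ← hau, mul_assoc, hc, ← mul_assoc u u', hc, hak, sub_self]
    exact AddMonoidHom.ext fun v => sub_eq_zero.mp (hainj _ (DFunLike.congr_fun h0 v))
  by_cases hrootK : ∃ α, α * α - e * α + n = 0
  · -- the eigenvalue is moved
    obtain ⟨α0, hα0⟩ := hrootK
    obtain ⟨α, hαor, v₁, hv₁, hav₁⟩ := hav α0 hα0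
    have hα : α * α - e * α + n = 0 := by
      rcases hαor with rfl | rfl
      · exact hα0
      · linear_combination hα0
    have hαne : σ α ≠ α := fun h => hroot ⟨α, h, hα⟩
    have hσα : σ α = e - α := by
      have h := congrArg σ hα
      rw [map_add, map_sub, map_mul, map_mul, hef, hnf, map_zero] at h
      have : (σ α - α) * (σ α - (e - α)) = 0 := by linear_combination h - hα
      rcases mul_eq_zero.mp this with h' | h'
      · exact absurd (sub_eq_zero.mp h') hαne
      · exact sub_eq_zero.mp h'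
    have hσσα : σ (σ α) = α := by rw [hσα, map_sub, hef, hσα, sub_sub_cancel]
    have hα00 : α ≠ 0 := fun h => hn0 (by rw [h] at hα; simpa using hα)
    obtain ⟨h, hh⟩ : ∃ h, r = 2 * h := by
      rcases Nat.even_or_odd r with he' | ho
      · obtain ⟨h, hh⟩ := he'; exact ⟨h, by omega⟩
      · exfalso
        obtain ⟨h, hh⟩ := ho
        have e2 : ∀ j, (⇑σ)^[2 * j] α = α := fun j => by
          induction j with
          | zero => rfl
          | succ j ih => rw [Nat.mul_succ, add_comm, Function.iterate_add_apply, ih]; exact hσσα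
        have := hσr α
        rw [hh, add_comm, Function.iterate_add_apply, e2, Function.iterate_one] at this
        exact hαne this
    have hτm : ∀ j k, (⇑(σ.comp σ))^[j] k = (⇑σ)^[2 * j] k := fun j k => by
      induction j with
      | zero => rfl
      | succ j ih => rw [Function.iterate_succ_apply', ih, Nat.mul_succ, add_comm, Function.iterate_add_apply]; rfl
    have hit : ((u * u) ^ h) v₁ = a v₁ := by rw [ha, hh, pow_mul, sq]
    obtain ⟨κ, hκ, v, hv, huv⟩ := eigvec (σ.comp σ) (u * u) g h (by omega)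
      (fun j hj hjh e' => hsep (2 * j) (by omega) (by omega) (by rw [← hτm]; exact e'))
      (fun k => by rw [hτm, ← hh, hσr]) (fun k v => DFunLike.congr_fun (suu k) v) hα00 hσσα hv₁
      (((congrFun (AddMonoid.End.coe_pow (M := U) (u * u) h) v₁).symm.trans hit).trans hav₁)
    have h22 : u' * u' * (u * u) = ι ((⇑σ)^[r - 1] c' * c') := by
      rw [mul_assoc, ← mul_assoc u' u, hc', ← mul_assoc, hu'k, mul_assoc, hc', map_mul]
    have hne : (⇑σ)^[r - 1 + (r - 1)] κ ≠ 0 := by rw [hσm]; exact pow_ne_zero _ hκ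
    have hu'2v : (u' * u') v = ι (((⇑σ)^[r - 1 + (r - 1)] κ)⁻¹ * ((⇑σ)^[r - 1] c' * c')) v := by
      have h1 : ι ((⇑σ)^[r - 1 + (r - 1)] κ) ((u' * u') v) = ι ((⇑σ)^[r - 1] c' * c') v := by
        have e1 : (ι ((⇑σ)^[r - 1 + (r - 1)] κ) * (u' * u')) v = (u' * u' * ι κ) v := by rw [suu']
        have e2 : (u' * u' * (u * u)) v = ι ((⇑σ)^[r - 1] c' * c') v := by rw [h22]
        exact e1.trans ((congrArg (u' * u') huv.symm).trans e2)
      rw [map_mul]
      show _ = ι _ (ι _ v)
      rw [← h1]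
      show _ = (ι ((⇑σ)^[r - 1 + (r - 1)] κ)⁻¹ * ι ((⇑σ)^[r - 1 + (r - 1)] κ)) ((u' * u') v)
      rw [← map_mul, inv_mul_cancel₀ hne, map_one]; rfl
    obtain hz2K := finish1 z2 hz2S (κ + ((⇑σ)^[r - 1 + (r - 1)] κ)⁻¹ * ((⇑σ)^[r - 1] c' * c')) v hv (by
      rw [hz2, map_add]
      show (u * u) v + (u' * u') v = ι κ v + _
      rw [hu'2v]; exact congrArg (· + _) huv)
    have hz2g : z2 * ι g = ι g * z2 := by rw [hz2K, ← map_mul, ← map_mul, mul_comm]
    by_cases h4 : (⇑σ)^[r - 1 + (r - 1)] g = (⇑σ)^[2] g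
    · have h4r : r = 4 := by
        have h1 : (⇑σ)^[2 + 2] g = g := by
          rw [Function.iterate_add_apply, ← h4, ← Function.iterate_add_apply,
            show 2 + (r - 1 + (r - 1)) = r * 2 + 0 by omega, iterate_period hσr]; rfl
        have := Nat.le_of_dvd (by omega) (hsep' _ h1)
        omega
      have hz20 : z2 = 0 := by
        refine eig_kill ι g (P := X - C g) (c := (⇑σ)^[2] g) ?_ ?_ ?_
        · rw [hz2, add_mul, mul_add, suu g, suu' g, h4]
        · rw [Ψ_lin, hz2g, sub_self]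
        · rw [eval_sub, eval_X, eval_C]; exact sub_ne_zero.mpr h2
      have huu : u' * u' = -(u * u) := eq_neg_of_add_eq_zero_right (hz2 ▸ hz20)
      have haa : a' = a := by
        rw [ha, ha', h4r, show (4 : ℕ) = 2 * 2 from rfl, pow_mul, pow_mul, sq u', huu, sq, neg_mul_neg, sq (u ^ 2), sq u]
      rw [haa] at he
      by_cases h2K : (2 : K) = 0
      · obtain rfl : e = 0 := by
          refine ι.injective ?_
          rw [he, map_zero, ← two_mul, ← map_ofNat ι, h2K, map_zero, zero_mul]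
        haveI : CharP K 2 := CharTwo.of_one_ne_zero_of_two_eq_zero one_ne_zero h2K
        obtain ⟨β, hβ⟩ := (Finite.injective_iff_surjective.mp (frobenius_inj K 2)) n
        rw [frobenius_def] at hβ
        refine hroot ⟨β, frobenius_inj K 2 ?_, ?_⟩
        · rw [frobenius_def, frobenius_def, ← map_pow, hβ, hnf]
        · rw [zero_mul, sub_zero, ← sq, hβ]; exact CharTwo.add_self_eq_zero n
      · have hae : a = ι (e / 2) := by
          have h1 : ι ((2 : K)⁻¹) * ι e = a := by
            rw [he, ← two_mul, ← mul_assoc, ← map_ofNat ι, ← map_mul, inv_mul_cancel₀ h2K, map_one, one_mul]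
          rw [← h1, ← map_mul, inv_mul_eq_div]
        refine hroot ⟨e / 2, by rw [map_div₀, hef, map_ofNat], ι.injective ?_⟩
        rw [map_zero, map_add, map_sub, map_mul, map_mul, ← hae, hq]
    · refine hu2 (eig_kill ι g (P := (X - C ((⇑σ)^[r - 1 + (r - 1)] g)) * (X - C g)) (suu g) ?_ ?_)
      · have e1 : Ψ ι g ((X - C ((⇑σ)^[r - 1 + (r - 1)] g)) * (X - C g)) z2 = 0 := by
          rw [Ψ_mul, Ψ_lin ι g g z2, hz2g, sub_self, map_zero]
        have e2 : Ψ ι g ((X - C ((⇑σ)^[r - 1 + (r - 1)] g)) * (X - C g)) (u' * u') = 0 := by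
          rw [Ψ_eig ι g (suu' g), eval_mul, eval_sub, eval_X, eval_C, sub_self, zero_mul, map_zero, zero_mul]
        rw [hz2, map_add, e2, add_zero] at e1
        exact e1
      · rw [eval_mul, eval_sub, eval_sub, eval_X, eval_C, eval_C]
        exact mul_ne_zero (sub_ne_zero.mpr (Ne.symm h4)) (sub_ne_zero.mpr h2)
  -- the eigenvalue is outside `K`
  set f : K[X] := X ^ 2 - C e * X + C n with hf
  have hfdeg : f.natDegree = 2 := by rw [hf]; compute_degree!
  have hfir : Irreducible f := by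
    rw [Polynomial.irreducible_iff_roots_eq_zero_of_degree_le_three (by omega) (by omega), Multiset.eq_zero_iff_forall_notMem]
    intro α hα
    rw [mem_roots'] at hα
    refine hrootK ⟨α, ?_⟩
    have := hα.2
    rw [IsRoot, hf, eval_add, eval_sub, eval_pow, eval_mul, eval_X, eval_C, eval_C, sq] at this
    exact this
  haveI : Fact (Irreducible f) := ⟨hfir⟩
  set θ := AdjoinRoot.root f
  set ev : K[X] →+* E := eval₂RingHom' ι a (fun k => (hak k).symm)
  have hev : ev f = 0 := by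
    show Polynomial.eval₂ ι a f = 0
    rw [hf, eval₂_add, eval₂_sub, eval₂_X_pow, eval₂_C, C_mul_X_eq_monomial, eval₂_monomial, pow_one, sq]
    exact hq
  let ι' : AdjoinRoot f →+* E := Ideal.Quotient.lift _ ev (fun P hP => by
    obtain ⟨Q, rfl⟩ := Ideal.mem_span_singleton.mp hP
    rw [map_mul, hev, zero_mul])
  have hι'mk : ∀ P, ι' (AdjoinRoot.mk f P) = ev P := fun P => rfl
  have hof : ∀ k, ι' (AdjoinRoot.of f k) = ι k := fun k => by
    rw [← AdjoinRoot.mk_C, hι'mk]
    show Polynomial.eval₂ ι a (C k) = _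
    rw [eval₂_C]
  have hroot' : ι' θ = a := by
    show ι' (AdjoinRoot.root f) = a
    rw [← AdjoinRoot.mk_X, hι'mk]
    show Polynomial.eval₂ ι a X = _
    rw [eval₂_X]
  let σ' : AdjoinRoot f →+* AdjoinRoot f := AdjoinRoot.lift ((AdjoinRoot.of f).comp σ) θ (by
    rw [← eval₂_map, show f.map σ = f by simp [hf, hef, hnf]]; exact AdjoinRoot.eval₂_root f)
  have hσ'of : ∀ k, σ' (AdjoinRoot.of f k) = AdjoinRoot.of f (σ k) := fun k => AdjoinRoot.lift_of _
  have hσ'r : σ' θ = θ := AdjoinRoot.lift_root _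
  have hσ'm : ∀ m k, (⇑σ')^[m] (AdjoinRoot.of f k) = AdjoinRoot.of f ((⇑σ)^[m] k) := fun m k => by
    induction m with
    | zero => rfl
    | succ m ih => rw [Function.iterate_succ_apply', ih, hσ'of, Function.iterate_succ_apply']
  have hσ'id : ∀ ξ, (⇑σ')^[r] ξ = ξ := fun ξ => by
    induction ξ using AdjoinRoot.induction_on with
    | _ P =>
      induction P using Polynomial.induction_on' with
      | add P Q hP hQ => rw [map_add, iterate_map_add, hP, hQ]
      | monomial m k =>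
        rw [← C_mul_X_pow_eq_monomial, map_mul, map_pow, AdjoinRoot.mk_C, AdjoinRoot.mk_X, iterate_map_mul,
          iterate_map_pow, hσ'm, hσr, Function.iterate_fixed hσ'r]
  have hK'fin : Module.finrank K (AdjoinRoot f) = 2 := by
    rw [(AdjoinRoot.powerBasis hfir.ne_zero).finrank, AdjoinRoot.powerBasis_dim, hfdeg]
  haveI : Module.Finite K (AdjoinRoot f) := (AdjoinRoot.powerBasis hfir.ne_zero).finite
  haveI : Finite (AdjoinRoot f) := Module.finite_of_finite K
  have hK'card : Nat.card (AdjoinRoot f) = Nat.card K ^ 2 := by rw [Module.natCard_eq_pow_finrank (K := K), hK'fin]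
  have hof_inj : Function.Injective (AdjoinRoot.of f) := (AdjoinRoot.of f).injective
  haveI : CharP (AdjoinRoot f) p := charP_of_injective_ringHom hof_inj p
  have h4 : (⇑σ)^[4] g ≠ g := by
    intro h4
    -- the Frobenius power fixes the root
    have hφ : ∀ x : AdjoinRoot f, iterateFrobenius (AdjoinRoot f) p i x = x ^ p ^ i := iterateFrobenius_def p i
    have hof' : ∀ k, iterateFrobenius (AdjoinRoot f) p i (AdjoinRoot.of f k) = AdjoinRoot.of f (σ k) := fun k => by
      rw [hφ, ← map_pow, ← hσk]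
    set φ := iterateFrobenius (AdjoinRoot f) p i
    have hθ : θ * θ - AdjoinRoot.of f e * θ + AdjoinRoot.of f n = 0 := by
      have := (congrArg (Polynomial.eval₂ (AdjoinRoot.of f) θ) hf).symm.trans (AdjoinRoot.eval₂_root f)
      rw [eval₂_add, eval₂_sub, eval₂_X_pow, eval₂_mul, eval₂_C, eval₂_C, eval₂_X, sq] at this
      exact this
    have hθ1 := congrArg φ hθ
    rw [map_add, map_sub, map_mul, map_mul, hof', hof', hef, hnf, map_zero] at hθ1
    have hθ2 : φ (φ θ) = θ := by
      have : (φ θ - θ) * (φ θ - (AdjoinRoot.of f e - θ)) = 0 := by linear_combination hθ1 - hθ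
      rcases mul_eq_zero.mp this with h | h
      · rw [sub_eq_zero.mp h, sub_eq_zero.mp h]
      · rw [sub_eq_zero.mp h, map_sub, hof', hef, sub_eq_zero.mp h, sub_sub_cancel]
    have hk4 : ∀ k, σ (σ (σ (σ k))) = k := fun k =>
      all_of_gen hgen (τ := σ.comp (σ.comp (σ.comp σ))) (τ' := RingHom.id K) h4 k
    have hall : ∀ x : AdjoinRoot f, φ (φ (φ (φ x))) = x := fun x => by
      induction x using AdjoinRoot.induction_on with
      | _ P =>
        induction P using Polynomial.induction_on' with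
        | add P Q hP hQ => simp only [map_add, hP, hQ]
        | monomial m k =>
          rw [← C_mul_X_pow_eq_monomial, map_mul, map_pow, AdjoinRoot.mk_C, AdjoinRoot.mk_X]
          simp only [map_mul, map_pow, hof', hk4, hθ2, show φ (φ (AdjoinRoot.root f)) = AdjoinRoot.root f from hθ2]
    have hall' : ∀ x : AdjoinRoot f, x ^ p ^ (4 * i) = x := fun x => by
      conv_rhs => rw [← hall x, hφ, hφ, hφ, hφ, ← pow_mul, ← pow_mul, ← pow_mul, ← pow_add, ← pow_add, ← pow_add]
      congr 2; omega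
    have hper : ∀ x : AdjoinRoot f, x ^ p ^ (2 * d) = x := fun x => by
      haveI := Fintype.ofFinite (AdjoinRoot f)
      have := FiniteField.pow_card x
      rwa [← Nat.card_eq_fintype_card, hK'card, hd, ← pow_mul, mul_comm d 2] at this
    have hdvd : 2 * d ∣ 4 * i := by
      have key : ∀ x : AdjoinRoot f, x ^ p ^ (4 * i % (2 * d)) = x := fun x => by
        conv_rhs => rw [← hall' x, ← Nat.mod_add_div (4 * i) (2 * d), pow_add, pow_mul]
        have : ∀ (m : ℕ) (z : AdjoinRoot f), z ^ p ^ (2 * d * m) = z := fun m z => by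
          induction m with
          | zero => simp
          | succ m ih => rw [Nat.mul_succ, pow_add, pow_mul, ih, hper]
        rw [this]
      rcases Nat.eq_zero_or_pos (4 * i % (2 * d)) with h | h
      · exact Nat.dvd_of_mod_eq_zero h
      · exfalso
        have hle := card_le_of_pow_eq (Nat.one_lt_pow h.ne' hp1) key
        rw [hK'card, hd, ← pow_mul] at hle
        have := (Nat.pow_le_pow_iff_right hp1).mp hle
        have := Nat.mod_lt (4 * i) (show 2 * d > 0 by omega)
        omega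
    obtain ⟨m, hm⟩ : d ∣ 2 * i := by
      obtain ⟨m, hm⟩ := hdvd; exact ⟨m, by linarith⟩
    refine h2 ?_
    show (⇑σ)^[2] g = g
    rw [hσm, mul_comm i 2, hm, pow_mul, ← hdd, FiniteField.pow_card_pow]
  letI : Module (AdjoinRoot f) U := Module.compHom U ι'
  have semi' : ∀ {z : E} {m : ℕ}, Semi (ι := ι) σ m z → z * a = a * z → Semi (ι := ι') σ' m z :=
    fun hz hza => lift_semi ι' hof hroot' σ σ' hσ'of hσ'r hz hza
  have su2 := semi' su hau.symm
  have su2' := semi' su' ha'u'.symm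
  have hθ0 : θ ≠ 0 := by
    intro h
    have ha00 : a = 0 := by rw [← hroot', h, map_zero]
    rw [ha00, mul_zero] at ha'a
    exact hn0 (ι.injective (by rw [map_zero, ← ha'a]))
  obtain ⟨κ, hκ, v, hv, huv⟩ := eigvec σ' u (AdjoinRoot.of f g) r hr0
    (fun j hj hjr e' => hsep j hj hjr (hof_inj (by rw [← hσ'm, e']))) hσ'id (fun ξ x => DFunLike.congr_fun (su2 ξ) x)
    hθ0 hσ'r hv₀ ((DFunLike.congr_fun ha v₀ |>.trans (congrFun (AddMonoid.End.coe_pow (M := U) u r) v₀)).symm.trans
      (by show a v₀ = ι' θ v₀; rw [hroot']))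
  have hne' : (⇑σ')^[r - 1] κ ≠ 0 := fun h => hκ (by
    rw [← hσ'id κ, show r = 1 + (r - 1) by omega, Function.iterate_add_apply, h]; exact map_zero σ')
  obtain ⟨η, hηdef⟩ : ∃ z, z = ((⇑σ')^[r - 1] κ)⁻¹ * AdjoinRoot.of f c' := ⟨_, rfl⟩
  have huv' : u v = ι' κ v := huv
  have hη : u' v = ι' η v := by
    have h1 : ι' ((⇑σ')^[r - 1] κ) (u' v) = ι' (AdjoinRoot.of f c') v := by
      have e1 : (ι' ((⇑σ')^[r - 1] κ) * u') v = (u' * ι' κ) v := by rw [su2']
      have e2 : (u' * u) v = ι' (AdjoinRoot.of f c') v := by rw [hc', hof]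
      exact e1.trans ((congrArg u' huv'.symm).trans e2)
    rw [hηdef]
    rw [map_mul]
    show u' v = ι' _ (ι' _ v)
    rw [← h1]
    show u' v = (ι' ((⇑σ')^[r - 1] κ)⁻¹ * ι' ((⇑σ')^[r - 1] κ)) (u' v)
    rw [← map_mul, inv_mul_cancel₀ hne', map_one]; rfl
  have hu2v : (u * u) v = ι' (σ' κ * κ) v := by
    have e1 : (u * ι' κ) v = (ι' (σ' κ) * u) v := by rw [su2 κ]; rfl
    have e2 : ι' (σ' κ) (u v) = ι' (σ' κ) (ι' κ v) := by rw [huv']
    rw [map_mul]
    exact (congrArg u huv').trans (e1.trans e2)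
  have hu'2v : (u' * u') v = ι' ((⇑σ')^[r - 1] η * η) v := by
    have e1 : (u' * ι' η) v = (ι' ((⇑σ')^[r - 1] η) * u') v := by rw [su2' η]
    have e2 : ι' ((⇑σ')^[r - 1] η) (u' v) = ι' ((⇑σ')^[r - 1] η) (ι' η v) := by rw [hη]
    rw [map_mul]
    exact (congrArg u' hη).trans (e1.trans e2)
  have hmul1 : ∀ l, ι l * u + u' * ι l ∈ S := multipliers (p := p) hgen hJ hιS h2 hu hu' (hyu.symm ▸ hy)
  have hmul2 : ∀ l, ι l * (u * u) + u' * u' * ι l ∈ S :=
    multipliers (p := p) hgen hJ hιS (τ := σ.comp σ) h4 (fun k => suu k)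
      (fun k => by
        show u' * u' * ι (σ (σ k)) = _
        rw [mul_assoc, hu', ← mul_assoc, hu', mul_assoc]) (hz2 ▸ hz2S)
  let T : K × K × K →+ E :=
    { toFun := fun t => ι t.1 + (ι t.2.1 * u + u' * ι t.2.1) + (ι t.2.2 * (u * u) + u' * u' * ι t.2.2)
      map_zero' := by simp
      map_add' := fun s t => by simp only [Prod.fst_add, Prod.snd_add, map_add, add_mul, mul_add]; abel }
  let Θ : K × K × K → AdjoinRoot f := fun t =>
    AdjoinRoot.of f t.1 + (AdjoinRoot.of f t.2.1 * κ + (⇑σ')^[r - 1] (AdjoinRoot.of f t.2.1) * η)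
      + (AdjoinRoot.of f t.2.2 * (σ' κ * κ) + (⇑σ')^[r - 1 + (r - 1)] (AdjoinRoot.of f t.2.2) * ((⇑σ')^[r - 1] η * η))
  have hTΘ : ∀ t, T t v = ι' (Θ t) v := by
    intro t
    simp only [T, Θ, hσ'm, map_add, map_mul ι', hof, AddMonoidHom.coe_mk, ZeroHom.coe_mk, hu'k t.2.1, suu' t.2.2]
    show ι t.1 v + (ι _ (u v) + ι _ (u' v)) + (ι _ ((u * u) v) + ι _ ((u' * u') v)) = _
    rw [huv', hη, hu2v, hu'2v, map_mul ι', map_mul ι']
    rfl
  have hcard : Nat.card (AdjoinRoot f) < Nat.card (K × K × K) := by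
    rw [hK'card, Nat.card_prod, Nat.card_prod, sq, ← mul_assoc]
    have := Finite.one_lt_card (α := K)
    exact lt_mul_of_one_lt_right (by positivity) this
  obtain ⟨t, t', htne, htt⟩ : ∃ t t', t ≠ t' ∧ Θ t = Θ t' := by
    by_contra hno
    push Not at hno
    exact absurd (Nat.card_le_card_of_injective Θ fun t t' e => by_contra fun hne => hno t t' hne e) (not_le.mpr hcard)
  obtain ⟨⟨k, l, m⟩, hT0, hne⟩ : ∃ s, T s = 0 ∧ s ≠ 0 := by
    refine ⟨t - t', ?_, sub_ne_zero.mpr htne⟩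
    have hS : T (t - t') ∈ S := by
      exact S.add_mem (S.add_mem (hιS _) (hmul1 _)) (hmul2 _)
    have h0 : T (t - t') v = 0 := by
      rw [map_sub]
      show T t v - T t' v = 0
      rw [hTΘ, hTΘ, htt, sub_self]
    exact by_contra fun h => hv (hJ.inj _ hS h v h0)
  simp only [T, AddMonoidHom.coe_mk, ZeroHom.coe_mk] at hT0
  rw [hu'k l, suu' m] at hT0
  -- separate the eigenspaces
  set s : ℕ → K := fun j => (⇑σ)^[j] g with hsdef
  have hk0' : Semi (ι := ι) σ 0 (ι k) := fun b => by rw [← map_mul, ← map_mul, mul_comm]; rfl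
  have hsemi : ∀ {z : E} {j : ℕ} (b : K), Semi (ι := ι) σ j z → (ι b * z) * ι g = ι (s j) * (ι b * z) := fun b hz => by
    rw [mul_assoc, hz g, ← mul_assoc, ← map_mul, mul_comm b, map_mul, mul_assoc]
  have hPsum : ∀ P : K[X], ι (P.eval g) * ι k + (ι (P.eval (s 1)) * (ι l * u) + ι (P.eval (s (r - 1))) * (ι ((⇑σ)^[r - 1] l) * u'))
      + (ι (P.eval (s 2)) * (ι m * (u * u))
        + ι (P.eval (s (r - 1 + (r - 1)))) * (ι ((⇑σ)^[r - 1 + (r - 1)] m) * (u' * u'))) = 0 := fun P => by
    rw [← Ψ_eig ι g (show ι k * ι g = ι g * ι k by rw [← map_mul, ← map_mul, mul_comm]), ← Ψ_eig ι g (hsemi l su), ← Ψ_eig ι g (hsemi _ su'), ← Ψ_eig ι g (hsemi m suu),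
      ← Ψ_eig ι g (hsemi _ suu'), ← map_add, ← map_add, ← map_add, ← map_add, hT0, map_zero]
  have hs : ∀ j j', j ≤ j' → s j' = s j → r ∣ j' - j := fun j j' hjj e => by
    refine hsep' _ ?_
    have e2 : (⇑σ)^[j] ((⇑σ)^[j' - j] g) = (⇑σ)^[j] g := by
      rw [← Function.iterate_add_apply, show j + (j' - j) = j' by omega]; exact e
    exact (σ.injective.iterate j) e2
  have hs1 : s 1 ≠ g := hσg
  have hs2 : s 2 ≠ g := h2
  have hs1' : s 1 ≠ s (r - 1) := fun e => by
    have := Nat.le_of_dvd (by omega) (hs 1 (r - 1) (by omega) e.symm); omega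
  have hs12 : s 1 ≠ s 2 := fun e => by
    have := Nat.le_of_dvd (by omega) (hs 1 2 (by omega) e.symm); omega
  have hm : m = 0 → False := by
    rintro rfl
    have h := hPsum ((X - C g) * (X - C (s (r - 1))))
    simp only [eval_mul, eval_sub, eval_X, eval_C, sub_self, zero_mul, mul_zero, map_zero, add_zero, zero_add,
      iterate_map_zero] at h
    have hl : l = 0 := by
      have h' := mul_left_eq_zero ι (mul_ne_zero (sub_ne_zero.mpr hs1) (sub_ne_zero.mpr hs1')) h
      by_contra hl0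
      exact hu0 (mul_left_eq_zero ι hl0 h')
    subst hl
    have hk : k = 0 := ι.injective (by simpa using hT0)
    exact hne (by rw [hk]; rfl)
  by_cases h3 : s 1 = s (r - 1 + (r - 1))
  · -- three eigenspaces
    have hr3' : r = 3 := by
      have h1 : r ∣ 3 := by
        have ha1 := hs 1 (r - 1 + (r - 1)) (by omega) h3.symm
        have ha2 : r ∣ r - 1 + (r - 1) - 1 + 3 := by
          rw [show r - 1 + (r - 1) - 1 + 3 = 2 * r by omega]; exact Dvd.intro_left 2 rfl
        exact (Nat.dvd_add_right ha1).mp ha2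
      have := Nat.le_of_dvd (by omega) h1
      omega
    have h := hPsum ((X - C g) * (X - C (s 2)))
    rw [← h3] at h
    simp only [hr3', show 3 - 1 = 2 from rfl, eval_mul, eval_sub, eval_X, eval_C, sub_self, zero_mul, mul_zero,
      map_zero, zero_mul, add_zero, zero_add, ← mul_add] at h
    have h' := mul_left_eq_zero ι (mul_ne_zero (sub_ne_zero.mpr hs1) (sub_ne_zero.mpr hs12)) h
    have h22 : u' * u' * (u * u) = ι ((⇑σ)^[r - 1] c' * c') := by
      rw [mul_assoc, ← mul_assoc u' u, hc', ← mul_assoc, hu'k, mul_assoc, hc', map_mul]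
    have hd0 : (⇑σ)^[r - 1] c' * c' ≠ 0 := by
      have hc'0 : c' ≠ 0 := fun h => hc0 (by rw [← hcc, h, map_zero])
      exact mul_ne_zero (by rw [hσm]; exact pow_ne_zero _ hc'0) hc'0
    have h5 : ι l * a + ι ((⇑σ)^[4] m * ((⇑σ)^[r - 1] c' * c')) = 0 := by
      rw [map_mul, ← h22, ha, hr3', pow_succ u 2, sq, mul_assoc u u u, ← mul_assoc (ι l), ← mul_assoc (ι ((⇑σ)^[4] m)),
        ← add_mul, h', zero_mul]
    by_cases hl : l = 0
    · subst hl
      refine hm ?_
      rw [map_zero, zero_mul, zero_add, ← map_zero ι] at h5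
      rcases mul_eq_zero.mp (ι.injective h5) with h6 | h6
      · rw [hσm] at h6; exact (pow_eq_zero_iff (pow_ne_zero _ (by omega))).mp h6
      · exact absurd h6 hd0
    · have hae : a = ι (-(l⁻¹ * ((⇑σ)^[4] m * ((⇑σ)^[r - 1] c' * c')))) := by
        rw [map_neg, map_mul, eq_neg_iff_add_eq_zero]
        conv_lhs => rw [show a = ι l⁻¹ * (ι l * a) by rw [← mul_assoc, ← map_mul, inv_mul_cancel₀ hl, map_one, one_mul]]
        rw [← mul_add, h5, mul_zero]
      refine hrootK ⟨-(l⁻¹ * ((⇑σ)^[4] m * ((⇑σ)^[r - 1] c' * c'))), ι.injective ?_⟩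
      rw [map_zero, map_add, map_sub, map_mul, map_mul, ← hae, hq]
  · refine hm ?_
    have h := hPsum ((X - C g) * (X - C (s (r - 1))) * (X - C (s 1)) * (X - C (s (r - 1 + (r - 1)))))
    simp only [eval_mul, eval_sub, eval_X, eval_C, sub_self, zero_mul, mul_zero, map_zero, add_zero, zero_add] at h
    have hs2' : s 2 ≠ s (r - 1) := fun e => by
      have h1 := hs 2 (r - 1) (by omega) e.symm
      have h2' : r ∣ r - 1 - 2 + 3 := by rw [show r - 1 - 2 + 3 = r by omega]
      have h3' : r = 3 := by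
        have := Nat.le_of_dvd (by omega) ((Nat.dvd_add_right h1).mp h2'); omega
      exact h3 (by rw [h3']; show _ = (⇑σ)^[2 + 2] g; rw [hmod 4, h3'])
    have hs22 : s 2 ≠ s (r - 1 + (r - 1)) := fun e => by
      refine h4 ?_
      show (⇑σ)^[2 + 2] g = g
      rw [Function.iterate_add_apply]
      show (⇑σ)^[2] (s 2) = g
      rw [e]
      show (⇑σ)^[2] ((⇑σ)^[r - 1 + (r - 1)] g) = g
      rw [← Function.iterate_add_apply, show 2 + (r - 1 + (r - 1)) = r * 2 + 0 by omega, iterate_period hσr]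
      rfl
    have h' := mul_left_eq_zero ι (mul_ne_zero (mul_ne_zero (mul_ne_zero (sub_ne_zero.mpr hs2) (sub_ne_zero.mpr hs2'))
      (sub_ne_zero.mpr hs12.symm)) (sub_ne_zero.mpr hs22)) h
    by_contra hm0
    exact hu2 (mul_left_eq_zero ι hm0 h')

end Main

/-- A unital Jordan set of injective endomorphisms is commutative. -/
theorem comm_of_jordan [Nontrivial U] (hJ : Jordan S) :
    ∀ x ∈ S, ∀ y ∈ S, x * y = y * x := by
  classical
  obtain ⟨p, hp, hp0⟩ := hJ.exists_prime
  haveI : Fact p.Prime := ⟨hp⟩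
  haveI : Finite (AddMonoid.End U) := Finite.of_injective (fun f : AddMonoid.End U => (f : U → U)) DFunLike.coe_injective
  have hsqrt : ∀ a ∈ S, ∀ b ∈ S, Commute a b → a * b ∈ S := by
    intro a ha b hb hab
    rcases hp.eq_two_or_odd' with rfl | hodd
    · by_cases hb0 : b = 0
      · rw [hb0, mul_zero]; exact S.zero_mem
      have hinj : Function.Injective b := (injective_iff_map_eq_zero b).mpr (hJ.inj b hb hb0)
      have hu : IsUnit b := by
        obtain ⟨k, hk, hk1⟩ : ∃ k, 0 < k ∧ b ^ k = 1 := by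
          obtain ⟨i, j, hij, e⟩ := Finite.exists_ne_map_eq_of_infinite (fun n : ℕ => b ^ n)
          wlog hlt : i < j generalizing i j
          · exact this j i hij.symm e.symm (lt_of_le_of_ne (not_lt.mp hlt) hij.symm)
          refine ⟨j - i, by omega, AddMonoidHom.ext fun v => ?_⟩
          have h1 : (b ^ i) ((b ^ (j - i)) v) = (b ^ i) v := by
            have := DFunLike.congr_fun e v
            rw [show j = i + (j - i) by omega, pow_add] at this
            exact this.symm
          rw [AddMonoid.End.coe_pow] at h1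
          exact (hinj.iterate i) h1
        exact ⟨⟨b, b ^ (k - 1), by rw [← pow_succ', show k - 1 + 1 = k by omega, hk1],
          by rw [← pow_succ, show k - 1 + 1 = k by omega, hk1]⟩, rfl⟩
      -- `b` is a square of one of its powers
      obtain ⟨m, hm1, hm2⟩ : ∃ m, 0 < m ∧ b ^ m = 1 := by
        obtain ⟨ub, rfl⟩ := hu
        exact ⟨orderOf ub, orderOf_pos ub, by rw [← Units.val_pow_eq_pow_val, pow_orderOf_eq_one, Units.val_one]⟩
      obtain ⟨m', hm'odd, hm'⟩ : ∃ m', Odd m' ∧ b ^ m' = 1 := by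
        refine ⟨orderOf b, ?_, pow_orderOf_eq_one b⟩
        by_contra hev
        rw [Nat.not_odd_iff_even] at hev
        obtain ⟨h, hh⟩ := hev
        have hpos : 0 < orderOf b := orderOf_pos_iff.mpr (isOfFinOrder_iff_pow_eq_one.mpr ⟨m, hm1, hm2⟩)
        have e2 : (2 : AddMonoid.End U) = 0 := hp0
        have hz : (b ^ h - 1) * (b ^ h - 1) = 0 := by
          have e1 : b ^ h * b ^ h = 1 := by rw [← pow_add, ← hh, pow_orderOf_eq_one]
          calc (b ^ h - 1) * (b ^ h - 1) = b ^ h * b ^ h + 1 - 2 * b ^ h := by noncomm_ring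
            _ = 0 := by rw [e1, e2, zero_mul, sub_zero, one_add_one_eq_two, e2]
        have hne : b ^ h - 1 ≠ 0 := fun e => pow_ne_one_of_lt_orderOf (by omega) (by omega) (sub_eq_zero.mp e)
        obtain ⟨v, hv⟩ := exists_ne (0 : U)
        have hinj' := hJ.inj _ (S.sub_mem (hJ.pow_mem hb h) hJ.one) hne
        exact hv (hinj' _ (hinj' _ (DFunLike.congr_fun hz v)))
      obtain ⟨h, hh⟩ := hm'odd
      have hc : Commute a (b ^ (h + 1)) := hab.pow_right _
      have e : a * b = b ^ (h + 1) * a * b ^ (h + 1) := by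
        rw [← hc.eq, mul_assoc, ← pow_add, show h + 1 + (h + 1) = 2 * h + 1 + 1 by omega, pow_succ, ← hh, hm', one_mul]
      rw [e]; exact hJ.tri _ (hJ.pow_mem hb _) a ha
    · obtain ⟨h, hh⟩ := hodd
      have h1 := S.nsmul_mem (hJ.symm_mul ha hb) (h + 1)
      rwa [← hab.eq, ← two_nsmul, ← mul_nsmul', show (h + 1) * 2 = p + 1 by omega, succ_nsmul,
        nsmul_eq_mul, hp0, zero_mul, zero_add] at h1
  -- a maximal commutative subring inside `S`
  have hclosure : ∀ s : Set (AddMonoid.End U), s ⊆ (S : Set (AddMonoid.End U)) → (∀ a ∈ s, ∀ b ∈ s, a * b = b * a) →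
      ∀ z ∈ Subring.closure s, z ∈ S ∧ ∀ w ∈ Subring.closure s, z * w = w * z := by
    intro s hs hcomm
    have hcommcl : ∀ a ∈ Subring.closure s, ∀ b ∈ Subring.closure s, a * b = b * a := fun a ha b hb => by
      letI := Subring.closureCommRingOfComm (s := s) hcomm
      exact congrArg Subtype.val (mul_comm (⟨a, ha⟩ : Subring.closure s) ⟨b, hb⟩)
    have hmon : ∀ z ∈ Submonoid.closure s, z ∈ S ∧ z ∈ Subring.closure s := by
      intro z hz
      induction hz using Submonoid.closure_induction with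
      | mem z hz => exact ⟨hs hz, Subring.subset_closure hz⟩
      | one => exact ⟨hJ.one, one_mem _⟩
      | mul a b _ _ iha ihb => exact ⟨hsqrt a iha.1 b ihb.1 (hcommcl a iha.2 b ihb.2), mul_mem iha.2 ihb.2⟩
    intro z hz
    refine ⟨?_, hcommcl z hz⟩
    rw [Subring.mem_closure_iff] at hz
    exact (AddSubgroup.closure_le S).mpr (fun w hw => (hmon w hw).1) hz
  let 𝒦 : Set (Subring (AddMonoid.End U)) := {K | (∀ z ∈ K, z ∈ S) ∧ ∀ z ∈ K, ∀ w ∈ K, z * w = w * z}
  obtain ⟨K, hKmem, hKmax⟩ := (Set.toFinite 𝒦).exists_maximal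
    ⟨Subring.closure ∅, fun z hz => (hclosure ∅ (Set.empty_subset _) (by simp) z hz).1,
      fun z hz => (hclosure ∅ (Set.empty_subset _) (by simp) z hz).2⟩
  obtain ⟨hKS, hKc⟩ := hKmem
  letI : CommRing K := { (inferInstance : Ring K) with mul_comm := fun a b => Subtype.ext (hKc a a.2 b b.2) }
  haveI : Nontrivial (AddMonoid.End U) := ⟨⟨1, 0, fun e => by
    obtain ⟨v, hv⟩ := exists_ne (0 : U); exact hv (DFunLike.congr_fun e v)⟩⟩
  haveI : NoZeroDivisors K := ⟨fun {a b} hab => by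
    by_contra h
    push Not at h
    obtain ⟨v, hv⟩ := exists_ne (0 : U)
    have ha := hJ.inj a (hKS a a.2) (fun e => h.1 (Subtype.ext e))
    have hb := hJ.inj b (hKS b b.2) (fun e => h.2 (Subtype.ext e))
    exact hv (hb _ (ha _ (DFunLike.congr_fun (congrArg Subtype.val hab) v)))⟩
  haveI : IsDomain K := NoZeroDivisors.to_isDomain K
  haveI := Fintype.ofFinite K
  letI : Field K := Fintype.fieldOfDomain K
  haveI : CharP K p := (CharP.charP_iff_prime_eq_zero hp).mpr (Subtype.ext (by simpa using hp0))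
  obtain ⟨gu, hgu⟩ := IsCyclic.exists_generator (α := Kˣ)
  have hgen : ∀ k : K, k ≠ 0 → ∃ n : ℕ, (gu : K) ^ n = k := fun k hk => by
    obtain ⟨n, hn⟩ := mem_powers_iff_mem_zpowers.mpr (hgu (Units.mk0 k hk))
    exact ⟨n, by rw [← Units.val_pow_eq_pow_val]; exact congrArg Units.val hn⟩
  have hmax : ∀ z ∈ S, z * K.subtype gu = K.subtype gu * z → ∃ k, K.subtype k = z := by
    intro z hz hcomm
    have hcK : ∀ w ∈ K, z * w = w * z := fun w hw => by
      rcases eq_or_ne (⟨w, hw⟩ : K) 0 with h | h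
      · rw [show w = 0 from congrArg Subtype.val h, mul_zero, zero_mul]
      · obtain ⟨n, hn⟩ := hgen _ h
        rw [show w = K.subtype (gu : K) ^ n by rw [← map_pow, hn]; rfl]
        exact (show Commute z (K.subtype (gu : K)) from hcomm).pow_right n
    have hs : ∀ a ∈ insert z (K : Set (AddMonoid.End U)), ∀ b ∈ insert z (K : Set (AddMonoid.End U)), a * b = b * a := by
      rintro a (rfl | ha) b (rfl | hb)
      · rfl
      · exact hcK b hb
      · exact (hcK a ha).symm
      · exact hKc a ha b hb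
    have hsub : insert z (K : Set (AddMonoid.End U)) ⊆ S := Set.insert_subset hz hKS
    have hle := hKmax (show Subring.closure (insert z (K : Set (AddMonoid.End U))) ∈ 𝒦 from
      ⟨fun w hw => (hclosure _ hsub hs w hw).1, fun w hw => (hclosure _ hsub hs w hw).2⟩)
      (fun w hw => Subring.subset_closure (Set.mem_insert_of_mem z hw))
    exact ⟨⟨z, hle (Subring.subset_closure (Set.mem_insert z _))⟩, rfl⟩
  have hall : ∀ z ∈ S, z ∈ K := fun z hz => by
    obtain ⟨k, rfl⟩ := hmax z hz (no_outside (p := p) hgen hJ (fun k => hKS k k.2) hmax hz)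
    exact k.2
  exact fun x hx y hy => hKc x (hall x hx) y (hall y hy)

end CfsgLib.JordanDiv
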