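import Cfsg.Agent.Lib.AbelianOffender
import Cfsg.Agent.Lib.JordanDivision

/-!
Recognition of `SL₂(q)` on a module from a quadratic offender whose conjugates outside a maximal
subgroup generate.
-/

set_option autoImplicit false
set_option linter.unusedVariables false
set_option linter.unusedSectionVars false

namespace CfsgLib.SL2Pair

open CfsgLib CfsgLib.Local CfsgLib.AbelianOffender
open scoped commutatorElement

/-- An offender strictly better than its proper nontrivial subgroups. -/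
structure Offender {G : Type*} [Group G] (p : ℕ) (W B : Subgroup G) : Prop where
  pgrp : IsPGroup p B
  comm : ∀ a ∈ B, ∀ b ∈ B, a * b = b * a
  norm : B ≤ Subgroup.normalizer (W : Set G)
  wcomm : ∀ v ∈ W, ∀ w ∈ W, v * w = w * v
  wp : IsPGroup p W
  big : Nat.card W ≤ Nat.card B * Nat.card ↥(W ⊓ Subgroup.centralizer (B : Set G))
  minimal : ∀ B₁ : Subgroup G, B₁ ≤ B → B₁ ≠ ⊥ → B₁ ≠ B →
    Nat.card B₁ * Nat.card ↥(W ⊓ Subgroup.centralizer (B₁ : Set G)) <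
      Nat.card B * Nat.card ↥(W ⊓ Subgroup.centralizer (B : Set G))

section Quad

variable {G : Type*} [Group G] [Finite G] {p : ℕ} [Fact p.Prime] {W B : Subgroup G}

/-- Such an offender is quadratic. -/
theorem quad_of_strict (h : Offender p W B) {v : G} (hv : v ∈ W) {b c : G} (hb : b ∈ B) (hc : c ∈ B) :
    c * (b * v * b⁻¹ * v⁻¹) * c⁻¹ = b * v * b⁻¹ * v⁻¹ := by
  set F := W ⊓ Subgroup.centralizer (B : Set G) with hF
  set K := Subgroup.closure {w | ∃ a ∈ B, w = a * v * a⁻¹ * v⁻¹} with hK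
  have hmem : ∀ a ∈ B, a * v * a⁻¹ * v⁻¹ ∈ W := fun a ha =>
    W.mul_mem ((Subgroup.mem_normalizer_iff.1 (h.norm ha) v).1 hv) (W.inv_mem hv)
  have hKW : K ≤ W := (Subgroup.closure_le _).2 (by rintro _ ⟨a, ha, rfl⟩; exact hmem a ha)
  have hgen : ∀ a ∈ B, a * v * a⁻¹ * v⁻¹ ∈ K := fun a ha => Subgroup.subset_closure ⟨a, ha, rfl⟩
  set B' := B ⊓ Subgroup.centralizer (K : Set G) with hB'
  by_cases hBB : B' = B
  · have hk := (show c ∈ B' from hBB ▸ hc).2 _ (hgen b hb)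
    rw [← hk, mul_inv_cancel_right]
  exfalso
  have hB'lt : B' < B := lt_of_le_of_ne inf_le_left hBB
  set E := F ⊔ K with hE
  have hEW : E ≤ W := sup_le inf_le_left hKW
  have hEfix : E ≤ W ⊓ Subgroup.centralizer (B' : Set G) := by
    refine le_inf hEW (sup_le (fun x hx y hy => hx.2 y hy.1) fun x hx y hy => (hy.2 x hx).symm)
  -- `a ↦ [a, v]` separates the cosets of `B'`
  have hcount : Nat.card B * Nat.card F ≤ Nat.card B' * Nat.card E := by
    let f : B ⧸ B'.subgroupOf B → E ⧸ F.subgroupOf E := fun q =>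
      QuotientGroup.mk ⟨(q.out : G) * v * (q.out : G)⁻¹ * v⁻¹, Subgroup.mem_sup_right (hgen _ q.out.2)⟩
    have hinj : Function.Injective f := by
      intro q q' e
      have hm : ((q.out : G) * v * (q.out : G)⁻¹ * v⁻¹)⁻¹ * ((q'.out : G) * v * (q'.out : G)⁻¹ * v⁻¹) ∈ F :=
        Subgroup.mem_subgroupOf.1 (QuotientGroup.eq.1 (show QuotientGroup.mk _ = QuotientGroup.mk _ from e))
      rw [← q.out_eq, ← q'.out_eq]
      refine QuotientGroup.eq.2 ?_
      show ((q.out : G))⁻¹ * (q'.out : G) ∈ B'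
      generalize hu : (q.out : G) = u at hm
      generalize hw : (q'.out : G) = w at hm
      have huB : u ∈ B := hu ▸ q.out.2
      have hwB : w ∈ B := hw ▸ q'.out.2
      set x := u⁻¹ * w
      have hxB : x ∈ B := B.mul_mem (B.inv_mem huB) hwB
      set c₀ := (u * v * u⁻¹ * v⁻¹)⁻¹ * (w * v * w⁻¹ * v⁻¹) with hc₀
      have hc₀W : c₀ ∈ W := hm.1
      have hwv : w * v * w⁻¹ = u * v * u⁻¹ * c₀ := by
        calc w * v * w⁻¹ = (u * v * u⁻¹) * (v⁻¹ * c₀) * v := by rw [hc₀]; group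
          _ = (u * v * u⁻¹) * (c₀ * v⁻¹) * v := by rw [h.wcomm _ (W.inv_mem hv) _ hc₀W]
          _ = _ := by group
      have hxv : x * v * x⁻¹ = v * c₀ := by
        have hu0 : u⁻¹ * c₀ * u = c₀ := by
          rw [mul_assoc, ← hm.2 u huB, inv_mul_cancel_left]
        calc x * v * x⁻¹ = u⁻¹ * (w * v * w⁻¹) * u := by simp only [x]; group
          _ = u⁻¹ * (u * v * u⁻¹ * c₀) * u := by rw [hwv]
          _ = v * (u⁻¹ * c₀ * u) := by group
          _ = v * c₀ := by rw [hu0]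
      refine ⟨hxB, ?_⟩
      suffices K ≤ Subgroup.centralizer ({x} : Set G) from
        fun k hk => Subgroup.mem_centralizer_singleton_iff.1 (this hk)
      refine (Subgroup.closure_le _).2 ?_
      rintro _ ⟨d, hd, rfl⟩
      refine Subgroup.mem_centralizer_singleton_iff.2 ?_
      have e1 : x * (d * v * d⁻¹ * v⁻¹) * x⁻¹ = d * v * d⁻¹ * v⁻¹ := by
        have hxd : x * d = d * x := h.comm x hxB d hd
        calc x * (d * v * d⁻¹ * v⁻¹) * x⁻¹ = (x * d) * v * (x * d)⁻¹ * (x * v * x⁻¹)⁻¹ := by group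
          _ = (d * x) * v * (d * x)⁻¹ * (v * c₀)⁻¹ := by rw [hxd, hxv]
          _ = d * (x * v * x⁻¹) * d⁻¹ * (v * c₀)⁻¹ := by group
          _ = d * v * (c₀ * d⁻¹) * c₀⁻¹ * v⁻¹ := by rw [hxv]; group
          _ = d * v * (d⁻¹ * c₀) * c₀⁻¹ * v⁻¹ := by rw [hm.2 d⁻¹ (B.inv_mem hd)]
          _ = _ := by group
      calc d * v * d⁻¹ * v⁻¹ * x = x * (d * v * d⁻¹ * v⁻¹) * x⁻¹ * x := by rw [e1]
        _ = _ := by group
    have h1 := Nat.card_le_card_of_injective f hinj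
    have hBidx : Nat.card B' * (B'.subgroupOf B).index = Nat.card B :=
      CfsgLib.Products.card_mul_relIndex_of_le inf_le_left
    have hEidx : Nat.card F * (F.subgroupOf E).index = Nat.card E :=
      CfsgLib.Products.card_mul_relIndex_of_le le_sup_left
    calc Nat.card B * Nat.card F = Nat.card B' * (B'.subgroupOf B).index * Nat.card F := by rw [hBidx]
      _ ≤ Nat.card B' * (F.subgroupOf E).index * Nat.card F :=
          Nat.mul_le_mul_right _ (Nat.mul_le_mul_left _ h1)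
      _ = Nat.card B' * Nat.card E := by rw [← hEidx]; ring
  have hbig := h.big.trans hcount
  by_cases hCB : B' = ⊥
  · rw [hCB, Subgroup.card_bot, one_mul] at hbig
    have hEW' : E = W :=
      Subgroup.eq_of_le_of_card_ge hEW hbig
    -- then `K ≤ [B, K]`
    have hK0 : K = ⊥ := by
      refine eq_bot_of_le_commutator h.pgrp h.wp h.norm hKW ((Subgroup.closure_le _).2 ?_)
      rintro _ ⟨a, ha, rfl⟩
      have hFn : K ≤ Subgroup.normalizer (F : Set G) := fun k hk =>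
        mem_normalizer_of_map_conj_eq (Subgroup.eq_of_le_of_card_ge (map_conj_le fun x hx => by
          rw [h.wcomm k (hKW hk) x hx.1, mul_inv_cancel_right]; exact hx)
          (Subgroup.card_map_of_injective (MulAut.conj k).injective).ge)
      obtain ⟨f, hf, k, hk, hfk⟩ := mem_sup_of_le_normalizer hFn (show v ∈ F ⊔ K by rw [← hE, hEW']; exact hv)
      have hfa : a * f * a⁻¹ = f := by rw [hf.2 a ha, mul_inv_cancel_right]
      have hfk' : f * k = k * f := h.wcomm f hf.1 k (hKW hk)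
      have e : a * v * a⁻¹ * v⁻¹ = ⁅a, k⁆ := by
        rw [← hfk, hfk', commutatorElement_def]
        calc a * (k * f) * a⁻¹ * (k * f)⁻¹ = a * k * a⁻¹ * (a * f * a⁻¹) * f⁻¹ * k⁻¹ := by group
          _ = _ := by rw [hfa]; group
      rw [e]
      exact Subgroup.commutator_mem_commutator ha hk
    refine hBB (le_antisymm inf_le_left fun x hx => ⟨hx, fun k hk => ?_⟩)
    rw [hK0, SetLike.mem_coe, Subgroup.mem_bot] at hk
    simp [hk]
  · have := h.minimal B' hB'lt.le hCB hB'lt.ne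
    have h2 : Nat.card B' * Nat.card E ≤
        Nat.card B' * Nat.card ↥(W ⊓ Subgroup.centralizer (B' : Set G)) :=
      Nat.mul_le_mul_left _ (Subgroup.card_le_of_le hEfix)
    exact absurd (hcount.trans h2) (not_le.mpr this)

end Quad

/-- A section as a module. -/
theorem exists_sectionRep {G : Type*} [Group G] [Finite G] (P Y Z : Subgroup G) (hZY : Z ≤ Y)
    (hYc : ∀ a ∈ Y, ∀ b ∈ Y, a * b = b * a) (hPY : ∀ g ∈ P, ∀ y ∈ Y, g * y * g⁻¹ ∈ Y)
    (hPZ : ∀ g ∈ P, ∀ z ∈ Z, g * z * g⁻¹ ∈ Z) :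
    ∃ (U : Type) (_ : AddCommGroup U) (_ : Finite U) (ρ : ↥P →* AddMonoid.End U) (π : ↥Y → U),
      Function.Surjective π ∧ (∀ a b : ↥Y, π (a * b) = π a + π b) ∧ (∀ a : ↥Y, π a = 0 ↔ (a : G) ∈ Z) ∧
        ∀ (g : ↥P) (y : ↥Y) (h : (g : G) * y * (g : G)⁻¹ ∈ Y), ρ g (π y) = π ⟨_, h⟩ := by
  letI : CommGroup ↥Y := { (inferInstance : Group ↥Y) with mul_comm := fun a b => Subtype.ext (hYc a a.2 b b.2) }
  let Q := ↥Y ⧸ Z.subgroupOf Y
  let e : Additive Q ≃ Shrink.{0} (Additive Q) := equivShrink _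
  letI : AddCommGroup (Shrink.{0} (Additive Q)) := e.symm.addCommGroup
  let eA : Shrink.{0} (Additive Q) ≃+ Additive Q := e.symm.addEquiv
  let π : ↥Y →* Multiplicative (Shrink.{0} (Additive Q)) :=
    { toFun := fun y => Multiplicative.ofAdd (eA.symm (Additive.ofMul (QuotientGroup.mk' (Z.subgroupOf Y) y)))
      map_one' := by simp
      map_mul' := fun a b => by simp only [map_mul, ofMul_mul, map_add, ofAdd_add] }
  have hπs : Function.Surjective π := fun u => by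
    obtain ⟨y, hy⟩ := QuotientGroup.mk'_surjective (Z.subgroupOf Y) (Additive.toMul (eA (Multiplicative.toAdd u)))
    exact ⟨y, by show Multiplicative.ofAdd (eA.symm (Additive.ofMul _)) = u; rw [hy]; simp⟩
  have hker : ∀ y : ↥Y, π y = 1 ↔ (y : G) ∈ Z := fun y => by
    show Multiplicative.ofAdd (eA.symm (Additive.ofMul (QuotientGroup.mk' (Z.subgroupOf Y) y))) = 1 ↔ _
    rw [ofAdd_eq_one, map_eq_zero_iff _ eA.symm.injective, ofMul_eq_zero, QuotientGroup.mk'_apply,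
      QuotientGroup.eq_one_iff, Subgroup.mem_subgroupOf]
  let conj : ↥P → (↥Y →* ↥Y) := fun g =>
    { toFun := fun y => ⟨(g : G) * y * (g : G)⁻¹, hPY g g.2 y y.2⟩
      map_one' := Subtype.ext (by simp)
      map_mul' := fun a b => Subtype.ext (show (g : G) * (a * b : G) * (g : G)⁻¹ = _ * _ by group) }
  have hkle : ∀ g, π.ker ≤ (π.comp (conj g)).ker := fun g y hy => by
    rw [MonoidHom.mem_ker] at hy ⊢
    exact (hker _).mpr (hPZ g g.2 y ((hker y).mp hy))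
  let act : ↥P → (Multiplicative (Shrink.{0} (Additive Q)) →* Multiplicative (Shrink.{0} (Additive Q))) := fun g =>
    π.liftOfSurjective hπs ⟨π.comp (conj g), hkle g⟩
  have hact : ∀ g y, act g (π y) = π (conj g y) := fun g y =>
    MonoidHom.liftOfRightInverse_comp_apply π _ _ ⟨π.comp (conj g), hkle g⟩ y
  have h1 : act 1 = MonoidHom.id _ := MonoidHom.ext fun u => by
    obtain ⟨y, rfl⟩ := hπs u
    rw [hact]; exact congrArg π (Subtype.ext (by show (1 : G) * y * (1 : G)⁻¹ = y; simp))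
  have hmul : ∀ g h, act (g * h) = (act g).comp (act h) := fun g h => MonoidHom.ext fun u => by
    obtain ⟨y, rfl⟩ := hπs u
    rw [MonoidHom.comp_apply, hact, hact, hact]
    exact congrArg π (Subtype.ext (show ((g : G) * h) * y * ((g : G) * h)⁻¹ = g * (h * y * (h : G)⁻¹) * (g : G)⁻¹ by group))
  let ρ : ↥P →* AddMonoid.End (Shrink.{0} (Additive Q)) :=
    { toFun := fun g => MonoidHom.toAdditive.symm.symm (act g)
      map_one' := by rw [h1]; rfl
      map_mul' := fun g h => by rw [hmul]; rfl }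
  refine ⟨Shrink.{0} (Additive Q), inferInstance, Finite.of_equiv _ e, ρ, fun y => Multiplicative.toAdd (π y),
    fun u => (hπs (Multiplicative.ofAdd u)).imp fun y hy => congrArg Multiplicative.toAdd hy,
    fun a b => congrArg Multiplicative.toAdd (map_mul π a b),
    fun a => (by rw [← hker a]; exact toAdd_eq_zero), fun g y h => ?_⟩
  exact congrArg Multiplicative.toAdd (hact g y)

section Module

variable {U : Type*} [AddCommGroup U] [Finite U] [Nontrivial U] {P : Type*} [Group P] [Finite P]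
  (ρ : P →* AddMonoid.End U) (A M : Subgroup P)

/-- The fixed points of `A`. -/
def fix : AddSubgroup U where
  carrier := {v | ∀ a ∈ A, ρ a v = v}
  zero_mem' _ _ := map_zero _
  add_mem' hu hv a ha := by rw [map_add, hu a ha, hv a ha]
  neg_mem' hu a ha := by rw [map_neg, hu a ha]

theorem mem_fix {v : U} : v ∈ fix ρ A ↔ ∀ a ∈ A, ρ a v = v := Iff.rfl

theorem ρ_cancel (g : P) (v : U) : ρ g (ρ g⁻¹ v) = v := by
  show (ρ g * ρ g⁻¹) v = v
  rw [← map_mul, mul_inv_cancel, map_one]; rfl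

theorem ρ_cancel' (g : P) (v : U) : ρ g⁻¹ (ρ g v) = v := by
  show (ρ g⁻¹ * ρ g) v = v
  rw [← map_mul, inv_mul_cancel, map_one]; rfl

theorem ρ_inj (g : P) : Function.Injective (ρ g) := fun u v h => by
  rw [← ρ_cancel' ρ g u, h, ρ_cancel' ρ g v]

/-- The elements fixing a vector. -/
def stab (v : U) : Subgroup P where
  carrier := {g | ρ g v = v}
  one_mem' := by rw [Set.mem_ofPred_eq, map_one]; rfl
  mul_mem' {g h} hg hh := by
    show ρ (g * h) v = v
    rw [map_mul]; show ρ g (ρ h v) = v; rw [hh, hg]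
  inv_mem' {g} hg := by
    show ρ g⁻¹ v = v
    conv_lhs => rw [← (hg : ρ g v = v), ρ_cancel']

/-- The hypotheses on the module. -/
structure Pair : Prop where
  gen : ∀ x, x ∉ M → A ⊔ A.map (MulAut.conj x).toMonoidHom = ⊤
  le : A ≤ M
  ex : ∃ x, x ∉ M
  quad : ∀ a ∈ A, ∀ b ∈ A, (ρ a - 1) * (ρ b - 1) = 0
  irr : ∀ W : AddSubgroup U, (∀ g, ∀ v ∈ W, ρ g v ∈ W) → W = ⊥ ∨ W = ⊤
  nontriv : ∃ g, ρ g ≠ 1

variable {ρ A M}

theorem fixed_all (h : Pair ρ A M) {v : U} (hv : ∀ g, ρ g v = v) : v = 0 := by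
  let W : AddSubgroup U :=
    { carrier := {u | ∀ g, ρ g u = u}
      zero_mem' := fun g => map_zero _
      add_mem' := fun hu hw g => by rw [map_add, hu g, hw g]
      neg_mem' := fun hu g => by rw [map_neg, hu g] }
  rcases h.irr W (fun g u hu => by rw [hu g]; exact hu) with e | e
  · exact (AddSubgroup.mem_bot.mp (e ▸ (show v ∈ W from hv)))
  · obtain ⟨g, hg⟩ := h.nontriv
    exact absurd (AddMonoidHom.ext fun u => (show u ∈ W from e ▸ AddSubgroup.mem_top u) g) hg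

theorem invariant_of_pair (h : Pair ρ A M) {x : P} (hx : x ∉ M) (W : AddSubgroup U)
    (hA : ∀ a ∈ A, ∀ v ∈ W, ρ a v ∈ W) (hB : ∀ a ∈ A, ∀ v ∈ W, ρ (x * a * x⁻¹) v ∈ W) (g : P) :
    ∀ v ∈ W, ρ g v ∈ W := by
  let H : Subgroup P :=
    { carrier := {g | ∀ v, v ∈ W ↔ ρ g v ∈ W}
      one_mem' := fun v => by rw [map_one]; rfl
      mul_mem' := fun {g k} hg hk v => by
        rw [map_mul]; exact (hk v).trans (hg _)
      inv_mem' := fun {g} hg v => by rw [hg (ρ g⁻¹ v), ρ_cancel] }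
  have key : ∀ g, (∀ v ∈ W, ρ g v ∈ W) → (∀ v ∈ W, ρ g⁻¹ v ∈ W) → g ∈ H := fun g h1 h2 v =>
    ⟨h1 v, fun hv => by have := h2 _ hv; rwa [ρ_cancel'] at this⟩
  have hle : A ⊔ A.map (MulAut.conj x).toMonoidHom ≤ H := by
    refine sup_le (fun a ha => key a (hA a ha) (hA _ (A.inv_mem ha))) ?_
    rintro _ ⟨a, ha, rfl⟩
    refine key _ (hB a ha) ?_
    show ∀ v ∈ W, ρ (x * a * x⁻¹)⁻¹ v ∈ W
    rw [show (x * a * x⁻¹)⁻¹ = x * a⁻¹ * x⁻¹ by group]
    exact hB _ (A.inv_mem ha)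
  rw [h.gen x hx] at hle
  exact fun v => ((hle (Subgroup.mem_top g)) v).mp

theorem conj_fix {x : P} {w : U} (hw : w ∈ fix ρ A) {a : P} (ha : a ∈ A) : ρ (x * a * x⁻¹) (ρ x w) = ρ x w := by
  show (ρ (x * a * x⁻¹) * ρ x) w = ρ x w
  rw [← map_mul, inv_mul_cancel_right, map_mul]
  exact congrArg (ρ x) (hw a ha)

theorem eq_zero_of_fix (h : Pair ρ A M) {x : P} (hx : x ∉ M) {w : U} (hw : w ∈ fix ρ A)
    (hxw : ρ x w ∈ fix ρ A) : w = 0 := by
  have hle : A ⊔ A.map (MulAut.conj x).toMonoidHom ≤ stab ρ (ρ x w) := by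
    refine sup_le (fun a ha => hxw a ha) ?_
    rintro _ ⟨a, ha, rfl⟩
    exact conj_fix hw ha
  rw [h.gen x hx] at hle
  exact ρ_inj ρ x (by rw [fixed_all h fun g => hle (Subgroup.mem_top g), map_zero])

/-- The map from two copies of the fixed points. -/
def sumMap (x : P) : fix ρ A × fix ρ A →+ U :=
  ((fix ρ A).subtype.comp (AddMonoidHom.fst _ _)) +
    (((ρ x : U →+ U).comp (fix ρ A).subtype).comp (AddMonoidHom.snd _ _))

theorem sumMap_bijective (h : Pair ρ A M) {x : P} (hx : x ∉ M) : Function.Bijective (sumMap (A := A) (ρ := ρ) x) := by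
  refine ⟨(injective_iff_map_eq_zero _).mpr ?_, ?_⟩
  · rintro ⟨⟨w₁, h1⟩, ⟨w₂, h2⟩⟩ e
    have e' : w₁ + ρ x w₂ = 0 := e
    have h2' : ρ x w₂ ∈ fix ρ A := by
      rw [show ρ x w₂ = -w₁ from eq_neg_of_add_eq_zero_right e']; exact neg_mem h1
    obtain rfl := eq_zero_of_fix h hx h2 h2'
    rw [map_zero, add_zero] at e'
    subst e'
    rfl
  · have hI : ∀ a ∈ A, ∀ v, ρ a v - v ∈ fix ρ A := fun a ha v b hb => by
      have := DFunLike.congr_fun (h.quad b hb a ha) v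
      exact sub_eq_zero.mp this
    intro v
    have himg : ∀ a ∈ A, ∀ v, ρ a v - v ∈ (sumMap (A := A) (ρ := ρ) x).range := fun a ha v =>
      ⟨(⟨_, hI a ha v⟩, 0), by show (ρ a v - v) + ρ x 0 = _; rw [map_zero, add_zero]⟩
    have himg' : ∀ a ∈ A, ∀ v, ρ (x * a * x⁻¹) v - v ∈ (sumMap (A := A) (ρ := ρ) x).range := fun a ha v =>
      ⟨(0, ⟨_, hI a ha (ρ x⁻¹ v)⟩), by
        show (0 : U) + ρ x (ρ a (ρ x⁻¹ v) - ρ x⁻¹ v) = _
        rw [zero_add, map_sub, ρ_cancel, map_mul, map_mul]; rfl⟩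
    rcases h.irr _ (invariant_of_pair h hx (sumMap (A := A) (ρ := ρ) x).range
      (fun a ha v hv => by
        have := add_mem (himg a ha v) hv
        rwa [sub_add_cancel] at this)
      (fun a ha v hv => by
        have := add_mem (himg' a ha v) hv
        rwa [sub_add_cancel] at this)) with e | e
    · exfalso
      obtain ⟨g, hg⟩ := h.nontriv
      refine hg (AddMonoidHom.ext fun u => ?_)
      have hle : A ⊔ A.map (MulAut.conj x).toMonoidHom ≤ stab ρ u := by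
        refine sup_le (fun a ha => sub_eq_zero.mp (AddSubgroup.mem_bot.mp (e ▸ himg a ha u))) ?_
        rintro _ ⟨a, ha, rfl⟩
        exact sub_eq_zero.mp (AddSubgroup.mem_bot.mp (e ▸ himg' a ha u))
      rw [h.gen x hx] at hle
      exact hle (Subgroup.mem_top g)
    · exact (e ▸ AddSubgroup.mem_top v : v ∈ (sumMap (A := A) (ρ := ρ) x).range)

theorem card_sq (h : Pair ρ A M) : Nat.card U = Nat.card (fix ρ A) ^ 2 := by
  obtain ⟨x, hx⟩ := h.ex
  rw [← Nat.card_congr (Equiv.ofBijective _ (sumMap_bijective h hx)), Nat.card_prod, sq]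

/-- An element of `A` fixing more lies in every conjugate of `M`. -/
theorem mem_normalCore (h : Pair ρ A M) {a : P} (ha : a ∈ A) {v : U} (hv : v ∉ fix ρ A) (hav : ρ a v = v) :
    a ∈ M.normalCore := by
  intro y
  by_cases hy : y ∈ M
  · exact M.mul_mem (M.mul_mem hy (h.le ha)) (M.inv_mem hy)
  have hx : y⁻¹ ∉ M := fun hh => hy (by simpa using M.inv_mem hh)
  obtain ⟨⟨⟨w₁, h1⟩, ⟨w₂, h2⟩⟩, e⟩ := (sumMap_bijective h hx).2 v
  have e' : w₁ + ρ y⁻¹ w₂ = v := e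
  have hfix : a ∈ stab ρ (ρ y⁻¹ w₂) := by
    show ρ a _ = _
    have h3 := hav
    rw [← e', map_add, h1 a ha] at h3
    exact add_left_cancel h3
  by_contra hn
  have h4 : y * a * y⁻¹ ∉ M := hn
  -- `⟨A^(y⁻¹), a⟩` is everything
  have hle : A ⊔ A.map (MulAut.conj (y * a * y⁻¹)).toMonoidHom ≤
      (stab ρ (ρ y⁻¹ w₂)).map (MulAut.conj y).toMonoidHom := by
    have hA : ∀ b ∈ A, y⁻¹ * b * y ∈ stab ρ (ρ y⁻¹ w₂) := fun b hb => by
      have := conj_fix (x := y⁻¹) h2 hb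
      rwa [inv_inv] at this
    refine sup_le (fun b hb => ⟨y⁻¹ * b * y, hA b hb, show y * (y⁻¹ * b * y) * y⁻¹ = b by group⟩) ?_
    rintro _ ⟨b, hb, rfl⟩
    refine ⟨a * (y⁻¹ * b * y) * a⁻¹, mul_mem (mul_mem hfix (hA b hb)) (inv_mem hfix), ?_⟩
    show y * (a * (y⁻¹ * b * y) * a⁻¹) * y⁻¹ = y * a * y⁻¹ * b * (y * a * y⁻¹)⁻¹
    group
  rw [h.gen _ h4] at hle
  have hall : ∀ g, ρ g (ρ y⁻¹ w₂) = ρ y⁻¹ w₂ := fun g => by
    obtain ⟨s, hs, e⟩ := hle (Subgroup.mem_top (y * g * y⁻¹))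
    have : s = g := (MulAut.conj y).injective e
    exact this ▸ hs
  refine hv ?_
  rw [← e', fixed_all h hall, add_zero]
  exact h1

/-- The size of `A` is bounded by that of its fixed points. -/
theorem card_le (h : Pair ρ A M) {A₀ : Subgroup P} (hA₀ : ∀ a ∈ A, a ∈ M.normalCore → a ∈ A₀) :
    Nat.card A ≤ Nat.card A₀ * Nat.card (fix ρ A) := by
  classical
  obtain ⟨v, hv⟩ : ∃ v, v ∉ fix ρ A := by
    by_contra hall
    push Not at hall
    obtain ⟨x, hx⟩ := h.ex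
    obtain ⟨v, hv⟩ := exists_ne (0 : U)
    exact hv (eq_zero_of_fix h hx (hall v) (hall _))
  have hI : ∀ a ∈ A, ρ a v - v ∈ fix ρ A := fun a ha b hb =>
    sub_eq_zero.mp (DFunLike.congr_fun (h.quad b hb a ha) v)
  let f : ↥A → fix ρ A := fun a => ⟨ρ (a : P) v - v, hI a a.2⟩
  have hfib : ∀ a b : ↥A, f a = f b → (a : P)⁻¹ * b ∈ A₀ := fun a b e => by
    have hab : ρ ((a : P)⁻¹ * b) v = v := by
      rw [map_mul]
      show ρ (a : P)⁻¹ (ρ b v) = v
      rw [← sub_left_inj.mp (congrArg Subtype.val e), ρ_cancel']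
    exact hA₀ _ (A.mul_mem (A.inv_mem a.2) b.2) (mem_normalCore h (A.mul_mem (A.inv_mem a.2) b.2) hv hab)
  let g : ↥A → fix ρ A × ↥A₀ := fun a =>
    (f a, ⟨((Classical.choose (⟨a, rfl⟩ : ∃ b, f b = f a) : ↥A) : P)⁻¹ * (a : P),
      hfib _ _ (Classical.choose_spec (⟨a, rfl⟩ : ∃ b, f b = f a))⟩)
  have hg : Function.Injective g := by
    intro a b e
    simp only [g, Prod.mk.injEq, Subtype.mk.injEq] at e
    obtain ⟨e1, e2⟩ := e
    have hc : Classical.choose (⟨a, rfl⟩ : ∃ c, f c = f a) = Classical.choose (⟨b, rfl⟩ : ∃ c, f c = f b) := by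
      congr 1; funext c; rw [e1]
    rw [hc] at e2
    exact Subtype.ext (mul_left_cancel e2)
  calc Nat.card A ≤ Nat.card (fix ρ A × ↥A₀) := Nat.card_le_card_of_injective g hg
    _ = _ := by rw [Nat.card_prod, mul_comm]

end Module

section Recognize

variable {U : Type*} [AddCommGroup U] [Finite U] [Nontrivial U] {P : Type*} [Group P] [Finite P]
  {ρ : P →* AddMonoid.End U} {A M : Subgroup P}

/-- The upper unitriangular element. -/
def up {F : Type*} [Field F] (s : F) : Matrix.SpecialLinearGroup (Fin 2) F :=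
  ⟨!![1, s; 0, 1], by simp [Matrix.det_fin_two]⟩

/-- The lower unitriangular element. -/
def lo {F : Type*} [Field F] (s : F) : Matrix.SpecialLinearGroup (Fin 2) F :=
  ⟨!![1, 0; s, 1], by simp [Matrix.det_fin_two]⟩

theorem eq_top_of_up_lo {F : Type*} [Field F] (R : Subgroup (Matrix.SpecialLinearGroup (Fin 2) F))
    (hu : ∀ s, up s ∈ R) (hl : ∀ s, lo s ∈ R) : R = ⊤ := by
  have key : ∀ g : Matrix.SpecialLinearGroup (Fin 2) F, g.1 1 0 ≠ 0 → g ∈ R := by
    intro g hg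
    have hd : g.1 0 0 * g.1 1 1 - g.1 0 1 * g.1 1 0 = 1 := by rw [← Matrix.det_fin_two]; exact g.2
    have e : g = up ((g.1 0 0 - 1) / g.1 1 0) * lo (g.1 1 0) * up ((g.1 1 1 - 1) / g.1 1 0) := by
      apply Subtype.ext
      show g.1 = !![1, (g.1 0 0 - 1) / g.1 1 0; 0, 1] * !![1, 0; g.1 1 0, 1] * !![1, (g.1 1 1 - 1) / g.1 1 0; 0, 1]
      have hb : g.1 0 1 = (g.1 0 0 * g.1 1 1 - 1) / g.1 1 0 := by
        rw [eq_div_iff hg]; linear_combination -hd
      conv_lhs => rw [Matrix.eta_fin_two g.1, hb]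
      rw [Matrix.mul_fin_two, Matrix.mul_fin_two]
      generalize g.1 0 0 = a at *
      generalize g.1 1 0 = c at *
      generalize g.1 1 1 = d at *
      ext i j
      fin_cases i <;> fin_cases j <;> simp <;> field_simp <;> ring
    rw [e]
    exact R.mul_mem (R.mul_mem (hu _) (hl _)) (hu _)
  refine (Subgroup.eq_top_iff' R).mpr fun g => ?_
  by_cases hg : g.1 1 0 = 0
  · have hd : g.1 0 0 * g.1 1 1 - g.1 0 1 * g.1 1 0 = 1 := by rw [← Matrix.det_fin_two]; exact g.2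
    have h1 : lo 1 * g ∈ R := key _ (by
      show (!![1, 0; (1 : F), 1] * g.1) 1 0 ≠ 0
      rw [Matrix.mul_apply, Fin.sum_univ_two]
      simp [hg]
      intro h
      rw [h, hg] at hd; simp at hd)
    simpa using R.mul_mem (R.inv_mem (hl 1)) h1
  · exact key g hg

/-- Two additive subgroups whose nonzero elements are inverse to each other. -/
theorem jordan_of_inverse {R : Type*} [Ring R] [Nontrivial R] [Finite R] {S B : AddSubgroup R} (h1 : (1 : R) ∈ S)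
    (hS : ∀ s ∈ S, s ≠ 0 → ∃ t ∈ B, s * t = 1 ∧ t * s = 1)
    (hB : ∀ t ∈ B, t ≠ 0 → ∃ s ∈ S, s * t = 1 ∧ t * s = 1) :
    B = S ∧ ∀ x ∈ S, ∀ y ∈ S, x * y * x ∈ S := by
  have hne : ∀ {s t : R}, s * t = 1 → s ≠ 0 := fun {s t} e h0 => by rw [h0, zero_mul] at e; exact zero_ne_one e
  have hne' : ∀ {s t : R}, s * t = 1 → t ≠ 0 := fun {s t} e h0 => by rw [h0, mul_zero] at e; exact zero_ne_one e
  have hua : ∀ X ∈ S, X ≠ 0 → ∀ z ∈ S, ∀ z', z * z' = 1 → z' * z = 1 → X * z' * X ∈ S := by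
    intro X hX hX0 z hz z' hz1 hz2
    by_cases hzx : z = X
    · rw [← hzx, hz1, one_mul]; exact hz
    obtain ⟨x', hx'B, hx1, hx2⟩ := hS X hX hX0
    obtain ⟨d', hd'B, hd1, hd2⟩ := hS (z - X) (S.sub_mem hz hX) (sub_ne_zero.mpr hzx)
    have hT : x' + d' = d' * z * x' := by
      calc x' + d' = d' * (z - X) * x' + d' * (X * x') := by rw [hd2, one_mul, hx1, mul_one]
        _ = d' * z * x' := by rw [mul_sub, sub_mul, mul_assoc d' X x', sub_add_cancel]
    have hTT : (x' + d') * (X * z' * (z - X)) = 1 := by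
      calc (x' + d') * (X * z' * (z - X)) = d' * z * (x' * X) * z' * (z - X) := by rw [hT]; simp only [mul_assoc]
        _ = d' * (z * z') * (z - X) := by rw [hx2, mul_one]; simp only [mul_assoc]
        _ = 1 := by rw [hz1, mul_one, hd2]
    obtain ⟨s, hs, hs1, hs2⟩ := hB _ (B.add_mem hx'B hd'B) (hne hTT)
    have hseq : s = X * z' * (z - X) := left_inv_eq_right_inv hs1 hTT
    have e : X * z' * X = X - s := by
      rw [hseq, mul_sub, mul_assoc X z' z, hz2, mul_one, sub_sub_cancel]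
    rw [e]; exact S.sub_mem hX hs
  have hBS : B ≤ S := by
    intro t ht
    by_cases h0 : t = 0
    · rw [h0]; exact S.zero_mem
    obtain ⟨z, hz, hz1, hz2⟩ := hB t ht h0
    simpa using hua 1 h1 one_ne_zero z hz t hz1 hz2
  have hSB : S ≤ B := by
    intro s hs
    by_cases h0 : s = 0
    · rw [h0]; exact B.zero_mem
    obtain ⟨t, ht, hst, hts⟩ := hS s hs h0
    obtain ⟨u, hu, htu, hut⟩ := hS t (hBS ht) (hne' hst)
    rwa [show s = u from left_inv_eq_right_inv hst htu]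
  refine ⟨le_antisymm hBS hSB, fun x hx y hy => ?_⟩
  by_cases hx0 : x = 0
  · rw [hx0, zero_mul, zero_mul]; exact S.zero_mem
  by_cases hy0 : y = 0
  · rw [hy0, mul_zero, zero_mul]; exact S.zero_mem
  obtain ⟨z, hz, hz1, hz2⟩ := hB y (hSB hy) hy0
  exact hua x hx hx0 z hz y hz1 hz2

/-- A commutative regular set of endomorphisms as a field. -/
theorem exists_field {W : Type*} [AddCommGroup W] [Finite W] [Nontrivial W] {S : AddSubgroup (AddMonoid.End W)}
    (hJ : JordanDiv.Jordan S) (hcard : Nat.card W = Nat.card ↥S) :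
    ∃ (F : Type) (_ : Field F) (_ : Fintype F) (ev : F →+ W) (μ : F → AddMonoid.End W),
      Function.Bijective ev ∧ (∀ c d, ev (c * d) = μ c (ev d)) ∧ (∀ c, μ c ∈ S) ∧ ∀ s ∈ S, ∃ c, μ c = s := by
  classical
  haveI : Finite (AddMonoid.End W) :=
    Finite.of_injective (fun f : AddMonoid.End W => (f : W → W)) DFunLike.coe_injective
  have hcomm := JordanDiv.comm_of_jordan hJ
  obtain ⟨w₀, hw₀⟩ := exists_ne (0 : W)
  have hev : Function.Bijective (fun s : ↥S => (s : AddMonoid.End W) w₀) :=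
    (Nat.bijective_iff_injective_and_card _).mpr ⟨fun s t e => Subtype.ext (by_contra fun hne =>
      hw₀ (hJ.inj _ (S.sub_mem s.2 t.2) (sub_ne_zero.mpr hne) w₀ (sub_eq_zero.mpr e))), hcard.symm⟩
  set F₀ := Subring.closure (S : Set (AddMonoid.End W))
  letI : CommRing ↥F₀ := Subring.closureCommRingOfComm hcomm
  have hF₀S : ∀ f ∈ F₀, f ∈ S := by
    intro f hf
    obtain ⟨⟨s, hs⟩, hsv⟩ := hev.2 (f w₀)
    suffices f = s by rw [this]; exact hs
    refine AddMonoidHom.ext fun w => ?_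
    obtain ⟨⟨t, ht⟩, rfl⟩ := hev.2 w
    have e1 : f * t = t * f := congrArg Subtype.val (mul_comm (⟨f, hf⟩ : ↥F₀) ⟨t, Subring.subset_closure ht⟩)
    show (f * t) w₀ = (s * t) w₀
    rw [e1, hcomm s hs t ht]
    exact congrArg t hsv.symm
  haveI : Nontrivial (AddMonoid.End W) := ⟨⟨1, 0, fun e => hw₀ (DFunLike.congr_fun e w₀)⟩⟩
  haveI : NoZeroDivisors ↥F₀ := ⟨fun {a b} hab => by
    by_contra hne
    push Not at hne
    have ha := hJ.inj a (hF₀S a a.2) fun e => hne.1 (Subtype.ext e)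
    have hb := hJ.inj b (hF₀S b b.2) fun e => hne.2 (Subtype.ext e)
    exact hw₀ (hb _ (ha _ (DFunLike.congr_fun (congrArg Subtype.val hab) w₀)))⟩
  haveI : IsDomain ↥F₀ := NoZeroDivisors.to_isDomain _
  haveI := Fintype.ofFinite ↥F₀
  letI : Field ↥F₀ := Fintype.fieldOfDomain ↥F₀
  letI : Field (Shrink.{0} ↥F₀) := (equivShrink.{0} ↥F₀).symm.field
  let r : Shrink.{0} ↥F₀ ≃+* ↥F₀ := (equivShrink.{0} ↥F₀).symm.ringEquiv
  haveI : Fintype (Shrink.{0} ↥F₀) := Fintype.ofFinite _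
  refine ⟨Shrink.{0} ↥F₀, inferInstance, inferInstance,
    { toFun := fun c => (r c : AddMonoid.End W) w₀
      map_zero' := by simp
      map_add' := fun c d => by rw [map_add]; rfl },
    fun c => (r c : AddMonoid.End W), ⟨fun c d e => ?_, fun w => ?_⟩, fun c d => ?_, fun c => hF₀S _ (r c).2,
    fun s hs => ⟨r.symm ⟨s, Subring.subset_closure hs⟩, congrArg Subtype.val (r.apply_symm_apply _)⟩⟩
  · have e1 := @hev.1 ⟨_, hF₀S _ (r c).2⟩ ⟨_, hF₀S _ (r d).2⟩ e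
    exact r.injective (Subtype.ext (Subtype.mk.injEq .. ▸ e1))
  · obtain ⟨⟨s, hs⟩, hsw⟩ := hev.2 w
    exact ⟨r.symm ⟨s, Subring.subset_closure hs⟩, by
      show (r (r.symm _) : AddMonoid.End W) w₀ = w; rw [RingEquiv.apply_symm_apply]; exact hsw⟩
  · show (r (c * d) : AddMonoid.End W) w₀ = _
    rw [map_mul]; rfl

/-- A faithful action on coordinates with all upper and lower elements is `SL₂`. -/
theorem iso_of_coords {F : Type} [Field F] {U : Type*} [AddCommGroup U] [Finite U] [Nontrivial U] {P : Type*} [Group P] [Finite P]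
    (ρ : P →* AddMonoid.End U) (hρ : Function.Injective ρ) (Φ : (Fin 2 → F) →+ U) (hΦ : Function.Bijective Φ)
    (T : Set P) (hT : Subgroup.closure T = ⊤)
    (hgen : ∀ g ∈ T, ∃ N : Matrix.SpecialLinearGroup (Fin 2) F, ∀ c, ρ g (Φ c) = Φ (N.1.mulVec c))
    (hup : ∀ s, ∃ g, ∀ c, ρ g (Φ c) = Φ ((up s).1.mulVec c))
    (hlo : ∀ s, ∃ g, ∀ c, ρ g (Φ c) = Φ ((lo s).1.mulVec c)) :
    ∃ (e : P ≃* Matrix.SpecialLinearGroup (Fin 2) F) (f : U ≃+ (Fin 2 → F)),
      ∀ g v, f (ρ g v) = (e g).1.mulVec (f v) := by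
  classical
  let H : Subgroup P :=
    { carrier := {g | ∃ N : Matrix.SpecialLinearGroup (Fin 2) F, ∀ c, ρ g (Φ c) = Φ (N.1.mulVec c)}
      one_mem' := ⟨1, fun c => by rw [map_one]; show Φ c = _; simp⟩
      mul_mem' := fun {g k} ⟨N, hN⟩ ⟨L, hL⟩ => ⟨N * L, fun c => by
        rw [map_mul, Matrix.SpecialLinearGroup.coe_mul, ← Matrix.mulVec_mulVec, ← hN, ← hL]; rfl⟩
      inv_mem' := fun {g} ⟨N, hN⟩ => ⟨N⁻¹, fun c => by
        refine ρ_inj ρ g ?_
        rw [hN, ρ_cancel, Matrix.mulVec_mulVec, ← Matrix.SpecialLinearGroup.coe_mul, mul_inv_cancel]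
        simp⟩ }
  have htop : H = ⊤ := eq_top_iff.mpr (hT ▸ (Subgroup.closure_le H).mpr hgen)
  choose N hN using fun g => (htop.symm ▸ Subgroup.mem_top g : g ∈ H)
  have huniq : ∀ g (L : Matrix.SpecialLinearGroup (Fin 2) F), (∀ c, ρ g (Φ c) = Φ (L.1.mulVec c)) → N g = L :=
    fun g L hL => Subtype.ext (Matrix.ext_of_mulVec_single fun i => hΦ.1 ((hN g _).symm.trans (hL _)))
  let e₀ : P →* Matrix.SpecialLinearGroup (Fin 2) F :=
    { toFun := N
      map_one' := huniq 1 1 fun c => by rw [map_one]; show Φ c = _; simp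
      map_mul' := fun g k => huniq _ _ fun c => by
        rw [map_mul, Matrix.SpecialLinearGroup.coe_mul, ← Matrix.mulVec_mulVec, ← hN, ← hN]; rfl }
  have he₀i : Function.Injective e₀ := fun g k e => hρ (AddMonoidHom.ext fun v => by
    obtain ⟨c, rfl⟩ := hΦ.2 v
    exact (hN g c).trans ((congrArg (fun N => Φ (N.1.mulVec c)) (show N g = N k from e)).trans (hN k c).symm))
  have he₀s : Function.Surjective e₀ := by
    rw [← MonoidHom.range_eq_top]
    refine eq_top_of_up_lo _ (fun s => ?_) (fun s => ?_)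
    · obtain ⟨g, hg⟩ := hup s; exact ⟨g, huniq g _ hg⟩
    · obtain ⟨g, hg⟩ := hlo s; exact ⟨g, huniq g _ hg⟩
  refine ⟨MulEquiv.ofBijective e₀ ⟨he₀i, he₀s⟩, (AddEquiv.ofBijective Φ hΦ).symm, fun g v => ?_⟩
  obtain ⟨c, rfl⟩ := hΦ.2 v
  refine (AddEquiv.ofBijective Φ hΦ).injective ?_
  rw [AddEquiv.apply_symm_apply]
  show ρ g (Φ c) = Φ ((e₀ g).1.mulVec ((AddEquiv.ofBijective Φ hΦ).symm (AddEquiv.ofBijective Φ hΦ c)))
  rw [AddEquiv.symm_apply_apply]
  exact hN g c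

theorem up_mulVec {F : Type*} [Field F] (s : F) (c : Fin 2 → F) :
    (up s).1.mulVec c 0 = c 0 + s * c 1 ∧ (up s).1.mulVec c 1 = c 1 := by
  simp [up, Matrix.mulVec, dotProduct, Fin.sum_univ_two]

theorem lo_mulVec {F : Type*} [Field F] (s : F) (c : Fin 2 → F) :
    (lo s).1.mulVec c 0 = c 0 ∧ (lo s).1.mulVec c 1 = s * c 0 + c 1 := by
  simp [lo, Matrix.mulVec, dotProduct, Fin.sum_univ_two]

/-- An additive family indexed by `A` as a subgroup. -/
theorem exists_imageSub {R : Type*} [AddCommGroup R] (α : P → R) (hadd : ∀ a ∈ A, ∀ b ∈ A, α (a * b) = α a + α b)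
    (hne : ∀ a ∈ A, a ≠ 1 → α a ≠ 0) :
    ∃ S : AddSubgroup R, (∀ s, s ∈ S ↔ ∃ a ∈ A, α a = s) ∧ Nat.card ↥S = Nat.card ↥A ∧ α 1 = 0 := by
  let f : ↥A →* Multiplicative R :=
    MonoidHom.mk' (fun a => Multiplicative.ofAdd (α a)) fun a b => by
      show Multiplicative.ofAdd (α ((a : P) * b)) = _
      rw [hadd a a.2 b b.2]; rfl
  have hf : Function.Injective f := (injective_iff_map_eq_one f).mpr fun a ha => by
    by_contra h
    exact hne a a.2 (fun e => h (Subtype.ext e)) (ofAdd_eq_one.mp ha)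
  refine ⟨AddMonoidHom.range (MonoidHom.toAdditiveLeft f), fun s => ?_, ?_, ?_⟩
  · exact ⟨fun ⟨a, ha⟩ => ⟨(Additive.toMul a : ↥A), (Additive.toMul a).2, ha⟩,
      fun ⟨a, ha, e⟩ => ⟨Additive.ofMul ⟨a, ha⟩, e⟩⟩
  · exact (Nat.card_congr (Equiv.ofBijective
      (fun a : ↥A => (⟨α a, Additive.ofMul a, rfl⟩ : ↥(AddMonoidHom.range (MonoidHom.toAdditiveLeft f))))
      ⟨fun a b e => hf (congrArg Multiplicative.ofAdd (congrArg Subtype.val e)),
        fun ⟨s, a, ha⟩ => ⟨Additive.toMul a, Subtype.ext ha⟩⟩)).symm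
  · exact ofAdd_eq_one.mp (map_one f)

/-- The group is `SL₂(q)` and the module is natural. -/
theorem recognize (h : Pair ρ A M) (hρ : Function.Injective ρ)
    (hfree : ∀ a ∈ A, a ≠ 1 → ∀ v, ρ a v = v → v ∈ fix ρ A) (hcard : Nat.card A = Nat.card (fix ρ A)) :
    ∃ (F : Type) (_ : Field F) (_ : Fintype F), Fintype.card F = Nat.card A ∧
      ∃ (e : P ≃* Matrix.SpecialLinearGroup (Fin 2) F) (f : U ≃+ (Fin 2 → F)),
        ∀ g v, f (ρ g v) = (e g).1.mulVec (f v) := by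
  classical
  obtain ⟨x, hx⟩ := h.ex
  have hx' : x⁻¹ ∉ M := fun hh => hx (by simpa using M.inv_mem hh)
  have hWnt : Nontrivial (fix ρ A) := by
    rw [← Finite.one_lt_card_iff_nontrivial]
    by_contra hle
    have h1 : Nat.card (fix ρ A) = 1 := le_antisymm (not_lt.mp hle) Nat.card_pos
    have := card_sq h
    rw [h1] at this
    exact absurd this (Finite.one_lt_card (α := U)).ne'
  obtain ⟨w₀, hw₀⟩ := exists_ne (0 : fix ρ A)
  obtain ⟨a₀, ha₀, ha₀1⟩ : ∃ a ∈ A, a ≠ 1 := by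
    by_contra hall
    push Not at hall
    have hA : Nat.card A = 1 := by
      rw [(Subgroup.eq_bot_iff_forall A).mpr hall, Subgroup.card_bot]
    rw [hA] at hcard
    exact absurd hcard.symm (Finite.one_lt_card (α := fix ρ A)).ne'
  have hI : ∀ a ∈ A, ∀ v, ρ a v - v ∈ fix ρ A := fun a ha v b hb =>
    sub_eq_zero.mp (DFunLike.congr_fun (h.quad b hb a ha) v)
  -- the coordinates
  obtain ⟨ηe, hη⟩ : ∃ ηe : fix ρ A ≃+ fix ρ A, ∀ w, ((ηe w : fix ρ A) : U) = ρ a₀ (ρ x w) - ρ x w := by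
    let η : fix ρ A →+ fix ρ A :=
      { toFun := fun w => ⟨ρ a₀ (ρ x w) - ρ x w, hI a₀ ha₀ _⟩
        map_zero' := Subtype.ext (by simp)
        map_add' := fun u v => Subtype.ext (by simp only [AddSubgroup.coe_add, map_add]; abel) }
    have hηi : Function.Injective η := (injective_iff_map_eq_zero η).mpr fun w hw =>
      Subtype.ext (eq_zero_of_fix h hx w.2 (hfree a₀ ha₀ ha₀1 _ (sub_eq_zero.mp (congrArg Subtype.val hw))))
    exact ⟨AddEquiv.ofBijective η ⟨hηi, Finite.injective_iff_surjective.mp hηi⟩, fun w => rfl⟩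
  obtain ⟨ι₂, hι₂def⟩ : ∃ ι₂ : fix ρ A →+ U, ∀ w, ι₂ w = ρ x (ηe.symm w) :=
    ⟨((ρ x : U →+ U).comp (fix ρ A).subtype).comp ηe.symm.toAddMonoidHom, fun w => rfl⟩
  have hι₂ : ∀ w, ρ a₀ (ι₂ w) - ι₂ w = (w : U) := fun w => by
    rw [hι₂def, ← hη, ηe.apply_symm_apply]
  have hι₂fix : ∀ w : fix ρ A, ι₂ w ∈ fix ρ A → w = 0 := fun w hw => by
    have := eq_zero_of_fix h hx (ηe.symm w).2 (hι₂def w ▸ hw)
    simpa using (Subtype.ext this : ηe.symm w = 0)
  have hι₂inj : Function.Injective ι₂ := (injective_iff_map_eq_zero ι₂).mpr fun w hw =>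
    hι₂fix w (by rw [hw]; exact zero_mem _)
  have hsur : ∀ v : U, ∃ w₁ u : fix ρ A, v = (w₁ : U) + ι₂ u := fun v => by
    obtain ⟨⟨w₁, u⟩, e⟩ := (sumMap_bijective h hx).2 v
    exact ⟨w₁, ηe u, by rw [hι₂def, ηe.symm_apply_apply]; exact e.symm⟩
  have huniq : ∀ w u w' u' : fix ρ A, (w : U) + ι₂ u = w' + ι₂ u' → w = w' ∧ u = u' := by
    intro w u w' u' e
    rw [hι₂def, hι₂def] at e
    have e1 := (sumMap_bijective h hx).1 (a₁ := (w, ηe.symm u)) (a₂ := (w', ηe.symm u')) e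
    exact ⟨(Prod.mk.injEq .. ▸ e1).1, ηe.symm.injective (Prod.mk.injEq .. ▸ e1).2⟩
  -- the translations
  have hαex : ∀ a, ∃ f : AddMonoid.End (fix ρ A), a ∈ A → ∀ w, ((f w : fix ρ A) : U) = ρ a (ι₂ w) - ι₂ w := fun a => by
    by_cases ha : a ∈ A
    · exact ⟨AddMonoidHom.mk' (fun w => (⟨ρ a (ι₂ w) - ι₂ w, hI a ha _⟩ : fix ρ A)) fun w w' => Subtype.ext (by
        show ρ a (ι₂ (w + w')) - ι₂ (w + w') = (ρ a (ι₂ w) - ι₂ w) + (ρ a (ι₂ w') - ι₂ w')
        rw [map_add, map_add]; abel), fun _ w => rfl⟩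
    · exact ⟨0, fun h' => absurd h' ha⟩
  choose α hαv using hαex
  have hαadd : ∀ a ∈ A, ∀ b ∈ A, α (a * b) = α a + α b := fun a ha b hb => by
    refine AddMonoidHom.ext fun w => Subtype.ext ?_
    show ((α (a * b) w : fix ρ A) : U) = (α a w : U) + (α b w : U)
    rw [hαv _ (A.mul_mem ha hb), hαv a ha, hαv b hb, map_mul]
    show ρ a (ρ b (ι₂ w)) - ι₂ w = _
    have e := hI b hb (ι₂ w) a ha
    rw [map_sub, sub_eq_iff_eq_add] at e
    rw [e]; abel
  have hαinj : ∀ a ∈ A, a ≠ 1 → ∀ w, α a w = 0 → w = 0 := fun a ha ha1 w hw =>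
    hι₂fix w (hfree a ha ha1 _ (sub_eq_zero.mp (by rw [← hαv a ha, hw]; rfl)))
  obtain ⟨S, hS, hScard, hα1⟩ := exists_imageSub α hαadd fun a ha ha1 e =>
    hw₀ (hαinj a ha ha1 w₀ (by rw [e]; rfl))
  have hα₀ : α a₀ = 1 := AddMonoidHom.ext fun w => Subtype.ext ((hαv a₀ ha₀ w).trans (hι₂ w))
  -- the conjugates of the fixed points
  have hmeet : ∀ g k : P, ∀ w ∈ fix ρ A, ∀ w' ∈ fix ρ A, w ≠ 0 → ρ g w = ρ k w' → k⁻¹ * g ∈ M := by
    intro g k w hw w' hw' hne e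
    by_contra hn
    refine hne (eq_zero_of_fix h hn hw ?_)
    rw [map_mul]
    show ρ k⁻¹ (ρ g w) ∈ fix ρ A
    rw [e, ρ_cancel']; exact hw'
  have hcover : ∀ v, v ∉ fix ρ A → ∃ a ∈ A, ∃ u : fix ρ A, v = ρ (a * x) (ηe.symm u) := by
    intro v hv
    obtain ⟨w₁, u, e'⟩ := hsur v
    have hu : u ≠ 0 := fun hu => hv (by rw [e', hu, map_zero, add_zero]; exact w₁.2)
    let f : ↥A → fix ρ A := fun a => α a u
    have hf : Function.Injective f := fun a b hab => by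
      by_contra hne
      have hne' : (a : P) * (b : P)⁻¹ ≠ 1 := fun e' => hne (Subtype.ext (mul_inv_eq_one.mp e'))
      have h2 := hαadd _ (A.mul_mem a.2 (A.inv_mem b.2)) b b.2
      rw [inv_mul_cancel_right] at h2
      have h3 : α (a : P) u = α ((a : P) * (b : P)⁻¹) u + α (b : P) u := by rw [h2]; rfl
      rw [show α (b : P) u = α (a : P) u from hab.symm, right_eq_add] at h3
      exact hu (hαinj _ (A.mul_mem a.2 (A.inv_mem b.2)) hne' u h3)
    obtain ⟨a, ha⟩ := ((Nat.bijective_iff_injective_and_card f).mpr ⟨hf, hcard⟩).2 w₁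
    refine ⟨a, a.2, u, ?_⟩
    rw [map_mul]
    show v = ρ (a : P) (ρ x _)
    rw [← hι₂def, e', ← ha, hαv a a.2, sub_add_cancel]
  have hMW : ∀ g ∈ M, ∀ w ∈ fix ρ A, ρ g w ∈ fix ρ A := by
    intro g hg w hw
    by_contra hn
    have hne : w ≠ 0 := fun e => hn (by rw [e, map_zero]; exact zero_mem _)
    obtain ⟨a, ha, u, e⟩ := hcover _ hn
    have h1 := hmeet g (a * x) w hw _ (ηe.symm u).2 hne e
    refine hx ?_
    have h2 := M.mul_mem (M.inv_mem (h.le ha)) (M.mul_mem hg (M.inv_mem h1))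
    simpa [mul_assoc] using h2
  have hconj : ∀ g, g ∉ M → ∃ a ∈ A, ∀ w : fix ρ A, ∃ u : fix ρ A, ρ g w = (α a u : U) + ι₂ u := by
    intro g hg
    have hn : ρ g (w₀ : U) ∉ fix ρ A := fun hh => hw₀ (Subtype.ext (eq_zero_of_fix h hg w₀.2 hh))
    obtain ⟨a, ha, u, e⟩ := hcover _ hn
    have hm := hmeet g (a * x) _ w₀.2 _ (ηe.symm u).2 (fun e' => hw₀ (Subtype.ext e')) e
    refine ⟨a, ha, fun w => ⟨ηe ⟨_, hMW _ hm w w.2⟩, ?_⟩⟩
    rw [hαv a ha, sub_add_cancel, hι₂def, ηe.symm_apply_apply]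
    show ρ g (w : U) = (ρ a * ρ x * ρ ((a * x)⁻¹ * g)) (w : U)
    rw [← map_mul, ← map_mul, mul_inv_cancel_left]
  have hβex : ∀ b, ∃ f : AddMonoid.End (fix ρ A),
      b ∈ A → ∀ w : fix ρ A, ι₂ (f w) = ρ x (ρ b (ρ x⁻¹ w) - ρ x⁻¹ w) := fun b => by
    by_cases hb : b ∈ A
    · refine ⟨AddMonoidHom.mk' (fun w => ηe ⟨ρ b (ρ x⁻¹ w) - ρ x⁻¹ w, hI b hb _⟩) fun w w' => ?_, fun _ w => ?_⟩
      · rw [← map_add]; congr 1; refine Subtype.ext ?_
        show ρ b (ρ x⁻¹ ((w : U) + w')) - ρ x⁻¹ ((w : U) + w') = (ρ b (ρ x⁻¹ w) - ρ x⁻¹ w) + (ρ b (ρ x⁻¹ w') - ρ x⁻¹ w')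
        rw [map_add, map_add, add_sub_add_comm]
      · show ι₂ (ηe _) = _
        rw [hι₂def, ηe.symm_apply_apply]
    · exact ⟨0, fun h' => absurd h' hb⟩
  choose β hβv using hβex
  have hβact : ∀ b ∈ A, ∀ w : fix ρ A, ρ (x * b * x⁻¹) (w : U) = (w : U) + ι₂ (β b w) := fun b hb w => by
    rw [hβv b hb, map_sub, ρ_cancel, map_mul, map_mul, add_sub_cancel]; rfl
  have hβinj : ∀ b ∈ A, b ≠ 1 → ∀ w, β b w = 0 → w = 0 := fun b hb hb1 w hw => by
    have h1 := hβv b hb w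
    rw [hw, map_zero] at h1
    have h2 := hfree b hb hb1 _ (sub_eq_zero.mp (ρ_inj ρ x (h1.symm.trans (map_zero _).symm)))
    exact Subtype.ext (eq_zero_of_fix h hx' w.2 h2)
  have hβadd : ∀ a ∈ A, ∀ b ∈ A, β (a * b) = β a + β b := fun a ha b hb => by
    refine AddMonoidHom.ext fun w => hι₂inj ?_
    show ι₂ (β (a * b) w) = ι₂ (β a w + β b w)
    rw [map_add, hβv _ (A.mul_mem ha hb), hβv a ha, hβv b hb, ← map_add]
    congr 1
    have e := hI b hb (ρ x⁻¹ w) a ha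
    rw [map_sub, sub_eq_iff_eq_add] at e
    rw [map_mul]
    show ρ a (ρ b (ρ x⁻¹ (w : U))) - _ = _
    rw [e]; abel
  obtain ⟨SB, hSBmem, hSBcard, hβ1⟩ := exists_imageSub β hβadd fun a ha ha1 e =>
    hw₀ (hβinj a ha ha1 w₀ (by rw [e]; rfl))
  have hinv : ∀ b ∈ A, b ≠ 1 → ∃ a ∈ A, a ≠ 1 ∧ α a * β b = 1 := by
    intro b hb hb1
    have hbM : x * b * x⁻¹ ∉ M := fun hh => by
      refine hw₀ (hβinj b hb hb1 w₀ (hι₂fix _ ?_))
      have := sub_mem (hMW _ hh w₀ w₀.2) w₀.2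
      rwa [hβact b hb, add_sub_cancel_left] at this
    obtain ⟨a, ha, hau⟩ := hconj _ hbM
    have key : α a * β b = 1 := AddMonoidHom.ext fun w => by
      obtain ⟨u, hu⟩ := hau w
      rw [hβact b hb] at hu
      obtain ⟨e1, e2⟩ := huniq _ _ _ _ hu
      show α a (β b w) = w
      rw [e2]; exact e1.symm
    refine ⟨a, ha, fun e => ?_, key⟩
    exact hw₀ (by have := DFunLike.congr_fun key w₀; rw [e, hα1] at this; exact this.symm)
  haveI : Finite (AddMonoid.End (fix ρ A)) :=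
    Finite.of_injective (fun f : AddMonoid.End (fix ρ A) => (f : fix ρ A → fix ρ A)) DFunLike.coe_injective
  haveI : Nontrivial (AddMonoid.End (fix ρ A)) := ⟨⟨1, 0, fun e => hw₀ (DFunLike.congr_fun e w₀)⟩⟩
  have hB2S : ∀ t ∈ SB, t ≠ 0 → ∃ s ∈ S, s * t = 1 ∧ t * s = 1 := by
    intro t ht ht0
    obtain ⟨b, hb, rfl⟩ := (hSBmem t).mp ht
    obtain ⟨a, ha, -, e⟩ := hinv b hb fun e => ht0 (by rw [e, hβ1])
    exact ⟨α a, (hS _).mpr ⟨a, ha, rfl⟩, e, mul_eq_one_comm.mp e⟩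
  have hS2B : ∀ s ∈ S, s ≠ 0 → ∃ t ∈ SB, s * t = 1 ∧ t * s = 1 := by
    -- the inversion is onto, by counting
    let f : {t : ↥SB // t ≠ 0} → {s : ↥S // s ≠ 0} := fun t =>
      have ht := Classical.choose_spec (hB2S t.1 t.1.2 fun e => t.2 (Subtype.ext e))
      ⟨⟨Classical.choose (hB2S t.1 t.1.2 fun e => t.2 (Subtype.ext e)), ht.1⟩, fun e => zero_ne_one
        ((zero_mul (t.1 : AddMonoid.End (fix ρ A))).symm.trans
          ((congrArg (· * (t.1 : AddMonoid.End (fix ρ A))) (congrArg Subtype.val e)).symm.trans ht.2.1))⟩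
    have hfs : ∀ t, ((f t).1 : AddMonoid.End (fix ρ A)) * t.1 = 1 ∧ (t.1 : AddMonoid.End (fix ρ A)) * (f t).1 = 1 := fun t =>
      (Classical.choose_spec (hB2S t.1 t.1.2 fun e => t.2 (Subtype.ext e))).2
    have hf : Function.Injective f := fun t t' e => by
      have h1 := (hfs t).2
      rw [e] at h1
      exact Subtype.ext (Subtype.ext (left_inv_eq_right_inv h1 (hfs t').1))
    haveI := Fintype.ofFinite ↥S
    haveI := Fintype.ofFinite ↥SB
    have hfb : Function.Bijective f := by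
      rw [Fintype.bijective_iff_injective_and_card]
      refine ⟨hf, ?_⟩
      rw [Fintype.card_subtype_compl, Fintype.card_subtype_compl, Fintype.card_subtype_eq, Fintype.card_subtype_eq,
        ← Nat.card_eq_fintype_card, ← Nat.card_eq_fintype_card, hScard, hSBcard]
    intro s hs hs0
    obtain ⟨t, ht⟩ := hfb.2 ⟨⟨s, hs⟩, fun e => hs0 (congrArg Subtype.val e)⟩
    have := hfs t
    rw [ht] at this
    exact ⟨_, t.1.2, this⟩
  have h1S : (1 : AddMonoid.End (fix ρ A)) ∈ S := (hS _).mpr ⟨a₀, ha₀, hα₀⟩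
  obtain ⟨hSB, hxyx⟩ := jordan_of_inverse h1S hS2B hB2S
  have hJ : JordanDiv.Jordan S := ⟨h1S, hxyx, fun s hs hs0 w hw => by
    obtain ⟨a, ha, rfl⟩ := (hS s).mp hs
    exact hαinj a ha (fun e => hs0 (by rw [e, hα1])) w hw⟩
  obtain ⟨F, iF, iF', ev, μ, hevb, hevmul, hμS, hμsurj⟩ := exists_field hJ (by rw [hScard, hcard])
  refine ⟨F, iF, iF', by rw [← Nat.card_eq_fintype_card, Nat.card_congr (Equiv.ofBijective ev hevb), hcard], ?_⟩
  obtain ⟨Φ, hΦv⟩ : ∃ Φ : (Fin 2 → F) →+ U, ∀ c, Φ c = (ev (c 0) : U) + ι₂ (ev (c 1)) :=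
    ⟨((fix ρ A).subtype.comp (ev.comp (Pi.evalAddMonoidHom _ 0))) + ι₂.comp (ev.comp (Pi.evalAddMonoidHom _ 1)),
      fun c => rfl⟩
  have hupA : ∀ a ∈ A, ∀ s, μ s = α a → ∀ c, ρ a (Φ c) = Φ ((up s).1.mulVec c) := by
    intro a ha s hs c
    rw [hΦv, hΦv, (up_mulVec s c).1, (up_mulVec s c).2, map_add ev, hevmul, hs, AddSubgroup.coe_add, map_add (ρ a),
      (ev (c 0)).2 a ha, hαv a ha]
    abel
  have hloA : ∀ b ∈ A, ∀ s, μ s = β b → ∀ c, ρ (x * b * x⁻¹) (Φ c) = Φ ((lo s).1.mulVec c) := by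
    intro b hb s hs c
    rw [hΦv, hΦv, (lo_mulVec s c).1, (lo_mulVec s c).2, map_add ev, hevmul, hs, map_add (ρ (x * b * x⁻¹)),
      hβact b hb, map_add ι₂, hι₂def (ev (c 1)), conj_fix (ηe.symm _).2 hb, add_assoc]
  refine iso_of_coords ρ hρ Φ ⟨fun c d e => ?_, fun v => ?_⟩ ((A : Set P) ∪ (A.map (MulAut.conj x).toMonoidHom : Set P))
    (by rw [Subgroup.closure_union, Subgroup.closure_eq, Subgroup.closure_eq, h.gen x hx]) ?_ ?_ ?_
  · rw [hΦv, hΦv] at e
    obtain ⟨e1, e2⟩ := huniq _ _ _ _ e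
    exact funext fun i => by fin_cases i; exacts [hevb.1 e1, hevb.1 e2]
  · obtain ⟨w₁, u, rfl⟩ := hsur v
    obtain ⟨c₁, rfl⟩ := hevb.2 w₁
    obtain ⟨c₂, rfl⟩ := hevb.2 u
    exact ⟨![c₁, c₂], by rw [hΦv]; rfl⟩
  · rintro g (hg | hg)
    · obtain ⟨s, hs⟩ := hμsurj _ ((hS _).mpr ⟨g, hg, rfl⟩)
      exact ⟨up s, hupA g hg s hs⟩
    · obtain ⟨b, hb, rfl⟩ := hg
      obtain ⟨s, hs⟩ := hμsurj _ (hSB.le ((hSBmem _).mpr ⟨b, hb, rfl⟩))
      exact ⟨lo s, hloA b hb s hs⟩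
  · intro s
    obtain ⟨a, ha, e⟩ := (hS _).mp (hμS s)
    exact ⟨a, hupA a ha s e.symm⟩
  · intro s
    obtain ⟨b, hb, e⟩ := (hSBmem _).mp (hSB.ge (hμS s))
    exact ⟨x * b * x⁻¹, hloA b hb s e.symm⟩

end Recognize

end CfsgLib.SL2Pair
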