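import Mathlib

/-!
Jordan's theorem: the conjugates of a proper subgroup of a finite group do not cover it.
-/

set_option autoImplicit false

namespace CfsgLib

/-- Jordan: if every element is conjugate into `H`, then `H` is the whole group. -/
theorem eq_top_of_conj_cover {G : Type*} [Group G] [Finite G] (H : Subgroup G)
    (h : ∀ g : G, ∃ x : G, x * g * x⁻¹ ∈ H) : H = ⊤ := by
  classical
  have := Fintype.ofFinite G
  by_contra hne
  have hidx : 1 < H.index := H.one_lt_index_of_ne_top hne
  have key := MulAction.sum_card_fixedBy_eq_card_orbits_mul_card_group G (G ⧸ H)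
  have ho : Fintype.card (Quotient (MulAction.orbitRel G (G ⧸ H))) = 1 := by
    rw [Fintype.card_eq_one_iff]
    refine ⟨Quotient.mk'' ((1 : G) : G ⧸ H), fun q => ?_⟩
    induction q using Quotient.inductionOn' with
    | h a => exact Quotient.sound' (MulAction.mem_orbit_iff.mpr (MulAction.exists_smul_eq G _ a))
  rw [ho, one_mul] at key
  have hlt : ∑ _g : G, 1 < ∑ g : G, Fintype.card (MulAction.fixedBy (G ⧸ H) g) := by
    refine Finset.sum_lt_sum (fun g _ => ?_) ⟨1, Finset.mem_univ _, ?_⟩
    · obtain ⟨x, hx⟩ := h g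
      refine Fintype.card_pos_iff.mpr ⟨⟨((x⁻¹ : G) : G ⧸ H), ?_⟩⟩
      show ((g * x⁻¹ : G) : G ⧸ H) = ((x⁻¹ : G) : G ⧸ H)
      rw [QuotientGroup.eq, ← H.inv_mem_iff]
      simpa [mul_assoc] using hx
    · have e : Fintype.card (MulAction.fixedBy (G ⧸ H) (1 : G)) = H.index := by
        rw [← Nat.card_eq_fintype_card, Subgroup.index]
        exact Nat.card_congr (Equiv.subtypeUnivEquiv fun q => one_smul G q)
      rw [e]; exact hidx
  simp only [Finset.sum_const, Finset.card_univ, smul_eq_mul, mul_one] at hlt
  omega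

end CfsgLib
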