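import Mathlib

/-!
A self-dual coprime module splits into a symplectic and an orthogonal part.
-/

set_option autoImplicit false

namespace CfsgLib.SelfDualSplit

variable {F : Type*} [Field F] {G : Type*} [Group G] [Finite G] {V : Type*} [AddCommGroup V]
  [Module F V] [FiniteDimensional F V] (ρ : Representation F G V)

local notation "BF" => LinearMap.BilinForm F V

/-- An invariant subspace. -/
def Inv (Y : Submodule F V) : Prop := ∀ g : G, ∀ y ∈ Y, ρ g y ∈ Y

/-- An invariant form on a subspace. -/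
def InvForm (B : BF) (Y : Submodule F V) : Prop :=
  ∀ g : G, ∀ x ∈ Y, ∀ y ∈ Y, B (ρ g x) (ρ g y) = B x y

/-- A nondegenerate form on a subspace. -/
def NDeg (B : BF) (Y : Submodule F V) : Prop := ∀ x ∈ Y, (∀ y ∈ Y, B x y = 0) → x = 0

theorem Inv.sup {Y Z : Submodule F V} (hY : Inv ρ Y) (hZ : Inv ρ Z) : Inv ρ (Y ⊔ Z) := by
  intro g x hx
  obtain ⟨y, hy, z, hz, rfl⟩ := Submodule.mem_sup.mp hx
  rw [map_add]
  exact Submodule.add_mem_sup (hY g y hy) (hZ g z hz)

theorem Inv.inf {Y Z : Submodule F V} (hY : Inv ρ Y) (hZ : Inv ρ Z) : Inv ρ (Y ⊓ Z) :=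
  fun g x hx => ⟨hY g x hx.1, hZ g x hx.2⟩

/-- An equivariant projection onto `Y` killing `Z`. -/
theorem exists_proj (hcop : (Nat.card G : F) ≠ 0) {Y Z : Submodule F V} (hY : Inv ρ Y) (hZ : Inv ρ Z)
    (hd : Y ⊓ Z = ⊥) :
    ∃ π : V →ₗ[F] V, (∀ y ∈ Y, π y = y) ∧ (∀ z ∈ Z, π z = 0) ∧ (∀ x, π x ∈ Y) ∧
      ∀ (g : G) x, π (ρ g x) = ρ g (π x) := by
  classical
  have := Fintype.ofFinite G
  obtain ⟨C, hC⟩ := Submodule.exists_isCompl (Y ⊔ Z)
  have hYC : IsCompl Y (Z ⊔ C) := by
    refine ⟨?_, ?_⟩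
    · rw [Submodule.disjoint_def]
      intro x hxY hx
      obtain ⟨z, hz, c, hc, rfl⟩ := Submodule.mem_sup.mp hx
      have hc0 : c = 0 := Submodule.disjoint_def.mp hC.disjoint c (by
        rw [show c = (z + c) - z by abel]
        exact sub_mem (Submodule.mem_sup_left hxY) (Submodule.mem_sup_right hz)) hc
      rw [hc0, add_zero] at hxY ⊢
      exact (Submodule.mem_bot F).mp (hd ▸ ⟨hxY, hz⟩)
    · rw [codisjoint_iff, ← sup_assoc]
      exact hC.sup_eq_top
  let π₀ : V →ₗ[F] V := Y.subtype ∘ₗ Submodule.projectionOnto Y (Z ⊔ C) hYC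
  have h0Y : ∀ y ∈ Y, π₀ y = y := fun y hy => by
    show ((Submodule.projectionOnto Y (Z ⊔ C) hYC y : Y) : V) = y
    rw [show y = ((⟨y, hy⟩ : Y) : V) from rfl, Submodule.projectionOnto_apply_left hYC]
  have h0Z : ∀ z ∈ Z, π₀ z = 0 := fun z hz => by
    show ((Submodule.projectionOnto Y (Z ⊔ C) hYC z : Y) : V) = 0
    rw [(Submodule.projectionOnto_apply_eq_zero_iff hYC).mpr (Submodule.mem_sup_left hz), Submodule.coe_zero]
  refine ⟨(Nat.card G : F)⁻¹ • ∑ g : G, ρ g ∘ₗ π₀ ∘ₗ ρ g⁻¹, fun y hy => ?_, fun z hz => ?_, fun x => ?_, ?_⟩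
  · simp only [LinearMap.smul_apply, LinearMap.sum_apply, LinearMap.comp_apply]
    have : ∀ g : G, ρ g (π₀ (ρ g⁻¹ y)) = y := fun g => by
      rw [h0Y _ (hY g⁻¹ y hy), ← Module.End.mul_apply, ← map_mul, mul_inv_cancel, map_one,
        Module.End.one_apply]
    rw [Finset.sum_congr rfl fun g _ => this g, Finset.sum_const, Finset.card_univ,
      ← Nat.card_eq_fintype_card, ← Nat.cast_smul_eq_nsmul F, smul_smul, inv_mul_cancel₀ hcop, one_smul]
  · simp only [LinearMap.smul_apply, LinearMap.sum_apply, LinearMap.comp_apply]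
    rw [Finset.sum_eq_zero fun g _ => by rw [h0Z _ (hZ g⁻¹ z hz), map_zero], smul_zero]
  · simp only [LinearMap.smul_apply, LinearMap.sum_apply, LinearMap.comp_apply]
    exact Y.smul_mem _ (Y.sum_mem fun g _ => hY g _ (Submodule.coe_mem _))
  · intro g x
    simp only [LinearMap.smul_apply, LinearMap.sum_apply, LinearMap.comp_apply, map_smul, map_sum]
    congr 1
    refine Fintype.sum_equiv (Equiv.mulLeft g⁻¹) _ _ fun k => ?_
    show ρ k (π₀ (ρ k⁻¹ (ρ g x))) = ρ g (ρ (g⁻¹ * k) (π₀ (ρ (g⁻¹ * k)⁻¹ x)))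
    have e1 : ∀ (a b : G) (v : V), ρ a (ρ b v) = ρ (a * b) v := fun a b v => by
      rw [map_mul, Module.End.mul_apply]
    rw [e1, e1, mul_inv_cancel_left, mul_inv_rev, inv_inv]

/-- Maschke. -/
theorem exists_compl (hcop : (Nat.card G : F) ≠ 0) {Y X : Submodule F V} (hY : Inv ρ Y) (hX : Inv ρ X)
    (hle : Y ≤ X) : ∃ C : Submodule F V, Inv ρ C ∧ C ≤ X ∧ Y ⊓ C = ⊥ ∧ Y ⊔ C = X := by
  obtain ⟨π, hπY, -, hπm, hπc⟩ := exists_proj ρ hcop hY (Z := ⊥) (fun g z hz => by simp_all) (inf_bot_eq _)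
  refine ⟨X ⊓ LinearMap.ker π, Inv.inf ρ hX (fun g x hx => ?_), inf_le_left, ?_, ?_⟩
  · rw [LinearMap.mem_ker] at hx ⊢
    rw [hπc, hx, map_zero]
  · rw [eq_bot_iff]
    rintro x ⟨hxY, -, hx⟩
    exact (Submodule.mem_bot F).mpr ((hπY x hxY).symm.trans (LinearMap.mem_ker.mp hx))
  · refine le_antisymm (sup_le hle inf_le_left) fun x hx => ?_
    rw [← add_sub_cancel (π x) x]
    refine Submodule.add_mem_sup (hπm x) ⟨sub_mem hx (hle (hπm x)), ?_⟩
    show x - π x ∈ LinearMap.ker π
    rw [LinearMap.mem_ker, map_sub, hπY _ (hπm x), sub_self]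

omit [Finite G] ρ in
/-- Left nondegeneracy implies right nondegeneracy. -/
theorem NDeg.right {B : BF} {Y : Submodule F V} (h : NDeg B Y) :
    ∀ y ∈ Y, (∀ x ∈ Y, B x y = 0) → y = 0 := by
  intro y hy h0
  let Φ : Y →ₗ[F] Module.Dual F Y :=
    { toFun := fun x => (B (x : V)).comp Y.subtype
      map_add' := fun a b => by ext; simp
      map_smul' := fun c a => by ext; simp }
  have hinj : Function.Injective Φ := by
    rw [← LinearMap.ker_eq_bot, eq_bot_iff]
    intro x hx
    rw [Submodule.mem_bot]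
    refine Subtype.ext (h x x.2 fun z hz => ?_)
    exact LinearMap.congr_fun (LinearMap.mem_ker.mp hx) ⟨z, hz⟩
  have hsurj := (LinearMap.injective_iff_surjective_of_finrank_eq_finrank
    (Subspace.dual_finrank_eq (K := F) (V := Y)).symm).mp hinj
  have : (⟨y, hy⟩ : Y) = 0 := by
    refine (Module.forall_dual_apply_eq_zero_iff F _).mp fun f => ?_
    obtain ⟨x, rfl⟩ := hsurj f
    exact h0 x x.2
  exact congrArg Subtype.val this

/-- Forms on two independent invariant subspaces combine. -/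
theorem combine (hcop : (Nat.card G : F) ≠ 0) {Y Z : Submodule F V} (hY : Inv ρ Y) (hZ : Inv ρ Z)
    (hd : Y ⊓ Z = ⊥) (A A' : BF) (hA : InvForm ρ A Y) (hA' : InvForm ρ A' Z) (hn : NDeg A Y)
    (hn' : NDeg A' Z) :
    ∃ C : BF, InvForm ρ C (Y ⊔ Z) ∧ NDeg C (Y ⊔ Z) ∧
      ((∀ x, A x x = 0) → (∀ x, A' x x = 0) → ∀ x, C x x = 0) ∧
      ((∀ x y, A x y = A y x) → (∀ x y, A' x y = A' y x) → ∀ x y, C x y = C y x) := by
  obtain ⟨π, hπY, hπZ, hπm, hπc⟩ := exists_proj ρ hcop hY hZ hd
  obtain ⟨σ, hσZ, hσY, hσm, hσc⟩ := exists_proj ρ hcop hZ hY (by rwa [inf_comm])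
  refine ⟨A.compl₁₂ π π + A'.compl₁₂ σ σ, fun g x _ y _ => ?_, fun x hx h => ?_, fun h h' x => ?_,
    fun h h' x y => ?_⟩
  · simp only [LinearMap.add_apply, LinearMap.compl₁₂_apply, hπc, hσc,
      hA g _ (hπm x) _ (hπm y), hA' g _ (hσm x) _ (hσm y)]
  · obtain ⟨a, ha, b, hb, rfl⟩ := Submodule.mem_sup.mp hx
    have ha0 : a = 0 := hn a ha fun y hy => by
      have := h y (Submodule.mem_sup_left hy)
      simpa [LinearMap.compl₁₂_apply, hπY _ ha, hπY _ hy, hπZ _ hb, hσY _ hy] using this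
    have hb0 : b = 0 := hn' b hb fun z hz => by
      have := h z (Submodule.mem_sup_right hz)
      simpa [LinearMap.compl₁₂_apply, hσZ _ hb, hσZ _ hz, hπZ _ hz, hσY _ ha] using this
    rw [ha0, hb0, add_zero]
  · simp [LinearMap.compl₁₂_apply, h, h']
  · simp only [LinearMap.add_apply, LinearMap.compl₁₂_apply, h (π x), h' (σ x)]

/-- The conclusion for a subspace. -/
def Split (X : Submodule F V) : Prop :=
  ∃ U W : Submodule F V, Inv ρ U ∧ Inv ρ W ∧ U ⊓ W = ⊥ ∧ U ⊔ W = X ∧
    (∃ A : BF, (∀ x, A x x = 0) ∧ InvForm ρ A U ∧ NDeg A U) ∧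
    ∃ S : BF, (∀ x y, S x y = S y x) ∧ InvForm ρ S W ∧ NDeg S W

theorem split_aux (hcop : (Nat.card G : F) ≠ 0) :
    ∀ (d : ℕ) (X : Submodule F V), Module.finrank F X = d → Inv ρ X →
      ∀ B : BF, InvForm ρ B X → NDeg B X → Split ρ X := by
  intro d
  induction d using Nat.strong_induction_on with
  | _ d ih =>
    intro X hd hX B hB hn
    let K : Submodule F V := X ⊓
      { carrier := {x | ∀ y ∈ X, B x y = B y x}
        add_mem' := fun {a b} ha hb y hy => by simp [ha y hy, hb y hy]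
        zero_mem' := fun y hy => by simp
        smul_mem' := fun c a ha y hy => by simp [ha y hy] }
    have hK : Inv ρ K := fun g x hx => ⟨hX g x hx.1, fun y hy => by
      have e : ρ g (ρ g⁻¹ y) = y := by
        rw [← Module.End.mul_apply, ← map_mul, mul_inv_cancel, map_one, Module.End.one_apply]
      rw [← e, hB g x hx.1 _ (hX _ y hy), hB g _ (hX _ y hy) x hx.1]
      exact hx.2 _ (hX _ y hy)⟩
    let R : Submodule F V := K ⊓
      { carrier := {x | ∀ y ∈ K, B x y = 0}
        add_mem' := fun {a b} ha hb y hy => by simp [ha y hy, hb y hy]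
        zero_mem' := fun y hy => by simp
        smul_mem' := fun c a ha y hy => by simp [ha y hy] }
    have hR : Inv ρ R := fun g x hx => ⟨hK g x hx.1, fun y hy => by
      have e : ρ g (ρ g⁻¹ y) = y := by
        rw [← Module.End.mul_apply, ← map_mul, mul_inv_cancel, map_one, Module.End.one_apply]
      rw [← e, hB g x hx.1.1 _ (hX _ y hy.1)]
      exact hx.2 _ (hK _ y hy)⟩
    by_cases hR0 : R = ⊥
    · -- the symmetric part is nondegenerate
      obtain ⟨U, hU, hUX, hKU, hsup⟩ := exists_compl ρ hcop hK hX inf_le_left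
      obtain ⟨π, hπK, -, hπm, hπc⟩ := exists_proj ρ hcop hK (Z := ⊥) (fun g z hz => by simp_all) (inf_bot_eq _)
      refine ⟨U, K, hU, hK, by rwa [inf_comm], by rwa [sup_comm],
        ⟨B - B.flip, fun x => by simp, fun g x hx y hy => ?_, fun x hx h => ?_⟩,
        ⟨B.compl₁₂ π π, fun x y => ?_, fun g x hx y hy => ?_, fun x hx h => ?_⟩⟩
      · simp only [LinearMap.sub_apply, LinearMap.BilinForm.flip_apply,
          hB g x (hUX hx) y (hUX hy), hB g y (hUX hy) x (hUX hx)]
      · have hxK : x ∈ K := ⟨hUX hx, fun y hy => by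
          rw [← hsup] at hy
          obtain ⟨k, hk, u, hu, rfl⟩ := Submodule.mem_sup.mp hy
          have h1 := h u hu
          simp only [LinearMap.sub_apply, LinearMap.BilinForm.flip_apply, sub_eq_zero] at h1
          simp only [map_add, LinearMap.add_apply, h1, ← hk.2 x (hUX hx)]⟩
        exact (Submodule.mem_bot F).mp (hKU ▸ ⟨hxK, hx⟩)
      · exact (hπm x).2 _ (hπm y).1
      · simp only [LinearMap.compl₁₂_apply, hπK _ hx, hπK _ hy, hπK _ (hK g x hx), hπK _ (hK g y hy)]
        exact hB g x hx.1 y hy.1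
      · have : x ∈ R := ⟨hx, fun y hy => by
          have := h y hy
          simpa [LinearMap.compl₁₂_apply, hπK _ hx, hπK _ hy] using this⟩
        rwa [hR0, Submodule.mem_bot] at this
    · -- a totally isotropic part
      let T : Submodule F V := X ⊓
        { carrier := {x | ∀ r ∈ R, B r x = 0}
          add_mem' := fun {a b} ha hb r hr => by simp [ha r hr, hb r hr]
          zero_mem' := fun r hr => by simp
          smul_mem' := fun c a ha r hr => by simp [ha r hr] }
      have hT : Inv ρ T := fun g x hx => ⟨hX g x hx.1, fun r hr => by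
        have e : ρ g (ρ g⁻¹ r) = r := by
          rw [← Module.End.mul_apply, ← map_mul, mul_inv_cancel, map_one, Module.End.one_apply]
        rw [← e, hB g _ (hX _ r hr.1.1) x hx.1]
        exact hx.2 _ (hR _ r hr)⟩
      have hRT : R ≤ T := fun r hr => ⟨hr.1.1, fun s hs => hs.2 r hr.1⟩
      obtain ⟨R', hR', hR'X, hTR', hTsup⟩ := exists_compl ρ hcop hT hX inf_le_left
      obtain ⟨M, hM, hMT, hRM, hRsup⟩ := exists_compl ρ hcop hR hT hRT
      have hMX : M ≤ X := hMT.trans inf_le_left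
      have hR'0 : ∀ y ∈ R', (∀ r ∈ R, B r y = 0) → y = 0 := fun y hy h =>
        (Submodule.mem_bot F).mp (hTR' ▸ ⟨⟨hR'X hy, h⟩, hy⟩)
      have hR0' : ∀ r ∈ R, (∀ y ∈ R', B r y = 0) → r = 0 := fun r hr h => hn r hr.1.1 fun y hy => by
        rw [← hTsup] at hy
        obtain ⟨t, ht, u, hu, rfl⟩ := Submodule.mem_sup.mp hy
        simp [ht.2 r hr, h u hu]
      have hRR' : R ⊓ R' = ⊥ := by
        rw [eq_bot_iff, ← hTR']; exact inf_le_inf_right _ hRT
      -- the hyperbolic form
      obtain ⟨π, hπR, hπR', hπm, hπc⟩ := exists_proj ρ hcop hR hR' hRR'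
      obtain ⟨σ, hσR', hσR, hσm, hσc⟩ := exists_proj ρ hcop hR' hR (by rwa [inf_comm])
      let A₁ : BF := B.compl₁₂ π σ - (B.compl₁₂ π σ).flip
      have hA₁i : InvForm ρ A₁ (R ⊔ R') := fun g x _ y _ => by
        simp only [A₁, LinearMap.sub_apply, LinearMap.BilinForm.flip_apply, LinearMap.flip_apply, LinearMap.compl₁₂_apply, hπc, hσc,
          hB g _ (hπm x).1.1 _ (hR'X (hσm y)), hB g _ (hπm y).1.1 _ (hR'X (hσm x))]
      have hA₁n : NDeg A₁ (R ⊔ R') := fun x hx h => by
        obtain ⟨r, hr, u, hu, rfl⟩ := Submodule.mem_sup.mp hx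
        have h1 : r = 0 := hR0' r hr fun y hy => by
          have := h y (Submodule.mem_sup_right hy)
          simpa [A₁, LinearMap.compl₁₂_apply, hπR _ hr, hπR' _ hu, hπR' _ hy, hσR' _ hy] using this
        have h2 : u = 0 := hR'0 u hu fun s hs => by
          have := h s (Submodule.mem_sup_left hs)
          simpa [A₁, LinearMap.compl₁₂_apply, hπR _ hs, hσR' _ hu, hσR _ hr, hσR _ hs] using this
        rw [h1, h2, add_zero]
      have hMn : NDeg B M := by
        intro m hm h
        let Φ : R →ₗ[F] Module.Dual F R' :=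
          { toFun := fun x => (B (x : V)).comp R'.subtype
            map_add' := fun a b => by ext; simp
            map_smul' := fun c a => by ext; simp }
        let Ψ : R' →ₗ[F] Module.Dual F R :=
          { toFun := fun y => (B.flip (y : V)).comp R.subtype
            map_add' := fun a b => by ext; simp
            map_smul' := fun c a => by ext; simp }
        have hΦ : Function.Injective Φ := by
          rw [← LinearMap.ker_eq_bot, eq_bot_iff]
          intro x hx
          rw [Submodule.mem_bot]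
          exact Subtype.ext (hR0' x x.2 fun y hy =>
            LinearMap.congr_fun (LinearMap.mem_ker.mp hx) ⟨y, hy⟩)
        have hΨ : Function.Injective Ψ := by
          rw [← LinearMap.ker_eq_bot, eq_bot_iff]
          intro x hx
          rw [Submodule.mem_bot]
          exact Subtype.ext (hR'0 x x.2 fun y hy =>
            LinearMap.congr_fun (LinearMap.mem_ker.mp hx) ⟨y, hy⟩)
        have h1 := LinearMap.finrank_le_finrank_of_injective hΦ
        have h2 := LinearMap.finrank_le_finrank_of_injective hΨ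
        rw [Subspace.dual_finrank_eq] at h1 h2
        have hsurj := (LinearMap.injective_iff_surjective_of_finrank_eq_finrank
          (by rw [Subspace.dual_finrank_eq]; omega)).mp hΦ
        obtain ⟨r, hr⟩ := hsurj ((B m).comp R'.subtype)
        have hmT : ∀ t ∈ T, B m t = 0 := fun t ht => by
          rw [← hRsup] at ht
          obtain ⟨a, ha, b, hb, rfl⟩ := Submodule.mem_sup.mp ht
          rw [map_add, h b hb, add_zero, ← ha.1.2 m (hMX hm)]
          exact (hMT hm).2 a ha
        have h3 : m - (r : V) = 0 := hn _ (sub_mem (hMX hm) r.2.1.1) fun y hy => by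
          rw [← hTsup] at hy
          obtain ⟨t, ht, u, hu, rfl⟩ := Submodule.mem_sup.mp hy
          have := LinearMap.congr_fun hr ⟨u, hu⟩
          simp only [Φ, LinearMap.coe_mk, AddHom.coe_mk, LinearMap.comp_apply, Submodule.subtype_apply] at this
          simp [hmT t ht, ht.2 _ r.2, this]
        exact (Submodule.mem_bot F).mp (hRM ▸ ⟨(sub_eq_zero.mp h3) ▸ r.2, hm⟩)
      have hlt : Module.finrank F M < d := by
        rw [← hd]
        refine Submodule.finrank_lt_finrank_of_lt (lt_of_le_of_ne hMX fun e => hR0 ?_)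
        rw [← hRM, inf_eq_left.mpr]
        rw [e]; exact hRT.trans inf_le_left
      obtain ⟨U, W, hU, hW, hUW, hUWs, ⟨A, hA0, hAi, hAn⟩, hS⟩ :=
        ih _ hlt M rfl hM B (fun g x hx y hy => hB g x (hMX hx) y (hMX hy)) hMn
      have hUM : U ≤ M := hUWs ▸ le_sup_left
      have hWM : W ≤ M := hUWs ▸ le_sup_right
      have hdisj : ∀ x ∈ R ⊔ R', x ∈ M → x = 0 := fun x hx hxM => by
        obtain ⟨r, hr, u, hu, rfl⟩ := Submodule.mem_sup.mp hx
        have hu0 : u = 0 := (Submodule.mem_bot F).mp (hTR' ▸ ⟨by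
          simpa using sub_mem (hMT hxM) (hRT hr), hu⟩)
        rw [hu0, add_zero] at hxM ⊢
        exact (Submodule.mem_bot F).mp (hRM ▸ ⟨hr, hxM⟩)
      obtain ⟨C, hCi, hCn, hC0, -⟩ := combine ρ hcop (Inv.sup ρ hR hR') hU
        (eq_bot_iff.mpr fun x hx => (Submodule.mem_bot F).mpr (hdisj x hx.1 (hUM hx.2)))
        A₁ A hA₁i hAi hA₁n hAn
      refine ⟨(R ⊔ R') ⊔ U, W, Inv.sup ρ (Inv.sup ρ hR hR') hU, hW, ?_, ?_,
        ⟨C, hC0 (fun x => by simp [A₁]) hA0, hCi, hCn⟩, hS⟩
      · rw [eq_bot_iff]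
        rintro x ⟨hx, hxW⟩
        obtain ⟨y, hy, u, hu, rfl⟩ := Submodule.mem_sup.mp hx
        have hy0 : y = 0 := hdisj y hy (by simpa using sub_mem (hWM hxW) (hUM hu))
        rw [hy0, zero_add] at hxW ⊢
        exact hUW ▸ ⟨hu, hxW⟩
      · rw [sup_assoc, hUWs, ← hTsup, ← hRsup, sup_right_comm]

/-- In characteristic two a symmetric form without fixed points is alternating. -/
theorem alternating_of_symm (hcop : (Nat.card G : F) ≠ 0) (h2 : (2 : F) = 0) {W : Submodule F V}
    (hW : Inv ρ W) (hfix : ∀ w ∈ W, (∀ g, ρ g w = w) → w = 0) {S : BF} (hs : ∀ x y, S x y = S y x)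
    (hi : InvForm ρ S W) : ∀ w ∈ W, S w w = 0 := by
  have hadd : ∀ a b, S (a + b) (a + b) = S a a + S b b := fun a b => by
    simp only [map_add, LinearMap.add_apply, hs b a]
    linear_combination (S a b) * h2
  let Z : Submodule F V := W ⊓
    { carrier := {x | S x x = 0}
      add_mem' := fun {a b} ha hb => by
        show S (a + b) (a + b) = 0
        rw [hadd, ha, hb, add_zero]
      zero_mem' := by simp
      smul_mem' := fun c a ha => by
        show S (c • a) (c • a) = 0
        simp [show S a a = 0 from ha] }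
  have hZ : Inv ρ Z := fun g x hx => ⟨hW g x hx.1, (hi g x hx.1 x hx.1).trans hx.2⟩
  obtain ⟨Y, hY, hYW, hZY, hsup⟩ := exists_compl ρ hcop hZ hW inf_le_left
  intro w hw
  rw [← hsup] at hw
  obtain ⟨z, hz, y, hy, rfl⟩ := Submodule.mem_sup.mp hw
  have hy0 : y = 0 := hfix y (hYW hy) fun g => by
    have hm : ρ g y - y ∈ Z := ⟨sub_mem (hW g y (hYW hy)) (hYW hy), by
      show S (ρ g y - y) (ρ g y - y) = 0
      simp only [map_sub, LinearMap.sub_apply, hi g y (hYW hy) y (hYW hy), hs y (ρ g y)]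
      linear_combination (S y y - S (ρ g y) y) * h2⟩
    exact sub_eq_zero.mp ((Submodule.mem_bot F).mp (hZY ▸ ⟨hm, sub_mem (hY g y hy) hy⟩))
  rw [hy0, add_zero]
  exact hz.2

/-- A symmetric nondegenerate form on any subspace. -/
theorem exists_symm (C : Submodule F V) : ∃ S : BF, (∀ x y, S x y = S y x) ∧ NDeg S C := by
  obtain ⟨C', hC'⟩ := Submodule.exists_isCompl C
  let b := Module.finBasis F C
  let π := Submodule.projectionOnto C C' hC'
  let φ : Fin (Module.finrank F C) → (V →ₗ[F] F) := fun i => (b.coord i) ∘ₗ π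
  refine ⟨∑ i, (φ i).smulRight (φ i), fun x y => ?_, fun x hx h => ?_⟩
  · simp [LinearMap.sum_apply, mul_comm]
  · have h1 : ∀ i, φ i x = 0 := fun i => by
      have := h (b i) (b i).2
      simpa [LinearMap.sum_apply, φ, π, Submodule.projectionOnto_apply_left hC' (b i),
        Finsupp.single_apply] using this
    have h2 : (⟨x, hx⟩ : C) = 0 := b.repr.injective (Finsupp.ext fun i => by
      have := h1 i
      simpa [φ, π, Submodule.projectionOnto_apply_left hC' ⟨x, hx⟩] using this)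
    exact congrArg Subtype.val h2

end CfsgLib.SelfDualSplit
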