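/-
Double counting in Steiner systems.
-/
import Mathlib
import Cfsg.Prelude.Def_Sporadic_a

set_option autoImplicit false

namespace CfsgSteiner

open Cfsg

variable {α : Type*} [Fintype α] [DecidableEq α]

theorem card_filter_powersetCard_superset {b s : Finset α} {t : ℕ} (hsb : s ⊆ b) (hst : s.card ≤ t) :
    ((b.powersetCard t).filter (s ⊆ ·)).card = Nat.choose (b.card - s.card) (t - s.card) := by
  rw [← Finset.card_sdiff_of_subset hsb, ← Finset.card_powersetCard]
  refine Finset.card_bij' (fun T _ => T \ s) (fun U _ => U ∪ s) ?_ ?_ ?_ ?_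
  · intro T hT
    simp only [Finset.mem_filter, Finset.mem_powersetCard] at hT ⊢
    exact ⟨Finset.sdiff_subset_sdiff hT.1.1 subset_rfl, by rw [Finset.card_sdiff_of_subset hT.2, hT.1.2]⟩
  · intro U hU
    simp only [Finset.mem_filter, Finset.mem_powersetCard] at hU ⊢
    refine ⟨⟨Finset.union_subset (hU.1.trans Finset.sdiff_subset) hsb, ?_⟩, Finset.subset_union_right⟩
    rw [Finset.card_union_of_disjoint (Finset.disjoint_of_subset_left hU.1 Finset.sdiff_disjoint), hU.2]
    omega
  · intro T hT
    simp only [Finset.mem_filter] at hT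
    exact Finset.sdiff_union_of_subset hT.2
  · intro U hU
    simp only [Finset.mem_powersetCard] at hU
    have : Disjoint U s := Finset.disjoint_of_subset_left hU.1 Finset.sdiff_disjoint
    rw [Finset.union_sdiff_right, Finset.sdiff_eq_self_of_disjoint this]

theorem unique_block {t k : ℕ} {B : Set (Finset α)} (h : IsSteinerSystem t k B) {b c s : Finset α}
    (hb : b ∈ B) (hc : c ∈ B) (hs : t ≤ s.card) (hsb : s ⊆ b) (hsc : s ⊆ c) : b = c := by
  obtain ⟨u, hus, hu⟩ := Finset.exists_subset_card_eq hs
  exact (h.2 u hu).unique ⟨hb, hus.trans hsb⟩ ⟨hc, hus.trans hsc⟩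

theorem inter_card_lt {t k : ℕ} {B : Set (Finset α)} (h : IsSteinerSystem t k B) {b c : Finset α}
    (hb : b ∈ B) (hc : c ∈ B) (hne : b ≠ c) : (b ∩ c).card < t :=
  Nat.lt_of_not_le fun hle => hne (unique_block h hb hc hle Finset.inter_subset_left Finset.inter_subset_right)

/-- The blocks as a finset. -/
noncomputable def blocks (B : Set (Finset α)) : Finset (Finset α) :=
  @Finset.filter _ (· ∈ B) (Classical.decPred _) Finset.univ

omit [DecidableEq α] in
@[simp] theorem mem_blocks {B : Set (Finset α)} {b : Finset α} : b ∈ blocks B ↔ b ∈ B := by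
  classical simp [blocks]

omit [DecidableEq α] in
theorem ncard_setOf (B : Set (Finset α)) (P : Finset α → Prop) [DecidablePred P] :
    {b | b ∈ B ∧ P b}.ncard = ((blocks B).filter P).card := by
  rw [← Set.ncard_coe_finset]; congr 1; ext; simp

omit [DecidableEq α] in
theorem ncard_blocks (B : Set (Finset α)) : B.ncard = (blocks B).card := by
  rw [← Set.ncard_coe_finset]; congr 1; ext; simp

/-- The number of blocks through a set of `i ≤ t` points. -/
theorem lambda_mul {t k : ℕ} {B : Set (Finset α)} (h : IsSteinerSystem t k B) {s : Finset α}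
    (hs : s.card ≤ t) :
    ((blocks B).filter (s ⊆ ·)).card * Nat.choose (k - s.card) (t - s.card) =
      Nat.choose (Fintype.card α - s.card) (t - s.card) := by
  have hU := card_filter_powersetCard_superset (Finset.subset_univ s) hs
  rw [Finset.card_univ] at hU
  rw [← hU]
  have heq : ((Finset.univ : Finset α).powersetCard t).filter (s ⊆ ·) =
      ((blocks B).filter (s ⊆ ·)).biUnion fun b => (b.powersetCard t).filter (s ⊆ ·) := by
    ext T
    simp only [Finset.mem_filter, Finset.mem_powersetCard, Finset.mem_biUnion, mem_blocks]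
    constructor
    · rintro ⟨⟨-, hT⟩, hsT⟩
      obtain ⟨b, ⟨hb, hTb⟩, -⟩ := h.2 T hT
      exact ⟨b, ⟨hb, hsT.trans hTb⟩, ⟨hTb, hT⟩, hsT⟩
    · rintro ⟨b, -, ⟨-, hT⟩, hsT⟩
      exact ⟨⟨Finset.subset_univ _, hT⟩, hsT⟩
  rw [heq, Finset.card_biUnion]
  · rw [Finset.sum_congr rfl fun b hb => ?_, Finset.sum_const, smul_eq_mul]
    simp only [Finset.mem_filter, mem_blocks] at hb
    rw [card_filter_powersetCard_superset hb.2 hs, h.1 b hb.1]
  · intro b hb c hc hne
    refine Finset.disjoint_left.mpr fun T hTb hTc => hne ?_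
    simp only [Finset.coe_filter, mem_blocks, Set.mem_ofPred_eq] at hb hc
    simp only [Finset.mem_filter, Finset.mem_powersetCard] at hTb hTc
    exact unique_block h hb.1 hc.1 hTb.1.2.ge hTb.1.1 hTc.1.1

theorem lambda_eq {t k v L : ℕ} {B : Set (Finset α)} (h : IsSteinerSystem t k B) (hv : Fintype.card α = v)
    {s : Finset α} (hs : s.card ≤ t) (htk : t ≤ k)
    (hL : L * Nat.choose (k - s.card) (t - s.card) = Nat.choose (v - s.card) (t - s.card)) :
    ((blocks B).filter (s ⊆ ·)).card = L := by
  have := lambda_mul h hs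
  rw [hv, ← hL] at this
  exact Nat.eq_of_mul_eq_mul_right (Nat.choose_pos (by omega)) this

/-- The moments of the intersection with `A` of the blocks through `S`. -/
theorem moment {t k v : ℕ} {B : Set (Finset α)} (h : IsSteinerSystem t k B) (hv : Fintype.card α = v)
    (htk : t ≤ k) {S A : Finset α} (hd : Disjoint S A) {i L : ℕ} (hi : S.card + i ≤ t)
    (hL : L * Nat.choose (k - (S.card + i)) (t - (S.card + i)) =
      Nat.choose (v - (S.card + i)) (t - (S.card + i))) :
    ∑ d ∈ (blocks B).filter (S ⊆ ·), Nat.choose (d ∩ A).card i = Nat.choose A.card i * L := by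
  have h1 : ∀ d ∈ (blocks B).filter (S ⊆ ·),
      Nat.choose (d ∩ A).card i = ((A.powersetCard i).filter fun T => S ∪ T ⊆ d).card := by
    intro d hd'
    simp only [Finset.mem_filter] at hd'
    rw [← Finset.card_powersetCard]
    congr 1
    ext T
    simp only [Finset.mem_powersetCard, Finset.mem_filter, Finset.subset_inter_iff, Finset.union_subset_iff,
      hd'.2, true_and]
    tauto
  rw [Finset.sum_congr rfl h1]
  simp only [Finset.card_filter]
  rw [Finset.sum_comm]
  simp only [← Finset.card_filter]
  rw [Finset.sum_congr rfl fun T hT => ?_, Finset.sum_const, Finset.card_powersetCard, smul_eq_mul]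
  simp only [Finset.mem_powersetCard] at hT
  have hc : (S ∪ T).card = S.card + i := by
    rw [Finset.card_union_of_disjoint (Finset.disjoint_of_subset_right hT.1 hd), hT.2]
  rw [← lambda_eq h hv (s := S ∪ T) (by omega) htk (L := L) (by rw [hc]; exact hL), Finset.filter_filter]
  congr 1
  exact Finset.filter_congr fun d _ => ⟨fun h => h.2, fun h => ⟨(Finset.union_subset_iff.mp h).1, h⟩⟩

omit [Fintype α] in
/-- Regroup a moment by the size of the intersection. -/
theorem moment_grouped (F : Finset (Finset α)) (A : Finset α) (i m : ℕ)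
    (hm : ∀ d ∈ F, (d ∩ A).card < m) :
    ∑ d ∈ F, Nat.choose (d ∩ A).card i =
      ∑ j ∈ Finset.range m, (F.filter fun d => (d ∩ A).card = j).card * Nat.choose j i := by
  rw [← Finset.sum_fiberwise_of_maps_to (g := fun d => (d ∩ A).card) (t := Finset.range m)
    (fun d hd => Finset.mem_range.mpr (hm d hd))]
  refine Finset.sum_congr rfl fun j _ => ?_
  rw [Finset.sum_congr rfl fun d hd => by rw [(Finset.mem_filter.mp hd).2], Finset.sum_const, smul_eq_mul]

theorem moment_split {t k v : ℕ} {B : Set (Finset α)} (h : IsSteinerSystem t k B) (hv : Fintype.card α = v)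
    (htk : t ≤ k) {S A : Finset α} (hd : Disjoint S A) (E : Finset (Finset α)) (hE : E ⊆ (blocks B).filter (S ⊆ ·))
    {m i L : ℕ} (hm : ∀ d ∈ (blocks B).filter (S ⊆ ·), d ∉ E → (d ∩ A).card < m) (hi : S.card + i ≤ t)
    (hL : L * Nat.choose (k - (S.card + i)) (t - (S.card + i)) =
      Nat.choose (v - (S.card + i)) (t - (S.card + i))) :
    ∑ j ∈ Finset.range m, ((((blocks B).filter (S ⊆ ·)) \ E).filter fun d => (d ∩ A).card = j).card * Nat.choose j i +
      ∑ d ∈ E, Nat.choose (d ∩ A).card i = Nat.choose A.card i * L := by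
  rw [← moment_grouped _ A i m (fun d hd' => by rw [Finset.mem_sdiff] at hd'; exact hm d hd'.1 hd'.2),
    Finset.sum_sdiff hE, moment h hv htk hd hi hL]

/-! ### The systems used below -/

theorem dist_5_8_24 (hα : Fintype.card α = 24) {B : Set (Finset α)} (hB : IsSteinerSystem 5 8 B)
    {b : Finset α} (hb : b ∈ B) :
    let n := fun j => (((blocks B) \ {b}).filter fun d => (d ∩ b).card = j).card
    n 0 = 30 ∧ n 1 = 0 ∧ n 2 = 448 ∧ n 3 = 0 ∧ n 4 = 280 := by
  have key := fun (i L : ℕ) (hi : i ≤ 4) (hL : L * Nat.choose (8 - i) (5 - i) = Nat.choose (24 - i) (5 - i)) =>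
    moment_split hB hα (by norm_num) (S := ∅) (A := b) (Finset.disjoint_empty_left _) {b}
      (by simp [hb]) (m := 5) (i := i) (L := L)
      (fun d hd hne => by
        simp only [Finset.mem_filter, mem_blocks, Finset.mem_singleton] at hd hne
        exact inter_card_lt hB hd.1 hb hne)
      (by simp; omega) (by simpa using hL)
  have e0 := key 0 759 (by norm_num) (by decide)
  have e1 := key 1 253 (by norm_num) (by decide)
  have e2 := key 2 77 (by norm_num) (by decide)
  have e3 := key 3 21 (by norm_num) (by decide)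
  have e4 := key 4 5 (by norm_num) (by decide)
  simp [-Finset.card_eq_zero, Finset.sum_range_succ, hB.1 b hb, Nat.choose_eq_descFactorial_div_factorial, Nat.descFactorial,
    Nat.factorial] at e0 e1 e2 e3 e4
  simp only
  omega

theorem dist_4_7_23 (hα : Fintype.card α = 23) {B : Set (Finset α)} (hB : IsSteinerSystem 4 7 B)
    {b : Finset α} (hb : b ∈ B) :
    let n := fun j => (((blocks B) \ {b}).filter fun d => (d ∩ b).card = j).card
    n 0 = 0 ∧ n 1 = 112 ∧ n 2 = 0 ∧ n 3 = 140 := by
  have key := fun (i L : ℕ) (hi : i ≤ 3) (hL : L * Nat.choose (7 - i) (4 - i) = Nat.choose (23 - i) (4 - i)) =>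
    moment_split hB hα (by norm_num) (S := ∅) (A := b) (Finset.disjoint_empty_left _) {b}
      (by simp [hb]) (m := 4) (i := i) (L := L)
      (fun d hd hne => by
        simp only [Finset.mem_filter, mem_blocks, Finset.mem_singleton] at hd hne
        exact inter_card_lt hB hd.1 hb hne)
      (by simp; omega) (by simpa using hL)
  have e0 := key 0 253 (by norm_num) (by decide)
  have e1 := key 1 77 (by norm_num) (by decide)
  have e2 := key 2 21 (by norm_num) (by decide)
  have e3 := key 3 5 (by norm_num) (by decide)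
  simp [-Finset.card_eq_zero, Finset.sum_range_succ, hB.1 b hb, Nat.choose_eq_descFactorial_div_factorial, Nat.descFactorial,
    Nat.factorial] at e0 e1 e2 e3
  simp only
  omega

theorem dist_3_6_22 (hα : Fintype.card α = 22) {B : Set (Finset α)} (hB : IsSteinerSystem 3 6 B)
    {b : Finset α} (hb : b ∈ B) :
    let n := fun j => (((blocks B) \ {b}).filter fun d => (d ∩ b).card = j).card
    n 0 = 16 ∧ n 1 = 0 ∧ n 2 = 60 := by
  have key := fun (i L : ℕ) (hi : i ≤ 2) (hL : L * Nat.choose (6 - i) (3 - i) = Nat.choose (22 - i) (3 - i)) =>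
    moment_split hB hα (by norm_num) (S := ∅) (A := b) (Finset.disjoint_empty_left _) {b}
      (by simp [hb]) (m := 3) (i := i) (L := L)
      (fun d hd hne => by
        simp only [Finset.mem_filter, mem_blocks, Finset.mem_singleton] at hd hne
        exact inter_card_lt hB hd.1 hb hne)
      (by simp; omega) (by simpa using hL)
  have e0 := key 0 77 (by norm_num) (by decide)
  have e1 := key 1 21 (by norm_num) (by decide)
  have e2 := key 2 5 (by norm_num) (by decide)
  simp [-Finset.card_eq_zero, Finset.sum_range_succ, hB.1 b hb, Nat.choose_eq_descFactorial_div_factorial, Nat.descFactorial,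
    Nat.factorial] at e0 e1 e2
  simp only
  omega

theorem dist_5_6_12 (hα : Fintype.card α = 12) {B : Set (Finset α)} (hB : IsSteinerSystem 5 6 B)
    {b : Finset α} (hb : b ∈ B) :
    let n := fun j => (((blocks B) \ {b}).filter fun d => (d ∩ b).card = j).card
    n 0 = 1 ∧ n 1 = 0 ∧ n 2 = 45 ∧ n 3 = 40 ∧ n 4 = 45 := by
  have key := fun (i L : ℕ) (hi : i ≤ 4) (hL : L * Nat.choose (6 - i) (5 - i) = Nat.choose (12 - i) (5 - i)) =>
    moment_split hB hα (by norm_num) (S := ∅) (A := b) (Finset.disjoint_empty_left _) {b}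
      (by simp [hb]) (m := 5) (i := i) (L := L)
      (fun d hd hne => by
        simp only [Finset.mem_filter, mem_blocks, Finset.mem_singleton] at hd hne
        exact inter_card_lt hB hd.1 hb hne)
      (by simp; omega) (by simpa using hL)
  have e0 := key 0 132 (by norm_num) (by decide)
  have e1 := key 1 66 (by norm_num) (by decide)
  have e2 := key 2 30 (by norm_num) (by decide)
  have e3 := key 3 12 (by norm_num) (by decide)
  have e4 := key 4 4 (by norm_num) (by decide)
  simp [-Finset.card_eq_zero, Finset.sum_range_succ, hB.1 b hb, Nat.choose_eq_descFactorial_div_factorial, Nat.descFactorial,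
    Nat.factorial] at e0 e1 e2 e3 e4
  simp only
  omega

/-- An empty class of intersection sizes is excluded. -/
theorem inter_ne_of_zero {B : Set (Finset α)} {b c : Finset α} {j : ℕ} (hc : c ∈ B) (hne : c ≠ b)
    (h : (((blocks B) \ {b}).filter fun d => (d ∩ b).card = j).card = 0) : (b ∩ c).card ≠ j := by
  intro he
  rw [Finset.card_eq_zero, Finset.filter_eq_empty_iff] at h
  exact h (x := c) (by simp [hc, hne]) (by rwa [Finset.inter_comm])

theorem inter_5_8_24 (hα : Fintype.card α = 24) {B : Set (Finset α)} (hB : IsSteinerSystem 5 8 B)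
    {b c : Finset α} (hb : b ∈ B) (hc : c ∈ B) (hne : b ≠ c) :
    (b ∩ c).card = 0 ∨ (b ∩ c).card = 2 ∨ (b ∩ c).card = 4 := by
  obtain ⟨-, h1, -, h3, -⟩ := dist_5_8_24 hα hB hb
  have := inter_card_lt hB hb hc hne
  have := inter_ne_of_zero hc hne.symm h1
  have := inter_ne_of_zero hc hne.symm h3
  omega

theorem inter_3_6_22 (hα : Fintype.card α = 22) {B : Set (Finset α)} (hB : IsSteinerSystem 3 6 B)
    {b c : Finset α} (hb : b ∈ B) (hc : c ∈ B) (hne : b ≠ c) :
    (b ∩ c).card = 0 ∨ (b ∩ c).card = 2 := by
  obtain ⟨-, h1, -⟩ := dist_3_6_22 hα hB hb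
  have := inter_card_lt hB hb hc hne
  have := inter_ne_of_zero hc hne.symm h1
  omega

theorem card_disjoint_eq {B : Set (Finset α)} {b : Finset α} (hb : b.card ≠ 0) :
    {c : Finset α | c ∈ B ∧ Disjoint b c}.ncard =
      (((blocks B) \ {b}).filter fun d => (d ∩ b).card = 0).card := by
  rw [ncard_setOf B (fun c => Disjoint b c)]
  congr 1
  ext c
  simp only [Finset.mem_filter, Finset.mem_sdiff, Finset.mem_singleton, mem_blocks, Finset.card_eq_zero,
    ← Finset.disjoint_iff_inter_eq_empty, disjoint_comm (a := c)]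
  exact ⟨fun h => ⟨⟨h.1, fun he => hb (by rw [he] at h; simpa using h.2)⟩, h.2⟩, fun h => ⟨h.1.1, h.2⟩⟩

/-- The symmetric difference of two blocks meeting in four points. -/
theorem symmDiff_block (hα : Fintype.card α = 24) {B : Set (Finset α)} (hB : IsSteinerSystem 5 8 B)
    {b c : Finset α} (hb : b ∈ B) (hc : c ∈ B) (h4 : (b ∩ c).card = 4) : symmDiff b c ∈ B := by
  set T := symmDiff b c with hT
  have hTc : T.card = 8 := by
    rw [hT, symmDiff_def, Finset.sup_eq_union, Finset.card_union_of_disjoint disjoint_sdiff_sdiff,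
      Finset.card_sdiff, Finset.card_sdiff, hB.1 b hb, hB.1 c hc, Finset.inter_comm c b, h4]
  by_contra hnot
  have hsix : ∀ d ∈ B, 5 ≤ (d ∩ T).card → (d ∩ T).card = 6 := by
    intro d hd h5
    have hdb : d ≠ b := by
      rintro rfl
      have : d ∩ T = d \ c := by
        ext x; simp [hT, Finset.mem_symmDiff]; tauto
      rw [this, Finset.card_sdiff, Finset.inter_comm, h4, hB.1 d hd] at h5
      omega
    have hdc : d ≠ c := by
      rintro rfl
      have : d ∩ T = d \ b := by
        ext x; simp [hT, Finset.mem_symmDiff]; tauto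
      rw [this, Finset.card_sdiff, h4, hB.1 d hd] at h5
      omega
    have hi1 := inter_5_8_24 hα hB hd hb hdb
    have hi2 := inter_5_8_24 hα hB hd hc hdc
    have hb' : (d ∩ b).card = (d ∩ (b \ c)).card + (d ∩ (b ∩ c)).card := by
      rw [← Finset.card_union_of_disjoint]
      · congr 1; ext x; simp; tauto
      · exact Finset.disjoint_left.mpr fun x hx hx' => by simp at hx hx'; tauto
    have hc' : (d ∩ c).card = (d ∩ (c \ b)).card + (d ∩ (b ∩ c)).card := by
      rw [← Finset.card_union_of_disjoint]
      · congr 1; ext x; simp; tauto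
      · exact Finset.disjoint_left.mpr fun x hx hx' => by simp at hx hx'; tauto
    have hT' : (d ∩ T).card = (d ∩ (b \ c)).card + (d ∩ (c \ b)).card := by
      rw [← Finset.card_union_of_disjoint]
      · congr 1; ext x; simp [hT, Finset.mem_symmDiff]; tauto
      · exact Finset.disjoint_left.mpr fun x hx hx' => by simp at hx hx'; tauto
    have hne8 : (d ∩ T).card ≠ 8 := by
      intro h8
      have h1 : d ∩ T = T := Finset.eq_of_subset_of_card_le Finset.inter_subset_right (by omega)
      have h2 : T = d := Finset.eq_of_subset_of_card_le (Finset.inter_eq_right.mp h1) (by rw [hB.1 d hd]; omega)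
      exact hnot (h2 ▸ hd)
    omega
  have hcover : T.powersetCard 5 =
      ((blocks B).filter fun d => 5 ≤ (d ∩ T).card).biUnion fun d => (d ∩ T).powersetCard 5 := by
    ext S
    simp only [Finset.mem_powersetCard, Finset.mem_biUnion, Finset.mem_filter, mem_blocks, Finset.subset_inter_iff]
    constructor
    · rintro ⟨hST, hS⟩
      obtain ⟨d, ⟨hd, hSd⟩, -⟩ := hB.2 S hS
      exact ⟨d, ⟨hd, hS ▸ Finset.card_le_card (Finset.subset_inter hSd hST)⟩, ⟨hSd, hST⟩, hS⟩
    · rintro ⟨d, -, ⟨-, hST⟩, hS⟩; exact ⟨hST, hS⟩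
  have hcard := congrArg Finset.card hcover
  rw [Finset.card_powersetCard, hTc, Finset.card_biUnion] at hcard
  · have hs6 : ∀ d ∈ (blocks B).filter fun d => 5 ≤ (d ∩ T).card,
        ((d ∩ T).powersetCard 5).card = Nat.choose 6 5 := by
      intro d hd
      rw [Finset.mem_filter, mem_blocks] at hd
      rw [Finset.card_powersetCard, hsix d hd.1 hd.2]
    rw [Finset.sum_congr rfl hs6, Finset.sum_const, smul_eq_mul] at hcard
    rw [show Nat.choose 8 5 = 56 by decide, show Nat.choose 6 5 = 6 by decide] at hcard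
    omega
  · intro d hd d' hd' hne
    simp only [Finset.coe_filter, mem_blocks, Set.mem_ofPred_eq] at hd hd'
    refine Finset.disjoint_left.mpr fun S hS hS' => hne ?_
    simp only [Finset.mem_powersetCard, Finset.subset_inter_iff] at hS hS'
    exact unique_block hB hd.1 hd'.1 hS.2.ge hS.1.1 hS'.1.1

end CfsgSteiner
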