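import Cfsg.Agent.Lib.SL2Pair

/-!
Modules of `SL₂(2ⁿ)` on which the elements of trace `1` act without fixed points.
-/

set_option autoImplicit false
set_option linter.unusedVariables false
set_option linter.unusedSectionVars false

namespace CfsgLib.Higman

open CfsgLib.SL2Pair

section Units

variable {R : Type*} [Ring R] (h2 : ∀ x : R, x + x = 0) {N M : R}
  (hN : N * N = 0) (hM : M * M = 0) (hNM : N * M + M * N = 1)

/-- Commuting with both matrix units. -/
def C (N M c : R) : Prop := Commute c N ∧ Commute c M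

theorem C.add {c d : R} (hc : C N M c) (hd : C N M d) : C N M (c + d) := ⟨hc.1.add_left hd.1, hc.2.add_left hd.2⟩

theorem C.mul {c d : R} (hc : C N M c) (hd : C N M d) : C N M (c * d) := ⟨hc.1.mul_left hd.1, hc.2.mul_left hd.2⟩

include hN hNM in
theorem nmn : N * M * N = N := by
  have h := congrArg (N * ·) hNM
  simp only [mul_add, ← mul_assoc, hN, zero_mul, zero_add, mul_one] at h
  exact h

include hNM in
theorem cancel {c : R} (hc : C N M c) (h : c * N = 0) : c = 0 := by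
  calc c = c * (N * M + M * N) := by rw [hNM, mul_one]
    _ = c * N * M + M * (c * N) := by rw [mul_add, ← mul_assoc, ← mul_assoc, hc.2.eq, mul_assoc M]
    _ = 0 := by rw [h, zero_mul, mul_zero, add_zero]

include h2 hN hM hNM in
theorem coeff {c0 c1 c2 c3 : R} (k0 : C N M c0) (k1 : C N M c1) (k2 : C N M c2) (k3 : C N M c3)
    (h : c0 + c1 * N + c2 * M + c3 * (N * M) = 0) : c0 = 0 ∧ c1 = 0 ∧ c2 = 0 ∧ c3 = 0 := by
  have hnmn := nmn hN hNM
  have e2 : c2 = 0 := by
    refine cancel hNM k2 ?_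
    have h' := congrArg (N * · * N) h
    simp only [mul_add, add_mul, mul_zero, zero_mul] at h'
    rw [show N * c0 * N = c0 * (N * N) by rw [← k0.1.eq, mul_assoc], show N * (c1 * N) * N = c1 * (N * N * N) by
      rw [← mul_assoc, ← k1.1.eq]; simp only [mul_assoc], show N * (c2 * M) * N = c2 * (N * M * N) by
      rw [← mul_assoc, ← k2.1.eq]; simp only [mul_assoc], show N * (c3 * (N * M)) * N = c3 * (N * N * (M * N)) by
      rw [← mul_assoc, ← k3.1.eq]; simp only [mul_assoc], hN, hnmn] at h'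
    simpa using h'
  subst e2
  have hl := congrArg (N * ·) h
  simp only [mul_add, mul_zero, zero_mul, add_zero] at hl
  rw [← k0.1.eq, show N * (c1 * N) = c1 * (N * N) by rw [← mul_assoc, ← k1.1.eq, mul_assoc],
    show N * (c3 * (N * M)) = c3 * (N * N * M) by rw [← mul_assoc, ← k3.1.eq]; simp only [mul_assoc], hN] at hl
  simp only [mul_zero, zero_mul, add_zero] at hl
  have e0 := cancel hNM k0 hl
  subst e0
  have hr := congrArg (· * N) h
  simp only [add_mul, zero_mul, zero_add, mul_assoc, hN, mul_zero] at hr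
  rw [← mul_assoc N M N, hnmn] at hr
  have e3 := cancel hNM k3 hr
  subst e3
  simp only [zero_add, zero_mul, add_zero] at h
  exact ⟨rfl, cancel hNM k1 h, rfl, rfl⟩

include h2 hN hM hNM in
/-- An element commuting with `N` in coordinates. -/
theorem decomp {X : R} (hX : Commute X N) :
    C N M (M * X + X * M) ∧ C N M (X + (M * X + X * M) * N) := by
  have hneg : ∀ x : R, -x = x := fun x => neg_eq_of_add_eq_zero_left (h2 x)
  have h1 : Commute (M * X + X * M) N := by
    show (M * X + X * M) * N = N * (M * X + X * M)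
    rw [← sub_eq_zero, sub_eq_add_neg, hneg]
    calc (M * X + X * M) * N + N * (M * X + X * M)
        = M * (X * N) + X * (M * N) + (N * M * X + N * X * M) := by simp only [mul_add, add_mul, mul_assoc]
      _ = M * N * X + X * (M * N) + (N * M * X + X * (N * M)) := by
        rw [← hX.eq, mul_assoc X N M, hX.eq, ← mul_assoc M N X]
      _ = (M * N + N * M) * X + X * (M * N + N * M) := by simp only [mul_add, add_mul]; abel
      _ = 0 := by rw [add_comm (M * N), hNM, one_mul, mul_one, h2]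
  have h3 : Commute (M * X + X * M) M := by
    show (M * X + X * M) * M = M * (M * X + X * M)
    rw [add_mul, mul_add, mul_assoc X M M, hM, ← mul_assoc M M X, hM, mul_zero, zero_mul, add_zero, zero_add,
      mul_assoc]
  refine ⟨⟨h1, h3⟩, hX.add_left (h1.mul_left (Commute.refl N)), ?_⟩
  show (X + (M * X + X * M) * N) * M = M * (X + (M * X + X * M) * N)
  rw [← sub_eq_zero, sub_eq_add_neg, hneg]
  calc (X + (M * X + X * M) * N) * M + M * (X + (M * X + X * M) * N)
      = X * M + M * X + ((M * X + X * M) * (N * M) + M * (M * X + X * M) * N) := by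
        simp only [mul_add, add_mul, mul_assoc]; abel
    _ = X * M + M * X + (M * X + X * M) * (N * M + M * N) := by rw [← h3.eq, mul_add]; simp only [mul_assoc]
    _ = 0 := by rw [hNM, mul_one, add_comm (M * X), h2]

end Units

section Mod2

variable {R : Type*} [Ring R] {K : Type*} [Field K] [Finite K] [CharP K 2]
  (h2 : ∀ x : R, x + x = 0) (φ : Matrix.SpecialLinearGroup (Fin 2) K →* R)
  (hrel : ∀ a : K, a ≠ 0 → φ (up a) * φ (lo a⁻¹) * φ (up a) = φ (up a) + φ (lo a⁻¹))

theorem up_mul (a b : K) : up a * up b = up (a + b) := by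
  apply Subtype.ext
  show !![1, a; 0, 1] * !![1, b; 0, 1] = !![1, a + b; 0, 1]
  rw [Matrix.mul_fin_two]; simp [add_comm]

theorem lo_mul (a b : K) : lo a * lo b = lo (a + b) := by
  apply Subtype.ext
  show !![1, 0; a, 1] * !![1, 0; b, 1] = !![1, 0; a + b, 1]
  rw [Matrix.mul_fin_two]; simp [add_comm]

theorem up_zero : up (0 : K) = 1 := by
  apply Subtype.ext
  show !![1, (0 : K); 0, 1] = 1
  rw [Matrix.one_fin_two]

theorem lo_zero : lo (0 : K) = 1 := by
  apply Subtype.ext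
  show !![1, (0 : K); 0, 1] = 1
  rw [Matrix.one_fin_two]

/-- The reflection. -/
def wEl (a : K) : Matrix.SpecialLinearGroup (Fin 2) K := up a * lo a⁻¹ * up a

theorem wEl_coe {a : K} (ha : a ≠ 0) : (wEl a).1 = !![0, a; a⁻¹, 0] := by
  show !![1, a; 0, 1] * !![1, 0; a⁻¹, 1] * !![1, a; 0, 1] = _
  rw [Matrix.mul_fin_two, Matrix.mul_fin_two]
  simp [ha, CharTwo.add_self_eq_zero]

theorem wEl_one_conj (a : K) : wEl 1 * up a * wEl 1 = lo a := by
  apply Subtype.ext
  show (wEl (1 : K)).1 * !![1, a; 0, 1] * (wEl (1 : K)).1 = !![1, 0; a, 1]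
  rw [wEl_coe one_ne_zero, inv_one, Matrix.mul_fin_two, Matrix.mul_fin_two]
  simp

theorem torus_conj {a : K} (ha : a ≠ 0) (c : K) :
    wEl a * wEl 1 * up c = up (a ^ 2 * c) * (wEl a * wEl 1) := by
  apply Subtype.ext
  show (wEl a).1 * (wEl (1 : K)).1 * !![1, c; 0, 1] = !![1, a ^ 2 * c; 0, 1] * ((wEl a).1 * (wEl (1 : K)).1)
  rw [wEl_coe ha, wEl_coe one_ne_zero, inv_one, Matrix.mul_fin_two, Matrix.mul_fin_two, Matrix.mul_fin_two]
  simp; field_simp

theorem torus_mul {a b : K} (ha : a ≠ 0) (hb : b ≠ 0) :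
    wEl a * wEl 1 * (wEl b * wEl 1) = wEl (a * b) * wEl 1 := by
  apply Subtype.ext
  show (wEl a).1 * (wEl (1 : K)).1 * ((wEl b).1 * (wEl (1 : K)).1) = (wEl (a * b)).1 * (wEl (1 : K)).1
  rw [wEl_coe ha, wEl_coe hb, wEl_coe one_ne_zero, wEl_coe (mul_ne_zero ha hb), inv_one, Matrix.mul_fin_two,
    Matrix.mul_fin_two, Matrix.mul_fin_two, Matrix.mul_fin_two]
  simp [mul_comm]

include h2 hrel in
/-- The module is a multiple of the natural one. -/
theorem natural : ∃ (N M : R) (B : K →+* R), N * N = 0 ∧ M * M = 0 ∧ N * M + M * N = 1 ∧ (∀ a, C N M (B a)) ∧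
    (∀ a, φ (up a) = 1 + B a * N) ∧ ∀ a, φ (lo a) = 1 + B a * M := by
  obtain ⟨n, hn⟩ : ∃ n : K → R, ∀ a, φ (up a) = 1 + n a := ⟨fun a => φ (up a) - 1, fun a => by simp⟩
  obtain ⟨m, hm⟩ : ∃ m : K → R, ∀ a, φ (lo a) = 1 + m a := ⟨fun a => φ (lo a) - 1, fun a => by simp⟩
  have hnadd : ∀ a b, n (a + b) = n a + n b + n a * n b := fun a b => by
    have h := hn (a + b)
    rw [← up_mul, map_mul, hn a, hn b] at h
    refine add_left_cancel (a := (1 : R)) (h.symm.trans ?_)
    noncomm_ring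
  have hn0 : n 0 = 0 := by
    have h := hn 0
    rw [up_zero, map_one] at h
    exact left_eq_add.mp h
  have hnsq : ∀ a, n a * n a = 0 := fun a => by
    have h := hnadd a a
    rw [CharTwo.add_self_eq_zero, hn0, h2, zero_add] at h
    exact h.symm
  have hmadd : ∀ a b, m (a + b) = m a + m b + m a * m b := fun a b => by
    have h := hm (a + b)
    rw [← lo_mul, map_mul, hm a, hm b] at h
    refine add_left_cancel (a := (1 : R)) (h.symm.trans ?_)
    noncomm_ring
  have hm0 : m 0 = 0 := by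
    have h := hm 0
    rw [lo_zero, map_one] at h
    exact left_eq_add.mp h
  have hmsq : ∀ a, m a * m a = 0 := fun a => by
    have h := hmadd a a
    rw [CharTwo.add_self_eq_zero, hm0, h2, zero_add] at h
    exact h.symm
  have hcom : ∀ a b, Commute (n a) (n b) := fun a b => by
    have h1 := hnadd a b
    rw [add_comm a b, hnadd b a, add_comm (n b) (n a)] at h1
    exact (add_left_cancel h1).symm
  have hneg : ∀ x : R, -x = x := fun x => neg_eq_of_add_eq_zero_left (h2 x)
  have hone : ∀ a, a ≠ 0 → n a * m a⁻¹ + m a⁻¹ * n a = 1 := fun a ha => by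
    have h := hrel a ha
    rw [hn, hm] at h
    have h0 : n a * m a⁻¹ + m a⁻¹ * n a + n a * m a⁻¹ * n a + n a + 1 = 0 := by
      have e : (1 + n a) * (1 + m a⁻¹) * (1 + n a) =
          1 + (n a + n a) + m a⁻¹ + n a * n a + (n a * m a⁻¹ + m a⁻¹ * n a + n a * m a⁻¹ * n a) := by noncomm_ring
      rw [e, h2, hnsq, add_zero, add_zero, show (1 : R) + n a + (1 + m a⁻¹) = (1 + 1) + n a + m a⁻¹ by abel, h2, zero_add] at h
      rw [← sub_eq_zero, sub_eq_add_neg, hneg] at h
      calc _ = (1 + m a⁻¹ + (n a * m a⁻¹ + m a⁻¹ * n a + n a * m a⁻¹ * n a)) + (n a + m a⁻¹) + (m a⁻¹ + m a⁻¹) := by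
            rw [h2 (m a⁻¹)]
            have := h2 (m a⁻¹)
            calc _ = n a * m a⁻¹ + m a⁻¹ * n a + n a * m a⁻¹ * n a + n a + 1 + (m a⁻¹ + m a⁻¹) + 0 := by rw [this, add_zero, add_zero]
              _ = _ := by abel
        _ = 0 := by rw [h, h2, add_zero]
    have h1 := congrArg (n a * ·) h0
    simp only [mul_add, ← mul_assoc, hnsq, zero_mul, mul_zero, zero_add, add_zero, mul_one] at h1
    have h3 : n a * m a⁻¹ * n a = n a := by
      rw [← sub_eq_zero, sub_eq_add_neg, hneg]; exact h1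
    rw [h3, add_assoc (n a * m a⁻¹ + m a⁻¹ * n a) (n a) (n a), h2, add_zero] at h0
    rw [← sub_eq_zero, sub_eq_add_neg, hneg]; exact h0
  -- matrix units
  obtain ⟨N, hNdef⟩ : ∃ N, n 1 = N := ⟨_, rfl⟩
  obtain ⟨M, hMdef⟩ : ∃ M, m 1 = M := ⟨_, rfl⟩
  have hN : N * N = 0 := hNdef ▸ hnsq 1
  have hM : M * M = 0 := hMdef ▸ hmsq 1
  have hNM : N * M + M * N = 1 := by
    have h := hone 1 one_ne_zero
    rwa [inv_one, hNdef, hMdef] at h
  have hnmn := nmn hN hNM
  have hMN : M * N = 1 + N * M := by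
    rw [← hNM, add_comm (N * M) (M * N), add_assoc, h2, add_zero]
  have hw : ∀ a, a ≠ 0 → φ (wEl a) = n a + m a⁻¹ := fun a ha => by
    rw [wEl, map_mul, map_mul, hrel a ha, hn, hm, show (1 : R) + n a + (1 + m a⁻¹) = (1 + 1) + n a + m a⁻¹ by abel,
      h2, zero_add]
  obtain ⟨B, hBdef⟩ : ∃ B : K → R, ∀ a, B a = M * n a + n a * M := ⟨_, fun a => rfl⟩
  obtain ⟨A, hAdef⟩ : ∃ A : K → R, ∀ a, A a = n a + B a * N := ⟨_, fun a => rfl⟩
  have hcB : ∀ a, C N M (B a) := fun a => by
    rw [hBdef]; exact (decomp h2 hN hM hNM (hNdef ▸ hcom a 1)).1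
  have hcA : ∀ a, C N M (A a) := fun a => by
    rw [hAdef, hBdef]; exact (decomp h2 hN hM hNM (hNdef ▸ hcom a 1)).2
  have hnAB : ∀ a, n a = A a + B a * N := fun a => by rw [hAdef, add_assoc, h2, add_zero]
  have hw1 : φ (wEl (1 : K)) = N + M := by rw [hw 1 one_ne_zero, inv_one, hNdef, hMdef]
  have hww : (N + M) * (N + M) = 1 := by
    rw [add_mul, mul_add, mul_add, hN, hM, zero_add, add_zero, hNM]
  have hwNw : (N + M) * N * (N + M) = M := by
    rw [add_mul, hN, zero_add, mul_add, mul_assoc M N N, hN, mul_zero, zero_add]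
    have h := congrArg (M * ·) hNM
    simp only [mul_add, ← mul_assoc, hM, zero_mul, add_zero, mul_one] at h
    exact h
  have hmAB : ∀ a, m a = A a + B a * M := fun a => by
    have h := congrArg φ (wEl_one_conj a)
    rw [map_mul, map_mul, hw1, hn, hm, mul_add (N + M) 1 (n a), mul_one, add_mul (N + M) ((N + M) * n a), hww] at h
    rw [← add_left_cancel h, hnAB, mul_add (N + M) (A a), add_mul ((N + M) * A a), show (N + M) * A a * (N + M) = A a * ((N + M) * (N + M)) by
      rw [← mul_assoc (A a), ((hcA a).1.add_right (hcA a).2).eq],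
      show (N + M) * (B a * N) * (N + M) = B a * ((N + M) * N * (N + M)) by
      rw [← mul_assoc (N + M) (B a) N, ← ((hcB a).1.add_right (hcB a).2).eq]; simp only [mul_assoc],
      hww, hwNw, mul_one]
  -- the relation of a pair of opposite root elements
  have hpair : ∀ a, a ≠ 0 → B a * B a⁻¹ = B a⁻¹ * B a ∧ A a * A a⁻¹ + A a⁻¹ * A a + B a⁻¹ * B a = 1 ∧
      B a * A a⁻¹ = A a⁻¹ * B a ∧ A a * B a⁻¹ = B a⁻¹ * A a := by
    intro a ha
    have h := hone a ha
    rw [hnAB, hmAB] at h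
    have e1 : (A a + B a * N) * (A a⁻¹ + B a⁻¹ * M) =
        A a * A a⁻¹ + B a * A a⁻¹ * N + A a * B a⁻¹ * M + B a * B a⁻¹ * (N * M) := by
      simp only [add_mul, mul_add]
      rw [show B a * N * A a⁻¹ = B a * A a⁻¹ * N by rw [mul_assoc, ← (hcA a⁻¹).1.eq, mul_assoc],
        show B a * N * (B a⁻¹ * M) = B a * B a⁻¹ * (N * M) by
          rw [mul_assoc (B a), ← mul_assoc N, ← (hcB a⁻¹).1.eq]; simp only [mul_assoc], ← mul_assoc]
      abel
    have e2 : (A a⁻¹ + B a⁻¹ * M) * (A a + B a * N) =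
        A a⁻¹ * A a + A a⁻¹ * B a * N + B a⁻¹ * A a * M + (B a⁻¹ * B a + B a⁻¹ * B a * (N * M)) := by
      simp only [add_mul, mul_add]
      rw [show B a⁻¹ * M * A a = B a⁻¹ * A a * M by rw [mul_assoc, ← (hcA a).2.eq, mul_assoc],
        show B a⁻¹ * M * (B a * N) = B a⁻¹ * B a + B a⁻¹ * B a * (N * M) by
          rw [mul_assoc (B a⁻¹), ← mul_assoc M, ← (hcB a).2.eq, mul_assoc (B a), hMN, mul_add, mul_one, mul_add,
            mul_assoc], ← mul_assoc]
      abel
    rw [e1, e2, ← sub_eq_zero, sub_eq_add_neg, hneg] at h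
    have h' : (A a * A a⁻¹ + A a⁻¹ * A a + B a⁻¹ * B a + 1) + (B a * A a⁻¹ + A a⁻¹ * B a) * N +
        (A a * B a⁻¹ + B a⁻¹ * A a) * M + (B a * B a⁻¹ + B a⁻¹ * B a) * (N * M) = 0 := by
      refine Eq.trans ?_ h; simp only [add_mul]; abel
    have h1C : C N M 1 := ⟨Commute.one_left _, Commute.one_left _⟩
    obtain ⟨c0, c1, c2, c3⟩ := coeff h2 hN hM hNM
      (((((hcA a).mul (hcA _)).add ((hcA _).mul (hcA a))).add ((hcB _).mul (hcB a))).add h1C)
      (((hcB a).mul (hcA _)).add ((hcA _).mul (hcB a))) (((hcA a).mul (hcB _)).add ((hcB _).mul (hcA a)))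
      (((hcB a).mul (hcB _)).add ((hcB _).mul (hcB a))) h'
    have conv : ∀ x y : R, x + y = 0 → x = y := fun x y e => by rw [eq_neg_of_add_eq_zero_left e, hneg]
    exact ⟨conv _ _ c3, conv _ _ c0, conv _ _ c1, conv _ _ c2⟩
  have hAsq : ∀ a, A a * A a = 0 ∧ A a * B a = B a * A a := fun a => by
    have h := hnsq a
    rw [hnAB] at h
    have e : (A a + B a * N) * (A a + B a * N) = A a * A a + (A a * B a + B a * A a) * N + 0 * M + 0 * (N * M) := by
      simp only [add_mul, mul_add, zero_mul, add_zero]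
      rw [show B a * N * A a = B a * A a * N by rw [mul_assoc, ← (hcA a).1.eq, mul_assoc],
        show B a * N * (B a * N) = B a * B a * (N * N) by
          rw [mul_assoc (B a), ← mul_assoc N, ← (hcB a).1.eq]; simp only [mul_assoc], hN, ← mul_assoc]
      simp only [mul_zero, add_zero]
      abel
    rw [e] at h
    obtain ⟨c0, c1, -, -⟩ := coeff h2 hN hM hNM ((hcA a).mul (hcA a))
      (((hcA a).mul (hcB a)).add ((hcB a).mul (hcA a))) ⟨Commute.zero_left _, Commute.zero_left _⟩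
      ⟨Commute.zero_left _, Commute.zero_left _⟩ h
    exact ⟨c0, by rw [eq_neg_of_add_eq_zero_left c1, hneg]⟩
  -- the torus
  obtain ⟨E, hEdef⟩ : ∃ E : K → R, ∀ a, E a = A a + A a⁻¹ := ⟨_, fun a => rfl⟩
  have hcE : ∀ a, C N M (E a) := fun a => hEdef a ▸ (hcA a).add (hcA _)
  have hh : ∀ a, a ≠ 0 → φ (wEl a * wEl 1) = B a⁻¹ + E a * N + E a * M + (B a + B a⁻¹) * (N * M) := fun a ha => by
    rw [map_mul, hw a ha, hw1, hnAB, hmAB]
    calc (A a + B a * N + (A a⁻¹ + B a⁻¹ * M)) * (N + M)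
        = (A a + A a⁻¹) * N + (A a + A a⁻¹) * M + (B a * (N * N) + B a * (N * M)) + (B a⁻¹ * (M * N) + B a⁻¹ * (M * M)) := by
          noncomm_ring
      _ = _ := by rw [hN, hM, hMN, hEdef]; noncomm_ring
  -- moving `N` through the torus
  have hsq : ∀ a, a ≠ 0 → B a * B a⁻¹ = 1 ∧ A (a ^ 2) = E a * B a ∧ B (a ^ 2) = B a * B a ∧ E a * B a = B a * E a ∧
      E a * B a⁻¹ = B a⁻¹ * E a ∧ E a * E a = 0 := by
    intro a ha
    have h := congrArg φ (torus_conj ha 1)
    rw [mul_one, map_mul φ (wEl a * wEl 1) (up 1), map_mul φ (up (a ^ 2)) (wEl a * wEl 1), hn, hn, hh a ha, mul_add _ (1 : R) (n 1), add_mul (1 : R) (n (a ^ 2)), mul_one, one_mul] at h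
    have h' := add_left_cancel h
    rw [hNdef, hnAB (a ^ 2)] at h'
    set P := B a; set P' := B a⁻¹; set F := E a; set A2 := A (a ^ 2); set B2 := B (a ^ 2)
    have e1 : (P' + F * N + F * M + (P + P') * (N * M)) * N = F + P * N + 0 * M + F * (N * M) := by
      calc _ = P' * N + F * (N * N) + F * (M * N) + (P + P') * (N * M * N) := by noncomm_ring
        _ = F + P * N + 0 * M + F * (N * M) + (P' * N + P' * N) := by rw [hN, hMN, hnmn]; noncomm_ring
        _ = _ := by rw [h2, add_zero]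
    have cP : C N M P := hcB a
    have cP' : C N M P' := hcB a⁻¹
    have cF : C N M F := hcE a
    have e2 : (A2 + B2 * N) * (P' + F * N + F * M + (P + P') * (N * M)) =
        A2 * P' + (A2 * F + B2 * P') * N + A2 * F * M + (A2 * (P + P') + B2 * F) * (N * M) := by
      have q1 : B2 * N * P' = B2 * P' * N := by rw [mul_assoc, ← cP'.1.eq, mul_assoc]
      have q2 : B2 * N * (F * N) = 0 := by
        rw [mul_assoc, ← mul_assoc N, ← cF.1.eq, mul_assoc F, hN, mul_zero, mul_zero]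
      have q3 : B2 * N * (F * M) = B2 * F * (N * M) := by
        rw [mul_assoc, ← mul_assoc N, ← cF.1.eq]; simp only [mul_assoc]
      have q4 : B2 * N * ((P + P') * (N * M)) = 0 := by
        rw [mul_assoc, ← mul_assoc N, ← (cP.add cP').1.eq, mul_assoc (P + P'), ← mul_assoc N N, hN, zero_mul,
          mul_zero, mul_zero]
      rw [add_mul, mul_add (B2 * N), mul_add (B2 * N), mul_add (B2 * N), q1, q2, q3, q4]
      noncomm_ring
    rw [e1, e2, ← sub_eq_zero, sub_eq_add_neg, hneg] at h'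
    have h'' : (F + A2 * P') + (P + (A2 * F + B2 * P')) * N + A2 * F * M +
        (F + (A2 * (P + P') + B2 * F)) * (N * M) = 0 := by
      refine Eq.trans ?_ h'; simp only [add_mul, zero_mul]; abel
    obtain ⟨c0, c1, c2, c3⟩ := coeff h2 hN hM hNM ((hcE a).add ((hcA _).mul (hcB _)))
      ((hcB a).add (((hcA _).mul (hcE a)).add ((hcB _).mul (hcB _)))) ((hcA _).mul (hcE a))
      ((hcE a).add (((hcA _).mul ((hcB a).add (hcB _))).add ((hcB _).mul (hcE a)))) h''
    have conv : ∀ x y : R, x + y = 0 → x = y := fun x y e => by rw [eq_neg_of_add_eq_zero_left e, hneg]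
    obtain ⟨p1, p2, p3, p4⟩ := hpair a ha
    obtain ⟨s1, s2⟩ := hAsq a
    obtain ⟨t1, t2⟩ := hAsq a⁻¹
    have hFP : F * P = P * F := by
      show E a * B a = B a * E a
      rw [hEdef, add_mul, mul_add, s2, p3]
    have hFP' : F * P' = P' * F := by
      show E a * B a⁻¹ = B a⁻¹ * E a
      rw [hEdef, add_mul, mul_add, t2, p4]
    have hF : F = A2 * P' := conv _ _ c0
    have hFF : F * F = 0 := by
      calc F * F = A2 * P' * F := by rw [← hF]
        _ = A2 * F * P' := by rw [mul_assoc, ← hFP', mul_assoc]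
        _ = 0 := by rw [c2, zero_mul]
    have hFF' : A a * A a⁻¹ + A a⁻¹ * A a = 0 := by
      rw [← hFF]
      show _ = E a * E a
      rw [hEdef, add_mul, mul_add, mul_add, s1, t1, zero_add, add_zero]
    have hPP' : P' * P = 1 := by rw [hFF', zero_add] at p2; exact p2
    have hP'P : P * P' = 1 := by rw [p1, hPP']
    refine ⟨hP'P, ?_, ?_, hFP, hFP', hFF⟩
    · rw [hF, mul_assoc, hPP', mul_one]
    · have e := conv _ _ c1
      rw [c2, zero_add] at e
      calc B2 = B2 * (P' * P) := by rw [hPP', mul_one]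
        _ = P * P := by rw [← mul_assoc, ← e]
  -- the diagonal part vanishes
  have hquart : ∀ c, c ≠ 0 → A ((c ^ 2) ^ 2) = A (c ^ 2) + B (c ^ 2) * A (c ^ 2) := by
    intro c hc
    obtain ⟨hPP', hA2, hB2, hFP, hFP', hFF⟩ := hsq c hc
    have h := congrArg φ (torus_conj hc (c ^ 2))
    rw [map_mul φ (wEl c * wEl 1) (up (c ^ 2)), map_mul φ (up (c ^ 2 * c ^ 2)) (wEl c * wEl 1), hn, hn, hh c hc, mul_add _ (1 : R) (n (c ^ 2)), add_mul (1 : R) (n (c ^ 2 * c ^ 2)), mul_one, one_mul] at h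
    have h' := add_left_cancel h
    rw [show c ^ 2 * c ^ 2 = (c ^ 2) ^ 2 by ring, hnAB (c ^ 2), hnAB ((c ^ 2) ^ 2)] at h'
    rw [hA2, hB2] at h' ⊢
    set P := B c; set P' := B c⁻¹; set F := E c; set A4 := A ((c ^ 2) ^ 2); set B4 := B ((c ^ 2) ^ 2)
    have hP'P : P' * P = 1 := by
      obtain ⟨p1, -, -, -⟩ := hpair c hc
      rw [← p1]; exact hPP'
    have cP : C N M P := hcB c
    have cP' : C N M P' := hcB c⁻¹
    have cF : C N M F := hcE c
    have e1 : (P' + F * N + F * M + (P + P') * (N * M)) * (F * P + P * P * N) =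
        (F + P * P * F) + P * P * P * N + 0 * M + (P * (F * P) + F + P * P * F) * (N * M) := by
      have q1 : P' * (F * P) = F := by rw [← mul_assoc, ← hFP', mul_assoc, hP'P, mul_one]
      have q1' : P' * (P * P * N) = P * N := by rw [← mul_assoc, ← mul_assoc, hP'P, one_mul]
      have q2 : F * N * (F * P) = 0 := by
        rw [mul_assoc, ← mul_assoc N F, ← cF.1.eq, mul_assoc F N P, ← mul_assoc F F, hFF, zero_mul]
      have q2' : F * N * (P * P * N) = 0 := by
        rw [mul_assoc, ← mul_assoc N, ← (cP.mul cP).1.eq, mul_assoc (P * P), hN, mul_zero, mul_zero]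
      have q3 : F * M * (F * P) = 0 := by
        rw [mul_assoc, ← mul_assoc M F, ← cF.2.eq, mul_assoc F M P, ← mul_assoc F F, hFF, zero_mul]
      have q3' : F * M * (P * P * N) = P * P * F + P * P * F * (N * M) := by
        rw [mul_assoc, ← mul_assoc M, ← (cP.mul cP).2.eq, mul_assoc (P * P), hMN, ← mul_assoc F, ← mul_assoc F P P,
          hFP, mul_assoc P F P, hFP, ← mul_assoc P P F, mul_add, mul_one]
      have q4 : (P + P') * (N * M) * (F * P) = (P * (F * P) + F) * (N * M) := by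
        rw [mul_assoc, ← (Commute.mul_right (cF.mul cP).1 (cF.mul cP).2).eq, ← mul_assoc, add_mul P P', q1]
      have q4' : (P + P') * (N * M) * (P * P * N) = P * P * P * N + P * N := by
        rw [mul_assoc, ← mul_assoc (N * M) (P * P) N, ← (Commute.mul_right (cP.mul cP).1 (cP.mul cP).2).eq,
          mul_assoc (P * P), hnmn, ← mul_assoc, add_mul P P', ← mul_assoc P' P P, hP'P, one_mul, add_mul,
          ← mul_assoc P P P]
      simp only [mul_add, add_mul] at q4 q4' ⊢
      calc _ = P' * (F * P) + P' * (P * P * N) + (F * N * (F * P) + F * N * (P * P * N)) +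
            (F * M * (F * P) + F * M * (P * P * N)) + ((P * (N * M) * (F * P) + P' * (N * M) * (F * P)) +
            (P * (N * M) * (P * P * N) + P' * (N * M) * (P * P * N))) := by abel
        _ = _ := by
          rw [q1, q1', q2, q2', q3, q3', q4, q4']
          rw [show F + P * N + (0 + 0) + (0 + (P * P * F + P * P * F * (N * M))) +
              (P * (F * P) * (N * M) + F * (N * M) + (P * P * P * N + P * N)) =
              F + P * P * F + P * P * P * N + 0 * M +
              (P * (F * P) * (N * M) + F * (N * M) + P * P * F * (N * M)) + (P * N + P * N) by rw [zero_mul]; abel,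
            h2, add_zero]
    have e2 : (A4 + B4 * N) * (P' + F * N + F * M + (P + P') * (N * M)) =
        A4 * P' + (A4 * F + B4 * P') * N + A4 * F * M + (A4 * (P + P') + B4 * F) * (N * M) := by
      have q1 : B4 * N * P' = B4 * P' * N := by rw [mul_assoc, ← cP'.1.eq, mul_assoc]
      have q2 : B4 * N * (F * N) = 0 := by
        rw [mul_assoc, ← mul_assoc N, ← cF.1.eq, mul_assoc F, hN, mul_zero, mul_zero]
      have q3 : B4 * N * (F * M) = B4 * F * (N * M) := by
        rw [mul_assoc, ← mul_assoc N, ← cF.1.eq]; simp only [mul_assoc]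
      have q4 : B4 * N * ((P + P') * (N * M)) = 0 := by
        rw [mul_assoc, ← mul_assoc N, ← (cP.add cP').1.eq, mul_assoc (P + P'), ← mul_assoc N N, hN, zero_mul,
          mul_zero, mul_zero]
      rw [add_mul, mul_add (B4 * N), mul_add (B4 * N), mul_add (B4 * N), q1, q2, q3, q4]
      noncomm_ring
    rw [e1, e2, ← sub_eq_zero, sub_eq_add_neg, hneg] at h'
    have h'' : (F + P * P * F + A4 * P') + (P * P * P + (A4 * F + B4 * P')) * N + A4 * F * M +
        (P * (F * P) + F + P * P * F + (A4 * (P + P') + B4 * F)) * (N * M) = 0 := by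
      refine Eq.trans ?_ h'; simp only [add_mul, zero_mul]; abel
    obtain ⟨c0, -, -, -⟩ := coeff h2 hN hM hNM ((cF.add ((cP.mul cP).mul cF)).add ((hcA _).mul cP'))
      (((cP.mul cP).mul cP).add (((hcA _).mul cF).add ((hcB _).mul cP'))) ((hcA _).mul cF)
      ((((cP.mul (cF.mul cP)).add cF).add ((cP.mul cP).mul cF)).add
        (((hcA _).mul (cP.add cP')).add ((hcB _).mul cF))) h''
    have e : A4 * P' = F + P * P * F := by
      rw [← sub_eq_zero, sub_eq_add_neg, hneg, add_comm]; exact c0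
    calc A4 = A4 * (P' * P) := by rw [hP'P, mul_one]
      _ = _ := by rw [← mul_assoc, e, add_mul, mul_assoc (P * P) F P]
  have hn1 : A 1 = 0 ∧ B 1 = 1 := by
    constructor
    · rw [hAdef, hBdef, hNdef, add_mul, mul_assoc M, hN, mul_zero, zero_add, hnmn, h2]
    · rw [hBdef, hNdef, add_comm, hNM]
  have hstep : ∀ a, A (a + 1) = A a ∧ B (a + 1) = B a + 1 + A a := fun a => by
    have h := hnadd a 1
    rw [hNdef, hnAB (a + 1), hnAB a, add_mul (A a) (B a * N) N, mul_assoc (B a) N N, hN, mul_zero, add_zero] at h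
    rw [← sub_eq_zero, sub_eq_add_neg, hneg] at h
    have h' : (A (a + 1) + A a) + (B (a + 1) + (B a + 1 + A a)) * N + 0 * M + 0 * (N * M) = 0 := by
      refine Eq.trans ?_ h; simp only [add_mul, one_mul, zero_mul, add_zero]; abel
    obtain ⟨c0, c1, -, -⟩ := coeff h2 hN hM hNM ((hcA _).add (hcA a))
      ((hcB _).add (((hcB a).add ⟨Commute.one_left _, Commute.one_left _⟩).add (hcA a)))
      ⟨Commute.zero_left _, Commute.zero_left _⟩ ⟨Commute.zero_left _, Commute.zero_left _⟩ h'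
    exact ⟨by rw [eq_neg_of_add_eq_zero_left c0, hneg], by rw [eq_neg_of_add_eq_zero_left c1, hneg]⟩
  have hA : ∀ c, A (c ^ 2) = 0 := by
    intro c
    by_cases hc : c = 0
    · rw [hc, zero_pow two_ne_zero, hAdef, hBdef, hn0]; simp
    by_cases hc1 : c + 1 = 0
    · rw [CharTwo.add_eq_zero.mp hc1, one_pow]; exact hn1.1
    have h1 := hquart c hc
    have h2' := hquart (c + 1) hc1
    have hs : (c + 1) ^ 2 = c ^ 2 + 1 := by rw [CharTwo.add_sq, one_pow]
    have hs2 : (c ^ 2 + 1) ^ 2 = (c ^ 2) ^ 2 + 1 := by rw [CharTwo.add_sq, one_pow]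
    rw [hs, hs2, (hstep _).1, (hstep _).1, (hstep _).2, h1] at h2'
    have e : A (c ^ 2) + A (c ^ 2) * A (c ^ 2) = 0 := by
      have := sub_eq_zero.mpr h2'
      rw [sub_eq_add_neg, hneg] at this
      calc _ = (A (c ^ 2) + A (c ^ 2) * A (c ^ 2)) + ((A (c ^ 2) + A (c ^ 2)) + (B (c ^ 2) * A (c ^ 2) + B (c ^ 2) * A (c ^ 2))) := by
            rw [h2, h2, add_zero, add_zero]
        _ = A (c ^ 2) + B (c ^ 2) * A (c ^ 2) + (A (c ^ 2) + (B (c ^ 2) + 1 + A (c ^ 2)) * A (c ^ 2)) := by noncomm_ring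
        _ = 0 := this
    rwa [(hAsq _).1, add_zero] at e
  have hA' : ∀ a : K, A a = 0 := fun a => by
    obtain ⟨c, hc⟩ := (Finite.injective_iff_surjective.mp (frobenius_inj K 2)) a
    rw [← hc, frobenius_def]; exact hA c
  have hnB : ∀ a, n a = B a * N := fun a => by rw [hnAB, hA', zero_add]
  have hmB : ∀ a, m a = B a * M := fun a => by rw [hmAB, hA', zero_add]
  have hBadd : ∀ a b, B (a + b) = B a + B b := fun a b => by
    have h0 : n a * n b = 0 := by
      rw [hnB, hnB, mul_assoc, ← mul_assoc N, ← (hcB b).1.eq, mul_assoc (B b), hN, mul_zero, mul_zero]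
    rw [hBdef, hBdef, hBdef, hnadd, h0, add_zero, mul_add, add_mul]; abel
  have hQQ : (N * M) * (N * M) = N * M := by rw [← mul_assoc, hnmn]
  have hB0 : B 0 = 0 := by rw [hBdef, hn0, mul_zero, zero_mul, add_zero]
  have hBmul : ∀ a b, B (a * b) = B a * B b := by
    suffices h : ∀ a b, a ≠ 0 → b ≠ 0 → B (a * b)⁻¹ = B a⁻¹ * B b⁻¹ by
      intro a b
      by_cases ha : a = 0
      · rw [ha, zero_mul, hB0, zero_mul]
      by_cases hb : b = 0
      · rw [hb, mul_zero, hB0, mul_zero]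
      have h' := h a⁻¹ b⁻¹ (inv_ne_zero ha) (inv_ne_zero hb)
      rwa [← mul_inv, inv_inv, inv_inv, inv_inv] at h'
    intro a b ha hb
    have hh' : ∀ c, c ≠ 0 → φ (wEl c * wEl 1) = B c⁻¹ + (B c + B c⁻¹) * (N * M) := fun c hc => by
      rw [hh c hc, hEdef, hA', hA', add_zero, zero_mul, zero_mul, add_zero, add_zero]
    have h := congrArg φ (torus_mul ha hb)
    rw [map_mul φ (wEl a * wEl 1) (wEl b * wEl 1), hh' a ha, hh' b hb, hh' _ (mul_ne_zero ha hb)] at h
    have cQ : ∀ {c : R}, C N M c → Commute c (N * M) := fun hc => hc.1.mul_right hc.2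
    have q1 : ∀ c d : R, C N M d → c * (N * M) * d = c * d * (N * M) := fun c d hd => by
      rw [mul_assoc, ← (cQ hd).eq, mul_assoc]
    rw [add_mul, mul_add, mul_add, q1 _ _ (hcB _), ← mul_assoc (B a⁻¹) (B b + B b⁻¹),
      ← mul_assoc ((B a + B a⁻¹) * (N * M)), q1 _ _ ((hcB b).add (hcB _)),
      mul_assoc ((B a + B a⁻¹) * (B b + B b⁻¹)) (N * M) (N * M), hQQ,
      ← sub_eq_zero, sub_eq_add_neg, hneg] at h
    have h' : (B a⁻¹ * B b⁻¹ + B (a * b)⁻¹) + 0 * N + 0 * M +
        (B a⁻¹ * (B b + B b⁻¹) + (B a + B a⁻¹) * B b⁻¹ + (B a + B a⁻¹) * (B b + B b⁻¹) +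
          (B (a * b) + B (a * b)⁻¹)) * (N * M) = 0 := by
      refine Eq.trans ?_ h; simp only [add_mul, mul_add, zero_mul]; abel
    obtain ⟨c0, -, -, -⟩ := coeff h2 hN hM hNM (((hcB _).mul (hcB _)).add (hcB _))
      ⟨Commute.zero_left _, Commute.zero_left _⟩ ⟨Commute.zero_left _, Commute.zero_left _⟩
      ((((hcB _).mul ((hcB b).add (hcB _))).add (((hcB a).add (hcB _)).mul (hcB _))).add
        (((hcB a).add (hcB _)).mul ((hcB b).add (hcB _))) |>.add ((hcB _).add (hcB _))) h'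
    rw [eq_neg_of_add_eq_zero_left c0, hneg]
  exact ⟨N, M, { toFun := B, map_one' := hn1.2, map_mul' := hBmul, map_zero' := hB0, map_add' := hBadd }, hN, hM, hNM,
    hcB, fun a => by rw [hn, hnB]; rfl, fun a => by rw [hm, hmB]; rfl⟩

end Mod2

section Exponent

variable {K : Type*} [Field K] [Finite K] [CharP K 2] {Q : Type*} [AddCommGroup Q] [Finite Q]

/-- The relation `y * y + y + 1 = 0` in the form `t r t = - t - r`. -/
theorem rel_of_cubic {R : Type*} [Ring R] (φ : Matrix.SpecialLinearGroup (Fin 2) K →* R)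
    (hcub : ∀ a : K, a ≠ 0 → φ (up a * lo a⁻¹) * φ (up a * lo a⁻¹) + φ (up a * lo a⁻¹) + 1 = 0) {a : K}
    (ha : a ≠ 0) : φ (up a) * φ (lo a⁻¹) * φ (up a) = - φ (up a) - φ (lo a⁻¹) := by
  have h := congrArg (· * φ (lo a⁻¹)) (hcub a ha)
  simp only [zero_mul, add_mul, one_mul, map_mul, mul_assoc] at h
  rw [← map_mul φ (lo a⁻¹) (lo a⁻¹), lo_mul, CharTwo.add_self_eq_zero, lo_zero, map_one, mul_one] at h
  rw [mul_assoc, eq_sub_iff_add_eq, eq_neg_iff_add_eq_zero, ← h]
  abel

/-- A module of exponent dividing `4` is elementary. -/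
theorem exp_two (φ : Matrix.SpecialLinearGroup (Fin 2) K →* AddMonoid.End Q) (h4 : ∀ v : Q, 4 • v = 0)
    (hcub : ∀ a : K, a ≠ 0 → φ (up a * lo a⁻¹) * φ (up a * lo a⁻¹) + φ (up a * lo a⁻¹) + 1 = 0)
    {a : K} (ha0 : a ≠ 0) (ha1 : a ≠ 1) (v : Q) : 2 • v = 0 := by
  -- the quotient by the doubles
  let D2 : AddSubgroup Q := (nsmulAddMonoidHom (α := Q) 2).range
  let π : Q →+ Q ⧸ D2 := QuotientAddGroup.mk' D2
  have hπs : Function.Surjective π := QuotientAddGroup.mk'_surjective D2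
  have hπ0 : ∀ q, π q = 0 ↔ ∃ q', 2 • q' = q := fun q => (QuotientAddGroup.eq_zero_iff q).trans AddMonoidHom.mem_range
  have hπ2 : ∀ q : Q, π (2 • q) = 0 := fun q => (hπ0 _).mpr ⟨q, rfl⟩
  have hpres : ∀ f : AddMonoid.End Q, D2 ≤ D2.comap f := fun f => by
    rintro _ ⟨q, rfl⟩; exact ⟨f q, (map_nsmul f 2 q).symm⟩
  let Pr : AddMonoid.End Q →+* AddMonoid.End (Q ⧸ D2) :=
    { toFun := fun f => QuotientAddGroup.map D2 D2 f (hpres f)
      map_one' := AddMonoidHom.ext fun w => by obtain ⟨q, rfl⟩ := hπs w; rfl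
      map_mul' := fun f f' => AddMonoidHom.ext fun w => by obtain ⟨q, rfl⟩ := hπs w; rfl
      map_zero' := AddMonoidHom.ext fun w => by obtain ⟨q, rfl⟩ := hπs w; rfl
      map_add' := fun f f' => AddMonoidHom.ext fun w => by obtain ⟨q, rfl⟩ := hπs w; rfl }
  have hPr : ∀ f q, Pr f (π q) = π (f q) := fun f q => rfl
  have h2V : ∀ x : AddMonoid.End (Q ⧸ D2), x + x = 0 := fun x => AddMonoidHom.ext fun w => by
    obtain ⟨q, hq⟩ := hπs (x w)
    show x w + x w = 0
    rw [← hq, ← two_nsmul, ← map_nsmul, hπ2]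
  obtain ⟨N, M, B, hN, hM, hNM, hB, hup, hlo⟩ := natural h2V (Pr.toMonoidHom.comp φ) (fun b hb => by
    show Pr (φ (up b)) * Pr (φ (lo b⁻¹)) * Pr (φ (up b)) = Pr (φ (up b)) + Pr (φ (lo b⁻¹))
    rw [← map_mul, ← map_mul, rel_of_cubic φ hcub hb, map_sub, map_neg, sub_eq_add_neg,
      neg_eq_of_add_eq_zero_left (h2V _), neg_eq_of_add_eq_zero_left (h2V _)])
  -- the elements
  obtain ⟨T, hT⟩ : ∃ T, φ (up 1) = T := ⟨_, rfl⟩
  obtain ⟨U, hU⟩ : ∃ U, φ (up a) = U := ⟨_, rfl⟩
  obtain ⟨g, hg⟩ : ∃ g, φ (up 1 * lo 1) = g := ⟨_, rfl⟩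
  have hTT : T * T = 1 := by rw [← hT, ← map_mul, up_mul, CharTwo.add_self_eq_zero, up_zero, map_one]
  have hUU : U * U = 1 := by rw [← hU, ← map_mul, up_mul, CharTwo.add_self_eq_zero, up_zero, map_one]
  have hTU : ∀ q, T (U q) = U (T q) := fun q => by
    show (T * U) q = (U * T) q
    rw [← hT, ← hU, ← map_mul, ← map_mul, up_mul, up_mul, add_comm]
  have hgg : ∀ q, g (g q) = - g q - q := fun q => by
    have h := hcub 1 one_ne_zero
    rw [inv_one, hg] at h
    have h' : g (g q) + g q + q = 0 := DFunLike.congr_fun h q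
    rw [eq_sub_iff_add_eq, eq_neg_iff_add_eq_zero]
    rw [← h']; abel
  have hTg : ∀ q, T (g q) = g (g (T q)) := fun q => by
    have hcub' := hcub 1 one_ne_zero
    rw [inv_one, hg] at hcub'
    have h3 : g * (g * g) = 1 := by
      have h := congrArg (g * ·) hcub'
      simp only [mul_add, mul_zero, mul_one] at h
      calc g * (g * g) = (g * (g * g) + g * g + g) - (g * g + g + 1) + 1 := by abel
        _ = 1 := by rw [h, hcub', sub_zero, zero_add]
    have hR : φ (lo 1) * φ (lo 1) = 1 := by rw [← map_mul, lo_mul, CharTwo.add_self_eq_zero, lo_zero, map_one]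
    have hgdef : g = T * φ (lo 1) := by rw [← hg, map_mul, hT]
    have hRT : φ (lo 1) * T = g * g := by
      refine left_inv_eq_right_inv ?_ h3
      rw [hgdef, mul_assoc, ← mul_assoc T T, hTT, one_mul, hR]
    show (T * g) q = (g * g * T) q
    rw [hgdef, ← mul_assoc T T, hTT, one_mul, ← hgdef, ← hRT, mul_assoc, hTT, mul_one]
  have hTT' : ∀ q, T (T q) = q := fun q => DFunLike.congr_fun hTT q
  have hUU' : ∀ q, U (U q) = q := fun q => DFunLike.congr_fun hUU q
  -- coordinates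
  obtain ⟨δ, hδ⟩ : ∃ δ : AddMonoid.End Q, ∀ q, δ q = q + 2 • g q :=
    ⟨1 + (g + g), fun q => by rw [two_nsmul]; rfl⟩
  have hδδ : ∀ q, δ (δ q) = q := fun q => by
    rw [hδ, hδ q, map_add, map_nsmul, hgg]
    calc q + 2 • g q + 2 • (g q + 2 • (- g q - q)) = q + 4 • g q + 4 • (- g q - q) := by
          simp only [smul_add, smul_smul]; abel
      _ = q := by rw [h4, h4, add_zero, add_zero]
  have hTδ : ∀ q, T (δ q) = - δ (T q) := fun q => by
    rw [hδ, hδ, map_add, map_nsmul, hTg, hgg]; simp only [smul_sub, smul_neg]; abel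
  obtain ⟨P₂, hP₂⟩ : ∃ P : AddMonoid.End Q, ∀ q, P q = - δ (T q - q) :=
    ⟨-(δ * (T - 1)), fun q => rfl⟩
  obtain ⟨P₁, hP₁⟩ : ∃ P : AddMonoid.End Q, ∀ q, P q = q - g (P₂ q) :=
    ⟨1 - g * P₂, fun q => rfl⟩
  have hW2 : ∀ q, T (P₂ q) = P₂ q := fun q => by
    rw [hP₂, map_neg, hTδ, map_sub T, hTT', neg_neg, ← map_neg δ, neg_sub]
  have hW1 : ∀ q, T (P₁ q) = P₁ q := fun q => by
    rw [hP₁, map_sub, hTg, hW2, hgg]
    have e : δ (P₂ q) = - (T q - q) := by rw [hP₂, map_neg, hδδ]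
    rw [hδ] at e
    have e1 : T q = q - (P₂ q + 2 • g (P₂ q)) := by rw [e]; abel
    rw [e1]; abel
  have huniq : ∀ w₁ w₂, T w₁ = w₁ → T w₂ = w₂ → w₁ + g w₂ = 0 → w₁ = 0 ∧ w₂ = 0 := by
    intro w₁ w₂ h1 h2 h
    have h' := congrArg T h
    rw [map_add, h1, hTg, h2, map_zero, hgg] at h'
    have hd : δ w₂ = 0 := by
      rw [hδ]
      calc w₂ + 2 • g w₂ = (w₁ + g w₂) - (w₁ + (- g w₂ - w₂)) := by abel
        _ = 0 := by rw [h, h', sub_zero]
    have hw₂ : w₂ = 0 := by rw [← hδδ w₂, hd, map_zero]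
    rw [hw₂, map_zero, add_zero] at h
    exact ⟨h, hw₂⟩
  have hdec : ∀ q, q = P₁ q + g (P₂ q) := fun q => by rw [hP₁]; abel
  obtain ⟨D, hD⟩ : ∃ D : AddMonoid.End Q, ∀ w, D w = P₁ (U (g w)) := ⟨P₁ * U * g, fun w => rfl⟩
  obtain ⟨F, hF⟩ : ∃ F : AddMonoid.End Q, ∀ w, F w = P₂ (U (g w)) := ⟨P₂ * U * g, fun w => rfl⟩
  have hDW : ∀ w, T (D w) = D w := fun w => by rw [hD]; exact hW1 _
  have hUW : ∀ w, T w = w → T (U w) = U w := fun w hw => by rw [hTU, hw]
  have hFeq : ∀ w, T w = w → F w = U w + 2 • D w := by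
    intro w hw
    have e0 : U (g w) = D w + g (F w) := by rw [hD, hF]; exact hdec _
    have e1 := hTU (g w)
    rw [hTg, hw, hgg, map_sub, map_neg, e0, map_add, hTg, hF, hW2, ← hF, hgg, hDW] at e1
    calc F w = U w + 2 • D w + ((- (D w + g (F w)) - U w) - (D w + (- g (F w) - F w))) := by abel
      _ = U w + 2 • D w := by rw [e1, sub_self, add_zero]
  have hrel : ∀ w, T w = w → U (D w) + D (F w) = 0 := by
    intro w hw
    have e0 : ∀ z, U (g z) = D z + g (F z) := fun z => by rw [hD, hF]; exact hdec _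
    have e1 := hUU' (g w)
    rw [e0 w, map_add, e0 (F w)] at e1
    refine (huniq (U (D w) + D (F w)) (F (F w) - w) ?_ ?_ ?_).1
    · rw [map_add, hDW, hUW _ (hDW w)]
    · rw [map_sub, hw, hF (F w), hW2]
    · rw [map_sub, ← sub_eq_zero.mpr e1]; abel
  -- reduction modulo 2
  obtain ⟨Y, hY⟩ : ∃ Y : AddMonoid.End Q, ∀ q, Y q = U q - q := ⟨U - 1, fun q => rfl⟩
  have hπT : ∀ q, π (T q) = π q + N (π q) := fun q => by
    rw [← hPr, ← hT]
    show ((Pr.toMonoidHom.comp φ) (up 1)) (π q) = _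
    rw [hup, map_one, one_mul]; rfl
  have hπU : ∀ q, π (U q) = π q + B a (N (π q)) := fun q => by
    rw [← hPr, ← hU]
    show ((Pr.toMonoidHom.comp φ) (up a)) (π q) = _
    rw [hup]; rfl
  have hNw : ∀ w, T w = w → N (π w) = 0 := fun w hw => by
    have h := hπT w
    rw [hw, left_eq_add] at h
    exact h
  have hπUw : ∀ w, T w = w → π (U w) = π w := fun w hw => by rw [hπU, hNw w hw, map_zero, add_zero]
  have hπF : ∀ w, T w = w → π (F w) = π w := fun w hw => by rw [hFeq w hw, map_add, hπ2, add_zero, hπUw w hw]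
  have hπD : ∀ w, T w = w → π (D w) = B a (π w) := by
    intro w hw
    have e0 : U (g w) = D w + g (F w) := by rw [hD, hF]; exact hdec _
    have h := congrArg π e0
    have hgF : π (g (F w)) = π (g w) := by rw [← hPr, hπF w hw, hPr]
    rw [hπU, map_add, hgF] at h
    have hNg : N (π (g w)) = π w := by
      have h1 := hπT (g w)
      rw [hTg, hw, hgg, map_sub, map_neg] at h1
      calc N (π (g w)) = (π (g w) + N (π (g w))) - π (g w) := by abel
        _ = - π (g w) - π w - π (g w) := by rw [h1]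
        _ = π w + (-(π (g w) + π (g w)) - (π w + π w)) := by abel
        _ = π w := by rw [← two_nsmul, ← two_nsmul, ← map_nsmul π 2 (g w), ← map_nsmul π 2 w, hπ2, hπ2]; abel
    rw [hNg, add_comm] at h
    exact (add_right_cancel h).symm
  have h2W : ∀ w, T w = w → π w = 0 → ∃ w', T w' = w' ∧ 2 • w' = w := by
    intro w hw h
    obtain ⟨q, hq⟩ := (hπ0 w).mp h
    refine ⟨P₁ q, hW1 q, ?_⟩
    have e : (2 • P₁ q - w) + g (2 • P₂ q) = 0 := by
      rw [map_nsmul, sub_add_eq_add_sub, ← smul_add, ← hdec, hq, sub_self]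
    exact sub_eq_zero.mp (huniq _ _ (by rw [map_sub, map_nsmul, hW1, hw]) (by rw [map_nsmul, hW2]) e).1
  have h44 : ∀ q : Q, 2 • (2 • q) = 0 := fun q => by rw [smul_smul]; exact h4 q
  have hY0 : ∀ w, T w = w → π (Y w) = 0 := fun w hw => by rw [hY, map_sub, hπUw w hw, sub_self]
  have h2Y : ∀ w, T w = w → 2 • Y w = 0 := fun w hw => by
    obtain ⟨q, hq⟩ := (hπ0 _).mp (hY0 w hw)
    rw [← hq, h44]
  have hYW : ∀ w, T w = w → T (Y w) = Y w := fun w hw => by rw [hY, map_sub, hUW w hw, hw]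
  have hX : ∀ w, T w = w → Y (D w) - D (Y w) = 2 • (D w + D (D w)) := by
    intro w hw
    have h := hrel w hw
    rw [hFeq w hw, map_add D, map_nsmul, show U (D w) = Y (D w) + D w by rw [hY]; abel,
      show U w = Y w + w by rw [hY]; abel, map_add D] at h
    have h2 : D (Y w) + D (Y w) = 0 := by rw [← two_nsmul, ← map_nsmul, h2Y w hw, map_zero]
    calc Y (D w) - D (Y w) = (Y (D w) + D w + (D (Y w) + D w + 2 • D (D w))) - (D (Y w) + D (Y w)) -
          4 • D w - 4 • D (D w) + 2 • (D w + D (D w)) := by simp only [smul_add]; abel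
      _ = 2 • (D w + D (D w)) := by rw [h, h2, h4, h4]; abel
  have hcomm2 : ∀ w, T w = w → Y (D (D w)) = D (D (Y w)) := by
    intro w hw
    have h1 := hX (D w) (hDW w)
    have h2 := congrArg D (hX w hw)
    rw [map_sub, map_nsmul, map_add] at h2
    have h3 : D (Y (D w)) + D (Y (D w)) = 0 := by rw [← two_nsmul, ← map_nsmul, h2Y _ (hDW w), map_zero]
    have h5 : D (D (Y w)) + D (D (Y w)) = 0 := by
      rw [← two_nsmul, ← map_nsmul, ← map_nsmul, h2Y w hw, map_zero, map_zero]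
    calc Y (D (D w)) = (Y (D (D w)) - D (Y (D w))) - (D (Y (D w)) - D (D (Y w))) +
          (D (Y (D w)) + D (Y (D w))) - (D (D (Y w)) + D (D (Y w))) + D (D (Y w)) := by abel
      _ = D (D (Y w)) := by rw [h1, h2, h3, h5]; abel
  have hpowW : ∀ m w, T w = w → T ((⇑D)^[m] w) = (⇑D)^[m] w ∧ π ((⇑D)^[m] w) = B (a ^ m) (π w) := by
    intro m
    induction m with
    | zero => intro w hw; exact ⟨hw, by rw [pow_zero, map_one]; rfl⟩
    | succ m ih =>
      intro w hw
      rw [Function.iterate_succ_apply']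
      refine ⟨hDW _, ?_⟩
      rw [hπD _ (ih w hw).1, (ih w hw).2, pow_succ', map_mul]; rfl
  have hcommpow : ∀ j w, T w = w → Y ((⇑D)^[2 * j] w) = (⇑D)^[2 * j] (Y w) := by
    intro j
    induction j with
    | zero => intro w _; rfl
    | succ j ih =>
      intro w hw
      rw [show 2 * (j + 1) = 2 * j + 1 + 1 by ring, Function.iterate_succ_apply', Function.iterate_succ_apply',
        Function.iterate_succ_apply', Function.iterate_succ_apply', hcomm2 _ (hpowW _ w hw).1, ih w hw]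
  haveI := Fintype.ofFinite K
  obtain ⟨j, hj⟩ : ∃ j, Fintype.card K = 2 * j := by
    obtain ⟨m, -, hm⟩ := FiniteField.card K 2
    exact ⟨2 ^ ((m : ℕ) - 1), by rw [hm, ← pow_succ', show (m : ℕ) - 1 + 1 = m by have := m.pos; omega]⟩
  have hkey : ∀ w, T w = w → 2 • (D w + D (D w)) = 0 := by
    intro w hw
    rw [← hX w hw]
    have hA : Y ((⇑D)^[2 * j] w) = Y (D w) := by
      obtain ⟨w', hw', e⟩ := h2W ((⇑D)^[2 * j] w - D w) (by rw [map_sub, (hpowW _ w hw).1, hDW]) (by
        rw [map_sub, (hpowW _ w hw).2, hπD w hw, ← hj, FiniteField.pow_card, sub_self])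
      rw [← sub_eq_zero, ← map_sub, ← e, map_nsmul, h2Y w' hw']
    have hB' : (⇑D)^[2 * j] (Y w) = D (Y w) := by
      obtain ⟨w', hw', e⟩ := h2W (Y w) (hYW w hw) (hY0 w hw)
      obtain ⟨w'', hw'', e'⟩ := h2W ((⇑D)^[2 * j] w' - D w') (by rw [map_sub, (hpowW _ w' hw').1, hDW]) (by
        rw [map_sub, (hpowW _ w' hw').2, hπD w' hw', ← hj, FiniteField.pow_card, sub_self])
      rw [← e, iterate_map_nsmul, map_nsmul, ← sub_eq_zero, ← smul_sub, ← e', h44]
    rw [← hA, ← hB', hcommpow j w hw, sub_self]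
  have hW : ∀ w, T w = w → 2 • w = 0 := by
    intro w hw
    -- `B a + B a ^ 2` is injective on the image of the fixed points
    let S : Set (Q ⧸ D2) := π '' {w | T w = w}
    let θ : S → S := fun z => ⟨B (a + a * a) z, by
      obtain ⟨_, w₀, hw₀, rfl⟩ := z
      refine ⟨D w₀ + D (D w₀), by show T _ = _; rw [map_add, hDW, hDW], ?_⟩
      rw [map_add π, hπD w₀ hw₀, hπD _ (hDW w₀), hπD w₀ hw₀, map_add B, map_mul B]; rfl⟩
    have hne : a + a * a ≠ 0 := fun h => ha1 (by
      have h' : a * (1 + a) = 0 := by rw [mul_add, mul_one]; exact h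
      exact (CharTwo.add_eq_zero.mp ((mul_eq_zero.mp h').resolve_left ha0)).symm)
    have hθ : Function.Injective θ := fun z z' e => Subtype.ext (by
      have h := congrArg (fun y => B (a + a * a)⁻¹ y) (congrArg Subtype.val e)
      change (B (a + a * a)⁻¹ * B (a + a * a)) z.1 = (B (a + a * a)⁻¹ * B (a + a * a)) z'.1 at h
      rw [← map_mul, inv_mul_cancel₀ hne, map_one] at h
      exact h)
    obtain ⟨⟨_, w₀, hw₀, rfl⟩, hz⟩ := Finite.injective_iff_surjective.mp hθ ⟨π w, w, hw, rfl⟩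
    have hd : π (w - (D w₀ + D (D w₀))) = 0 := by
      rw [map_sub, map_add, hπD w₀ hw₀, hπD _ (hDW w₀), hπD w₀ hw₀, sub_eq_zero]
      have := congrArg Subtype.val hz
      simp only [θ, map_add B, map_mul B] at this
      exact this.symm
    obtain ⟨q, hq⟩ := (hπ0 _).mp hd
    rw [show w = 2 • q + (D w₀ + D (D w₀)) by rw [hq]; abel, smul_add, h44, hkey w₀ hw₀, add_zero]
  rw [hdec v, smul_add, ← map_nsmul g, hW _ (hW1 v), hW _ (hW2 v), map_zero, add_zero]

end Exponent

end CfsgLib.Higman
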