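import Mathlib.GroupTheory.SpecificGroups.Cyclic
import Mathlib.FieldTheory.Finite.Basic
import Mathlib.RingTheory.IntegralDomain
import Mathlib.NumberTheory.Padics.PadicVal.Basic

/-!
Which elements of a finite field are `k`-th powers.
-/

set_option autoImplicit false

namespace CfsgLib.PowImage

theorem exists_pow_eq_iff {G : Type*} [CommGroup G] [IsCyclic G] [Finite G] (k : ℕ) (x : G) :
    (∃ c, c ^ k = x) ↔ x ^ (Nat.card G / (Nat.card G).gcd k) = 1 := by
  have hle : (powMonoidHom k : G →* G).range ≤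
      (powMonoidHom (Nat.card G / (Nat.card G).gcd k) : G →* G).ker := by
    rintro _ ⟨c, rfl⟩
    rw [MonoidHom.mem_ker, powMonoidHom_apply, powMonoidHom_apply, ← pow_mul,
      ← Nat.mul_div_assoc _ (Nat.gcd_dvd_left _ k), mul_comm, Nat.mul_div_assoc _
      (Nat.gcd_dvd_right _ k), pow_mul, pow_card_eq_one', one_pow]
  have heq := Subgroup.eq_of_le_of_card_ge hle (by
    rw [IsCyclic.card_powMonoidHom_range, IsCyclic.card_powMonoidHom_ker,
      Nat.gcd_eq_right (Nat.div_dvd_of_dvd (Nat.gcd_dvd_left _ k))])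
  simp only [SetLike.ext_iff, MonoidHom.mem_range, MonoidHom.mem_ker, powMonoidHom_apply] at heq
  exact heq x

theorem exists_ne_zero_pow_eq_iff {F : Type*} [Field F] [Fintype F] (k : ℕ) {x : F} (hx : x ≠ 0) :
    (∃ c : F, c ≠ 0 ∧ c ^ k = x) ↔
      x ^ ((Fintype.card F - 1) / (Fintype.card F - 1).gcd k) = 1 := by
  have hcard : Nat.card Fˣ = Fintype.card F - 1 := by
    rw [Nat.card_units, Nat.card_eq_fintype_card]
  have h := exists_pow_eq_iff k (Units.mk0 x hx)
  rw [hcard, Units.ext_iff, Units.val_pow_eq_pow_val, Units.val_mk0, Units.val_one] at h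
  rw [← h]
  constructor
  · rintro ⟨c, hc, e⟩
    exact ⟨Units.mk0 c hc, Units.ext (by simpa using e)⟩
  · rintro ⟨c, e⟩
    exact ⟨c, c.ne_zero, by simpa using congrArg Units.val e⟩

/-- The `2`-part of `N / gcd N k`. -/
theorem val_div_gcd {N k : ℕ} (hN : N ≠ 0) (hk : k ≠ 0) :
    padicValNat 2 (N / N.gcd k) = padicValNat 2 N - min (padicValNat 2 N) (padicValNat 2 k) := by
  rw [padicValNat.div_of_dvd (Nat.gcd_dvd_left N k)]
  congr 1
  rw [← Nat.factorization_def _ Nat.prime_two, Nat.factorization_gcd hN hk, Finsupp.inf_apply,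
    Nat.factorization_def _ Nat.prime_two, Nat.factorization_def _ Nat.prime_two]

theorem div_gcd_ne_zero {N k : ℕ} (hN : N ≠ 0) : N / N.gcd k ≠ 0 :=
  (Nat.div_pos (Nat.le_of_dvd (Nat.pos_of_ne_zero hN) (Nat.gcd_dvd_left N k))
    (Nat.gcd_pos_of_pos_left _ (Nat.pos_of_ne_zero hN))).ne'

end CfsgLib.PowImage
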