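import Mathlib
import Cfsg.Agent.Lib.OmegaCenter
import Cfsg.Agent.Lib.SpinorMatrix

/-! Order of the centre of `Ω` and of `PΩ`. -/

set_option autoImplicit false

namespace CfsgLib.POmegaCard

open QuadraticMap CfsgLib.SpinorMatrix
open scoped commutatorElement

variable {F : Type*} [Field F] [Fintype F] {ι : Type} [Fintype ι] [DecidableEq ι]

/-- `-1 ∈ Ω` -/
def NegMem (F : Type*) [Field F] {ι : Type} [Fintype ι] [DecidableEq ι] (f : (ι → F) → F) : Prop :=
  ∃ g : Cfsg.isometryGroup F f, g ∈ Cfsg.Omega F f ∧ g.1.1 = -1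

variable (Q : QuadraticForm F (ι → F))

theorem center_cases (hn : 5 ≤ Fintype.card ι) (hQ : (polarBilin Q).Nondegenerate)
    (z : Cfsg.Omega F ⇑Q) (hz : z ∈ Subgroup.center (Cfsg.Omega F ⇑Q)) :
    z.1.1.1 = 1 ∨ z.1.1.1 = -1 := by
  classical
  obtain ⟨s, hs, h⟩ := OmegaCenter.central_scalar Q hQ (by rwa [Module.finrank_pi]) (isoEquiv Q z.1)
    (fun g g' => by
      obtain ⟨x, rfl⟩ := (isoEquiv Q).surjective g
      obtain ⟨y, rfl⟩ := (isoEquiv Q).surjective g'
      rw [← map_commutatorElement]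
      refine Commute.map ?_ _
      have hm : ⁅x, y⁆ ∈ Cfsg.Omega F ⇑Q := by
        rw [Cfsg.Omega, commutator_def]
        exact Subgroup.commutator_mem_commutator (Subgroup.mem_top x) (Subgroup.mem_top y)
      exact congrArg Subtype.val (Subgroup.mem_center_iff.mp hz ⟨_, hm⟩).symm)
  have hm : z.1.1.1 = s • (1 : Matrix ι ι F) := Matrix.ext_of_mulVec_single fun i => by
    rw [← isoEquiv_apply, h, Matrix.smul_mulVec, Matrix.one_mulVec]
  rcases mul_self_eq_one_iff.mp hs with rfl | rfl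
  · left; rw [hm, one_smul]
  · right; rw [hm, neg_smul, one_smul]

theorem card_center (hn : 5 ≤ Fintype.card ι) (hQ : (polarBilin Q).Nondegenerate) :
    ((2 : F) = 0 → Nat.card (Subgroup.center (Cfsg.Omega F ⇑Q)) = 1) ∧
    ((2 : F) ≠ 0 → (¬ NegMem F ⇑Q → Nat.card (Subgroup.center (Cfsg.Omega F ⇑Q)) = 1) ∧
      (NegMem F ⇑Q → Nat.card (Subgroup.center (Cfsg.Omega F ⇑Q)) = 2)) := by
  have hext : ∀ z w : Subgroup.center (Cfsg.Omega F ⇑Q), z.1.1.1.1 = w.1.1.1.1 → z = w := fun z w h =>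
    Subtype.ext (Subtype.ext (Subtype.ext (Units.ext h)))
  have hone : (1 : Subgroup.center (Cfsg.Omega F ⇑Q)).1.1.1.1 = 1 := rfl
  have h1 : (∀ z : Subgroup.center (Cfsg.Omega F ⇑Q), z.1.1.1.1 = 1) →
      Nat.card (Subgroup.center (Cfsg.Omega F ⇑Q)) = 1 := fun h =>
    Nat.card_eq_one_iff_unique.mpr ⟨⟨fun z w => hext z w ((h z).trans (h w).symm)⟩, ⟨1⟩⟩
  refine ⟨fun h2 => h1 fun z => ?_, fun h2 => ⟨fun hneg => h1 fun z => ?_, ?_⟩⟩
  · rcases center_cases Q hn hQ z.1 z.2 with h | h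
    · exact h
    · rw [h]
      ext i j
      rw [Matrix.neg_apply]
      linear_combination (-(1 : Matrix ι ι F) i j) * h2
  · exact (center_cases Q hn hQ z.1 z.2).resolve_right fun h => hneg ⟨z.1.1, z.1.2, h⟩
  · rintro ⟨g, hg, hgv⟩
    have hgc : (⟨g, hg⟩ : Cfsg.Omega F ⇑Q) ∈ Subgroup.center (Cfsg.Omega F ⇑Q) := by
      rw [Subgroup.mem_center_iff]
      intro w
      refine Subtype.ext (Subtype.ext (Units.ext ?_))
      show w.1.1.1 * g.1.1 = g.1.1 * w.1.1.1
      rw [hgv, mul_neg, mul_one, neg_mul, one_mul]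
    rw [Nat.card_eq_two_iff]
    refine ⟨1, ⟨_, hgc⟩, fun h => ?_, Set.eq_univ_of_forall fun z => ?_⟩
    · have h' : (1 : Matrix ι ι F) = g.1.1 :=
        congrArg (fun z : Subgroup.center (Cfsg.Omega F ⇑Q) => z.1.1.1.1) h
      have : Nonempty ι := Fintype.card_pos_iff.mp (by omega)
      obtain ⟨i⟩ := this
      have := congrFun (congrFun (h'.trans hgv) i) i
      simp at this
      exact h2 (by linear_combination this)
    · rcases center_cases Q hn hQ z.1 z.2 with h | h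
      · exact Or.inl (hext _ _ (h.trans hone.symm))
      · exact Or.inr (hext _ _ (h.trans hgv.symm))

/-- `|PΩ| |Z(Ω)| [O : Ω] = |O|`. -/
theorem card_POmega (f : (ι → F) → F) :
    Nat.card (Cfsg.POmega F f) * Nat.card (Subgroup.center (Cfsg.Omega F f)) *
      (Cfsg.Omega F f).index = Nat.card (Cfsg.isometryGroup F f) := by
  rw [← Subgroup.card_eq_card_quotient_mul_card_subgroup, Subgroup.card_mul_index]

/-- The three values needed for the orders of `PΩ`. -/
theorem main (f : (ι → F) → F) (hf : ∀ v, f v = Q v) (hn : 5 ≤ Fintype.card ι)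
    (hQ : (polarBilin Q).Nondegenerate) :
    ((2 : F) = 0 → 2 * Nat.card (Cfsg.POmega F f) = Nat.card (Cfsg.isometryGroup F f)) ∧
    ((2 : F) ≠ 0 → (¬ NegMem F f → 4 * Nat.card (Cfsg.POmega F f) = Nat.card (Cfsg.isometryGroup F f)) ∧
      (NegMem F f → 8 * Nat.card (Cfsg.POmega F f) = Nat.card (Cfsg.isometryGroup F f))) := by
  obtain rfl : f = ⇑Q := funext hf
  obtain ⟨c0, c1⟩ := card_center Q hn hQ
  have hcard := card_POmega (F := F) ⇑Q
  refine ⟨fun h2 => ?_, fun h2 => ⟨fun h => ?_, fun h => ?_⟩⟩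
  · rw [← hcard, c0 h2, omega_index_two Q h2 (by omega) hQ (Or.inr (by omega))]; ring
  · rw [← hcard, (c1 h2).1 h, omega_index Q h2 (by omega) hQ]; ring
  · rw [← hcard, (c1 h2).2 h, omega_index Q h2 (by omega) hQ]; ring

end CfsgLib.POmegaCard
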