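import Mathlib
import Cfsg.Prelude.Def_Transfer
import Cfsg.Prelude.Def_BaumannBlocks
import Cfsg.Agent.Lib.Transfer
import Cfsg.Agent.Lib.Tate

/-! The Hall–Wielandt transfer theorem for a weakly closed subgroup acting with small degree. -/

set_option autoImplicit false

namespace CfsgLib.HallWielandt

open scoped commutatorElement Pointwise

variable {G : Type*} [Group G] {A : Type*} [CommGroup A]

open Classical in
/-- A homomorphism of a subgroup, extended by `1`. -/
noncomputable def ext {H : Subgroup G} (φ : H →* A) (y : G) : A := if h : y ∈ H then φ ⟨y, h⟩ else 1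

theorem ext_of_mem {H : Subgroup G} (φ : H →* A) {y : G} (h : y ∈ H) : ext φ y = φ ⟨y, h⟩ := by simp [ext, h]

theorem ext_mul {H : Subgroup G} (φ : H →* A) {x y : G} (hx : x ∈ H) (hy : y ∈ H) :
    ext φ (x * y) = ext φ x * ext φ y := by
  rw [ext_of_mem φ hx, ext_of_mem φ hy, ext_of_mem φ (mul_mem hx hy), ← map_mul]
  rfl

theorem ext_one {H : Subgroup G} (φ : H →* A) : ext φ 1 = 1 := by
  rw [ext_of_mem φ (one_mem H)]
  exact map_one φ

theorem ext_inv {H : Subgroup G} (φ : H →* A) {x : G} (hx : x ∈ H) : ext φ x⁻¹ = (ext φ x)⁻¹ := by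
  rw [ext_of_mem φ hx, ext_of_mem φ (inv_mem hx), ← map_inv]
  rfl

/-- The transfer, computed from a section. -/
theorem transfer_eq_prod_section {H : Subgroup G} [H.FiniteIndex] [hFin : Fintype (G ⧸ H)] (φ : H →* A) (f : G ⧸ H → G)
    (hf : ∀ q, (f q : G ⧸ H) = q) (x : G) :
    MonoidHom.transfer φ x = ∏ q : G ⧸ H, ext φ ((f (x • q))⁻¹ * x * f q) := by
  classical
  obtain rfl := Subsingleton.elim hFin Subgroup.fintypeQuotientOfFiniteIndex
  let := H.fintypeQuotientOfFiniteIndex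
  let T : H.LeftTransversal := ⟨Set.range f, Subgroup.isComplement_range_left hf⟩
  rw [MonoidHom.transfer_def _ T x, Subgroup.leftTransversals.diff]
  symm
  refine Fintype.prod_equiv (MulAction.toPerm x) _ _ fun q => ?_
  have h1 : (T.2.leftQuotientEquiv (x • q) : G) = f (x • q) := Subgroup.IsComplement.leftQuotientEquiv_apply hf _
  have h2 : ((x • T).2.leftQuotientEquiv (x • q) : G) = x * f q := by
    rw [Subgroup.smul_apply_eq_smul_apply_inv_smul, inv_smul_smul,
      Subgroup.IsComplement.leftQuotientEquiv_apply hf]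
    rfl
  have hmem : (f (x • q))⁻¹ * x * f q ∈ H := by
    rw [mul_assoc, ← QuotientGroup.eq, hf]
    show x • q = ((x * f q : G) : G ⧸ H)
    conv_lhs => rw [← hf q]
    rfl
  rw [ext_of_mem φ hmem]
  congr 1
  refine Subtype.ext ?_
  show (f (x • q))⁻¹ * x * f q = (T.2.leftQuotientEquiv (x • q) : G)⁻¹ * ((x • T).2.leftQuotientEquiv (x • q) : G)
  rw [h1, h2, mul_assoc]

/-- The conjugated homomorphism on a point stabilizer. -/
noncomputable def conjHom {H : Subgroup G} (φ : H →* A) (P : Subgroup G) (g : G) :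
    ↥(MulAction.stabilizer P (g : G ⧸ H)) →* A :=
  φ.comp (MonoidHom.codRestrict ((MulAut.conj g⁻¹).toMonoidHom.comp
    (P.subtype.comp (MulAction.stabilizer P (g : G ⧸ H)).subtype)) H fun u => by
      have h1 : ((u : P) : G) • (g : G ⧸ H) = (g : G ⧸ H) := u.2
      have h2 : ((((u : P) : G) * g : G) : G ⧸ H) = (g : G ⧸ H) := h1
      rw [QuotientGroup.eq] at h2
      have h3 := inv_mem h2
      show g⁻¹ * ((u : P) : G) * g⁻¹⁻¹ ∈ H
      rw [inv_inv]
      convert h3 using 1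
      group)

theorem conjHom_apply {H : Subgroup G} (φ : H →* A) (P : Subgroup G) (g : G)
    (u : MulAction.stabilizer P (g : G ⧸ H)) : conjHom φ P g u = ext φ (g⁻¹ * ((u : P) : G) * g) := by
  have h1 : g⁻¹ * ((u : P) : G) * g ∈ H := by
    have h2 : ((((u : P) : G) * g : G) : G ⧸ H) = (g : G ⧸ H) := u.2
    rw [QuotientGroup.eq] at h2
    convert inv_mem h2 using 1
    group
  rw [ext_of_mem φ h1]
  show φ _ = _
  congr 1
  exact Subtype.ext (by simp)

/-- The transfer restricted to a subgroup decomposes along its orbits. -/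
theorem transfer_eq_prod_orbits [Finite G] {H : Subgroup G} (φ : H →* A) (P : Subgroup G) (x : P)
    [Fintype (MulAction.orbitRel.Quotient P (G ⧸ H))] :
    MonoidHom.transfer φ (x : G) =
      ∏ O : MulAction.orbitRel.Quotient P (G ⧸ H),
        MonoidHom.transfer (conjHom φ P (Quotient.out (Quotient.out O : G ⧸ H))) x := by
  classical
  have := Fintype.ofFinite (G ⧸ H)
  set g : MulAction.orbitRel.Quotient P (G ⧸ H) → G := fun O => Quotient.out (Quotient.out O : G ⧸ H) with hg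
  have hgO : ∀ O, ((g O : G) : G ⧸ H) = Quotient.out O := fun O => QuotientGroup.out_eq' _
  have hex : ∀ q : G ⧸ H, ∃ w : P, w • ((g ⟦q⟧ : G) : G ⧸ H) = q := fun q => by
    have h1 : q ∈ MulAction.orbit P ((Quotient.out (⟦q⟧ : MulAction.orbitRel.Quotient P (G ⧸ H))) : G ⧸ H) :=
      MulAction.orbitRel_apply.mp (Quotient.exact (Quotient.out_eq _).symm)
    rw [hgO]
    exact h1
  choose w hw using hex
  have hf : ∀ q : G ⧸ H, ((((w q : P) : G) * g ⟦q⟧ : G) : G ⧸ H) = q := hw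
  rw [transfer_eq_prod_section φ _ hf, ← Fintype.prod_fiberwise (fun q : G ⧸ H => (⟦q⟧ : MulAction.orbitRel.Quotient P (G ⧸ H)))]
  refine Finset.prod_congr rfl fun O _ => ?_
  set S := MulAction.stabilizer P ((g O : G) : G ⧸ H) with hS
  have := Fintype.ofFinite (P ⧸ S)
  have hO : ∀ c : P ⧸ S, (⟦MulAction.ofQuotientStabilizer P ((g O : G) : G ⧸ H) c⟧ :
      MulAction.orbitRel.Quotient P (G ⧸ H)) = O := by
    intro c
    induction c using QuotientGroup.induction_on with
    | H a =>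
      refine (Quotient.sound (MulAction.orbitRel_apply.mpr ?_)).trans (Quotient.out_eq O)
      rw [MulAction.ofQuotientStabilizer_mk, hgO]
      exact MulAction.mem_orbit _ a
  let F : P ⧸ S → P := fun c => w (MulAction.ofQuotientStabilizer P ((g O : G) : G ⧸ H) c)
  have hF : ∀ c, (F c : P ⧸ S) = c := by
    intro c
    refine MulAction.injective_ofQuotientStabilizer P ((g O : G) : G ⧸ H) ?_
    rw [MulAction.ofQuotientStabilizer_mk]
    show w _ • _ = _
    conv_lhs => arg 2; rw [← hO c]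
    exact hw _
  let e : P ⧸ S ≃ {q : G ⧸ H // (⟦q⟧ : MulAction.orbitRel.Quotient P (G ⧸ H)) = O} :=
    Equiv.ofBijective (fun c => ⟨MulAction.ofQuotientStabilizer P ((g O : G) : G ⧸ H) c, hO c⟩) (by
      refine ⟨fun a b h => MulAction.injective_ofQuotientStabilizer P _ (congrArg Subtype.val h), ?_⟩
      rintro ⟨q, hq⟩
      refine ⟨(w q : P ⧸ S), Subtype.ext ?_⟩
      dsimp only
      rw [MulAction.ofQuotientStabilizer_mk, ← hq]
      exact hw q)
  rw [transfer_eq_prod_section _ F hF]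
  symm
  refine Fintype.prod_equiv e _ _ fun c => ?_
  show _ = ext φ (((w ((x : G) • (e c : G ⧸ H)) : P) * g ⟦(x : G) • (e c : G ⧸ H)⟧)⁻¹ * (x : G) *
    ((w (e c : G ⧸ H) : P) * g ⟦(e c : G ⧸ H)⟧))
  have h1 : (x : G) • (e c : G ⧸ H) = MulAction.ofQuotientStabilizer P ((g O : G) : G ⧸ H) (x • c) :=
    (MulAction.ofQuotientStabilizer_smul P _ x c).symm
  have hmem : (F (x • c))⁻¹ * x * F c ∈ S := by
    rw [mul_assoc, ← QuotientGroup.eq, hF]
    show x • c = ((x * F c : P) : P ⧸ S)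
    conv_lhs => rw [← hF c]
    rfl
  rw [h1, hO, show (e c : G ⧸ H) = MulAction.ofQuotientStabilizer P ((g O : G) : G ⧸ H) c from rfl, hO,
    ext_of_mem _ hmem, conjHom_apply]
  congr 1
  show (g O)⁻¹ * (((F (x • c))⁻¹ * x * F c : P) : G) * g O = _
  simp only [Subgroup.coe_mul, Subgroup.coe_inv, F]
  group

/-- A product along an orbit of a map whose high differences vanish. -/
theorem prod_range_eq_one {A : Type*} [CommGroup A] {p : ℕ} [hp : Fact p.Prime] (hA : ∀ a : A, a ^ p = 1) (F : ℕ → A)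
    (hF : ∀ n, (fun f : ℕ → A => fun n => (f n)⁻¹ * f (n + 1))^[p - 1] F n = 1) :
    ∏ i ∈ Finset.range p, F i = 1 := by
  set K : ℕ → Additive A := fun n => ∑ i ∈ Finset.range n, Additive.ofMul (F i) with hK
  have hd : ∀ j n, (fwdDiff (1 : ℕ))^[j + 1] K n =
      Additive.ofMul ((fun f : ℕ → A => fun n => (f n)⁻¹ * f (n + 1))^[j] F n) := by
    intro j
    induction j with
    | zero =>
      intro n
      simp [fwdDiff, hK, Finset.sum_range_succ]
    | succ j ih =>
      intro n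
      rw [Function.iterate_succ_apply' (fwdDiff (1 : ℕ)), fwdDiff, ih, ih, Function.iterate_succ_apply', ofMul_mul, ofMul_inv]
      abel
  have h := shift_eq_sum_fwdDiff_iter (1 : ℕ) K p 0
  rw [Nat.zero_add, smul_eq_mul, mul_one] at h
  have hzero : K p = 0 := by
    rw [h]
    refine Finset.sum_eq_zero fun k hk => ?_
    rcases Nat.eq_zero_or_pos k with rfl | hk0
    · simp [hK]
    rcases Nat.lt_or_ge k p with hlt | hge
    · obtain ⟨q, hq⟩ := hp.out.dvd_choose_self hk0.ne' hlt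
      rw [hq, Nat.mul_comm, mul_nsmul']
      show q • Additive.ofMul ((Additive.toMul ((fwdDiff (1 : ℕ))^[k] K 0)) ^ p) = 0
      rw [hA, ofMul_one, nsmul_zero]
    · obtain rfl : k = p := by have := Finset.mem_range.mp hk; omega
      have e : k = k - 1 + 1 := by have := hp.out.two_le; omega
      conv_lhs => arg 2; rw [e]
      rw [hd, hF, ofMul_one, nsmul_zero]
  simp only [hK] at hzero
  rw [← ofMul_prod] at hzero
  exact ofMul_eq_zero.mp hzero

/-- The transfer through a subgroup of index `p`. -/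
theorem index_prime_transfer {R : Type*} [Group R] [Finite R] {p : ℕ} [hp : Fact p.Prime] (hA : ∀ a : A, a ^ p = 1)
    {S : Subgroup R} [S.Normal] (hidx : S.index = p) (ψ : S →* A) {z : R} (hz : z ∉ S)
    (hcomm : ∀ u ∈ S, (fun y => y⁻¹ * z⁻¹ * y * z)^[p - 1] u = 1) :
    (∀ u ∈ S, MonoidHom.transfer ψ u = 1) ∧ (∀ c, c ∉ S → MonoidHom.transfer ψ c = ext ψ (c ^ p)) := by
  classical
  have := Fintype.ofFinite (R ⧸ S)
  have hQ : Nat.card (R ⧸ S) = p := hidx
  have hbij : ∀ c : R, c ∉ S → Function.Bijective (fun i : Fin p => ((c ^ (i : ℕ) : R) : R ⧸ S)) := by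
    intro c hc
    have hord : orderOf (c : R ⧸ S) = p :=
      ((Nat.dvd_prime hp.out).mp (hQ ▸ orderOf_dvd_natCard _)).resolve_left
        (fun h => hc ((QuotientGroup.eq_one_iff c).mp (orderOf_eq_one_iff.mp h)))
    rw [Nat.bijective_iff_injective_and_card]
    refine ⟨fun i j h => Fin.ext (pow_injOn_Iio_orderOf (x := (c : R ⧸ S)) ?_ ?_ ?_), ?_⟩
    · simp [hord]
    · simp [hord]
    · simpa using h
    · rw [Nat.card_fin, hQ]
  constructor
  · intro u hu
    let e := Equiv.ofBijective _ (hbij z hz)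
    have hf : ∀ q, ((z ^ ((e.symm q : Fin p) : ℕ) : R) : R ⧸ S) = q := fun q => e.apply_symm_apply q
    have hfix : ∀ q : R ⧸ S, u • q = q := by
      intro q
      induction q using QuotientGroup.induction_on with
      | H a =>
        show ((u * a : R) : R ⧸ S) = (a : R ⧸ S)
        rw [QuotientGroup.mk_mul, (QuotientGroup.eq_one_iff u).mpr hu, one_mul]
    rw [transfer_eq_prod_section ψ _ hf]
    simp only [hfix]
    rw [← e.prod_comp, ]
    simp only [Equiv.symm_apply_apply]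
    rw [Fin.prod_univ_eq_prod_range (fun i => ext ψ ((z ^ i)⁻¹ * u * z ^ i)) p]
    refine prod_range_eq_one hA _ fun n => ?_
    set cm := fun y : R => y⁻¹ * z⁻¹ * y * z with hcm
    have hconj : ∀ w ∈ S, ∀ i : ℕ, (z ^ i)⁻¹ * w * z ^ i ∈ S := fun w hw i => by
      simpa using (inferInstance : S.Normal).conj_mem w hw (z ^ i)⁻¹
    have hmemk : ∀ k, cm^[k] u ∈ S := by
      intro k
      induction k with
      | zero => exact hu
      | succ k ih =>
        rw [Function.iterate_succ_apply']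
        show (cm^[k] u)⁻¹ * z⁻¹ * (cm^[k] u) * z ∈ S
        have := mul_mem (inv_mem ih) (hconj _ ih 1)
        simpa [mul_assoc] using this
    have hk : ∀ k i, (fun f : ℕ → A => fun n => (f n)⁻¹ * f (n + 1))^[k]
        (fun i => ext ψ ((z ^ i)⁻¹ * u * z ^ i)) i = ext ψ ((z ^ i)⁻¹ * cm^[k] u * z ^ i) := by
      intro k
      induction k with
      | zero => intro i; rfl
      | succ k ih =>
        intro i
        rw [Function.iterate_succ_apply', Function.iterate_succ_apply']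
        simp only [ih]
        rw [← ext_inv ψ (hconj _ (hmemk k) i), ← ext_mul ψ (inv_mem (hconj _ (hmemk k) i)) (hconj _ (hmemk k) (i + 1))]
        congr 1
        simp only [hcm, pow_succ]
        group
    rw [hk, hcomm u hu]
    simpa using ext_one ψ
  · intro c hc
    let e := Equiv.ofBijective _ (hbij c hc)
    have hf : ∀ q, ((c ^ ((e.symm q : Fin p) : ℕ) : R) : R ⧸ S) = q := fun q => e.apply_symm_apply q
    rw [transfer_eq_prod_section ψ _ hf, ← e.prod_comp]
    simp only [Equiv.symm_apply_apply]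
    have hlast : p - 1 < p := by have := hp.out.two_le; omega
    have hcp : (c ^ p : R) ∈ S := by
      rw [← QuotientGroup.eq_one_iff, QuotientGroup.mk_pow, ← hQ, pow_card_eq_one']
    have hnext : ∀ i : Fin p, c • e i = ((c ^ ((i : ℕ) + 1) : R) : R ⧸ S) := fun i => by
      rw [pow_succ']
      rfl
    rw [Fintype.prod_eq_single (⟨p - 1, hlast⟩ : Fin p)]
    · have h0 : e.symm (c • e ⟨p - 1, hlast⟩) = ⟨0, hp.out.pos⟩ := by
        rw [Equiv.symm_apply_eq, hnext]
        show ((c ^ (p - 1 + 1) : R) : R ⧸ S) = ((c ^ 0 : R) : R ⧸ S)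
        rw [Nat.sub_add_cancel hp.out.one_le, pow_zero, QuotientGroup.mk_one]
        exact (QuotientGroup.eq_one_iff _).mpr hcp
      rw [h0]
      congr 1
      rw [pow_zero, inv_one, one_mul, ← pow_succ', Nat.sub_add_cancel hp.out.one_le]
    · intro i hi
      have hi' : (i : ℕ) + 1 < p := by
        have := i.2
        have : (i : ℕ) ≠ p - 1 := fun h => hi (Fin.ext h)
        omega
      have h0 : e.symm (c • e i) = ⟨(i : ℕ) + 1, hi'⟩ := by
        rw [Equiv.symm_apply_eq, hnext]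
        rfl
      rw [h0]
      rw [show (c ^ ((i : ℕ) + 1))⁻¹ * c * c ^ (i : ℕ) = 1 by rw [mul_assoc, ← pow_succ', inv_mul_cancel]]
      exact ext_one ψ

theorem exists_intermediate {P : Type*} [Group P] [Finite P] {p : ℕ} [hp : Fact p.Prime] (hP : IsPGroup p P)
    {S Q : Subgroup P} [Q.Normal] (h : ¬ Q ≤ S) :
    ∃ R : Subgroup P, S ≤ R ∧ (S.subgroupOf R).Normal ∧ (S.subgroupOf R).index = p ∧ ∃ z ∈ R, z ∈ Q ∧ z ∉ S := by
  set T := S ⊔ Q with hT
  obtain ⟨a, ha⟩ := IsPGroup.iff_card.mp (hP.to_subgroup S)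
  obtain ⟨b, hb⟩ := IsPGroup.iff_card.mp (hP.to_subgroup T)
  have hlt : S < T := lt_of_le_of_ne le_sup_left fun e => h (e ▸ le_sup_right)
  have hab : a < b := by
    rw [← Nat.pow_lt_pow_iff_right hp.out.one_lt, ← ha, ← hb]
    exact lt_of_le_of_ne (Subgroup.card_le_of_le hlt.le) fun e => hlt.ne (Subgroup.eq_of_le_of_card_ge hlt.le e.ge)
  have hdvd : p ^ (a + 1) ∣ Nat.card T := hb ▸ pow_dvd_pow p hab
  obtain ⟨K, hK, hSK⟩ := Sylow.exists_subgroup_card_pow_succ (G := T) hdvd (H := S.subgroupOf T)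
    ((Nat.card_congr (Subgroup.subgroupOfEquivOfLe hlt.le).toEquiv).trans ha)
  set R := K.map T.subtype with hR
  have hRc : Nat.card R = p ^ (a + 1) := by rw [hR, Subgroup.card_map_of_injective T.subtype_injective, hK]
  have hSR : S ≤ R := fun x hx => ⟨⟨x, hlt.le hx⟩, hSK hx, rfl⟩
  have hidx : (S.subgroupOf R).index = p := by
    have h1 := Subgroup.card_mul_index (S.subgroupOf R)
    rw [Nat.card_congr (Subgroup.subgroupOfEquivOfLe hSR).toEquiv, ha, hRc, pow_succ] at h1
    exact Nat.eq_of_mul_eq_mul_left (pow_pos hp.out.pos a) h1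
  refine ⟨R, hSR, Subgroup.normal_of_index_eq_minFac_card ?_, hidx, ?_⟩
  · rw [hidx, hRc, Nat.pow_minFac (Nat.succ_ne_zero a), hp.out.minFac_eq]
  obtain ⟨r, hr, hrS⟩ : ∃ r ∈ R, r ∉ S := SetLike.exists_of_lt (lt_of_le_of_ne hSR fun e => by
    rw [← e, ha] at hRc
    exact absurd (Nat.pow_right_injective hp.out.two_le hRc) (by omega))
  obtain ⟨s, hs, q, hq, rfl⟩ := Subgroup.mem_sup_of_normal_right.mp ((Subgroup.map_subtype_le K) hr)
  refine ⟨q, ?_, hq, fun hqS => hrS (mul_mem hs hqS)⟩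
  have := mul_mem (inv_mem (hSR hs)) hr
  rwa [inv_mul_cancel_left] at this

theorem normalizer_data [Finite G] {p : ℕ} [hp : Fact p.Prime] (P : Sylow p G) {Q : Subgroup G}
    (hQ : Cfsg.IsWeaklyClosed Q (P : Subgroup G)) :
    (P : Subgroup G) ≤ Subgroup.normalizer (Q : Set G) ∧
      ∀ g : G, (∀ y ∈ Q, g⁻¹ * y * g ∈ Subgroup.normalizer (Q : Set G)) → g ∈ Subgroup.normalizer (Q : Set G) := by
  set H := Subgroup.normalizer (Q : Set G)
  have hPH : (P : Subgroup G) ≤ H := fun a ha => Subgroup.mem_normalizer_iff_map_conj_eq.mpr (hQ.2 a (by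
    rintro _ ⟨y, hy, rfl⟩
    exact mul_mem (mul_mem ha (hQ.1 hy)) (inv_mem ha)))
  refine ⟨hPH, fun g hg => ?_⟩
  let Q' := (Q.map (MulAut.conj g⁻¹).toMonoidHom).subgroupOf H
  have hQp : IsPGroup p Q := P.2.to_le hQ.1
  have hle : Q.map (MulAut.conj g⁻¹).toMonoidHom ≤ H := by
    rintro _ ⟨y, hy, rfl⟩
    simpa using hg y hy
  have hQ'p : IsPGroup p Q' := (hQp.map _).of_equiv (Subgroup.subgroupOfEquivOfLe hle).symm
  obtain ⟨T, hT⟩ := hQ'p.exists_le_sylow
  obtain ⟨h, hh⟩ := MulAction.exists_smul_eq H T (P.subtype hPH)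
  have h1 : Q.map (MulAut.conj ((h : G) * g⁻¹)).toMonoidHom ≤ (P : Subgroup G) := by
    rintro _ ⟨y, hy, rfl⟩
    have hm : (⟨_, hle ⟨y, hy, rfl⟩⟩ : H) ∈ (T : Subgroup H) := hT ⟨y, hy, rfl⟩
    have h2 : h * ⟨_, hle ⟨y, hy, rfl⟩⟩ * h⁻¹ ∈ ((h • T : Sylow p H) : Subgroup H) := by
      rw [Sylow.coe_subgroup_smul]
      exact ⟨_, hm, rfl⟩
    rw [hh] at h2
    have h3 : (h : G) * (g⁻¹ * y * g⁻¹⁻¹) * (h : G)⁻¹ ∈ (P : Subgroup G) := h2
    show (h : G) * g⁻¹ * y * ((h : G) * g⁻¹)⁻¹ ∈ (P : Subgroup G)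
    convert h3 using 1
    group
  have h4 : (h : G) * g⁻¹ ∈ H := Subgroup.mem_normalizer_iff_map_conj_eq.mpr (hQ.2 _ h1)
  have h5 := mul_mem (inv_mem h.2) h4
  rw [inv_mul_cancel_left] at h5
  simpa using inv_mem h5

/-- Every homomorphism of the normalizer into a group of exponent `p` agrees with its transfer on `P`. -/
theorem transfer_eq [Finite G] {p : ℕ} [hp : Fact p.Prime] (P : Sylow p G) {Q H : Subgroup G}
    (hQ : Cfsg.IsWeaklyClosed Q (P : Subgroup G)) (hPH : (P : Subgroup G) ≤ H) (hPN : (P : Subgroup G) ≤ Subgroup.normalizer (Q : Set G))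
    (hself : ∀ g : G, (∀ y ∈ Q, g⁻¹ * y * g ∈ H) → g ∈ H)
    (h : ∀ u ∈ (P : Subgroup G), ∀ z ∈ Q, (fun y : G => y⁻¹ * z⁻¹ * y * z)^[p - 1] u = 1)
    (hA : ∀ a : A, a ^ p = 1) (φ : ↥H →* A) {x : G} (hx : x ∈ (P : Subgroup G)) :
    MonoidHom.transfer φ x = ext φ x := by
  classical
  induction hn : orderOf x using Nat.strong_induction_on generalizing x with
  | _ n ih =>
  subst hn
  have hp1 := hp.out.one_lt
  have : Fintype (MulAction.orbitRel.Quotient (P : Subgroup G) (G ⧸ H)) := Fintype.ofFinite _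
  show MonoidHom.transfer φ ((⟨x, hx⟩ : (P : Subgroup G)) : G) = _
  rw [transfer_eq_prod_orbits φ (P : Subgroup G) ⟨x, hx⟩]
  let O₁ : MulAction.orbitRel.Quotient (P : Subgroup G) (G ⧸ H) := ⟦((1 : G) : G ⧸ H)⟧
  rw [Fintype.prod_eq_single O₁]
  · set g := Quotient.out (Quotient.out O₁ : G ⧸ H) with hg
    have hgH : g ∈ H := by
      have h1 : (Quotient.out O₁ : G ⧸ H) ∈ MulAction.orbit (P : Subgroup G) ((1 : G) : G ⧸ H) :=
        MulAction.orbitRel_apply.mp (Quotient.exact (Quotient.out_eq O₁))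
      obtain ⟨a, ha⟩ := h1
      have h2 : ((g : G) : G ⧸ H) = (((a : G) * 1 : G) : G ⧸ H) := (QuotientGroup.out_eq' _).trans ha.symm
      rw [mul_one, QuotientGroup.eq] at h2
      have := mul_mem (hPH a.2) (inv_mem h2)
      simpa using this
    set S := MulAction.stabilizer (P : Subgroup G) (g : G ⧸ H) with hS
    have hS1 : ∀ a : (P : Subgroup G), a ∈ S := fun a => by
      show (((a : G) * g : G) : G ⧸ H) = (g : G ⧸ H)
      rw [QuotientGroup.eq]
      exact mul_mem (inv_mem (mul_mem (hPH a.2) hgH)) hgH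
    have := Fintype.ofFinite ((P : Subgroup G) ⧸ S)
    rw [transfer_eq_prod_section _ (fun _ => 1) (fun q => by
      induction q using QuotientGroup.induction_on with
      | H a => exact QuotientGroup.eq.mpr (hS1 _))]
    rw [Fintype.prod_eq_single ((1 : (P : Subgroup G)) : (P : Subgroup G) ⧸ S)]
    · rw [inv_one, one_mul, mul_one, ext_of_mem _ (hS1 _), conjHom_apply]
      have hgx : g⁻¹ * x * g = g⁻¹ * x * g := rfl
      rw [ext_mul φ (mul_mem (inv_mem hgH) (hPH hx)) hgH, ext_mul φ (inv_mem hgH) (hPH hx), ext_inv φ hgH,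
        mul_comm (ext φ g)⁻¹, inv_mul_cancel_right]
    · intro q hq
      refine absurd ?_ hq
      induction q using QuotientGroup.induction_on with
      | H a => exact QuotientGroup.eq.mpr (hS1 _)
  intro O hO
  set g := Quotient.out (Quotient.out O : G ⧸ H) with hg
  set S := MulAction.stabilizer (P : Subgroup G) (g : G ⧸ H) with hS
  set QP := Q.subgroupOf (P : Subgroup G) with hQP
  have hQPn : QP.Normal := (Subgroup.normal_subgroupOf_iff_le_normalizer hQ.1).mpr hPN
  have hconjS : ∀ a : (P : Subgroup G), a ∈ S → g⁻¹ * (a : G) * g ∈ H := fun a ha => by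
    have h2 : ((((a : G)) * g : G) : G ⧸ H) = (g : G ⧸ H) := ha
    rw [QuotientGroup.eq] at h2
    convert inv_mem h2 using 1
    group
  have hnle : ¬ QP ≤ S := by
    intro hle
    refine hO ?_
    have hgH : g ∈ H := hself g fun y hy => hconjS ⟨y, hQ.1 hy⟩ (hle hy)
    rw [← Quotient.out_eq O, ← QuotientGroup.out_eq' (Quotient.out O : G ⧸ H)]
    show (⟦((g : G) : G ⧸ H)⟧ : MulAction.orbitRel.Quotient (P : Subgroup G) (G ⧸ H)) = O₁
    rw [show ((g : G) : G ⧸ H) = ((1 : G) : G ⧸ H) from QuotientGroup.eq.mpr (by simpa using hgH)]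
  obtain ⟨R, hSR, hSn, hidx, z, hzR, hzQ, hzS⟩ := exists_intermediate P.2 hnle
  let ψ : S.subgroupOf R →* A :=
    (conjHom φ (P : Subgroup G) g).comp (Subgroup.subgroupOfEquivOfLe hSR).toMonoidHom
  obtain ⟨hT1, hT2⟩ := index_prime_transfer hA hidx ψ (z := ⟨z, hzR⟩) hzS (fun u _ => by
    have key : ∀ k, ((((fun y : R => y⁻¹ * (⟨z, hzR⟩ : R)⁻¹ * y * ⟨z, hzR⟩)^[k] u : R) : (P : Subgroup G)) : G) =
        (fun y : G => y⁻¹ * (z : G)⁻¹ * y * (z : G))^[k] ((u : (P : Subgroup G)) : G) := by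
      intro k
      induction k with
      | zero => rfl
      | succ k ih => rw [Function.iterate_succ_apply', Function.iterate_succ_apply', ← ih]; rfl
    refine Subtype.ext (Subtype.ext ?_)
    rw [key]
    exact h _ (u : (P : Subgroup G)).2 _ hzQ)
  -- transitivity of the transfer along `S ≤ R`
  have htrans : ∀ a : (P : Subgroup G),
      MonoidHom.transfer (conjHom φ (P : Subgroup G) g) a = MonoidHom.transfer (MonoidHom.transfer ψ) a := by
    intro a
    have := Fintype.ofFinite ((P : Subgroup G) ⧸ R)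
    have := Fintype.ofFinite (R ⧸ S.subgroupOf R)
    have := Fintype.ofFinite ((P : Subgroup G) ⧸ S)
    let t : (P : Subgroup G) ⧸ R → (P : Subgroup G) := Quotient.out
    let s : R ⧸ S.subgroupOf R → R := Quotient.out
    have ht : ∀ j, (t j : (P : Subgroup G) ⧸ R) = j := QuotientGroup.out_eq'
    have hs : ∀ i, (s i : R ⧸ S.subgroupOf R) = i := QuotientGroup.out_eq'
    have hmk : ∀ b c : (P : Subgroup G), (b : (P : Subgroup G) ⧸ S) = c → (b : (P : Subgroup G) ⧸ R) = c :=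
      fun b c h => QuotientGroup.eq.mpr (hSR (QuotientGroup.eq.mp h))
    have hmkR : ∀ (j : (P : Subgroup G) ⧸ R) (r : R), ((t j * r : (P : Subgroup G)) : (P : Subgroup G) ⧸ R) = j :=
      fun j r => (QuotientGroup.mk_mul_of_mem _ r.2).trans (ht j)
    let e : ((P : Subgroup G) ⧸ R) × (R ⧸ S.subgroupOf R) ≃ (P : Subgroup G) ⧸ S :=
      Equiv.ofBijective (fun ji => ((t ji.1 * (s ji.2 : (P : Subgroup G)) : (P : Subgroup G)) : (P : Subgroup G) ⧸ S))
        (by
          constructor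
          · rintro ⟨j, i⟩ ⟨j', i'⟩ heq
            have hj : j = j' := by
              have := hmk _ _ heq
              rwa [hmkR, hmkR] at this
            subst hj
            refine Prod.ext rfl ?_
            have h2 := QuotientGroup.eq.mp heq
            rw [mul_inv_rev, mul_assoc, inv_mul_cancel_left] at h2
            exact (hs i).symm.trans ((QuotientGroup.eq.mpr (show (s i)⁻¹ * s i' ∈ S.subgroupOf R from h2)).trans (hs i'))
          · intro q
            induction q using QuotientGroup.induction_on with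
            | H b =>
              have hr : (t (b : (P : Subgroup G) ⧸ R))⁻¹ * b ∈ R := QuotientGroup.eq.mp (ht _)
              refine ⟨((b : (P : Subgroup G) ⧸ R), ((⟨_, hr⟩ : R) : R ⧸ S.subgroupOf R)), ?_⟩
              refine QuotientGroup.eq.mpr ?_
              have h2 : ((s ((⟨_, hr⟩ : R) : R ⧸ S.subgroupOf R))⁻¹ * ⟨_, hr⟩ : R) ∈ S.subgroupOf R :=
                QuotientGroup.eq.mp (hs _)
              rw [mul_inv_rev, mul_assoc]
              exact h2)
    let f : (P : Subgroup G) ⧸ S → (P : Subgroup G) := fun q => t (e.symm q).1 * (s (e.symm q).2 : (P : Subgroup G))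
    rw [transfer_eq_prod_section _ f (fun q => e.apply_symm_apply q), transfer_eq_prod_section _ t ht,
      ← e.prod_comp, Fintype.prod_prod_type]
    refine Finset.prod_congr rfl fun j _ => ?_
    have hk : (t (a • j))⁻¹ * a * t j ∈ R := by
      rw [mul_assoc, ← QuotientGroup.eq, ht]
      show a • j = ((a * t j : (P : Subgroup G)) : (P : Subgroup G) ⧸ R)
      conv_lhs => rw [← ht j]
      rfl
    set k : R := ⟨_, hk⟩ with hkdef
    rw [ext_of_mem _ hk, transfer_eq_prod_section ψ s hs]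
    refine Finset.prod_congr rfl fun i _ => ?_
    have hsmul : a • e (j, i) = e (a • j, k • i) := by
      show ((a * (t j * (s i : (P : Subgroup G))) : (P : Subgroup G)) : (P : Subgroup G) ⧸ S) =
        ((t (a • j) * (s (k • i) : (P : Subgroup G)) : (P : Subgroup G)) : (P : Subgroup G) ⧸ S)
      rw [QuotientGroup.eq]
      have h2 : ((k * s i)⁻¹ * s (k • i) : R) ∈ S.subgroupOf R := by
        rw [← QuotientGroup.eq, hs]
        conv_rhs => rw [← hs i]
        rfl
      have h3 : (((k * s i)⁻¹ * s (k • i) : R) : (P : Subgroup G)) ∈ S := h2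
      convert h3 using 1
      simp only [Subgroup.coe_mul, Subgroup.coe_inv, hkdef]
      group
    have hmemR : (s (k • i))⁻¹ * k * s i ∈ S.subgroupOf R := by
      rw [mul_assoc, ← QuotientGroup.eq, hs]
      conv_lhs => rw [← hs i]
      rfl
    have hfe : ∀ ji, f (e ji) = t ji.1 * (s ji.2 : (P : Subgroup G)) := fun ji => by
      simp only [f, Equiv.symm_apply_apply]
    rw [hsmul, hfe, hfe, ext_of_mem ψ hmemR]
    show ext (conjHom φ (P : Subgroup G) g) _ = conjHom φ (P : Subgroup G) g _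
    rw [← ext_of_mem]
    congr 1
    show _ = ((((s (k • i))⁻¹ * k * s i : R)) : (P : Subgroup G))
    simp only [Subgroup.coe_mul, Subgroup.coe_inv, hkdef]
    group
  rw [htrans]
  have := Fintype.ofFinite (Quotient (MulAction.orbitRel (Subgroup.zpowers (⟨x, hx⟩ : (P : Subgroup G))) ((P : Subgroup G) ⧸ R)))
  rw [MonoidHom.transfer_eq_prod_quotient_orbitRel_zpowers_quot]
  refine Finset.prod_eq_one fun q _ => ?_
  set m := Function.minimalPeriod ((⟨x, hx⟩ : (P : Subgroup G)) • ·) q.out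
  set b := (q.out.out : (P : Subgroup G))
  set c : R := ⟨b⁻¹ * (⟨x, hx⟩ : (P : Subgroup G)) ^ m * b,
    QuotientGroup.out_conj_pow_minimalPeriod_mem R (⟨x, hx⟩ : (P : Subgroup G)) q.out⟩ with hcdef
  by_cases hcS : c ∈ S.subgroupOf R
  · exact hT1 c hcS
  rw [hT2 c hcS]
  have hcp : c ^ p ∈ S.subgroupOf R := by
    rw [← QuotientGroup.eq_one_iff, QuotientGroup.mk_pow]
    exact orderOf_dvd_iff_pow_eq_one.mp ((orderOf_dvd_natCard _).trans hidx.dvd)
  rw [ext_of_mem _ hcp]
  show conjHom φ (P : Subgroup G) g _ = 1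
  rw [conjHom_apply]
  set cG : G := ((c : (P : Subgroup G)) : G) with hcG
  show ext φ (g⁻¹ * (((c ^ p : R) : (P : Subgroup G)) : G) * g) = 1
  rw [Subgroup.coe_pow, Subgroup.coe_pow, ← hcG]
  set y := g⁻¹ * cG ^ p * g with hy
  have hyH : y ∈ H := by
    have := hconjS ((c ^ p : R) : (P : Subgroup G)) hcp
    simpa only [Subgroup.coe_pow] using this
  have hc1 : cG ≠ 1 := fun e => hcS (by
    rw [show c = 1 from Subtype.ext (Subtype.ext e)]
    exact one_mem _)
  have hord : orderOf (cG ^ p) < orderOf x := by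
    have h1 : orderOf cG ∣ orderOf x := by
      have e : cG = MulAut.conj (b : G)⁻¹ (x ^ m) := by
        rw [hcG, hcdef, MulAut.conj_apply, inv_inv]
        rfl
      rw [e, MulEquiv.orderOf_eq]
      exact orderOf_pow_dvd m
    obtain ⟨j, hj⟩ := IsPGroup.iff_orderOf.mp P.2 (c : (P : Subgroup G))
    rw [← Subgroup.orderOf_coe, ← hcG] at hj
    have hj0 : j ≠ 0 := fun e => hc1 (orderOf_eq_one_iff.mp (by rw [hj, e, pow_zero]))
    rw [orderOf_pow, hj, Nat.gcd_eq_right (dvd_pow_self p hj0)]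
    exact lt_of_lt_of_le (Nat.div_lt_self (pow_pos hp.out.pos _) hp1)
      (Nat.le_of_dvd (orderOf_pos x) (hj ▸ h1))
  -- conjugate into `P`
  have hyp : IsPGroup p (Subgroup.zpowers (⟨y, hyH⟩ : H)) := by
    obtain ⟨j, hj⟩ := IsPGroup.iff_orderOf.mp P.2 (c : (P : Subgroup G))
    rw [← Subgroup.orderOf_coe, ← hcG] at hj
    have h1 : orderOf (⟨y, hyH⟩ : H) ∣ p ^ j := by
      rw [Subgroup.orderOf_mk, ← hj, show y = MulAut.conj g⁻¹ (cG ^ p) by rw [MulAut.conj_apply, inv_inv],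
        MulEquiv.orderOf_eq]
      exact orderOf_pow_dvd p
    obtain ⟨i, _, hi⟩ := (Nat.dvd_prime_pow hp.out).mp h1
    exact IsPGroup.of_card (n := i) (by rw [Nat.card_zpowers, hi])
  obtain ⟨T, hT⟩ := hyp.exists_le_sylow
  obtain ⟨r, hr⟩ := MulAction.exists_smul_eq H T (P.subtype hPH)
  have h2 : r * ⟨y, hyH⟩ * r⁻¹ ∈ ((r • T : Sylow p H) : Subgroup H) := by
    rw [Sylow.coe_subgroup_smul]
    exact ⟨_, hT (Subgroup.mem_zpowers _), rfl⟩
  rw [hr] at h2
  have hy' : (r : G) * y * (r : G)⁻¹ ∈ (P : Subgroup G) := h2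
  have e : (r : G) * y * (r : G)⁻¹ = MulAut.conj ((r : G) * g⁻¹) (cG ^ p) := by
    rw [hy, MulAut.conj_apply]; group
  have hlt : orderOf ((r : G) * y * (r : G)⁻¹) < orderOf x := by rwa [e, MulEquiv.orderOf_eq]
  have h3 := ih _ hlt hy' rfl
  rw [e, MulAut.conj_apply, map_mul, map_mul, map_inv, mul_comm (MonoidHom.transfer φ ((r : G) * g⁻¹)),
    mul_inv_cancel_right, map_pow, hA, ← MulAut.conj_apply ((r : G) * g⁻¹), ← e,
    ext_mul φ (mul_mem r.2 hyH) (inv_mem r.2), ext_mul φ r.2 hyH, ext_inv φ r.2,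
    mul_comm (ext φ (r : G)), mul_inv_cancel_right] at h3
  exact h3.symm

/-- Tate's lifting: if all such homomorphisms extend, the residuals agree. -/
theorem pResidualOf_normalizer_eq [Finite G] {p : ℕ} [hp : Fact p.Prime] (P : Sylow p G) {Q : Subgroup G}
    (hQ : Cfsg.IsWeaklyClosed Q (P : Subgroup G))
    (h : ∀ u ∈ (P : Subgroup G), ∀ z ∈ Q, (fun y : G => y⁻¹ * z⁻¹ * y * z)^[p - 1] u = 1) :
    Cfsg.pResidualOf p (Subgroup.normalizer (Q : Set G)) =
      Cfsg.pResidual p G ⊓ Subgroup.normalizer (Q : Set G) := by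
  classical
  obtain ⟨hPH, hself⟩ := normalizer_data P hQ
  set H := Subgroup.normalizer (Q : Set G) with hHdef
  set K := Cfsg.pResidual p G with hK
  refine le_antisymm (le_inf (CfsgLib.Transfer.map_pResidual_le H.subtype) (Subgroup.map_subtype_le _)) ?_
  by_contra hne
  set O := Cfsg.pResidual p H with hO
  let π₁ := QuotientGroup.mk' O
  set KB := (K.subgroupOf H).map π₁ with hKB
  have hKBn : KB.Normal := Subgroup.Normal.map inferInstance _ (QuotientGroup.mk'_surjective O)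
  have hKBne : KB ≠ ⊥ := by
    intro e
    rw [hKB, Subgroup.map_eq_bot_iff, QuotientGroup.ker_mk'] at e
    exact hne fun x hx => ⟨⟨x, hx.2⟩, e hx.1, rfl⟩
  obtain ⟨R, hRn, -, hZc, hZcen⟩ :=
    CfsgLib.exists_normal_maximal_below (CfsgLib.Transfer.isPGroup_quotient_pResidual (G := H) (p := p)) hKBne
  let π : H →* (H ⧸ O) ⧸ R := (QuotientGroup.mk' R).comp π₁
  let W := (H ⧸ O) ⧸ R
  set Z : Subgroup W := KB.map (QuotientGroup.mk' R) with hZ
  have hWp : IsPGroup p W := CfsgLib.Transfer.isPGroup_quotient_pResidual.to_quotient R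
  have hπKH : ∀ k : H, (k : G) ∈ K → π k ∈ Z := fun k hk => ⟨π₁ k, ⟨k, hk, rfl⟩, rfl⟩
  have hcent : ∀ w ∈ Z, ∀ v : W, v * w = w * v := fun w hw v => Subgroup.mem_center_iff.mp (hZcen hw) v
  -- the fibre product
  let Gh : Subgroup (G × W) :=
    { carrier := {gw | ∃ h : H, gw.1 * (h : G)⁻¹ ∈ K ∧ (π h)⁻¹ * gw.2 ∈ Z}
      one_mem' := ⟨1, by simp, by simp⟩
      mul_mem' := by
        rintro ⟨g, w⟩ ⟨g', w'⟩ ⟨h₁, a1, b1⟩ ⟨h₂, a2, b2⟩
        refine ⟨h₁ * h₂, ?_, ?_⟩
        · show g * g' * ((h₁ : G) * (h₂ : G))⁻¹ ∈ K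
          have := mul_mem a1 ((inferInstance : K.Normal).conj_mem _ a2 (h₁ : G))
          convert this using 1
          group
        · show (π (h₁ * h₂))⁻¹ * (w * w') ∈ Z
          have hc := hcent _ b1 (π h₂)⁻¹
          have := mul_mem b1 b2
          convert this using 1
          rw [map_mul, mul_inv_rev, mul_assoc, ← mul_assoc (π h₁)⁻¹ w, ← mul_assoc, hc, mul_assoc]
      inv_mem' := by
        rintro ⟨g, w⟩ ⟨h₁, a1, b1⟩
        refine ⟨h₁⁻¹, ?_, ?_⟩
        · show g⁻¹ * ((h₁⁻¹ : H) : G)⁻¹ ∈ K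
          rw [Subgroup.coe_inv, inv_inv]
          have := (inferInstance : K.Normal).conj_mem _ (inv_mem a1) g⁻¹
          convert this using 1
          group
        · show (π h₁⁻¹)⁻¹ * w⁻¹ ∈ Z
          have hc := hcent _ (inv_mem b1) w
          rw [mul_inv_rev, inv_inv, mul_inv_cancel_left] at hc
          rw [map_inv, inv_inv]
          convert inv_mem b1 using 1
          rw [mul_inv_rev, inv_inv]
          conv_lhs => rw [hc, mul_inv_cancel_right] }
  -- a complement on top of the normalizer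
  let fst : Gh →* G := (MonoidHom.fst G W).comp Gh.subtype
  have hfst : Function.Surjective fst := by
    intro g
    obtain ⟨a, ha, k, hk, rfl⟩ : g ∈ ((P : Subgroup G) : Set G) * (K : Set G) := by
      rw [← Subgroup.mul_normal, CfsgLib.Transfer.sylow_sup_pResidual]
      trivial
    refine ⟨⟨(a * k, π ⟨a, hPH ha⟩), ⟨⟨a, hPH ha⟩, ?_, ?_⟩⟩, rfl⟩
    · exact (inferInstance : K.Normal).conj_mem k hk a
    · simp
  set Hh : Subgroup Gh := H.comap fst with hHh
  have hidx : Hh.index = H.index := Subgroup.index_comap_of_surjective H hfst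
  have hval : ∀ v : Hh, (π ⟨fst v.1, v.2⟩)⁻¹ * v.1.1.2 ∈ Z := by
    intro v
    obtain ⟨h₁, a1, b1⟩ := v.1.2
    have h2 : (π ⟨fst v.1, v.2⟩ * (π h₁)⁻¹) ∈ Z := by
      rw [← map_inv, ← map_mul]
      exact hπKH _ a1
    have hc := hcent _ (inv_mem h2)
    have := mul_mem b1 (inv_mem h2)
    rwa [show (π h₁)⁻¹ * v.1.1.2 * (π ⟨fst v.1, v.2⟩ * (π h₁)⁻¹)⁻¹ =
      (π ⟨fst v.1, v.2⟩)⁻¹ * v.1.1.2 by
        rw [mul_assoc, hc]; group] at this
  let _ : CommGroup Z := { (inferInstance : Group Z) with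
    mul_comm := fun a b => Subtype.ext (hcent _ b.2 a) }
  let pr : Hh →* Z :=
    { toFun := fun v => ⟨_, hval v⟩
      map_one' := Subtype.ext (by
        show (π ⟨fst (1 : Hh).1, (1 : Hh).2⟩)⁻¹ * (1 : W) = 1
        rw [mul_one, inv_eq_one]
        exact map_one π)
      map_mul' := fun v v' => by
        refine Subtype.ext ?_
        show (π ⟨fst (v * v').1, (v * v').2⟩)⁻¹ * (v.1.1.2 * v'.1.1.2) =
          (π ⟨fst v.1, v.2⟩)⁻¹ * v.1.1.2 * ((π ⟨fst v'.1, v'.2⟩)⁻¹ * v'.1.1.2)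
        rw [show (⟨fst (v * v').1, (v * v').2⟩ : H) = ⟨fst v.1, v.2⟩ * ⟨fst v'.1, v'.2⟩ from Subtype.ext rfl,
          map_mul, mul_inv_rev]
        have hc := hcent _ (hval v) (π ⟨fst v'.1, v'.2⟩)⁻¹
        rw [mul_assoc, ← mul_assoc (π ⟨fst v.1, v.2⟩)⁻¹, ← mul_assoc, hc, mul_assoc] }
  let V : Gh →* Z := MonoidHom.transfer pr
  have hZp : ∀ z : Z, z ^ p = 1 := fun z => orderOf_dvd_iff_pow_eq_one.mp ((orderOf_dvd_natCard z).trans hZc.dvd)
  have hZpg : IsPGroup p Z := hWp.to_subgroup Z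
  have hVZ : ∀ (w : W) (hw : w ∈ Z) (hm : ((1 : G), w) ∈ Gh), V ⟨(1, w), hm⟩ = (⟨w, hw⟩ : Z) ^ H.index := by
    intro w hw hm
    have hcen : ∀ v : Gh, v * ⟨(1, w), hm⟩ = ⟨(1, w), hm⟩ * v := fun v =>
      Subtype.ext (Prod.ext (show v.1.1 * 1 = 1 * v.1.1 by rw [mul_one, one_mul]) (hcent w hw v.1.2))
    have hcong : ∀ (k : ℕ) (g₀ : Gh), g₀⁻¹ * ⟨(1, w), hm⟩ ^ k * g₀ ∈ Hh →
        g₀⁻¹ * ⟨(1, w), hm⟩ ^ k * g₀ = ⟨(1, w), hm⟩ ^ k := fun k g₀ _ => by
      rw [mul_assoc, ← (Commute.pow_right (hcen g₀) k).eq, inv_mul_cancel_left]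
    show MonoidHom.transfer pr _ = _
    rw [MonoidHom.transfer_eq_pow pr _ hcong, ← hidx]
    have hm' : (⟨(1, w), hm⟩ : Gh) ∈ Hh := one_mem H
    refine (congrArg pr (show _ = (⟨_, hm'⟩ : Hh) ^ Hh.index from Subtype.ext rfl)).trans ?_
    rw [map_pow]
    congr 1
    refine Subtype.ext ?_
    show (π ⟨fst ⟨(1, w), hm⟩, hm'⟩)⁻¹ * w = w
    rw [show (⟨fst ⟨(1, w), hm⟩, hm'⟩ : H) = 1 from Subtype.ext rfl, map_one, inv_one, one_mul]
  let graph : H →* Gh :=
    { toFun := fun h₁ => ⟨((h₁ : G), π h₁), ⟨h₁, by simp, by simp⟩⟩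
      map_one' := Subtype.ext (by simp)
      map_mul' := fun a b => Subtype.ext (by simp) }
  let inK : K →* Gh :=
    { toFun := fun k => ⟨((k : G), 1), ⟨1, by simp, by simp⟩⟩
      map_one' := Subtype.ext (by simp)
      map_mul' := fun a b => Subtype.ext (by simp) }
  let θ : H →* Z := V.comp graph
  have hθK : ∀ k : H, ∀ hk : (k : G) ∈ K, θ k = ⟨π k, hπKH k hk⟩ ^ H.index := by
    intro k hk
    have hm : ((1 : G), π k) ∈ Gh := ⟨1, by simp, by simpa using hπKH k hk⟩
    have h1 : graph k = inK ⟨k, hk⟩ * ⟨(1, π k), hm⟩ := Subtype.ext (Prod.ext (mul_one _).symm (one_mul _).symm)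
    have h2 : V (inK ⟨k, hk⟩) = 1 := by
      have h3 := CfsgLib.Transfer.le_ker_of_isPGroup (p := p) hZpg (V.comp inK)
      rw [CfsgLib.Transfer.pResidual_pResidual] at h3
      exact h3 (Subgroup.mem_top _)
    show V (graph k) = _
    rw [h1, map_mul, h2, one_mul, hVZ _ (hπKH k hk)]
  have hθ1 : ∀ k : H, (k : G) ∈ K → θ k = 1 := by
    intro k hk
    obtain ⟨a, ha, o, ho, rfl⟩ : k ∈ (((P : Subgroup G).subgroupOf H : Subgroup H) : Set H) * (O : Set H) := by
      have h1 := CfsgLib.Transfer.sylow_sup_pResidual (P.subtype hPH)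
      rw [← Subgroup.mul_normal]
      rw [show (((P : Subgroup G).subgroupOf H) ⊔ O : Subgroup H) = ⊤ from h1]
      trivial
    have hoK : (o : G) ∈ K := CfsgLib.Transfer.map_pResidual_le H.subtype ⟨o, ho, rfl⟩
    have haK : (a : G) ∈ K := by
      have := mul_mem hk (inv_mem hoK)
      simpa using this
    have h1 : θ o = 1 := CfsgLib.Transfer.le_ker_of_isPGroup hZpg θ ho
    have h2 : θ a = 1 := by
      have h3 := transfer_eq P hQ hPH hPH hself h hZp θ ha
      rw [Subgroup.subtype_apply, ext_of_mem θ a.2] at h3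
      have h4 : MonoidHom.transfer θ (H.subtype a) = 1 := CfsgLib.Transfer.le_ker_of_isPGroup hZpg _ haK
      rw [Subgroup.subtype_apply] at h4
      rw [h4] at h3
      exact h3.symm
    rw [map_mul, h1, h2, one_mul]
  have hcop : ¬ p ∣ H.index := fun hd => P.not_dvd_index (hd.trans (Subgroup.index_dvd_of_le hPH))
  obtain ⟨w, hw⟩ : ∃ w : Z, w ≠ 1 := by
    have : Nontrivial Z := by rw [← Finite.one_lt_card_iff_nontrivial, hZc]; exact hp.out.one_lt
    exact exists_ne 1
  obtain ⟨_, ⟨k, hk, rfl⟩, hkw⟩ := w.2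
  have h1 := (hθK k hk).symm.trans (hθ1 k hk)
  rw [show (⟨π k, hπKH k hk⟩ : Z) = w from Subtype.ext hkw] at h1
  have h2 : w ^ Nat.gcd H.index p = 1 := pow_gcd_eq_one.mpr ⟨h1, hZp w⟩
  rw [(hp.out.coprime_iff_not_dvd.mpr hcop).symm.gcd_eq_one, pow_one] at h2
  exact hw h2

end CfsgLib.HallWielandt
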