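/-
Maschke's theorem for finite abelian groups.
-/
import Mathlib

set_option autoImplicit false

open scoped IsMulCommutative

namespace CfsgLib

universe u v

/-- In a group of exponent `p` every subgroup has a complement. -/
theorem exists_complement_of_exponent {E : Type u} [CommGroup E] [Finite E] {p : ℕ} [Fact p.Prime]
    (hE : ∀ x : E, x ^ p = 1) (U : Subgroup E) : ∃ K : Subgroup E, U ⊓ K = ⊥ ∧ U ⊔ K = ⊤ := by
  obtain ⟨K, hK, hmax⟩ := (Set.toFinite {K : Subgroup E | U ⊓ K = ⊥}).exists_maximal ⟨⊥, inf_bot_eq _⟩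
  refine ⟨K, hK, eq_top_iff.mpr fun x _ => ?_⟩
  by_contra hx
  have hne : ¬ U ⊓ (K ⊔ Subgroup.zpowers x) = ⊥ := fun h =>
    hx (Subgroup.mem_sup_right (hmax (y := K ⊔ Subgroup.zpowers x) h le_sup_left
      (Subgroup.mem_sup_right (Subgroup.mem_zpowers x))))
  obtain ⟨u, ⟨hu, hu'⟩, hu1⟩ : ∃ u ∈ U ⊓ (K ⊔ Subgroup.zpowers x), u ≠ 1 := by
    by_contra h
    push Not at h
    exact hne ((Subgroup.eq_bot_iff_forall _).mpr h)
  obtain ⟨k, hk, _, ⟨i, rfl⟩, hki⟩ := Subgroup.mem_sup.mp hu'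
  simp only at hki
  have hxi : x ^ i ∈ U ⊔ K := by
    rw [show x ^ i = k⁻¹ * u by rw [← hki, inv_mul_cancel_left]]
    exact (U ⊔ K).mul_mem (Subgroup.mem_sup_right (K.inv_mem hk)) (Subgroup.mem_sup_left hu)
  by_cases hd : (p : ℤ) ∣ i
  · obtain ⟨j, rfl⟩ := hd
    rw [zpow_mul, zpow_natCast, hE, one_zpow, mul_one] at hki
    exact hu1 ((Subgroup.eq_bot_iff_forall _).mp hK u ⟨hu, hki ▸ hk⟩)
  · obtain ⟨a, b, hab⟩ := ((Nat.prime_iff_prime_int.mp Fact.out).coprime_iff_not_dvd).mpr hd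
    apply hx
    have h1 : x = (x ^ i) ^ b := by
      conv_lhs => rw [← zpow_one x, ← hab, zpow_add, mul_comm a, zpow_mul, zpow_natCast, hE, one_zpow, one_mul,
        mul_comm b, zpow_mul]
    rw [h1]
    exact (U ⊔ K).zpow_mem hxi b

/-- A complemented invariant subgroup of an abelian group has an invariant complement. -/
theorem exists_invariant_complement {E : Type u} [CommGroup E] [Finite E] {A : Type v} [Group A] [Finite A]
    (φ : A →* MulAut E) (hcop : (Nat.card A).Coprime (Nat.card E)) {U K : Subgroup E}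
    (hU : ∀ a, ∀ u ∈ U, φ a u ∈ U) (hUK : U ⊓ K = ⊥) (hUK' : U ⊔ K = ⊤) :
    ∃ W : Subgroup E, (∀ a, ∀ w ∈ W, φ a w ∈ W) ∧ U ⊓ W = ⊥ ∧ U ⊔ W = ⊤ := by
  classical
  have := Fintype.ofFinite A
  have hc : U.IsComplement' K := Subgroup.isComplement'_of_disjoint_and_mul_eq_univ (disjoint_iff.mpr hUK)
    (by rw [← Subgroup.mul_normal, hUK', Subgroup.coe_top])
  -- the projection
  have hdec : ∀ x : E, ∃ u ∈ U, u⁻¹ * x ∈ K := fun x => by
    obtain ⟨u, hu, k, hk, rfl⟩ := Subgroup.mem_sup.mp (hUK'.ge (Subgroup.mem_top x))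
    exact ⟨u, hu, by rwa [inv_mul_cancel_left]⟩
  choose π hπU hπK using hdec
  have huniq : ∀ x u, u ∈ U → u⁻¹ * x ∈ K → u = π x := fun x u hu hk => by
    have h1 : u⁻¹ * π x ∈ U ⊓ K := ⟨U.mul_mem (U.inv_mem hu) (hπU x), by
      have := K.mul_mem hk (K.inv_mem (hπK x))
      rwa [show u⁻¹ * x * ((π x)⁻¹ * x)⁻¹ = u⁻¹ * π x by rw [mul_inv_rev, inv_inv, mul_assoc, mul_inv_cancel_left]] at this⟩
    rwa [hUK, Subgroup.mem_bot, inv_mul_eq_one] at h1
  let P : E →* E := ∏ a : A, ((φ a).toMonoidHom.comp (MonoidHom.mk' π fun x y =>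
    (huniq _ _ (U.mul_mem (hπU x) (hπU y)) (by
      have := K.mul_mem (hπK x) (hπK y)
      simpa [mul_assoc, mul_comm, mul_left_comm] using this)).symm)).comp (φ a⁻¹).toMonoidHom
  have hP : ∀ x, P x = ∏ a : A, φ a (π (φ a⁻¹ x)) := fun x => by
    simp [P, MonoidHom.finset_prod_apply]
  have hPU : ∀ x, P x ∈ U := fun x => by
    rw [hP]; exact U.prod_mem fun a _ => hU a _ (hπU _)
  have hPu : ∀ u ∈ U, P u = u ^ Nat.card A := by
    intro u hu
    rw [hP, Finset.prod_eq_pow_card (b := u), Finset.card_univ, Nat.card_eq_fintype_card]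
    intro a _
    rw [← huniq (φ a⁻¹ u) (φ a⁻¹ u) (hU _ _ hu) (by rw [inv_mul_cancel]; exact K.one_mem), ← MulAut.mul_apply,
      ← map_mul, mul_inv_cancel, map_one, MulAut.one_apply]
  refine ⟨P.ker, fun b w hw => ?_, ?_, ?_⟩
  · rw [MonoidHom.mem_ker, hP] at hw ⊢
    rw [← map_one (φ b), ← hw, map_prod]
    refine Fintype.prod_equiv (Equiv.mulLeft b⁻¹) _ _ fun a => ?_
    simp only [Equiv.coe_mulLeft, ← MulAut.mul_apply, ← map_mul, mul_inv_rev, inv_inv, mul_inv_cancel_left]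
  · rw [Subgroup.eq_bot_iff_forall]
    rintro u ⟨hu, hu'⟩
    change P u = 1 at hu'
    rw [hPu u hu] at hu'
    rw [← orderOf_eq_one_iff]
    exact Nat.eq_one_of_dvd_coprimes hcop (orderOf_dvd_of_pow_eq_one hu') (orderOf_dvd_natCard u)
  · rw [eq_top_iff]
    intro x _
    obtain ⟨m, hm⟩ := exists_pow_eq_self_of_coprime (x := P x)
      (hcop.coprime_dvd_right (orderOf_dvd_natCard (P x)))
    have hu : P x ^ m ∈ U := U.pow_mem (hPU x) m
    rw [show x = P x ^ m * ((P x ^ m)⁻¹ * x) by rw [mul_inv_cancel_left]]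
    refine Subgroup.mul_mem_sup hu ?_
    rw [MonoidHom.mem_ker, map_mul, map_inv, hPu _ hu, ← pow_mul, mul_comm m, pow_mul, hm, inv_mul_cancel]

end CfsgLib
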