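import Cfsg.Agent.Lib.UnitaryFourSylow
import Cfsg.Prelude.Def_LieRecognition

/-!
The Sylow 2-subgroup of `PSU(3, 2ⁿ)` is a Suzuki 2-group.
-/

set_option autoImplicit false
set_option linter.unusedSectionVars false

namespace CfsgLib.UnitarySuzuki

open Matrix CfsgLib.PSUBorel
open scoped commutatorElement

variable {F : Type*} [Field F] [Fintype F]

/-- A Heisenberg-type group over a field with `q²` elements, in characteristic two. -/
theorem of_coords {W : Type*} [Group W] [Finite W] (σ : F →+* F) (q : ℕ) (hq : 4 ≤ q) (hq2 : ∃ n, q = 2 ^ n)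
    (hcard : Fintype.card F = q ^ 2) (hσ : ∀ x, σ x = x ^ q) [CharP F 2]
    (hinv : ∀ x, σ (σ x) = x) (hmoved : ∃ t, σ t ≠ t) (htr : ∃ e : F, e + σ e = 1)
    (κ : W → F × F) (hinj : Function.Injective κ)
    (hmul : ∀ x y, κ (x * y) = ((κ x).1 + (κ y).1, (κ y).2 - (κ x).1 * σ (κ y).1 + (κ x).2))
    (hrange : ∀ a b : F, (∃ x, κ x = (a, b)) ↔ b + σ b + a * σ a = 0) :
    Nat.card W = q ^ 3 ∧ Nat.card (Subgroup.center W) = q ∧ Cfsg.IsSuzukiTwoGroup W := by
  classical
  have h2 : (2 : F) = 0 := CharTwo.two_eq_zero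
  obtain ⟨e, he⟩ := htr
  have hone : κ 1 = (0, 0) := by
    have h := hmul 1 1
    rw [mul_one] at h
    have h1 : (κ 1).1 = 0 := by simpa using congrArg Prod.fst h
    have h2 := congrArg Prod.snd h
    simp [h1] at h2
    exact Prod.ext h1 h2
  have hnorm : ∀ a, σ (a * σ a) = a * σ a := fun a => by rw [map_mul, hinv, mul_comm]
  have hlift : ∀ a, ∃ x, κ x = (a, e * (a * σ a)) := fun a => (hrange _ _).mpr (by
    rw [map_mul, hnorm]
    linear_combination (a * σ a) * he + (a * σ a) * h2)
  -- the fixed field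
  let tr : F →+ F := AddMonoidHom.mk' (fun b => b + σ b) fun a b => by rw [map_add]; ring
  have hker : (tr.ker : Set F) = {b | σ b = b} := by
    ext b
    show b + σ b = 0 ↔ σ b = b
    exact ⟨fun h => by linear_combination h - b * h2, fun h => by rw [h, CharTwo.add_self_eq_zero]⟩
  have hran : (tr.range : Set F) = {b | σ b = b} := by
    ext b
    constructor
    · rintro ⟨a, rfl⟩
      show σ (a + σ a) = a + σ a
      rw [map_add, hinv, add_comm]
    · intro (hb : σ b = b)
      exact ⟨e * b, by show e * b + σ (e * b) = b; rw [map_mul, hb, ← add_mul, he, one_mul]⟩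
  have hfix : Nat.card {b : F // σ b = b} = q := by
    have h1 := AddSubgroup.card_mul_index tr.ker
    rw [AddSubgroup.index_ker, Nat.card_eq_fintype_card (α := F), hcard,
      show Nat.card tr.ker = Nat.card {b : F // σ b = b} from Nat.card_congr (Equiv.setCongr hker),
      show Nat.card tr.range = Nat.card {b : F // σ b = b} from Nat.card_congr (Equiv.setCongr hran), ← sq] at h1
    exact Nat.pow_left_injective two_ne_zero h1
  have hmem : ∀ x, (κ x).2 + σ (κ x).2 + (κ x).1 * σ (κ x).1 = 0 := fun x => (hrange _ _).mp ⟨x, rfl⟩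
  let f : W ≃ F × {b : F // σ b = b} := Equiv.ofBijective
    (fun x => ((κ x).1, ⟨(κ x).2 + e * ((κ x).1 * σ (κ x).1), by
      rw [map_add, map_mul, hnorm]
      linear_combination hmem x + ((κ x).1 * σ (κ x).1) * he - ((κ x).2 + (κ x).1 * σ (κ x).1 * e) * h2⟩)) (by
    refine ⟨fun x y h => ?_, fun p => ?_⟩
    · have h1 := congrArg Prod.fst h
      have h3 := congrArg (fun p : F × {b : F // σ b = b} => (p.2 : F)) h
      simp only at h1 h3
      rw [h1] at h3
      exact hinj (Prod.ext h1 (add_right_cancel h3))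
    · obtain ⟨a, b, hb⟩ := p
      obtain ⟨x, hx⟩ := (hrange a (b + e * (a * σ a))).mpr (by
        rw [map_add, map_mul, hnorm, hb]
        linear_combination (a * σ a) * he + b * h2 + (a * σ a) * h2)
      refine ⟨x, Prod.ext (by simp [hx]) (Subtype.ext ?_)⟩
      simp only [hx]
      linear_combination (e * (a * σ a)) * h2)
  have hcardW : Nat.card W = q ^ 3 := by
    rw [Nat.card_congr f, Nat.card_prod, hfix, Nat.card_eq_fintype_card, hcard]
    ring
  -- the centre
  have hcen : ∀ x, x ∈ Subgroup.center W ↔ (κ x).1 = 0 := by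
    intro x
    constructor
    · intro hx
      have key : ∀ a, (κ x).1 * σ a = a * σ (κ x).1 := fun a => by
        obtain ⟨y, hy⟩ := hlift a
        have h := congrArg Prod.snd (congrArg κ (Subgroup.mem_center_iff.mp hx y))
        rw [hmul, hmul, hy] at h
        linear_combination h
      have h1 := key 1
      rw [map_one, mul_one, one_mul] at h1
      obtain ⟨t, ht⟩ := hmoved
      have h3 := key t
      rw [← h1] at h3
      by_contra hne
      exact ht (mul_left_cancel₀ hne (h3.trans (mul_comm _ _)))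
    · intro hx
      refine Subgroup.mem_center_iff.mpr fun y => hinj ?_
      rw [hmul, hmul, hx]
      refine Prod.ext (by simp) ?_
      simp [add_comm]
  have hinvol : ∀ x, x * x = 1 ↔ (κ x).1 = 0 := fun x => by
    rw [← hinj.eq_iff, hmul, hone, Prod.mk.injEq]
    constructor
    · intro hh
      have h3 : (κ x).1 * σ (κ x).1 = 0 := by linear_combination -hh.2 + (κ x).2 * h2
      rcases mul_eq_zero.mp h3 with hh' | hh'
      · exact hh'
      · exact (map_eq_zero σ).mp hh'
    · intro hh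
      rw [hh]
      refine ⟨add_zero _, ?_⟩
      rw [zero_mul, sub_zero, CharTwo.add_self_eq_zero]
  have hcardZ : Nat.card (Subgroup.center W) = q := by
    rw [← hfix]
    refine Nat.card_congr (Equiv.ofBijective (fun z => ⟨(κ z.1).2, ?_⟩) ⟨fun z w h => ?_, fun b => ?_⟩)
    · have h := hmem z.1
      rw [(hcen z.1).mp z.2, zero_mul, add_zero] at h
      linear_combination h - (κ z.1).2 * h2
    · exact Subtype.ext (hinj (Prod.ext (((hcen _).mp z.2).trans ((hcen _).mp w.2).symm) (congrArg Subtype.val h)))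
    · obtain ⟨x, hx⟩ := (hrange 0 b.1).mpr (by rw [b.2, zero_mul, add_zero, CharTwo.add_self_eq_zero])
      exact ⟨⟨x, (hcen x).mpr (by rw [hx])⟩, Subtype.ext (by show (κ x).2 = b.1; rw [hx])⟩
  -- the generator of the fixed field
  obtain ⟨g, hg⟩ := IsCyclic.exists_generator (α := Fˣ)
  have hgord : orderOf g = (q + 1) * (q - 1) := by
    rw [orderOf_eq_card_of_forall_mem_zpowers hg, Nat.card_units, Nat.card_eq_fintype_card, hcard]
    have := Nat.sq_sub_sq q 1
    rw [one_pow] at this
    exact this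
  set μ := g ^ (q + 1) with hμ
  have hμord : orderOf μ = q - 1 := by
    rw [hμ, orderOf_pow' g (by omega), hgord, Nat.gcd_eq_right (Dvd.intro _ rfl), Nat.mul_div_cancel_left _ (by omega)]
  have hμσ : σ (μ : F) = μ := by
    rw [hσ, ← Units.val_pow_eq_pow_val]
    congr 1
    have h1 : μ ^ (q - 1) = 1 := by rw [← hμord, pow_orderOf_eq_one]
    calc μ ^ q = μ ^ (q - 1) * μ := by rw [← pow_succ]; congr 1; omega
      _ = μ := by rw [h1, one_mul]
  set ν := μ * μ with hν
  have hνord : orderOf ν = q - 1 := by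
    rw [hν, ← pow_two, Nat.Coprime.orderOf_pow, hμord]
    rw [hμord]
    obtain ⟨n, hn⟩ := hq2
    refine (Nat.Coprime.symm ((Nat.prime_two.coprime_iff_not_dvd).mpr fun hd => ?_))
    rcases n with _ | n
    · omega
    · rw [hn, pow_succ] at hd hq
      omega
  -- the automorphism
  have hact : ∀ x, ∃ y, κ y = ((μ : F) * (κ x).1, (ν : F) * (κ x).2) := fun x => (hrange _ _).mpr (by
    rw [hν, Units.val_mul, map_mul, map_mul, map_mul, hμσ]
    linear_combination ((μ : F) * μ) * hmem x)
  choose act hact using hact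
  have hbij : Function.Bijective act := Finite.injective_iff_bijective.mp fun x y h => hinj (by
    have h1 := hact x
    rw [h, hact y, Prod.mk.injEq] at h1
    exact Prod.ext (mul_left_cancel₀ μ.ne_zero h1.1).symm (mul_left_cancel₀ ν.ne_zero h1.2).symm)
  let φ : MulAut W := MulEquiv.ofBijective
    ({ toFun := act
       map_one' := hinj (by rw [hact, hone]; simp)
       map_mul' := fun x y => hinj (by
        rw [hact, hmul, hmul, hact, hact]
        refine Prod.ext (by show _ = _; ring) ?_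
        show _ = _
        simp only [map_mul, hμσ, hν, Units.val_mul]
        ring) } : W →* W) hbij
  have hpow : ∀ (i : ℕ) (x : W), κ ((φ ^ i) x) = (((μ ^ i : Fˣ) : F) * (κ x).1, ((ν ^ i : Fˣ) : F) * (κ x).2) := by
    intro i
    induction i with
    | zero => intro x; simp
    | succ i ih =>
      intro x
      rw [pow_succ', MulAut.mul_apply]
      show κ (act ((φ ^ i) x)) = _
      rw [hact, ih, pow_succ' μ, pow_succ' ν, Units.val_mul, Units.val_mul]
      exact Prod.ext (mul_assoc _ _ _).symm (mul_assoc _ _ _).symm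
  have hφpow : φ ^ (q - 1) = 1 := by
    refine MulEquiv.ext fun x => hinj ?_
    rw [hpow, ← hμord, pow_orderOf_eq_one, hμord, ← hνord, pow_orderOf_eq_one]
    simp
  refine ⟨hcardW, hcardZ, inferInstance, ?_, ?_, ?_, Subgroup.zpowers φ, inferInstance, ?_⟩
  · obtain ⟨n, hn⟩ := hq2
    exact IsPGroup.of_card (n := n * 3) (by rw [hcardW, hn, ← pow_mul])
  · obtain ⟨t, ht⟩ := hmoved
    obtain ⟨x, hx⟩ := hlift 1
    obtain ⟨y, hy⟩ := hlift t
    refine ⟨x, y, fun he' => ht ?_⟩
    have h := congrArg Prod.snd (congrArg κ he')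
    rw [hmul, hmul, hx, hy, map_one] at h
    linear_combination -h
  · have h1 : 2 < Nat.card (Subgroup.center W) := by omega
    by_contra hno
    push Not at hno
    have hinj' : Function.Injective (fun z : Subgroup.center W => decide ((z : W) = 1)) := by
      intro z w hzw
      have hzw' : (z : W) = 1 ↔ (w : W) = 1 := by simpa using hzw
      apply Subtype.ext
      by_cases hz : (z : W) = 1
      · rw [hz, hzw'.mp hz]
      · by_contra hne
        exact hno z w hne hz ((hinvol _).mpr ((hcen _).mp z.2)) (fun hw => hz (hzw'.mpr hw))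
          ((hinvol _).mpr ((hcen _).mp w.2))
    have := Nat.card_le_card_of_injective _ hinj'
    simp at this
    omega
  · intro x y hx1 hx hy1 hy
    have hsub : ∀ z : W, z * z = 1 → z ≠ 1 → (κ z).2 ≠ 0 ∧ σ (κ z).2 = (κ z).2 := by
      intro z hz hz1
      have h0 := (hinvol z).mp hz
      refine ⟨fun hh => hz1 (hinj (by rw [hone]; exact Prod.ext h0 hh)), ?_⟩
      have h := hmem z
      rw [h0, zero_mul, add_zero] at h
      linear_combination h - (κ z).2 * h2
    obtain ⟨hbx, hfx⟩ := hsub x hx hx1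
    obtain ⟨hby, hfy⟩ := hsub y hy hy1
    set r : Fˣ := Units.mk0 _ hby / Units.mk0 _ hbx with hr
    have hr1 : r ^ (q - 1) = 1 := by
      apply Units.ext
      rw [Units.val_pow_eq_pow_val, Units.val_one]
      have h3 : σ (r : F) = r := by
        simp only [hr, Units.val_div_eq_div_val, Units.val_mk0, map_div₀, hfx, hfy]
      rw [hσ] at h3
      refine mul_left_cancel₀ r.ne_zero ?_
      rw [← pow_succ', mul_one, show q - 1 + 1 = q by omega, h3]
    obtain ⟨i, hi⟩ : ∃ i : ℕ, ν ^ i = r := by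
      haveI : NeZero (q - 1) := ⟨by omega⟩
      have hprim : IsPrimitiveRoot (ν : F) (q - 1) := by
        rw [← hνord, ← orderOf_units]
        exact IsPrimitiveRoot.orderOf _
      obtain ⟨i, -, hi⟩ := hprim.eq_pow_of_pow_eq_one (ξ := (r : F)) (by rw [← Units.val_pow_eq_pow_val, hr1, Units.val_one])
      exact ⟨i, Units.ext (by rw [Units.val_pow_eq_pow_val]; exact hi)⟩
    have h0x := (hinvol x).mp hx
    have h0y := (hinvol y).mp hy
    have hib : ((ν ^ i : Fˣ) : F) * (κ x).2 = (κ y).2 := by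
      rw [hi, hr, Units.val_div_eq_div_val, Units.val_mk0, Units.val_mk0, div_mul_cancel₀ _ hbx]
    refine ⟨⟨φ ^ i, Subgroup.npow_mem_zpowers φ i⟩, hinj ?_, ?_⟩
    · show κ ((φ ^ i) x) = κ y
      rw [hpow, h0x, mul_zero]
      exact Prod.ext h0y.symm hib
    · rintro ⟨k, hk⟩ (hkx : k x = y)
      obtain ⟨j, rfl⟩ := (mem_powers_iff_mem_zpowers (x := φ)).mpr hk
      apply Subtype.ext
      show φ ^ j = φ ^ i
      have h1 := congrArg Prod.snd (congrArg κ hkx)
      rw [hpow, ← hib] at h1
      have h2' : ν ^ j = ν ^ i := Units.ext (mul_right_cancel₀ hbx h1)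
      rw [pow_eq_pow_iff_modEq, hνord] at h2'
      refine pow_eq_pow_iff_modEq.mpr (h2'.of_dvd ?_)
      exact orderOf_dvd_of_pow_eq_one hφpow

theorem main {n : ℕ} (hn : 2 ≤ n) (hF : Fintype.card F = (2 ^ n) ^ 2) (S : Sylow 2 (Cfsg.PSU 3 F (2 ^ n))) :
    Nat.card S = (2 ^ n) ^ 3 ∧ Nat.card (Subgroup.center (S : Subgroup (Cfsg.PSU 3 F (2 ^ n)))) = 2 ^ n ∧
      Cfsg.IsSuzukiTwoGroup (S : Subgroup (Cfsg.PSU 3 F (2 ^ n))) := by
  classical
  haveI : Fact (Nat.Prime 2) := ⟨Nat.prime_two⟩
  haveI : CharP F 2 := charP_of_card_eq_prime_pow (f := n * 2) (by rw [hF, ← pow_mul])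
  have hK : Fintype.card F = (2 ^ n) ^ 2 := hF
  obtain ⟨-, σ, hσ⟩ := CfsgLib.UnitaryBasic.frob_exists hK
  let c : Conj F := ⟨2 ^ n, σ, hK, hσ⟩
  obtain ⟨E⟩ := exists_iso c (n := 3)
  let φ : SUs c 3 →* Cfsg.PSU 3 F (2 ^ n) := (QuotientGroup.mk' (Subgroup.center (Cfsg.SU 3 F (2 ^ n)))).comp E.toMonoidHom
  have hker : ∀ z ∈ φ.ker, E z ∈ Subgroup.center (Cfsg.SU 3 F (2 ^ n)) := fun z hz => (QuotientGroup.eq_one_iff (E z)).mp hz
  have hc : Cover c 2 φ := by
    refine ⟨(QuotientGroup.mk'_surjective _).comp E.surjective, fun z hz => ?_, Nat.gcd 3 (2 ^ n + 1),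
      Nat.Coprime.coprime_dvd_left (Nat.gcd_dvd_left _ _) (by norm_num), fun z hz => ?_⟩
    · exact Subgroup.mem_center_iff.mpr fun x => E.injective (by
        rw [map_mul, map_mul]; exact Subgroup.mem_center_iff.mp (hker z hz) (E x))
    · apply E.injective
      rw [map_pow, map_one, ← Cfsg.Agent.S0280.center_card hK 3 (by norm_num)]
      exact congrArg Subtype.val (pow_card_eq_one' (x := (⟨E z, hker z hz⟩ : Subgroup.center (Cfsg.SU 3 F (2 ^ n)))))
  obtain ⟨U, hU⟩ := exists_sylow c 2 hc
  have hinj : Function.Injective (φ.comp (UU c 3).subtype) := fun a b h => by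
    obtain ⟨j, hj⟩ := isPGroup_UU c 2 a
    exact Subtype.ext (eq_of_map c 2 hc b.2 (congrArg Subtype.val hj) h)
  have hrng : (φ.comp (UU c 3).subtype).range = (U : Subgroup (Cfsg.PSU 3 F (2 ^ n))) := by
    rw [hU, MonoidHom.range_comp, Subgroup.range_subtype]
  let e : (S : Subgroup (Cfsg.PSU 3 F (2 ^ n))) ≃* UU c 3 :=
    (Sylow.equiv S U).trans ((MulEquiv.subgroupCongr hrng.symm).trans (MonoidHom.ofInjective hinj).symm)
  have hform : ∀ A : UU c 3, A.1.1.1 1 2 = -σ (A.1.1.1 0 1) ∧
      A.1.1.1 0 2 + σ (A.1.1.1 0 2) + A.1.1.1 0 1 * σ (A.1.1.1 0 1) = 0 := by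
    intro A
    have h00 := UU_diag c A.2 (0 : Fin 3)
    have h11 := UU_diag c A.2 (1 : Fin 3)
    have h10 : A.1.1.1 1 0 = 0 := UU_below c A.2 (show (0 : Fin 3) < 1 by decide)
    have h01 := cond_apply c A.1.2 (0 : Fin 3) 1
    have h0 := cond_apply c A.1.2 (0 : Fin 3) 0
    rw [Fin.sum_univ_three, if_neg (by decide)] at h01 h0
    rw [show (0 : Fin 3).rev = 2 from rfl, show (1 : Fin 3).rev = 1 from rfl, show (2 : Fin 3).rev = 0 from rfl] at h01 h0
    change _ + _ * σ _ + _ * σ _ = _ at h01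
    change _ * σ _ + _ * σ _ + _ * σ _ = _ at h01 h0
    rw [h00, h11, h10, map_zero, map_one, one_mul, mul_one, mul_zero, add_zero] at h01
    rw [h00, map_one, one_mul, mul_one] at h0
    refine ⟨?_, by linear_combination h0⟩
    have h3 := congrArg σ h01
    rw [map_add, c.invol, map_zero] at h3
    linear_combination h3
  let κ : UU c 3 → F × F := fun A => (A.1.1.1 0 1, A.1.1.1 0 2)
  refine of_coords σ (2 ^ n) ((show (4:ℕ) = 2 ^ 2 from rfl) ▸ Nat.pow_le_pow_right (by norm_num) hn) ⟨n, rfl⟩ hK hσ c.invol c.exists_moved c.exists_trace_one (fun x => κ (e x)) ?_ (fun x y => ?_) fun a b => ?_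
  · intro x y h
    refine e.injective (Subtype.ext (SUs_ext c ?_))
    have h1 : (e x).1.1.1 0 1 = (e y).1.1.1 0 1 := congrArg Prod.fst h
    have h2 : (e x).1.1.1 0 2 = (e y).1.1.1 0 2 := congrArg Prod.snd h
    ext i j
    fin_cases i <;> fin_cases j
    · exact (UU_diag c (e x).2 0).trans (UU_diag c (e y).2 0).symm
    · exact h1
    · exact h2
    · exact (UU_below c (e x).2 (show (0 : Fin 3) < 1 by decide)).trans
        (UU_below c (e y).2 (show (0 : Fin 3) < 1 by decide)).symm
    · exact (UU_diag c (e x).2 1).trans (UU_diag c (e y).2 1).symm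
    · exact ((hform _).1.trans (congrArg (fun t => -σ t) h1)).trans (hform _).1.symm
    · exact (UU_below c (e x).2 (show (0 : Fin 3) < 2 by decide)).trans
        (UU_below c (e y).2 (show (0 : Fin 3) < 2 by decide)).symm
    · exact (UU_below c (e x).2 (show (1 : Fin 3) < 2 by decide)).trans
        (UU_below c (e y).2 (show (1 : Fin 3) < 2 by decide)).symm
    · exact (UU_diag c (e x).2 2).trans (UU_diag c (e y).2 2).symm
  · show κ (e (x * y)) = _
    rw [map_mul]
    refine Prod.ext ?_ ?_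
    · show ((e x).1.1.1 * (e y).1.1.1) 0 1 = _
      rw [Matrix.mul_apply, Fin.sum_univ_three, UU_diag c (e x).2, UU_diag c (e y).2,
        UU_below c (e y).2 (show (1 : Fin 3) < 2 by decide)]
      show _ = (e x).1.1.1 0 1 + (e y).1.1.1 0 1
      ring
    · show ((e x).1.1.1 * (e y).1.1.1) 0 2 = _
      rw [Matrix.mul_apply, Fin.sum_univ_three, UU_diag c (e x).2, UU_diag c (e y).2, (hform (e y)).1]
      show _ = (e y).1.1.1 0 2 - (e x).1.1.1 0 1 * σ ((e y).1.1.1 0 1) + (e x).1.1.1 0 2
      ring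
  · constructor
    · rintro ⟨x, hx⟩
      have h1 : (e x).1.1.1 0 1 = a := congrArg Prod.fst hx
      have h2 : (e x).1.1.1 0 2 = b := congrArg Prod.snd hx
      rw [← h1, ← h2]
      exact (hform _).2
    · intro hb
      refine ⟨e.symm ⟨r3 c a b hb, ?_⟩, ?_⟩
      · refine ⟨fun i j hij => ?_, fun i j hij => ?_⟩
        · show m3 σ a b i j = 0
          fin_cases i <;> fin_cases j <;> first | rfl | (exfalso; simp at hij)
        · show m3 σ a b i j = (1 : Matrix (Fin 3) (Fin 3) F) i j
          fin_cases i <;> fin_cases j <;> first | rfl | (exfalso; simp at hij) | simp [m3]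
      · show κ (e (e.symm _)) = _
        rw [MulEquiv.apply_symm_apply]
        rfl

end CfsgLib.UnitarySuzuki
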