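import Mathlib
import Cfsg.Prelude.Def_CaseTheorems
import Cfsg.Agent.Lib.Elementary

/-! Two normal non-abelian subgroups with centres of order two in a `2`-group of sectional rank at most four. -/

set_option autoImplicit false

namespace CfsgLib.CentralPair

open scoped commutatorElement

variable {S : Type*} [Group S] [Finite S]

/-- A section of exponent two has order at most `16`. -/
theorem sect_bound (hr : Cfsg.SectionalPRankLE 2 4 S) {X E : Type*} [Group X] [Group E]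
    (ψ : X →* S) (hψ : Function.Injective ψ) (f : X →* E) (hf : Function.Surjective f)
    (hexp : ∀ e : E, e ^ 2 = 1) : Nat.card E ≤ 16 := by
  let e : X ≃* ψ.range := MonoidHom.ofInjective hψ
  let f' : ψ.range →* E := f.comp e.symm.toMonoidHom
  have hf' : Function.Surjective f' := hf.comp e.symm.surjective
  let q := QuotientGroup.quotientKerEquivOfSurjective f' hf'
  have hexp' : ∀ a : ψ.range ⧸ f'.ker, a ^ 2 = 1 := fun a => q.injective (by rw [map_pow, hexp, map_one])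
  have hinv : ∀ a : ψ.range ⧸ f'.ker, a⁻¹ = a := fun a =>
    inv_eq_of_mul_eq_one_right (by rw [← pow_two, hexp'])
  have hcomm : ∀ a b : ψ.range ⧸ f'.ker, a * b = b * a := fun a b => by
    calc a * b = (a * b)⁻¹ := (hinv _).symm
      _ = b * a := by rw [mul_inv_rev, hinv, hinv]
  have h := hr ψ.range f'.ker ⊤ ⟨⟨fun a b => Subtype.ext (hcomm a b)⟩⟩ (fun a _ => hexp' a)
  rw [Subgroup.card_top, Nat.card_congr q.toEquiv] at h
  exact h

theorem frattini_index {P : Type*} [Group P] [Finite P] (h2 : IsPGroup 2 P)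
    (hna : ¬ ∀ x y : P, x * y = y * x) : 4 ≤ (frattini P).index := by
  haveI := Fact.mk Nat.prime_two
  by_contra hlt
  have hne : (frattini P).index ≠ 0 := Subgroup.index_ne_zero_of_finite
  obtain ⟨k, hk⟩ := IsPGroup.iff_card.mp (h2.to_quotient (frattini P))
  rw [← Subgroup.index_eq_card] at hk
  have hk2 : k < 2 := (Nat.pow_lt_pow_iff_right (by norm_num : 1 < 2)).mp (by rw [← hk]; omega)
  obtain ⟨x, hx⟩ : ∃ x : P, Subgroup.zpowers x ⊔ frattini P = ⊤ := by
    interval_cases k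
    · exact ⟨1, by rw [pow_zero, Subgroup.index_eq_one] at hk; rw [hk]; simp⟩
    · haveI : IsCyclic (P ⧸ frattini P) := isCyclic_of_prime_card (p := 2) (by rw [← Subgroup.index_eq_card, hk, pow_one])
      obtain ⟨g, hg⟩ := IsCyclic.exists_generator (α := P ⧸ frattini P)
      obtain ⟨x, rfl⟩ := QuotientGroup.mk_surjective g
      refine ⟨x, top_le_iff.mp fun y _ => ?_⟩
      obtain ⟨i, hi⟩ := hg (y : P ⧸ frattini P)
      have hi' : ((x ^ i : P) : P ⧸ frattini P) = (y : P ⧸ frattini P) := by rw [QuotientGroup.mk_zpow]; exact hi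
      simpa using Subgroup.mul_mem_sup (Subgroup.zpow_mem _ (Subgroup.mem_zpowers x) i) (QuotientGroup.eq.mp hi')
  have htop : Subgroup.zpowers x = ⊤ := frattini_nongenerating hx
  refine hna fun a b => ?_
  obtain ⟨i, rfl⟩ := htop.ge (Subgroup.mem_top a)
  obtain ⟨j, rfl⟩ := htop.ge (Subgroup.mem_top b)
  exact (Commute.zpow_zpow_self x i j).eq

theorem exp_quotient_frattini {P : Type*} [Group P] [Finite P] (h2 : IsPGroup 2 P)
    (e : P ⧸ frattini P) : e ^ 2 = 1 := by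
  haveI := Fact.mk Nat.prime_two
  obtain ⟨x, rfl⟩ := QuotientGroup.mk_surjective e
  exact (QuotientGroup.eq_one_iff _).mpr (CfsgLib.pow_mem_frattini_pGroup h2 x)

/-- `z` is the unique non-trivial central element of `P`. -/
def Zc (P : Subgroup S) (z : S) : Prop :=
  z ∈ P ∧ z ≠ 1 ∧ (∀ x ∈ P, z * x = x * z) ∧ ∀ y ∈ P, (∀ x ∈ P, y * x = x * y) → y = 1 ∨ y = z

theorem z_mem_frattini (h2 : IsPGroup 2 S) {P : Subgroup S} {z : S} (hz : Zc P z)
    (hna : ¬ ∀ x y : ↥P, x * y = y * x) : (⟨z, hz.1⟩ : ↥P) ∈ frattini ↥P := by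
  haveI := Fact.mk Nat.prime_two
  haveI := (h2.to_subgroup P).isNilpotent
  have hne : frattini ↥P ≠ ⊥ := fun h => by
    refine hna fun x y => ?_
    have hm : ⁅x, y⁆ ∈ frattini ↥P := CfsgLib.commutator_le_frattini_pGroup (h2.to_subgroup P)
      (Subgroup.commutator_mem_commutator (Subgroup.mem_top x) (Subgroup.mem_top y))
    rw [h, Subgroup.mem_bot] at hm
    exact commutatorElement_eq_one_iff_mul_comm.mp hm
  obtain ⟨y, ⟨hy, hyc⟩, hy1⟩ := SetLike.exists_of_lt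
    (bot_lt_iff_ne_bot.mpr (CfsgLib.inf_center_ne_bot_of_nilpotent hne))
  rcases hz.2.2.2 _ y.2 (fun x hx => (congrArg Subtype.val (Subgroup.mem_center_iff.mp hyc ⟨x, hx⟩)).symm) with e | e
  · exact absurd (Subgroup.mem_bot.mpr (Subtype.ext e)) hy1
  · rwa [show (⟨z, hz.1⟩ : ↥P) = y from Subtype.ext e.symm]

omit [Finite S] in
theorem exists_zc (P : Subgroup S) (h : Nat.card ↥(Subgroup.center ↥P) = 2) :
    ∃ z, Zc P z ∧ (Subgroup.center ↥P).map P.subtype = Subgroup.closure {z} := by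
  obtain ⟨u, v, huv, huniv⟩ := Nat.card_eq_two_iff.mp h
  obtain ⟨w, hw⟩ : ∃ w : Subgroup.center ↥P, w ≠ 1 := by
    rcases eq_or_ne u 1 with rfl | hu
    · exact ⟨v, huv.symm⟩
    · exact ⟨u, hu⟩
  have hall : ∀ y : Subgroup.center ↥P, y = 1 ∨ y = w := fun y => by
    have h1 : ∀ a : Subgroup.center ↥P, a = u ∨ a = v := fun a => by
      have : a ∈ ({u, v} : Set _) := huniv ▸ Set.mem_univ a
      simpa using this
    rcases h1 1 with e | e <;> rcases h1 w with e' | e' <;> rcases h1 y with e'' | e'' <;>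
      first
        | exact Or.inl (e''.trans e.symm)
        | exact Or.inr (e''.trans e'.symm)
        | exact absurd (e'.trans e.symm) hw
  refine ⟨((w : ↥P) : S), ⟨(w : ↥P).2, fun he => hw (Subtype.ext (Subtype.ext he)), ?_, ?_⟩, ?_⟩
  · intro x hx
    exact (congrArg Subtype.val (Subgroup.mem_center_iff.mp w.2 ⟨x, hx⟩)).symm
  · intro y hy hc
    rcases hall ⟨⟨y, hy⟩, Subgroup.mem_center_iff.mpr fun t => Subtype.ext (hc t t.2).symm⟩ with e | e
    · exact Or.inl (congrArg (fun a : Subgroup.center ↥P => ((a : ↥P) : S)) e)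
    · exact Or.inr (congrArg (fun a : Subgroup.center ↥P => ((a : ↥P) : S)) e)
  · refine le_antisymm ?_ ((Subgroup.closure_le _).mpr (Set.singleton_subset_iff.mpr ⟨(w : ↥P), w.2, rfl⟩))
    rintro _ ⟨y, hy, rfl⟩
    rcases hall ⟨y, hy⟩ with e | e
    · rw [show y = 1 from congrArg Subtype.val e, map_one]; exact one_mem _
    · rw [show y = (w : ↥P) from congrArg Subtype.val e]; exact Subgroup.subset_closure rfl

omit [Finite S] in
theorem fix_z {T P : Subgroup S} {z : S} (hT : ∀ t ∈ T, ∀ x ∈ P, t * x * t⁻¹ ∈ P) (hz : Zc P z)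
    {t : S} (ht : t ∈ T) : t * z * t⁻¹ = z := by
  rcases hz.2.2.2 _ (hT t ht z hz.1) (fun x hx => by
    have h1 := hT _ (T.inv_mem ht) x hx
    rw [inv_inv] at h1
    have h2 := hz.2.2.1 _ h1
    calc t * z * t⁻¹ * x = t * (z * (t⁻¹ * x * t)) * t⁻¹ := by group
      _ = x * (t * z * t⁻¹) := by rw [h2]; group) with e | e
  · exact absurd (by simpa using (conj_eq_one_iff.mp e)) hz.2.1
  · exact e

theorem inter_bot (h2 : IsPGroup 2 S) {T P Q : Subgroup S} {z z' : S} (hPT : P ≤ T) (hQT : Q ≤ T)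
    (hP : ∀ t ∈ T, ∀ x ∈ P, t * x * t⁻¹ ∈ P) (hQ : ∀ t ∈ T, ∀ x ∈ Q, t * x * t⁻¹ ∈ Q)
    (hz : Zc P z) (hz' : Zc Q z') (hne : z ≠ z') : P ⊓ Q = ⊥ := by
  haveI := Fact.mk Nat.prime_two
  haveI := (h2.to_subgroup P).isNilpotent
  by_contra h0
  haveI : ((P ⊓ Q).subgroupOf P).Normal := ⟨fun x hx g =>
    ⟨(g * x * g⁻¹).2, hQ _ (hPT g.2) _ hx.2⟩⟩
  have h1 : (P ⊓ Q).subgroupOf P ≠ ⊥ := fun h => h0 (by
    rw [Subgroup.subgroupOf_eq_bot, disjoint_iff] at h
    rwa [inf_eq_left.mpr (inf_le_left : P ⊓ Q ≤ P)] at h)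
  obtain ⟨y, ⟨hy, hyc⟩, hy1⟩ := SetLike.exists_of_lt
    (bot_lt_iff_ne_bot.mpr (CfsgLib.inf_center_ne_bot_of_nilpotent h1))
  rcases hz.2.2.2 _ y.2 (fun x hx => (congrArg Subtype.val (Subgroup.mem_center_iff.mp hyc ⟨x, hx⟩)).symm) with e | e
  · exact hy1 (Subgroup.mem_bot.mpr (Subtype.ext e))
  have hzQ : z ∈ Q := e ▸ hy.2
  rcases hz'.2.2.2 z hzQ (fun x hx => by
    have := fix_z hP hz (hQT hx)
    exact (mul_inv_eq_iff_eq_mul.mp this).symm) with e' | e'
  · exact hz.2.1 e'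
  · exact hne e'

omit [Finite S] in
theorem commute_of_inter_bot {T P Q : Subgroup S} (hPT : P ≤ T) (hQT : Q ≤ T)
    (hP : ∀ t ∈ T, ∀ x ∈ P, t * x * t⁻¹ ∈ P) (hQ : ∀ t ∈ T, ∀ x ∈ Q, t * x * t⁻¹ ∈ Q)
    (h : P ⊓ Q = ⊥) {x y : S} (hx : x ∈ P) (hy : y ∈ Q) : x * y = y * x := by
  have h1 : x * y * x⁻¹ * y⁻¹ ∈ P := by
    have := P.mul_mem hx (hP y (hQT hy) _ (P.inv_mem hx))
    simpa [mul_assoc] using this
  have h2 : x * y * x⁻¹ * y⁻¹ ∈ Q := Q.mul_mem (hQ x (hPT hx) y hy) (Q.inv_mem hy)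
  have h3 : x * y * x⁻¹ * y⁻¹ ∈ (⊥ : Subgroup S) := h ▸ ⟨h1, h2⟩
  rwa [Subgroup.mem_bot, mul_inv_eq_one, mul_inv_eq_iff_eq_mul] at h3

theorem centralizer_le (h2 : IsPGroup 2 S) (hr : Cfsg.SectionalPRankLE 2 4 S) {T P Q : Subgroup S}
    {z z' : S} (hPT : P ≤ T) (hQT : Q ≤ T) (hP : ∀ t ∈ T, ∀ x ∈ P, t * x * t⁻¹ ∈ P)
    (hQ : ∀ t ∈ T, ∀ x ∈ Q, t * x * t⁻¹ ∈ Q) (hz : Zc P z) (hz' : Zc Q z') (hne : z ≠ z')
    (hPna : ¬ ∀ x y : ↥P, x * y = y * x) (hQna : ¬ ∀ x y : ↥Q, x * y = y * x) {c : S} (hcT : c ∈ T)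
    (hcP : ∀ x ∈ P, c * x = x * c) (hcQ : ∀ y ∈ Q, c * y = y * c) : c ∈ P ⊔ Q := by
  haveI := Fact.mk Nat.prime_two
  have hint := inter_bot h2 hPT hQT hP hQ hz hz' hne
  let ψ : ↥P × ↥Q →* S := MonoidHom.noncommCoprod P.subtype Q.subtype
    fun a b => commute_of_inter_bot hPT hQT hP hQ hint a.2 b.2
  have hψ : Function.Injective ψ := (injective_iff_map_eq_one ψ).mpr fun ⟨a, b⟩ hab => by
    change (a : S) * (b : S) = 1 at hab
    have ha : (a : S) = (b : S)⁻¹ := eq_inv_of_mul_eq_one_left hab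
    have h3 : (a : S) ∈ (⊥ : Subgroup S) := hint ▸ ⟨a.2, ha ▸ Q.inv_mem b.2⟩
    rw [Subgroup.mem_bot] at h3
    simp only [Subgroup.coe_subtype, h3, one_mul] at hab
    exact Prod.ext (Subtype.ext h3) (Subtype.ext hab)
  have hrange : ψ.range = P ⊔ Q :=
    (MonoidHom.noncommCoprod_range _ _ _).trans (by rw [Subgroup.range_subtype, Subgroup.range_subtype])
  classical
  by_contra hc
  -- reduce to `c * c ∈ P ⊔ Q`
  obtain ⟨k, hk⟩ := h2 c
  have hex : ∃ j, c ^ 2 ^ j ∈ P ⊔ Q := ⟨k, hk ▸ one_mem _⟩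
  have hj0 : Nat.find hex ≠ 0 := fun h => hc (by simpa [h] using Nat.find_spec hex)
  obtain ⟨j, hj⟩ := Nat.exists_eq_succ_of_ne_zero hj0
  set d := c ^ 2 ^ j with hd
  have hdD : d ∉ P ⊔ Q := Nat.find_min hex (by omega)
  have hd2 : d * d ∈ P ⊔ Q := by
    have := Nat.find_spec hex
    rwa [hj, pow_succ, pow_mul, pow_two] at this
  have hdP : ∀ x ∈ P, d * x = x * d := fun x hx => ((show Commute c x from hcP x hx).pow_left _).eq
  have hdQ : ∀ x ∈ Q, d * x = x * d := fun x hx => ((show Commute c x from hcQ x hx).pow_left _).eq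
  have hdψ : ∀ u, Commute d (ψ u) := fun u => by
    change Commute d ((u.1 : S) * u.2)
    exact Commute.mul_right (hdP _ u.1.2) (hdQ _ u.2.2)
  have hdH : ∀ g : S, g ∈ Subgroup.zpowers d → ∀ u, Commute g (ψ u) := by
    rintro _ ⟨i, rfl⟩ u
    exact (hdψ u).zpow_left i
  let χ : (↥P × ↥Q) × ↥(Subgroup.zpowers d) →* S :=
    MonoidHom.noncommCoprod ψ (Subgroup.zpowers d).subtype fun u g => (hdH g g.2 u).symm
  set H := χ.range with hH
  let F : Subgroup ↥H := (((frattini ↥P).prod (frattini ↥Q)).map ψ).subgroupOf H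
  have hdd : d * d ∈ ((frattini ↥P).prod (frattini ↥Q)).map ψ := by
    obtain ⟨⟨a, b⟩, hab⟩ : d * d ∈ ψ.range := hrange ▸ hd2
    refine ⟨(a, b), ⟨?_, ?_⟩, hab⟩
    · -- the `P`-part is central in `P`
      have ha : ∀ x ∈ P, (a : S) * x = x * a := by
        intro x hx
        have hb : (b : S) * x = x * b := (commute_of_inter_bot hPT hQT hP hQ hint hx b.2).symm
        have hab' : (a : S) * b * x = x * ((a : S) * b) := by
          rw [show (a : S) * b = d * d from hab]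
          rw [mul_assoc, hdP x hx, ← mul_assoc, hdP x hx, mul_assoc]
        have := mul_assoc (a : S) b x ▸ hab'
        rw [hb, ← mul_assoc, ← mul_assoc] at this
        exact mul_right_cancel this
      rcases hz.2.2.2 _ a.2 ha with e | e
      · rw [show a = 1 from Subtype.ext e]; exact one_mem _
      · rw [show a = ⟨z, hz.1⟩ from Subtype.ext e]
        exact z_mem_frattini h2 hz hPna
    · have hb : ∀ x ∈ Q, (b : S) * x = x * b := by
        intro x hx
        have ha : (a : S) * x = x * a := commute_of_inter_bot hPT hQT hP hQ hint a.2 hx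
        have hab' : (a : S) * b * x = x * ((a : S) * b) := by
          rw [show (a : S) * b = d * d from hab]
          rw [mul_assoc, hdQ x hx, ← mul_assoc, hdQ x hx, mul_assoc]
        rw [← mul_assoc, ← ha, mul_assoc, mul_assoc] at hab'
        exact mul_left_cancel hab'
      rcases hz'.2.2.2 _ b.2 hb with e | e
      · rw [show b = 1 from Subtype.ext e]; exact one_mem _
      · rw [show b = ⟨z', hz'.1⟩ from Subtype.ext e]
        exact z_mem_frattini h2 hz' hQna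
  haveI hFn : F.Normal := by
    refine ⟨fun x hx g => ?_⟩
    obtain ⟨⟨u, w⟩, hg⟩ := g.2
    obtain ⟨v, hv, hxv⟩ := hx
    refine ⟨u * v * u⁻¹, ?_, ?_⟩
    · exact (inferInstance : ((frattini ↥P).prod (frattini ↥Q)).Normal).conj_mem v hv u
    · have hg' : ψ u * (w : S) = (g : S) := hg
      have hc := (hdH w w.2 v).eq
      have hxv' : ψ v = (x : S) := hxv
      change ψ (u * v * u⁻¹) = (g : S) * (x : S) * (g : S)⁻¹
      rw [← hg', ← hxv', map_mul, map_mul, map_inv]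
      calc ψ u * ψ v * (ψ u)⁻¹ = ψ u * (ψ v * (w : S) * (w : S)⁻¹) * (ψ u)⁻¹ := by group
        _ = ψ u * ((w : S) * ψ v * (w : S)⁻¹) * (ψ u)⁻¹ := by rw [hc]
        _ = _ := by group
  have hexp : ∀ e : ↥H ⧸ F, e ^ 2 = 1 := by
    intro e
    obtain ⟨g, rfl⟩ := QuotientGroup.mk_surjective e
    rw [← QuotientGroup.mk_pow, QuotientGroup.eq_one_iff]
    change (g : S) ^ 2 ∈ ((frattini ↥P).prod (frattini ↥Q)).map ψ
    obtain ⟨⟨u, w⟩, hg⟩ := g.2
    have hg' : ψ u * (w : S) = (g : S) := hg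
    obtain ⟨i, hi⟩ := w.2
    rw [← hg', (hdH w w.2 u).symm.mul_pow]
    refine mul_mem ?_ ?_
    · refine ⟨u ^ 2, ⟨CfsgLib.pow_mem_frattini_pGroup (h2.to_subgroup P) u.1,
        CfsgLib.pow_mem_frattini_pGroup (h2.to_subgroup Q) u.2⟩, map_pow ψ u 2⟩
    · rw [← hi]
      change (d ^ i) ^ 2 ∈ _
      rw [← zpow_natCast, ← zpow_mul, mul_comm, zpow_mul, zpow_natCast, pow_two]
      exact zpow_mem hdd i
  have hb := sect_bound hr H.subtype H.subtype_injective (QuotientGroup.mk' F) (QuotientGroup.mk'_surjective F) hexp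
  have hHlt : ψ.range < H := by
    refine lt_of_le_of_ne ?_ ?_
    · rintro _ ⟨u, rfl⟩; exact ⟨(u, 1), show ψ u * (1 : S) = ψ u from mul_one _⟩
    · intro h
      refine hdD (hrange ▸ h ▸ ⟨(1, ⟨d, Subgroup.mem_zpowers d⟩), show ψ 1 * d = d by rw [map_one, one_mul]⟩)
  obtain ⟨m, hm⟩ := Subgroup.card_dvd_of_le hHlt.le
  have hm2 : 2 ≤ m := by
    rcases m with _ | _ | m
    · have := Nat.card_pos (α := ↥H); omega
    · exact absurd (Subgroup.eq_of_le_of_card_ge hHlt.le (by omega)) hHlt.ne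
    · omega
  have hψc : Nat.card ψ.range = Nat.card ↥P * Nat.card ↥Q := by
    rw [← Nat.card_congr (MonoidHom.ofInjective hψ).toEquiv, Nat.card_prod]
  have hFle : ((frattini ↥P).prod (frattini ↥Q)).map ψ ≤ H :=
    (Subgroup.map_le_range ψ _).trans hHlt.le
  have hFc : Nat.card ↥F = Nat.card ↥(frattini ↥P) * Nat.card ↥(frattini ↥Q) := by
    rw [Nat.card_congr (Subgroup.subgroupOfEquivOfLe hFle).toEquiv, Subgroup.card_map_of_injective hψ,
      Nat.card_congr (Subgroup.prodEquiv _ _).toEquiv, Nat.card_prod]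
  have hP4 := frattini_index (h2.to_subgroup P) hPna
  have hQ4 := frattini_index (h2.to_subgroup Q) hQna
  have e1 := Subgroup.card_eq_card_quotient_mul_card_subgroup F
  rw [hm, hψc, hFc, ← Subgroup.card_mul_index (frattini ↥P), ← Subgroup.card_mul_index (frattini ↥Q)] at e1
  have hpos : 0 < Nat.card ↥(frattini ↥P) * Nat.card ↥(frattini ↥Q) := Nat.mul_pos Nat.card_pos Nat.card_pos
  have h32 : 32 ≤ Nat.card (↥H ⧸ F) := by
    refine Nat.le_of_mul_le_mul_right (le_trans ?_ e1.le) hpos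
    calc 32 * (Nat.card ↥(frattini ↥P) * Nat.card ↥(frattini ↥Q))
        = (Nat.card ↥(frattini ↥P) * 4) * (Nat.card ↥(frattini ↥Q) * 4) * 2 := by ring
      _ ≤ _ := Nat.mul_le_mul (Nat.mul_le_mul (Nat.mul_le_mul_left _ hP4) (Nat.mul_le_mul_left _ hQ4)) hm2
  omega

/-- `P` has sectional rank at most two. -/
theorem rank_two (h2 : IsPGroup 2 S) (hr : Cfsg.SectionalPRankLE 2 4 S) {T P Q : Subgroup S}
    {z z' : S} (hPT : P ≤ T) (hQT : Q ≤ T) (hP : ∀ t ∈ T, ∀ x ∈ P, t * x * t⁻¹ ∈ P)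
    (hQ : ∀ t ∈ T, ∀ x ∈ Q, t * x * t⁻¹ ∈ Q) (hz : Zc P z) (hz' : Zc Q z') (hne : z ≠ z')
    (hQna : ¬ ∀ x y : ↥Q, x * y = y * x) : Cfsg.SectionalPRankLE 2 2 ↥P := by
  haveI := Fact.mk Nat.prime_two
  intro H N _ A _ hA2
  have hint := inter_bot h2 hPT hQT hP hQ hz hz' hne
  set B := A.comap (QuotientGroup.mk' N) with hB
  let ι : ↥B →* S := (P.subtype.comp H.subtype).comp B.subtype
  have hι : Function.Injective ι := (P.subtype_injective.comp H.subtype_injective).comp B.subtype_injective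
  have hιP : ∀ b, ι b ∈ P := fun b => ((b : ↥H) : ↥P).2
  let ψ : ↥B × ↥Q →* S := MonoidHom.noncommCoprod ι Q.subtype
    fun b q => commute_of_inter_bot hPT hQT hP hQ hint (hιP b) q.2
  have hψ : Function.Injective ψ := (injective_iff_map_eq_one ψ).mpr fun ⟨a, b⟩ hab => by
    change ι a * (b : S) = 1 at hab
    have ha : ι a = (b : S)⁻¹ := eq_inv_of_mul_eq_one_left hab
    have h3 : ι a ∈ (⊥ : Subgroup S) := hint ▸ ⟨hιP a, ha ▸ Q.inv_mem b.2⟩
    rw [Subgroup.mem_bot] at h3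
    simp only [Subgroup.coe_subtype, h3, one_mul] at hab
    exact Prod.ext (hι (h3.trans (map_one ι).symm)) (Subtype.ext hab)
  let π : ↥B →* ↥A := ((QuotientGroup.mk' N).comp B.subtype).codRestrict A fun b => b.2
  have hπ : Function.Surjective π := fun ⟨a, ha⟩ => by
    obtain ⟨h, rfl⟩ := QuotientGroup.mk'_surjective N a
    exact ⟨⟨h, ha⟩, rfl⟩
  have hb := sect_bound hr ψ hψ (π.prodMap (QuotientGroup.mk' (frattini ↥Q)))
    (hπ.prodMap (QuotientGroup.mk'_surjective _)) (fun e => Prod.ext (Subtype.ext (by simpa using hA2 _ e.1.2))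
      (exp_quotient_frattini (h2.to_subgroup Q) e.2))
  rw [Nat.card_prod, ← Subgroup.index_eq_card] at hb
  have := frattini_index (h2.to_subgroup Q) hQna
  by_contra hlt
  have : 5 * 4 ≤ Nat.card ↥A * (frattini ↥Q).index := Nat.mul_le_mul (by omega) this
  omega

end CfsgLib.CentralPair
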