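import Cfsg.Agent.Lib.Local
import Cfsg.Agent.Lib.Basic
import Mathlib.GroupTheory.Sylow
import Mathlib.Algebra.BigOperators.Group.Finset.Basic
import Mathlib.Algebra.Group.Subgroup.Basic

/-!
The averaging retraction of `Z(S)` onto the fixed points of an overgroup of `S`.
-/

set_option autoImplicit false

namespace CfsgLib.CentralRetraction

open CfsgLib.Local
open scoped IsMulCommutative

variable {G : Type*} [Group G] [Finite G]

theorem exists_complement {p : ℕ} [Fact p.Prime] (S : Sylow p G) {N R Z : Subgroup G}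
    (hSN : (S : Subgroup G) ≤ N) (hNR : N ≤ Subgroup.normalizer (R : Set G))
    (hRc : ∀ a ∈ R, ∀ b ∈ R, a * b = b * a) (hZR : Z ≤ R) (hZS : Z ≤ (S : Subgroup G))
    (hZc : ∀ z ∈ Z, ∀ s ∈ (S : Subgroup G), s * z = z * s)
    (hfix : ∀ r ∈ R, (∀ n ∈ N, n * r = r * n) → r ∈ Z) :
    ∃ K ≤ Z, (Z ⊓ Subgroup.centralizer (N : Set G)) ⊓ K = ⊥ ∧
      (Z ⊓ Subgroup.centralizer (N : Set G)) ⊔ K = Z := by
  classical
  haveI : IsMulCommutative R := IsMulCommutative.of_comm fun a b => Subtype.ext (hRc _ a.2 _ b.2)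
  haveI : Fintype (N ⧸ (S : Subgroup G).subgroupOf N) := Fintype.ofFinite _
  have hRn : ∀ n ∈ N, ∀ r ∈ R, n * r * n⁻¹ ∈ R := fun n hn r hr =>
    (Subgroup.mem_normalizer_iff.1 (hNR hn) r).1 hr
  let term : N ⧸ (S : Subgroup G).subgroupOf N → Z → R := fun q z =>
    ⟨(q.out : G) * z * (q.out : G)⁻¹, hRn _ q.out.2 _ (hZR z.2)⟩
  let f : Z →* R :=
    { toFun := fun z => ∏ q, term q z
      map_one' := Finset.prod_eq_one fun q _ => Subtype.ext (by simp [term])
      map_mul' := fun a b => by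
        rw [← Finset.prod_mul_distrib]
        exact Finset.prod_congr rfl fun q _ => Subtype.ext (by simp [term, mul_assoc]) }
  set d := Fintype.card (N ⧸ (S : Subgroup G).subgroupOf N) with hd
  -- the values are fixed by `N`
  have hfN : ∀ z : Z, ∀ n ∈ N, n * (f z : G) = (f z : G) * n := by
    intro z n hn
    let c : R →* R :=
      { toFun := fun r => ⟨n * r * n⁻¹, hRn n hn r r.2⟩
        map_one' := Subtype.ext (by simp)
        map_mul' := fun a b => Subtype.ext (by simp [mul_assoc]) }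
    have h1 : c (f z) = f z := by
      show c (∏ q, term q z) = ∏ q, term q z
      rw [map_prod]
      refine Fintype.prod_equiv (MulAction.toPerm (⟨n, hn⟩ : N)) _ _ fun q => Subtype.ext ?_
      obtain ⟨s, hs⟩ := QuotientGroup.mk_out_eq_mul ((S : Subgroup G).subgroupOf N) (⟨n, hn⟩ * q.out)
      have e : ((MulAction.toPerm (⟨n, hn⟩ : N)) q).out = ⟨n, hn⟩ * q.out * (s : N) := by
        rw [← hs]
        congr 1
        show (⟨n, hn⟩ : N) • q = _
        conv_lhs => rw [← q.out_eq]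
        rfl
      show n * ((q.out : G) * z * (q.out : G)⁻¹) * n⁻¹ = ((_ : N) : G) * z * ((_ : N) : G)⁻¹
      rw [e, Subgroup.coe_mul, Subgroup.coe_mul]
      have hsz := hZc z z.2 _ (Subgroup.mem_subgroupOf.1 s.2)
      calc n * ((q.out : G) * z * (q.out : G)⁻¹) * n⁻¹
          = n * (q.out : G) * ((z : G) * ((s : N) : G)) * ((s : N) : G)⁻¹ * (q.out : G)⁻¹ * n⁻¹ := by group
        _ = _ := by rw [← hsz]; group
    exact (mul_inv_eq_iff_eq_mul.1 (congrArg Subtype.val h1))
  have hfZ : ∀ z : Z, (f z : G) ∈ Z := fun z => hfix _ (f z).2 (hfN z)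
  have hpow : ∀ w : Z, (∀ n ∈ N, n * (w : G) = (w : G) * n) → (f w : G) = (w : G) ^ d := by
    intro w hw
    have : f w = (⟨w, hZR w.2⟩ : R) ^ d := by
      show ∏ q, term q w = _
      rw [hd, ← Finset.card_univ, ← Finset.prod_const]
      refine Finset.prod_congr rfl fun q _ => Subtype.ext ?_
      show (q.out : G) * w * (q.out : G)⁻¹ = w
      rw [hw _ q.out.2, mul_inv_cancel_right]
    rw [this, SubmonoidClass.coe_pow]
  -- `d` is invertible on `Z`
  have hcop : (Nat.card Z).Coprime d := by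
    obtain ⟨k, hk⟩ := (isPGroup_of_le hZS S.2).exists_card_eq
    rw [hk, hd, ← Nat.card_eq_fintype_card, ← Subgroup.index_eq_card]
    refine ((Fact.out : p.Prime).coprime_iff_not_dvd.2 fun hdvd => ?_).pow_left k
    exact S.not_dvd_index (hdvd.trans (Subgroup.relIndex_dvd_index_of_le hSN))
  refine ⟨f.ker.map Z.subtype, Subgroup.map_subtype_le _, ?_, le_antisymm
    (sup_le inf_le_left (Subgroup.map_subtype_le _)) fun z hz => ?_⟩
  · rw [Subgroup.eq_bot_iff_forall]
    rintro w ⟨⟨-, hwN⟩, u, hu, rfl⟩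
    have h1 := hpow u hwN
    rw [MonoidHom.mem_ker.1 hu, OneMemClass.coe_one] at h1
    have h2 : u ^ d = 1 := Subtype.ext h1.symm
    have h3 := orderOf_eq_one_iff.1 (Nat.eq_one_of_dvd_coprimes hcop (orderOf_dvd_natCard u)
      (orderOf_dvd_of_pow_eq_one h2))
    rw [h3, map_one]
  · obtain ⟨j, hj⟩ := exists_pow_eq_self_of_coprime (x := (⟨_, hfZ ⟨z, hz⟩⟩ : Z)) (n := d)
      (hcop.symm.coprime_dvd_right (orderOf_dvd_natCard _))
    set w : Z := (⟨_, hfZ ⟨z, hz⟩⟩ : Z) ^ j with hwdef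
    have hwN : ∀ n ∈ N, n * (w : G) = (w : G) * n := fun n hn => by
      rw [hwdef, SubmonoidClass.coe_pow]
      exact (Commute.pow_right (hfN ⟨z, hz⟩ n hn) j).eq
    have hwd : (f w : G) = (f ⟨z, hz⟩ : G) := by
      rw [hpow w hwN, hwdef, SubmonoidClass.coe_pow, ← pow_mul, mul_comm, pow_mul]
      exact congrArg Subtype.val hj
    have hk : w⁻¹ * ⟨z, hz⟩ ∈ f.ker := by
      rw [MonoidHom.mem_ker, map_mul, map_inv, inv_mul_eq_one]
      exact Subtype.ext hwd
    have e : z = (w : G) * ((w : G)⁻¹ * z) := by group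
    rw [e]
    exact Subgroup.mul_mem _ (Subgroup.mem_sup_left ⟨w.2, hwN⟩)
      (Subgroup.mem_sup_right ⟨_, hk, rfl⟩)

end CfsgLib.CentralRetraction
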