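import Cfsg.Agent.Lib.Fusion.PSUSplit
import Mathlib.GroupTheory.SpecificGroups.KleinFour

/-!
The Sylow 2-subgroup of `PSU(3,4)`.
-/

set_option autoImplicit false
set_option linter.unusedSectionVars false

namespace CfsgLib.UnitaryFour

open Matrix CfsgLib.PSUBorel
open scoped commutatorElement

variable {F : Type*} [Field F] [Fintype F]

/-- Properties of a Heisenberg-type group of order `64` over a field with `16` elements. -/
theorem props {W : Type*} [Group W] [Finite W] (σ : F →+* F) (h16 : Fintype.card F = 16) [CharP F 2]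
    (hinv : ∀ x, σ (σ x) = x) (hmoved : ∃ t, σ t ≠ t) (htr : ∃ e : F, e + σ e = 1)
    (κ : W → F × F) (hinj : Function.Injective κ)
    (hmul : ∀ x y, κ (x * y) = ((κ x).1 + (κ y).1, (κ y).2 - (κ x).1 * σ (κ y).1 + (κ x).2))
    (hrange : ∀ a b : F, (∃ x, κ x = (a, b)) ↔ b + σ b + a * σ a = 0) :
    Nat.card W = 64 ∧ IsKleinFour (Subgroup.center W) ∧
      Subgroup.center W = Subgroup.closure {x : W | orderOf x = 2} ∧ Subgroup.center W = commutator W ∧
      Nat.card (W ⧸ Subgroup.center W) = 16 ∧ ∀ x : W ⧸ Subgroup.center W, x ^ 2 = 1 := by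
  classical
  have h2 : (2 : F) = 0 := CharTwo.two_eq_zero
  have hneg : ∀ x : F, -x = x := CharTwo.neg_eq
  have hone : κ 1 = (0, 0) := by
    have h := hmul 1 1
    rw [mul_one] at h
    have h1 : (κ 1).1 = 0 := by
      have := congrArg Prod.fst h
      simpa using this
    have h2 := congrArg Prod.snd h
    simp [h1] at h2
    exact Prod.ext h1 h2
  -- the trace
  let tr : F →+ F := AddMonoidHom.mk' (fun b => b + σ b) fun a b => by rw [map_add]; ring
  have htrap : ∀ b, tr b = b + σ b := fun b => rfl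
  have hker : (tr.ker : Set F) = {b | σ b = b} := by
    ext b
    show b + σ b = 0 ↔ σ b = b
    constructor
    · intro h; linear_combination h - b * h2
    · intro h; rw [h, CharTwo.add_self_eq_zero]
  have hran : (tr.range : Set F) = {b | σ b = b} := by
    ext b
    constructor
    · rintro ⟨a, rfl⟩
      show σ (a + σ a) = a + σ a
      rw [map_add, hinv, add_comm]
    · intro (hb : σ b = b)
      obtain ⟨e, he⟩ := htr
      exact ⟨e * b, by rw [htrap, map_mul, hb, ← add_mul, he, one_mul]⟩
  have hfix : Nat.card {b : F // σ b = b} = 4 := by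
    have h1 := AddSubgroup.card_mul_index tr.ker
    rw [AddSubgroup.index_ker, Nat.card_eq_fintype_card (α := F), h16,
      show Nat.card tr.ker = Nat.card {b : F // σ b = b} from Nat.card_congr (Equiv.setCongr hker),
      show Nat.card tr.range = Nat.card {b : F // σ b = b} from Nat.card_congr (Equiv.setCongr hran)] at h1
    nlinarith
  have hnorm : ∀ a, σ (a * σ a) = a * σ a := fun a => by rw [map_mul, hinv, mul_comm]
  -- order
  obtain ⟨e, he⟩ := htr
  have hcardW : Nat.card W = 64 := by
    have f : W ≃ F × {b : F // σ b = b} := Equiv.ofBijective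
      (fun x => ((κ x).1, ⟨(κ x).2 + e * ((κ x).1 * σ (κ x).1), by
        have h := (hrange _ _).mp ⟨x, rfl⟩
        have hc := CharTwo.add_self_eq_zero (κ x).2
        rw [map_add, map_mul, hnorm]
        linear_combination h + ((κ x).1 * σ (κ x).1) * he - ((κ x).2 + (κ x).1 * σ (κ x).1 * e) * h2⟩)) (by
      refine ⟨fun x y h => ?_, fun q => ?_⟩
      · have h1 := congrArg Prod.fst h
        have h2 := congrArg (fun q : F × {b : F // σ b = b} => (q.2 : F)) h
        simp only at h1 h2
        rw [h1] at h2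
        exact hinj (Prod.ext h1 (add_right_cancel h2))
      · obtain ⟨a, b, hb⟩ := q
        obtain ⟨x, hx⟩ := (hrange a (b + e * (a * σ a))).mpr (by
          rw [map_add, map_mul, hnorm, hb]
          linear_combination (a * σ a) * he + CharTwo.add_self_eq_zero b + CharTwo.add_self_eq_zero (a * σ a))
        refine ⟨x, Prod.ext (by simp [hx]) (Subtype.ext ?_)⟩
        simp only [hx]
        linear_combination CharTwo.add_self_eq_zero (e * (a * σ a)))
    rw [Nat.card_congr f, Nat.card_prod, hfix, Nat.card_eq_fintype_card, h16]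
  -- the centre
  have hnorm0 : ∀ a : F, a * σ a = 0 → a = 0 := fun a h => by
    rcases mul_eq_zero.mp h with h | h
    · exact h
    · exact (map_eq_zero σ).mp h
  have hcen : ∀ x, x ∈ Subgroup.center W ↔ (κ x).1 = 0 := by
    intro x
    constructor
    · intro hx
      have key : ∀ y, (κ x).1 * σ (κ y).1 = (κ y).1 * σ (κ x).1 := fun y => by
        have h := congrArg Prod.snd (congrArg κ (Subgroup.mem_center_iff.mp hx y))
        rw [hmul, hmul] at h
        linear_combination h
      have hsurj : ∀ a, ∃ y, (κ y).1 = a := fun a => by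
        obtain ⟨y, hy⟩ := (hrange a (e * (a * σ a))).mpr (by
          rw [map_mul, hnorm]
          linear_combination (a * σ a) * he + CharTwo.add_self_eq_zero (a * σ a))
        exact ⟨y, by rw [hy]⟩
      obtain ⟨y, hy⟩ := hsurj 1
      have h1 := key y
      rw [hy, map_one, mul_one, one_mul] at h1
      obtain ⟨t, ht⟩ := hmoved
      obtain ⟨y, hy⟩ := hsurj t
      have h2 := key y
      rw [hy, ← h1] at h2
      by_contra hne
      exact ht (mul_left_cancel₀ hne (h2.trans (mul_comm _ _)))
    · intro hx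
      refine Subgroup.mem_center_iff.mpr fun y => hinj ?_
      rw [hmul, hmul, hx]
      refine Prod.ext (by simp) ?_
      simp [add_comm]
  have hsq : ∀ x, κ (x * x) = (0, -((κ x).1 * σ (κ x).1)) := fun x => by
    rw [hmul]
    refine Prod.ext (CharTwo.add_self_eq_zero _) ?_
    show _ = -((κ x).1 * σ (κ x).1)
    linear_combination CharTwo.add_self_eq_zero (κ x).2
  have hinvol : ∀ x, x * x = 1 ↔ (κ x).1 = 0 := fun x => by
    rw [← hinj.eq_iff, hsq, hone, Prod.mk.injEq]
    exact ⟨fun h => hnorm0 _ (neg_eq_zero.mp h.2), fun h => ⟨rfl, by rw [h, zero_mul, neg_zero]⟩⟩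
  have hcardZ : Nat.card (Subgroup.center W) = 4 := by
    rw [← hfix]
    refine Nat.card_congr (Equiv.ofBijective (fun z => ⟨(κ z.1).2, ?_⟩) ⟨fun z w h => ?_, fun b => ?_⟩)
    · have h := (hrange _ _).mp ⟨z.1, rfl⟩
      rw [(hcen z.1).mp z.2, zero_mul, add_zero] at h
      linear_combination h - CharTwo.add_self_eq_zero (κ z.1).2
    · exact Subtype.ext (hinj (Prod.ext (((hcen _).mp z.2).trans ((hcen _).mp w.2).symm) (congrArg Subtype.val h)))
    · obtain ⟨x, hx⟩ := (hrange 0 b.1).mpr (by rw [b.2, zero_mul, add_zero, CharTwo.add_self_eq_zero])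
      exact ⟨⟨x, (hcen x).mpr (by rw [hx])⟩, Subtype.ext (by show (κ x).2 = b.1; rw [hx])⟩
  have hklein : IsKleinFour (Subgroup.center W) :=
    { card_four := hcardZ
      exponent_two := by
        haveI : Nontrivial (Subgroup.center W) := Finite.one_lt_card_iff_nontrivial.mp (by rw [hcardZ]; norm_num)
        exact (Monoid.exponent_eq_prime_iff Nat.prime_two).mpr fun g hg =>
          orderOf_eq_prime (by rw [sq]; exact Subtype.ext ((hinvol g.1).mpr ((hcen g.1).mp g.2))) hg }
  refine ⟨hcardW, hklein, le_antisymm (fun x hx => ?_) ?_, le_antisymm (fun x hx => ?_) ?_, ?_, fun q => ?_⟩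
  · by_cases h1 : x = 1
    · rw [h1]; exact one_mem _
    · exact Subgroup.subset_closure (orderOf_eq_prime (by rw [sq]; exact (hinvol x).mpr ((hcen x).mp hx)) h1)
  · rw [Subgroup.closure_le]
    intro x hx
    exact (hcen x).mpr ((hinvol x).mp (by rw [← sq, ← (hx : orderOf x = 2), pow_orderOf_eq_one]))
  · have h0 := (hcen x).mp hx
    have hb := (hrange _ _).mp ⟨x, rfl⟩
    rw [h0, zero_mul, add_zero] at hb
    have hb' : σ (κ x).2 = (κ x).2 := by linear_combination hb - CharTwo.add_self_eq_zero (κ x).2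
    obtain ⟨u, hu⟩ := (hrange 1 e).mpr (by rw [map_one, mul_one, he, CharTwo.add_self_eq_zero])
    obtain ⟨a, hta⟩ : ∃ a, a + σ a = (κ x).2 := ⟨e * (κ x).2, by rw [map_mul, hb', ← add_mul, he, one_mul]⟩
    obtain ⟨v, hv⟩ := (hrange a (e * (a * σ a))).mpr (by
      rw [map_mul, hnorm]
      linear_combination (a * σ a) * he + CharTwo.add_self_eq_zero (a * σ a))
    have hxe : u * v = x * (v * u) := hinj (by
      rw [hmul x, hmul u, hmul v, hu, hv, h0]
      refine Prod.ext (by simp [add_comm]) ?_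
      simp only [map_one, mul_one, one_mul, zero_mul, sub_zero]
      linear_combination hta - CharTwo.add_self_eq_zero (σ a))
    have : x = ⁅u, v⁆ := by
      rw [commutatorElement_def, hxe]
      group
    rw [this]
    exact Subgroup.commutator_mem_commutator (Subgroup.mem_top u) (Subgroup.mem_top v)
  · rw [commutator_eq_closure, Subgroup.closure_le]
    rintro _ ⟨u, v, rfl⟩
    refine (hcen _).mpr ?_
    have h := congrArg Prod.fst (hmul ⁅u, v⁆ (v * u))
    rw [show ⁅u, v⁆ * (v * u) = u * v by rw [commutatorElement_def]; group, hmul, hmul] at h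
    simp only at h
    linear_combination -h
  · have h := Subgroup.card_mul_index (Subgroup.center W)
    rw [hcardW, hcardZ] at h
    rw [← Subgroup.index_eq_card]
    omega
  · obtain ⟨x, rfl⟩ := QuotientGroup.mk'_surjective _ q
    rw [← map_pow]
    exact (QuotientGroup.eq_one_iff _).mpr ((hcen _).mpr (by rw [sq, hsq]))

theorem main (h16 : Fintype.card F = 16) (S : Sylow 2 (Cfsg.PSU 3 F 4)) :
    Nat.card S = 64 ∧ IsKleinFour (Subgroup.center (S : Subgroup (Cfsg.PSU 3 F 4))) ∧
      Subgroup.center (S : Subgroup (Cfsg.PSU 3 F 4)) = Subgroup.closure {x | orderOf x = 2} ∧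
      Subgroup.center (S : Subgroup (Cfsg.PSU 3 F 4)) = commutator (S : Subgroup (Cfsg.PSU 3 F 4)) ∧
      Nat.card ((S : Subgroup (Cfsg.PSU 3 F 4)) ⧸ Subgroup.center (S : Subgroup (Cfsg.PSU 3 F 4))) = 16 ∧
      ∀ x : (S : Subgroup (Cfsg.PSU 3 F 4)) ⧸ Subgroup.center (S : Subgroup (Cfsg.PSU 3 F 4)), x ^ 2 = 1 := by
  classical
  haveI : Fact (Nat.Prime 2) := ⟨Nat.prime_two⟩
  haveI : CharP F 2 := by
    obtain ⟨r, hr⟩ := CharP.exists F
    obtain ⟨f, hp, hf⟩ := FiniteField.card F r
    have : r ∣ 2 := hp.dvd_of_dvd_pow (n := 4) (by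
      rw [show (2 : ℕ) ^ 4 = 16 from rfl, ← h16, hf]; exact dvd_pow_self r f.pos.ne')
    rwa [(Nat.prime_dvd_prime_iff_eq hp Nat.prime_two).mp this] at hr
  have hK : Fintype.card F = 4 ^ 2 := by rw [h16]; norm_num
  obtain ⟨-, σ, hσ⟩ := CfsgLib.UnitaryBasic.frob_exists hK
  let c : Conj F := ⟨4, σ, hK, hσ⟩
  obtain ⟨E⟩ := exists_iso c (n := 3)
  let φ : SUs c 3 →* Cfsg.PSU 3 F 4 := (QuotientGroup.mk' (Subgroup.center (Cfsg.SU 3 F 4))).comp E.toMonoidHom
  have hker : ∀ z ∈ φ.ker, E z ∈ Subgroup.center (Cfsg.SU 3 F 4) := fun z hz => (QuotientGroup.eq_one_iff (E z)).mp hz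
  have hc : Cover c 2 φ := by
    refine ⟨(QuotientGroup.mk'_surjective _).comp E.surjective, fun z hz => ?_, Nat.gcd 3 (4 + 1), by decide,
      fun z hz => ?_⟩
    · exact Subgroup.mem_center_iff.mpr fun x => E.injective (by
        rw [map_mul, map_mul]; exact Subgroup.mem_center_iff.mp (hker z hz) (E x))
    · apply E.injective
      rw [map_pow, map_one, ← Cfsg.Agent.S0280.center_card hK 3 (by norm_num)]
      exact congrArg Subtype.val (pow_card_eq_one' (x := (⟨E z, hker z hz⟩ : Subgroup.center (Cfsg.SU 3 F 4))))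
  obtain ⟨U, hU⟩ := exists_sylow c 2 hc
  have hinj : Function.Injective (φ.comp (UU c 3).subtype) := fun a b h => by
    obtain ⟨j, hj⟩ := isPGroup_UU c 2 a
    exact Subtype.ext (eq_of_map c 2 hc b.2 (congrArg Subtype.val hj) h)
  have hrng : (φ.comp (UU c 3).subtype).range = (U : Subgroup (Cfsg.PSU 3 F 4)) := by
    rw [hU, MonoidHom.range_comp, Subgroup.range_subtype]
  let e : (S : Subgroup (Cfsg.PSU 3 F 4)) ≃* UU c 3 :=
    (Sylow.equiv S U).trans ((MulEquiv.subgroupCongr hrng.symm).trans (MonoidHom.ofInjective hinj).symm)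
  have hform : ∀ A : UU c 3, A.1.1.1 1 2 = -σ (A.1.1.1 0 1) ∧
      A.1.1.1 0 2 + σ (A.1.1.1 0 2) + A.1.1.1 0 1 * σ (A.1.1.1 0 1) = 0 := by
    intro A
    have h00 := UU_diag c A.2 (0 : Fin 3)
    have h11 := UU_diag c A.2 (1 : Fin 3)
    have h10 : A.1.1.1 1 0 = 0 := UU_below c A.2 (show (0 : Fin 3) < 1 by decide)
    have h01 := cond_apply c A.1.2 (0 : Fin 3) 1
    have h0 := cond_apply c A.1.2 (0 : Fin 3) 0
    rw [Fin.sum_univ_three, if_neg (by decide)] at h01 h0
    rw [show (0 : Fin 3).rev = 2 from rfl, show (1 : Fin 3).rev = 1 from rfl, show (2 : Fin 3).rev = 0 from rfl] at h01 h0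
    change _ + _ * σ _ + _ * σ _ = _ at h01
    change _ * σ _ + _ * σ _ + _ * σ _ = _ at h01 h0
    rw [h00, h11, h10, map_zero, map_one, one_mul, mul_one, mul_zero, add_zero] at h01
    rw [h00, map_one, one_mul, mul_one] at h0
    refine ⟨?_, by linear_combination h0⟩
    have h3 := congrArg σ h01
    rw [map_add, c.invol, map_zero] at h3
    linear_combination h3
  let κ : UU c 3 → F × F := fun A => (A.1.1.1 0 1, A.1.1.1 0 2)
  refine props σ h16 c.invol c.exists_moved c.exists_trace_one (fun x => κ (e x)) ?_ (fun x y => ?_) fun a b => ?_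
  · intro x y h
    refine e.injective (Subtype.ext (SUs_ext c ?_))
    have h1 : (e x).1.1.1 0 1 = (e y).1.1.1 0 1 := congrArg Prod.fst h
    have h2 : (e x).1.1.1 0 2 = (e y).1.1.1 0 2 := congrArg Prod.snd h
    ext i j
    fin_cases i <;> fin_cases j
    · exact (UU_diag c (e x).2 0).trans (UU_diag c (e y).2 0).symm
    · exact h1
    · exact h2
    · exact (UU_below c (e x).2 (show (0 : Fin 3) < 1 by decide)).trans
        (UU_below c (e y).2 (show (0 : Fin 3) < 1 by decide)).symm
    · exact (UU_diag c (e x).2 1).trans (UU_diag c (e y).2 1).symm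
    · exact ((hform _).1.trans (congrArg (fun t => -σ t) h1)).trans (hform _).1.symm
    · exact (UU_below c (e x).2 (show (0 : Fin 3) < 2 by decide)).trans
        (UU_below c (e y).2 (show (0 : Fin 3) < 2 by decide)).symm
    · exact (UU_below c (e x).2 (show (1 : Fin 3) < 2 by decide)).trans
        (UU_below c (e y).2 (show (1 : Fin 3) < 2 by decide)).symm
    · exact (UU_diag c (e x).2 2).trans (UU_diag c (e y).2 2).symm
  · show κ (e (x * y)) = _
    rw [map_mul]
    refine Prod.ext ?_ ?_
    · show ((e x).1.1.1 * (e y).1.1.1) 0 1 = _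
      rw [Matrix.mul_apply, Fin.sum_univ_three, UU_diag c (e x).2, UU_diag c (e y).2,
        UU_below c (e y).2 (show (1 : Fin 3) < 2 by decide)]
      show _ = (e x).1.1.1 0 1 + (e y).1.1.1 0 1
      ring
    · show ((e x).1.1.1 * (e y).1.1.1) 0 2 = _
      rw [Matrix.mul_apply, Fin.sum_univ_three, UU_diag c (e x).2, UU_diag c (e y).2, (hform (e y)).1]
      show _ = (e y).1.1.1 0 2 - (e x).1.1.1 0 1 * σ ((e y).1.1.1 0 1) + (e x).1.1.1 0 2
      ring
  · constructor
    · rintro ⟨x, hx⟩
      have h1 : (e x).1.1.1 0 1 = a := congrArg Prod.fst hx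
      have h2 : (e x).1.1.1 0 2 = b := congrArg Prod.snd hx
      rw [← h1, ← h2]
      exact (hform _).2
    · intro hb
      refine ⟨e.symm ⟨r3 c a b hb, ?_⟩, ?_⟩
      · refine ⟨fun i j hij => ?_, fun i j hij => ?_⟩
        · show m3 σ a b i j = 0
          fin_cases i <;> fin_cases j <;> first | rfl | (exfalso; simp at hij)
        · show m3 σ a b i j = (1 : Matrix (Fin 3) (Fin 3) F) i j
          fin_cases i <;> fin_cases j <;> first | rfl | (exfalso; simp at hij) | simp [m3]
      · show κ (e (e.symm _)) = _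
        rw [MulEquiv.apply_symm_apply]
        rfl

end CfsgLib.UnitaryFour
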