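/-
Sylow subgroups of the small Ree groups for primes at least five: all cyclic.
In characteristic three the short roots span a seven-dimensional invariant subspace of the adjoint module.
-/
import Cfsg.Agent.Lib.Chev.Twist.ReeCent
import Cfsg.Agent.Lib.Chev.Twist.SimpleG2
import Cfsg.Agent.Lib.Words.ClassicalWitness
import Cfsg.Agent.Lib.NonSplitTorus

set_option autoImplicit false
set_option linter.unusedSectionVars false
set_option maxRecDepth 100000

namespace CfsgLib.ReeSylowCyclic

open Cfsg.Lie Matrix CfsgLib.Chev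

/-! ### Sylow subgroups and large elements -/

theorem sylow_cyclic_of_elem {G : Type*} [Group G] [Finite G] {p : ℕ} [Fact p.Prime] (P : Sylow p G) (g : G)
    (h : (Nat.card G).factorization p ≤ (orderOf g).factorization p) : IsCyclic (P : Subgroup G) := by
  have hd : p ^ (Nat.card G).factorization p ∣ orderOf g :=
    (pow_dvd_pow p h).trans (Nat.ordProj_dvd _ _)
  have hx : orderOf (g ^ (orderOf g / p ^ (Nat.card G).factorization p)) = p ^ (Nat.card G).factorization p := by
    rw [orderOf_pow_of_dvd (Nat.div_ne_zero_iff_of_dvd hd |>.mpr ⟨(orderOf_pos g).ne',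
      pow_ne_zero _ (Fact.out : p.Prime).ne_zero⟩) (Nat.div_dvd_of_dvd hd), Nat.div_div_self hd (orderOf_pos g).ne']
  let C := Subgroup.zpowers (g ^ (orderOf g / p ^ (Nat.card G).factorization p))
  have hC : Nat.card C = p ^ (Nat.card G).factorization p := by rw [Nat.card_zpowers, hx]
  let S : Sylow p G := Sylow.ofCard C hC
  have e := S.equiv P
  haveI : IsCyclic (S : Subgroup G) := inferInstanceAs (IsCyclic C)
  exact isCyclic_of_surjective e e.surjective

/-! ### The seven-dimensional module -/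

/-- The coordinates of the short roots and of the short fundamental coroot. -/
def sig : Fin 7 → Cfsg.Lie.chevG2.Idx :=
  ![Sum.inl ⟨0, by decide⟩, Sum.inr ⟨2, by decide⟩, Sum.inr ⟨3, by decide⟩, Sum.inr ⟨4, by decide⟩,
    Sum.inr ⟨7, by decide⟩, Sum.inr ⟨8, by decide⟩, Sum.inr ⟨9, by decide⟩]

theorem sig_injective : Function.Injective sig := by
  unfold Function.Injective
  decide +kernel

theorem out_iff : ∀ a : Cfsg.Lie.chevG2.Idx, a ∉ Set.range sig ↔
    (a = Sum.inl ⟨1, by decide⟩ ∨ ∃ u : Fin Cfsg.Lie.chevG2.nroots, a = Sum.inr u ∧ u.val ∈ [0, 1, 5, 6, 10, 11]) := by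
  simp only [Set.mem_range]
  decide +kernel

theorem short_iff : ∀ s : Fin Cfsg.Lie.chevG2.nroots, (∃ i, sig i = Sum.inr s) → s.val ∈ [2, 3, 4, 7, 8, 9] := by
  decide +kernel

theorem fin_rank : ∀ i : Fin Cfsg.Lie.chevG2.rank, (∃ j, sig j = Sum.inl i) → i.val = 0 := by
  decide +kernel

theorem cartan_three : ∀ r : Fin Cfsg.Lie.chevG2.nroots, r.val ∈ [0, 1, 5, 6, 10, 11] →
    (3 : ℤ) ∣ (Cfsg.Lie.chevG2.cartanSR.getD 0 #[]).getD r.val 0 := by decide +kernel

theorem coroot_three : ∀ r s : Fin Cfsg.Lie.chevG2.nroots, s.val = Cfsg.Lie.chevG2.negIdx.getD r.val 0 →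
    s.val ∈ [2, 3, 4, 7, 8, 9] → (3 : ℤ) ∣ (Cfsg.Lie.chevG2.coroot.getD r.val #[]).getD 1 0 ∧
      r.val ∈ [2, 3, 4, 7, 8, 9] := by decide +kernel

theorem chain_three : ∀ r s u : Fin Cfsg.Lie.chevG2.nroots, s.val ∈ [2, 3, 4, 7, 8, 9] →
    u.val ∈ [0, 1, 5, 6, 10, 11] → ∀ km ∈ Cfsg.Lie.chevG2.chainCoeff r.val s.val u.val, (3 : ℤ) ∣ km.2 := by
  decide +kernel

variable {K : Type*} [Field K] [Fintype K]

/-- The coordinate subspace is invariant under a matrix. -/
def Keeps (M : Matrix Cfsg.Lie.chevG2.Idx Cfsg.Lie.chevG2.Idx K) : Prop :=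
  ∀ a, a ∉ Set.range sig → ∀ j, M a (sig j) = 0

theorem intCast_zero (h3 : (3 : K) = 0) {z : ℤ} (h : (3 : ℤ) ∣ z) : (z : K) = 0 := by
  obtain ⟨c, rfl⟩ := h
  push_cast
  rw [h3, zero_mul]

theorem keeps_xMat (h3 : (3 : K) = 0) (r : Fin Cfsg.Lie.chevG2.nroots) (t : K) :
    Keeps (Cfsg.Lie.chevG2.xMat K r t) := by
  intro a ha j
  rcases hc : sig j with i | s
  · have hi : i.val = 0 := fin_rank i ⟨j, hc⟩
    rcases (out_iff a).mp ha with rfl | ⟨u, rfl, hu⟩
    · simp only [ChevalleyDatum.xMat, Matrix.of_apply]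
      rw [if_neg]
      intro e
      have := congrArg Fin.val e
      simp only [] at this
      omega
    · simp only [ChevalleyDatum.xMat, Matrix.of_apply]
      split_ifs with e
      · subst e
        rw [hi, intCast_zero h3 (cartan_three u hu), neg_zero, zero_mul]
      · rfl
  · have hs := short_iff s ⟨j, hc⟩
    rcases (out_iff a).mp ha with rfl | ⟨u, rfl, hu⟩
    · simp only [ChevalleyDatum.xMat, Matrix.of_apply]
      split_ifs with e1 e2
      · rfl
      · exact mul_eq_zero_of_left (intCast_zero h3 (coroot_three r s e2 hs).1) t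
      · rfl
    · simp only [ChevalleyDatum.xMat, Matrix.of_apply]
      have hus : u ≠ s := by
        rintro rfl
        simp only [List.mem_cons, List.not_mem_nil, or_false] at hu hs
        omega
      by_cases e1 : s = r
      · subst e1
        simp [hus]
      by_cases e2 : s.val = Cfsg.Lie.chevG2.negIdx.getD r.val 0
      · rw [if_neg e1, if_pos e2, if_neg hus, if_neg]
        rintro rfl
        have h1 := (coroot_three _ s e2 hs).2
        simp only [List.mem_cons, List.not_mem_nil, or_false] at hu h1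
        omega
      · rw [if_neg e1, if_neg e2, if_neg hus, zero_add]
        refine List.sum_eq_zero fun x hx => ?_
        obtain ⟨km, hkm, rfl⟩ := List.mem_map.mp hx
        exact mul_eq_zero_of_left (intCast_zero h3 (chain_three r s u hs hu km hkm)) _

theorem keeps_mul {M N : Matrix Cfsg.Lie.chevG2.Idx Cfsg.Lie.chevG2.Idx K} (hM : Keeps M) (hN : Keeps N) :
    Keeps (M * N) := by
  intro a ha j
  rw [Matrix.mul_apply]
  refine Finset.sum_eq_zero fun b _ => ?_
  by_cases hb : b ∈ Set.range sig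
  · obtain ⟨i, rfl⟩ := hb
    rw [hM a ha i, zero_mul]
  · rw [hN b hb j, mul_zero]

theorem keeps_one : Keeps (1 : Matrix Cfsg.Lie.chevG2.Idx Cfsg.Lie.chevG2.Idx K) :=
  fun a ha j => Matrix.one_apply_ne fun e => ha ⟨j, e.symm⟩

/-- Invertible matrices keeping the subspace. -/
def keepGroup (K : Type*) [Field K] [Fintype K] : Subgroup (GL Cfsg.Lie.chevG2.Idx K) where
  carrier := {g | Keeps (g : Matrix Cfsg.Lie.chevG2.Idx Cfsg.Lie.chevG2.Idx K)}
  one_mem' := keeps_one
  mul_mem' ha hb := keeps_mul ha hb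
  inv_mem' {g} hg := by
    have hp : ∀ k : ℕ, Keeps ((g ^ k : GL Cfsg.Lie.chevG2.Idx K) : Matrix Cfsg.Lie.chevG2.Idx Cfsg.Lie.chevG2.Idx K) := by
      intro k
      induction k with
      | zero => rw [pow_zero]; exact keeps_one
      | succ k ih => rw [pow_succ]; exact keeps_mul ih hg
    have hn : g⁻¹ = g ^ (orderOf g - 1) := by
      refine (eq_inv_of_mul_eq_one_left ?_).symm
      rw [← pow_succ, Nat.sub_add_cancel (orderOf_pos g), pow_orderOf_eq_one]
    show Keeps _
    rw [hn]
    exact hp _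

theorem twisted_le (h3 : (3 : K) = 0) (e : ℕ) : twistedG2 K e ≤ keepGroup K := by
  rw [twistedG2, ChevalleyDatum.genSubgroup, Subgroup.closure_le]
  rintro g ⟨w, -, hg⟩
  show Keeps (g : Matrix Cfsg.Lie.chevG2.Idx Cfsg.Lie.chevG2.Idx K)
  rw [hg]
  clear hg
  induction w with
  | nil => exact keeps_one
  | cons a w ih =>
    rw [ChevalleyDatum.wordMat, List.map_cons, List.prod_cons]
    refine keeps_mul ?_ ih
    rw [ChevalleyDatum.x]
    split_ifs
    · exact keeps_xMat h3 _ _
    · exact keeps_one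

/-- Restriction to the subspace. -/
def rest (K : Type*) [Field K] [Fintype K] : ↥(keepGroup K) →* Matrix (Fin 7) (Fin 7) K where
  toFun g := (g.1 : Matrix Cfsg.Lie.chevG2.Idx Cfsg.Lie.chevG2.Idx K).submatrix sig sig
  map_one' := Matrix.submatrix_one _ sig_injective
  map_mul' g h := by
    ext i j
    simp only [Subgroup.coe_mul, Units.val_mul, Matrix.submatrix_apply, Matrix.mul_apply]
    exact (Fintype.sum_of_injective sig sig_injective _ _
      (fun b hb => by rw [h.2 b hb j, mul_zero]) (fun l => rfl)).symm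

variable {m : ℕ} (hK : Fintype.card K = 3 ^ (2 * m + 1))

/-- The seven-dimensional representation. -/
noncomputable def rep (h3 : (3 : K) = 0) (e : ℕ) : ↥(twistedG2 K e) →* GL (Fin 7) K :=
  ((rest K).comp (Subgroup.inclusion (twisted_le h3 e))).toHomUnits

include hK in
theorem rep_injective (hm : 1 ≤ m) (h3 : (3 : K) = 0) : Function.Injective (rep h3 (3 ^ m)) := by
  obtain ⟨hs, -⟩ := CfsgLib.Chev.T2G2.simple hK hm
  rcases IsSimpleGroup.eq_bot_or_eq_top_of_normal (rep h3 (3 ^ m)).ker inferInstance with h | h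
  · exact (MonoidHom.ker_eq_bot_iff _).mp h
  · exfalso
    have hmem : CfsgLib.Chev.T2G2.th m (-1 : Kˣ) ∈ twistedG2 K (3 ^ m) :=
      (CfsgLib.Chev.T2G2.th_mem_H hK _).2
    have h1 : rep h3 (3 ^ m) ⟨_, hmem⟩ = 1 := MonoidHom.mem_ker.mp (h ▸ Subgroup.mem_top _)
    have h2 : (CfsgLib.Chev.T2G2.th m (-1 : Kˣ)).val
        (Sum.inr (CfsgLib.Chev.T2G2.rx 9)) (Sum.inr (CfsgLib.Chev.T2G2.rx 9)) = 1 := by
      have := congrArg (fun g : GL (Fin 7) K => (g : Matrix (Fin 7) (Fin 7) K) 6 6) h1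
      rw [Units.val_one, Matrix.one_apply_eq] at this
      exact this
    rw [CfsgLib.Chev.T2G2.th, CfsgLib.Chev.Chev.Tw.tor, MonoidHom.comp_apply, CfsgLib.Chev.Alg.torus_val,
      CfsgLib.Chev.Sys.torusMat, Matrix.diagonal_apply_eq] at h2
    have e : CfsgLib.Chev.chevG2.toSys.chi
        (CfsgLib.Chev.chevG2.coHom K (CfsgLib.Chev.T2G2.stab m (-1 : Kˣ))) (CfsgLib.Chev.T2G2.rx 9) =
        (-1 : Kˣ) ^ CfsgLib.Chev.T2G2.kk m (CfsgLib.Chev.T2G2.rx 9) := by
      have hX := CfsgLib.Chev.T2G2.conj_X (K := K) (m := m) (-1) (CfsgLib.Chev.T2G2.rx 9) 1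
      rw [CfsgLib.Chev.T2G2.th, CfsgLib.Chev.Chev.Tw.tor, MonoidHom.comp_apply, CfsgLib.Chev.Alg.torus_xg,
        mul_inv_cancel_right] at hX
      have := CfsgLib.Chev.chevG2.toAlg.xg_injective _ hX
      rw [mul_one, mul_one] at this
      exact Units.ext this
    change ((CfsgLib.Chev.chevG2.toSys.chi
        (CfsgLib.Chev.chevG2.coHom K (CfsgLib.Chev.T2G2.stab m (-1 : Kˣ))) (CfsgLib.Chev.T2G2.rx 9) : Kˣ) : K) = 1 at h2
    rw [e, (CfsgLib.Chev.T2G2.kk_parity (K := K) (m := m)).2.2.2.1] at h2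
    exact CfsgLib.Chev.T2G2.neg_one_ne hK (Units.ext h2)

/-! ### The seven-dimensional linear group -/

theorem fact_sub_one_six {q p : ℕ} [hp : Fact p.Prime] (hq : 1 < q) (h : p ∣ q ^ 3 + 1) (h1 : ¬ p ∣ q + 1) (h2 : p ≠ 2) :
    (∏ i : Fin 7, (q ^ 7 - q ^ (i : ℕ))).factorization p = (q ^ 6 - 1).factorization p := by
  have hq3 : (q : ZMod p) ^ 3 = -1 := by
    rw [← ZMod.natCast_eq_zero_iff] at h
    push_cast at h
    linear_combination h
  have hne2 : ((-1 : ZMod p)) ≠ 1 := by
    haveI : Fact (2 < p) := ⟨by have := hp.out.two_le; omega⟩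
    exact ZMod.neg_one_ne_one
  have hne1 : (q : ZMod p) ≠ -1 := by
    intro e
    apply h1
    rw [← ZMod.natCast_eq_zero_iff]
    push_cast
    rw [e, neg_add_cancel]
  have h0 : (q : ZMod p) ≠ 0 := by
    intro e
    rw [e, zero_pow (by norm_num)] at hq3
    exact one_ne_zero (neg_eq_zero.mp hq3.symm)
  have hord : orderOf (q : ZMod p) = 6 := by
    refine (orderOf_eq_iff (by norm_num)).mpr ⟨by rw [show (6 : ℕ) = 3 * 2 by rfl, pow_mul, hq3, neg_one_sq], ?_⟩
    intro k hk hk0 e
    have hd : orderOf (q : ZMod p) ∣ 6 := orderOf_dvd_of_pow_eq_one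
      (by rw [show (6 : ℕ) = 3 * 2 by rfl, pow_mul, hq3, neg_one_sq])
    have hd2 : orderOf (q : ZMod p) ∣ k := orderOf_dvd_of_pow_eq_one e
    have hlt : orderOf (q : ZMod p) < 6 := lt_of_le_of_lt (Nat.le_of_dvd hk0 hd2) hk
    have hpe := pow_orderOf_eq_one (q : ZMod p)
    interval_cases hh : orderOf (q : ZMod p)
    · exact absurd hd (by decide)
    · rw [pow_one] at hpe
      rw [hpe, one_pow] at hq3
      exact hne2 hq3.symm
    · rcases sq_eq_one_iff.mp hpe with e' | e'
      · rw [e', one_pow] at hq3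
        exact hne2 hq3.symm
      · exact hne1 e'
    · rw [hq3] at hpe
      exact hne2 hpe
    · exact absurd hd (by decide)
    · exact absurd hd (by decide)
  have hfac : ∀ i : ℕ, i < 7 → i ≠ 1 → (q ^ 7 - q ^ i).factorization p = 0 := by
    intro i hi hi1
    refine Nat.factorization_eq_zero_of_not_dvd fun hd => ?_
    have hle : q ^ i ≤ q ^ 7 := Nat.pow_le_pow_right (by omega) (by omega)
    have hz := (ZMod.natCast_eq_zero_iff _ _).mpr hd
    rw [Nat.cast_sub hle, sub_eq_zero] at hz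
    push_cast at hz
    rw [show (7 : ℕ) = i + (7 - i) by omega, pow_add] at hz
    have h7 : orderOf (q : ZMod p) ∣ 7 - i :=
      orderOf_dvd_of_pow_eq_one (mul_left_cancel₀ (pow_ne_zero i h0) (hz.trans (mul_one _).symm))
    rw [hord] at h7
    omega
  have hpos : ∀ i : ℕ, i < 7 → q ^ 7 - q ^ i ≠ 0 := fun i hi =>
    (Nat.sub_pos_of_lt (Nat.pow_lt_pow_right hq hi)).ne'
  rw [Nat.factorization_prod_apply (fun (i : Fin 7) _ => hpos i i.2), Finset.sum_eq_single (1 : Fin 7)]
  · rw [show ((1 : Fin 7) : ℕ) = 1 by rfl, pow_one,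
      show q ^ 7 - q = q * (q ^ 6 - 1) by rw [Nat.mul_sub, mul_one, ← pow_succ'],
      Nat.factorization_mul (by omega) (Nat.sub_pos_of_lt (Nat.one_lt_pow (by norm_num) hq)).ne',
      Finsupp.add_apply, Nat.factorization_eq_zero_of_not_dvd (n := q), zero_add]
    intro hd
    exact h0 ((ZMod.natCast_eq_zero_iff _ _).mpr hd)
  · intro i _ hi
    exact hfac i i.2 fun e => hi (Fin.ext e)
  · simp

theorem gl_seven_cyclic (K : Type*) [Field K] [Fintype K] [CharP K 3] {p : ℕ} [Fact p.Prime]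
    (h : p ∣ Fintype.card K ^ 3 + 1) (h1 : ¬ p ∣ Fintype.card K + 1) (h2 : p ≠ 2)
    (Q : Sylow p (GL (Fin 7) K)) : IsCyclic (Q : Subgroup (GL (Fin 7) K)) := by
  classical
  haveI : Finite K := Finite.of_fintype K
  haveI : Fact (Nat.Prime 3) := ⟨by norm_num⟩
  let L := FiniteField.Extension K 3 6
  let b : Module.Basis (Fin 6) K L := Module.finBasisOfFinrankEq K L (FiniteField.finrank_extension K 3 6)
  let e : Fin 6 ⊕ Fin 1 ≃ Fin 7 := finSumFinEquiv
  let φ : L →* Matrix (Fin 7) (Fin 7) K :=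
    (CfsgLib.Words.blockHom e).comp (Algebra.leftMulMatrix b).toRingHom.toMonoidHom
  have hφ : Function.Injective φ :=
    (CfsgLib.Words.blockHom_injective e).comp (Algebra.leftMulMatrix_injective b)
  obtain ⟨u, hu⟩ := IsCyclic.exists_ofOrder_eq_natCard (α := Lˣ)
  refine sylow_cyclic_of_elem Q (Units.map φ u) ?_
  rw [orderOf_injective (Units.map φ) (Units.map_injective hφ), hu, Nat.card_units,
    FiniteField.natCard_extension, Matrix.card_GL_field, Nat.card_eq_fintype_card (α := K),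
    fact_sub_one_six Fintype.one_lt_card h h1 h2]

/-! ### The main theorem -/

include hK in
theorem sylow_cyclic (hm : 1 ≤ m) {p : ℕ} [hp : Fact p.Prime] (hp3 : 3 < p)
    (P : Sylow p ↥(twistedG2 K (3 ^ m))) : IsCyclic (P : Subgroup ↥(twistedG2 K (3 ^ m))) := by
  classical
  haveI := CfsgLib.Chev.T2G2.charP_three hK
  have h3 : (3 : K) = 0 := CharP.cast_eq_zero K 3
  set q := 3 ^ (2 * m + 1) with hq
  have hq1 : 1 < q := Nat.one_lt_pow (by omega) (by norm_num)
  have hpq : ¬ p ∣ q := fun h => by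
    have := (Nat.prime_dvd_prime_iff_eq hp.out Nat.prime_three).mp (hp.out.dvd_of_dvd_pow h)
    omega
  have hfq : q.factorization p = 0 := Nat.factorization_eq_zero_of_not_dvd hpq
  have hG : (Nat.card ↥(twistedG2 K (3 ^ m))).factorization p =
      (q - 1).factorization p + (q ^ 3 + 1).factorization p := by
    rw [CfsgLib.Chev.T2G2.card_G hK, ← hq, Nat.factorization_mul (Nat.mul_ne_zero (by positivity) (by omega)) (by positivity),
      Nat.factorization_mul (by positivity) (by omega), Nat.factorization_pow]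
    simp [hfq]
  have hmod : ∀ a : ℕ, p ∣ a → (a : ZMod p) = 0 := fun a h => (ZMod.natCast_eq_zero_iff _ _).mpr h
  by_cases hA : p ∣ q - 1
  · have hn : ¬ p ∣ q ^ 3 + 1 := by
      intro hB
      have e1 := hmod _ hA
      have e2 := hmod _ hB
      rw [Nat.cast_sub hq1.le] at e1
      push_cast at e1 e2
      rw [sub_eq_zero.mp e1] at e2
      have : ((2 : ℕ) : ZMod p) = 0 := by push_cast; linear_combination e2
      have := Nat.le_of_dvd (by norm_num) ((ZMod.natCast_eq_zero_iff _ _).mp this)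
      omega
    obtain ⟨s, hs⟩ := IsCyclic.exists_ofOrder_eq_natCard (α := Kˣ)
    let g : ↥(twistedG2 K (3 ^ m)) :=
      ⟨CfsgLib.Chev.T2G2.th m s, (CfsgLib.Chev.T2G2.th_mem_H hK s).2⟩
    refine sylow_cyclic_of_elem P g ?_
    have hg : orderOf g = q - 1 := by
      rw [← Subgroup.orderOf_coe]
      have e := orderOf_injective (Subgroup.subtype _ |>.comp (CfsgLib.Chev.T2G2.hEquiv hK).toMonoidHom)
        ((Subgroup.subtype_injective _).comp (CfsgLib.Chev.T2G2.hEquiv hK).injective) s
      refine e.trans ?_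
      rw [hs, Nat.card_units, Nat.card_eq_fintype_card, hK]
    rw [hG, hg, Nat.factorization_eq_zero_of_not_dvd hn, add_zero]
  rw [Nat.factorization_eq_zero_of_not_dvd hA, zero_add] at hG
  by_cases hB : p ∣ q + 1
  · have hn : ¬ p ∣ q ^ 2 - q + 1 := by
      intro hB'
      have e1 := hmod _ hB
      have e2 := hmod _ hB'
      push_cast [Nat.cast_sub (Nat.le_self_pow two_ne_zero q)] at e1 e2
      rw [show (q : ZMod p) = -1 by linear_combination e1] at e2
      have : ((3 : ℕ) : ZMod p) = 0 := by push_cast; linear_combination e2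
      have := Nat.le_of_dvd (by norm_num) ((ZMod.natCast_eq_zero_iff _ _).mp this)
      omega
    have hsplit : q ^ 3 + 1 = (q + 1) * (q ^ 2 - q + 1) := by
      zify [Nat.le_self_pow (show 2 ≠ 0 by norm_num) q]
      ring
    obtain ⟨A, hA'⟩ := CfsgLib.NonSplitTorus.exists_orderOf_card_add_one (F := K) 3
    let g : ↥(twistedG2 K (3 ^ m)) := ⟨CfsgLib.Chev.T2G2.psi hK A, CfsgLib.Chev.T2G2.psi_mem hK A⟩
    refine sylow_cyclic_of_elem P g ?_
    have hdvd : q + 1 ∣ orderOf g * 2 := by
      rw [← hK, ← hA']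
      refine orderOf_dvd_of_pow_eq_one ?_
      have e : CfsgLib.Chev.T2G2.psi hK (A ^ orderOf g) = 1 := by
        rw [map_pow]
        exact congrArg Subtype.val (pow_orderOf_eq_one g)
      rw [pow_mul]
      rcases CfsgLib.Chev.T2G2.psi_cases hK (Or.inl e) with h | h <;> rw [h] <;> simp
    have hf := Nat.factorization_le_iff_dvd (by omega) (mul_ne_zero (orderOf_pos g).ne' two_ne_zero) |>.mpr hdvd p
    rw [Nat.factorization_mul (orderOf_pos g).ne' two_ne_zero, Finsupp.add_apply,
      Nat.factorization_eq_zero_of_not_dvd (n := 2) (fun h => by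
        have := Nat.le_of_dvd (by norm_num) h
        omega), add_zero] at hf
    rw [hG, hsplit, Nat.factorization_mul (by omega) (by omega), Finsupp.add_apply,
      Nat.factorization_eq_zero_of_not_dvd hn, add_zero]
    exact hf
  by_cases hC : p ∣ q ^ 3 + 1
  · obtain ⟨Q, hQ⟩ := (P.2.map (rep h3 (3 ^ m))).exists_le_sylow
    haveI := gl_seven_cyclic K (p := p) (by rwa [hK]) (by rwa [hK]) (by omega) Q
    have hinj := rep_injective hK hm h3
    haveI := Subgroup.isCyclic_of_le hQ
    exact isCyclic_of_surjective ((P : Subgroup _).equivMapOfInjective _ hinj).symm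
      ((P : Subgroup _).equivMapOfInjective _ hinj).symm.surjective
  · refine sylow_cyclic_of_elem P 1 ?_
    rw [hG, Nat.factorization_eq_zero_of_not_dvd hC]
    exact Nat.zero_le _

end CfsgLib.ReeSylowCyclic
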