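import Cfsg.Agent.Lib.Blocks.Dihedral.Order
import Cfsg.Agent.Lib.Blocks.Vanishing
import Cfsg.Agent.Lib.SmallSimple.Order168
import Cfsg.Agent.Lib.SmallSimple.Order360
import Cfsg.Agent.Lib.Basic
import Cfsg.Agent.Lib.LocalFusion
import Cfsg.Agent.S3277

/-!
# Groups with an involution whose centraliser is dihedral of order eight
-/

namespace CfsgLib.InvolutionDihedralEight

open Cfsg CfsgLib.Blocks.Dihedral DihedralGroup

set_option linter.unusedVariables false
set_option linter.unusedSectionVars false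
set_option linter.style.haveILetI false

universe u

variable {G : Type u} [Group G] [Finite G]

theorem sq_conj {u g : G} : g * u * g⁻¹ * (g * u * g⁻¹) = g * (u * u) * g⁻¹ := by group

theorem conj_ord (g x : G) : orderOf (g * x * g⁻¹) = orderOf x := by
  rw [← MulAut.conj_apply, MulEquiv.orderOf_eq]

/-- The local data. -/
structure Eight (P : Sylow 2 G) (σ τ z : G) : Prop where
  pair : DihPair P σ τ 2
  zdef : σ ^ 2 = z
  cent : Subgroup.centralizer ({z} : Set G) = (P : Subgroup G)

theorem exists_eight (z : G) (hz : orderOf z = 2)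
    (hC : Nonempty (↥(Subgroup.centralizer ({z} : Set G)) ≃* DihedralGroup 4)) :
    ∃ (P : Sylow 2 G) (σ τ : G), Eight P σ τ z := by
  classical
  haveI : Fact (Nat.Prime 2) := ⟨Nat.prime_two⟩
  obtain ⟨e⟩ := hC
  set C := Subgroup.centralizer ({z} : Set G) with hCdef
  have hcard : Nat.card C = 8 := (Nat.card_congr e.toEquiv).trans DihedralGroup.nat_card
  obtain ⟨P, hP⟩ := (IsPGroup.of_card (p := 2) (n := 3) (by rw [hcard]; rfl) : IsPGroup 2 C).exists_le_sylow
  have hzC : z ∈ C := Subgroup.mem_centralizer_singleton_iff.2 rfl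
  have hz1 : z ≠ 1 := fun h => by rw [h, orderOf_one] at hz; omega
  have hcentD : ∀ d : DihedralGroup 4, (∀ x, d * x = x * d) → d ≠ 1 → d = r 2 := by decide
  have hPC : (P : Subgroup G) ≤ C := by
    haveI : Nontrivial (P : Subgroup G) := (Subgroup.nontrivial_iff_ne_bot _).2 fun h => by
      have := Subgroup.card_le_of_le hP
      rw [hcard, h, Subgroup.card_bot] at this
      omega
    haveI := P.2.center_nontrivial
    obtain ⟨w, hw⟩ := exists_ne (1 : Subgroup.center (P : Subgroup G))
    have hwc : ∀ x ∈ (P : Subgroup G), x * ((w : (P : Subgroup G)) : G) = (w : (P : Subgroup G)) * x :=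
      fun x hx => congrArg Subtype.val (Subgroup.mem_center_iff.1 w.2 ⟨x, hx⟩)
    have hwC : ((w : (P : Subgroup G)) : G) ∈ C :=
      Subgroup.mem_centralizer_singleton_iff.2 (hwc z (hP hzC)).symm
    have hw1 : (⟨_, hwC⟩ : C) ≠ 1 := fun h => hw (Subtype.ext (Subtype.ext (congrArg Subtype.val h : _ = _)))
    have h1 : e ⟨_, hwC⟩ = r 2 := hcentD _ (fun x => by
      obtain ⟨c, rfl⟩ := e.surjective x
      rw [← map_mul, ← map_mul]
      exact congrArg e (Subtype.ext (hwc c (hP c.2)).symm)) (fun h => hw1 (e.injective (h.trans (map_one e).symm)))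
    have h2 : e ⟨z, hzC⟩ = r 2 := hcentD _ (fun x => by
      obtain ⟨c, rfl⟩ := e.surjective x
      rw [← map_mul, ← map_mul]
      exact congrArg e (Subtype.ext (Subgroup.mem_centralizer_singleton_iff.1 c.2).symm))
      (fun h => hz1 (congrArg Subtype.val (e.injective (h.trans (map_one e).symm))))
    have h3 : ((w : (P : Subgroup G)) : G) = z := congrArg Subtype.val (e.injective (h1.trans h2.symm))
    intro x hx
    exact Subgroup.mem_centralizer_singleton_iff.2 (h3 ▸ hwc x hx)
  have hPeq : (P : Subgroup G) = C := le_antisymm hPC hP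
  let e' : (P : Subgroup G) ≃* DihedralGroup 4 := (MulEquiv.subgroupCongr hPeq).trans e
  refine ⟨P, DihedralFusion.pt e' (r 1), DihedralFusion.pt e' (sr 0), ?_⟩
  have hord : orderOf (DihedralFusion.pt e' (r 1)) = 4 := by
    show orderOf ((e'.symm (r 1) : (P : Subgroup G)) : G) = 4
    rw [Subgroup.orderOf_coe, MulEquiv.orderOf_eq, orderOf_r_one]
  have hh : Dih P (DihedralFusion.pt e' (r 1)) 2 :=
    { hpow := ⟨0, rfl⟩, iso := ⟨e'⟩, mem := DihedralFusion.pt_mem e' _, ord := hord }
  have htn : DihedralFusion.pt e' (sr 0) ∉ Subgroup.zpowers (DihedralFusion.pt e' (r 1)) := by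
    rintro ⟨t, ht⟩
    have : e'.symm (r 1) ^ t = e'.symm (sr 0) := Subtype.ext (by simpa [DihedralFusion.pt] using ht)
    rw [← map_zpow] at this
    have h' := e'.symm.injective this
    rw [r_one_zpow] at h'
    cases h'
  refine ⟨{ toDih := hh, tmem := DihedralFusion.pt_mem e' _, tnot := htn }, ?_, hPeq.symm⟩
  have hzP : z ∈ (P : Subgroup G) := hP hzC
  have hzR : z ∈ Subgroup.zpowers (DihedralFusion.pt e' (r 1)) := by
    refine hh.comm_mem (Subgroup.mem_zpowers _) (fun h => ?_) hzP
      (Subgroup.mem_centralizer_singleton_iff.1 (hPC hh.mem)).symm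
    have := Nat.le_of_dvd (by norm_num) (orderOf_dvd_of_pow_eq_one (x := DihedralFusion.pt e' (r 1))
      (n := 2) (by rw [sq, h]))
    omega
  exact ((hh.sq_eq_one hzR (by rw [← sq, ← hz, pow_orderOf_eq_one])).resolve_left hz1).symm

variable {P : Sylow 2 G} {σ τ z : G}

theorem Eight.card (h : Eight P σ τ z) : Nat.card (P : Subgroup G) = 8 := h.pair.toDih.card

theorem Eight.order (h : Eight P σ τ z) : ∃ m, Odd m ∧ Nat.card G = 8 * m := by
  haveI : Fact (Nat.Prime 2) := ⟨Nat.prime_two⟩
  refine ⟨(P : Subgroup G).index, Nat.odd_iff.2 ?_, ?_⟩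
  · have := P.not_dvd_index
    omega
  · rw [← (P : Subgroup G).card_mul_index, h.card]

theorem Eight.conj_mem (h : Eight P σ τ z) {u : G} (hu : IsConj z u) {o : G} (ho : Commute o u) :
    ∃ k, orderOf o = 2 ^ k := by
  obtain ⟨c, rfl⟩ := isConj_iff.1 hu
  have ho' : Commute (c⁻¹ * o * c) z := by
    have := (Commute.conj_iff c⁻¹).2 ho
    simpa [mul_assoc] using this
  have hmem : c⁻¹ * o * c ∈ (P : Subgroup G) :=
    h.cent ▸ Subgroup.mem_centralizer_singleton_iff.2 ho'.eq
  obtain ⟨k, hk⟩ := IsPGroup.iff_orderOf.1 P.2 ⟨_, hmem⟩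
  rw [Subgroup.orderOf_mk] at hk
  refine ⟨k, ?_⟩
  rw [← hk]
  have := conj_ord c⁻¹ o
  rw [inv_inv] at this
  exact this.symm

theorem inverts_of_fpf {O : Subgroup G} {u : G} (hu : u * u = 1)
    (hn : ∀ o ∈ O, u * o * u⁻¹ ∈ O) (hfix : ∀ o ∈ O, u * o * u⁻¹ = o → o = 1) :
    ∀ o ∈ O, u * o * u⁻¹ = o⁻¹ := by
  have hi : u⁻¹ = u := inv_eq_of_mul_eq_one_left hu
  let f : O → O := fun o => ⟨(o : G)⁻¹ * (u * o * u⁻¹), mul_mem (inv_mem o.2) (hn _ o.2)⟩
  have hf : Function.Injective f := by
    intro a b e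
    have e' : (a : G)⁻¹ * (u * a * u⁻¹) = (b : G)⁻¹ * (u * b * u⁻¹) := congrArg Subtype.val e
    have : u * ((b : G) * (a : G)⁻¹) * u⁻¹ = (b : G) * (a : G)⁻¹ := by
      calc u * ((b : G) * (a : G)⁻¹) * u⁻¹
          = (u * b * u⁻¹) * (u * a * u⁻¹)⁻¹ := by group
        _ = (b : G) * ((b : G)⁻¹ * (u * b * u⁻¹)) * (u * a * u⁻¹)⁻¹ := by group
        _ = (b : G) * ((a : G)⁻¹ * (u * a * u⁻¹)) * (u * a * u⁻¹)⁻¹ := by rw [e']
        _ = (b : G) * (a : G)⁻¹ := by group
    exact (Subtype.ext (mul_inv_eq_one.1 (hfix _ (mul_mem b.2 (inv_mem a.2)) this))).symm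
  intro o ho
  obtain ⟨w, hw⟩ := (Finite.injective_iff_surjective.1 hf) ⟨o, ho⟩
  have hw' : (w : G)⁻¹ * (u * w * u⁻¹) = o := congrArg Subtype.val hw
  rw [← hw', hi, mul_inv_rev, mul_inv_rev, mul_inv_rev, inv_inv, hi]
  calc u * ((w : G)⁻¹ * (u * w * u)) * u = u * (w : G)⁻¹ * u * w * (u * u) := by group
    _ = _ := by rw [hu]; group

/-- A four group fused in `G` forces the odd core to be trivial. -/
theorem Eight.oddCore_bot (h : Eight P σ τ z) {U : Subgroup G} (hK : IsKleinFour U)
    (hall : ∀ u ∈ U, u ≠ 1 → IsConj z u) : oddCore G = ⊥ := by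
  haveI : Fact (Nat.Prime 2) := ⟨Nat.prime_two⟩
  haveI := hK
  haveI : Finite U := inferInstance
  set O := oddCore G
  haveI : O.Normal := by unfold O; infer_instance
  have hodd : ∀ o ∈ O, Odd (orderOf o) := fun o ho =>
    (CfsgLib.odd_card_oddCore).of_dvd_nat (Subgroup.orderOf_dvd_natCard O ho)
  have hsq : ∀ u ∈ U, u * u = 1 := fun u hu =>
    congrArg Subtype.val (IsKleinFour.mul_self (⟨u, hu⟩ : U))
  have hinv : ∀ u ∈ U, u ≠ 1 → ∀ o ∈ O, u * o * u⁻¹ = o⁻¹ := fun u hu hu1 =>
    inverts_of_fpf (hsq u hu) (fun o ho => Subgroup.Normal.conj_mem inferInstance o ho u)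
      fun o ho e => by
        obtain ⟨k, hk⟩ := h.conj_mem (hall u hu hu1) (o := o) (mul_inv_eq_iff_eq_mul.1 e).symm
        obtain ⟨j, hj⟩ := hodd o ho
        rcases k with _ | k
        · exact orderOf_eq_one_iff.1 (hk.trans (pow_zero 2))
        · rw [hk, pow_succ] at hj; omega
  haveI : Nontrivial U := Finite.one_lt_card_iff_nontrivial.mp (by rw [hK.card_four]; norm_num)
  obtain ⟨a, ha⟩ := exists_ne (1 : U)
  obtain ⟨b, hb, hba⟩ : ∃ b : U, b ≠ 1 ∧ b ≠ a := by
    by_contra hcon
    push Not at hcon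
    classical
    haveI := Fintype.ofFinite U
    have hsub : (Finset.univ : Finset U) ⊆ {1, a} := fun x _ => by
      by_cases hx : x = 1
      · simp [hx]
      · simp [hcon x hx]
    have h1 := Finset.card_le_card hsub
    rw [Finset.card_univ, ← Nat.card_eq_fintype_card, hK.card_four] at h1
    exact absurd (h1.trans Finset.card_le_two) (by norm_num)
  have hab : (a : G) * b ≠ 1 := fun e => hba (by
    have := hsq a a.2
    exact Subtype.ext (mul_left_cancel (e.trans this.symm)))
  rw [Subgroup.eq_bot_iff_forall]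
  intro o ho
  have e3 := hinv _ (mul_mem a.2 b.2) hab o ho
  rw [show (a : G) * b * o * ((a : G) * b)⁻¹ = a * (b * o * (b : G)⁻¹) * (a : G)⁻¹ by group,
    hinv b b.2 (fun e => hb (Subtype.ext e)) o ho,
    show (a : G) * o⁻¹ * (a : G)⁻¹ = (a * o * (a : G)⁻¹)⁻¹ by group,
    hinv a a.2 (fun e => ha (Subtype.ext e)) o ho, inv_inv] at e3
  have h2 : o * o = 1 := mul_eq_one_iff_eq_inv.2 e3
  exact orderOf_eq_one_iff.1 (Nat.eq_one_of_dvd_coprimes (Nat.coprime_two_left.2 (hodd o ho))
    (orderOf_dvd_of_pow_eq_one (by rw [sq, h2])) dvd_rfl)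

theorem Eight.fusion_four (h : Eight P σ τ z) {U : Subgroup G} (hU : U ≤ (P : Subgroup G))
    (hK : IsKleinFour U) (hnl : ¬ DihedralFusion.Lacking U) :
    z ∈ U ∧ (∀ u ∈ U, u ≠ 1 → IsConj z u) ∧
      ∃ g ∈ Subgroup.normalizer (U : Set G), Odd (orderOf g) ∧
        g ∉ Subgroup.centralizer (U : Set G) := by
  classical
  haveI := hK
  have hsq : ∀ u ∈ U, u * u = 1 := fun u hu =>
    congrArg Subtype.val (IsKleinFour.mul_self (⟨u, hu⟩ : U))
  have hz : z ∈ U := by
    haveI : Finite U := inferInstance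
    by_contra hz
    -- otherwise every non-trivial element is a reflection
    have hout : ∀ u ∈ U, u ≠ 1 → u ∉ Subgroup.zpowers σ := fun u hu hu1 hm => by
      rcases h.pair.toDih.sq_eq_one hm (hsq u hu) with e | e
      · exact hu1 e
      · rw [h.zdef] at e; exact hz (e ▸ hu)
    haveI : Nontrivial U := Finite.one_lt_card_iff_nontrivial.mp (by rw [hK.card_four]; norm_num)
    obtain ⟨a, ha⟩ := exists_ne (1 : U)
    obtain ⟨b, hb, hba⟩ : ∃ b : U, b ≠ 1 ∧ b ≠ a := by
      by_contra hcon
      push Not at hcon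
      haveI := Fintype.ofFinite U
      have hsub : (Finset.univ : Finset U) ⊆ {1, a} := fun x _ => by
        by_cases hx : x = 1
        · simp [hx]
        · simp [hcon x hx]
      have h1 := Finset.card_le_card hsub
      rw [Finset.card_univ, ← Nat.card_eq_fintype_card, hK.card_four] at h1
      exact absurd (h1.trans Finset.card_le_two) (by norm_num)
    have ha' : (a : G) ≠ 1 := fun e => ha (Subtype.ext e)
    have hb' : (b : G) ≠ 1 := fun e => hb (Subtype.ext e)
    have hab : (a : G) * b ≠ 1 := fun e => hba (Subtype.ext (mul_left_cancel (e.trans (hsq a a.2).symm)))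
    have i1 := h.pair.toDih.invert (hU a.2) (hout a a.2 ha') (Subgroup.mem_zpowers σ)
    have i2 := h.pair.toDih.invert (hU b.2) (hout b b.2 hb') (Subgroup.mem_zpowers σ)
    have i3 := h.pair.toDih.invert (mul_mem (hU a.2) (hU b.2)) (hout _ (mul_mem a.2 b.2) hab)
      (Subgroup.mem_zpowers σ)
    rw [show (a : G) * b * σ * ((a : G) * b)⁻¹ = a * (b * σ * (b : G)⁻¹) * (a : G)⁻¹ by group, i2,
      show (a : G) * σ⁻¹ * (a : G)⁻¹ = (a * σ * (a : G)⁻¹)⁻¹ by group, i1, inv_inv] at i3
    have := Nat.le_of_dvd (by norm_num) (orderOf_dvd_of_pow_eq_one (x := σ) (n := 2)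
      (by rw [sq]; exact mul_eq_one_iff_eq_inv.2 i3))
    rw [h.pair.ord] at this
    omega
  rw [DihedralFusion.Lacking] at hnl
  push Not at hnl
  obtain ⟨g, hg, hodd, hgC⟩ := hnl
  have hz1 : z ≠ 1 := h.zdef ▸ h.pair.toDih.z_ne.1
  exact ⟨hz, fun u hu hu1 => LocalFusion.klein_isConj hK hg hgC hodd hz hz1 hu hu1,
    g, hg, hodd, hgC⟩

theorem Eight.no_central (h : Eight P σ τ z) {w : G} (hw1 : w ≠ 1) (hw2 : w * w = 1)
    (hwc : ∀ g : G, Commute g w) (hG : 8 < Nat.card G) : False := by
  classical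
  haveI : Fact (Nat.Prime 2) := ⟨Nat.prime_two⟩
  obtain ⟨g, hg⟩ := DihedralFusion.exists_conj_le (S := P) (T := Subgroup.zpowers w)
    (IsPGroup.of_card (n := 1) (by rw [Nat.card_zpowers, pow_one]; exact orderOf_eq_prime (by rw [sq, hw2]) hw1))
  have hwP : w ∈ (P : Subgroup G) := by
    have := hg ⟨w, Subgroup.mem_zpowers w, rfl⟩
    rwa [show (MulAut.conj g).toMonoidHom w = w from by
      show g * w * g⁻¹ = w
      rw [(hwc g).eq, mul_inv_cancel_right]] at this
  have hwR : w ∈ Subgroup.zpowers σ := h.pair.toDih.comm_mem (Subgroup.mem_zpowers σ) (fun e => by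
    have := Nat.le_of_dvd (by norm_num) (orderOf_dvd_of_pow_eq_one (x := σ) (n := 2) (by rw [sq, e]))
    rw [h.pair.ord] at this
    omega) hwP (hwc σ).symm
  have hwz : w = z := h.zdef ▸ (h.pair.toDih.sq_eq_one hwR hw2).resolve_left hw1
  have : Nat.card (Subgroup.centralizer ({z} : Set G)) = Nat.card G :=
    Subgroup.card_eq_iff_eq_top _ |>.2 (eq_top_iff.2 fun x _ =>
      Subgroup.mem_centralizer_singleton_iff.2 (hwz ▸ (hwc x)).eq)
  rw [h.cent, h.card] at this
  omega

theorem Eight.faithful (h : Eight P σ τ z) {n : ℕ} (hodd : oddCore G = ⊥) (hG : 8 < Nat.card G)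
    (R : Subgroup G) (hn : R.index = n) (hcard : Nat.card G = n.factorial)
    (hK : Nat.card R.normalCore ≤ 2) : Nonempty (G ≃* Equiv.Perm (Fin n)) := by
  classical
  haveI := Fintype.ofFinite G
  haveI : Fintype (G ⧸ R) := Fintype.ofFinite _
  let f := MulAction.toPermHom G (G ⧸ R)
  have hker : f.ker = R.normalCore := (Subgroup.normalCore_eq_ker R).symm
  have hbot : R.normalCore = ⊥ := by
    rw [Subgroup.eq_bot_iff_forall]
    intro w hw
    by_contra hw1
    have h2 : orderOf w = 2 := by
      have hd := Subgroup.orderOf_dvd_natCard _ hw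
      have hle := Nat.le_of_dvd Nat.card_pos hd
      have : orderOf w ≠ 1 := fun e => hw1 (orderOf_eq_one_iff.1 e)
      have := orderOf_pos w
      omega
    have hc2 : Nat.card R.normalCore = 2 := by
      have hd := Subgroup.orderOf_dvd_natCard _ hw
      rw [h2] at hd
      have := Nat.le_of_dvd Nat.card_pos hd
      omega
    refine h.no_central hw1 (by rw [← sq, ← h2, pow_orderOf_eq_one]) (fun g => ?_) hG
    have hmem : g * w * g⁻¹ ∈ R.normalCore := Subgroup.Normal.conj_mem inferInstance w hw g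
    by_contra hne
    have hne' : g * w * g⁻¹ ≠ w := fun e => hne (mul_inv_eq_iff_eq_mul.1 e)
    have h3 : ({1, w, g * w * g⁻¹} : Finset G) ⊆ Finset.univ.filter (· ∈ R.normalCore) := by
      intro x hx
      simp only [Finset.mem_insert, Finset.mem_singleton] at hx
      rcases hx with rfl | rfl | rfl <;> simp [hw, hmem]
    have := Finset.card_le_card h3
    rw [Finset.card_insert_of_notMem (by simp [Ne.symm hw1, Ne.symm (show g * w * g⁻¹ ≠ 1 from fun e => hw1 (conj_eq_one_iff.1 e))]),
      Finset.card_pair (Ne.symm hne'), ← Fintype.card_subtype, ← Nat.card_eq_fintype_card] at this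
    omega
  have hinj : Function.Injective f := (MonoidHom.ker_eq_bot_iff f).1 (hker.trans hbot)
  have hc : Nat.card (G ⧸ R) = n := by rw [← Subgroup.index_eq_card, hn]
  let eq : (G ⧸ R) ≃ Fin n := (Finite.equivFin _).trans (finCongr hc)
  refine ⟨(MulEquiv.ofBijective ((eq.permCongrHom).toMonoidHom.comp f) ?_)⟩
  exact (Nat.bijective_iff_injective_and_card _).2
    ⟨eq.permCongrHom.injective.comp hinj, by rw [Nat.card_perm, Nat.card_fin, hcard]⟩

theorem Eight.perm_four (h : Eight P σ τ z) (hodd : oddCore G = ⊥) (hG : Nat.card G = 24) :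
    Nonempty (G ≃* Equiv.Perm (Fin 4)) := by
  classical
  haveI : Fact (Nat.Prime 3) := ⟨Nat.prime_three⟩
  obtain ⟨Q⟩ : Nonempty (Sylow 3 G) := inferInstance
  have hQ : Nat.card (Q : Subgroup G) = 3 := by
    rw [Q.card_eq_multiplicity, hG]
    have : Nat.factorization 24 3 = 1 := by
      rw [show (24 : ℕ) = 3 * 8 from rfl, Nat.factorization_mul (by norm_num) (by norm_num)]
      simp [Nat.Prime.factorization_self Nat.prime_three, show Nat.factorization 8 3 = 0 from
        Nat.factorization_eq_zero_of_not_dvd (by norm_num)]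
    rw [this]
    norm_num
  set R := Subgroup.normalizer ((Q : Subgroup G) : Set G)
  have hnn : ¬ (Q : Subgroup G).Normal := fun hn => by
    haveI := hn
    have h1 := CfsgLib.le_oddCore (N := (Q : Subgroup G)) (by rw [hQ]; decide)
    rw [hodd, le_bot_iff] at h1
    rw [h1, Subgroup.card_bot] at hQ
    omega
  have hidx : R.index = 4 := by
    have h1 : Nat.card (Sylow 3 G) = R.index := Q.card_eq_index_normalizer
    have h2 := card_sylow_modEq_one 3 G
    have h3 : R.index ∣ 8 := by
      have h4 : (Q : Subgroup G).index = 8 := by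
        have := (Q : Subgroup G).card_mul_index
        rw [hQ, hG] at this
        omega
      rw [← h4]
      exact Subgroup.index_dvd_of_le Subgroup.le_normalizer
    rw [h1] at h2
    have h5 : R.index ≠ 1 := fun e => hnn (Subgroup.normalizer_eq_top_iff.1 (Subgroup.index_eq_one.1 e))
    unfold Nat.ModEq at h2
    have h6 := Nat.le_of_dvd (by norm_num) h3
    interval_cases hR : R.index <;> simp_all
  refine h.faithful hodd (by omega) R hidx (by rw [hG]; rfl) ?_
  -- the kernel contains no element of order three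
  have hR6 : Nat.card R = 6 := by
    have := R.card_mul_index
    rw [hidx, hG] at this
    omega
  have hd : Nat.card R.normalCore ∣ 6 := hR6 ▸ Subgroup.card_dvd_of_le R.normalCore_le
  have h3 : ¬ 3 ∣ Nat.card R.normalCore := by
    intro hd3
    obtain ⟨x, hx⟩ := exists_prime_orderOf_dvd_card' (p := 3) hd3
    refine hnn ⟨fun q hq g => ?_⟩
    have hxall : ∀ Q' : Sylow 3 G, Subgroup.zpowers ((x : R.normalCore) : G) = (Q' : Subgroup G) := by
      intro Q'
      obtain ⟨c, hc⟩ := MulAction.exists_smul_eq G Q Q'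
      have hxR : c⁻¹ * (x : G) * c ∈ R := by
        have := (R.normalCore_normal).conj_mem (x : G) x.2 c⁻¹
        rw [inv_inv] at this
        exact R.normalCore_le this
      have hpow : c⁻¹ * (x : G) * c ∈ (Q : Subgroup G) := by
        have hp : IsPGroup 3 (Subgroup.zpowers (c⁻¹ * (x : G) * c)) := by
          refine IsPGroup.of_card (n := 1) ?_
          have e1 := conj_ord c⁻¹ (x : G)
          rw [inv_inv] at e1
          rw [Nat.card_zpowers, e1, Subgroup.orderOf_coe, hx, pow_one]
        have hle : Subgroup.zpowers (c⁻¹ * (x : G) * c) ≤ R := Subgroup.zpowers_le.2 hxR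
        have e2 := hp.inf_normalizer_sylow Q
        exact ((le_inf le_rfl hle).trans (e2.le.trans inf_le_right)) (Subgroup.mem_zpowers _)
      have hxQ : (x : G) ∈ (Q' : Subgroup G) := by
        rw [← hc]
        have := Subgroup.smul_mem_pointwise_smul _ (MulAut.conj c) _ hpow
        simpa [mul_assoc, Sylow.coe_subgroup_smul] using this
      refine Subgroup.eq_of_le_of_card_ge (Subgroup.zpowers_le.2 hxQ) ?_
      rw [Q'.card_eq_multiplicity, ← Q.card_eq_multiplicity, hQ, Nat.card_zpowers,
        Subgroup.orderOf_coe, hx]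
    have e := (hxall Q).symm.trans (hxall (g • Q))
    rw [e]
    exact Subgroup.smul_mem_pointwise_smul q (MulAut.conj g) _ hq
  have := Nat.le_of_dvd (by norm_num) hd
  have := Nat.card_pos (α := R.normalCore)
  interval_cases hc : Nat.card R.normalCore <;> simp_all

theorem Eight.one_class (h : Eight P σ τ z)
    (hall : ∀ U : Subgroup G, U ≤ (P : Subgroup G) → IsKleinFour U → ¬ DihedralFusion.Lacking U)
    (hodd : oddCore G = ⊥) :
    Nonempty (G ≃* Matrix.SpecialLinearGroup (Fin 3) (ZMod 2)) ∨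
      Nonempty (G ≃* ↥(alternatingGroup (Fin 6))) := by
  classical
  haveI := Fintype.ofFinite G
  haveI : Fact (Nat.Prime 2) := ⟨Nat.prime_two⟩
  obtain ⟨e⟩ := h.pair.toDih.iso
  have hconj := DihedralFusion.all_conj_of_not_lacking (S := P) e (by norm_num) hall
  have hz2 : orderOf z = 2 := h.zdef ▸ orderOf_eq_prime
    (by rw [sq]; exact h.pair.toDih.z_ne.2) h.pair.toDih.z_ne.1
  have href : ∀ m, orderOf (σ ^ m * τ) = 2 := fun m => orderOf_eq_prime
    (by rw [sq]; exact (h.pair.toDih.out (h.pair.refl_mem m) (h.pair.refl_not m)).1)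
    (fun e => h.pair.refl_not m (e ▸ one_mem _))
  -- simplicity
  haveI : Nontrivial G := ⟨z, 1, fun e => by rw [e, orderOf_one] at hz2; omega⟩
  haveI : IsSimpleGroup G := by
    refine ⟨fun N hN => ?_⟩
    haveI := hN
    by_cases hev : 2 ∣ Nat.card N
    · right
      obtain ⟨x, hx⟩ := exists_prime_orderOf_dvd_card' (p := 2) hev
      have hxG : orderOf (x : G) = 2 := by rw [Subgroup.orderOf_coe, hx]
      have hin : ∀ t : G, orderOf t = 2 → t ∈ N := fun t ht => by
        obtain ⟨c, hc⟩ := isConj_iff.1 (hconj x t hxG ht)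
        exact hc ▸ hN.conj_mem _ x.2 c
      have ht : τ ∈ N := hin τ (by simpa using href 0)
      have hσ : σ ∈ N := by
        have := N.mul_mem (hin (σ * τ) (by simpa using href 1)) ht
        rwa [mul_assoc, h.pair.tinv.1, mul_one] at this
      have hPN : (P : Subgroup G) ≤ N := fun x hx => by
        rcases h.pair.shape hx with ⟨m, -, rfl⟩ | ⟨m, -, rfl⟩
        · exact pow_mem hσ m
        · exact N.mul_mem (pow_mem hσ m) ht
      have hNP : Subgroup.normalizer ((P : Subgroup G) : Set G) ≤ (P : Subgroup G) := by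
        intro g hg
        rw [← h.cent]
        refine Subgroup.mem_centralizer_singleton_iff.2 ?_
        have hzP : z ∈ (P : Subgroup G) := h.zdef ▸ pow_mem h.pair.mem 2
        have hgz : g * z * g⁻¹ ∈ (P : Subgroup G) := (Subgroup.mem_normalizer_iff.1 hg z).1 hzP
        have hc : Commute σ (g * z * g⁻¹) := by
          have h1 : g⁻¹ * σ * g ∈ (P : Subgroup G) :=
            (Subgroup.mem_normalizer_iff''.1 hg σ).1 h.pair.mem
          have h2 := h.zdef ▸ h.pair.toDih.z_central h1
          have := (Commute.conj_iff g).2 h2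
          simpa [mul_assoc] using this
        have hsq : g * z * g⁻¹ * (g * z * g⁻¹) = 1 := by
          rw [sq_conj, ← h.zdef, h.pair.toDih.z_ne.2]; group
        have hR := h.pair.toDih.comm_mem (Subgroup.mem_zpowers σ) (fun e => by
          have := Nat.le_of_dvd (by norm_num)
            (orderOf_dvd_of_pow_eq_one (x := σ) (n := 2) (by rw [sq, e]))
          rw [h.pair.ord] at this
          omega) hgz hc.symm
        have h' : g * z * g⁻¹ = z := by
          refine h.zdef ▸ (h.pair.toDih.sq_eq_one hR hsq).resolve_left fun e => ?_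
          rw [conj_eq_one_iff] at e
          rw [e, orderOf_one] at hz2
          omega
        exact mul_inv_eq_iff_eq_mul.1 h'
      let PN : Sylow 2 N := P.subtype hPN
      have htop := Sylow.normalizer_sup_eq_top (N := N) PN
      have hmap : ((PN : Subgroup N).map N.subtype) = (P : Subgroup G) :=
        Subgroup.map_subgroupOf_eq_of_le hPN
      rw [hmap, sup_eq_right.2 (hNP.trans hPN)] at htop
      exact htop
    · left
      have h1 := CfsgLib.le_oddCore (N := N) (Nat.odd_iff.2 (by omega))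
      rwa [hodd, le_bot_iff] at h1
  -- the order
  obtain ⟨M, hM⟩ := CfsgLib.Blocks.exists_isPModular Nat.prime_two
  obtain ⟨ζ, hζ⟩ : ∃ ζ : ℂ, IsPrimitiveRoot ζ (2 * 2) :=
    ⟨_, Complex.isPrimitiveRoot_exp (2 * 2) (by norm_num)⟩
  obtain ⟨U, V, W, s, eU, eV, eW, -, -, hW, -, ⟨-, -, oW, -⟩, -, hB, hv, -⟩ :=
    h.pair.toDih.exists_columns hM hζ
  have hc : IsConj (σ ^ 2) τ ∧ IsConj (σ ^ 2) (σ * τ) := by
    rw [h.zdef]
    exact ⟨hconj _ _ hz2 (by simpa using href 0), hconj _ _ hz2 (by simpa using href 1)⟩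
  obtain ⟨hne, hord⟩ := order_formula hM h.pair hc ((hB W).2 (by tauto)) oW.symm hW
    (fun l h0 hl => (hv l h0 hl).1)
  obtain ⟨K, hK⟩ := h.pair.toDih.exists_core
  have hK1 : Nat.card K = 1 := by
    have := hK.card
    rw [h.zdef, h.cent] at this
    have hpos := Nat.card_pos (α := (P : Subgroup G))
    nlinarith
  have hKb : K = ⊥ := Subgroup.card_eq_one.1 hK1
  have hinv : ∀ m, (inv' K σ τ m).card = 1 := fun m => by
    rw [Finset.card_eq_one]
    refine ⟨1, ?_⟩
    ext k
    rw [mem_inv', hKb, Subgroup.mem_bot, Finset.mem_singleton]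
    refine ⟨And.left, fun e => ⟨e, ?_⟩⟩
    rw [e, one_mul]
    exact (h.pair.toDih.out (h.pair.refl_mem m) (h.pair.refl_not m)).1
  rw [h.pair.card_invs hK, hinv, hinv, h.zdef, h.cent, h.card] at hord
  obtain ⟨m, hm, hG⟩ := h.order
  obtain ⟨d, hd, hdx⟩ := CfsgLib.CharTheory.irr_degree_pos W.2
  have hx1 : (1 : ℤ) ≤ (charDegree (W : G → ℂ) : ℤ) := by
    have e : charDegree (W : G → ℂ) = d := by
      simp [charDegree, hdx]
    omega
  rw [hG] at hord
  generalize (charDegree (W : G → ℂ) : ℤ) = x at hord hne hx1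
  push_cast at hord
  have hδ2 : eW * eW = 1 := by rcases hW with rfl | rfl <;> norm_num
  obtain ⟨y, rfl⟩ : ∃ y, x = y + eW := ⟨x - eW, by ring⟩
  rw [add_sub_cancel_right] at hord
  have hy0 : y ≠ 0 := fun e => hne (by rw [e, zero_add])
  have hdvd : y ∣ 64 := by
    refine ⟨(m : ℤ) * y - 32 * y - 96 * eW, ?_⟩
    linarith [hord, show y * ((m : ℤ) * y - 32 * y - 96 * eW) =
      (m : ℤ) * y ^ 2 - 32 * y ^ 2 - 96 * (eW * y) by ring,
      show 2 * (y + eW) * (y + eW + eW) = 2 * y ^ 2 + 6 * (eW * y) + 4 * (eW * eW) by ring]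
  have hy1 : 1 ≤ y := by rcases hW with rfl | rfl <;> omega
  have hy64 : y ≤ 64 := Int.le_of_dvd (by norm_num) hdvd
  obtain ⟨j, hj⟩ := hm
  have hm' : (m : ℤ) = 2 * (j : ℤ) + 1 := by rw [hj]; push_cast; ring
  rw [hm'] at hord
  have hcases : Nat.card G = 168 ∨ Nat.card G = 360 := by
    rw [hG]
    rcases hW with rfl | rfl <;> interval_cases y <;> (try ring_nf at hord) <;> omega
  rcases hcases with h168 | h360
  · left
    haveI := (CfsgLib.Order168.gl32).1
    obtain ⟨e⟩ := CfsgLib.Order168.nonempty_mulEquiv h168 (CfsgLib.Order168.gl32).2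
    have hu : Function.Bijective (Matrix.SpecialLinearGroup.toGL :
        Matrix.SpecialLinearGroup (Fin 3) (ZMod 2) → GL (Fin 3) (ZMod 2)) := by
      refine ⟨Matrix.SpecialLinearGroup.toGL_injective, fun g => ⟨⟨g.1, ?_⟩, Units.ext rfl⟩⟩
      exact CfsgLib.Order168.units_two (Matrix.GeneralLinearGroup.det g)
    exact ⟨e.trans (MulEquiv.ofBijective _ hu).symm⟩
  · exact Or.inr (CfsgLib.Order360.iso_A6 h360)

theorem Eight.mixed (h : Eight P σ τ z) {U₀ U₁ : Subgroup G} (h0 : U₀ ≤ (P : Subgroup G))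
    (hK0 : IsKleinFour U₀) (hn0 : ¬ DihedralFusion.Lacking U₀) (h1 : U₁ ≤ (P : Subgroup G))
    (hK1 : IsKleinFour U₁) (hl1 : DihedralFusion.Lacking U₁) :
    Nonempty (G ≃* Equiv.Perm (Fin 4)) ∨ Nonempty (G ≃* Equiv.Perm (Fin 5)) := by
  classical
  haveI := Fintype.ofFinite G
  haveI : Fact (Nat.Prime 2) := ⟨Nat.prime_two⟩
  haveI := hK0
  obtain ⟨e⟩ := h.pair.toDih.iso
  obtain ⟨hz0, hall, g, hg, hgodd, hgC⟩ := h.fusion_four h0 hK0 hn0
  have hodd := h.oddCore_bot hK0 hall
  obtain ⟨H, hH⟩ := DihedralFusion.exists_index_two_of_lacking (S := P) e (by norm_num) h1 hK1 hl1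
  haveI hHn : H.Normal := Subgroup.normal_of_index_eq_two hH
  have hodd_mem : ∀ x : G, Odd (orderOf x) → x ∈ H := by
    intro x hx
    obtain ⟨k, hk⟩ := hx
    have : x = (x ^ 2) ^ (k + 1) := by
      rw [← pow_mul, show 2 * (k + 1) = orderOf x + 1 by omega, pow_succ, pow_orderOf_eq_one, one_mul]
    rw [this]
    exact pow_mem (Subgroup.sq_mem_of_index_two hH x) _
  have hgH := hodd_mem g hgodd
  have hUH : U₀ ≤ H := LocalFusion.klein_le_of_normal hK0 hg hgC hgodd hgH
  obtain ⟨m, hm, hG⟩ := h.order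
  have hHG := H.card_mul_index
  rw [hH, hG] at hHG
  have hHP : H ⊓ (P : Subgroup G) = U₀ := by
    refine (Subgroup.eq_of_le_of_card_ge (le_inf hUH h0) ?_).symm
    rw [hK0.card_four]
    have h8 : Nat.card (H ⊓ (P : Subgroup G) : Subgroup G) ∣ 8 :=
      h.card ▸ Subgroup.card_dvd_of_le inf_le_right
    have hH' : Nat.card (H ⊓ (P : Subgroup G) : Subgroup G) ∣ Nat.card H :=
      Subgroup.card_dvd_of_le inf_le_left
    have hle := Nat.le_of_dvd (by norm_num) h8
    obtain ⟨j, hj⟩ := hm
    by_contra hgt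
    have h8' : Nat.card (H ⊓ (P : Subgroup G) : Subgroup G) = 8 := by
      interval_cases hc : Nat.card (H ⊓ (P : Subgroup G) : Subgroup G) <;> simp_all
    rw [h8'] at hH'
    obtain ⟨q, hq⟩ := hH'
    omega
  have hsq : ∀ u ∈ U₀, u * u = 1 := fun u hu =>
    congrArg Subtype.val (IsKleinFour.mul_self (⟨u, hu⟩ : U₀))
  have hCU : Subgroup.centralizer (U₀ : Set G) ≤ U₀ := by
    intro x hx
    have hxP : x ∈ (P : Subgroup G) := h.cent ▸ Subgroup.mem_centralizer_singleton_iff.2
      (Subgroup.mem_centralizer_iff.1 hx z hz0).symm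
    by_contra hxn
    -- a reflection of the four group would commute with everything
    have hle : U₀ ⊔ Subgroup.zpowers x ≤ (P : Subgroup G) := sup_le h0 (Subgroup.zpowers_le.2 hxP)
    have hlt : U₀ < U₀ ⊔ Subgroup.zpowers x := lt_of_le_of_ne le_sup_left fun e =>
      hxn (e ▸ Subgroup.mem_sup_right (Subgroup.mem_zpowers x))
    have hcard : Nat.card (U₀ ⊔ Subgroup.zpowers x : Subgroup G) = 8 := by
      have h8 := h.card ▸ Subgroup.card_dvd_of_le hle
      have h4 := Subgroup.card_dvd_of_le hlt.le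
      rw [hK0.card_four] at h4
      have hne4 : Nat.card (U₀ ⊔ Subgroup.zpowers x : Subgroup G) ≠ 4 := fun e =>
        hlt.ne (Subgroup.eq_of_le_of_card_ge hlt.le (by rw [e, hK0.card_four]))
      have hle8 := Nat.le_of_dvd (by norm_num) h8
      obtain ⟨q, hq⟩ := h4
      have : 0 < Nat.card (U₀ ⊔ Subgroup.zpowers x : Subgroup G) := Nat.card_pos
      omega
    have hPeq : U₀ ⊔ Subgroup.zpowers x = (P : Subgroup G) :=
      Subgroup.eq_of_le_of_card_ge hle (by rw [hcard, h.card])
    have hcen : ∀ p ∈ (P : Subgroup G), ∀ u ∈ U₀, Commute p u := by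
      intro p hp u hu
      rw [← hPeq] at hp
      have hsub : U₀ ⊔ Subgroup.zpowers x ≤ Subgroup.centralizer ({u} : Set G) := by
        refine sup_le (fun v hv => ?_) (Subgroup.zpowers_le.2 ?_)
        · exact Subgroup.mem_centralizer_singleton_iff.2
            (Subgroup.mem_centralizer_iff.1 (DihedralFusion.le_centralizer_klein hK0 hu) v hv)
        · exact Subgroup.mem_centralizer_singleton_iff.2 (Subgroup.mem_centralizer_iff.1 hx u hu).symm
      exact Subgroup.mem_centralizer_singleton_iff.1 (hsub hp)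
    haveI : Finite U₀ := inferInstance
    have hall1 : ∀ u ∈ U₀, u = 1 ∨ u = σ ^ 2 := fun u hu =>
      h.pair.toDih.sq_eq_one (h.pair.toDih.comm_mem (Subgroup.mem_zpowers σ) (fun e => by
        have := Nat.le_of_dvd (by norm_num) (orderOf_dvd_of_pow_eq_one (x := σ) (n := 2) (by rw [sq, e]))
        rw [h.pair.ord] at this
        omega) (h0 hu) (hcen σ h.pair.mem u hu).symm) (hsq u hu)
    have hsub : Finset.univ.filter (· ∈ U₀) ⊆ ({1, σ ^ 2} : Finset G) := fun u hu => by
      simpa using hall1 u (Finset.mem_filter.1 hu).2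
    have := (Finset.card_le_card hsub).trans Finset.card_le_two
    rw [← Fintype.card_subtype, ← Nat.card_eq_fintype_card, hK0.card_four] at this
    omega
  have hnorm_le : ∀ R : Subgroup G, R ≤ Subgroup.normalizer (U₀ : Set G) → Nat.card R ≤ 24 := by
    intro R hR
    refine (Subgroup.card_le_of_le hR).trans ?_
    set N := Subgroup.normalizer (U₀ : Set G)
    have h1 := Subgroup.card_mul_index U₀.normalizerMonoidHom.ker
    rw [← h1, Subgroup.index_ker]
    have hk : Nat.card U₀.normalizerMonoidHom.ker ≤ 4 := by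
      rw [Subgroup.normalizerMonoidHom_ker,
        Nat.card_congr (Subgroup.subgroupOfEquivOfLe (Subgroup.centralizer_le_normalizer _)).toEquiv,
        ← hK0.card_four]
      exact Subgroup.card_le_of_le hCU
    haveI : Finite (MulAut U₀) := Finite.of_injective (fun f : MulAut U₀ => (f : U₀ → U₀)) DFunLike.coe_injective
    have hr : Nat.card U₀.normalizerMonoidHom.range ≤ 6 :=
      (Nat.card_le_card_of_injective _ Subtype.val_injective).trans DihedralFusion.card_mulAut_klein_le
    calc _ ≤ 4 * 6 := Nat.mul_le_mul hk hr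
      _ = 24 := by norm_num
  have hPN : (P : Subgroup G) ≤ Subgroup.normalizer (U₀ : Set G) := by
    intro p hp
    refine Subgroup.mem_normalizer_fintype fun u hu => ?_
    rw [← hHP]
    exact ⟨hHn.conj_mem u (hUH hu) p,
      (P : Subgroup G).mul_mem ((P : Subgroup G).mul_mem hp (h0 hu)) ((P : Subgroup G).inv_mem hp)⟩
  have hN24 : Nat.card (Subgroup.normalizer (U₀ : Set G)) = 24 := by
    refine le_antisymm (hnorm_le _ le_rfl) (Nat.le_of_dvd Nat.card_pos ?_)
    have h8 : 8 ∣ Nat.card (Subgroup.normalizer (U₀ : Set G)) := h.card ▸ Subgroup.card_dvd_of_le hPN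
    have h3 : 3 ∣ Nat.card (Subgroup.normalizer (U₀ : Set G)) :=
      (DihedralFusion.three_dvd hK0 hn0).trans (Subgroup.card_range_dvd _)
    exact Nat.Coprime.mul_dvd_of_dvd_of_dvd (by norm_num : Nat.Coprime 8 3) h8 h3
  by_cases hnorm : (U₀.subgroupOf H).Normal
  · left
    have htop : Subgroup.normalizer (U₀ : Set G) = ⊤ := by
      rw [eq_top_iff]
      intro x _
      by_cases hx : x ∈ H
      · refine Subgroup.mem_normalizer_fintype fun u hu => ?_
        exact hnorm.conj_mem ⟨u, hUH hu⟩ hu ⟨x, hx⟩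
      · obtain ⟨p, hp, hpH⟩ : ∃ p ∈ (P : Subgroup G), p ∉ H := by
          by_contra hc
          push Not at hc
          have := Subgroup.card_dvd_of_le (show (P : Subgroup G) ≤ H from hc)
          rw [h.card] at this
          obtain ⟨q, hq⟩ := this
          obtain ⟨j, hj⟩ := hm
          omega
        have hxp : x * p ∈ H := (Subgroup.mul_mem_iff_of_index_two hH).2 (iff_of_false hx hpH)
        have h2 : x * p ∈ Subgroup.normalizer (U₀ : Set G) :=
          Subgroup.mem_normalizer_fintype fun u hu => hnorm.conj_mem ⟨u, hUH hu⟩ hu ⟨x * p, hxp⟩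
        have := mul_mem h2 (inv_mem (hPN hp))
        rwa [mul_inv_cancel_right] at this
    refine h.perm_four hodd ?_
    rw [← hN24, htop, Subgroup.card_top]
  · right
    have hU4 : Nat.card (U₀.subgroupOf H) = 4 := by
      rw [Nat.card_congr (Subgroup.subgroupOfEquivOfLe hUH).toEquiv, hK0.card_four]
    obtain ⟨φ⟩ : Nonempty (H ≃* alternatingGroup (Fin 5)) := by
      have hcent : ∀ c : H, c ∈ Subgroup.centralizer ({⟨z, hUH hz0⟩} : Set H) ↔ (c : G) ∈ U₀ := by
        intro c
        rw [Subgroup.mem_centralizer_singleton_iff, Subtype.ext_iff]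
        refine ⟨fun hc => hHP ▸ ⟨c.2, h.cent ▸ Subgroup.mem_centralizer_singleton_iff.2 hc⟩,
          fun hc => ?_⟩
        exact (Subgroup.mem_centralizer_iff.1 (DihedralFusion.le_centralizer_klein hK0 hz0) _ hc)
      refine Cfsg.Agent.S3277.result (⟨z, hUH hz0⟩ : H) ?_ ?_ (fun c hc => ?_) ?_ ?_
      · rw [← Subgroup.orderOf_coe]
        have h2 : orderOf (σ ^ 2) = 2 :=
          orderOf_eq_prime (by rw [sq]; exact h.pair.toDih.z_ne.2) h.pair.toDih.z_ne.1
        rw [h.zdef] at h2
        exact h2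
      · rw [← hU4]
        exact Nat.card_congr (Equiv.subtypeEquivRight hcent)
      · exact Subtype.ext (by rw [sq]; exact hsq _ ((hcent c).1 hc))
      · rintro ⟨Q, N, hN, hc⟩
        haveI := hN
        have hNodd : ¬ 2 ∣ Nat.card N := fun hd => Q.not_dvd_index (hc.index_eq_card ▸ hd)
        have hgN : (⟨g, hgH⟩ : H) ∈ N := by
          obtain ⟨k, hk⟩ := Q.2.exists_card_eq
          exact (CfsgLib.Blocks.AbelianFree.mem_iff_regular Nat.prime_two hNodd
            (hc.symm.index_eq_card.trans hk) _).2 (by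
              rw [Subgroup.orderOf_mk]; obtain ⟨j, hj⟩ := hgodd; omega)
        refine hgC (Subgroup.mem_centralizer_iff.2 fun u hu => ?_)
        have hcomm : g * u * g⁻¹ * u⁻¹ ∈ U₀ :=
          mul_mem ((Subgroup.mem_normalizer_iff.1 hg u).1 hu) (inv_mem hu)
        have hcN : (⟨g, hgH⟩ : H) * (⟨u, hUH hu⟩ * (⟨g, hgH⟩ : H)⁻¹ * (⟨u, hUH hu⟩)⁻¹) ∈ N :=
          N.mul_mem hgN (hN.conj_mem _ (inv_mem hgN) _)
        have h1 : g * u * g⁻¹ * u⁻¹ = 1 := by
          by_contra h1
          refine hNodd ?_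
          have hd := Subgroup.orderOf_dvd_natCard N hcN
          rw [← Subgroup.orderOf_coe] at hd
          have e' : g * (u * g⁻¹ * u⁻¹) = g * u * g⁻¹ * u⁻¹ := by group
          change orderOf (g * (u * g⁻¹ * u⁻¹)) ∣ _ at hd
          rwa [e', orderOf_eq_prime (by rw [sq]; exact hsq _ hcomm) h1] at hd
        exact (mul_inv_eq_iff_eq_mul.1 (mul_inv_eq_one.1 h1)).symm
      · intro E hE hEab
        refine ⟨fun h2 => ?_, fun h4 => ?_⟩
        · obtain ⟨w, hw⟩ := exists_prime_orderOf_dvd_card' (G := E) (p := 2) (dvd_of_eq h2.symm)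
          have hwG : orderOf ((w : H) : G) = 2 := by rw [Subgroup.orderOf_coe, Subgroup.orderOf_coe, hw]
          have hw1 : ((w : H) : G) ≠ 1 := fun e => by rw [e, orderOf_one] at hwG; omega
          have hwc : ∀ x : H, Commute x (w : H) := by
            intro x
            by_contra hne
            have hne' : x * (w : H) * x⁻¹ ≠ w := fun e => hne (mul_inv_eq_iff_eq_mul.1 e)
            have hsub : ({1, (w : H), x * (w : H) * x⁻¹} : Finset H) ⊆
                Finset.univ.filter (· ∈ E) := by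
              intro y hy
              simp only [Finset.mem_insert, Finset.mem_singleton] at hy
              rcases hy with rfl | rfl | rfl <;> simp [hE.conj_mem _ w.2 x]
            have := Finset.card_le_card hsub
            have hwH : (w : H) ≠ 1 := fun e => hw1 (by rw [e]; rfl)
            rw [Finset.card_insert_of_notMem (by simp [Ne.symm hwH, Ne.symm (show x * (w : H) * x⁻¹ ≠ 1 from fun e => hwH (conj_eq_one_iff.1 e))]),
              Finset.card_pair (Ne.symm hne'), ← Fintype.card_subtype, ← Nat.card_eq_fintype_card, h2] at this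
            omega
          have hwU : ((w : H) : G) ∈ U₀ := by
            rw [← hcent (w : H)]
            exact Subgroup.mem_centralizer_singleton_iff.2 (hwc ⟨z, hUH hz0⟩).eq.symm
          obtain ⟨c, hc⟩ := isConj_iff.1 (hall _ hwU hw1)
          have hgw : Commute g ((w : H) : G) := congrArg Subtype.val (hwc ⟨g, hgH⟩).eq
          obtain ⟨k, hk⟩ := h.conj_mem (hall _ hwU hw1) hgw
          refine hgC ?_
          have : g = 1 := by
            rcases k with _ | k
            · exact orderOf_eq_one_iff.1 (hk.trans (pow_zero 2))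
            · obtain ⟨j, hj⟩ := hgodd
              rw [hk, pow_succ] at hj
              omega
          rw [this]
          exact one_mem _
        · refine hnorm ?_
          suffices U₀.subgroupOf H = E from this ▸ hE
          have hp : IsPGroup 2 (U₀.subgroupOf H ⊔ E : Subgroup H) :=
            (IsPGroup.of_card (n := 2) (by rw [hU4]; norm_num)).to_sup_of_normal_right
              (IsPGroup.of_card (n := 2) (by rw [h4]; norm_num))
          have hle : Nat.card (U₀.subgroupOf H ⊔ E : Subgroup H) ≤ 4 := by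
            obtain ⟨k, hk⟩ := hp.exists_card_eq
            have hd := Subgroup.card_subgroup_dvd_card (U₀.subgroupOf H ⊔ E : Subgroup H)
            rw [hk] at hd ⊢
            obtain ⟨q, hq⟩ := hd
            obtain ⟨j, hj⟩ := hm
            rcases k with _ | _ | _ | k
            · norm_num
            · norm_num
            · norm_num
            · exfalso
              rw [pow_succ, pow_succ, pow_succ] at hq
              have : Nat.card H = 2 ^ k * 2 * 2 * 2 * q := hq
              have h8 : 8 ∣ Nat.card H := ⟨2 ^ k * q, by rw [this]; ring⟩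
              omega
          exact (Subgroup.eq_of_le_of_card_ge le_sup_left (by rw [hU4]; exact hle)).trans
            (Subgroup.eq_of_le_of_card_ge le_sup_right (by rw [h4]; exact hle)).symm
    have hH60 : Nat.card H = 60 := by
      rw [Nat.card_congr φ.toEquiv, nat_card_alternatingGroup, Nat.card_fin]; rfl
    haveI : IsSimpleGroup H :=
      haveI : IsSimpleGroup (alternatingGroup (Fin 5)) := alternatingGroup.isSimpleGroup_five
      φ.isSimpleGroup
    set R := Subgroup.normalizer (U₀ : Set G)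
    have hG120 : Nat.card G = 120 := by rw [← H.card_mul_index, hH, hH60]
    have hidx : R.index = 5 := by
      have := R.card_mul_index
      rw [hN24, hG120] at this
      omega
    refine h.faithful hodd (by omega) R hidx (by rw [hG120]; rfl) ?_
    have hn : (R.normalCore.subgroupOf H).Normal := inferInstance
    rcases hn.eq_bot_or_eq_top with e' | e'
    · have hinj : Function.Injective ((QuotientGroup.mk' H).comp R.normalCore.subtype) := by
        rw [← MonoidHom.ker_eq_bot_iff, Subgroup.eq_bot_iff_forall]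
        intro x hx
        have hxH : (x : G) ∈ H := (QuotientGroup.eq_one_iff _).1 hx
        have : (⟨(x : G), hxH⟩ : H) ∈ R.normalCore.subgroupOf H := x.2
        rw [e', Subgroup.mem_bot] at this
        exact Subtype.ext (congrArg Subtype.val this :)
      have := Nat.card_le_card_of_injective _ hinj
      rwa [← Subgroup.index_eq_card, hH] at this
    · exfalso
      have hle : H ≤ R := (Subgroup.subgroupOf_eq_top.1 e').trans R.normalCore_le
      have := Subgroup.card_le_of_le hle
      rw [hH60, hN24] at this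
      omega

theorem classify (z : G) (hz : orderOf z = 2)
    (hC : Nonempty (↥(Subgroup.centralizer ({z} : Set G)) ≃* DihedralGroup 4)) :
    Subgroup.centralizer ({z} : Set G) ⊔ Cfsg.oddCore G = ⊤ ∨ Nonempty (G ≃* Equiv.Perm (Fin 4)) ∨
      Nonempty (G ≃* Equiv.Perm (Fin 5)) ∨
      Nonempty (G ≃* Matrix.SpecialLinearGroup (Fin 3) (ZMod 2)) ∨
      Nonempty (G ≃* ↥(alternatingGroup (Fin 6))) := by
  classical
  haveI : Fact (Nat.Prime 2) := ⟨Nat.prime_two⟩
  obtain ⟨P, σ, τ, h⟩ := exists_eight z hz hC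
  obtain ⟨e⟩ := h.pair.toDih.iso
  by_cases hA : ∀ U : Subgroup G, U ≤ (P : Subgroup G) → IsKleinFour U → DihedralFusion.Lacking U
  · left
    obtain ⟨Q, N, hN, hc⟩ :=
      DihedralFusion.hasNormalPComplement_of_lacking (S := P) e (by norm_num) hA
    haveI := hN
    have hNodd : ¬ 2 ∣ Nat.card N := fun hd => Q.not_dvd_index (hc.index_eq_card ▸ hd)
    have hQP : Nat.card (Q : Subgroup G) = Nat.card (P : Subgroup G) :=
      Q.card_eq_multiplicity.trans P.card_eq_multiplicity.symm
    have hcompl : N.IsComplement' (P : Subgroup G) := by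
      refine Subgroup.isComplement'_of_coprime ?_ ?_
      · rw [← hQP, hc.card_mul]
      · rw [h.card]
        exact (Nat.Coprime.pow_left 3 (Nat.prime_two.coprime_iff_not_dvd.2 hNodd)).symm
    have hle : N ≤ oddCore G := CfsgLib.le_oddCore (Nat.odd_iff.2 (by omega))
    rw [eq_top_iff, ← hcompl.sup_eq_top, h.cent]
    exact sup_le (hle.trans le_sup_right) le_sup_left
  push Not at hA
  obtain ⟨U₀, h0, hK0, hn0⟩ := hA
  right
  by_cases hB : ∀ U : Subgroup G, U ≤ (P : Subgroup G) → IsKleinFour U → ¬ DihedralFusion.Lacking U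
  · exact Or.inr (Or.inr (h.one_class hB (h.oddCore_bot hK0 (h.fusion_four h0 hK0 hn0).2.1)))
  · push Not at hB
    obtain ⟨U₁, h1, hK1, hl1⟩ := hB
    rcases h.mixed h0 hK0 hn0 h1 hK1 hl1 with r | r
    · exact Or.inl r
    · exact Or.inr (Or.inl r)

end CfsgLib.InvolutionDihedralEight
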