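import Mathlib.LinearAlgebra.Semisimple
import Mathlib.LinearAlgebra.Determinant
import Mathlib.LinearAlgebra.Charpoly.Basic
import Mathlib.LinearAlgebra.FiniteDimensional.Lemmas
import Mathlib.FieldTheory.Finite.GaloisField
import Mathlib.FieldTheory.Separable
import Mathlib.RingTheory.Norm.Defs
import Mathlib.RingTheory.AdjoinRoot

/-!
The centraliser of a semisimple endomorphism over a finite field maps onto the determinants.
-/

set_option autoImplicit false

namespace CfsgLib.CentralizerDet

open Polynomial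

variable {F : Type*} [Field F] [Finite F]
variable {V : Type*} [AddCommGroup V] [Module F V] [FiniteDimensional F V]

theorem exists_det_of_simple (f : Module.End F V) [Nontrivial V]
    (hsimple : ∀ W : Submodule F V, (∀ w ∈ W, f w ∈ W) → W = ⊥ ∨ W = ⊤) (d : Fˣ) :
    ∃ g : Module.End F V, Commute g f ∧ LinearMap.det g = d := by
  have hint : IsIntegral F f := Algebra.IsIntegral.isIntegral f
  set m := minpoly F f with hm
  have hcomm : ∀ P : F[X], Commute (aeval f P) f := fun P => by
    have := (Commute.all X P).map (aeval f : F[X] →ₐ[F] Module.End F V)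
    rw [aeval_X] at this
    exact this.symm
  have hrange : ∀ P : F[X], ∀ w ∈ LinearMap.range (aeval f P), f w ∈ LinearMap.range (aeval f P) := by
    rintro P _ ⟨u, rfl⟩
    exact ⟨f u, LinearMap.congr_fun (hcomm P).eq u⟩
  have hirr : Irreducible m := by
    refine ⟨minpoly.not_isUnit F f, fun a b hab => ?_⟩
    by_contra hne
    push Not at hne
    obtain ⟨ha, hb⟩ := hne
    have hm0 : m ≠ 0 := minpoly.ne_zero hint
    rw [hab] at hm0
    obtain ⟨ha0, hb0⟩ := mul_ne_zero_iff.mp hm0
    have key : ∀ a b : F[X], a ≠ 0 → b ≠ 0 → m = a * b → ¬ IsUnit b → aeval f a ≠ 0 := by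
      intro a b ha0 hb0 h hb h0
      have hle := natDegree_le_of_dvd (minpoly.dvd F f h0) ha0
      rw [← hm, h, natDegree_mul ha0 hb0] at hle
      exact hb (isUnit_iff_degree_eq_zero.mpr (by rw [degree_eq_natDegree hb0]; norm_cast; omega))
    have ha' := key a b ha0 hb0 hab hb
    have hb' := key b a hb0 ha0 (hab.trans (mul_comm a b)) ha
    rcases hsimple _ (hrange b) with h | h
    · exact hb' (LinearMap.range_eq_bot.mp h)
    · refine ha' (LinearMap.ext fun v => ?_)
      obtain ⟨u, rfl⟩ := LinearMap.range_eq_top.mp h v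
      rw [← Module.End.mul_apply, ← map_mul, ← hab, hm, minpoly.aeval]
      rfl
  haveI : Fact (Irreducible m) := ⟨hirr⟩
  obtain ⟨v, hv⟩ := exists_ne (0 : V)
  let ψ : AdjoinRoot m →ₐ[F] Module.End F V :=
    Ideal.Quotient.liftₐ (Ideal.span {m}) (aeval f) fun a ha => by
      obtain ⟨c, rfl⟩ := Ideal.mem_span_singleton.mp ha
      rw [map_mul, hm, minpoly.aeval, zero_mul]
  have hψ : ∀ P, ψ (AdjoinRoot.mk m P) = aeval f P := fun P => rfl
  let ev : AdjoinRoot m →ₗ[F] V := (LinearMap.applyₗ v).comp ψ.toLinearMap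
  have hev : ∀ a, ev a = ψ a v := fun a => rfl
  have hinj : Function.Injective ev := by
    rw [← LinearMap.ker_eq_bot, Submodule.eq_bot_iff]
    intro a ha
    by_contra hne
    rw [LinearMap.mem_ker, hev] at ha
    refine hv ?_
    have h1 : ψ a⁻¹ (ψ a v) = v := by
      rw [← Module.End.mul_apply, ← map_mul, inv_mul_cancel₀ hne, map_one, Module.End.one_apply]
    rwa [ha, map_zero, eq_comm] at h1
  have hsurj : Function.Surjective ev := by
    rw [← LinearMap.range_eq_top]
    refine (hsimple _ ?_).resolve_left fun h => hv ?_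
    · rintro _ ⟨a, rfl⟩
      refine ⟨AdjoinRoot.root m * a, ?_⟩
      rw [hev, hev, map_mul, Module.End.mul_apply]
      congr 1
      rw [← AdjoinRoot.mk_X, hψ, aeval_X]
    · have h1 := LinearMap.range_eq_bot.mp h
      have := LinearMap.congr_fun h1 1
      rwa [hev, map_one, Module.End.one_apply] at this
  let e : AdjoinRoot m ≃ₗ[F] V := LinearEquiv.ofBijective ev ⟨hinj, hsurj⟩
  haveI : Module.Finite F (AdjoinRoot m) := Module.Finite.equiv e.symm
  haveI : Finite (AdjoinRoot m) := Module.finite_of_finite F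
  obtain ⟨a, ha⟩ := FiniteField.norm_surjective F (AdjoinRoot m) (d : F)
  refine ⟨ψ a, ?_, ?_⟩
  · obtain ⟨P, rfl⟩ := AdjoinRoot.mk_surjective a
    rw [hψ]
    exact hcomm P
  · rw [← ha, Algebra.norm_apply, ← LinearMap.det_conj (Algebra.lmul F (AdjoinRoot m) a) e]
    congr 1
    refine LinearMap.ext fun w => ?_
    obtain ⟨b, rfl⟩ := e.surjective w
    simp only [LinearMap.comp_apply, LinearEquiv.coe_coe, LinearEquiv.symm_apply_apply]
    show ψ a (ψ b v) = ψ (a * b) v
    rw [map_mul, Module.End.mul_apply]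

/-- Over a finite field the centraliser of a semisimple endomorphism has every determinant. -/
theorem exists_det_of_semisimple [Nontrivial V] (f : Module.End F V) (hf : f.IsSemisimple)
    (d : Fˣ) : ∃ g : Module.End F V, Commute g f ∧ LinearMap.det g = d := by
  let S := {W : Submodule F V | W ≠ ⊥ ∧ ∀ w ∈ W, f w ∈ W}
  obtain ⟨U, ⟨hU0, hUf⟩, hmin⟩ := (wellFounded_lt (α := Submodule F V)).has_min S
    ⟨⊤, top_ne_bot, fun w _ => Submodule.mem_top⟩
  obtain ⟨C, hCf, hC⟩ := (Module.End.isSemisimple_iff.mp hf) U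
    ((Module.End.mem_invtSubmodule f).mpr hUf)
  rw [Module.End.mem_invtSubmodule] at hCf
  haveI : Nontrivial U := Submodule.nontrivial_iff_ne_bot.mpr hU0
  obtain ⟨g, hg, hdet⟩ := exists_det_of_simple (f.restrict hUf) (fun W hW => by
    by_cases h0 : W = ⊥
    · exact Or.inl h0
    refine Or.inr ?_
    have hmem : W.map U.subtype ∈ S := by
      refine ⟨fun h => h0 ((Submodule.eq_bot_iff _).mpr fun w hw =>
        Subtype.ext ((Submodule.eq_bot_iff _).mp h _ ⟨w, hw, rfl⟩)), ?_⟩
      rintro _ ⟨w, hw, rfl⟩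
      exact ⟨f.restrict hUf w, hW w hw, rfl⟩
    have hle : W.map U.subtype ≤ U := Submodule.map_subtype_le U W
    have heq := eq_of_le_of_not_lt hle (hmin _ hmem)
    rw [eq_top_iff]
    rintro x -
    have hx : (x : V) ∈ W.map U.subtype := by rw [heq]; exact x.2
    obtain ⟨w, hw, e⟩ := hx
    exact (Subtype.ext e : w = x) ▸ hw) d
  let e := Submodule.prodEquivOfIsCompl U C hC
  refine ⟨(e : _ →ₗ[F] V) ∘ₗ (LinearMap.prodMap g (1 : Module.End F C)) ∘ₗ (e.symm : V →ₗ[F] _),
    ?_, ?_⟩
  · refine LinearMap.ext fun v => ?_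
    obtain ⟨⟨u, c⟩, rfl⟩ := e.surjective v
    have hfe : ∀ (u : U) (c : C), f (e (u, c)) = e (f.restrict hUf u, f.restrict hCf c) := fun u c => by
      simp only [e, Submodule.coe_prodEquivOfIsCompl', map_add, LinearMap.coe_restrict_apply]
    have hgu : g (f.restrict hUf u) = f.restrict hUf (g u) := LinearMap.congr_fun hg.eq u
    simp only [Module.End.mul_apply, LinearMap.comp_apply, LinearEquiv.coe_coe, hfe,
      LinearEquiv.symm_apply_apply, LinearMap.prodMap_apply, Module.End.one_apply, hgu]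
  · rw [LinearMap.det_conj, LinearMap.det_prodMap, hdet, map_one, mul_one]

end CfsgLib.CentralizerDet
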