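import Mathlib
import Cfsg.Agent.Lib.CentralizerMaximal
import Cfsg.Agent.Lib.PRegularClass
import Cfsg.Agent.Lib.ZJ.Complement

/-!
Normal subgroups `N` in which the `G`-centralisers of the elements outside the centre of `N` are maximal
subgroups of `G`.
-/

set_option autoImplicit false

namespace CfsgLib.CentMaxN

open Subgroup CfsgLib CfsgLib.Frob Cfsg CfsgLib.CentMax
open scoped Pointwise commutatorElement

universe u
variable {G : Type u} [Group G]

/-- The hypothesis. -/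
def HypN (N : Subgroup G) : Prop :=
  ∀ x : G, x ∈ N → x ∉ centralizer (N : Set G) → IsCoatom (centralizer ({x} : Set G))

/-- The centre of `N`, inside `G`. -/
abbrev Zn (N : Subgroup G) : Subgroup G := N ⊓ centralizer (N : Set G)

/-- An element whose order is a power of `r`. -/
def Prim (r : ℕ) (g : G) : Prop := ∃ k : ℕ, g ^ r ^ k = 1

/-- `N/Z(N)`. -/
abbrev Qu (N : Subgroup G) := N ⧸ center N

/-- The projection. -/
abbrev pr (N : Subgroup G) : N →* Qu N := QuotientGroup.mk' (center N)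

theorem zn_commute {N : Subgroup G} {z n : G} (hz : z ∈ Zn N) (hn : n ∈ N) : Commute n z :=
  mem_centralizer_iff.mp hz.2 n hn

theorem zn_le_cz {N : Subgroup G} {x : G} (hx : x ∈ N) : Zn N ≤ centralizer ({x} : Set G) :=
  fun _ hz => mem_cz.mpr (zn_commute hz hx).eq.symm

theorem pr_eq_one {N : Subgroup G} (n : N) : pr N n = 1 ↔ (n : G) ∈ Zn N := by
  rw [QuotientGroup.mk'_apply, QuotientGroup.eq_one_iff, mem_center_iff]
  constructor
  · exact fun h => ⟨n.2, mem_centralizer_iff.mpr fun m hm => congrArg Subtype.val (h ⟨m, hm⟩)⟩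
  · exact fun h m => Subtype.ext (mem_centralizer_iff.mp h.2 _ m.2)

theorem pr_commute {N : Subgroup G} (a b : N) :
    Commute (pr N a) (pr N b) ↔ (a : G) * b * (a : G)⁻¹ * (b : G)⁻¹ ∈ Zn N := by
  rw [show (a : G) * b * (a : G)⁻¹ * (b : G)⁻¹ = ((a * b * a⁻¹ * b⁻¹ : N) : G) from rfl, ← pr_eq_one,
    map_mul, map_mul, map_mul, map_inv, map_inv, mul_inv_eq_one, mul_inv_eq_iff_eq_mul]
  exact Iff.rfl

variable (N : Subgroup G) [N.Normal]

/-- Conjugation on `N/Z(N)`. -/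
noncomputable def cq (g : G) : MulAut (Qu N) :=
  QuotientGroup.congr (center N) (center N) (MulAut.conjNormal g)
    (Subgroup.characteristic_iff_map_eq.mp inferInstance _)

theorem cq_pr (g : G) (n : N) : cq N g (pr N n) = pr N (MulAut.conjNormal g n) := rfl

/-- The preimage in `G`. -/
noncomputable def pre (V : Subgroup (Qu N)) : Subgroup G := (V.comap (pr N)).map N.subtype

variable {N}

theorem mem_pre {V : Subgroup (Qu N)} {g : G} : g ∈ pre N V ↔ ∃ h : g ∈ N, pr N ⟨g, h⟩ ∈ V := by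
  constructor
  · rintro ⟨n, hn, rfl⟩; exact ⟨n.2, hn⟩
  · rintro ⟨h, hV⟩; exact ⟨⟨g, h⟩, hV, rfl⟩

theorem pre_le (V : Subgroup (Qu N)) : pre N V ≤ N := fun _ h => (mem_pre.mp h).1

theorem zn_le_pre (V : Subgroup (Qu N)) : Zn N ≤ pre N V := fun z hz =>
  mem_pre.mpr ⟨hz.1, by rw [(pr_eq_one (⟨z, hz.1⟩ : N)).mpr hz]; exact one_mem _⟩

theorem pre_normal {V : Subgroup (Qu N)} (h : ∀ g : G, ∀ v ∈ V, cq N g v ∈ V) : (pre N V).Normal := by
  refine ⟨fun x hx g => ?_⟩
  obtain ⟨hxN, hxV⟩ := mem_pre.mp hx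
  exact mem_pre.mpr ⟨(inferInstance : N.Normal).conj_mem x hxN g, h g _ hxV⟩

theorem pre_normal_of_char (V : Subgroup (Qu N)) [hV : V.Characteristic] : (pre N V).Normal :=
  pre_normal fun g _ hv => (Subgroup.characteristic_iff_map_eq.mp hV (cq N g)).le (mem_map_of_mem _ hv)

/-- The image of a normal subgroup of `G`. -/
noncomputable def img (N : Subgroup G) (M : Subgroup G) : Subgroup (Qu N) := (M.subgroupOf N).map (pr N)

theorem img_normal (M : Subgroup G) [M.Normal] : (img N M).Normal :=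
  (inferInstance : (M.subgroupOf N).Normal).map _ (QuotientGroup.mk'_surjective _)

theorem mem_img {M : Subgroup G} (hM : Zn N ≤ M) (n : N) : pr N n ∈ img N M ↔ (n : G) ∈ M := by
  constructor
  · rintro ⟨m, hm, e⟩
    have h1 : pr N (m⁻¹ * n) = 1 := by rw [map_mul, map_inv, e, inv_mul_cancel]
    have h2 := M.mul_mem (mem_subgroupOf.mp hm) (hM ((pr_eq_one _).mp h1))
    simpa using h2
  · exact fun h => mem_map_of_mem _ (mem_subgroupOf.mpr h)

variable [Finite G]

omit [N.Normal] in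
theorem mem_normalizer_of_conj_le {g : G} {H : Subgroup G} (hg : ∀ x ∈ H, g * x * g⁻¹ ∈ H) :
    g ∈ normalizer (H : Set G) := by
  refine mem_normalizer_iff.mpr fun c => ⟨hg c, fun hc => ?_⟩
  have heq : H.map (MulAut.conj g).toMonoidHom = H :=
    eq_of_le_of_card_ge (by rintro _ ⟨d, hd, rfl⟩; exact hg d hd)
      (card_map_of_injective (MulAut.conj g).injective).ge
  obtain ⟨d, hd, hde⟩ := heq.ge hc
  have : d = c := (MulAut.conj g).injective (show MulAut.conj g d = MulAut.conj g c from hde)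
  exact this ▸ hd

theorem czN_eq_of_le (h : HypN N) {u v : G} (hu : u ∈ N) (hu' : u ∉ Zn N) (hv : v ∈ N) (hv' : v ∉ Zn N)
    (hle : centralizer ({u} : Set G) ≤ centralizer {v}) : centralizer ({u} : Set G) = centralizer {v} := by
  rcases (h u hu fun e => hu' ⟨hu, e⟩).le_iff.mp hle with e | e
  · exact absurd e (h v hv fun e => hv' ⟨hv, e⟩).1
  · exact e.symm

theorem czN_eq_of_zpowers (h : HypN N) {x u : G} (hx : x ∈ N) (hu : u ∉ Zn N) (hux : u ∈ zpowers x) :
    centralizer ({x} : Set G) = centralizer {u} :=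
  czN_eq_of_le h hx (fun hxz => hu ((zpowers_le.mpr hxz) hux)) ((zpowers_le.mpr hx) hux) hu
    (cz_le_of_mem_zpowers hux)

theorem czN_eq_of_prim (h : HypN N) {p q : ℕ} (hp : p.Prime) (hq : q.Prime) (hpq : p ≠ q) {u v : G}
    (hu : u ∈ N) (hu' : u ∉ Zn N) (hup : Prim p u) (hv : v ∈ N) (hv' : v ∉ Zn N) (hvq : Prim q v)
    (hc : Commute u v) : centralizer ({u} : Set G) = centralizer {v} := by
  have key : ∀ a b : G, Commute a b → (orderOf a).Coprime (orderOf b) → a ∈ zpowers (a * b) := by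
    intro a b hab habc
    obtain ⟨m, hm⟩ := exists_pow_eq_self_of_coprime habc.symm
    refine ⟨((orderOf b * m : ℕ) : ℤ), ?_⟩
    show (a * b) ^ ((orderOf b * m : ℕ) : ℤ) = a
    rw [zpow_natCast, pow_mul, hab.mul_pow, pow_orderOf_eq_one, mul_one, hm]
  have hco : (orderOf u).Coprime (orderOf v) := coprime_of_primary hp hq hpq hup hvq
  rw [← czN_eq_of_zpowers h (N.mul_mem hu hv) hu' (key u v hc hco)]
  exact czN_eq_of_zpowers h (N.mul_mem hu hv) hv' (hc.eq ▸ key v u hc.symm hco.symm)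

omit [N.Normal] in
theorem exists_prim {S : Subgroup G} {x : G} (hx : x ∉ S) :
    ∃ p : ℕ, p.Prime ∧ ∃ u ∈ zpowers x, Prim p u ∧ u ∉ S := by
  induction hn : orderOf x using Nat.strong_induction_on generalizing x with
  | h n ih =>
    subst hn
    have hx1 : x ≠ 1 := fun e => hx (e ▸ one_mem _)
    obtain ⟨p, hp, hpd⟩ := Nat.exists_prime_and_dvd (n := orderOf x) (mt orderOf_eq_one_iff.mp hx1)
    haveI := Fact.mk hp
    obtain ⟨a, b, hab, ha, hb, hak, hbo⟩ := CycSyl.split (p := p) x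
    by_cases haz : a ∈ S
    · have hbz : b ∉ S := fun hbz => hx (hab ▸ mul_mem haz hbz)
      have hlt : orderOf b < orderOf x :=
        lt_of_le_of_ne (Nat.le_of_dvd (orderOf_pos x) (orderOf_dvd_of_mem_zpowers hb)) fun e =>
          hp.ne_one (Nat.eq_one_of_dvd_coprimes hbo (e ▸ hpd) dvd_rfl)
      obtain ⟨q, hq, u, hu, huk, huz⟩ := ih _ hlt hbz rfl
      exact ⟨q, hq, u, (zpowers_le.mpr hb) hu, huk, huz⟩
    · exact ⟨p, hp, a, ha, hak, haz⟩

omit [N.Normal] in
/-- An element of `p`-power order modulo `Z(N)` is a `p`-element times one in `Z(N)`. -/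
theorem prim_part {p : ℕ} (hp : p.Prime) {w : G} {k : ℕ} (hk : w ^ p ^ k ∈ Zn N) :
    ∃ a b : G, a * b = w ∧ a ∈ zpowers w ∧ Prim p a ∧ b ∈ Zn N := by
  haveI := Fact.mk hp
  obtain ⟨a, b, hab, ha, hb, hak, hbo⟩ := CycSyl.split (p := p) w
  refine ⟨a, b, hab, ha, hak, ?_⟩
  obtain ⟨i, rfl⟩ := hb
  obtain ⟨m, hm⟩ := exists_pow_eq_self_of_coprime (hbo.symm.pow_left k)
  rw [← hm]
  refine pow_mem ?_ m
  rw [← zpow_natCast, ← zpow_mul, mul_comm, zpow_mul, zpow_natCast]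
  exact zpow_mem hk i

theorem commute_of_mod {p q : ℕ} (hp : p.Prime) (hq : q.Prime) (hpq : p ≠ q) {u w : G} (hu : u ∈ N)
    (hw : w ∈ N) (hup : Prim p u) (hwq : Prim q w) (hd : u * w * u⁻¹ * w⁻¹ ∈ Zn N) : Commute u w := by
  set d := u * w * u⁻¹ * w⁻¹ with hdd
  have hdu : Commute u d := zn_commute hd hu
  have hdw : Commute w d := zn_commute hd hw
  have e0 : u * w * u⁻¹ = d * w := by rw [hdd]; group
  have e1 : ∀ n : ℕ, u * w ^ n * u⁻¹ = d ^ n * w ^ n := fun n => by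
    rw [← conj_pow, e0, hdw.symm.mul_pow]
  have e2 : ∀ n : ℕ, u ^ n * w * (u ^ n)⁻¹ = d ^ n * w := by
    intro n
    induction n with
    | zero => simp
    | succ n ih =>
      calc u ^ (n + 1) * w * (u ^ (n + 1))⁻¹ = u ^ n * (u * w * u⁻¹) * (u ^ n)⁻¹ := by rw [pow_succ]; group
        _ = d * (u ^ n * w * (u ^ n)⁻¹) := by rw [e0, ← mul_assoc, (hdu.pow_left n).eq]; group
        _ = d ^ (n + 1) * w := by rw [ih, ← mul_assoc, ← pow_succ']
  obtain ⟨i, hi⟩ := hup
  obtain ⟨j, hj⟩ := hwq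
  have h1 := e2 (p ^ i)
  rw [hi, one_mul, inv_one, mul_one] at h1
  have h2 := e1 (q ^ j)
  rw [hj, mul_one, mul_one, mul_inv_cancel] at h2
  have hd1 : d = 1 := orderOf_eq_one_iff.mp (Nat.eq_one_of_dvd_coprimes
    (Nat.Coprime.pow i j ((Nat.coprime_primes hp hq).mpr hpq)) (orderOf_dvd_of_pow_eq_one (right_eq_mul.mp h1))
    (orderOf_dvd_of_pow_eq_one h2.symm))
  rw [hd1, one_mul, mul_inv_eq_iff_eq_mul] at e0
  exact e0

/-- Every element outside `Z(N)` has a normal centraliser. -/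
theorem all_normalN (h : HypN N)
    (hn : ∀ x : G, x ∈ N → x ∉ Zn N → (centralizer ({x} : Set G)).Normal) :
    ∃ p : ℕ, p.Prime ∧ IsElementaryAbelian p (⊤ : Subgroup (Qu N)) := by
  have hcomm : ∀ a b : Qu N, Commute a b := by
    intro a b
    obtain ⟨a, rfl⟩ := QuotientGroup.mk'_surjective _ a
    obtain ⟨b, rfl⟩ := QuotientGroup.mk'_surjective _ b
    refine (pr_commute a b).mpr ⟨(a * b * a⁻¹ * b⁻¹ : N).2, mem_centralizer_iff.mpr fun x hx => ?_⟩
    by_cases hxz : x ∈ Zn N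
    · exact (zn_commute hxz (a * b * a⁻¹ * b⁻¹ : N).2).eq.symm
    · haveI := hn x hx hxz
      exact (mem_cz.mp ((normal_coatom (h x hx fun e => hxz ⟨hx, e⟩)).2 (a : G) b)).symm
  have hpow : ∀ a : Qu N, a ≠ 1 → (orderOf a).Prime := by
    intro a ha
    obtain ⟨x, rfl⟩ := QuotientGroup.mk'_surjective _ a
    have hxz : (x : G) ∉ Zn N := mt (pr_eq_one x).mpr ha
    haveI := hn x x.2 hxz
    obtain ⟨hr, -⟩ := normal_coatom (h x x.2 fun e => hxz ⟨x.2, e⟩)
    set r := (centralizer ({(x : G)} : Set G)).index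
    haveI := Fact.mk hr
    suffices hxr : pr N x ^ r = 1 by rw [orderOf_eq_prime hxr ha]; exact hr
    rw [← map_pow, pr_eq_one]
    refine ⟨(x ^ r).2, mem_centralizer_iff.mpr fun y hy => ?_⟩
    set c := y * (x : G) * y⁻¹ * (x : G)⁻¹ with hc
    have hcz : c ∈ Zn N := (pr_commute (⟨y, hy⟩ : N) x).mp (hcomm _ _)
    have hyr : y ^ r ∈ centralizer ({(x : G)} : Set G) := by
      rw [← QuotientGroup.eq_one_iff, QuotientGroup.mk_pow]
      exact orderOf_dvd_iff_pow_eq_one.mp ((_root_.orderOf_dvd_natCard _).trans (index_eq_card _).symm.dvd)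
    have e0 : y * x * y⁻¹ = c * x := by rw [hc]; group
    have e1 : ∀ n : ℕ, y * (x : G) ^ n * y⁻¹ = c ^ n * (x : G) ^ n := fun n => by
      rw [← conj_pow, e0, (zn_commute hcz x.2).symm.mul_pow]
    have e2 : ∀ n : ℕ, y ^ n * x * (y ^ n)⁻¹ = c ^ n * x := by
      intro n
      induction n with
      | zero => simp
      | succ n ih =>
        calc y ^ (n + 1) * x * (y ^ (n + 1))⁻¹ = y ^ n * (y * x * y⁻¹) * (y ^ n)⁻¹ := by rw [pow_succ]; group
          _ = c * (y ^ n * x * (y ^ n)⁻¹) := by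
              rw [e0, ← mul_assoc, ((zn_commute hcz hy).pow_left n).eq]; group
          _ = c ^ (n + 1) * x := by rw [ih, ← mul_assoc, ← pow_succ']
    have h4 := e2 r
    rw [mem_cz.mp hyr, mul_inv_cancel_right] at h4
    have h3 := e1 r
    rw [right_eq_mul.mp h4, one_mul, mul_inv_eq_iff_eq_mul] at h3
    simpa using h3
  by_cases htriv : ∀ a : Qu N, a = 1
  · exact ⟨2, Nat.prime_two, ⟨⟨fun a b => Subtype.ext (hcomm a b)⟩⟩, fun a _ => by rw [htriv a, one_pow]⟩
  push Not at htriv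
  obtain ⟨a, ha⟩ := htriv
  refine ⟨orderOf a, hpow a ha, ⟨⟨fun u v => Subtype.ext (hcomm u v)⟩⟩, fun b _ => ?_⟩
  by_cases hb : b = 1
  · rw [hb, one_pow]
  suffices orderOf b = orderOf a by rw [← this, pow_orderOf_eq_one]
  by_contra hne
  have hpa := hpow a ha
  have hpb := hpow b hb
  have e := (hcomm a b).orderOf_mul_eq_mul_orderOf_of_coprime ((Nat.coprime_primes hpa hpb).mpr (Ne.symm hne))
  have hab : a * b ≠ 1 := fun e' => by
    rw [e', orderOf_one] at e
    exact hpa.ne_one (Nat.eq_one_of_mul_eq_one_right e.symm)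
  exact Nat.not_prime_mul hpa.ne_one hpb.ne_one (e ▸ hpow _ hab)

/-- `N/Z(N)` a `p`-group. -/
theorem p_groupN (h : HypN N) {p : ℕ} (hp : p.Prime) (hN : IsPGroup p (Qu N)) :
    IsElementaryAbelian p (⊤ : Subgroup (Qu N)) := by
  haveI := Fact.mk hp
  obtain ⟨n, hn⟩ := IsPGroup.iff_card.mp hN
  haveI := hN.isNilpotent
  have key : ∀ u : N, (u : G) ∉ Zn N → ∀ a b : N,
      (a : G) * b * (a : G)⁻¹ * (b : G)⁻¹ ∈ centralizer ({(u : G)} : Set G) ∧
        (a : G) ^ p ∈ centralizer ({(u : G)} : Set G) := by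
    intro u hu a b
    set C := centralizer ({(u : G)} : Set G) with hC
    have hCco : IsCoatom C := h u u.2 fun e => hu ⟨u.2, e⟩
    have hTt : C.subgroupOf N ≠ ⊤ := fun e => hu ⟨u.2, mem_centralizer_iff.mpr fun m hm =>
      mem_cz.mp (subgroupOf_eq_top.mp e hm)⟩
    obtain ⟨M, hM, hTM⟩ := (eq_top_or_exists_le_coatom (C.subgroupOf N)).resolve_left hTt
    have hcM : center N ≤ M := fun z hz => hTM (mem_subgroupOf.mpr (mem_cz.mpr
      (congrArg Subtype.val (mem_center_iff.mp hz u)).symm))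
    have hcomapM : (M.map (pr N)).comap (pr N) = M := by
      rw [Subgroup.comap_map_eq, QuotientGroup.ker_mk', sup_eq_left.mpr hcM]
    have hMb : IsCoatom (M.map (pr N)) := by
      refine ⟨fun e => hM.1 (by rw [← hcomapM, e, comap_top]), fun L hL => ?_⟩
      have h1 : L.comap (pr N) = ⊤ := hM.2 _ (hcomapM ▸ lt_of_le_of_ne (comap_mono hL.le) fun e =>
        hL.ne (comap_injective (QuotientGroup.mk'_surjective _) e))
      exact comap_injective (QuotientGroup.mk'_surjective _) (h1.trans (comap_top _).symm)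
    have hMn : M.Normal := hcomapM ▸
      (NormalizerCondition.normal_of_coatom _ Group.normalizerCondition_of_isNilpotent hMb).comap _
    obtain ⟨hr, hcomm⟩ := normal_coatom hM
    have hrp : M.index = p := by
      have h1 : M.index ∣ p ^ n := by
        rw [← hn, ← index_map_eq M (QuotientGroup.mk'_surjective (center N)) (by rwa [QuotientGroup.ker_mk'])]
        exact index_dvd_card _
      exact (Nat.prime_dvd_prime_iff_eq hr hp).mp (hr.dvd_of_dvd_pow h1)
    set K := (M.map N.subtype).normalCore with hK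
    have hKC : K ≤ C := by
      by_contra hne
      have htop : K ⊔ C = ⊤ := hCco.2 _ (lt_of_le_of_ne le_sup_right fun e => hne (le_sup_left.trans e.ge))
      refine hM.1 (eq_top_iff.mpr fun m _ => ?_)
      obtain ⟨k, hk, c, hc, e⟩ := mem_sup_of_normal_left.mp (htop ▸ mem_top (m : G))
      obtain ⟨k', hk', rfl⟩ := normalCore_le _ hk
      have hcN : c ∈ N := by
        have := N.mul_mem (N.inv_mem k'.2) m.2
        rw [← e] at this; simpa using this
      have : m = k' * ⟨c, hcN⟩ := Subtype.ext e.symm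
      rw [this]
      exact M.mul_mem hk' (hTM (mem_subgroupOf.mpr hc))
    constructor
    · refine hKC fun g => ?_
      exact ⟨MulAut.conjNormal g a * MulAut.conjNormal g b * (MulAut.conjNormal g a)⁻¹ * (MulAut.conjNormal g b)⁻¹,
        hcomm _ _, by simp [mul_assoc]⟩
    · refine hKC fun g => ?_
      refine ⟨(MulAut.conjNormal g a) ^ p, ?_, by simp [conj_pow]⟩
      show (MulAut.conjNormal g a) ^ p ∈ M
      rw [← QuotientGroup.eq_one_iff, QuotientGroup.mk_pow]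
      exact orderOf_dvd_iff_pow_eq_one.mp ((_root_.orderOf_dvd_natCard _).trans (by rw [← index_eq_card, hrp]))
  have hz : ∀ x : N, (∀ u : N, (u : G) ∉ Zn N → (x : G) ∈ centralizer ({(u : G)} : Set G)) → (x : G) ∈ Zn N := by
    refine fun x hx => ⟨x.2, mem_centralizer_iff.mpr fun m hm => ?_⟩
    by_cases hmz : m ∈ Zn N
    · exact (zn_commute hmz x.2).eq.symm
    · exact (mem_cz.mp (hx ⟨m, hm⟩ hmz)).symm
  refine ⟨⟨⟨fun a b => Subtype.ext ?_⟩⟩, fun a _ => ?_⟩
  · obtain ⟨a', ha'⟩ := QuotientGroup.mk'_surjective _ (a : Qu N)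
    obtain ⟨b', hb'⟩ := QuotientGroup.mk'_surjective _ (b : Qu N)
    show (a : Qu N) * b = b * a
    rw [← ha', ← hb']
    exact (pr_commute a' b').mpr (hz (a' * b' * a'⁻¹ * b'⁻¹) fun u hu => (key u hu a' b').1)
  · obtain ⟨a', rfl⟩ := QuotientGroup.mk'_surjective _ a
    rw [← map_pow, pr_eq_one]
    exact hz (a' ^ p) fun u hu => by simpa using (key u hu a' a').2

/-- The Frobenius conclusion. -/
def AltN (N : Subgroup G) : Prop :=
  ∃ (Q K : Subgroup (Qu N)) (p : ℕ), p.Prime ∧ IsFrobeniusComplement Q ∧ (Nat.card ↥Q).Prime ∧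
    K.Normal ∧ (K : Set (Qu N)) = frobeniusKernel Q ∧ IsElementaryAbelian p K

/-- A minimal normal subgroup over `Z(N)` and an element of another prime. -/
theorem w_lemma (h : HypN N) {r : ℕ} (hr : r.Prime) (W : Subgroup G) [W.Normal] (hZW : Zn N ≤ W)
    (hWN : W ≤ N) (hmin : ∀ M : Subgroup G, M.Normal → Zn N ≤ M → M ≤ W → M ≤ Zn N ∨ M = W)
    (hW0 : ¬ W ≤ Zn N) (hWr : ∀ w ∈ W, ∃ k : ℕ, w ^ r ^ k ∈ Zn N)
    {q : ℕ} (hq : q.Prime) (hqr : q ≠ r) {y : G} (hy : y ∈ N) (hyz : y ∉ Zn N) (hyq : Prim q y)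
    (hnn : ¬ (centralizer ({y} : Set G)).Normal) : AltN N := by
  classical
  haveI := Fact.mk hr
  set Wb := img N W with hWb
  haveI hWbn : Wb.Normal := img_normal W
  have hWbp : IsPGroup r Wb := by
    rintro ⟨_, w, hw, rfl⟩
    obtain ⟨k, hk⟩ := hWr w (mem_subgroupOf.mp hw)
    exact ⟨k, Subtype.ext (by
      show pr N w ^ r ^ k = 1
      rw [← map_pow, pr_eq_one]; simpa using hk)⟩
  have hWb0 : Wb ≠ ⊥ := fun e => hW0 fun w hw => (pr_eq_one (⟨w, hWN hw⟩ : N)).mp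
    (Subgroup.mem_bot.mp (e ▸ (mem_img hZW _).mpr hw))
  haveI hWbnil : Group.IsNilpotent Wb := hWbp.isNilpotent
  have hWcomm : ∀ a ∈ W, ∀ b ∈ W, a * b * a⁻¹ * b⁻¹ ∈ Zn N := by
    have h1 : ⁅W, W⁆ ≤ Zn N := by
      haveI : (Zn N).Normal := inferInstance
      rcases hmin (⁅W, W⁆ ⊔ Zn N) inferInstance le_sup_right (sup_le (commutator_le_right W W) hZW) with e | e
      · exact le_sup_left.trans e
      · exfalso
        refine hWb0 ((Subgroup.eq_bot_iff_forall _).mpr ?_)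
        have h2 : Wb ≤ ⁅Wb, Wb⁆ := by
          rintro _ ⟨w, hw, rfl⟩
          obtain ⟨c, hc, z, hz, hcz⟩ := mem_sup_of_normal_left.mp (e.ge (mem_subgroupOf.mp hw))
          have hcN : c ∈ N := hWN (commutator_le_right W W hc)
          rw [show w = ⟨c, hcN⟩ * ⟨z, hz.1⟩ from Subtype.ext hcz.symm, map_mul,
            (pr_eq_one (⟨z, hz.1⟩ : N)).mpr hz, mul_one]
          have h3 : ⁅W, W⁆ ≤ ((⁅W.subgroupOf N, W.subgroupOf N⁆ : Subgroup N)).map N.subtype := by
            rw [Subgroup.map_commutator, map_subgroupOf_eq_of_le hWN]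
          obtain ⟨c', hc', hcc⟩ := h3 hc
          have : (⟨c, hcN⟩ : N) = c' := Subtype.ext hcc.symm
          rw [hWb, img, ← Subgroup.map_commutator, this]
          exact mem_map_of_mem _ hc'
        haveI : Group.IsSolvable Wb := inferInstance
        intro v hv
        by_contra hv1
        haveI : Nontrivial Wb := ⟨⟨⟨v, hv⟩, 1, fun e => hv1 (congrArg Subtype.val e)⟩⟩
        refine (Group.IsSolvable.commutator_lt_top_of_nontrivial Wb).ne ?_
        refine Subgroup.map_injective Wb.subtype_injective ?_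
        rw [_root_.commutator_def, Subgroup.map_commutator, ← MonoidHom.range_eq_map, range_subtype]
        exact le_antisymm (commutator_le_right _ _) h2
    exact fun a ha b hb => h1 (commutator_mem_commutator ha hb)
  have hWbc : ∀ a ∈ Wb, ∀ b ∈ Wb, a * b = b * a := by
    rintro _ ⟨a, ha, rfl⟩ _ ⟨b, hb, rfl⟩
    exact (pr_commute a b).mpr (hWcomm _ (mem_subgroupOf.mp ha) _ (mem_subgroupOf.mp hb))
  have hWbexp : ∀ a ∈ Wb, a ^ r = 1 := by
    set E : Subgroup (Qu N) :=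
      { carrier := {k | k ∈ Wb ∧ k ^ r = 1}
        one_mem' := ⟨one_mem _, one_pow _⟩
        mul_mem' := fun {a b} ha hb => ⟨mul_mem ha.1 hb.1, by
          rw [(show Commute a b from hWbc a ha.1 b hb.1).mul_pow, ha.2, hb.2, one_mul]⟩
        inv_mem' := fun {a} ha => ⟨inv_mem ha.1, by rw [inv_pow, ha.2, inv_one]⟩ } with hE
    have hpn : (pre N E).Normal := pre_normal fun g v hv => ⟨by
      obtain ⟨⟨w, hw, rfl⟩, -⟩ := hv
      rw [cq_pr, hWb, mem_img hZW, MulAut.conjNormal_apply]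
      exact (inferInstance : W.Normal).conj_mem _ (mem_subgroupOf.mp hw) g, by rw [← map_pow, hv.2, map_one]⟩
    have hle : pre N E ≤ W := fun g hg => by
      obtain ⟨hgN, hgE⟩ := mem_pre.mp hg
      exact (mem_img hZW (⟨g, hgN⟩ : N)).mp hgE.1
    intro a ha
    rcases hmin _ hpn (zn_le_pre E) hle with e | e
    · exfalso
      haveI : Nontrivial Wb := (Subgroup.nontrivial_iff_ne_bot Wb).mpr hWb0
      obtain ⟨n, hn⟩ := IsPGroup.iff_card.mp hWbp
      obtain ⟨v, hv⟩ := exists_prime_orderOf_dvd_card' (G := Wb) r (by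
        rw [hn]; refine dvd_pow_self r fun h0 => ?_
        rw [h0, pow_zero] at hn; exact (Finite.one_lt_card (α := Wb)).ne' hn)
      obtain ⟨w, hw, hwv⟩ := v.2
      have h1 : (w : G) ∈ pre N E := mem_pre.mpr ⟨w.2, ⟨mem_map_of_mem _ hw, by
        rw [hwv, ← SubgroupClass.coe_pow, ← hv, pow_orderOf_eq_one]; rfl⟩⟩
      have h2 : v = 1 := Subtype.ext (hwv ▸ (pr_eq_one w).mpr (e h1))
      rw [h2, orderOf_one] at hv
      exact hr.ne_one hv.symm
    · obtain ⟨w, hw, rfl⟩ := ha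
      obtain ⟨hwN, hwE⟩ := mem_pre.mp (e.ge (mem_subgroupOf.mp hw))
      exact hwE.2
  -- `W` is not in `C(y)`
  set C := centralizer ({y} : Set G) with hC
  have hCco : IsCoatom C := h y hy fun e => hyz ⟨hy, e⟩
  have hWC : ¬ W ≤ C := by
    intro hle
    obtain ⟨w, hw, hwz⟩ := SetLike.not_le_iff_exists.mp hW0
    obtain ⟨k, hk⟩ := hWr w hw
    obtain ⟨a, b, hab, ha, har, hb⟩ := prim_part hr hk
    have haz : a ∉ Zn N := fun h' => hwz (hab ▸ mul_mem h' hb)
    set S : Set G := {a | a ∈ W ∧ Prim r a ∧ a ∉ Zn N}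
    have hSC : ∀ a ∈ S, centralizer ({a} : Set G) = C := fun a ⟨haW, har, haz⟩ =>
      czN_eq_of_prim h hr hq hqr.symm (hWN haW) haz har hy hyz hyq (mem_cz.mp (hle haW))
    have heq : C = centralizer S := by
      refine le_antisymm (fun c hc => mem_centralizer_iff.mpr fun s hs => ?_) fun c hc => ?_
      · exact (mem_cz.mp ((hSC s hs).symm ▸ hc)).symm
      · have haS : a ∈ S := ⟨(zpowers_le.mpr hw) ha, har, haz⟩
        rw [← hSC a haS]
        exact mem_cz.mpr (mem_centralizer_iff.mp hc a haS).symm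
    refine hnn ⟨fun c hc g => ?_⟩
    rw [heq] at hc ⊢
    refine mem_centralizer_iff.mpr fun s ⟨hsW, ⟨j, hj⟩, hsz⟩ => ?_
    have hs' : g⁻¹ * s * g ∈ S := by
      refine ⟨by simpa using (inferInstance : W.Normal).conj_mem s hsW g⁻¹, ⟨j, ?_⟩, fun h' => hsz ?_⟩
      · have := conj_pow (i := r ^ j) (a := g⁻¹) (b := s)
        rw [inv_inv] at this
        rw [this, hj]; group
      · simpa [mul_assoc] using (inferInstance : (Zn N).Normal).conj_mem _ h' g
    calc s * (g * c * g⁻¹) = g * ((g⁻¹ * s * g) * c) * g⁻¹ := by group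
      _ = g * (c * (g⁻¹ * s * g)) * g⁻¹ := by rw [mem_centralizer_iff.mp hc _ hs']
      _ = g * c * g⁻¹ * s := by group
  have htop : ∀ D : Subgroup G, IsCoatom D → ¬ W ≤ D → W ⊔ D = ⊤ := fun D hD hn =>
    hD.2 _ (lt_of_le_of_ne le_sup_right fun e => hn (le_sup_left.trans e.ge))
  have hCW : C ⊓ W ≤ Zn N := by
    have hnorm : (C ⊓ W).Normal := by
      rw [← normalizer_eq_top_iff, eq_top_iff, ← htop C hCco hWC]
      refine sup_le (fun w hw => mem_normalizer_iff.mpr fun c => ?_) (fun g hg => mem_normalizer_iff.mpr fun c => ?_)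
      · have key : ∀ w ∈ W, ∀ c, c ∈ C ⊓ W → w * c * w⁻¹ ∈ C ⊓ W := fun w hw c hc => by
          have h1 : w * c * w⁻¹ = w * c * w⁻¹ * c⁻¹ * c := by group
          rw [h1]
          exact mul_mem ⟨zn_le_cz hy (hWcomm w hw c hc.2), hZW (hWcomm w hw c hc.2)⟩ hc
        refine ⟨key w hw c, fun hc => ?_⟩
        simpa [mul_assoc] using key w⁻¹ (W.inv_mem hw) _ hc
      · refine ⟨fun hc => ⟨C.mul_mem (C.mul_mem hg hc.1) (C.inv_mem hg), ?_⟩, fun hc => ⟨?_, ?_⟩⟩
        · exact (inferInstance : W.Normal).conj_mem c hc.2 g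
        · simpa [mul_assoc] using C.mul_mem (C.mul_mem (C.inv_mem hg) hc.1) hg
        · simpa [mul_assoc] using (inferInstance : W.Normal).conj_mem _ hc.2 g⁻¹
    rcases hmin _ hnorm (le_inf (zn_le_cz hy) hZW) inf_le_right with e | e
    · exact e
    · exact absurd (e.ge.trans inf_le_left) hWC
  have hdec : ∀ D : Subgroup G, IsCoatom D → ¬ W ≤ D → ∀ n ∈ N, ∃ w ∈ W, ∃ c ∈ D, c ∈ N ∧ w * c = n := by
    intro D hD hn n hnN
    obtain ⟨w, hw, c, hc, rfl⟩ := mem_sup_of_normal_left.mp (htop D hD hn ▸ mem_top n)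
    exact ⟨w, hw, c, hc, by simpa using N.mul_mem (N.inv_mem (hWN hw)) hnN, rfl⟩
  -- no `r`-elements in `C`
  have hCr : ∀ a ∈ C, a ∈ N → Prim r a → a ∈ Zn N := by
    intro a haC haN har
    by_contra haz
    have hCa : centralizer ({a} : Set G) = C :=
      czN_eq_of_prim h hr hq hqr.symm haN haz har hy hyz hyq (mem_cz.mp haC)
    set ab := pr N ⟨a, haN⟩ with hab
    have hP : IsPGroup r (zpowers ab ⊔ Wb : Subgroup (Qu N)) := by
      refine IsPGroup.to_sup_of_normal_right ?_ hWbp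
      rintro ⟨_, i, rfl⟩
      obtain ⟨k, hk⟩ := har
      refine ⟨k, Subtype.ext ?_⟩
      show (ab ^ i) ^ r ^ k = 1
      rw [← zpow_natCast, ← zpow_mul, mul_comm, zpow_mul, zpow_natCast, hab, ← map_pow,
        show (⟨a, haN⟩ : N) ^ r ^ k = 1 from Subtype.ext hk, map_one, one_zpow]
    set P := zpowers ab ⊔ Wb
    haveI := hP.isNilpotent
    have hne : Wb.subgroupOf P ≠ ⊥ := fun e => by
      rw [subgroupOf_eq_bot] at e
      exact hWb0 (disjoint_self.mp (e.mono_right le_sup_right))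
    obtain ⟨v, ⟨hv1, hv2⟩, hv3⟩ := SetLike.exists_of_lt (bot_lt_iff_ne_bot.mpr
      (CfsgLib.inf_center_ne_bot_of_nilpotent (G := P) hne))
    obtain ⟨w₀, hw₀, hw₀v⟩ := mem_subgroupOf.mp hv1
    obtain ⟨k, hk⟩ := hWr w₀ (mem_subgroupOf.mp hw₀)
    obtain ⟨w, b, hwb, hw, hwr, hb⟩ := prim_part hr hk
    have hwW : w ∈ W := (zpowers_le.mpr (mem_subgroupOf.mp hw₀)) hw
    have hwN := hWN hwW
    have hweq : pr N ⟨w, hwN⟩ = v := by
      rw [← hw₀v, show w₀ = ⟨w, hwN⟩ * ⟨b, hb.1⟩ from Subtype.ext hwb.symm, map_mul,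
        (pr_eq_one (⟨b, hb.1⟩ : N)).mpr hb, mul_one]
    have hz : a * w * a⁻¹ * w⁻¹ ∈ Zn N := (pr_commute (⟨a, haN⟩ : N) ⟨w, hwN⟩).mp (by
      rw [hweq]
      exact congrArg Subtype.val (mem_center_iff.mp hv2 ⟨ab, mem_sup_left (mem_zpowers ab)⟩))
    set z := a * w * a⁻¹ * w⁻¹ with hzd
    have hay : Commute a y := mem_cz.mp haC
    set w' := y * w * y⁻¹ with hw'
    have hw'W : w' ∈ W := (inferInstance : W.Normal).conj_mem w hwW y
    have e1 : a * w' * a⁻¹ = z * w' := by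
      calc a * w' * a⁻¹ = (a * y) * w * (y⁻¹ * a⁻¹) := by rw [hw']; group
        _ = y * (a * w * a⁻¹) * y⁻¹ := by rw [hay.eq, ← mul_inv_rev, hay.eq]; group
        _ = (y * z) * w * y⁻¹ := by rw [hzd]; group
        _ = z * w' := by rw [(zn_commute hz hy).eq, hw']; group
    have hd : w' * w⁻¹ ∈ Zn N := by
      refine hCW ⟨?_, W.mul_mem hw'W (W.inv_mem hwW)⟩
      show w' * w⁻¹ ∈ C
      rw [← hCa, mem_cz]
      have h2 : a * (w' * w⁻¹) * a⁻¹ = w' * w⁻¹ := by
        calc a * (w' * w⁻¹) * a⁻¹ = (a * w' * a⁻¹) * (a * w * a⁻¹)⁻¹ := by group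
          _ = z * w' * (z * w)⁻¹ := by rw [e1, show a * w * a⁻¹ = z * w by rw [hzd]; group]
          _ = z * (w' * w⁻¹) * z⁻¹ := by group
          _ = w' * w⁻¹ := by
              rw [← (zn_commute hz (N.mul_mem (hWN hw'W) (N.inv_mem hwN))).eq, mul_inv_cancel_right]
      exact (mul_inv_eq_iff_eq_mul.mp h2).symm
    have hyw := commute_of_mod hq hr hqr hy hwN hyq hwr (by rwa [hw'] at hd)
    refine hv3 (Subgroup.mem_bot.mpr (Subtype.ext ?_))
    rw [← hweq]
    exact (pr_eq_one _).mpr (hCW ⟨mem_cz.mpr hyw.eq.symm, hwW⟩)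
  -- fixed point freeness
  have hfpf : ∀ u ∈ C, ∀ huN : u ∈ N, u ∉ Zn N → ∀ w ∈ W, ∀ hwN : w ∈ N,
      Commute (pr N ⟨u, huN⟩) (pr N ⟨w, hwN⟩) → w ∈ Zn N := by
    intro u huC huN huz w hwW hwN hc
    obtain ⟨s, hs, v, hv, hvs, hvz⟩ := exists_prim huz
    have hvC : v ∈ C := (zpowers_le.mpr huC) hv
    have hvN : v ∈ N := (zpowers_le.mpr huN) hv
    have hsr : s ≠ r := fun e => hvz (hCr v hvC hvN (e ▸ hvs))
    obtain ⟨k, hk⟩ := hWr w hwW
    obtain ⟨a, b, hab, ha, har, hb⟩ := prim_part hr hk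
    by_contra hwz
    have haz : a ∉ Zn N := fun h' => hwz (hab ▸ mul_mem h' hb)
    have haW : a ∈ W := (zpowers_le.mpr hwW) ha
    have haN : a ∈ N := hWN haW
    have hmem : ∀ {m x : G} (hm : m ∈ N) (hx : x ∈ N), m ∈ zpowers x → pr N ⟨m, hm⟩ ∈ zpowers (pr N ⟨x, hx⟩) := by
      rintro m x hm hx ⟨i, rfl⟩
      exact ⟨i, by show pr N ⟨x, hx⟩ ^ i = pr N ⟨x ^ i, hm⟩; rw [← map_zpow]; rfl⟩
    obtain ⟨i, hi⟩ := hmem hvN huN hv
    obtain ⟨j, hj⟩ := hmem haN hwN ha
    have hc' : Commute (pr N ⟨v, hvN⟩) (pr N ⟨a, haN⟩) := by rw [← hi, ← hj]; exact hc.zpow_zpow i j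
    have hva := commute_of_mod hs hr hsr hvN haN hvs har ((pr_commute _ _).mp hc')
    have e := czN_eq_of_prim h hs hr hsr hvN hvz hvs haN haz har hva
    have hyv : y ∈ centralizer ({a} : Set G) := e ▸ mem_cz.mpr (mem_cz.mp hvC).symm
    exact haz (hCW ⟨mem_cz.mpr (mem_cz.mp hyv).symm, haW⟩)
  set Db := (C.subgroupOf N).map (pr N) with hDb
  have hDmem : ∀ n : N, pr N n ∈ Db ↔ (n : G) ∈ C := fun n => mem_img (zn_le_cz hy) n
  have hcompl : IsComplement' Wb Db := by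
    refine isComplement'_of_disjoint_and_mul_eq_univ (disjoint_def.mpr fun {x} hx hx' => ?_)
      (Set.eq_univ_of_forall fun x => ?_)
    · obtain ⟨w, hw, rfl⟩ := hx
      exact (pr_eq_one w).mpr (hCW ⟨(hDmem w).mp hx', mem_subgroupOf.mp hw⟩)
    · obtain ⟨n, rfl⟩ := QuotientGroup.mk'_surjective _ x
      obtain ⟨w, hw, c, hc, hcN, e⟩ := hdec C hCco hWC n n.2
      exact ⟨pr N ⟨w, hWN hw⟩, (mem_img hZW _).mpr hw, pr N ⟨c, hcN⟩, (hDmem _).mpr hc, by
        show pr N ⟨w, hWN hw⟩ * pr N ⟨c, hcN⟩ = pr N n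
        rw [← map_mul]; exact congrArg (pr N) (Subtype.ext e)⟩
  have hD0 : Db ≠ ⊥ := fun e => hyz ((pr_eq_one (⟨y, hy⟩ : N)).mp
    (Subgroup.mem_bot.mp (e ▸ (hDmem ⟨y, hy⟩).mpr (mem_cz.mpr rfl))))
  have hfpfb : ∀ d ∈ Db, d ≠ 1 → Wb ⊓ centralizer {d} = ⊥ := by
    rintro _ ⟨u, hu, rfl⟩ hd
    rw [Subgroup.eq_bot_iff_forall]
    rintro _ ⟨⟨w, hw, rfl⟩, hc⟩
    exact (pr_eq_one w).mpr (hfpf u (mem_subgroupOf.mp hu) u.2 (mt (pr_eq_one u).mpr hd) w
      (mem_subgroupOf.mp hw) w.2 (mem_cz.mp hc).symm)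
  have hfr : IsFrobeniusComplement Db := frob_of_fpf hcompl hWb0 hD0 hfpfb
  have hker := kernel_eq_of_complement hfr hcompl
  -- `Db` is abelian
  haveI hDc : IsMulCommutative Db := by
    refine ⟨⟨fun a b => Subtype.ext ?_⟩⟩
    obtain ⟨u, hu, hua⟩ := a.2
    obtain ⟨v, hv, hvb⟩ := b.2
    show (a : Qu N) * b = b * a
    rw [← hua, ← hvb]
    by_cases hvz : (v : G) ∈ Zn N
    · rw [(pr_eq_one v).mpr hvz, mul_one, one_mul]
    have hWv : ¬ W ≤ centralizer ({(v : G)} : Set G) := fun hle => by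
      obtain ⟨w, hw, hwz⟩ := SetLike.not_le_iff_exists.mp hW0
      refine hwz (hfpf v (mem_subgroupOf.mp hv) v.2 hvz w hw (hWN hw) ?_)
      exact ((pr_commute _ _).mpr (by
        rw [show (v : G) * w * (v : G)⁻¹ * w⁻¹ = 1 by rw [← (mem_cz.mp (hle hw))]; group]
        exact one_mem _) : Commute (pr N v) (pr N ⟨w, hWN hw⟩))
    obtain ⟨w, hw, c, hc, hcN, e⟩ := hdec _ (h v v.2 fun e => hvz ⟨v.2, e⟩) hWv u u.2
    have hcv : Commute (pr N ⟨c, hcN⟩) (pr N v) := by
      refine (pr_commute _ _).mpr ?_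
      rw [show c * (v : G) * c⁻¹ * (v : G)⁻¹ = 1 by rw [mem_cz.mp hc]; group]
      exact one_mem _
    have hcD := frob_centralizer_le hfr ((hDmem v).mpr (mem_subgroupOf.mp hv))
      (fun e => hvz ((pr_eq_one v).mp e)) hcv.eq
    have e2 : pr N u = pr N ⟨w, hWN hw⟩ * pr N ⟨c, hcN⟩ := by
      rw [← map_mul]; exact congrArg (pr N) (Subtype.ext e.symm)
    have h1 : pr N ⟨w, hWN hw⟩ = 1 := disjoint_def.mp hcompl.disjoint ((mem_img hZW _).mpr hw) (by
      rw [show pr N ⟨w, hWN hw⟩ = pr N u * (pr N ⟨c, hcN⟩)⁻¹ by rw [e2, mul_inv_cancel_right]]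
      exact mul_mem (mem_map_of_mem _ hu) (inv_mem hcD))
    rw [e2, h1, one_mul]
    exact hcv.eq
  haveI hWc : IsMulCommutative Wb := ⟨⟨fun a b => Subtype.ext (hWbc a a.2 b b.2)⟩⟩
  haveI hcyc : IsCyclic Db := isCyclic_of_fpf_comm hWb0
    (le_top.trans (normalizer_eq_top_iff.mpr hWbn).ge) hfpfb
  -- the complement has prime order
  obtain ⟨s, hs, hsd⟩ := Nat.exists_prime_and_dvd (n := Nat.card Db) (fun e => hD0 (eq_bot_of_card_eq _ e))
  haveI := Fact.mk hs
  have hcommq : ∀ a b : Qu N, a * b * a⁻¹ * b⁻¹ ∈ Wb := by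
    intro a b
    rw [← QuotientGroup.eq_one_iff]
    let e : (Qu N ⧸ Wb) ≃* Db := hcompl.symm.QuotientMulEquiv
    apply e.injective
    simp only [QuotientGroup.mk_mul, QuotientGroup.mk_inv, map_mul, map_inv, map_one]
    rw [IsMulCommutative.is_comm.comm (e (a : Qu N ⧸ Wb)) (e (b : Qu N ⧸ Wb)), mul_inv_cancel_right,
      mul_inv_cancel]
  set T : Subgroup (Qu N) :=
    { carrier := {n | n ^ s ∈ Wb}
      one_mem' := by simp
      mul_mem' := fun {a b} ha hb => by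
        show (a * b) ^ s ∈ Wb
        rw [← QuotientGroup.eq_one_iff, QuotientGroup.mk_pow, QuotientGroup.mk_mul]
        have hcm : Commute (a : Qu N ⧸ Wb) (b : Qu N ⧸ Wb) := by
          have := (QuotientGroup.eq_one_iff _).mpr (hcommq a b)
          simp only [QuotientGroup.mk_mul, QuotientGroup.mk_inv, mul_inv_eq_iff_eq_mul, one_mul] at this
          exact this
        rw [hcm.mul_pow, ← QuotientGroup.mk_pow, ← QuotientGroup.mk_pow, (QuotientGroup.eq_one_iff _).mpr ha,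
          (QuotientGroup.eq_one_iff _).mpr hb, one_mul]
      inv_mem' := fun {a} ha => by
        show a⁻¹ ^ s ∈ Wb
        rw [inv_pow]; exact inv_mem ha } with hT
  have hTn : (pre N T).Normal := pre_normal fun g v hv => by
    show (cq N g v) ^ s ∈ Wb
    obtain ⟨w, hw, hwv⟩ := (hv : v ^ s ∈ Wb)
    rw [← map_pow, ← hwv, cq_pr, hWb, mem_img hZW, MulAut.conjNormal_apply]
    exact (inferInstance : W.Normal).conj_mem _ (mem_subgroupOf.mp hw) g
  have hTtop : ∀ a : Qu N, a ^ s ∈ Wb := by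
    obtain ⟨d, hd⟩ := exists_prime_orderOf_dvd_card' (G := Db) s hsd
    obtain ⟨u, hu, hud⟩ := d.2
    have huT : (u : G) ∈ pre N T := mem_pre.mpr ⟨u.2, by
      show pr N u ^ s ∈ Wb
      rw [hud, ← SubgroupClass.coe_pow, ← hd, pow_orderOf_eq_one]; exact one_mem _⟩
    obtain ⟨w, hw, hwz⟩ := SetLike.not_le_iff_exists.mp hW0
    have hwN := hWN hw
    -- the centraliser of `w` meets `N` in `W`
    have hwW : ∀ c ∈ centralizer ({w} : Set G), c ∈ N → c ∈ W := by
      intro c hc hcN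
      obtain ⟨w', hw', c', hc', hc'N, e⟩ := hdec C hCco hWC c hcN
      have h1 : c' ∈ Zn N := by
        by_contra hc'z
        refine hwz (hfpf c' hc' hc'N hc'z w hw hwN ?_)
        have e3 : pr N ⟨c', hc'N⟩ = (pr N ⟨w', hWN hw'⟩)⁻¹ * pr N ⟨c, hcN⟩ := by
          rw [← map_inv, ← map_mul]
          exact congrArg (pr N) (Subtype.ext (by show c' = w'⁻¹ * c; rw [← e]; group))
        rw [e3]
        refine Commute.mul_left (Commute.inv_left ?_) ((pr_commute _ _).mpr ?_)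
        · exact hWbc _ ((mem_img hZW _).mpr hw') _ ((mem_img hZW _).mpr hw)
        · rw [show c * w * c⁻¹ * w⁻¹ = 1 by rw [mem_cz.mp hc]; group]; exact one_mem _
      rw [← e]; exact W.mul_mem hw' (hZW h1)
    have hne : ¬ pre N T ≤ centralizer ({w} : Set G) := fun hle => by
      have h2 : (u : G) ∈ W := hwW _ (hle huT) u.2
      have h1 : (d : Qu N) = 1 := disjoint_def.mp hcompl.disjoint (hud ▸ (mem_img hZW u).mpr h2) d.2
      rw [show d = 1 from Subtype.ext h1, orderOf_one] at hd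
      exact hs.ne_one hd.symm
    intro a
    obtain ⟨n, rfl⟩ := QuotientGroup.mk'_surjective _ a
    have htop' : pre N T ⊔ centralizer ({w} : Set G) = ⊤ := (h w hwN fun e => hwz ⟨hwN, e⟩).2 _
      (lt_of_le_of_ne le_sup_right fun e => hne (le_sup_left.trans e.ge))
    obtain ⟨m, hm, c, hc, e⟩ := mem_sup_of_normal_left.mp (htop' ▸ mem_top (n : G))
    obtain ⟨hmN, hmT⟩ := mem_pre.mp hm
    have hcN : c ∈ N := by
      have := N.mul_mem (N.inv_mem hmN) n.2
      rw [← e] at this; simpa using this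
    have hcT : pr N ⟨c, hcN⟩ ∈ T := pow_mem ((mem_img hZW _).mpr (hwW c hc hcN)) s
    rw [show n = ⟨m, hmN⟩ * ⟨c, hcN⟩ from Subtype.ext e.symm, map_mul]
    exact T.mul_mem hmT hcT
  have hexp : ∀ d : Db, d ^ s = 1 := fun d => Subtype.ext
    (disjoint_def.mp hcompl.disjoint (hTtop d) (d ^ s).2)
  have hcard : Nat.card Db = s := by
    obtain ⟨g, hg⟩ := IsCyclic.exists_ofOrder_eq_natCard (α := Db)
    exact Nat.dvd_antisymm (hg ▸ orderOf_dvd_of_pow_eq_one (hexp g)) hsd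
  exact ⟨Db, Wb, r, hr, hfr, hcard ▸ hs, hWbn, hker, hWc, hWbexp⟩

/-- If `N/Z(N)` is not a `p`-group and not all centralisers are normal, some `pCore` is non-trivial. -/
theorem exists_core (h : HypN N) (hpg : ∀ p : ℕ, p.Prime → ¬ IsPGroup p (Qu N)) :
    ∃ r : ℕ, r.Prime ∧ pCore r (Qu N) ≠ ⊥ := by
  classical
  by_contra hno
  push Not at hno
  have hnil : ∀ M : Subgroup (Qu N), M.Normal → Group.IsNilpotent M → M = ⊥ := fun M hM hn => by
    haveI := hM
    refine eq_bot_iff.mpr ((nilpotent_le_iSup_pCore M hn).trans (le_of_eq ?_))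
    exact iSup_eq_bot.mpr fun p => hno p p.2
  have hne : (⊤ : Subgroup (Qu N)) ≠ ⊥ := fun e => hpg 2 Nat.prime_two fun x => ⟨0, by
    simpa using Subgroup.mem_bot.mp (e ▸ mem_top x)⟩
  -- all centralisers are non-normal
  have hnn : ∀ x : G, x ∈ N → x ∉ Zn N → ¬ (centralizer ({x} : Set G)).Normal := by
    intro x hx hxz hn
    set M := N ⊓ centralizer (commutator G : Set G) with hM
    haveI : (img N M).Normal := img_normal M
    have hxM : x ∈ M := ⟨hx, mem_centralizer_iff.mpr fun c hc => by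
      haveI := hn
      have h1 : commutator G ≤ centralizer ({x} : Set G) := by
        rw [commutator_eq_closure, closure_le]
        rintro _ ⟨a, b, rfl⟩
        exact (normal_coatom (h x hx fun e => hxz ⟨hx, e⟩)).2 a b
      exact mem_cz.mp (h1 hc)⟩
    haveI hMnil : Group.IsNilpotent M := by
      refine ⟨⟨2, ?_⟩⟩
      rw [eq_top_iff]
      intro a _
      rw [show (2 : ℕ) = 1 + 1 from rfl, Subgroup.mem_upperCentralSeries_succ_iff]
      intro b
      rw [Subgroup.upperCentralSeries_one, mem_center_iff]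
      intro c
      refine Subtype.ext ?_
      have h1 : ⁅(a : G), (b : G)⁆ ∈ commutator G := commutator_mem_commutator (mem_top _) (mem_top _)
      simpa [commutatorElement_def] using (mem_centralizer_iff.mp c.2.2 _ h1).symm
    haveI : Group.IsNilpotent (M.subgroupOf N) :=
      (Group.isNilpotent_congr (subgroupOfEquivOfLe (inf_le_left : M ≤ N))).mpr hMnil
    have h2 := hnil (img N M) inferInstance
      (Group.nilpotent_of_surjective _ ((pr N).subgroupMap_surjective (M.subgroupOf N)))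
    exact hxz ((pr_eq_one (⟨x, hx⟩ : N)).mp (Subgroup.mem_bot.mp (h2 ▸
      (mem_map_of_mem (pr N) (mem_subgroupOf.mpr hxM) : pr N ⟨x, hx⟩ ∈ img N M))))
  -- the images of the centralisers
  set D : G → Subgroup (Qu N) := fun x => ((centralizer ({x} : Set G)).subgroupOf N).map (pr N) with hDd
  have hDmem : ∀ x ∈ N, ∀ n : N, pr N n ∈ D x ↔ (n : G) ∈ centralizer ({x} : Set G) :=
    fun x hx n => mem_img (zn_le_cz hx) n
  have hDt : ∀ x ∈ N, x ∉ Zn N → D x ≠ ⊤ := fun x hx hxz e => hxz ⟨hx, mem_centralizer_iff.mpr fun m hm =>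
    mem_cz.mp ((hDmem x hx ⟨m, hm⟩).mp (e ▸ mem_top _))⟩
  have hDb : ∀ x ∈ N, x ∉ Zn N → D x ≠ ⊥ := fun x hx hxz e => hxz ((pr_eq_one (⟨x, hx⟩ : N)).mp
    (Subgroup.mem_bot.mp (e ▸ (hDmem x hx ⟨x, hx⟩).mpr (mem_cz.mpr rfl))))
  have hself : ∀ x ∈ N, x ∉ Zn N → ∀ V : Subgroup (Qu N), V ≠ ⊥ → Group.IsNilpotent V →
      (∀ c ∈ centralizer ({x} : Set G), ∀ v ∈ V, cq N c v ∈ V) →
      ∀ n : N, (∀ v ∈ V, pr N n * v * (pr N n)⁻¹ ∈ V) → (n : G) ∈ centralizer ({x} : Set G) := by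
    intro x hx hxz V hV0 hVn hinv n hn
    have hVnn : ∀ g : G, (∀ v ∈ V, cq N g v ∈ V) → g ∈ normalizer (pre N V : Set G) := by
      intro g hg
      refine CfsgLib.CentMaxN.mem_normalizer_of_conj_le fun w hw => ?_
      obtain ⟨hwN, hwV⟩ := mem_pre.mp hw
      exact mem_pre.mpr ⟨(inferInstance : N.Normal).conj_mem w hwN g, hg _ hwV⟩
    rcases (h x hx fun e => hxz ⟨hx, e⟩).le_iff.mp
      (fun c hc => hVnn c (hinv c hc) : centralizer ({x} : Set G) ≤ normalizer (pre N V : Set G)) with e | e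
    · exfalso
      refine hV0 (hnil V ⟨fun v hv z => ?_⟩ hVn)
      obtain ⟨w, rfl⟩ := QuotientGroup.mk'_surjective _ v
      obtain ⟨m, rfl⟩ := QuotientGroup.mk'_surjective _ z
      haveI : (pre N V).Normal := normalizer_eq_top_iff.mp e
      obtain ⟨hN', hV'⟩ := mem_pre.mp ((inferInstance : (pre N V).Normal).conj_mem (w : G)
        (mem_pre.mpr ⟨w.2, hv⟩) (m : G))
      have h' : pr N (m * w * m⁻¹) ∈ V := hV'
      simpa using h'
    · rw [← e]
      exact hVnn n fun v hv => by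
        obtain ⟨w, rfl⟩ := QuotientGroup.mk'_surjective _ v
        rw [cq_pr, show MulAut.conjNormal (n : G) w = n * w * n⁻¹ from Subtype.ext (by simp), map_mul,
          map_mul, map_inv]
        exact hn _ hv
  -- single prime
  have hsingle : ∀ x ∈ N, x ∉ Zn N → ∀ p : ℕ, p.Prime → Prim p x → IsPGroup p (D x) := by
    intro x hx hxz p hp hxp
    haveI := Fact.mk hp
    by_contra hnp
    set C := centralizer ({x} : Set G) with hC
    obtain ⟨a, haC, haN, r, hr, hrp, har, haz⟩ : ∃ a ∈ C, a ∈ N ∧ ∃ r : ℕ, r.Prime ∧ r ≠ p ∧ Prim r a ∧ a ∉ Zn N := by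
      by_contra hall
      push Not at hall
      refine hnp ?_
      rintro ⟨_, u, hu, rfl⟩
      obtain ⟨a, b, hab, ha, hb, ⟨k, hk⟩, hbo⟩ := CycSyl.split (p := p) (u : G)
      have hbz : b ∈ Zn N := by
        by_contra hbz
        obtain ⟨r, hr, v, hv, hvr, hvz⟩ := exists_prim hbz
        refine hvz (hall v ((zpowers_le.mpr ((zpowers_le.mpr (mem_subgroupOf.mp hu)) hb)) hv)
          ((zpowers_le.mpr ((zpowers_le.mpr u.2) hb)) hv) r hr (fun e => ?_) hvr)
        subst e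
        obtain ⟨j, hj⟩ := hvr
        exact hvz (orderOf_eq_one_iff.mp (Nat.eq_one_of_dvd_coprimes (hbo.pow_right j)
          (orderOf_dvd_of_mem_zpowers hv) (orderOf_dvd_of_pow_eq_one hj)) ▸ one_mem _)
      refine ⟨k, Subtype.ext ?_⟩
      show pr N u ^ p ^ k = 1
      rw [show u = ⟨a, (zpowers_le.mpr u.2) ha⟩ * ⟨b, hbz.1⟩ from Subtype.ext hab.symm, map_mul,
        (pr_eq_one (⟨b, hbz.1⟩ : N)).mpr hbz, mul_one, ← map_pow,
        show (⟨a, (zpowers_le.mpr u.2) ha⟩ : N) ^ p ^ k = 1 from Subtype.ext hk, map_one]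
    have hCa : centralizer ({a} : Set G) = C :=
      czN_eq_of_prim h hr hp hrp haN haz har hx hxz hxp (mem_cz.mp haC)
    have hall : ∀ u ∈ C, u ∈ N → u ∉ Zn N → centralizer ({u} : Set G) = C := by
      intro u huC huN huz
      obtain ⟨s, hs, v, hv, hvs, hvz⟩ := exists_prim huz
      rw [czN_eq_of_zpowers h huN hvz hv]
      have hvN := (zpowers_le.mpr huN) hv
      have hvC : v ∈ C := (zpowers_le.mpr huC) hv
      by_cases hsp : s = p
      · rw [← hCa]
        exact czN_eq_of_prim h hs hr (hsp.trans_ne hrp.symm) hvN hvz hvs haN haz har (mem_cz.mp (hCa.symm ▸ hvC))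
      · exact czN_eq_of_prim h hs hp hsp hvN hvz hvs hx hxz hxp (mem_cz.mp hvC)
    haveI hDc : IsMulCommutative (D x) := ⟨⟨fun u v => Subtype.ext (by
      obtain ⟨u', hu', hue⟩ := u.2
      obtain ⟨v', hv', hve⟩ := v.2
      show (u : Qu N) * v = v * u
      rw [← hue, ← hve]
      refine (pr_commute u' v').mpr ?_
      by_cases hvz : (v' : G) ∈ Zn N
      · rw [show (u' : G) * v' * (u' : G)⁻¹ * (v' : G)⁻¹ = 1 by rw [(zn_commute hvz u'.2).eq]; group]
        exact one_mem _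
      · rw [show (u' : G) * v' * (u' : G)⁻¹ * (v' : G)⁻¹ = 1 by
          rw [mem_cz.mp ((hall _ (mem_subgroupOf.mp hv') v'.2 hvz).ge (mem_subgroupOf.mp hu'))]; group]
        exact one_mem _)⟩⟩
    haveI : Group.IsNilpotent (D x) := by
      letI : CommGroup (D x) := { mul_comm := IsMulCommutative.is_comm.comm }
      infer_instance
    have hDinv : ∀ c ∈ C, ∀ v ∈ D x, cq N c v ∈ D x := by
      rintro c hc _ ⟨w, hw, rfl⟩
      rw [cq_pr, hDmem x hx, MulAut.conjNormal_apply]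
      exact C.mul_mem (C.mul_mem hc (mem_subgroupOf.mp hw)) (C.inv_mem hc)
    have hfr : IsFrobeniusComplement (D x) := by
      refine ⟨hDb x hx hxz, hDt x hx hxz, fun g hg => ?_⟩
      obtain ⟨n, rfl⟩ := QuotientGroup.mk'_surjective _ g
      rw [Subgroup.eq_bot_iff_forall]
      rintro v ⟨hv1, hv2⟩
      obtain ⟨m, rfl⟩ := QuotientGroup.mk'_surjective _ v
      change pr N m ∈ D x at hv1
      change pr N m ∈ MulAut.conj (pr N n) • D x at hv2
      rw [mem_conj_smul_iff, ← map_inv, ← map_mul, ← map_mul, hDmem x hx] at hv2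
      rw [hDmem x hx] at hv1
      by_contra hne
      have hmz : (m : G) ∉ Zn N := fun e => hne ((pr_eq_one m).mpr e)
      refine hg ((hDmem x hx n).mpr ?_)
      have hm'z : ((n⁻¹ * m * n : N) : G) ∉ Zn N := fun e => hmz (by
        simpa [mul_assoc] using (inferInstance : (Zn N).Normal).conj_mem _ e (n : G))
      have e1 := hall _ hv1 m.2 hmz
      have e2 := hall _ hv2 (n⁻¹ * m * n : N).2 hm'z
      have hsub : ∀ c ∈ C, (n : G) * c * (n : G)⁻¹ ∈ C := fun c hc => by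
        have hcm := mem_cz.mp (e2.symm ▸ hc : c ∈ centralizer ({((n⁻¹ * m * n : N) : G)} : Set G))
        simp only [Subgroup.coe_mul, InvMemClass.coe_inv] at hcm
        rw [← e1, mem_cz]
        calc (n : G) * c * (n : G)⁻¹ * m = n * (c * ((n : G)⁻¹ * m * n)) * (n : G)⁻¹ := by group
          _ = n * ((n : G)⁻¹ * m * n * c) * (n : G)⁻¹ := by rw [hcm]
          _ = m * (n * c * (n : G)⁻¹) := by group
      refine hself x hx hxz (D x) (hDb x hx hxz) inferInstance hDinv n ?_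
      intro v hv
      obtain ⟨w, rfl⟩ := QuotientGroup.mk'_surjective _ v
      rw [← map_inv, ← map_mul, ← map_mul, hDmem x hx]
      exact hsub _ ((hDmem x hx w).mp hv)
    obtain ⟨K, -, hKn, hc, hKnil⟩ := exists_nilpotent_kernel hfr
    exact kernel_ne_bot hfr hc (hnil K hKn hKnil)
  -- an element of odd prime type
  obtain ⟨p, hp, hp2, x, hx, hxz, hxp⟩ : ∃ p : ℕ, p.Prime ∧ p ≠ 2 ∧ ∃ x : G, x ∈ N ∧ x ∉ Zn N ∧ Prim p x := by
    by_contra hall
    push Not at hall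
    refine hpg 2 Nat.prime_two fun z => ?_
    obtain ⟨n, rfl⟩ := QuotientGroup.mk'_surjective _ z
    haveI : Fact (Nat.Prime 2) := ⟨Nat.prime_two⟩
    obtain ⟨a, b, hab, ha, hb, ⟨k, hk⟩, hbo⟩ := CycSyl.split (p := 2) (n : G)
    have hbz : b ∈ Zn N := by
      by_contra hbz
      obtain ⟨r, hr, v, hv, ⟨j, hj⟩, hvz⟩ := exists_prim hbz
      by_cases hr2 : r = 2
      · subst hr2
        exact hvz (orderOf_eq_one_iff.mp (Nat.eq_one_of_dvd_coprimes (hbo.pow_right j)
          (orderOf_dvd_of_mem_zpowers hv) (orderOf_dvd_of_pow_eq_one hj)) ▸ one_mem _)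
      · exact hall r hr hr2 v ((zpowers_le.mpr ((zpowers_le.mpr n.2) hb)) hv) hvz ⟨j, hj⟩
    refine ⟨k, ?_⟩
    rw [show n = ⟨a, (zpowers_le.mpr n.2) ha⟩ * ⟨b, hbz.1⟩ from Subtype.ext hab.symm, map_mul,
      (pr_eq_one (⟨b, hbz.1⟩ : N)).mpr hbz, mul_one, ← map_pow,
      show (⟨a, (zpowers_le.mpr n.2) ha⟩ : N) ^ 2 ^ k = 1 from Subtype.ext hk, map_one]
  haveI := Fact.mk hp
  set C := centralizer ({x} : Set G) with hC
  have hPp := hsingle x hx hxz p hp hxp
  have hDinv : ∀ c ∈ C, ∀ v ∈ D x, cq N c v ∈ D x := by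
    rintro c hc _ ⟨w, hw, rfl⟩
    rw [cq_pr, hDmem x hx, MulAut.conjNormal_apply]
    exact C.mul_mem (C.mul_mem hc (mem_subgroupOf.mp hw)) (C.inv_mem hc)
  have hDeq : ∀ c ∈ C, (D x).map (cq N c).toMonoidHom = D x := fun c hc =>
    eq_of_le_of_card_ge (by rintro _ ⟨v, hv, rfl⟩; exact hDinv c hc v hv)
      (card_map_of_injective (cq N c).injective).ge
  -- it is Sylow
  obtain ⟨T, hT⟩ := hPp.exists_le_sylow
  have hDT : D x = (T : Subgroup (Qu N)) := by
    by_contra hne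
    have := T.2.isNilpotent
    have hlt := Group.normalizerCondition_of_isNilpotent ((D x).subgroupOf (T : Subgroup (Qu N)))
      (lt_top_iff_ne_top.mpr fun e => hne (le_antisymm hT (subgroupOf_eq_top.mp e)))
    obtain ⟨t, ht, htD⟩ := SetLike.exists_of_lt hlt
    obtain ⟨n, hn⟩ := QuotientGroup.mk'_surjective _ (t : Qu N)
    have h1 := hself x hx hxz (D x) (hDb x hx hxz) hPp.isNilpotent hDinv n fun v hv => by
      rw [show pr N n = (t : Qu N) from hn]
      exact (mem_normalizer_iff.mp ht ⟨v, hT hv⟩).mp hv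
    exact htD (mem_subgroupOf.mpr (hn ▸ (hDmem x hx n).mpr h1))
  have hz0 := CfsgLib.ZJ.zj_ne_bot (e := 0) (Or.inl rfl) T.2 (hDT ▸ hDb x hx hxz)
  have hnpc : HasNormalPComplement p (Qu N) := by
    refine CfsgLib.ZJ.hasNormalPComplement_of_normalizer_zj hp2 (e := 0) (Or.inl rfl) T ?_
    refine CfsgLib.ZJ.hasNormalPComplement_of_le (N := (T : Subgroup (Qu N))) (fun z hz => ?_)
      (CfsgLib.hasNormalPComplement_of_isNilpotent T.2.isNilpotent)
    obtain ⟨n, rfl⟩ := QuotientGroup.mk'_surjective _ z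
    rw [← hDT, hDmem x hx]
    refine hself x hx hxz _ hz0 ((T.2.to_le (CfsgLib.ZJ.zj_le 0 _)).isNilpotent) (fun c hc v hv => ?_) n
      fun v hv => (mem_normalizer_iff.mp hz v).mp hv
    have h3 := CfsgLib.ZJ.zj_map 0 (f := (cq N c).toMonoidHom) (cq N c).injective (D x)
    rw [hDeq c hc, hDT] at h3
    exact h3.ge ⟨v, hv, rfl⟩
  obtain ⟨S, M, hMn, hMc⟩ := hnpc
  obtain ⟨n, hn⟩ := IsPGroup.iff_card.mp S.2
  have hp_dvd : p ∣ Nat.card (S : Subgroup (Qu N)) := by
    rw [S.card_eq_multiplicity, ← T.card_eq_multiplicity, ← hDT]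
    obtain ⟨m, hm⟩ := IsPGroup.iff_card.mp hPp
    rw [hm]
    refine dvd_pow_self p fun h0 => hDb x hx hxz (eq_bot_of_card_eq _ ?_)
    rw [hm, h0, pow_zero]
  have hMcop : (Nat.card M).Coprime p := by
    have h1 := S.not_dvd_index
    rw [hMc.index_eq_card] at h1
    exact (hp.coprime_iff_not_dvd.mpr h1).symm
  have hMeq : pPrimeCore p (Qu N) = M := by
    refine le_antisymm (fun z hz => ?_) (le_pPrimeCore hMcop)
    rw [← QuotientGroup.eq_one_iff, ← orderOf_eq_one_iff]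
    refine Nat.eq_one_of_dvd_coprimes ((card_pPrimeCore_coprime p).coprime_dvd_left
      ((orderOf_map_dvd (QuotientGroup.mk' M) z).trans (Subgroup.orderOf_dvd_natCard _ hz)) |>.pow_right n)
      dvd_rfl ((_root_.orderOf_dvd_natCard _).trans ?_)
    rw [← index_eq_card, hMc.symm.index_eq_card, hn]
  haveI hMchar : M.Characteristic := hMeq ▸ inferInstance
  haveI := pre_normal_of_char (N := N) M
  have hM0 : M ≠ ⊥ := fun e => hpg p hp (by
    refine IsPGroup.of_card (n := n) ?_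
    rw [← hn, ← hMc.card_mul, e, Subgroup.card_bot, one_mul])
  obtain ⟨m, hm, hm1⟩ := SetLike.exists_of_lt (bot_lt_iff_ne_bot.mpr hM0)
  obtain ⟨y₀, rfl⟩ := QuotientGroup.mk'_surjective _ m
  have hy₀z : (y₀ : G) ∉ Zn N := fun e => hm1 (Subgroup.mem_bot.mpr ((pr_eq_one y₀).mpr e))
  obtain ⟨q, hq, y, hy, hyq, hyz⟩ := exists_prim hy₀z
  have hyN : y ∈ N := (zpowers_le.mpr y₀.2) hy
  have hyM : pr N ⟨y, hyN⟩ ∈ M := by
    obtain ⟨i, hi⟩ := hy
    rw [show (⟨y, hyN⟩ : N) = y₀ ^ i from Subtype.ext hi.symm, map_zpow]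
    exact zpow_mem hm i
  have hqp : q ≠ p := by
    rintro rfl
    obtain ⟨k, hk⟩ := hyq
    refine hyz ((pr_eq_one (⟨y, hyN⟩ : N)).mp (orderOf_eq_one_iff.mp (Nat.eq_one_of_dvd_coprimes
      (hMcop.pow_right k) (Subgroup.orderOf_dvd_natCard _ hyM) (orderOf_dvd_of_pow_eq_one ?_))))
    rw [← map_pow, show (⟨y, hyN⟩ : N) ^ q ^ k = 1 from Subtype.ext hk, map_one]
  haveI := Fact.mk hq
  have hQp := hsingle y hyN hyz q hq hyq
  obtain ⟨l, hl⟩ := IsPGroup.iff_card.mp hQp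
  by_cases hle : pre N M ≤ centralizer ({y} : Set G)
  · -- then `M` is a normal `q`-group
    refine hM0 (hnil M hMn ((hQp.to_le fun z hz => ?_).isNilpotent))
    obtain ⟨w, rfl⟩ := QuotientGroup.mk'_surjective _ z
    exact (hDmem y hyN w).mpr (hle (mem_pre.mpr ⟨w.2, hz⟩))
  · have htop : M ⊔ D y = ⊤ := eq_top_iff.mpr fun z _ => by
      obtain ⟨w, rfl⟩ := QuotientGroup.mk'_surjective _ z
      have htop' : pre N M ⊔ centralizer ({y} : Set G) = ⊤ := (h y hyN fun e => hyz ⟨hyN, e⟩).2 _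
        (lt_of_le_of_ne le_sup_right fun e => hle (le_sup_left.trans e.ge))
      obtain ⟨a, ha, c, hc, e⟩ := mem_sup_of_normal_left.mp (htop' ▸ mem_top (w : G))
      obtain ⟨haN, haM⟩ := mem_pre.mp ha
      have hcN : c ∈ N := by
        have := N.mul_mem (N.inv_mem haN) w.2
        rw [← e] at this; simpa using this
      rw [show w = ⟨a, haN⟩ * ⟨c, hcN⟩ from Subtype.ext e.symm, map_mul]
      exact mul_mem (mem_sup_left haM) (mem_sup_right ((hDmem y hyN _).mpr hc))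
    have hd : M.index ∣ q ^ l := by
      rw [← hl, ← relIndex_top_right, ← htop, sup_comm, relIndex_sup_right]
      exact relIndex_dvd_card _ _
    rw [hMc.symm.index_eq_card] at hd
    exact hqp ((Nat.prime_dvd_prime_iff_eq hp hq).mp (hp.dvd_of_dvd_pow (hp_dvd.trans hd))).symm

theorem main (h : HypN N) :
    (∃ p : ℕ, p.Prime ∧ IsElementaryAbelian p (⊤ : Subgroup (Qu N))) ∨ AltN N := by
  classical
  by_cases hpg : ∀ p : ℕ, p.Prime → ¬ IsPGroup p (Qu N)
  swap
  · push Not at hpg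
    obtain ⟨p, hp, hN⟩ := hpg
    exact Or.inl ⟨p, hp, p_groupN h hp hN⟩
  by_cases hall : ∀ x : G, x ∈ N → x ∉ Zn N → (centralizer ({x} : Set G)).Normal
  · exact Or.inl (all_normalN h hall)
  right
  push Not at hall
  obtain ⟨x, hx, hxz, hxn⟩ := hall
  obtain ⟨p, hp, u, hu, hup, huz⟩ := exists_prim hxz
  have huN : u ∈ N := (zpowers_le.mpr hx) hu
  have hun : ¬ (centralizer ({u} : Set G)).Normal := czN_eq_of_zpowers h hx huz hu ▸ hxn
  -- a prime with non-trivial core and an element of another type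
  obtain ⟨r, hr, hr0, q, hq, hqr, y, hy, hyz, hyq, hyn⟩ : ∃ r : ℕ, r.Prime ∧ pCore r (Qu N) ≠ ⊥ ∧
      ∃ q : ℕ, q.Prime ∧ q ≠ r ∧ ∃ y : G, y ∈ N ∧ y ∉ Zn N ∧ Prim q y ∧ ¬ (centralizer ({y} : Set G)).Normal := by
    obtain ⟨r, hr, hr0⟩ := exists_core h hpg
    by_cases hpr : p = r
    swap
    · exact ⟨r, hr, hr0, p, hp, hpr, u, huN, huz, hup, hun⟩
    by_contra hno
    push Not at hno
    -- elements of other primes have normal centralisers
    obtain ⟨s, hs, hsp, v, hvN, hvz, hvs⟩ : ∃ s : ℕ, s.Prime ∧ s ≠ p ∧ ∃ v : G, v ∈ N ∧ v ∉ Zn N ∧ Prim s v := by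
      by_contra hall
      push Not at hall
      refine hpg p hp fun z => ?_
      obtain ⟨n, rfl⟩ := QuotientGroup.mk'_surjective _ z
      haveI := Fact.mk hp
      obtain ⟨a, b, hab, ha, hb, ⟨k, hk⟩, hbo⟩ := CycSyl.split (p := p) (n : G)
      have hbz : b ∈ Zn N := by
        by_contra hbz
        obtain ⟨t, ht, v, hv, ⟨j, hj⟩, hvz⟩ := exists_prim hbz
        by_cases htp : t = p
        · subst htp
          exact hvz (orderOf_eq_one_iff.mp (Nat.eq_one_of_dvd_coprimes (hbo.pow_right j)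
            (orderOf_dvd_of_mem_zpowers hv) (orderOf_dvd_of_pow_eq_one hj)) ▸ one_mem _)
        · exact hall t ht htp v ((zpowers_le.mpr ((zpowers_le.mpr n.2) hb)) hv) hvz ⟨j, hj⟩
      refine ⟨k, ?_⟩
      rw [show n = ⟨a, (zpowers_le.mpr n.2) ha⟩ * ⟨b, hbz.1⟩ from Subtype.ext hab.symm, map_mul,
        (pr_eq_one (⟨b, hbz.1⟩ : N)).mpr hbz, mul_one, ← map_pow,
        show (⟨a, (zpowers_le.mpr n.2) ha⟩ : N) ^ p ^ k = 1 from Subtype.ext hk, map_one]
    have hvn := hno r hr hr0 s hs (hpr ▸ hsp) v hvN hvz hvs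
    haveI := hvn
    set M := N ⊓ centralizer (commutator G : Set G) with hM
    have hvM : v ∈ M := ⟨hvN, mem_centralizer_iff.mpr fun c hc => by
      have h1 : commutator G ≤ centralizer ({v} : Set G) := by
        rw [commutator_eq_closure, closure_le]
        rintro _ ⟨a, b, rfl⟩
        exact (normal_coatom (h v hvN fun e => hvz ⟨hvN, e⟩)).2 a b
      exact mem_cz.mp (h1 hc)⟩
    haveI hMnil : Group.IsNilpotent M := by
      refine ⟨⟨2, ?_⟩⟩
      rw [eq_top_iff]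
      intro a _
      rw [show (2 : ℕ) = 1 + 1 from rfl, Subgroup.mem_upperCentralSeries_succ_iff]
      intro b
      rw [Subgroup.upperCentralSeries_one, mem_center_iff]
      intro c
      refine Subtype.ext ?_
      have h1 : ⁅(a : G), (b : G)⁆ ∈ commutator G := commutator_mem_commutator (mem_top _) (mem_top _)
      simpa [commutatorElement_def] using (mem_centralizer_iff.mp c.2.2 _ h1).symm
    haveI : Group.IsNilpotent (M.subgroupOf N) :=
      (Group.isNilpotent_congr (subgroupOfEquivOfLe (inf_le_left : M ≤ N))).mpr hMnil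
    haveI : (img N M).Normal := img_normal M
    have hle := le_fittingSubgroup (N := img N M)
      (Group.nilpotent_of_surjective _ ((pr N).subgroupMap_surjective (M.subgroupOf N)))
    haveI := Fact.mk hs
    have hs0 : pCore s (Qu N) ≠ ⊥ := fun e => by
      refine not_dvd_card_fitting_of_pCore_eq_bot e ?_
      obtain ⟨k, hk⟩ := hvs
      obtain ⟨i, -, hi⟩ := (Nat.dvd_prime_pow hs).mp (orderOf_dvd_of_pow_eq_one (show pr N ⟨v, hvN⟩ ^ s ^ k = 1 by
        rw [← map_pow, show (⟨v, hvN⟩ : N) ^ s ^ k = 1 from Subtype.ext hk, map_one]))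
      refine (dvd_pow_self s fun h0 => ?_).trans (hi ▸ Subgroup.orderOf_dvd_natCard _
        (hle (mem_map_of_mem _ (mem_subgroupOf.mpr hvM))))
      rw [h0, pow_zero, orderOf_eq_one_iff, pr_eq_one] at hi
      exact hvz hi
    exact hun (hno s hs hs0 p hp hsp.symm u huN huz hup)
  -- a minimal normal subgroup
  haveI hpn := pre_normal_of_char (N := N) (pCore r (Qu N))
  obtain ⟨W, ⟨hWn, hZW, hWp, hW0⟩, hmin⟩ := Set.exists_min_image
    {W : Subgroup G | W.Normal ∧ Zn N ≤ W ∧ W ≤ pre N (pCore r (Qu N)) ∧ ¬ W ≤ Zn N}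
    (fun W => Nat.card W) (Set.toFinite _) ⟨_, hpn, zn_le_pre _, le_rfl, fun hle => hr0 ((Subgroup.eq_bot_iff_forall _).mpr
      fun z hz => by
        obtain ⟨w, rfl⟩ := QuotientGroup.mk'_surjective _ z
        exact (pr_eq_one w).mpr (hle (mem_pre.mpr ⟨w.2, hz⟩)))⟩
  refine w_lemma h hr W hZW (hWp.trans (pre_le _)) (fun M hM h1 h2 => ?_) hW0 (fun w hw => ?_) hq hqr hy hyz hyq hyn
  · rw [or_iff_not_imp_left]
    exact fun hM0 => eq_of_le_of_card_ge h2 (hmin M ⟨hM, h1, h2.trans hWp, hM0⟩)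
  · obtain ⟨hwN, hwO⟩ := mem_pre.mp (hWp hw)
    obtain ⟨k, hk⟩ := isPGroup_pCore (G := Qu N) r ⟨_, hwO⟩
    refine ⟨k, ?_⟩
    have h1 : pr N ⟨w, hwN⟩ ^ r ^ k = 1 := congrArg Subtype.val hk
    rw [← map_pow, pr_eq_one] at h1
    simpa using h1

end CfsgLib.CentMaxN
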