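import Cfsg.Agent.Lib.CentrallyLarge

/-! Some minimal centrally large subgroup of a `p`-group is normalized by all minimal centrally
large subgroups and by all abelian subgroups of largest order (Glauberman). -/

set_option autoImplicit false
set_option linter.unusedVariables false
set_option linter.unusedSectionVars false

namespace CfsgLib.CentrallyLarge

open CfsgLib.Products CfsgLib.Local
open scoped commutatorElement

variable {G : Type*} [Group G]

local notation "ζ" H:max => Subgroup.centralizer (SetLike.coe H)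

/-- The generators considered: maximal abelian lattice members and abelian subgroups of largest
order. -/
def Gen (A : Subgroup G) : Prop := MaxLarge A ∨ MaxAb A

theorem Gen.abelian {A : Subgroup G} (h : Gen A) : A ≤ ζ A :=
  h.elim (fun h => h.2.1) (fun h => h.1)

/-- The elements of `C(X)` whose commutators with the elements of `H` lie in `X`. -/
def fixedMod (X H : Subgroup G) : Subgroup G where
  carrier := {u | u ∈ ζ X ∧ ∀ h ∈ H, h * u * h⁻¹ * u⁻¹ ∈ X}
  one_mem' := ⟨Subgroup.one_mem _, fun h _ => by simp⟩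
  mul_mem' := fun {u v} hu hv => ⟨Subgroup.mul_mem _ hu.1 hv.1, fun h hh => by
    have e : u * (h * v * h⁻¹ * v⁻¹) = (h * v * h⁻¹ * v⁻¹) * u := (hu.1 _ (hv.2 h hh)).symm
    have := X.mul_mem (hu.2 h hh) (hv.2 h hh)
    convert this using 1
    calc h * (u * v) * h⁻¹ * (u * v)⁻¹
        = (h * u * h⁻¹ * u⁻¹) * (u * (h * v * h⁻¹ * v⁻¹)) * u⁻¹ := by group
      _ = _ := by rw [e]; group⟩
  inv_mem' := fun {u} hu => ⟨Subgroup.inv_mem _ hu.1, fun h hh => by
    have hc := X.inv_mem (hu.2 h hh)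
    have e := hu.1 _ hc
    convert hc using 1
    calc h * u⁻¹ * h⁻¹ * u⁻¹⁻¹ = u⁻¹ * ((h * u * h⁻¹ * u⁻¹)⁻¹ * u) := by group
      _ = u⁻¹ * (u * (h * u * h⁻¹ * u⁻¹)⁻¹) := by rw [e]
      _ = _ := by group⟩

theorem le_fixedMod_self {X H : Subgroup G} (hX : X ≤ ζ X)
    (hn : H ≤ Subgroup.normalizer (X : Set G)) : X ≤ fixedMod X H := fun x hx =>
  ⟨hX hx, fun h hh => X.mul_mem ((Subgroup.mem_normalizer_iff.1 (hn hh) x).1 hx) (X.inv_mem hx)⟩

/-- The elements of `N(X)` fixing `u` modulo `X`. -/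
def stabMod (X : Subgroup G) (u : G) : Subgroup G where
  carrier := {h | h ∈ Subgroup.normalizer (X : Set G) ∧ h * u * h⁻¹ * u⁻¹ ∈ X}
  one_mem' := ⟨Subgroup.one_mem _, by simp⟩
  mul_mem' := fun {a b} ha hb => ⟨Subgroup.mul_mem _ ha.1 hb.1, by
    have := X.mul_mem ((Subgroup.mem_normalizer_iff.1 ha.1 _).1 hb.2) ha.2
    convert this using 1
    group⟩
  inv_mem' := fun {a} ha => ⟨Subgroup.inv_mem _ ha.1, by
    have := X.inv_mem ((Subgroup.mem_normalizer_iff.1 (Subgroup.inv_mem _ ha.1) _).1 ha.2)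
    convert this using 1
    group⟩

theorem fixedMod_sup {X H K : Subgroup G} (hH : H ≤ Subgroup.normalizer (X : Set G))
    (hK : K ≤ Subgroup.normalizer (X : Set G)) :
    fixedMod X H ⊓ fixedMod X K ≤ fixedMod X (H ⊔ K) := by
  rintro u ⟨h1, h2⟩
  have : H ⊔ K ≤ stabMod X u :=
    sup_le (fun h hh => ⟨hH hh, h1.2 h hh⟩) (fun h hh => ⟨hK hh, h2.2 h hh⟩)
  exact ⟨h1.1, fun h hh => (this hh).2⟩

theorem fixedMod_normalized {X H : Subgroup G} {g : G} (hX : g ∈ Subgroup.normalizer (X : Set G))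
    (hH : g ∈ Subgroup.normalizer (H : Set G)) {u : G} (hu : u ∈ fixedMod X H) :
    g * u * g⁻¹ ∈ fixedMod X H := by
  refine ⟨fun x hx => ?_, fun h hh => ?_⟩
  · have h1 := hu.1 _ ((Subgroup.mem_normalizer_iff.1 (Subgroup.inv_mem _ hX) x).1 hx)
    rw [inv_inv] at h1
    calc x * (g * u * g⁻¹) = g * (g⁻¹ * x * g * u) * g⁻¹ := by group
      _ = g * (u * (g⁻¹ * x * g)) * g⁻¹ := by rw [h1]
      _ = _ := by group
  · have := (Subgroup.mem_normalizer_iff.1 hX _).1 (hu.2 (g⁻¹ * h * g) (by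
      simpa using (Subgroup.mem_normalizer_iff.1 (Subgroup.inv_mem _ hH) h).1 hh))
    convert this using 1
    group

theorem normalizer_le_normalizer_centralizer (K : Subgroup G) :
    Subgroup.normalizer (K : Set G) ≤ Subgroup.normalizer (ζ K : Set G) := by
  refine Subgroup.le_normalizer_iff.2 fun g hg u hu x hx => ?_
  have h1 := hu _ ((Subgroup.mem_normalizer_iff.1 (Subgroup.inv_mem _ hg) x).1 hx)
  rw [inv_inv] at h1
  calc x * (g * u * g⁻¹) = g * (g⁻¹ * x * g * u) * g⁻¹ := by group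
    _ = g * (u * (g⁻¹ * x * g)) * g⁻¹ := by rw [h1]
    _ = _ := by group

section Finite

variable [Finite G]

theorem MaxLarge.conj {Z : Subgroup G} (hZ : MaxLarge Z) (g : G) :
    MaxLarge (Z.map (MulAut.conj g).toMonoidHom) := by
  have hab : Z.map (MulAut.conj g).toMonoidHom ≤ ζ (Z.map (MulAut.conj g).toMonoidHom) := by
    rintro _ ⟨a, ha, rfl⟩ _ ⟨b, hb, rfl⟩
    rw [← map_mul, ← map_mul, hZ.2.1 ha b hb]
  obtain ⟨Z', hZ', hle⟩ := exists_maxLarge (hZ.1.conj g) hab
  have := Subgroup.eq_of_le_of_card_ge hle (by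
    rw [Subgroup.card_map_of_injective (MulEquiv.injective _), (hZ.compare hZ').2])
  rwa [this]

theorem MaxAb.conj {A : Subgroup G} (hA : MaxAb A) (g : G) :
    MaxAb (A.map (MulAut.conj g).toMonoidHom) := by
  refine ⟨?_, fun B hB => ?_⟩
  · rintro _ ⟨a, ha, rfl⟩ _ ⟨b, hb, rfl⟩
    rw [← map_mul, ← map_mul, hA.1 ha b hb]
  · rw [Subgroup.card_map_of_injective (MulEquiv.injective _)]
    exact hA.2 B hB

theorem Gen.conj {A : Subgroup G} (hA : Gen A) (g : G) :
    Gen (A.map (MulAut.conj g).toMonoidHom) :=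
  hA.elim (fun h => Or.inl (h.conj g)) (fun h => Or.inr (h.conj g))

theorem Gen.inf_large {A D : Subgroup G} (hA : Gen A) (hD : Large D) (hDa : D ≤ ζ D) :
    Large (D ⊓ A) := by
  rcases hA with h | h
  · exact hD.inf h.1
  · obtain ⟨h1, h2, -, -⟩ := cl_sup_maxAb hD.centralizer (by rwa [hD.centralizer_centralizer]) h
    have := h1.centralizer
    rwa [h2, hD.centralizer_centralizer] at this

/-- Thompson replacement for the generators. -/
theorem Gen.replace {A M : Subgroup G} (hA : Gen A) (x : G) (hMa : M ≤ ζ M)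
    (hM : M = Subgroup.closure ((fun a => ⁅x, a⁆) '' (A : Set G))) :
    Gen (M ⊔ (A ⊓ ζ M)) := by
  set A' := A.map (MulAut.conj x).toMonoidHom with hA'
  have hgen : ∀ a ∈ A, ⁅x, a⁆ ∈ M := fun a ha => hM ▸ Subgroup.subset_closure ⟨a, ha, rfl⟩
  have hMT : M ≤ A ⊔ A' := by
    rw [hM, Subgroup.closure_le]
    rintro _ ⟨a, ha, rfl⟩
    exact Subgroup.mul_mem _ (Subgroup.mem_sup_right ⟨a, ha, by simp⟩) (Subgroup.mem_sup_left (A.inv_mem ha))
  have hAM : A' ≤ M ⊔ A := by
    rintro _ ⟨a, ha, rfl⟩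
    have := Subgroup.mul_mem _ (Subgroup.mem_sup_left (T := A) (hgen a ha)) (Subgroup.mem_sup_right ha)
    simpa [commutatorElement_def] using this
  have hT : M ⊔ A = A ⊔ A' := le_antisymm (sup_le hMT le_sup_left) (sup_le le_sup_right hAM)
  have hn : A ≤ Subgroup.normalizer (M : Set G) := by
    refine Subgroup.le_normalizer_iff.2 fun b hb m hm => ?_
    have : M ≤ M.comap (MulAut.conj b).toMonoidHom := by
      conv_lhs => rw [hM]
      rw [Subgroup.closure_le]
      rintro _ ⟨a, ha, rfl⟩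
      show b * ⁅x, a⁆ * b⁻¹ ∈ M
      have := M.mul_mem (M.inv_mem (hgen b hb)) (hgen (b * a) (A.mul_mem hb ha))
      convert this using 1
      simp only [commutatorElement_def]
      group
    exact this hm
  set c := A ⊓ ζ M
  have hMc : M ≤ ζ c := le_centralizer_comm.1 inf_le_right
  have hab : M ⊔ c ≤ ζ (M ⊔ c) := sup_abelian hMa (le_abelian inf_le_left hA.abelian) hMc
  have c1 := card_sup_mul_card_inf hn
  have c2 := card_sup_of_centralizes hMc
  have c3 := card_mul_card_le A A'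
  have hinf : M ⊓ c = M ⊓ A :=
    le_antisymm (inf_le_inf_left _ inf_le_left)
      (le_inf inf_le_left (le_inf inf_le_right (inf_le_left.trans hMa)))
  have he : A ⊓ A' ≤ c := by
    refine le_inf inf_le_left (le_centralizer_comm.1 (hMT.trans ?_))
    refine sup_le ?_ ?_
    · exact le_centralizer_comm.1 (inf_le_left.trans hA.abelian)
    · exact le_centralizer_comm.1 (inf_le_right.trans (hA.conj x).abelian)
  rw [hT] at c1
  rw [hinf] at c2
  rw [show Nat.card A' = Nat.card A from Subgroup.card_map_of_injective (MulEquiv.injective _)] at c3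
  have he' := Subgroup.card_le_of_le he
  set a := Nat.card A
  set s := Nat.card ↥(M ⊔ c)
  set i := Nat.card ↥(M ⊓ A)
  set m := Nat.card M
  set t := Nat.card ↥(A ⊔ A')
  set e := Nat.card ↥(A ⊓ A')
  set n := Nat.card ↥c
  have hi : 0 < i := Nat.card_pos
  have ha : 0 < a := Nat.card_pos
  have has : a ≤ s := by
    have : a * i * a ≤ s * i * a := by
      calc a * i * a = a * a * i := by ring
        _ ≤ t * e * i := Nat.mul_le_mul_right _ c3
        _ = t * i * e := by ring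
        _ = m * a * e := by rw [c1]
        _ ≤ m * a * n := Nat.mul_le_mul_left _ he'
        _ = m * n * a := by ring
        _ = s * i * a := by rw [c2]
    exact Nat.le_of_mul_le_mul_right (Nat.le_of_mul_le_mul_right this ha) hi
  rcases hA with hA | hA
  · left
    have hTl : Large (A ⊔ A') := hA.1.sup (hA.1.conj x)
    have hTc : M ≤ ζ (ζ (A ⊔ A')) := hMT.trans (le_centralizer_centralizer _)
    have hk : M ⊓ ζ (A ⊔ A') ≤ M ⊓ A := by
      refine le_inf inf_le_left (le_trans (inf_le_inf_right _ hMT) ?_)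
      exact hA.le_of_centralizes (hTl.inf hTl.centralizer)
        (inf_le_right.trans (centralizer_le' inf_le_left)) (inf_le_right.trans (centralizer_le' le_sup_left))
    have hC : M ⊔ ζ (A ⊔ A') ≤ ζ (M ⊔ c) := by
      refine sup_le (le_sup_left.trans hab) (centralizer_le' (sup_le hMT ?_))
      exact inf_le_left.trans le_sup_left
    have c4 := card_sup_of_centralizes hTc
    have hk' := Subgroup.card_le_of_le hk
    have hC' := Subgroup.card_le_of_le hC
    have hlarge : Large (M ⊔ c) := by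
      refine large_of_ge hTl ?_
      show t * Nat.card ↥(ζ (A ⊔ A')) ≤ s * Nat.card ↥(ζ (M ⊔ c))
      refine Nat.le_of_mul_le_mul_right ?_ hi
      calc t * Nat.card ↥(ζ (A ⊔ A')) * i = t * i * Nat.card ↥(ζ (A ⊔ A')) := by ring
        _ = m * a * Nat.card ↥(ζ (A ⊔ A')) := by rw [c1]
        _ = a * (m * Nat.card ↥(ζ (A ⊔ A'))) := by ring
        _ = a * (Nat.card ↥(M ⊔ ζ (A ⊔ A')) * Nat.card ↥(M ⊓ ζ (A ⊔ A'))) := by rw [c4]
        _ ≤ s * (Nat.card ↥(ζ (M ⊔ c)) * i) := Nat.mul_le_mul has (Nat.mul_le_mul hC' hk')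
        _ = _ := by ring
    obtain ⟨Z, hZ, hle⟩ := exists_maxLarge hlarge hab
    rwa [Subgroup.eq_of_le_of_card_ge hle (((hA.compare hZ).2.symm.trans_le has))]
  · exact Or.inr ⟨hab, fun B hB => (hA.2 B hB).trans has⟩

/-- The iterated commutators `[D, A, ..., A]`. -/
def iterComm (D A : Subgroup G) : ℕ → Subgroup G
  | 0 => D
  | i + 1 => ⁅iterComm D A i, A⁆

theorem exists_fixed_below [Group.IsNilpotent G] {A D X : Subgroup G} (hA : Gen A) (hD : Large D)
    (hDa : D ≤ ζ D) (hX : Large X) (hlt : X < D)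
    (hnD : A ≤ Subgroup.normalizer (D : Set G)) (hnX : A ≤ Subgroup.normalizer (X : Set G)) :
    ∃ Γ, Large Γ ∧ X < Γ ∧ Γ ≤ D ∧ Γ ≤ fixedMod X A := by
  have hXD := hlt.le
  have hDX : D ≤ ζ X := hDa.trans (centralizer_le' hXD)
  have hfix : ∀ E : Subgroup G, E ≤ D → ⁅E, A⁆ ≤ X → E ≤ fixedMod X A := fun E hE h u hu =>
    ⟨hDX (hE hu), fun a ha => by
      have := h (Subgroup.commutator_comm A E ▸ Subgroup.commutator_mem_commutator ha hu)
      rwa [commutatorElement_def] at this⟩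
  have hsub : ∀ i, iterComm D A i ≤ D := by
    intro i
    induction i with
    | zero => exact le_rfl
    | succ i ih =>
      refine Subgroup.commutator_le.2 fun e he a ha => ?_
      rw [commutatorElement_def, mul_assoc e, mul_assoc e]
      exact D.mul_mem (ih he) ((Subgroup.mem_normalizer_iff.1 (hnD ha) e⁻¹).1 (D.inv_mem (ih he)))
  obtain ⟨n, hn⟩ := (Subgroup.isNilpotent_iff_lowerCentralSeries (S := (⊤ : Subgroup G))).1
    inferInstance
  have hex : ∃ i, iterComm D A i ≤ X := by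
    refine ⟨n, ?_⟩
    have : ∀ i, iterComm D A i ≤ (⊤ : Subgroup G).lowerCentralSeries i := by
      intro i
      induction i with
      | zero => simp [iterComm]
      | succ i ih =>
        rw [Subgroup.lowerCentralSeries_succ]
        exact Subgroup.commutator_mono ih le_top
    exact ((this n).trans hn.le).trans bot_le
  classical
  obtain ⟨k, hk⟩ : ∃ k, Nat.find hex = k + 1 := by
    refine Nat.exists_eq_succ_of_ne_zero fun h0 => hlt.not_ge ?_
    have := Nat.find_spec hex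
    rwa [h0] at this
  have hk1 : iterComm D A (k + 1) ≤ X := hk ▸ Nat.find_spec hex
  have hk0 : ¬ iterComm D A k ≤ X := Nat.find_min hex (by omega)
  cases k with
  | zero => exact ⟨D, hD, hlt, le_rfl, hfix D le_rfl hk1⟩
  | succ j =>
    obtain ⟨x, hx, a, ha, hxa⟩ : ∃ x ∈ iterComm D A j, ∃ a ∈ A, ⁅x, a⁆ ∉ X := by
      by_contra hne
      push Not at hne
      exact hk0 (Subgroup.commutator_le.2 hne)
    set M := Subgroup.closure ((fun a => ⁅x, a⁆) '' (A : Set G)) with hMdef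
    have hME : M ≤ iterComm D A (j + 1) := by
      rw [hMdef, Subgroup.closure_le]
      rintro _ ⟨b, hb, rfl⟩
      exact Subgroup.commutator_mem_commutator hx hb
    have hMD : M ≤ D := hME.trans (hsub _)
    have hMa : M ≤ ζ M := le_abelian hMD hDa
    have hA' := hA.replace x hMa hMdef
    refine ⟨X ⊔ (D ⊓ (M ⊔ (A ⊓ ζ M))), hX.sup (hA'.inf_large hD hDa), ?_, sup_le hXD inf_le_left,
      sup_le (le_fixedMod_self (hXD.trans hDX) hnX) ?_⟩
    · refine lt_of_le_of_ne le_sup_left fun h => hxa ?_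
      rw [h]
      exact Subgroup.mem_sup_right ⟨hMD (Subgroup.subset_closure ⟨a, ha, rfl⟩),
        Subgroup.mem_sup_left (Subgroup.subset_closure ⟨a, ha, rfl⟩)⟩
    · rintro u ⟨huD, hu⟩
      obtain ⟨m, hm, c, hc, rfl⟩ :=
        mem_sup_of_centralizes (le_centralizer_comm.1 inf_le_right) hu
      refine Subgroup.mul_mem _ (hfix _ (hsub _) hk1 (hME hm)) ⟨hDX ?_, fun b hb => ?_⟩
      · have := D.mul_mem (D.inv_mem (hMD hm)) huD
        simpa using this
      · rw [hA.abelian hc.1 b hb]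
        simp

theorem exists_fixed_step [Group.IsNilpotent G] {A X Γ H : Subgroup G} (hA : Gen A)
    (hX : Large X) (hΓ : Large Γ) (hΓa : Γ ≤ ζ Γ) (hlt : X < Γ) (hΓH : Γ ≤ fixedMod X H)
    (hnX : A ≤ Subgroup.normalizer (X : Set G)) (hnH : A ≤ Subgroup.normalizer (H : Set G)) :
    ∃ Γ', Large Γ' ∧ Γ' ≤ ζ Γ' ∧ X < Γ' ∧ Γ' ≤ fixedMod X H ∧ Γ' ≤ fixedMod X A := by
  have hXa : X ≤ ζ X := le_abelian hlt.le hΓa
  have hΓX : Γ ≤ ζ X := hΓa.trans (centralizer_le' hlt.le)
  set 𝒮 := (fun a => Γ.map (MulAut.conj a).toMonoidHom) '' (A : Set G)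
  set S := sSup 𝒮
  have hS : Large S :=
    sSup_large ⟨_, 1, A.one_mem, rfl⟩ (by rintro _ ⟨a, -, rfl⟩; exact hΓ.conj a)
  have hΓS : Γ ≤ S := by
    refine le_trans ?_ (le_sSup ⟨1, A.one_mem, rfl⟩)
    intro u hu
    exact mem_map_conj.2 (by simpa using hu)
  have hSF : S ≤ fixedMod X H := by
    refine sSup_le ?_
    rintro _ ⟨a, ha, rfl⟩
    exact map_conj_le fun u hu => fixedMod_normalized (hnX ha) (hnH ha) (hΓH hu)
  have hnS : A ≤ Subgroup.normalizer (S : Set G) := by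
    refine Subgroup.le_normalizer_iff.2 fun a ha u hu => ?_
    have : S ≤ S.comap (MulAut.conj a).toMonoidHom := by
      refine sSup_le ?_
      rintro _ ⟨b, hb, rfl⟩
      rw [← Subgroup.map_le_iff_le_comap, map_conj_mul]
      exact le_sSup ⟨a * b, A.mul_mem ha hb, rfl⟩
    exact this hu
  have hnV : A ≤ Subgroup.normalizer (ζ S : Set G) := hnS.trans (normalizer_le_normalizer_centralizer S)
  have hSX : S ≤ ζ X := fun u hu => (hSF hu).1
  have hXS : X ≤ S := hlt.le.trans hΓS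
  have hXV : X ≤ ζ S := le_centralizer_comm.1 hSX
  have hD : Large (S ⊓ ζ S) := hS.inf hS.centralizer
  have hDa : S ⊓ ζ S ≤ ζ (S ⊓ ζ S) := inf_le_right.trans (centralizer_le' inf_le_left)
  by_cases hDX : X < S ⊓ ζ S
  · obtain ⟨Γ', h1, h2, h3, h4⟩ := exists_fixed_below hA hD hDa hX hDX (fun a ha =>
      Subgroup.mem_normalizer_iff.2 fun u => and_congr (Subgroup.mem_normalizer_iff.1 (hnS ha) u)
        (Subgroup.mem_normalizer_iff.1 (hnV ha) u)) hnX
    exact ⟨Γ', h1, le_abelian h3 hDa, h2, (h3.trans inf_le_left).trans hSF, h4⟩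
  have hD' : S ⊓ ζ S = X := by
    by_contra hne
    exact hDX (lt_of_le_of_ne (le_inf hXS hXV) (Ne.symm hne))
  have hY : ζ X = ζ S ⊔ S := by
    rw [← hD', hS.centralizer_inf hS.centralizer, hS.centralizer_centralizer]
  have hB'fix : X ⊔ (ζ X ⊓ A) ≤ fixedMod X A :=
    sup_le (le_fixedMod_self hXa hnX) fun u hu => ⟨hu.1, fun a ha => by
      rw [hA.abelian hu.2 a ha]; simp⟩
  rcases hA with hA | hA
  · set Z' := X ⊔ (ζ X ⊓ A)
    have hZ' : Large Z' := hX.sup (hX.centralizer.inf hA.1)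
    have hZ'a : Z' ≤ ζ Z' :=
      sup_abelian hXa (le_abelian inf_le_right hA.2.1) (le_centralizer_comm.1 inf_le_left)
    by_cases hR : X < S ⊓ Z'
    · exact ⟨_, hS.inf hZ', le_abelian inf_le_right hZ'a, hR, inf_le_left.trans hSF,
        inf_le_right.trans hB'fix⟩
    have hR' : S ⊓ Z' = X := by
      by_contra hne
      exact hR (lt_of_le_of_ne (le_inf hXS le_sup_left) (Ne.symm hne))
    have hS' : S ≤ fixedMod X A := by
      intro s hs
      have hmem : s ∈ ζ S ⊔ ζ Z' := by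
        rw [← hS.centralizer_inf hZ', hR']
        exact hSX hs
      obtain ⟨q, hq, v, hv, rfl⟩ := hS.centralizer.exists_mul hZ'.centralizer hmem
      have hqX : q ∈ ζ X := centralizer_le' le_sup_left hq
      have hq2 : q ∈ ζ A ⊔ X := by
        have := centralizer_le' (le_sup_right : ζ X ⊓ A ≤ Z') hq
        rwa [inf_comm, hA.1.centralizer_inf hX.centralizer, hX.centralizer_centralizer] at this
      obtain ⟨x, hx, c, hc, rfl⟩ := hA.1.centralizer.exists_mul hX hq2
      refine ⟨hSX hs, fun a ha => ?_⟩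
      have ec : a * c = c * a := hc a ha
      set q := x * c with hq'
      have h1 : a * q * a⁻¹ * q⁻¹ ∈ X := by
        have e : a * q * a⁻¹ * q⁻¹ = a * x * a⁻¹ * x⁻¹ := by
          calc a * (x * c) * a⁻¹ * (x * c)⁻¹ = a * x * a⁻¹ * (a * c) * a⁻¹ * c⁻¹ * x⁻¹ := by group
            _ = a * x * a⁻¹ * (c * a) * a⁻¹ * c⁻¹ * x⁻¹ := by rw [ec]
            _ = _ := by group
        rw [e]
        exact (le_fixedMod_self hXa hnX hx).2 a ha
      have hw : a * v * a⁻¹ * v⁻¹ ∈ ζ S :=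
        Subgroup.mul_mem _ ((Subgroup.mem_normalizer_iff.1 (hnV ha) v).1 hv) (Subgroup.inv_mem _ hv)
      have hqn : q ∈ Subgroup.normalizer (ζ S : Set G) := by
        have := Subgroup.mul_mem _ (Subgroup.centralizer_le_normalizer _ (le_centralizer_centralizer S hs))
          (Subgroup.inv_mem _ (Subgroup.le_normalizer hv))
        simpa using this
      have h2 : q * (a * v * a⁻¹ * v⁻¹) * q⁻¹ ∈ S ⊓ ζ S := by
        refine ⟨?_, (Subgroup.mem_normalizer_iff.1 hqn _).1 hw⟩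
        have := S.mul_mem (S.inv_mem (hXS h1)) (S.mul_mem ((Subgroup.mem_normalizer_iff.1 (hnS ha) _).1 hs)
          (S.inv_mem hs))
        have e : q * (a * v * a⁻¹ * v⁻¹) * q⁻¹ =
            (a * q * a⁻¹ * q⁻¹)⁻¹ * (a * (q * v) * a⁻¹ * (q * v)⁻¹) := by group
        show _ ∈ S
        rw [e]
        exact this
      rw [hD'] at h2
      convert X.mul_mem h1 h2 using 1
      group
    exact ⟨Γ, hΓ, hΓa, hlt, hΓH, hΓS.trans hS'⟩
  -- the generator is an abelian subgroup of largest order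
  have hB'' := (cl_sup_maxAb hΓ.centralizer (by rwa [hΓ.centralizer_centralizer]) hA).2.2.2
  rw [hΓ.centralizer_centralizer] at hB''
  have hB' := (cl_sup_maxAb hX.centralizer (by rwa [hX.centralizer_centralizer]) hA).2.2.2
  rw [hX.centralizer_centralizer] at hB'
  set B' := X ⊔ (ζ X ⊓ A)
  set B'' := Γ ⊔ (ζ Γ ⊓ A)
  have hAS : ζ Γ ⊓ A ≤ ζ S := by
    refine le_centralizer_comm.1 (sSup_le ?_)
    rintro _ ⟨a, ha, rfl⟩
    rintro _ ⟨u, hu, rfl⟩ c ⟨hc1, hc2⟩
    have e1 : c * a = a * c := hA.1 ha c hc2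
    have e2 : c * u = u * c := (hc1 u hu).symm
    have e3 : c * a⁻¹ = a⁻¹ * c := hA.1 (A.inv_mem ha) c hc2
    show c * (a * u * a⁻¹) = a * u * a⁻¹ * c
    calc c * (a * u * a⁻¹) = (c * a) * u * a⁻¹ := by group
      _ = a * (c * u) * a⁻¹ := by rw [e1]; group
      _ = a * u * (c * a⁻¹) := by rw [e2]; group
      _ = _ := by rw [e3]; group
  set BV := X ⊔ (ζ Γ ⊓ A)
  have hBV : BV ≤ ζ S := sup_le hXV hAS
  have hBVB' : BV ≤ B' := sup_le_sup_left (inf_le_inf_right _ (centralizer_le' hlt.le)) _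
  have hΓV : Γ ⊓ ζ S = X :=
    le_antisymm ((inf_le_inf_right _ hΓS).trans hD'.le) (le_inf hlt.le hXV)
  have hdec : ∀ y : G, y ∈ ζ X → ∃ s ∈ S, ∃ v ∈ ζ S, y = s * v := fun y hy =>
    hS.centralizer.exists_mul hS (hY ▸ hy)
  set B1 := B' ⊓ S
  have hB'dec : B' = B1 ⊔ BV := by
    refine le_antisymm (sup_le (le_sup_left.trans le_sup_right) ?_) (sup_le inf_le_left hBVB')
    intro y hy
    obtain ⟨s, hs, v, hv, rfl⟩ := hdec y hy.1
    have hvB : v ∈ B'' := by
      rw [← hB''.centralizer_eq, centralizer_sup]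
      refine ⟨centralizer_le' hΓS hv, fun c hc => ?_⟩
      have e1 : s * c = c * s := hAS hc s hs
      have e2 : c * (s * v) = s * v * c := hA.1 hy.2 c hc.2
      calc c * v = s⁻¹ * (s * c) * v := by group
        _ = s⁻¹ * (c * (s * v)) := by rw [e1]; group
        _ = s⁻¹ * (s * v * c) := by rw [e2]
        _ = v * c := by group
    obtain ⟨γ, hγ, c, hc, rfl⟩ := mem_sup_of_centralizes (le_centralizer_comm.1 inf_le_left) hvB
    have hγX : γ ∈ X := by
      rw [← hΓV]
      exact ⟨hγ, by simpa using Subgroup.mul_mem _ hv (Subgroup.inv_mem _ (hAS hc))⟩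
    have hvBV : γ * c ∈ BV := Subgroup.mul_mem _ (Subgroup.mem_sup_left hγX) (Subgroup.mem_sup_right hc)
    have hsB : s ∈ B' := by
      simpa [mul_assoc] using B'.mul_mem (Subgroup.mem_sup_right hy) (B'.inv_mem (hBVB' hvBV))
    exact Subgroup.mul_mem _ (Subgroup.mem_sup_left ⟨hsB, hs⟩) (Subgroup.mem_sup_right hvBV)
  have hΓeq : ζ Γ = Γ ⊔ ζ S := by
    refine le_antisymm (fun y hy => ?_) (sup_le hΓa (centralizer_le' hΓS))
    obtain ⟨s, hs, v, hv, rfl⟩ := hdec y (centralizer_le' hlt.le hy)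
    have hsB : s ∈ B'' := by
      rw [← hB''.centralizer_eq, centralizer_sup]
      refine ⟨?_, fun c hc => (hAS hc s hs).symm⟩
      simpa using Subgroup.mul_mem _ hy (Subgroup.inv_mem _ (centralizer_le' hΓS hv))
    obtain ⟨γ, hγ, c, hc, rfl⟩ := mem_sup_of_centralizes (le_centralizer_comm.1 inf_le_left) hsB
    have hcX : c ∈ X := by
      rw [← hD']
      exact ⟨by simpa using S.mul_mem (S.inv_mem (hΓS hγ)) hs, hAS hc⟩
    exact Subgroup.mul_mem _ (Subgroup.mem_sup_left (Γ.mul_mem hγ (hlt.le hcX))) (Subgroup.mem_sup_right hv)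
  have hB1X : X ≤ B1 := le_inf le_sup_left hXS
  have hB1i : ∀ K : Subgroup G, X ≤ K → K ≤ ζ S → B1 ⊓ K = X := fun K h1 h2 =>
    le_antisymm ((inf_le_inf inf_le_right h2).trans hD'.le) (le_inf hB1X h1)
  have hΓi : ∀ K : Subgroup G, X ≤ K → K ≤ ζ S → Γ ⊓ K = X := fun K h1 h2 =>
    le_antisymm ((inf_le_inf_left _ h2).trans hΓV.le) (le_inf hlt.le h1)
  have hB1S : B1 ≤ ζ (ζ S) := inf_le_right.trans (le_centralizer_centralizer S)
  have hΓS' : Γ ≤ ζ (ζ S) := hΓS.trans (le_centralizer_centralizer S)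
  have hcard : Nat.card B1 = Nat.card Γ := by
    have c1 := card_sup_of_centralizes (hB1S.trans (centralizer_le' hBV))
    have c2 := card_sup_of_centralizes (hΓS'.trans (centralizer_le' hBV))
    rw [hB1i BV le_sup_left hBV, ← hB'dec] at c1
    rw [hΓi BV le_sup_left hBV, ← sup_assoc, sup_eq_left.2 hlt.le] at c2
    have hBB : Nat.card B' = Nat.card B'' := le_antisymm (hB''.2 _ hB'.1) (hB'.2 _ hB''.1)
    rw [hBB, c2] at c1
    exact (Nat.eq_of_mul_eq_mul_right Nat.card_pos c1).symm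
  have hB1 : Large B1 := by
    refine large_of_ge hΓ (Nat.mul_le_mul hcard.ge ?_)
    have c1 := card_sup_of_centralizes hB1S
    have c2 := card_sup_of_centralizes hΓS'
    rw [hB1i _ hXV le_rfl, hcard] at c1
    rw [hΓi _ hXV le_rfl, ← c1] at c2
    rw [hΓeq, Nat.eq_of_mul_eq_mul_right Nat.card_pos c2]
    refine Subgroup.card_le_of_le (sup_le ?_ (centralizer_le' inf_le_right))
    exact inf_le_left.trans (hB'.1.trans (centralizer_le' inf_le_left))
  refine ⟨B1, hB1, le_abelian inf_le_left hB'.1, lt_of_le_of_ne hB1X fun h => ?_,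
    inf_le_right.trans hSF, inf_le_left.trans hB'fix⟩
  exact hlt.ne (Subgroup.eq_of_le_of_card_ge hlt.le (by rw [← hcard, ← h]))

theorem exists_fixed [Group.IsNilpotent G] {X : Subgroup G} (hX : Large X) (hXa : X ≤ ζ X)
    (hmax : ¬ MaxLarge X) (hnX : ∀ A, Gen A → A ≤ Subgroup.normalizer (X : Set G)) :
    ∀ n : ℕ, ∀ F : Set (Subgroup G), (∀ A ∈ F, Gen A) → Nat.card ↥(sSup F) ≤ n →
      ∃ Γ, Large Γ ∧ Γ ≤ ζ Γ ∧ X < Γ ∧ Γ ≤ fixedMod X (sSup F) := by
  intro n
  induction n using Nat.strong_induction_on with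
  | _ n ih =>
    intro F hF hn
    set H := sSup F
    have hHn : ∀ F' : Set (Subgroup G), (∀ A ∈ F', Gen A) →
        sSup F' ≤ Subgroup.normalizer (X : Set G) := fun F' h => sSup_le fun A hA => hnX A (h A hA)
    by_cases hbot : H = ⊥
    · obtain ⟨Z, hZ, hXZ⟩ := exists_maxLarge hX hXa
      refine ⟨Z, hZ.1, hZ.2.1, lt_of_le_of_ne hXZ fun h => hmax (h ▸ hZ), fun u hu =>
        ⟨centralizer_le' hXZ (hZ.2.1 hu), fun h hh => ?_⟩⟩
      obtain rfl : h = 1 := Subgroup.mem_bot.1 (hbot.le hh)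
      simp
    obtain ⟨H₁, -, hH₁⟩ := Finite.exists_le_maximal
      (p := fun K : Subgroup G => ∃ F' : Set (Subgroup G), (∀ A ∈ F', Gen A ∧ A ≤ H) ∧ sSup F' = K ∧ K < H)
      (a := ⊥) ⟨∅, by simp, sSup_empty, bot_lt_iff_ne_bot.2 hbot⟩
    obtain ⟨F₁, hF₁, hF₁eq, hlt⟩ := hH₁.prop
    -- `H₁` is normal in `H`
    have hnorm : H ≤ Subgroup.normalizer (H₁ : Set G) := by
      obtain h | ⟨M, hM, hle⟩ := eq_top_or_exists_le_coatom (H₁.subgroupOf H)
      · exact absurd (Subgroup.subgroupOf_eq_top.1 h) hlt.not_ge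
      haveI hMn : M.Normal := Subgroup.NormalizerCondition.normal_of_coatom _
        Group.normalizerCondition_of_isNilpotent hM
      set F₂ : Set (Subgroup G) := {A | Gen A ∧ A ≤ M.map H.subtype}
      have hM' : M.map H.subtype < H := by
        refine lt_of_le_of_ne (Subgroup.map_subtype_le _) fun h => hM.1 ?_
        apply Subgroup.map_injective H.subtype_injective
        rw [h, ← MonoidHom.range_eq_map, Subgroup.range_subtype]
      have hH₁M : H₁ ≤ M.map H.subtype := fun u hu =>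
        ⟨⟨u, hlt.le hu⟩, hle (Subgroup.mem_subgroupOf.2 hu), rfl⟩
      have heq : sSup F₂ = H₁ := by
        refine le_antisymm (hH₁.le_of_ge ⟨F₂, fun A hA => ⟨hA.1, hA.2.trans hM'.le⟩, rfl,
          (sSup_le fun A hA => hA.2).trans_lt hM'⟩ ?_) ?_
        all_goals
          rw [← hF₁eq]
          exact sSup_le fun A hA => le_sSup ⟨(hF₁ A hA).1, (le_sSup hA).trans (hF₁eq.le.trans hH₁M)⟩
      refine Subgroup.le_normalizer_iff.2 fun h hh u hu => ?_
      have : sSup F₂ ≤ (sSup F₂).comap (MulAut.conj h).toMonoidHom := by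
        refine sSup_le fun A hA => ?_
        rw [← Subgroup.map_le_iff_le_comap]
        refine le_sSup ⟨hA.1.conj h, map_conj_le fun a ha => ?_⟩
        obtain ⟨m, hm, rfl⟩ := hA.2 ha
        exact ⟨⟨h, hh⟩ * m * ⟨h, hh⟩⁻¹, hMn.conj_mem m hm _, rfl⟩
      rw [heq] at this
      exact this hu
    obtain ⟨A, hAF, hAn⟩ : ∃ A ∈ F, ¬ A ≤ H₁ := by
      by_contra hne
      push Not at hne
      exact hlt.not_ge (sSup_le hne)
    have htop : H₁ ⊔ A = H := by
      refine le_antisymm (sup_le hlt.le (le_sSup hAF)) ?_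
      by_contra hne
      refine hAn (le_sup_right.trans (hH₁.le_of_ge ⟨insert A F₁, ?_, ?_, ?_⟩ le_sup_left))
      · rintro B (rfl | hB)
        · exact ⟨hF _ hAF, le_sSup hAF⟩
        · exact hF₁ B hB
      · rw [sSup_insert, hF₁eq, sup_comm]
      · exact lt_of_le_not_ge (sup_le hlt.le (le_sSup hAF)) hne
    obtain ⟨Γ, h1, h2, h3, h4⟩ := ih (Nat.card H₁) (lt_of_lt_of_le (by
      refine lt_of_le_of_ne (Subgroup.card_le_of_le hlt.le) fun h => hlt.ne ?_
      exact Subgroup.eq_of_le_of_card_ge hlt.le h.ge) hn) F₁ (fun B hB => (hF₁ B hB).1) (by rw [hF₁eq])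
    rw [hF₁eq] at h4
    obtain ⟨Γ', g1, g2, g3, g4, g5⟩ := exists_fixed_step (hF A hAF) hX h1 h2 h3 h4 (hnX A (hF A hAF))
      ((le_sSup hAF).trans hnorm)
    refine ⟨Γ', g1, g2, g3, (le_inf g4 g5).trans ?_⟩
    refine (fixedMod_sup ?_ (hnX A (hF A hAF))).trans (le_of_eq (by rw [htop]))
    rw [← hF₁eq]
    exact hHn F₁ fun B hB => (hF₁ B hB).1

/-- Glauberman: some minimal centrally large subgroup is normalized by all minimal centrally
large subgroups and all abelian subgroups of largest order. -/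
theorem exists_normalized_maxLarge [Group.IsNilpotent G] : ∃ Z : Subgroup G, MaxLarge Z ∧
    (∀ A, Gen A → A ≤ Subgroup.normalizer (Z : Set G)) ∧
    ∀ Z', MaxLarge Z' → ζ Z' ≤ Subgroup.normalizer (Z : Set G) := by
  obtain ⟨T₀, hT₀⟩ := exists_large (G := G)
  set T := sSup {L : Subgroup G | Large L}
  have hT : Large T := sSup_large ⟨T₀, hT₀⟩ fun L hL => hL
  have hX0 : ∀ L : Subgroup G, Large L → ζ T ≤ L := fun L hL =>
    (centralizer_le' (le_sSup (show Large (ζ L) from hL.centralizer))).trans hL.centralizer_centralizer.le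
  have hX0a : ζ T ≤ ζ (ζ T) := (hX0 T hT).trans (le_centralizer_centralizer T)
  have hX0n : ∀ g : G, g ∈ Subgroup.normalizer (ζ T : Set G) := fun g =>
    mem_normalizer_of_map_conj_eq (Subgroup.eq_of_le_of_card_ge (hX0 _ (hT.centralizer.conj g))
      (by rw [Subgroup.card_map_of_injective (MulEquiv.injective _)])).symm
  obtain ⟨X, -, hXmax⟩ := Finite.exists_le_maximal
    (p := fun X : Subgroup G => Large X ∧ X ≤ ζ X ∧ (∀ A, Gen A → A ≤ Subgroup.normalizer (X : Set G)) ∧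
      ∀ Z', MaxLarge Z' → ζ Z' ≤ Subgroup.normalizer (X : Set G))
    (a := ζ T) ⟨hT.centralizer, hX0a, fun A _ g _ => hX0n g, fun _ _ g _ => hX0n g⟩
  obtain ⟨hX, hXa, hnA, hnQ⟩ := hXmax.prop
  refine ⟨X, ?_, hnA, hnQ⟩
  by_contra hmax
  set 𝒵 := {Z : Subgroup G | MaxLarge Z ∧ X ≤ Z}
  obtain ⟨Z₀, hZ₀, hXZ₀⟩ := exists_maxLarge hX hXa
  have hI : Large (sInf 𝒵) := sInf_large ⟨Z₀, hZ₀, hXZ₀⟩ fun Z hZ => hZ.1.1
  have hIn : ∀ g ∈ Subgroup.normalizer (X : Set G), g ∈ Subgroup.normalizer ((sInf 𝒵 : Subgroup G) : Set G) := by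
    intro g hg
    refine mem_normalizer_of_map_conj_eq (Subgroup.eq_of_le_of_card_ge (le_sInf fun Z hZ => ?_) ?_)
    · have hg' := Subgroup.inv_mem _ hg
      have h1 : sInf 𝒵 ≤ Z.map (MulAut.conj g⁻¹).toMonoidHom := sInf_le ⟨hZ.1.conj _, fun x hx =>
        mem_map_conj.2 (hZ.2 (by simpa using (Subgroup.mem_normalizer_iff.1 hg x).1 hx))⟩
      refine (Subgroup.map_mono h1).trans (le_of_eq ?_)
      rw [map_conj_mul]
      ext y
      rw [mem_map_conj]
      simp
    · rw [Subgroup.card_map_of_injective (MulEquiv.injective _)]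
  have hIX : sInf 𝒵 = X := by
    refine le_antisymm (hXmax.le_of_ge ⟨hI, ?_, fun A hA a ha => hIn a (hnA A hA ha),
      fun Z' hZ' a ha => hIn a (hnQ Z' hZ' ha)⟩ (le_sInf fun Z hZ => hZ.2)) (le_sInf fun Z hZ => hZ.2)
    exact le_abelian (sInf_le ⟨hZ₀, hXZ₀⟩) hZ₀.2.1
  set U := sSup 𝒵
  have hU : Large U := sSup_large ⟨Z₀, hZ₀, hXZ₀⟩ fun Z hZ => hZ.1.1
  have hUV : U ⊓ ζ U = X := by
    refine le_antisymm ?_ (le_inf (hXZ₀.trans (le_sSup ⟨hZ₀, hXZ₀⟩)) (le_centralizer_comm.1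
      (sSup_le fun Z hZ => hZ.1.2.1.trans (centralizer_le' hZ.2))))
    refine (le_sInf fun Z hZ => ?_).trans hIX.le
    exact hZ.1.le_of_centralizes (hU.inf hU.centralizer) (inf_le_right.trans (centralizer_le' inf_le_left))
      (inf_le_right.trans (centralizer_le' (le_sSup hZ)))
  obtain ⟨Γ, hΓ, hΓa, hlt, hfix⟩ := exists_fixed hX hXa hmax hnA _ {A | Gen A} (fun A hA => hA) le_rfl
  have hΓn : ∀ A, Gen A → A ≤ Subgroup.normalizer (Γ : Set G) := fun A hA =>
    Subgroup.le_normalizer_iff.2 fun a ha u hu => by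
      have := Γ.mul_mem (hlt.le ((hfix hu).2 a (le_sSup (show A ∈ {A | Gen A} from hA) ha))) hu
      simpa using this
  have hΓU : Γ ≤ U := by
    obtain ⟨Z, hZ, hle⟩ := exists_maxLarge hΓ hΓa
    exact hle.trans (le_sSup ⟨hZ, hlt.le.trans hle⟩)
  have hYn : ζ X ≤ Subgroup.normalizer (Γ : Set G) := by
    rw [← hUV, hU.centralizer_inf hU.centralizer, hU.centralizer_centralizer]
    exact sup_le ((centralizer_le' hΓU).trans (Subgroup.centralizer_le_normalizer _))
      (sSup_le fun Z hZ => hΓn Z (Or.inl hZ.1))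
  have hQn : ∀ Z', MaxLarge Z' → ζ Z' ≤ Subgroup.normalizer (Γ : Set G) := by
    intro Z' hZ'
    refine le_trans ?_ (sup_le hYn (hΓn Z' (Or.inl hZ')))
    have e : ζ X ⊔ ζ Z' = ζ X ⊔ Z' := by
      refine (hX.centralizer.sup hZ'.1.centralizer).centralizer_inj (hX.centralizer.sup hZ'.1) ?_
      rw [centralizer_sup, centralizer_sup, hX.centralizer_centralizer, hZ'.1.centralizer_centralizer]
      exact le_antisymm (inf_le_inf_left _ hZ'.2.1)
        (le_inf inf_le_left (hZ'.le_of_centralizes (hX.inf hZ'.1.centralizer)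
          (le_abelian inf_le_left hXa) inf_le_right))
    exact e ▸ le_sup_right
  exact hlt.not_ge (hXmax.le_of_ge ⟨hΓ, hΓa, hΓn, hQn⟩ hlt.le)

end Finite

end CfsgLib.CentrallyLarge
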