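import Cfsg.Prelude.Def_SylowChains
import Cfsg.Agent.Lib.StronglyEmbedded
import Cfsg.Agent.Lib.Local
import Cfsg.Agent.Lib.CoprimeGen
import Mathlib.Logic.Relation

/-! Sylow intersection graph and strongly `p`-embedded subgroups. -/

set_option autoImplicit false
set_option linter.style.haveILetI false

namespace CfsgLib.ChainConnected

open CfsgLib
open scoped Pointwise

variable {G : Type*} [Group G] [Finite G] {p : ℕ} [Fact p.Prime]

/-- Adjacency of Sylow subgroups. -/
def Adj (S T : Sylow p G) : Prop := (S : Subgroup G) ⊓ (T : Subgroup G) ≠ ⊥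

theorem adj_smul {S T : Sylow p G} (g : G) (h : Adj S T) : Adj (g • S) (g • T) := by
  obtain ⟨z, ⟨hzS, hzT⟩, hz1⟩ := (Subgroup.bot_or_exists_ne_one _).resolve_left h
  intro hbot
  have : g * z * g⁻¹ ∈ ((g • S : Sylow p G) : Subgroup G) ⊓ ((g • T : Sylow p G) : Subgroup G) :=
    ⟨⟨z, hzS, rfl⟩, ⟨z, hzT, rfl⟩⟩
  rw [hbot, Subgroup.mem_bot] at this
  exact hz1 (conj_eq_one_iff.1 this)

theorem conn_smul {S T : Sylow p G} (g : G) (h : Relation.ReflTransGen Adj S T) :
    Relation.ReflTransGen Adj (g • S) (g • T) := h.lift (g • ·) fun _ _ hab => adj_smul g hab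

theorem adj_symm {S T : Sylow p G} (h : Adj S T) : Adj T S := by rwa [Adj, inf_comm]

theorem conn_symm {S T : Sylow p G} (h : Relation.ReflTransGen Adj S T) :
    Relation.ReflTransGen Adj T S := by
  induction h with
  | refl => exact .refl
  | tail _ hbc ih => exact ih.head (adj_symm hbc)

theorem connected_iff : Cfsg.IsSylowChainConnected p G ↔ ∀ S T : Sylow p G, Relation.ReflTransGen Adj S T := by
  constructor
  · intro h S T
    obtain ⟨n, c, h0, hn, -, hc⟩ := h S T
    have key : ∀ i : Fin (n + 1), Relation.ReflTransGen Adj S (c i) := fun i => by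
      induction i using Fin.induction with
      | zero => rw [h0]
      | succ i ih => exact ih.tail (hc i).2
    exact hn ▸ key _
  · intro h S T
    by_cases hST : S = T
    · subst hST
      exact ⟨0, fun _ => S, rfl, rfl, fun _ => inf_le_left, fun i => i.elim0⟩
    by_cases h1 : (S : Subgroup G) ⊓ (T : Subgroup G) = ⊥
    · have key : ∀ U, Relation.ReflTransGen Adj S U → ∃ (n : ℕ) (c : Fin (n + 1) → Sylow p G),
          c 0 = S ∧ c (Fin.last n) = U ∧
          ∀ i : Fin n, c i.castSucc ≠ c i.succ ∧ (c i.castSucc : Subgroup G) ⊓ (c i.succ : Subgroup G) ≠ ⊥ := by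
        intro U hU
        induction hU with
        | refl => exact ⟨0, fun _ => S, rfl, rfl, fun i => i.elim0⟩
        | @tail B C _ hBC ih =>
          obtain ⟨n, c, h0, hn, hc⟩ := ih
          by_cases hBC' : B = C
          · exact hBC' ▸ ⟨n, c, h0, hn, hc⟩
          refine ⟨n + 1, Fin.snoc c C, ?_, Fin.snoc_last _ _, fun i => ?_⟩
          · rw [← Fin.castSucc_zero, Fin.snoc_castSucc, h0]
          refine Fin.lastCases ?_ (fun j => ?_) i
          · rw [Fin.snoc_castSucc, Fin.succ_last, Fin.snoc_last, hn]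
            exact ⟨hBC', hBC⟩
          · rw [Fin.snoc_castSucc, Fin.succ_castSucc, Fin.snoc_castSucc]
            exact hc j
      obtain ⟨n, c, h0, hn, hc⟩ := key T (h S T)
      exact ⟨n, c, h0, hn, fun i => h1 ▸ bot_le, hc⟩
    · refine ⟨1, ![S, T], rfl, rfl, fun i => ?_, fun i => ?_⟩
      · fin_cases i
        · exact inf_le_left
        · exact inf_le_right
      · fin_cases i
        exact ⟨hST, h1⟩

theorem exists_stronglyEmbedded (hdiv : p ∣ Nat.card G) (h : ¬ Cfsg.IsSylowChainConnected p G) :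
    ∃ H : Subgroup G, Cfsg.IsStronglyPEmbedded p H := by
  rw [connected_iff] at h
  push Not at h
  obtain ⟨A, B, hAB⟩ := h
  obtain ⟨S₀⟩ : Nonempty (Sylow p G) := inferInstance
  let H : Subgroup G :=
    { carrier := {g | Relation.ReflTransGen Adj (g • S₀) S₀}
      one_mem' := by show Relation.ReflTransGen Adj ((1 : G) • S₀) S₀; rw [one_smul]
      mul_mem' := fun {a b} ha hb => by
        show Relation.ReflTransGen Adj ((a * b) • S₀) S₀
        rw [mul_smul]
        exact (conn_smul a hb).trans ha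
      inv_mem' := fun {a} ha => by
        have := conn_symm (conn_smul a⁻¹ ha)
        rwa [inv_smul_smul] at this }
  have hS₀ : (S₀ : Subgroup G) ≤ H := fun s hs => by
    show Relation.ReflTransGen Adj (s • S₀) S₀
    rw [Sylow.smul_eq_iff_mem_normalizer.2 (Subgroup.le_normalizer hs)]
  refine ⟨H, StronglyEmbedded.of_inter (fun e => hAB ?_)
    ((S₀.dvd_card_of_dvd_card hdiv).trans (Subgroup.card_dvd_of_le hS₀)) fun g hg hd => hg ?_⟩
  · obtain ⟨a, ha⟩ := MulAction.exists_smul_eq G S₀ A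
    obtain ⟨b, hb⟩ := MulAction.exists_smul_eq G S₀ B
    have h1 : Relation.ReflTransGen Adj (a • S₀) S₀ := e.ge (Subgroup.mem_top a)
    have h2 : Relation.ReflTransGen Adj (b • S₀) S₀ := e.ge (Subgroup.mem_top b)
    rw [ha] at h1
    rw [hb] at h2
    exact h1.trans (conn_symm h2)
  have hmem : ∀ z ∈ H, orderOf z = p → ∃ k ∈ H, z ∈ ((k • S₀ : Sylow p G) : Subgroup G) := by
    intro z hz hzp
    have hP : IsPGroup p (Subgroup.zpowers (⟨z, hz⟩ : H)) :=
      IsPGroup.of_card (n := 1) (by rw [Nat.card_zpowers, Subgroup.orderOf_mk, hzp, pow_one])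
    obtain ⟨Q, hQ⟩ := hP.exists_le_sylow
    obtain ⟨k, hk⟩ := MulAction.exists_smul_eq H (S₀.subtype hS₀) Q
    refine ⟨k, k.2, ?_⟩
    have h1 := hQ (Subgroup.mem_zpowers _)
    rw [← hk, Sylow.smul_subtype] at h1
    exact h1
  obtain ⟨z, ⟨hzH, hzg⟩, hz⟩ := StronglyEmbedded.exists_orderOf_eq hd
  have hz' : g⁻¹ * z * g ∈ H := Local.mem_map_conj.1 hzg
  have hzo : orderOf (g⁻¹ * z * g) = p := by
    rw [show g⁻¹ * z * g = MulAut.conj g⁻¹ z by simp [MulAut.conj_apply],
      MulEquiv.orderOf_eq, hz]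
  obtain ⟨k, hk, hzk⟩ := hmem z hzH hz
  obtain ⟨l, hl, hzl⟩ := hmem _ hz' hzo
  have hgl : z ∈ (((g * l) • S₀ : Sylow p G) : Subgroup G) := by
    rw [mul_smul]
    exact ⟨_, hzl, by simp [MulAut.conj_apply, mul_assoc]⟩
  have hadj : Adj ((g * l) • S₀) (k • S₀) := fun e => by
    have : z ∈ (⊥ : Subgroup G) := e ▸ Subgroup.mem_inf.2 ⟨hgl, hzk⟩
    rw [Subgroup.mem_bot] at this
    rw [this, orderOf_one] at hz
    exact (Fact.out : p.Prime).one_lt.ne hz
  have hgl' : g * l ∈ H := Relation.ReflTransGen.head hadj hk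
  simpa using H.mul_mem hgl' (H.inv_mem hl)

theorem not_connected {H : Subgroup G} (hH : Cfsg.IsStronglyPEmbedded p H) :
    ¬ Cfsg.IsSylowChainConnected p G := by
  rw [connected_iff]
  intro hconn
  obtain ⟨S, hS⟩ := StronglyEmbedded.exists_sylow_le hH
  have hstep : ∀ A B : Sylow p G, (A : Subgroup G) ≤ H → Adj A B → (B : Subgroup G) ≤ H := by
    intro A B hA hAB
    have hI : IsPGroup p ↥((A : Subgroup G) ⊓ (B : Subgroup G)) := B.2.to_le inf_le_right
    obtain ⟨z, ⟨hzA, hzB⟩, hz⟩ := StronglyEmbedded.exists_orderOf_eq (StronglyEmbedded.dvd_card_of_ne_bot hI hAB)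
    haveI : Nontrivial (B : Subgroup G) := (Subgroup.nontrivial_iff_ne_bot _).2 fun e => hAB (by rw [e, inf_bot_eq])
    haveI := B.2.center_nontrivial
    obtain ⟨n, hn, hcn⟩ := (B.2.to_subgroup (Subgroup.center (B : Subgroup G))).nontrivial_iff_card.1 this
    obtain ⟨c, hc⟩ := exists_prime_orderOf_dvd_card' (G := Subgroup.center (B : Subgroup G)) p (hcn ▸ dvd_pow_self p hn.ne')
    rw [← Subgroup.orderOf_coe, ← Subgroup.orderOf_coe] at hc
    have hcomm : ∀ b ∈ (B : Subgroup G), b * ((c : (B : Subgroup G)) : G) = ((c : (B : Subgroup G)) : G) * b := fun b hb =>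
      congrArg Subtype.val (Subgroup.mem_center_iff.1 c.2 ⟨b, hb⟩)
    have hcH : ((c : (B : Subgroup G)) : G) ∈ H := StronglyEmbedded.centralizer_le hH (hA hzA) hz
      (Subgroup.mem_centralizer_singleton_iff.2 (hcomm z hzB).symm)
    exact fun b hb => StronglyEmbedded.centralizer_le hH hcH hc (Subgroup.mem_centralizer_singleton_iff.2 (hcomm b hb))
  have hall : ∀ T : Sylow p G, (T : Subgroup G) ≤ H := fun T => by
    induction hconn S T with
    | refl => exact hS
    | tail _ hbc ih => exact hstep _ _ ih hbc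
  refine hH.2.1 (top_le_iff.1 fun g _ => ?_)
  refine StronglyEmbedded.mem_of_conj_le hH S.2
    (StronglyEmbedded.ne_bot_of_dvd (p := p) (S.dvd_card_of_dvd_card hH.1)) hS fun a ha => ?_
  exact hall (g • S) ⟨a, ha, rfl⟩

/-- `G = H O^p(N)`. -/
theorem sup_closure_eq_top {H : Subgroup G} (hH : Cfsg.IsStronglyPEmbedded p H) (N : Subgroup G) [hNn : N.Normal]
    (hN : p ∣ Nat.card N) :
    H ⊔ Subgroup.closure {g : G | g ∈ N ∧ (orderOf g).Coprime p} = ⊤ := by
  obtain ⟨S, hS⟩ := StronglyEmbedded.exists_sylow_le hH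
  -- a Sylow subgroup of `N` inside `H`
  obtain ⟨P₀⟩ : Nonempty (Sylow p N) := inferInstance
  obtain ⟨T, hT⟩ := (P₀.2.map N.subtype).exists_le_sylow
  obtain ⟨g, hg⟩ := MulAction.exists_smul_eq G T S
  let φ : N →* N := (MulAut.conjNormal g : MulAut N).toMonoidHom
  have hP : Nat.card ((P₀ : Subgroup N).map φ) = p ^ (Nat.card N).factorization p := by
    rw [Subgroup.card_map_of_injective (MulEquiv.injective _), P₀.card_eq_multiplicity]
  set P := Sylow.ofCard _ hP
  have hPS : (P : Subgroup N).map N.subtype ≤ (S : Subgroup G) := by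
    rintro _ ⟨_, ⟨y, hy, rfl⟩, rfl⟩
    rw [← hg]
    exact ⟨(y : G), hT ⟨y, hy, rfl⟩, (MulAut.conjNormal_apply g y).symm⟩
  set O := Subgroup.closure {g : G | g ∈ N ∧ (orderOf g).Coprime p}
  have hON : O ≤ N := (Subgroup.closure_le _).2 fun x hx => hx.1
  have hNle : N ≤ (P : Subgroup N).map N.subtype ⊔ O := by
    set Y := ((P : Subgroup N).map N.subtype ⊔ O).subgroupOf N
    have hY : Y = ⊤ := by
      rw [← Subgroup.index_eq_one]
      by_contra hne
      obtain ⟨q, hq, hqd⟩ := Nat.exists_prime_and_dvd hne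
      haveI := Fact.mk hq
      rcases eq_or_ne q p with rfl | hqp
      · refine P.not_dvd_index (hqd.trans (Subgroup.index_dvd_of_le fun y hy => ?_))
        exact Subgroup.mem_sup_left ⟨y, hy, rfl⟩
      · obtain ⟨Q⟩ : Nonempty (Sylow q N) := inferInstance
        refine Q.not_dvd_index (hqd.trans (Subgroup.index_dvd_of_le fun y hy => ?_))
        obtain ⟨k, hk⟩ := Q.2 ⟨y, hy⟩
        have hk' : (y : G) ^ q ^ k = 1 := congrArg (fun w : (Q : Subgroup N) => ((w : N) : G)) hk
        refine Subgroup.mem_sup_right (Subgroup.subset_closure ⟨y.2, ?_⟩)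
        exact Nat.Coprime.coprime_dvd_left (orderOf_dvd_of_pow_eq_one hk')
          (Nat.Coprime.pow_left k ((Nat.coprime_primes hq Fact.out).2 hqp))
    exact fun n hn => (hY.ge (Subgroup.mem_top (⟨n, hn⟩ : N)) : _)
  have hPne : (P : Subgroup N).map N.subtype ≠ ⊥ := StronglyEmbedded.ne_bot_of_dvd (p := p) (by
    rw [Subgroup.card_map_of_injective N.subtype_injective]
    exact P.dvd_card_of_dvd_card hN)
  have hnorm : Subgroup.normalizer (((P : Subgroup N).map N.subtype : Subgroup G) : Set G) ≤ H :=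
    StronglyEmbedded.normalizer_le hH (P.2.map _) hPne (hPS.trans hS)
  exact top_le_iff.1 ((Sylow.normalizer_sup_eq_top P).ge.trans (sup_le (hnorm.trans le_sup_left)
    (hNle.trans (sup_le ((hPS.trans hS).trans le_sup_left) le_sup_right))))

theorem le_of_noncyclic {H : Subgroup G} (hH : Cfsg.IsStronglyPEmbedded p H) {x y : G}
    (hx : orderOf x = p) (hy : orderOf y = p) (hxy : x * y = y * x) (hyx : y ∉ Subgroup.zpowers x)
    (hxH : x ∈ H) (hyH : y ∈ H) (K : Subgroup G) [K.Normal] (hK : (Nat.card K).Coprime p) : K ≤ H := by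
  set A := Subgroup.closure ({x, y} : Set G)
  haveI hA : IsMulCommutative A := Subgroup.isMulCommutative_closure (by
    rintro a (rfl | rfl) b (rfl | rfl) <;> first | rfl | assumption | (symm; assumption))
  have hexp : ∀ a ∈ A, a ^ p = 1 := by
    intro a ha
    induction ha using Subgroup.closure_induction with
    | mem a ha => rcases ha with rfl | rfl
                  · rw [← hx, pow_orderOf_eq_one]
                  · rw [← hy, pow_orderOf_eq_one]
    | one => simp
    | mul a b ha hb hap hbp =>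
      have hc : Commute a b := congrArg Subtype.val (hA.is_comm.comm ⟨a, ha⟩ ⟨b, hb⟩)
      rw [hc.mul_pow, hap, hbp, one_mul]
    | inv a _ hap => rw [inv_pow, hap, inv_one]
  have hAH : A ≤ H := (Subgroup.closure_le _).2 (by rintro a (rfl | rfl) <;> assumption)
  have hxA : x ∈ A := Subgroup.subset_closure (Or.inl rfl)
  have hyA : y ∈ A := Subgroup.subset_closure (Or.inr rfl)
  have hnc : ¬ IsCyclic A := by
    intro hc
    obtain ⟨⟨a, ha⟩, hgen⟩ := hc.exists_generator
    have hle : A ≤ Subgroup.zpowers a := fun b hb => by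
      obtain ⟨k, hk⟩ := Subgroup.mem_zpowers_iff.1 (hgen ⟨b, hb⟩)
      exact Subgroup.mem_zpowers_iff.2 ⟨k, congrArg Subtype.val hk⟩
    have h1 : Subgroup.zpowers x = Subgroup.zpowers a := by
      refine Subgroup.eq_of_le_of_card_ge ((Subgroup.zpowers_le).2 (hle hxA)) ?_
      rw [Nat.card_zpowers, Nat.card_zpowers, hx]
      exact Nat.le_of_dvd (Fact.out : p.Prime).pos (orderOf_dvd_of_pow_eq_one (hexp a ha))
    exact hyx (h1.ge (hle hyA))
  have hAp : IsPGroup p A := fun a => ⟨1, by rw [pow_one]; exact Subtype.ext (hexp a a.2)⟩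
  obtain ⟨n, hn⟩ := IsPGroup.iff_card.1 hAp
  refine (coprime_generated_by_centralizers (K := K) hnc (Subgroup.normalizer_eq_top K ▸ le_top)
    (by rw [hn]; exact Nat.Coprime.pow_left n hK.symm)).ge.trans ?_
  refine iSup₂_le fun a ha => inf_le_right.trans ?_
  exact StronglyEmbedded.centralizer_le hH (hAH ha.1)
    (orderOf_eq_prime (hexp a ha.1) ha.2)

theorem dvd_inf {H : Subgroup G} (hH : Cfsg.IsStronglyPEmbedded p H) (N M : Subgroup G) [hNn : N.Normal]
    [hMn : M.Normal] (hN : p ∣ Nat.card N) (hM : p ∣ Nat.card M) : p ∣ Nat.card ↥(N ⊓ M) := by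
  by_contra hd
  obtain ⟨S, hS⟩ := StronglyEmbedded.exists_sylow_le hH
  have inS : ∀ L : Subgroup G, L.Normal → p ∣ Nat.card L → ∃ z ∈ L, z ∈ (S : Subgroup G) ∧ orderOf z = p := by
    intro L hL hdL
    obtain ⟨z, hz, hzp⟩ := StronglyEmbedded.exists_orderOf_eq hdL
    obtain ⟨T, hT⟩ := (StronglyEmbedded.isPGroup_zpowers hzp).exists_le_sylow
    obtain ⟨g, hg⟩ := MulAction.exists_smul_eq G T S
    refine ⟨g * z * g⁻¹, hL.conj_mem z hz g, hg ▸ ⟨z, hT (Subgroup.mem_zpowers z), rfl⟩, ?_⟩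
    rw [← MulAut.conj_apply, MulEquiv.orderOf_eq, hzp]
  obtain ⟨y, hyN, hyS, hy⟩ := inS N hNn hN
  obtain ⟨x, hxM, hxS, hx⟩ := inS M hMn hM
  haveI : (N ⊓ M).Normal := Subgroup.normal_inf_normal N M
  have hS1 : ∀ z ∈ (S : Subgroup G), z ∈ N ⊓ M → z = 1 := by
    intro z hzS hz
    obtain ⟨k, hk⟩ := S.2 ⟨z, hzS⟩
    have hk' : z ^ p ^ k = 1 := congrArg Subtype.val hk
    exact orderOf_eq_one_iff.1 (Nat.eq_one_of_dvd_coprimes
      (Nat.Coprime.pow_left k ((Fact.out : p.Prime).coprime_iff_not_dvd.2 hd))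
      (orderOf_dvd_of_pow_eq_one hk') (Subgroup.orderOf_dvd_natCard _ hz))
  have hxy : x * y = y * x := by
    refine mul_inv_eq_iff_eq_mul.1 (mul_inv_eq_one.1 (hS1 _ ?_ ⟨?_, ?_⟩))
    · exact (S : Subgroup G).mul_mem (Subgroup.mul_mem _ (Subgroup.mul_mem _ hxS hyS) (Subgroup.inv_mem _ hxS))
        (Subgroup.inv_mem _ hyS)
    · exact N.mul_mem (hNn.conj_mem y hyN x) (N.inv_mem hyN)
    · have := M.mul_mem hxM (hMn.conj_mem _ (M.inv_mem hxM) y)
      simpa [mul_assoc] using this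
  have hyx : y ∉ Subgroup.zpowers x := fun h => by
    have := hS1 y hyS ⟨hyN, (Subgroup.zpowers_le).2 hxM h⟩
    rw [this, orderOf_one] at hy
    exact (Fact.out : p.Prime).one_lt.ne hy
  have hKH : N ⊓ M ≤ H := le_of_noncyclic hH hx hy hxy hyx (hS hxS) (hS hyS) _
    ((Fact.out : p.Prime).coprime_iff_not_dvd.2 hd).symm
  -- every element of `N` normalizes `(N ⊓ M)⟨x⟩`
  have hNH : N ≤ H := by
    intro n hn
    set L := (N ⊓ M) ⊔ Subgroup.zpowers x
    have hxp : IsPGroup p (Subgroup.zpowers (⟨x, Subgroup.mem_sup_right (Subgroup.mem_zpowers x)⟩ : L)) :=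
      IsPGroup.of_card (n := 1) (by rw [Nat.card_zpowers, Subgroup.orderOf_mk, hx, pow_one])
    have hcomm : n * x * n⁻¹ * x⁻¹ ∈ N ⊓ M := by
      refine ⟨?_, M.mul_mem (hMn.conj_mem x hxM n) (M.inv_mem hxM)⟩
      have := N.mul_mem hn (hNn.conj_mem _ (N.inv_mem hn) x)
      simpa [mul_assoc] using this
    have hnx : n * x * n⁻¹ ∈ L := by
      have := L.mul_mem (Subgroup.mem_sup_left hcomm) (Subgroup.mem_sup_right (Subgroup.mem_zpowers x))
      simpa using this
    have hnxp : IsPGroup p (Subgroup.zpowers (⟨n * x * n⁻¹, hnx⟩ : L)) :=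
      IsPGroup.of_card (n := 1) (by
        rw [Nat.card_zpowers, Subgroup.orderOf_mk, ← MulAut.conj_apply, MulEquiv.orderOf_eq, hx, pow_one])
    have hfac : (Nat.card L).factorization p ≤ 1 := by
      have hdvd : Nat.card L ∣ p * Nat.card ↥(N ⊓ M) := by
        rw [← hx, ← Nat.card_zpowers, show L = Subgroup.zpowers x ⊔ (N ⊓ M) from sup_comm _ _]
        exact card_sup_dvd_mul _ _
      have h1 := (Nat.factorization_le_iff_dvd Nat.card_pos.ne'
        (Nat.mul_ne_zero (Fact.out : p.Prime).ne_zero Nat.card_pos.ne')).2 hdvd p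
      rwa [Nat.factorization_mul (Fact.out : p.Prime).ne_zero Nat.card_pos.ne', Finsupp.add_apply,
        (Fact.out : p.Prime).factorization_self, Nat.factorization_eq_zero_of_not_dvd hd, add_zero] at h1
    have isSyl : ∀ (z : L), orderOf z = p → ∀ P : Sylow p L, z ∈ (P : Subgroup L) → (P : Subgroup L) = Subgroup.zpowers z := by
      intro z hz P hzP
      refine (Subgroup.eq_of_le_of_card_ge ((Subgroup.zpowers_le).2 hzP) ?_).symm
      rw [Nat.card_zpowers, hz, P.card_eq_multiplicity]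
      exact (Nat.pow_le_pow_right (Fact.out : p.Prime).pos hfac).trans (pow_one p).le
    obtain ⟨P₁, hP₁⟩ := hxp.exists_le_sylow
    obtain ⟨P₂, hP₂⟩ := hnxp.exists_le_sylow
    obtain ⟨k, hk⟩ := MulAction.exists_smul_eq L P₁ P₂
    have e₁ := isSyl ⟨x, _⟩ (by rw [Subgroup.orderOf_mk, hx]) P₁ (hP₁ (Subgroup.mem_zpowers _))
    have e₂ := isSyl ⟨_, hnx⟩ (by rw [Subgroup.orderOf_mk, ← MulAut.conj_apply, MulEquiv.orderOf_eq, hx]) P₂
      (hP₂ (Subgroup.mem_zpowers _))
    have hkx : (k : G) * x * (k : G)⁻¹ ∈ Subgroup.zpowers (n * x * n⁻¹) := by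
      have h1 : k * (⟨x, Subgroup.mem_sup_right (Subgroup.mem_zpowers x)⟩ : L) * k⁻¹ ∈ (P₂ : Subgroup L) :=
        hk ▸ ⟨_, hP₁ (Subgroup.mem_zpowers _), rfl⟩
      rw [e₂] at h1
      obtain ⟨i, hi⟩ := Subgroup.mem_zpowers_iff.1 h1
      exact Subgroup.mem_zpowers_iff.2 ⟨i, congrArg Subtype.val hi⟩
    have hkn : (n⁻¹ * (k : G)) * x * (n⁻¹ * (k : G))⁻¹ ∈ Subgroup.zpowers x := by
      obtain ⟨i, hi⟩ := Subgroup.mem_zpowers_iff.1 hkx
      refine Subgroup.mem_zpowers_iff.2 ⟨i, ?_⟩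
      rw [conj_zpow] at hi
      calc x ^ i = n⁻¹ * (n * x ^ i * n⁻¹) * n := by group
        _ = n⁻¹ * ((k : G) * x * (k : G)⁻¹) * n := by rw [hi]
        _ = _ := by group
    have hxH : x ∈ H := hS hxS
    have h2 : n⁻¹ * (k : G) ∈ H := StronglyEmbedded.mem_of_conj_le hH (StronglyEmbedded.isPGroup_zpowers hx)
      (StronglyEmbedded.zpowers_ne_bot hx) ((Subgroup.zpowers_le).2 hxH) fun a ha => by
        obtain ⟨i, rfl⟩ := Subgroup.mem_zpowers_iff.1 ha
        rw [← conj_zpow]
        exact H.zpow_mem ((Subgroup.zpowers_le).2 hxH hkn) i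
    have hkH : (k : G) ∈ H := (sup_le hKH ((Subgroup.zpowers_le).2 hxH) : L ≤ H) k.2
    simpa [mul_assoc] using H.mul_mem hkH (H.inv_mem h2)
  have hcl : Subgroup.closure {g : G | g ∈ N ∧ (orderOf g).Coprime p} ≤ H :=
    (Subgroup.closure_le _).2 fun g hg => hNH hg.1
  exact hH.2.1 (top_le_iff.1 ((sup_closure_eq_top hH N hN).ge.trans (sup_le le_rfl hcl)))

/-- The `p`-soluble case: no noncyclic subgroup of order `p²`. -/
theorem unique_of_pSolvable {H : Subgroup G} (hH : Cfsg.IsStronglyPEmbedded p H) (hsol : Cfsg.IsPSolvable p G)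
    {x y : G} (hx : orderOf x = p) (hy : orderOf y = p) (hxy : x * y = y * x) (hxH : x ∈ H) (hyH : y ∈ H) :
    y ∈ Subgroup.zpowers x := by
  by_contra hyx
  have hO : Cfsg.pPrimeCore p G ≤ H :=
    le_of_noncyclic hH hx hy hxy hyx hxH hyH _ (card_pPrimeCore_coprime p)
  obtain ⟨n, K, hK0, hKn, hmono, hnorm, hfac⟩ := hsol
  have hex : ∃ i : Fin n, K i.castSucc ≤ Cfsg.pPrimeCore p G ∧ ¬ K i.succ ≤ Cfsg.pPrimeCore p G := by
    by_contra hno
    push Not at hno
    have key : ∀ i : Fin (n + 1), K i ≤ Cfsg.pPrimeCore p G := fun i => by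
      induction i using Fin.induction with
      | zero => rw [hK0]; exact bot_le
      | succ i ih => exact hno i ih
    exact hH.2.1 (top_le_iff.1 (hKn ▸ (key (Fin.last n)).trans hO))
  obtain ⟨i, hi, hi'⟩ := hex
  haveI := hnorm i.succ
  have hcard : Nat.card (K i.succ) = (K i.castSucc).relIndex (K i.succ) * Nat.card (K i.castSucc) := by
    have hle : K i.castSucc ≤ K i.succ := hmono (Fin.castSucc_lt_succ).le
    rw [← Subgroup.card_mul_index ((K i.castSucc).subgroupOf (K i.succ)),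
      Nat.card_congr (Subgroup.subgroupOfEquivOfLe hle).toEquiv, mul_comm]
    rfl
  have hcop0 : (Nat.card (K i.castSucc)).Coprime p :=
    (card_pPrimeCore_coprime p).coprime_dvd_left (Subgroup.card_dvd_of_le hi)
  rcases hfac i with ⟨m, hm⟩ | hcop
  · have hp : p ∣ Nat.card (K i.succ) := by
      by_contra hd
      exact hi' (le_pPrimeCore ((Fact.out : p.Prime).coprime_iff_not_dvd.2 hd).symm)
    have hcl : Subgroup.closure {g : G | g ∈ K i.succ ∧ (orderOf g).Coprime p} ≤ H := by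
      refine ((Subgroup.closure_le _).2 ?_).trans hO
      rintro g ⟨hg, hgp⟩
      set O' := (Cfsg.pPrimeCore p G).subgroupOf (K i.succ)
      haveI : O'.Normal := inferInstance
      have h1 : O'.index ∣ p ^ m := hm ▸ Subgroup.relIndex_dvd_of_le_left (K i.succ) hi
      have h2 : (⟨g, hg⟩ : K i.succ) ^ p ^ m ∈ O' := by
        obtain ⟨c, hc⟩ := h1
        rw [hc, pow_mul]
        exact O'.pow_mem (O'.pow_index_mem _) c
      obtain ⟨k, hk⟩ := exists_pow_eq_self_of_coprime (x := g) (n := p ^ m) (Nat.Coprime.pow_left m hgp.symm)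
      rw [← hk]
      exact Subgroup.pow_mem _ (Subgroup.mem_subgroupOf.1 h2) k
    exact hH.2.1 (top_le_iff.1 ((sup_closure_eq_top hH (K i.succ) hp).ge.trans (sup_le le_rfl hcl)))
  · exact hi' (le_pPrimeCore (hcard ▸ hcop.mul_left hcop0))

end CfsgLib.ChainConnected
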