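import Mathlib
import Cfsg.Agent.Lib.CharP
import Cfsg.Agent.Lib.Local
import Cfsg.Agent.Lib.SylowExtra
import Cfsg.Agent.Lib.AbelianTrace
import Cfsg.Prelude.Def_LocalStructure

/-!
Large subgroups, and centralizers of `p`-cores in overgroups of a weakly closed self-centralizing `p`-subgroup.
-/

set_option autoImplicit false
set_option linter.unusedVariables false

namespace CfsgLib.Large

open Cfsg CfsgLib CfsgLib.Stabilizer

variable {H : Type*} [Group H]

theorem le_normalizer_of {K A : Subgroup H} [Finite H] (h : ∀ k ∈ K, ∀ a ∈ A, k * a * k⁻¹ ∈ A) :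
    K ≤ Subgroup.normalizer (A : Set H) := fun k hk =>
  Local.mem_normalizer_of_map_conj_eq (Subgroup.eq_of_le_of_card_ge (Local.map_conj_le (h k hk))
    (Subgroup.card_map_of_injective (MulEquiv.injective (MulAut.conj k))).ge)

theorem conj_mem {K A : Subgroup H} (h : K ≤ Subgroup.normalizer (A : Set H)) {k a : H} (hk : k ∈ K) (ha : a ∈ A) :
    k * a * k⁻¹ ∈ A := (Subgroup.mem_normalizer_iff.mp (h hk) a).mp ha

theorem le_normalizer_pCoreOf (p : ℕ) (L : Subgroup H) : L ≤ Subgroup.normalizer (pCoreOf p L : Set H) := by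
  intro l hl
  have h : (⟨l, hl⟩ : ↥L) ∈ Subgroup.normalizer (pCore p ↥L : Set ↥L) := by
    rw [Subgroup.normalizer_eq_top]; exact Subgroup.mem_top _
  exact Subgroup.le_normalizer_map L.subtype ⟨_, h, rfl⟩

theorem pCoreOf_le (p : ℕ) (L : Subgroup H) : pCoreOf p L ≤ L := Subgroup.map_subtype_le _

theorem centralizer_le_normalizer (A : Subgroup H) :
    Subgroup.centralizer (A : Set H) ≤ Subgroup.normalizer (A : Set H) := fun c hc => by
  rw [Subgroup.mem_normalizer_iff]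
  intro a
  constructor
  · intro ha
    rwa [← Subgroup.mem_centralizer_iff.mp hc a ha, mul_inv_cancel_right]
  · intro ha
    have h1 := Subgroup.mem_centralizer_iff.mp hc _ ha
    rw [inv_mul_cancel_right] at h1
    rwa [← mul_left_cancel h1] at ha

/-- A `p`-subgroup normal in a normal subgroup of `L` lies in `O_p(L)`. -/
theorem le_pCoreOf_of_normal [Finite H] {p : ℕ} {L K A : Subgroup H} (hKL : K ≤ L)
    (hLK : L ≤ Subgroup.normalizer (K : Set H)) (hAK : A ≤ K) (hKA : K ≤ Subgroup.normalizer (A : Set H))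
    (hA : IsPGroup p ↥A) : A ≤ pCoreOf p L := by
  haveI : (K.subgroupOf L).Normal := Subgroup.normal_subgroupOf_of_le_normalizer hLK
  set K' := K.subgroupOf L
  set A' : Subgroup ↥K' := (A.subgroupOf L).subgroupOf K'
  haveI : A'.Normal := ⟨fun a ha k => conj_mem hKA k.2 ha⟩
  have hA' : A' ≤ pCore p ↥K' :=
    le_pCore ((hA.comap_of_injective L.subtype L.subtype_injective).comap_of_injective K'.subtype K'.subtype_injective)
  intro a ha
  exact ⟨⟨a, hKL (hAK ha)⟩, map_pCore_le p K' ⟨⟨⟨a, hKL (hAK ha)⟩, hAK ha⟩, hA' ha, rfl⟩, rfl⟩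

/-- The elements of `J` acting trivially on `R` modulo `C`. -/
def stab (J R C : Subgroup H) (hJR : J ≤ Subgroup.normalizer (R : Set H)) (hJC : J ≤ Subgroup.normalizer (C : Set H)) :
    Subgroup H where
  carrier := {g | g ∈ J ∧ ∀ r ∈ R, g * r * g⁻¹ * r⁻¹ ∈ C}
  one_mem' := ⟨J.one_mem, fun r _ => by simp⟩
  mul_mem' := fun {a b} ha hb => ⟨J.mul_mem ha.1 hb.1, fun r hr => by
    have h := C.mul_mem (conj_mem hJC ha.1 (hb.2 r hr)) (ha.2 r hr)
    rwa [show a * (b * r * b⁻¹ * r⁻¹) * a⁻¹ * (a * r * a⁻¹ * r⁻¹) = a * b * r * (a * b)⁻¹ * r⁻¹ by group] at h⟩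
  inv_mem' := fun {a} ha => ⟨J.inv_mem ha.1, fun r hr => by
    have h := C.inv_mem (ha.2 _ (conj_mem hJR (J.inv_mem ha.1) hr))
    rwa [show (a * (a⁻¹ * r * a⁻¹⁻¹) * a⁻¹ * (a⁻¹ * r * a⁻¹⁻¹)⁻¹)⁻¹ = a⁻¹ * r * a⁻¹⁻¹ * r⁻¹ by group] at h⟩

theorem stab_conj {J R C : Subgroup H} (hJR : J ≤ Subgroup.normalizer (R : Set H))
    (hJC : J ≤ Subgroup.normalizer (C : Set H)) {g a : H} (hg : g ∈ J) (ha : a ∈ stab J R C hJR hJC) :
    g * a * g⁻¹ ∈ stab J R C hJR hJC := ⟨J.mul_mem (J.mul_mem hg ha.1) (J.inv_mem hg), fun r hr => by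
  have h := conj_mem hJC hg (ha.2 _ (conj_mem hJR (J.inv_mem hg) hr))
  rwa [show g * (a * (g⁻¹ * r * g⁻¹⁻¹) * a⁻¹ * (g⁻¹ * r * g⁻¹⁻¹)⁻¹) * g⁻¹ = g * a * g⁻¹ * r * (g * a * g⁻¹)⁻¹ * r⁻¹ by group] at h⟩

/-- The `p`-subgroups containing `Q` contain no other conjugate of `Q`. -/
def PWC (p : ℕ) (Q : Subgroup H) : Prop :=
  ∀ R : Subgroup H, IsPGroup p ↥R → Q ≤ R → ∀ g : H,
    Q.map (MulAut.conj g).toMonoidHom ≤ R → Q.map (MulAut.conj g).toMonoidHom = Q

variable [Finite H] {p : ℕ} [Fact p.Prime] {Q : Subgroup H}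

theorem le_normalizer_of_pwc (hwc : PWC p Q) {R : Subgroup H} (hR : IsPGroup p ↥R) (hQR : Q ≤ R) :
    R ≤ Subgroup.normalizer (Q : Set H) := fun r hr =>
  Local.mem_normalizer_of_map_conj_eq (hwc R hR hQR r
    (Local.map_conj_le fun q hq => R.mul_mem (R.mul_mem hr (hQR hq)) (R.inv_mem hr)))

omit [Finite H] in
theorem zpowers_le_centralizer {w : H} (h : ∀ q ∈ Q, q * w = w * q) :
    Subgroup.zpowers w ≤ Subgroup.centralizer (Q : Set H) :=
  Subgroup.zpowers_le.mpr (Subgroup.mem_centralizer_iff.mpr h)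

/-- The centralizer of a nontrivial `p`-subgroup normalised by a large `Q` normalises `Q`. -/
theorem centralizer_le_normalizer_of_large (hQp : IsPGroup p ↥Q) (hL : IsLarge Q) {Y : Subgroup H}
    (hY : IsPGroup p ↥Y) (hY1 : Y ≠ ⊥) (hQY : Q ≤ Subgroup.normalizer (Y : Set H)) :
    Subgroup.centralizer (Y : Set H) ≤ Subgroup.normalizer (Q : Set H) := by
  obtain ⟨w, hw, hw1, hwc⟩ := AbelianTrace.exists_fixed hY hQp hQY hY1
  refine le_trans ?_ (hL.2 (Subgroup.zpowers w) (zpowers_le_centralizer hwc) (Subgroup.zpowers_ne_bot.mpr hw1))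
  exact le_trans (Subgroup.centralizer_le (SetLike.coe_subset_coe.mpr (Subgroup.zpowers_le.mpr hw))) (centralizer_le_normalizer _)

theorem pwc_of_large (hQp : IsPGroup p ↥Q) (hQ1 : Q ≠ ⊥) (hL : IsLarge Q) : PWC p Q := by
  intro R hR hQR g hg
  obtain ⟨T, hT⟩ := hR.exists_le_sylow
  have hT1 : (T : Subgroup H) ≠ ⊥ := fun h => hQ1 (le_bot_iff.mp (h ▸ hQR.trans hT))
  obtain ⟨w, hw, hw1, hwT⟩ := AbelianTrace.exists_fixed T.2 T.2 Subgroup.le_normalizer hT1
  have hUQ : (T : Subgroup H) ⊓ Subgroup.centralizer ((T : Subgroup H) : Set H) ≤ Subgroup.centralizer (Q : Set H) :=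
    inf_le_right.trans (Subgroup.centralizer_le (SetLike.coe_subset_coe.mpr (hQR.trans hT)))
  have hU1 : (T : Subgroup H) ⊓ Subgroup.centralizer ((T : Subgroup H) : Set H) ≠ ⊥ := fun h =>
    hw1 (Subgroup.mem_bot.mp (h.le (Subgroup.mem_inf.mpr ⟨hw, Subgroup.mem_centralizer_iff.mpr hwT⟩)))
  have hNT : Subgroup.normalizer ((T : Subgroup H) : Set H) ≤ Subgroup.normalizer (Q : Set H) := by
    refine le_trans (le_normalizer_of (A := (T : Subgroup H) ⊓ Subgroup.centralizer ((T : Subgroup H) : Set H))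
      fun n hn a ha => ⟨conj_mem le_rfl hn ha.1, ?_⟩) (hL.2 _ hUQ hU1)
    exact conj_mem (CharP.normalizer_le_normalizer_centralizer _) hn ha.2
  have hTN : (T : Subgroup H) ≤ Subgroup.normalizer (Q : Set H) := Subgroup.le_normalizer.trans hNT
  set S := (T : Subgroup H).map (MulAut.conj g⁻¹).toMonoidHom with hS
  have hQS : Q ≤ S := fun q hq => Local.mem_map_conj.mpr (by simpa using hT (hg ⟨q, hq, rfl⟩))
  obtain ⟨w', hw', hw1', hwS⟩ := AbelianTrace.exists_fixed (T.2.map _ : IsPGroup p ↥S) (T.2.map _ : IsPGroup p ↥S)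
    Subgroup.le_normalizer (fun h => hQ1 (le_bot_iff.mp (h ▸ hQS)))
  have hSN : S ≤ Subgroup.normalizer (Q : Set H) := by
    refine le_trans ?_ (hL.2 (Subgroup.zpowers w') (zpowers_le_centralizer fun q hq => hwS q (hQS hq))
      (Subgroup.zpowers_ne_bot.mpr hw1'))
    exact le_trans (fun s hs => Subgroup.mem_centralizer_iff.mpr fun y hy => by
      obtain ⟨n, rfl⟩ := Subgroup.mem_zpowers_iff.mp hy
      exact (Commute.zpow_right (hwS s hs) n).symm.eq) (centralizer_le_normalizer _)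
  obtain ⟨n, hn, P, hP, -, hTP, hSP⟩ := Local.exists_conj_isPGroup T.2 (T.2.map _ : IsPGroup p ↥S) hTN hSN
  rw [T.3 hP hTP, Local.map_conj_mul] at hSP
  have hnT : n * g⁻¹ ∈ Subgroup.normalizer ((T : Subgroup H) : Set H) := Local.mem_normalizer_of_map_conj_eq
    (Subgroup.eq_of_le_of_card_ge hSP (Subgroup.card_map_of_injective (MulEquiv.injective (MulAut.conj _))).ge)
  have hgN : g ∈ Subgroup.normalizer (Q : Set H) := by
    have h := Subgroup.mul_mem _ (Subgroup.inv_mem _ (hNT hnT)) hn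
    simpa using h
  exact Local.map_conj_eq_of_mem_normalizer hgN

/-- If `C_H(O_p(L))` normalises `Q ≤ L`, it is a `p`-group and `L` has characteristic `p`. -/
theorem core_facts (hQp : IsPGroup p ↥Q) (hCQ : Subgroup.centralizer (Q : Set H) ≤ Q) {L : Subgroup H} (hQL : Q ≤ L)
    (hX : Subgroup.centralizer (pCoreOf p L : Set H) ≤ Subgroup.normalizer (Q : Set H)) :
    ⁅Q, Subgroup.centralizer (pCoreOf p L : Set H)⁆ ≤ Q ⊓ pCoreOf p L ∧
      IsPGroup p ↥(Subgroup.centralizer (pCoreOf p L : Set H)) ∧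
      Subgroup.centralizer (pCore p ↥L : Set ↥L) ≤ pCore p ↥L := by
  set X := Subgroup.centralizer (pCoreOf p L : Set H)
  have hLX : L ≤ Subgroup.normalizer (X : Set H) :=
    (le_normalizer_pCoreOf p L).trans (CharP.normalizer_le_normalizer_centralizer _)
  have hQX : Q ⊓ X ≤ pCoreOf p L := by
    refine le_pCoreOf_of_normal (K := X ⊓ L) inf_le_right (le_normalizer_of fun l hl a ha =>
      ⟨conj_mem hLX hl ha.1, L.mul_mem (L.mul_mem hl ha.2) (L.inv_mem hl)⟩) (fun a ha => ⟨ha.2, hQL ha.1⟩) ?_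
      (hQp.to_le inf_le_left)
    exact le_normalizer_of fun k hk a ha => ⟨conj_mem (inf_le_left.trans hX) hk ha.1, X.mul_mem (X.mul_mem hk.1 ha.2) (X.inv_mem hk.1)⟩
  have hcm : ∀ q ∈ Q, ∀ x ∈ X, q * x * q⁻¹ * x⁻¹ ∈ Q ⊓ X := by
    intro q hq x hx
    refine ⟨?_, X.mul_mem (conj_mem hLX (hQL hq) hx) (X.inv_mem hx)⟩
    rw [show q * x * q⁻¹ * x⁻¹ = q * (x * q⁻¹ * x⁻¹) by group]
    exact Q.mul_mem hq (conj_mem hX hx (Q.inv_mem hq))
  have hXp : IsPGroup p ↥X := by
    refine isPGroup_of_coprime_trivial X fun x hx hcop => CharP.eq_one_of_mem_pGroup hQp (hCQ ?_) hcop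
    refine Subgroup.mem_centralizer_iff.mpr fun q hq => ?_
    have hc : x * q * x⁻¹ * q⁻¹ ∈ Q ⊓ X := by
      have := (Q ⊓ X).inv_mem (hcm q hq x hx)
      simpa [mul_assoc] using this
    have hxc := (Subgroup.mem_centralizer_iff.mp hx _ (hQX hc)).symm
    obtain ⟨k, hk⟩ := hQp ⟨_, hc.1⟩
    have h1 := coprime_step (x := x) (r := q) (c := x * q * x⁻¹ * q⁻¹) (p := p) hcop
      ⟨k, congrArg Subtype.val hk⟩ (by group) hxc
    rw [mul_inv_eq_one] at h1
    exact (mul_inv_eq_iff_eq_mul.1 h1).symm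
  refine ⟨Subgroup.commutator_le.mpr fun q hq x hx => ?_, hXp, ?_⟩
  · rw [commutatorElement_def]
    exact ⟨(hcm q hq x hx).1, hQX (hcm q hq x hx)⟩
  · refine le_pCore ((hXp.comap_of_injective L.subtype L.subtype_injective).to_le ?_)
    intro x hx
    refine Subgroup.mem_centralizer_iff.mpr ?_
    rintro _ ⟨r, hr, rfl⟩
    exact congrArg Subtype.val (Subgroup.mem_centralizer_iff.mp hx r hr)

/-- `C_H(O_p(L))` normalises `Q` when it acts on a `p`-group `R` whose centralizer in it has no element of order prime to `p`. -/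
theorem centralizer_le_normalizer_of_action (hwc : PWC p Q) (hQp : IsPGroup p ↥Q) {L : Subgroup H} (hQL : Q ≤ L)
    (R : Subgroup H) (hR : IsPGroup p ↥R) (hQR : Q ≤ Subgroup.normalizer (R : Set H))
    (hXR : Subgroup.centralizer (pCoreOf p L : Set H) ≤ Subgroup.normalizer (R : Set H))
    (hfaith : ∀ x ∈ Subgroup.centralizer (pCoreOf p L : Set H), (orderOf x).Coprime p →
      (∀ r ∈ R, x * r = r * x) → x = 1) :
    Subgroup.centralizer (pCoreOf p L : Set H) ≤ Subgroup.normalizer (Q : Set H) := by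
  set X := Subgroup.centralizer (pCoreOf p L : Set H) with hXdef
  have hLX : L ≤ Subgroup.normalizer (X : Set H) :=
    (le_normalizer_pCoreOf p L).trans (CharP.normalizer_le_normalizer_centralizer _)
  set J := X ⊔ Q with hJ
  have hRQ : R ≤ Subgroup.normalizer (Q : Set H) :=
    le_sup_left.trans (le_normalizer_of_pwc hwc (hR.to_sup_of_normal_left' hQp hQR) le_sup_right)
  have hJR : J ≤ Subgroup.normalizer (R : Set H) := sup_le hXR hQR
  have hJX : J ≤ Subgroup.normalizer (X : Set H) := sup_le Subgroup.le_normalizer (hQL.trans hLX)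
  set Z := R ⊓ X ⊓ L with hZdef
  have hZ : Z ≤ pCoreOf p L := by
    refine le_pCoreOf_of_normal (K := X ⊓ L) inf_le_right (le_normalizer_of fun l hl a ha =>
      ⟨conj_mem hLX hl ha.1, L.mul_mem (L.mul_mem hl ha.2) (L.inv_mem hl)⟩) (fun a ha => ⟨ha.1.2, ha.2⟩) ?_
      (hR.to_le fun a ha => ha.1.1)
    exact le_normalizer_of fun k hk a ha => ⟨⟨conj_mem (inf_le_left.trans hXR) hk ha.1.1,
      X.mul_mem (X.mul_mem hk.1 ha.1.2) (X.inv_mem hk.1)⟩, L.mul_mem (L.mul_mem hk.2 ha.2) (L.inv_mem hk.2)⟩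
  have hXZ : ∀ x ∈ X, ∀ z ∈ Z, x * z = z * x := fun x hx z hz => (Subgroup.mem_centralizer_iff.mp hx z (hZ hz)).symm
  have hJV : J ≤ Subgroup.normalizer ((R ⊓ X : Subgroup H) : Set H) :=
    le_normalizer_of fun j hj a ha => ⟨conj_mem hJR hj ha.1, conj_mem hJX hj ha.2⟩
  have hJZ : J ≤ Subgroup.normalizer (Z : Set H) := sup_le
    (le_normalizer_of fun x hx z hz => by rwa [hXZ x hx z hz, mul_inv_cancel_right])
    (le_normalizer_of fun q hq z hz => ⟨conj_mem hJV (Subgroup.mem_sup_right hq) hz.1,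
      L.mul_mem (L.mul_mem (hQL hq) hz.2) (L.inv_mem (hQL hq))⟩)
  set S₁ := stab J (R ⊓ X) Z hJV hJZ with hS₁
  have hQS₁ : Q ≤ S₁ := fun q hq => ⟨Subgroup.mem_sup_right hq, fun v hv => by
    refine ⟨⟨R.mul_mem (conj_mem hQR hq hv.1) (R.inv_mem hv.1),
      X.mul_mem (conj_mem (hQL.trans hLX) hq hv.2) (X.inv_mem hv.2)⟩, hQL ?_⟩
    rw [show q * v * q⁻¹ * v⁻¹ = q * (v * q⁻¹ * v⁻¹) by group]
    exact Q.mul_mem hq (conj_mem hRQ hv.1 (Q.inv_mem hq))⟩
  let C' : Subgroup H :=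
    { carrier := {r | r ∈ R ∧ ∀ x ∈ X ⊓ S₁, (orderOf x).Coprime p → x * r = r * x}
      one_mem' := ⟨R.one_mem, fun x _ _ => by simp⟩
      mul_mem' := fun {a b} ha hb => ⟨R.mul_mem ha.1 hb.1, fun x hx hc =>
        (Commute.mul_right (ha.2 x hx hc) (hb.2 x hx hc)).eq⟩
      inv_mem' := fun {a} ha => ⟨R.inv_mem ha.1, fun x hx hc => (Commute.inv_right (ha.2 x hx hc)).eq⟩ }
  have hJC : J ≤ Subgroup.normalizer (C' : Set H) := le_normalizer_of fun j hj r hr =>
    ⟨conj_mem hJR hj hr.1, fun x hx hc => by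
      have hx' : j⁻¹ * x * j ∈ X ⊓ S₁ := by
        refine ⟨?_, ?_⟩
        · simpa using conj_mem hJX (J.inv_mem hj) hx.1
        · simpa using stab_conj hJV hJZ (J.inv_mem hj) hx.2
      have hc' : (orderOf (j⁻¹ * x * j)).Coprime p := by
        have e : orderOf (j⁻¹ * x * j) = orderOf x := by
          have := MulEquiv.orderOf_eq (MulAut.conj j⁻¹) x
          simpa using this
        rwa [e]
      have h := congrArg (fun t => j * t * j⁻¹) (hr.2 _ hx' hc')
      simpa [mul_assoc] using h⟩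
  have hcent : ∀ x ∈ X ⊓ S₁, (orderOf x).Coprime p → ∀ v ∈ R ⊓ X, x * v = v * x := by
    intro x hx hcop v hv
    have hc := hx.2.2 v hv
    obtain ⟨k, hk⟩ := hR ⟨_, hc.1.1⟩
    have h1 := coprime_step (x := x) (r := v) (c := x * v * x⁻¹ * v⁻¹) (p := p) hcop
      ⟨k, congrArg Subtype.val hk⟩ (by group) (hXZ x hx.1 _ hc)
    rw [mul_inv_eq_one] at h1
    exact mul_inv_eq_iff_eq_mul.1 h1
  have hQC : ∀ r ∈ R ⊓ Q, r ∈ C' := by
    intro r hr
    refine ⟨hr.1, fun x hx hcop => ?_⟩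
    have hc : x * r * x⁻¹ * r⁻¹ ∈ R ⊓ X := by
      refine ⟨R.mul_mem (conj_mem hXR hx.1 hr.1) (R.inv_mem hr.1), ?_⟩
      rw [show x * r * x⁻¹ * r⁻¹ = x * (r * x⁻¹ * r⁻¹) by group]
      exact X.mul_mem hx.1 (conj_mem (hQL.trans hLX) hr.2 (X.inv_mem hx.1))
    obtain ⟨k, hk⟩ := hR ⟨_, hc.1⟩
    have h1 := coprime_step (x := x) (r := r) (c := x * r * x⁻¹ * r⁻¹) (p := p) hcop
      ⟨k, congrArg Subtype.val hk⟩ (by group) (hcent x hx hcop _ hc)
    rw [mul_inv_eq_one] at h1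
    exact mul_inv_eq_iff_eq_mul.1 h1
  set S₂ := stab J R C' hJR hJC with hS₂
  have hQS₂ : Q ≤ S₂ := fun q hq => ⟨Subgroup.mem_sup_right hq, fun r hr => hQC _
    ⟨R.mul_mem (conj_mem hQR hq hr) (R.inv_mem hr), by
      rw [show q * r * q⁻¹ * r⁻¹ = q * (r * q⁻¹ * r⁻¹) by group]
      exact Q.mul_mem hq (conj_mem hRQ hr (Q.inv_mem hq))⟩⟩
  have hD : IsPGroup p ↥(X ⊓ (S₁ ⊓ S₂)) := by
    refine isPGroup_of_coprime_trivial _ fun x hx hcop => hfaith x hx.1 hcop fun r hr => ?_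
    have hc := hx.2.2.2 r hr
    obtain ⟨k, hk⟩ := hR ⟨_, hc.1⟩
    have h1 := coprime_step (x := x) (r := r) (c := x * r * x⁻¹ * r⁻¹) (p := p) hcop
      ⟨k, congrArg Subtype.val hk⟩ (by group) (hc.2 x ⟨hx.1, hx.2.1⟩ hcop)
    rw [mul_inv_eq_one] at h1
    exact mul_inv_eq_iff_eq_mul.1 h1
  have hQD : Q ≤ Subgroup.normalizer ((X ⊓ (S₁ ⊓ S₂) : Subgroup H) : Set H) := le_normalizer_of fun q hq a ha =>
    ⟨conj_mem (hQL.trans hLX) hq ha.1, stab_conj hJV hJZ (Subgroup.mem_sup_right hq) ha.2.1,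
      stab_conj hJR hJC (Subgroup.mem_sup_right hq) ha.2.2⟩
  intro x hx
  refine Local.mem_normalizer_of_map_conj_eq (hwc _ (hD.to_sup_of_normal_left' hQp hQD) le_sup_right x
    (Local.map_conj_le fun q hq => ?_))
  rw [show x * q * x⁻¹ = x * q * x⁻¹ * q⁻¹ * q by group]
  refine Subgroup.mul_mem _ (Subgroup.mem_sup_left ⟨?_, ?_, ?_⟩) (Subgroup.mem_sup_right hq)
  · rw [show x * q * x⁻¹ * q⁻¹ = x * (q * x⁻¹ * q⁻¹) by group]
    exact X.mul_mem hx (conj_mem (hQL.trans hLX) hq (X.inv_mem hx))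
  · exact S₁.mul_mem (stab_conj hJV hJZ (Subgroup.mem_sup_left hx) (hQS₁ hq)) (S₁.inv_mem (hQS₁ hq))
  · exact S₂.mul_mem (stab_conj hJR hJC (Subgroup.mem_sup_left hx) (hQS₂ hq)) (S₂.inv_mem (hQS₂ hq))

/-- The conclusion of the characteristic `p` lemma for an overgroup of a large subgroup. -/
theorem large_core_facts (hQp : IsPGroup p ↥Q) (hL : IsLarge Q) {L : Subgroup H} (hQL : Q ≤ L) (h1 : pCore p ↥L ≠ ⊥) :
    ⁅Q, Subgroup.centralizer (pCoreOf p L : Set H)⁆ ≤ Q ⊓ pCoreOf p L ∧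
      IsPGroup p ↥(Subgroup.centralizer (pCoreOf p L : Set H)) ∧
      Subgroup.centralizer (pCore p ↥L : Set ↥L) ≤ pCore p ↥L :=
  core_facts hQp hL.1 hQL (centralizer_le_normalizer_of_large hQp hL ((isPGroup_pCore (G := ↥L) p).map _)
    (fun h => h1 ((Subgroup.map_eq_bot_iff_of_injective _ L.subtype_injective).mp h)) (hQL.trans (le_normalizer_pCoreOf p L)))

omit [Finite H] [Fact p.Prime] in
/-- Largeness is invariant under isomorphisms. -/
theorem large_map {K : Type*} [Group K] (e : H ≃* K) (hL : IsLarge Q) : IsLarge (Q.map e.toMonoidHom) := by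
  have hC : ∀ x, x ∈ Subgroup.centralizer ((Q.map e.toMonoidHom : Subgroup K) : Set K) → e.symm x ∈ Subgroup.centralizer (Q : Set H) :=
    fun x hx => Subgroup.mem_centralizer_iff.mpr fun q hq => e.injective (by
      simpa using Subgroup.mem_centralizer_iff.mp hx (e q) ⟨q, hq, rfl⟩)
  refine ⟨fun x hx => ⟨e.symm x, hL.1 (hC x hx), by simp⟩, fun U hU hU1 n hn => ?_⟩
  have h := hL.2 (U.comap e.toMonoidHom) (fun u hu => by simpa using hC (e u) (hU hu))
    (fun h => hU1 (by rw [← Subgroup.map_comap_eq_self_of_surjective (f := e.toMonoidHom) e.surjective U, h, Subgroup.map_bot]))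
    (x := e.symm n) (Subgroup.mem_normalizer_iff.mpr fun u => by
      simpa using Subgroup.mem_normalizer_iff.mp hn (e u))
  rw [Subgroup.mem_normalizer_iff]
  intro z
  rw [Subgroup.mem_map_equiv, Subgroup.mem_map_equiv, Subgroup.mem_normalizer_iff.mp h (e.symm z)]
  simp

/-- A parabolic subgroup with nontrivial `p`-core contains the centralizer of that core. -/
theorem centralizer_pCoreOf_le_of_parabolic (hQp : IsPGroup p ↥Q) (hL : IsLarge Q) {R : Subgroup H}
    (hR : IsParabolic p R) (h1 : pCore p ↥R ≠ ⊥) :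
    Subgroup.centralizer (pCoreOf p R : Set H) ≤ pCoreOf p R := by
  obtain ⟨T, hTR⟩ := hR
  obtain ⟨U, hU⟩ := hQp.exists_le_sylow
  obtain ⟨h, hh⟩ := MulAction.exists_smul_eq H U T
  have hQT : Q.map (MulAut.conj h).toMonoidHom ≤ (T : Subgroup H) := by
    rw [← hh, Sylow.coe_subgroup_smul, Subgroup.pointwise_smul_def]
    exact Subgroup.map_mono hU
  set X := Subgroup.centralizer (pCoreOf p R : Set H) with hXdef
  have hXp : IsPGroup p ↥X :=
    (large_core_facts (hQp.map _) (large_map (MulAut.conj h) hL) (hQT.trans hTR) h1).2.1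
  have hRX : R ≤ Subgroup.normalizer (X : Set H) :=
    (le_normalizer_pCoreOf p R).trans (CharP.normalizer_le_normalizer_centralizer _)
  have hXT : X ≤ (T : Subgroup H) :=
    le_sup_right.trans (T.3 (T.2.to_sup_of_normal_right' hXp (hTR.trans hRX)) le_sup_left).le
  haveI : (X.subgroupOf R).Normal := Subgroup.normal_subgroupOf_of_le_normalizer hRX
  exact fun x hx => ⟨⟨x, hTR (hXT hx)⟩, le_pCore (N := X.subgroupOf R) (hXp.comap_of_injective R.subtype R.subtype_injective) hx, rfl⟩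

theorem parabolicCharacteristic_of_large (hQp : IsPGroup p ↥Q) (hL : IsLarge Q) : IsOfParabolicCharacteristic p H := by
  intro R hR hR1 hpar x hx
  have hne : pCore p ↥(Subgroup.normalizer (R : Set H)) ≠ ⊥ := by
    intro h
    haveI : (R.subgroupOf (Subgroup.normalizer (R : Set H))).Normal := Subgroup.normal_subgroupOf_of_le_normalizer le_rfl
    have h2 : R.subgroupOf (Subgroup.normalizer (R : Set H)) ≤ pCore p _ :=
      le_pCore (hR.comap_of_injective (Subgroup.normalizer (R : Set H)).subtype (Subgroup.subtype_injective _))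
    rw [h, le_bot_iff, Subgroup.subgroupOf_eq_bot, disjoint_iff, inf_eq_left.mpr Subgroup.le_normalizer] at h2
    exact hR1 h2
  have hxC : (x : H) ∈ Subgroup.centralizer (pCoreOf p (Subgroup.normalizer (R : Set H)) : Set H) := by
    refine Subgroup.mem_centralizer_iff.mpr ?_
    rintro _ ⟨r, hr, rfl⟩
    exact congrArg Subtype.val (Subgroup.mem_centralizer_iff.mp hx r hr)
  obtain ⟨y, hy, e⟩ := centralizer_pCoreOf_le_of_parabolic hQp hL hpar hne hxC
  rwa [← Subtype.ext (e : (y : H) = x)]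

omit [Finite H] [Fact p.Prime] in
theorem conj_le_weakClosure {L : Subgroup H} {g : H} (hg : Q.map (MulAut.conj g).toMonoidHom ≤ L) :
    Q.map (MulAut.conj g).toMonoidHom ≤ weakClosure Q L :=
  le_iSup (fun g : {g : H // Q.map (MulAut.conj g).toMonoidHom ≤ L} => Q.map (MulAut.conj (g : H)).toMonoidHom) ⟨g, hg⟩

omit [Finite H] [Fact p.Prime] in
theorem weakClosure_le (L : Subgroup H) : weakClosure Q L ≤ L := iSup_le fun g => g.2

omit [Finite H] [Fact p.Prime] in
theorem le_weakClosure {L : Subgroup H} (hQL : Q ≤ L) : Q ≤ weakClosure Q L := by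
  have h1 : Q.map (MulAut.conj (1 : H)).toMonoidHom = Q := by ext z; simp
  exact h1.ge.trans (conj_le_weakClosure (h1.le.trans hQL))

omit [Finite H] [Fact p.Prime] in
theorem weakClosure_mono {L M : Subgroup H} (h : L ≤ M) : weakClosure Q L ≤ weakClosure Q M :=
  iSup_le fun g => conj_le_weakClosure (g.2.trans h)

theorem conj_of_pwc (hwc : PWC p Q) (hQp : IsPGroup p ↥Q) {K : Subgroup H} (hQK : Q ≤ K) {g : H}
    (hg : Q.map (MulAut.conj g).toMonoidHom ≤ K) :
    ∃ k ∈ K, Q.map (MulAut.conj g).toMonoidHom = Q.map (MulAut.conj k).toMonoidHom := by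
  obtain ⟨c, hc, P, hP, -, hQP, hgP⟩ := Local.exists_conj_isPGroup hQp (hQp.map (MulAut.conj g).toMonoidHom) hQK hg
  rw [Local.map_conj_mul] at hgP
  have h1 := hwc P hP hQP _ hgP
  refine ⟨c⁻¹, K.inv_mem hc, ?_⟩
  have h2 := congrArg (fun L => L.map (MulAut.conj c⁻¹).toMonoidHom) h1
  simp only [Local.map_conj_mul, inv_mul_cancel_left] at h2
  exact h2

/-- A subgroup `C` normalised by `L` and normalising `Q ≤ L` fixes every conjugate of `Q` in `L`. -/
theorem normalizes_conj (hwc : PWC p Q) (hQp : IsPGroup p ↥Q) {L C : Subgroup H} (hQL : Q ≤ L)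
    (hLC : L ≤ Subgroup.normalizer (C : Set H)) (hCQ : C ≤ Subgroup.normalizer (Q : Set H)) {g : H}
    (hg : Q.map (MulAut.conj g).toMonoidHom ≤ L) :
    C ≤ Subgroup.normalizer ((Q.map (MulAut.conj g).toMonoidHom : Subgroup H) : Set H) := by
  obtain ⟨k, hk, e⟩ := conj_of_pwc hwc hQp hQL hg
  rw [e]
  intro c hc
  refine Local.mem_normalizer_of_map_conj_eq ?_
  have hck : k⁻¹ * c * k ∈ Subgroup.normalizer (Q : Set H) :=
    hCQ (by simpa using conj_mem hLC (L.inv_mem hk) hc)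
  rw [Local.map_conj_mul, show c * k = k * (k⁻¹ * c * k) by group, ← Local.map_conj_mul,
    Local.map_conj_eq_of_mem_normalizer hck]

theorem weakClosure_sup (hwc : PWC p Q) (hQp : IsPGroup p ↥Q) {L C : Subgroup H} (hQL : Q ≤ L)
    (hLC : L ≤ Subgroup.normalizer (C : Set H)) (hCQ : C ≤ Subgroup.normalizer (Q : Set H)) :
    weakClosure Q L = weakClosure Q (L ⊔ C) := by
  refine le_antisymm (weakClosure_mono le_sup_left) (iSup_le fun g => ?_)
  obtain ⟨k, hk, e⟩ := conj_of_pwc hwc hQp (hQL.trans le_sup_left) g.2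
  rw [← SetLike.mem_coe, Subgroup.coe_mul_of_left_le_normalizer_right L C hLC] at hk
  obtain ⟨l, hl, c, hc, rfl⟩ := hk
  rw [e, ← Local.map_conj_mul, Local.map_conj_eq_of_mem_normalizer (hCQ hc)]
  exact conj_le_weakClosure (Local.map_conj_le fun q hq => L.mul_mem (L.mul_mem hl (hQL hq)) (L.inv_mem hl))

theorem inf_centralizer_conj_eq_bot (hQp : IsPGroup p ↥Q) (hQ1 : Q ≠ ⊥) (hL : IsLarge Q) {g : H}
    (hg : Q.map (MulAut.conj g).toMonoidHom ≠ Q) :
    Subgroup.centralizer (Q : Set H) ⊓ Subgroup.centralizer ((Q.map (MulAut.conj g).toMonoidHom : Subgroup H) : Set H) = ⊥ := by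
  by_contra hU
  refine hg ?_
  have hN := hL.2 _ inf_le_left hU
  have h1 : Q.map (MulAut.conj g).toMonoidHom ≤ Subgroup.normalizer (Q : Set H) := by
    refine le_trans ?_ ((centralizer_le_normalizer _).trans hN)
    intro x hx
    exact Subgroup.mem_centralizer_iff.mpr fun y hy => (Subgroup.mem_centralizer_iff.mp hy.2 x hx).symm
  exact pwc_of_large hQp hQ1 hL _ (hQp.to_sup_of_normal_left' (hQp.map (MulAut.conj g).toMonoidHom) h1) le_sup_left g le_sup_right

end CfsgLib.Large
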