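import Mathlib
import Cfsg.Agent.Lib.PReduced
import Cfsg.Agent.Lib.StrongFusion.LocalFree

/-!
`Y_L` for a subgroup `L` of the ambient group.
-/

set_option autoImplicit false
set_option linter.unusedVariables false

namespace CfsgLib.PReducedOf

open Cfsg CfsgLib CfsgLib.PReduced

variable {H : Type*} [Group H] [Finite H] {p : ℕ} [Fact p.Prime]

omit [Finite H] [Fact p.Prime] in
theorem mem_centralizer_iff' {L : Subgroup H} (x : ↥L) :
    (x : H) ∈ Subgroup.centralizer (largestPReducedOf p L : Set H) ↔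
      x ∈ Subgroup.centralizer (largestPReduced p ↥L : Set ↥L) := by
  constructor
  · intro h
    exact Subgroup.mem_centralizer_iff.mpr fun y hy => Subtype.ext (Subgroup.mem_centralizer_iff.mp h y ⟨y, hy, rfl⟩)
  · intro h
    refine Subgroup.mem_centralizer_iff.mpr ?_
    rintro _ ⟨y, hy, rfl⟩
    exact congrArg Subtype.val (Subgroup.mem_centralizer_iff.mp h y hy)

theorem elem (L : Subgroup H) : IsElementaryAbelian p (largestPReducedOf p L) := by
  have he : IsElementaryAbelian p (largestPReduced p ↥L) := (largest_reduced (L := ↥L) (p := p)).2.1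
  refine ⟨⟨⟨fun a b => Subtype.ext ?_⟩⟩, ?_⟩
  · obtain ⟨a', ha, ea⟩ := a.2
    obtain ⟨b', hb, eb⟩ := b.2
    show (a : H) * b = b * a
    rw [← ea, ← eb, ← map_mul, ← map_mul, mem_comm he ha hb]
  · rintro _ ⟨v, hv, rfl⟩
    rw [← map_pow, he.2 v hv, map_one]

omit [Finite H] [Fact p.Prime] in
theorem le_normalizer (L : Subgroup H) : L ≤ Subgroup.normalizer (largestPReducedOf p L : Set H) :=
  Subgroup.le_normalizer.trans (normalizer_le_largestOf L)

omit [Finite H] [Fact p.Prime] in
theorem le_normalizer_centralizer (L : Subgroup H) :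
    L ≤ Subgroup.normalizer (Subgroup.centralizer (largestPReducedOf p L : Set H) : Set H) :=
  (le_normalizer L).trans (CharP.normalizer_le_normalizer_centralizer _)

theorem pCoreOf_le_centralizer (L : Subgroup H) :
    pCoreOf p L ≤ Subgroup.centralizer (largestPReducedOf p L : Set H) := by
  rintro _ ⟨x, hx, rfl⟩
  exact (mem_centralizer_iff' x).mpr (pCore_le_centralizer largest_reduced hx)

theorem le_pCoreOf (L : Subgroup H) : largestPReducedOf p L ≤ pCoreOf p L :=
  Subgroup.map_mono (le_center_pCore (largest_reduced (L := ↥L) (p := p)) |>.trans inf_le_left)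

theorem commute_pCoreOf (L : Subgroup H) {y r : H} (hy : y ∈ largestPReducedOf p L) (hr : r ∈ pCoreOf p L) : r * y = y * r :=
  (Subgroup.mem_centralizer_iff.mp (pCoreOf_le_centralizer L hr) y hy).symm

omit [Fact p.Prime] in
theorem pCoreOf_isPGroup (L : Subgroup H) : IsPGroup p ↥(pCoreOf p L) := (isPGroup_pCore p).map _

theorem pCoreOf_le_sylow (T : Sylow p H) {L : Subgroup H} (hTL : (T : Subgroup H) ≤ L) : pCoreOf p L ≤ (T : Subgroup H) := by
  rintro _ ⟨x, hx, rfl⟩
  exact pCore_le_sylow (T.subtype hTL) hx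

/-- A subgroup of `M C` acting on `Y_M` as a `p`-group, normalised by `M` modulo `C = C(Y_M)`, centralizes `Y_M`. -/
theorem le_centralizer_of_factor {M K : Subgroup H}
    (hK : K ≤ M ⊔ Subgroup.centralizer (largestPReducedOf p M : Set H))
    (hMK : M ≤ Subgroup.normalizer ((K ⊔ Subgroup.centralizer (largestPReducedOf p M : Set H) : Subgroup H) : Set H))
    (hKC : K ≤ Subgroup.normalizer (Subgroup.centralizer (largestPReducedOf p M : Set H) : Set H))
    (hp : ∀ k ∈ K, ∃ n : ℕ, k ^ p ^ n ∈ Subgroup.centralizer (largestPReducedOf p M : Set H)) :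
    K ≤ Subgroup.centralizer (largestPReducedOf p M : Set H) := by
  set C := Subgroup.centralizer (largestPReducedOf p M : Set H) with hC
  set K₁ := K ⊔ C with hK₁
  haveI : (K₁.subgroupOf M).Normal := Subgroup.normal_subgroupOf_of_le_normalizer hMK
  haveI hCn : (C.subgroupOf K₁).Normal :=
    (Subgroup.normal_subgroupOf_iff_le_normalizer le_sup_right).mpr (sup_le hKC Subgroup.le_normalizer)
  have hpow : ∀ x ∈ K₁, ∃ n : ℕ, x ^ p ^ n ∈ C := by
    intro x hx
    have hx' : x ∈ ((K ⊔ C : Subgroup H) : Set H) := hx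
    rw [Subgroup.coe_mul_of_left_le_normalizer_right K C hKC] at hx'
    obtain ⟨k, hk, c, hc, rfl⟩ := hx'
    obtain ⟨n, hn⟩ := hp k hk
    refine ⟨n, ?_⟩
    let π := QuotientGroup.mk' (C.subgroupOf K₁)
    have e : π (⟨k * c, hx⟩ ^ p ^ n) = 1 := by
      rw [show (⟨k * c, hx⟩ : ↥K₁) = ⟨k, Subgroup.mem_sup_left hk⟩ * ⟨c, Subgroup.mem_sup_right hc⟩ from rfl, map_pow, map_mul,
        show π ⟨c, Subgroup.mem_sup_right hc⟩ = 1 from (QuotientGroup.eq_one_iff _).mpr hc, mul_one, ← map_pow]
      exact (QuotientGroup.eq_one_iff _).mpr (Subgroup.mem_subgroupOf.mpr (by simpa using hn))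
    have h2 := Subgroup.mem_subgroupOf.mp ((QuotientGroup.eq_one_iff _).mp e)
    simpa using h2
  have h1 : K₁.subgroupOf M ≤ Subgroup.centralizer (largestPReduced p ↥M : Set ↥M) :=
    (iff_forall.mp (largest_reduced (L := ↥M) (p := p))).2.2 _ inferInstance fun x hx => (hpow x hx).imp fun n hn =>
      (mem_centralizer_iff' _).mp (by simpa using hn)
  intro k hk
  have hk' := hK hk
  rw [← SetLike.mem_coe, Subgroup.coe_mul_of_left_le_normalizer_right M C (le_normalizer_centralizer M)] at hk'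
  obtain ⟨m, hm, c, hc, rfl⟩ := hk'
  refine C.mul_mem ((mem_centralizer_iff' ⟨m, hm⟩).mpr (h1 ?_)) hc
  show m ∈ K₁
  have h2 := K₁.mul_mem (Subgroup.mem_sup_left hk : m * c ∈ K₁) (K₁.inv_mem (Subgroup.mem_sup_right hc))
  rwa [mul_inv_cancel_right] at h2

/-- `Y_M ≤ Y_L` when `L ≤ M C(Y_M)` and `M ≤ L C(Y_M)`. -/
theorem largestOf_le_of_factor {L M : Subgroup H} (hYL : largestPReducedOf p M ≤ L)
    (hLM : L ≤ M ⊔ Subgroup.centralizer (largestPReducedOf p M : Set H))
    (hML : M ≤ L ⊔ Subgroup.centralizer (largestPReducedOf p M : Set H)) :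
    largestPReducedOf p M ≤ largestPReducedOf p L := by
  set Y := largestPReducedOf p M
  set C := Subgroup.centralizer (Y : Set H) with hC
  have hLY : L ≤ Subgroup.normalizer (Y : Set H) := hLM.trans (sup_le (le_normalizer M) (fun c hc => Local.mem_normalizer_of_map_conj_eq
    (Subgroup.eq_of_le_of_card_ge (Local.map_conj_le fun y hy => by
      rw [← Subgroup.mem_centralizer_iff.mp hc y hy, mul_inv_cancel_right]; exact hy)
      (Subgroup.card_map_of_injective (MulEquiv.injective (MulAut.conj c))).ge)))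
  have hLC : L ≤ Subgroup.normalizer (C : Set H) := hLY.trans (CharP.normalizer_le_normalizer_centralizer Y)
  haveI hYn : (Y.subgroupOf L).Normal := Subgroup.normal_subgroupOf_of_le_normalizer hLY
  have hred : IsPReducedNormal p (Y.subgroupOf L) := by
    refine iff_forall.mpr ⟨hYn, ⟨⟨⟨fun a b => Subtype.ext (Subtype.ext (mem_comm (elem M) a.2 b.2))⟩⟩,
      fun v hv => Subtype.ext (by rw [SubmonoidClass.coe_pow]; exact (elem M).2 _ hv)⟩, fun K hK hKp => ?_⟩
    have hKL : K.map L.subtype ≤ L := Subgroup.map_subtype_le _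
    have h := le_centralizer_of_factor (M := M) (p := p) (K := K.map L.subtype) (hKL.trans hLM) ?_ (hKL.trans hLC) ?_
    · exact fun k hk => Subgroup.mem_centralizer_iff.mpr fun y hy => Subtype.ext (Subgroup.mem_centralizer_iff.mp (h ⟨k, hk, rfl⟩) y hy)
    · refine hML.trans (sup_le ?_ (le_sup_right.trans Subgroup.le_normalizer))
      refine le_trans (le_inf ?_ hLC) (Subgroup.normalizer_inf_normalizer_le_normalizer_sup _ _)
      intro l hl
      refine Local.mem_normalizer_of_map_conj_eq (Subgroup.eq_of_le_of_card_ge ?_ (Subgroup.card_map_of_injective (MulEquiv.injective (MulAut.conj l))).ge)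
      rintro _ ⟨_, ⟨x, hx, rfl⟩, rfl⟩
      exact ⟨_, hK.conj_mem x hx ⟨l, hl⟩, rfl⟩
    · rintro _ ⟨k, hk, rfl⟩
      refine (hKp k hk).imp fun n hn => Subgroup.mem_centralizer_iff.mpr fun y hy => ?_
      simpa using congrArg Subtype.val (Subgroup.mem_centralizer_iff.mp hn ⟨y, hYL hy⟩ hy)
  intro y hy
  exact ⟨⟨y, hYL hy⟩, le_largest hred hy, rfl⟩

theorem map_omegaZ (L : Subgroup H) (S : Subgroup ↥L) :
    omegaOne p (S.map L.subtype ⊓ Subgroup.centralizer ((S.map L.subtype : Subgroup H) : Set H)) =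
      (omegaOne p (S ⊓ Subgroup.centralizer (S : Set ↥L))).map L.subtype := by
  ext x
  constructor
  · intro hx
    obtain ⟨⟨s, hs, rfl⟩, hc, hp⟩ := mem_omegaZ.mp hx
    exact ⟨s, mem_omegaZ.mpr ⟨hs, fun t ht => Subtype.ext (hc t ⟨t, ht, rfl⟩), Subtype.ext (by simpa using hp)⟩, rfl⟩
  · rintro ⟨s, hs, rfl⟩
    obtain ⟨h1, h2, h3⟩ := mem_omegaZ.mp hs
    refine mem_omegaZ.mpr ⟨⟨s, h1, rfl⟩, ?_, by rw [← map_pow, h3, map_one]⟩
    rintro _ ⟨t, ht, rfl⟩
    exact congrArg Subtype.val (h2 t ht)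

theorem closure_eq (L : Subgroup H) :
    sylowCenterClosure p L = (⨆ S : Sylow p ↥L, omegaOne p ((S : Subgroup ↥L) ⊓ Subgroup.centralizer ((S : Subgroup ↥L) : Set ↥L))).map L.subtype := by
  rw [sylowCenterClosure, Subgroup.map_iSup]
  exact iSup_congr fun S => map_omegaZ L (S : Subgroup ↥L)

end CfsgLib.PReducedOf
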