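import Cfsg.Agent.Lib.PGroup.RankTwoNormal
import Cfsg.Agent.Lib.Fusion.RankTwoSimple
import Cfsg.Agent.Lib.UniqueSubgroup

/-!
Without a subgroup of index two, two-rank three passes to involution centralizers.
-/

set_option autoImplicit false
set_option linter.unusedSectionVars false

namespace CfsgLib.RankThreeCent

open Subgroup

universe u
variable {G : Type u} [Group G] [Finite G]

theorem commute_of_exp_two {A : Subgroup G} (hA : ∀ a ∈ A, a ^ 2 = 1) {a b : G} (ha : a ∈ A) (hb : b ∈ A) :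
    a * b = b * a := by
  have h1 : a⁻¹ = a := inv_eq_of_mul_eq_one_right (by rw [← pow_two, hA a ha])
  have h2 : b⁻¹ = b := inv_eq_of_mul_eq_one_right (by rw [← pow_two, hA b hb])
  have h3 : (a * b)⁻¹ = a * b := inv_eq_of_mul_eq_one_right (by rw [← pow_two, hA _ (mul_mem ha hb)])
  rw [← h3, mul_inv_rev, h1, h2]

/-- A `2`-group of rank at least three has a normal four-subgroup. -/
theorem exists_normal_four {R : Type u} [Group R] [Finite R] (hR : IsPGroup 2 R) (E : Subgroup R)
    (hE8 : Nat.card E = 8) (hE : ∀ e ∈ E, e ^ 2 = 1) :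
    ∃ U : Subgroup R, U.Normal ∧ Nat.card U = 4 ∧ ∀ u ∈ U, u ^ 2 = 1 := by
  classical
  haveI : Fact (Nat.Prime 2) := ⟨Nat.prime_two⟩
  by_contra hno
  push Not at hno
  haveI : Group.IsNilpotent R := hR.isNilpotent
  obtain ⟨A, hAn, hAcomm, hCA⟩ := UniqueSubgroup.exists_self_centralizing R
  haveI := hAn
  let W : Subgroup R :=
    { carrier := {x | x ∈ A ∧ x ^ 2 = 1}
      one_mem' := ⟨one_mem A, one_pow 2⟩
      mul_mem' := fun {a b} ha hb => ⟨mul_mem ha.1 hb.1, by
        rw [Commute.mul_pow (hAcomm a ha.1 b hb.1), ha.2, hb.2, one_mul]⟩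
      inv_mem' := fun {a} ha => ⟨inv_mem ha.1, by rw [inv_pow, ha.2, inv_one]⟩ }
  haveI : W.Normal := ⟨fun x hx g => ⟨hAn.conj_mem x hx.1 g, by rw [conj_pow, hx.2, mul_one, mul_inv_cancel]⟩⟩
  have hW : Nat.card W ≤ 2 := by
    obtain ⟨k, hk⟩ := IsPGroup.iff_card.mp (hR.to_subgroup W)
    rw [hk]
    rcases Nat.lt_or_ge k 2 with h | h
    · exact (Nat.pow_le_pow_right two_pos (by omega : k ≤ 1)).trans (by norm_num)
    · obtain ⟨U, hU, hUW, hUc⟩ := PGroupRankTwo.exists_normal_card (p := 2) hR W 2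
        (by rw [hk]; exact Nat.pow_le_pow_right two_pos h)
      obtain ⟨u, hu, hu2⟩ := hno U hU hUc
      exact absurd (hUW hu).2 hu2
  have hA1 : A ≠ ⊥ := by
    rintro rfl
    have h1 : (⊤ : Subgroup R) ≤ ⊥ := le_trans (fun g _ => fun y hy => by
      rw [Subgroup.mem_bot.mp hy, one_mul, mul_one]) hCA
    have h2 := (Subgroup.card_le_of_le (h1 : (⊤ : Subgroup R) ≤ ⊥)).trans' (Subgroup.card_le_of_le (le_top : E ≤ ⊤))
    rw [hE8, Subgroup.card_bot] at h2
    omega
  obtain ⟨k, hk⟩ := IsPGroup.iff_card.mp (hR.to_subgroup A)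
  obtain ⟨z, hz⟩ := exists_prime_orderOf_dvd_card' (G := A) 2 (by
    rw [hk]
    refine dvd_pow_self 2 fun e => hA1 (Subgroup.card_eq_one.mp ?_)
    rw [hk, e, pow_zero])
  have hz1 : (z : R) ≠ 1 := fun e => by
    rw [← Subgroup.orderOf_coe, e, orderOf_one] at hz
    omega
  have hzW : (z : R) ∈ W := ⟨z.2, by
    rw [← SubmonoidClass.coe_pow, show z ^ 2 = 1 from hz ▸ pow_orderOf_eq_one z]; rfl⟩
  have huniq : ∀ x : R, x ∈ A → x ^ 2 = 1 → x = 1 ∨ x = z := by
    intro x hxA hx
    by_contra h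
    push Not at h
    have hsub : ({1, x, (z : R)} : Set R) ⊆ (W : Set R) := by
      rintro y (rfl | rfl | rfl)
      exacts [W.one_mem, ⟨hxA, hx⟩, hzW]
    have h3 := Set.ncard_le_ncard hsub (Set.toFinite _)
    rw [Set.ncard_eq_three.mpr ⟨1, x, (z : R), Ne.symm h.1, Ne.symm hz1, h.2, rfl⟩, ← Nat.card_coe_set_eq] at h3
    exact absurd (h3.trans hW) (by norm_num)
  obtain ⟨a, -, ha⟩ := UniqueSubgroup.exists_generator (G := A) (p := 2) (hR.to_subgroup A) hz
    (fun x hx => by
      rcases huniq x x.2 (congrArg Subtype.val hx) with h | h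
      · rw [show x = 1 from Subtype.ext h]; exact one_mem _
      · rw [show x = z from Subtype.ext h]; exact Subgroup.mem_zpowers z)
    ⊤ (fun x _ y _ => Subtype.ext (hAcomm x x.2 y y.2))
  have hgen : ∀ x ∈ A, ∃ j : ℤ, (a : R) ^ j = x := fun x hx => by
    obtain ⟨j, hj⟩ := (ha ▸ Subgroup.mem_top (⟨x, hx⟩ : A) : (⟨x, hx⟩ : A) ∈ Subgroup.zpowers a)
    exact ⟨j, congrArg Subtype.val hj⟩
  have hzc : ∀ g : R, g * z * g⁻¹ = z := fun g => by
    have h := (inferInstance : W.Normal).conj_mem _ hzW g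
    exact (huniq _ h.1 h.2).resolve_left fun e => hz1 (conj_eq_one_iff.mp e)
  have hz2 : (z : R) * z = 1 := by rw [← pow_two]; exact hzW.2
  have hin : ∀ {x : R}, (∀ y ∈ A, x * y = y * x) → x ∈ A := fun {x} h => hCA fun y hy => (h y hy).symm
  have hcen : ∀ {x : R}, x * a * x⁻¹ = a → x ∈ A := fun {x} h => hin fun y hy => by
    obtain ⟨j, rfl⟩ := hgen y hy
    exact (Commute.zpow_right (mul_inv_eq_iff_eq_mul.mp h : Commute x (a : R)) j).eq
  -- the four possible actions
  have hfour : ∀ e ∈ E, e * a * e⁻¹ = a ∨ e * a * e⁻¹ = (a : R)⁻¹ ∨ e * a * e⁻¹ = a * z ∨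
      e * a * e⁻¹ = (a : R)⁻¹ * z := by
    intro e he
    obtain ⟨j, hj⟩ := hgen _ (hAn.conj_mem _ a.2 e)
    have hee : e * e = 1 := by rw [← pow_two, hE e he]
    have hjj : (a : R) ^ (j * j) = a := by
      rw [zpow_mul, hj, conj_zpow, hj]
      have hinv : e⁻¹ = e := inv_eq_of_mul_eq_one_right hee
      rw [hinv]
      calc e * (e * a * e) * e = (e * e) * a * (e * e) := by group
        _ = a := by rw [hee, one_mul, mul_one]
    have hdvd : (orderOf (a : R) : ℤ) ∣ j * j - 1 :=
      orderOf_dvd_iff_zpow_eq_one.mpr (by rw [_root_.zpow_sub, zpow_one, hjj, mul_inv_cancel])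
    obtain ⟨m, hm⟩ := IsPGroup.iff_orderOf.mp hR (a : R)
    rw [hm] at hdvd
    have key : ((2 : ℤ) ^ m ∣ 2 * (j - 1)) ∨ ((2 : ℤ) ^ m ∣ 2 * (j + 1)) := by
      push_cast at hdvd
      rcases Int.even_or_odd j with ⟨i, hi⟩ | ⟨i, hi⟩
      · rcases Nat.eq_zero_or_pos m with rfl | hm0
        · exact Or.inl (by simp)
        · exfalso
          have h2 : (2 : ℤ) ∣ j * j - 1 := (dvd_pow_self 2 hm0.ne').trans hdvd
          have h3 : (2 : ℤ) ∣ j * j := ⟨i * j, by rw [hi]; ring⟩
          have h4 : (2 : ℤ) ∣ 1 := by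
            have := dvd_sub h3 h2
            simpa using this
          norm_num at h4
      · rw [show j * j - 1 = 4 * i * (i + 1) by rw [hi]; ring] at hdvd
        rcases Int.even_or_odd i with hie | hio
        · obtain ⟨l, hl⟩ := hie
          refine Or.inl ?_
          rw [show 2 * (j - 1) = 4 * i by rw [hi]; ring]
          exact IsCoprime.dvd_of_dvd_mul_right (IsCoprime.pow_left ⟨-l, 1, by rw [hl]; ring⟩) hdvd
        · obtain ⟨l, hl⟩ := hio
          refine Or.inr ?_
          rw [show 2 * (j + 1) = 4 * (i + 1) by rw [hi]; ring]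
          exact IsCoprime.dvd_of_dvd_mul_right (IsCoprime.pow_left ⟨-l, 1, by rw [hl]; ring⟩)
            (show (2 : ℤ) ^ m ∣ 4 * (i + 1) * i by rw [mul_right_comm]; exact hdvd)
    have hsq : ∀ l : ℤ, (2 : ℤ) ^ m ∣ 2 * l → (a : R) ^ l = 1 ∨ (a : R) ^ l = z := fun l hl =>
      huniq _ (zpow_mem a.2 l) (by
        rw [← zpow_natCast, ← zpow_mul, mul_comm]
        exact orderOf_dvd_iff_zpow_eq_one.mp (by rw [hm]; exact_mod_cast hl))
    rw [← hj]
    rcases key with h | h
    · rcases hsq _ h with h' | h'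
      · left
        rw [show j = 1 + (j - 1) by ring, _root_.zpow_add, h', zpow_one, mul_one]
      · right; right; left
        rw [show j = 1 + (j - 1) by ring, _root_.zpow_add, h', zpow_one]
    · rcases hsq _ h with h' | h'
      · right; left
        rw [show j = -1 + (j + 1) by ring, _root_.zpow_add, h', zpow_neg_one, mul_one]
      · right; right; right
        rw [show j = -1 + (j + 1) by ring, _root_.zpow_add, h', zpow_neg_one]
  -- all four occur
  haveI : Fintype R := Fintype.ofFinite R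
  let img : Finset R := (Finset.univ.filter (fun e : R => e ∈ E)).image (fun e : R => e * (a : R) * e⁻¹)
  have hbig : 4 ≤ img.card := by
    have hEc : (Finset.univ.filter (fun e : R => e ∈ E)).card = 8 := by
      rw [← hE8, Nat.card_eq_fintype_card, Fintype.card_subtype]
    have hfib : ∀ y ∈ img, ((Finset.univ.filter (fun e : R => e ∈ E)).filter (fun e : R => e * (a : R) * e⁻¹ = y)).card ≤ 2 := by
      intro y hy
      obtain ⟨e, he, rfl⟩ := Finset.mem_image.mp hy
      simp only [Finset.mem_filter, Finset.mem_univ, true_and] at he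
      refine (Finset.card_le_card (t := ({e, e * z} : Finset R)) fun f hf => ?_).trans Finset.card_le_two
      simp only [Finset.mem_filter, Finset.mem_univ, true_and] at hf
      have h1 : (e⁻¹ * f) * (a : R) * (e⁻¹ * f)⁻¹ = (a : R) := by
        calc (e⁻¹ * f) * (a : R) * (e⁻¹ * f)⁻¹ = e⁻¹ * (f * (a : R) * f⁻¹) * e := by group
          _ = e⁻¹ * (e * (a : R) * e⁻¹) * e := by rw [hf.2]
          _ = (a : R) := by group
      rcases huniq _ (hcen h1) (hE _ (mul_mem (inv_mem he) hf.1)) with h | h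
      · rw [inv_mul_eq_one] at h; simp [h]
      · rw [inv_mul_eq_iff_eq_mul] at h; simp [h]
    have := Finset.card_le_mul_card_image _ 2 hfib
    rw [hEc] at this
    exact Nat.le_of_mul_le_mul_left (show 2 * 4 ≤ 2 * img.card from (show (8 : ℕ) ≤ _ from this)) two_pos
  have hsub : img ⊆ ({(a : R), (a : R)⁻¹, (a : R) * z, (a : R)⁻¹ * z} : Finset R) := by
    intro y hy
    obtain ⟨e, he, rfl⟩ := Finset.mem_image.mp hy
    simp only [Finset.mem_filter, Finset.mem_univ, true_and] at he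
    simpa using hfour e he
  have heq := Finset.eq_of_subset_of_card_le hsub (Finset.card_le_four.trans hbig)
  have hdist : ({(a : R), (a : R)⁻¹, (a : R) * z, (a : R)⁻¹ * z} : Finset R).card = 4 :=
    le_antisymm Finset.card_le_four (hbig.trans (Finset.card_le_card hsub))
  have ha2 : (a : R) * a ≠ 1 ∧ (a : R) * a ≠ z := by
    constructor <;> intro h
    · rw [inv_eq_of_mul_eq_one_right h] at hdist
      have : ({(a : R), (a : R), (a : R) * z, (a : R) * z} : Finset R).card ≤ 2 :=
        (Finset.card_le_card (t := ({(a : R), (a : R) * z} : Finset R)) (fun y hy => by simp at hy ⊢; tauto)).trans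
          Finset.card_le_two
      omega
    · have h1 : (a : R)⁻¹ = (a : R) * z := by rw [← h]; exact inv_eq_of_mul_eq_one_right (by rw [← mul_assoc, h, hz2])
      have h2 : (a : R)⁻¹ * z = (a : R) := by rw [h1, mul_assoc, hz2, mul_one]
      rw [h2, h1] at hdist
      have : ({(a : R), (a : R) * z, (a : R) * z, (a : R)} : Finset R).card ≤ 2 :=
        (Finset.card_le_card (t := ({(a : R), (a : R) * z} : Finset R)) (fun y hy => by simp at hy ⊢; tauto)).trans
          Finset.card_le_two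
      omega
  obtain ⟨e, he, hea⟩ := Finset.mem_image.mp (heq.ge (show (a : R) * z ∈ _ by simp))
  simp only [Finset.mem_filter, Finset.mem_univ, true_and] at he
  have hee : e * e = 1 := by rw [← pow_two, hE e he]
  have heA : e ∉ A := fun h => by
    rw [hAcomm e h a a.2, mul_inv_cancel_right, left_eq_mul] at hea
    exact hz1 hea
  have hze : (z : R) * e = e * z := ((mul_inv_eq_iff_eq_mul.mp (hzc e))).symm
  -- every conjugate of `e` is `e` or `e z`
  have hconj : ∀ s : R, s * e * s⁻¹ = e ∨ s * e * s⁻¹ = e * z := by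
    intro s
    set c := s * e * s⁻¹ with hc
    obtain ⟨j, hj⟩ := hgen _ (hAn.conj_mem _ a.2 s⁻¹)
    have hsas : s * (a : R) ^ j * s⁻¹ = a := by rw [hj]; group
    have h1 : c * a * c⁻¹ = a * (z : R) ^ j := by
      calc c * a * c⁻¹ = c * (s * (a : R) ^ j * s⁻¹) * c⁻¹ := by rw [hsas]
        _ = s * (e * (a : R) ^ j * e⁻¹) * s⁻¹ := by rw [hc]; group
        _ = s * ((a : R) ^ j * (z : R) ^ j) * s⁻¹ := by
          rw [← conj_zpow, hea, Commute.mul_zpow (hAcomm _ a.2 _ z.2)]
        _ = (s * (a : R) ^ j * s⁻¹) * (s * (z : R) ^ j * s⁻¹) := by group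
        _ = a * (z : R) ^ j := by rw [hsas, ← conj_zpow, hzc]
    have hzj : (z : R) ^ j = z := by
      rcases huniq ((z : R) ^ j) (zpow_mem z.2 j) (by
        rw [← zpow_natCast, ← zpow_mul, mul_comm, zpow_mul, zpow_natCast, hzW.2, one_zpow]) with h | h
      · rw [h, mul_one] at h1
        refine absurd ?_ heA
        have h2 := hAn.conj_mem _ (hcen h1) s⁻¹
        rwa [hc, show s⁻¹ * (s * e * s⁻¹) * s⁻¹⁻¹ = e by group] at h2
      · exact h
    rw [hzj] at h1
    have h2 : e⁻¹ * c ∈ A := hcen (by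
      calc e⁻¹ * c * a * (e⁻¹ * c)⁻¹ = e⁻¹ * (c * a * c⁻¹) * e := by group
        _ = e⁻¹ * (e * a * e⁻¹) * e := by rw [h1, hea]
        _ = a := by group)
    obtain ⟨i, hi⟩ := hgen _ h2
    have hcsq : c * c = 1 := by
      rw [hc]
      calc s * e * s⁻¹ * (s * e * s⁻¹) = s * (e * e) * s⁻¹ := by group
        _ = 1 := by rw [hee, mul_one, mul_inv_cancel]
    have hce : c = e * (a : R) ^ i := by rw [hi, mul_inv_cancel_left]
    have h3 : (a : R) ^ (i + i) * (z : R) ^ i = 1 := by
      have hinv : e⁻¹ = e := inv_eq_of_mul_eq_one_right hee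
      rw [← hcsq, hce]
      calc (a : R) ^ (i + i) * (z : R) ^ i = ((a : R) * z) ^ i * (a : R) ^ i := by
            rw [Commute.mul_zpow (hAcomm _ a.2 _ z.2), _root_.zpow_add, mul_assoc, mul_assoc,
              hAcomm _ (zpow_mem a.2 i) _ (zpow_mem z.2 i)]
        _ = (e * a * e⁻¹) ^ i * (a : R) ^ i := by rw [hea]
        _ = e * (a : R) ^ i * e⁻¹ * (a : R) ^ i := by rw [conj_zpow]
        _ = e * (a : R) ^ i * (e * (a : R) ^ i) := by rw [hinv]; group
    have hi2 : (a : R) ^ (i + i) = 1 := by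
      rcases Int.even_or_odd i with ⟨l, hl⟩ | ⟨l, hl⟩
      · rwa [show (z : R) ^ i = 1 by rw [hl, _root_.zpow_add, ← Commute.mul_zpow (Commute.refl _), hz2, one_zpow],
          mul_one] at h3
      · exfalso
        have hzi : (z : R) ^ i = z := by
          rw [hl, _root_.zpow_add, zpow_mul, show (z : R) ^ (2 : ℤ) = 1 by rw [zpow_two, hz2], one_zpow, one_mul, zpow_one]
        rw [hzi] at h3
        have h4 : (a : R) ^ (4 * i) = 1 := by
          have h5 : (a : R) ^ (i + i) = z := by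
            rw [eq_inv_of_mul_eq_one_left h3]; exact inv_eq_of_mul_eq_one_right hz2
          rw [show 4 * i = (i + i) + (i + i) by ring, _root_.zpow_add, h5, hz2]
        obtain ⟨m, hm⟩ := IsPGroup.iff_orderOf.mp hR (a : R)
        have h6 := orderOf_dvd_iff_zpow_eq_one.mpr h4
        rw [hm] at h6
        push_cast at h6
        have h7 : (2 : ℤ) ^ m ∣ 4 := IsCoprime.dvd_of_dvd_mul_right
          (IsCoprime.pow_left ⟨-l, 1, by rw [hl]; ring⟩) h6
        have h8 : ((a : R) * a) ^ 2 = 1 := by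
          rw [← pow_two, ← pow_mul]
          refine orderOf_dvd_iff_pow_eq_one.mp ?_
          rw [hm]
          exact_mod_cast h7
        rcases huniq _ (mul_mem a.2 a.2) h8 with h | h
        exacts [ha2.1 h, ha2.2 h]
    rcases huniq _ (zpow_mem a.2 i) (by rw [pow_two, ← _root_.zpow_add, hi2]) with h | h
    · left; rw [hce, h, mul_one]
    · right; rw [hce, h]
  let U : Subgroup R :=
    { carrier := {1, (z : R), e, e * z}
      one_mem' := by simp
      mul_mem' := by
        have r1 : (z : R) * (e * z) = e := by rw [← mul_assoc, hze, mul_assoc, hz2, mul_one]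
        have r2 : e * (e * z) = z := by rw [← mul_assoc, hee, one_mul]
        have r3 : e * z * z = e := by rw [mul_assoc, hz2, mul_one]
        have r4 : e * z * e = z := by rw [mul_assoc, hze, r2]
        have r5 : e * z * (e * z) = 1 := by rw [← mul_assoc, r4, hz2]
        rintro x y (rfl | rfl | rfl | rfl) (rfl | rfl | rfl | rfl) <;>
          simp [hz2, hee, hze, r1, r2, r3, r4, r5]
      inv_mem' := by
        rintro x (rfl | rfl | rfl | rfl)
        · simp
        · rw [inv_eq_of_mul_eq_one_right hz2]; simp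
        · rw [inv_eq_of_mul_eq_one_right hee]; simp
        · rw [mul_inv_rev, inv_eq_of_mul_eq_one_right hz2, inv_eq_of_mul_eq_one_right hee, hze]; simp }
  have hUmem : ∀ x, x ∈ U ↔ x = 1 ∨ x = z ∨ x = e ∨ x = e * z := fun x => Iff.rfl
  haveI : U.Normal := ⟨fun x hx s => by
    rw [hUmem] at hx ⊢
    rcases hx with rfl | rfl | rfl | rfl
    · simp
    · exact Or.inr (Or.inl (hzc s))
    · exact Or.inr (Or.inr (hconj s))
    · rw [show s * (e * z) * s⁻¹ = s * e * s⁻¹ * (s * z * s⁻¹) by group, hzc]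
      rcases hconj s with h | h
      · rw [h]; exact Or.inr (Or.inr (Or.inr rfl))
      · rw [h, mul_assoc, hz2, mul_one]; exact Or.inr (Or.inr (Or.inl rfl))⟩
  have hUc : Nat.card U = 4 := by
    rw [← SetLike.coe_sort_coe, Nat.card_coe_set_eq]
    show ({1, (z : R), e, e * z} : Set R).ncard = 4
    have d1 : e ≠ 1 := fun h => heA (h ▸ one_mem A)
    have d2 : (z : R) ≠ e := fun h => heA (h ▸ z.2)
    have d3 : e * z ≠ 1 := fun h => d2 (by rw [← inv_eq_of_mul_eq_one_right hee, inv_eq_of_mul_eq_one_right h])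
    rw [Set.ncard_insert_of_notMem (by simp [Ne.symm hz1, Ne.symm d1, Ne.symm d3]),
      Set.ncard_insert_of_notMem (by simp [d2, Ne.symm d1, d1]), Set.ncard_pair (by simp [hz1])]
  obtain ⟨u, hu, hu2⟩ := hno U inferInstance hUc
  rw [hUmem] at hu
  rcases hu with rfl | rfl | rfl | rfl
  · exact hu2 (one_pow 2)
  · exact hu2 hzW.2
  · exact hu2 (by rw [pow_two, hee])
  · exact hu2 (by rw [Commute.mul_pow hze.symm, pow_two, hee, hzW.2, one_mul])

theorem rank_three_centralizer (hno : ∀ H : Subgroup G, H.index ≠ 2)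
    (hrank : ∃ E : Subgroup G, Nat.card E = 8 ∧ ∀ e ∈ E, e ^ 2 = 1) (x : G) (hx : orderOf x = 2) :
    ∃ E : Subgroup G, E ≤ Subgroup.centralizer ({x} : Set G) ∧ Nat.card E = 8 ∧ ∀ e ∈ E, e ^ 2 = 1 := by
  classical
  haveI : Fact (Nat.Prime 2) := ⟨Nat.prime_two⟩
  obtain ⟨E, hE8, hE⟩ := hrank
  obtain ⟨S, hES⟩ := (IsPGroup.of_card (p := 2) (n := 3) (by simpa using hE8) : IsPGroup 2 E).exists_le_sylow
  obtain ⟨U', hU', hU'4, hU'2⟩ := exists_normal_four S.2 (E.subgroupOf S)
    (by rw [Nat.card_congr (Subgroup.subgroupOfEquivOfLe hES).toEquiv, hE8]) (fun e he => Subtype.ext (hE _ he))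
  set U := U'.map (S : Subgroup G).subtype with hU
  have hUS : U ≤ S := Subgroup.map_subtype_le _
  have hU4 : Nat.card U = 4 := by rw [hU, Subgroup.card_map_of_injective (Subgroup.subtype_injective _), hU'4]
  have hU2 : ∀ u ∈ U, u ^ 2 = 1 := by
    rintro _ ⟨u, hu, rfl⟩
    rw [← map_pow, hU'2 u hu, map_one]
  have hUn : ∀ s ∈ (S : Subgroup G), ∀ u ∈ U, s * u * s⁻¹ ∈ U := by
    rintro s hs _ ⟨u, hu, rfl⟩
    exact ⟨(⟨s, hs⟩ : (S : Subgroup G)) * u * (⟨s, hs⟩ : (S : Subgroup G))⁻¹, hU'.conj_mem u hu _, rfl⟩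
  set T := (S : Subgroup G) ⊓ Subgroup.centralizer (U : Set G) with hT
  have hUT : U ≤ T := le_inf hUS fun u hu v hv => commute_of_exp_two hU2 hv hu
  -- a central involution in `U`
  obtain ⟨z, hz1, hzU, hzc⟩ : ∃ z, z ≠ 1 ∧ z ∈ U ∧ ∀ s ∈ (S : Subgroup G), s * z = z * s := by
    haveI : Group.IsNilpotent (S : Subgroup G) := S.2.isNilpotent
    haveI := hU'
    obtain ⟨w, hw, hw1⟩ := (Subgroup.bot_or_exists_ne_one _).resolve_left
      (CfsgLib.inf_center_ne_bot_of_nilpotent (N := U') (fun e => by rw [e, Subgroup.card_bot] at hU'4; omega))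
    refine ⟨w, fun e => hw1 (Subtype.ext e), ⟨w, hw.1, rfl⟩, fun s hs => ?_⟩
    exact congrArg Subtype.val (Subgroup.mem_center_iff.mp hw.2 ⟨s, hs⟩)
  obtain ⟨u, huU, hu1, huz⟩ : ∃ u ∈ U, u ≠ 1 ∧ u ≠ z := by
    by_contra h
    push Not at h
    have hsub : (U : Set G) ⊆ {1, z} := fun u hu => by
      by_cases h1 : u = 1
      · exact Or.inl h1
      · exact Or.inr (h u hu h1)
    have := (Set.ncard_le_ncard hsub (Set.toFinite _)).trans (Set.ncard_insert_le _ _)
    rw [← Nat.card_coe_set_eq, Set.ncard_singleton] at this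
    exact absurd (hU4 ▸ this : (4 : ℕ) ≤ 1 + 1) (by norm_num)
  have hUeq : ∀ v ∈ U, v = 1 ∨ v = z ∨ v = u ∨ v = u * z := by
    have h4 : ({1, z, u, u * z} : Set G) = (U : Set G) := by
      refine Set.eq_of_subset_of_ncard_le ?_ ?_ (Set.toFinite _)
      · rintro v (rfl | rfl | rfl | rfl)
        exacts [U.one_mem, hzU, huU, mul_mem huU hzU]
      · rw [← Nat.card_coe_set_eq]
        show Nat.card U ≤ _
        have d3 : u * z ≠ 1 := fun e => huz (by
          have h1 := hU2 u huU; rw [pow_two] at h1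
          exact mul_left_cancel (h1.trans e.symm))
        rw [hU4, Set.ncard_insert_of_notMem (by simp [Ne.symm hz1, Ne.symm hu1, Ne.symm d3]),
          Set.ncard_insert_of_notMem (by simp [Ne.symm huz, hu1]), Set.ncard_pair (by simp [hz1])]
    intro v hv
    have : v ∈ ({1, z, u, u * z} : Set G) := h4.ge hv
    simpa using this
  have hTrel : T.relIndex (S : Subgroup G) ∣ 2 := by
    by_cases hall : (S : Subgroup G) ≤ T
    · rw [Subgroup.relIndex_eq_one.mpr hall]; exact one_dvd _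
    refine dvd_of_eq ?_
    rw [Subgroup.relIndex, Subgroup.index_eq_two_iff]
    obtain ⟨s₀, hs₀, hs₀T⟩ := SetLike.not_le_iff_exists.mp hall
    have hcrit : ∀ s ∈ (S : Subgroup G), s ∈ T ↔ s * u * s⁻¹ = u := by
      intro s hs
      refine ⟨fun h => by rw [← (Subgroup.mem_inf.mp h).2 u huU, mul_inv_cancel_right],
        fun h => Subgroup.mem_inf.mpr ⟨hs, fun v hv => ?_⟩⟩
      have h1 : Commute s u := mul_inv_eq_iff_eq_mul.mp h
      have h2 : Commute s z := hzc s hs
      rcases hUeq v hv with rfl | rfl | rfl | rfl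
      exacts [(Commute.one_right s).symm.eq, h2.symm.eq, h1.symm.eq, (h1.mul_right h2).symm.eq]
    have hout : ∀ s ∈ (S : Subgroup G), s ∉ T → s * u * s⁻¹ = u * z := by
      intro s hs hsT
      rcases hUeq _ (hUn s hs u huU) with h | h | h | h
      · exact absurd (conj_eq_one_iff.mp h) hu1
      · have h' : s * u * s⁻¹ = s * z * s⁻¹ := by rw [h, hzc s hs, mul_inv_cancel_right]
        exact absurd (mul_left_cancel (mul_right_cancel h')) huz
      · exact absurd ((hcrit s hs).mpr h) hsT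
      · exact h
    refine ⟨⟨s₀, hs₀⟩, fun b => ?_⟩
    by_cases hb : (b : G) ∈ T
    · exact Or.inr ⟨hb, fun h => hs₀T (by simpa using T.mul_mem (T.inv_mem hb) h)⟩
    · refine Or.inl ⟨?_, hb⟩
      show (b : G) * s₀ ∈ T
      rw [hcrit _ (mul_mem b.2 hs₀)]
      have hzc' : (b : G) * z * (b : G)⁻¹ = z := by rw [hzc _ b.2, mul_inv_cancel_right]
      calc (b : G) * s₀ * u * ((b : G) * s₀)⁻¹ = b * (s₀ * u * s₀⁻¹) * (b : G)⁻¹ := by group
        _ = ((b : G) * u * (b : G)⁻¹) * ((b : G) * z * (b : G)⁻¹) := by rw [hout s₀ hs₀ hs₀T]; group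
        _ = u := by
          rw [hout _ b.2 hb, hzc', mul_assoc]
          have h1 := hU2 z hzU; rw [pow_two] at h1
          rw [h1, mul_one]
  -- every involution of `T` is in an `E₈`
  obtain ⟨w, hwT, hw2, hwU⟩ : ∃ w ∈ T, w ^ 2 = 1 ∧ w ∉ U := by
    by_contra h
    push Not at h
    have hETU : E ⊓ T ≤ U := fun w hw => h w hw.2 (hE w hw.1)
    have h4 : 4 ≤ Nat.card ↥(E ⊓ T) := by
      have h1 : (E ⊓ T).relIndex E ∣ 2 := by
        rw [Subgroup.inf_relIndex_left]
        rcases (Nat.dvd_prime Nat.prime_two).mp hTrel with e | e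
        · rw [Subgroup.relIndex_eq_one.mpr (hES.trans (Subgroup.relIndex_eq_one.mp e))]; exact one_dvd _
        · by_cases hET : E ≤ T
          · rw [Subgroup.relIndex_eq_one.mpr hET]; exact one_dvd _
          have h2 : T.relIndex E ≤ 2 := e ▸ Subgroup.relIndex_le_of_le_right hES (by rw [e]; norm_num)
          have h3 : T.relIndex E ≠ 0 := Subgroup.FiniteIndex.index_ne_zero
          rcases (show T.relIndex E = 1 ∨ T.relIndex E = 2 by omega) with e | e <;> simp [e]
      have h2 : (E ⊓ T).relIndex E * Nat.card ↥(E ⊓ T) = Nat.card E := by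
        rw [← Nat.card_congr (Subgroup.subgroupOfEquivOfLe (inf_le_left : E ⊓ T ≤ E)).toEquiv, mul_comm]
        exact Subgroup.card_mul_index _
      rw [hE8] at h2
      have h3 := Nat.le_of_dvd two_pos h1
      nlinarith
    have heq : E ⊓ T = U := Subgroup.eq_of_le_of_card_ge hETU (by rw [hU4]; exact h4)
    have hEle : E ≤ U := fun e he => hETU (Subgroup.mem_inf.mpr ⟨he, Subgroup.mem_inf.mpr ⟨hES he,
      fun v hv => commute_of_exp_two hE (heq.ge hv).1 he⟩⟩)
    have := Subgroup.card_le_of_le hEle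
    omega
  have hgood : ∀ t ∈ T, t ^ 2 = 1 → ∃ A : Subgroup G, A ≤ Subgroup.centralizer ({t} : Set G) ∧ Nat.card A = 8 ∧
      ∀ e ∈ A, e ^ 2 = 1 := by
    intro t htT ht
    obtain ⟨v, hvT, hv2, hvU, htv⟩ : ∃ v ∈ T, v ^ 2 = 1 ∧ v ∉ U ∧ (t ∈ U ∨ v = t) := by
      by_cases htU : t ∈ U
      · exact ⟨w, hwT, hw2, hwU, Or.inl htU⟩
      · exact ⟨t, htT, ht, htU, Or.inr rfl⟩
    have hvc : ∀ x ∈ U, x * v = v * x := fun x hx => (Subgroup.mem_inf.mp hvT).2 x hx
    have hvv : v * v = 1 := by rw [← pow_two, hv2]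
    let A : Subgroup G :=
      { carrier := {y | y ∈ U ∨ y * v ∈ U}
        one_mem' := Or.inl U.one_mem
        mul_mem' := by
          rintro a b (ha | ha) (hb | hb)
          · exact Or.inl (mul_mem ha hb)
          · exact Or.inr (by rw [mul_assoc]; exact mul_mem ha hb)
          · refine Or.inr ?_
            rw [mul_assoc, hvc b hb, ← mul_assoc]
            exact mul_mem ha hb
          · refine Or.inl ?_
            have h1 := mul_mem ha hb
            have h2 : a * b = a * v * (b * v) := by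
              rw [mul_assoc a v, ← hvc _ hb, mul_assoc b, hvv, mul_one]
            exact h2 ▸ h1
        inv_mem' := by
          rintro a (ha | ha)
          · exact Or.inl (inv_mem ha)
          · refine Or.inr ?_
            have h1 := inv_mem ha
            have h2 : a⁻¹ * v = (a * v)⁻¹ := by
              conv_lhs => rw [show a⁻¹ = v * (a * v)⁻¹ by group]
              rw [mul_assoc, hvc _ h1, ← mul_assoc, hvv, one_mul]
            rwa [h2] }
    have hA2 : ∀ e ∈ A, e ^ 2 = 1 := by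
      rintro e (he | he)
      · exact hU2 e he
      · have h1 : e = e * v * v := by rw [mul_assoc, hvv, mul_one]
        rw [h1, Commute.mul_pow (hvc _ he), hU2 _ he, hv2, one_mul]
    have hU_A : U ≤ A := fun y hy => Or.inl hy
    have hvA : v ∈ A := Or.inr (by rw [hvv]; exact U.one_mem)
    refine ⟨A, fun y hy => Subgroup.mem_centralizer_singleton_iff.mpr (commute_of_exp_two hA2 hy
      (htv.elim (fun h => hU_A h) fun h => h ▸ hvA)), ?_, hA2⟩
    have hidx : U.relIndex A = 2 := by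
      rw [Subgroup.relIndex, Subgroup.index_eq_two_iff]
      refine ⟨⟨v, hvA⟩, fun b => ?_⟩
      by_cases hb : (b : G) ∈ U
      · exact Or.inr ⟨hb, fun h => hvU (by simpa using U.mul_mem (U.inv_mem hb) h)⟩
      · exact Or.inl ⟨(show (b : G) ∈ U ∨ (b : G) * v ∈ U from b.2).resolve_left hb, hb⟩
    rw [← ((U.subgroupOf A).card_mul_index), Nat.card_congr (Subgroup.subgroupOfEquivOfLe hU_A).toEquiv, hU4]
    rw [Subgroup.relIndex] at hidx
    rw [hidx]
  -- every involution has a conjugate in `T`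
  obtain ⟨g, hg⟩ : ∃ g : G, g⁻¹ * x * g ∈ T := by
    by_cases hTS : T.relIndex (S : Subgroup G) = 1
    · obtain ⟨P, hP⟩ := (IsPGroup.of_card (p := 2) (n := 1)
        (by rw [Nat.card_zpowers, hx, pow_one]) : IsPGroup 2 (Subgroup.zpowers x)).exists_le_sylow
      obtain ⟨g, rfl⟩ := MulAction.exists_smul_eq G S P
      refine ⟨g, Subgroup.relIndex_eq_one.mp hTS ?_⟩
      have h1 := hP (Subgroup.mem_zpowers x)
      rw [Sylow.coe_subgroup_smul, Subgroup.mem_pointwise_smul_iff_inv_smul_mem] at h1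
      simpa [MulAut.smul_def] using h1
    · have hT2 := ((Nat.dvd_prime Nat.prime_two).mp hTrel).resolve_left hTS
      have hidx : T.index = 2 * (S : Subgroup G).index := by
        rw [← Subgroup.relIndex_mul_index (inf_le_left : T ≤ (S : Subgroup G)), hT2]
      by_contra hcon
      push Not at hcon
      obtain ⟨K, -, hK⟩ := CfsgLib.RankTwoSimple.exists_index_two T hidx
        (Nat.odd_iff.mpr (Nat.two_dvd_ne_zero.mp S.not_dvd_index)) (by rw [← pow_two, ← hx, pow_orderOf_eq_one]) hcon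
      exact hno K hK
  obtain ⟨A, hA, hA8, hA2⟩ := hgood _ hg (by
    rw [show g⁻¹ * x * g = g⁻¹ * x * g⁻¹⁻¹ by rw [inv_inv], conj_pow, ← hx, pow_orderOf_eq_one]; group)
  refine ⟨A.map (MulAut.conj g).toMonoidHom, ?_, ?_, ?_⟩
  · rintro _ ⟨y, hy, rfl⟩
    have h1 := Subgroup.mem_centralizer_singleton_iff.mp (hA hy)
    rw [Subgroup.mem_centralizer_singleton_iff]
    show g * y * g⁻¹ * x = x * (g * y * g⁻¹)
    calc g * y * g⁻¹ * x = g * (y * (g⁻¹ * x * g)) * g⁻¹ := by group
      _ = g * (g⁻¹ * x * g * y) * g⁻¹ := by rw [h1]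
      _ = x * (g * y * g⁻¹) := by group
  · rw [Subgroup.card_map_of_injective (f := (MulAut.conj g).toMonoidHom) (MulAut.conj g).injective, hA8]
  · rintro _ ⟨y, hy, rfl⟩
    rw [← map_pow, hA2 y hy, map_one]

end CfsgLib.RankThreeCent
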