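import Mathlib

/-! Conjugacy classes of `π`-elements in normal subgroups and quotients. -/

set_option autoImplicit false

namespace CfsgLib.ClassPiCount

universe u

variable {G : Type u} [Group G]

/-- Every prime divisor of the order lies in `π`. -/
def IsPiEl (π : Set ℕ) (g : G) : Prop := ∀ q : ℕ, q.Prime → q ∣ orderOf g → q ∈ π

theorem IsPiEl.of_dvd {H : Type*} [Group H] {π : Set ℕ} {g : G} {h : H} (hg : IsPiEl π g)
    (hd : orderOf h ∣ orderOf g) : IsPiEl π h := fun q hq hqh => hg q hq (hqh.trans hd)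

theorem IsPiEl.mul [Finite G] {π : Set ℕ} {a b : G} (ha : IsPiEl π a) (hb : IsPiEl π b) (hab : Commute a b) :
    IsPiEl π (a * b) := by
  intro q hq hd
  have h := (hd.trans hab.orderOf_mul_dvd_lcm).trans (Nat.lcm_dvd_mul _ _)
  exact (hq.dvd_mul.1 h).elim (ha q hq) (hb q hq)

theorem IsPiEl.inv {π : Set ℕ} {a : G} (ha : IsPiEl π a) : IsPiEl π a⁻¹ :=
  ha.of_dvd (by rw [orderOf_inv])

theorem coprime_of_pi {π : Set ℕ} {x b : G} (hx : IsPiEl π x) (hb : IsPiEl πᶜ b) :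
    Nat.Coprime (orderOf x) (orderOf b) :=
  Nat.coprime_of_dvd fun q hq h1 h2 => hb q hq h2 (hx q hq h1)

theorem mem_zpowers_of_pi [Finite G] {π : Set ℕ} {x b : G} (hx : IsPiEl π x) (hb : IsPiEl πᶜ b)
    (hc : Commute x b) : ∃ e : ℕ, (x * b) ^ e = x := by
  obtain ⟨e, he1, he0⟩ := Nat.chineseRemainder (coprime_of_pi hx hb) 1 0
  refine ⟨e, ?_⟩
  rw [hc.mul_pow, pow_eq_pow_iff_modEq.2 he1, pow_one, pow_eq_pow_iff_modEq.2 he0, pow_zero, mul_one]

theorem unique_parts [Finite G] {π : Set ℕ} {x b x' b' : G} (hx : IsPiEl π x) (hb : IsPiEl πᶜ b)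
    (hc : Commute x b) (hx' : IsPiEl π x') (hb' : IsPiEl πᶜ b') (hc' : Commute x' b')
    (he : x * b = x' * b') : x = x' ∧ b = b' := by
  obtain ⟨i, hi⟩ := mem_zpowers_of_pi hx hb hc
  obtain ⟨j, hj⟩ := mem_zpowers_of_pi hx' hb' hc'
  have hcx : Commute x x' := by
    rw [← hi, ← hj, he]; exact Commute.pow_pow_self _ i j
  have hcbx : Commute b x' := by
    have h : Commute (x * b) x' := by
      have h' := Commute.self_pow (x' * b') j
      rw [hj, ← he] at h'
      exact h'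
    have : b = x⁻¹ * (x * b) := by group
    rw [this]
    exact hcx.inv_left.mul_left h
  have hcb : Commute b b' := by
    have h : Commute b (x' * b') := by rw [← he]; exact hc.symm.mul_right (Commute.refl b)
    have : b' = x'⁻¹ * (x' * b') := by group
    rw [this]
    exact hcbx.inv_right.mul_right h
  have hk : x'⁻¹ * x = b' * b⁻¹ := by
    rw [eq_mul_inv_iff_mul_eq, mul_assoc, he, inv_mul_cancel_left]
  have h1 : IsPiEl π (x'⁻¹ * x) := hx'.inv.mul hx hcx.symm.inv_left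
  have h2 : IsPiEl πᶜ (x'⁻¹ * x) := by rw [hk]; exact hb'.mul hb.inv hcb.symm.inv_right
  have h3 : x'⁻¹ * x = 1 := by
    rw [← orderOf_eq_one_iff]
    exact Nat.eq_one_iff_not_exists_prime_dvd.2 fun q hq hd => h2 q hq hd (h1 q hq hd)
  refine ⟨(inv_mul_eq_one.1 h3).symm, ?_⟩
  rw [h3] at hk
  exact (mul_inv_eq_one.1 hk.symm).symm

open Classical in
theorem exists_parts [Finite G] (π : Set ℕ) (g : G) :
    ∃ i j : ℕ, IsPiEl π (g ^ i) ∧ IsPiEl πᶜ (g ^ j) ∧ g ^ i * g ^ j = g := by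
  have hn : orderOf g ≠ 0 := (orderOf_pos g).ne'
  set n := orderOf g with hndef
  set A := ∏ p ∈ n.primeFactors with p ∈ π, p ^ n.factorization p with hA
  set B := ∏ p ∈ n.primeFactors with ¬ p ∈ π, p ^ n.factorization p with hB
  have hAB : A * B = n := by
    rw [hA, hB, Finset.prod_filter_mul_prod_filter_not]
    exact (Nat.prod_factorization_eq_prod_primeFactors _).symm.trans (Nat.prod_factorization_pow_eq_self hn)
  have hprime : ∀ (s : Finset ℕ), s ⊆ n.primeFactors → ∀ q : ℕ, q.Prime →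
      q ∣ ∏ p ∈ s, p ^ n.factorization p → q ∈ s := by
    intro s hs q hq hd
    obtain ⟨p, hp, hqp⟩ := (Prime.dvd_finsetProd_iff hq.prime _).1 hd
    rwa [(Nat.prime_dvd_prime_iff_eq hq (Nat.prime_of_mem_primeFactors (hs hp))).1 (hq.dvd_of_dvd_pow hqp)]
  have hA' : ∀ q : ℕ, q.Prime → q ∣ A → q ∈ π := fun q hq hd =>
    (Finset.mem_filter.1 (hprime _ (Finset.filter_subset _ _) q hq hd)).2
  have hB' : ∀ q : ℕ, q.Prime → q ∣ B → q ∉ π := fun q hq hd =>
    (Finset.mem_filter.1 (hprime _ (Finset.filter_subset _ _) q hq hd)).2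
  have hcop : Nat.Coprime A B := Nat.coprime_of_dvd fun q hq h1 h2 => hB' q hq h2 (hA' q hq h1)
  obtain ⟨i, hi1, hi0⟩ := Nat.chineseRemainder hcop 1 0
  obtain ⟨j, hj0, hj1⟩ := Nat.chineseRemainder hcop 0 1
  have hiA : ∀ (C k : ℕ), C * (n / C) = n → k ≡ 0 [MOD n / C] → (g ^ k) ^ C = 1 := by
    intro C k hC hk
    rw [← pow_mul, ← orderOf_dvd_iff_pow_eq_one, ← hndef, mul_comm k C]
    obtain ⟨m, hm⟩ := Nat.modEq_zero_iff_dvd.1 hk
    exact ⟨m, by rw [hm, ← mul_assoc, hC]⟩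
  have hA0 : 0 < A := Nat.pos_of_ne_zero fun e => hn (by rw [← hAB, e, zero_mul])
  have hB0 : 0 < B := Nat.pos_of_ne_zero fun e => hn (by rw [← hAB, e, mul_zero])
  have hdA : n / A = B := by rw [← hAB, Nat.mul_div_cancel_left _ hA0]
  have hdB : n / B = A := by rw [← hAB, Nat.mul_div_cancel _ hB0]
  refine ⟨i, j, fun q hq hd => hA' q hq (hd.trans (orderOf_dvd_of_pow_eq_one
      (hiA A i (by rw [hdA, hAB]) (by rw [hdA]; exact hi0)))),
    fun q hq hd => hB' q hq (hd.trans (orderOf_dvd_of_pow_eq_one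
      (hiA B j (by rw [hdB, mul_comm, hAB]) (by rw [hdB]; exact hj0)))), ?_⟩
  rw [← pow_add]
  conv_rhs => rw [← pow_one g]
  rw [pow_eq_pow_iff_modEq, ← hndef, ← hAB]
  exact (Nat.modEq_and_modEq_iff_modEq_mul hcop).1 ⟨by simpa using hi1.add hj0, by simpa using hi0.add hj1⟩

/-- Commuting pairs with first member in a conjugation-closed set. -/
theorem card_pairs [Finite G] (π : Set ℕ) :
    Nat.card {p : G × G // IsPiEl π p.2 ∧ Commute p.1 p.2} =
      Nat.card {C : ConjClasses G // ∀ q : ℕ, q.Prime →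
        (∃ g : G, ConjClasses.mk g = C ∧ q ∣ orderOf g) → q ∈ π} * Nat.card G := by
  let X := {x : G // IsPiEl π x}
  letI : MulAction (ConjAct G) X :=
    { smul := fun g x => ⟨g • (x : G), x.2.of_dvd (by
        rw [ConjAct.smul_def]
        exact (SemiconjBy.orderOf_eq (ConjAct.ofConjAct g) (x := (x : G))
          (y := ConjAct.ofConjAct g * (x : G) * (ConjAct.ofConjAct g)⁻¹)
          (by unfold SemiconjBy; group)).symm.dvd)⟩
      one_smul := fun x => Subtype.ext (one_smul _ (x : G))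
      mul_smul := fun a b x => Subtype.ext (mul_smul a b (x : G)) }
  have e1 : {p : G × G // IsPiEl π p.2 ∧ Commute p.1 p.2} ≃ Σ g : ConjAct G, MulAction.fixedBy X g :=
    { toFun := fun p => ⟨ConjAct.toConjAct p.1.1, ⟨⟨p.1.2, p.2.1⟩, Subtype.ext (by
        show ConjAct.toConjAct p.1.1 • p.1.2 = p.1.2
        rw [ConjAct.toConjAct_smul, p.2.2.eq, mul_inv_cancel_right])⟩⟩
      invFun := fun s => ⟨(ConjAct.ofConjAct s.1, (s.2.1 : G)), s.2.1.2, by
        have h : s.1 • (s.2.1 : G) = s.2.1 := congrArg Subtype.val s.2.2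
        rw [ConjAct.smul_def, mul_inv_eq_iff_eq_mul] at h
        exact h⟩
      left_inv := fun p => rfl
      right_inv := fun s => rfl }
  have e2 : Quotient (MulAction.orbitRel (ConjAct G) X) ≃ {C : ConjClasses G // ∀ q : ℕ, q.Prime →
      (∃ g : G, ConjClasses.mk g = C ∧ q ∣ orderOf g) → q ∈ π} := by
    refine Equiv.ofBijective (Quotient.lift (fun x : X => ⟨ConjClasses.mk (x : G), fun q hq ⟨g, hg, hd⟩ => ?_⟩) ?_)
      ⟨?_, ?_⟩
    · obtain ⟨c, hc⟩ := ConjClasses.mk_eq_mk_iff_isConj.1 hg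
      exact x.2 q hq (hc.orderOf_eq ▸ hd)
    · rintro x y ⟨g, hg⟩
      refine Subtype.ext (ConjClasses.mk_eq_mk_iff_isConj.2 (isConj_iff.2 ⟨(ConjAct.ofConjAct g)⁻¹, ?_⟩))
      rw [← show g • (y : G) = x from congrArg Subtype.val hg, ConjAct.smul_def]
      group
    · intro a b
      induction a using Quotient.inductionOn with | h x => ?_
      induction b using Quotient.inductionOn with | h y => ?_
      intro h
      obtain ⟨c, hc⟩ := isConj_iff.1 (ConjClasses.mk_eq_mk_iff_isConj.1 (congrArg Subtype.val h)).symm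
      exact Quotient.sound ⟨ConjAct.toConjAct c, Subtype.ext (by
        show ConjAct.toConjAct c • (y : G) = x
        rw [ConjAct.toConjAct_smul]; exact hc)⟩
    · rintro ⟨C, hC⟩
      induction C using Quotient.inductionOn with | h x => ?_
      exact ⟨Quotient.mk _ ⟨x, fun q hq hd => hC q hq ⟨x, rfl, hd⟩⟩, rfl⟩
  rw [Nat.card_congr (e1.trans ((MulAction.sigmaFixedByEquivOrbitsProdGroup (ConjAct G) X).trans
    (e2.prodCongr (ConjAct.ofConjAct (G := G)).toEquiv))), Nat.card_prod]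

open Classical in
/-- The `π`-classes of `G` are at most those of `N` times those of `G ⧸ N`. -/
theorem card_classes_le [Finite G] (N : Subgroup G) [N.Normal] (π : Set ℕ) :
    Nat.card {C : ConjClasses G // ∀ q : ℕ, q.Prime → (∃ g : G, ConjClasses.mk g = C ∧ q ∣ orderOf g) → q ∈ π} ≤
      Nat.card {C : ConjClasses N // ∀ q : ℕ, q.Prime → (∃ g : N, ConjClasses.mk g = C ∧ q ∣ orderOf g) → q ∈ π} *
      Nat.card {C : ConjClasses (G ⧸ N) //
        ∀ q : ℕ, q.Prime → (∃ g : (G ⧸ N), ConjClasses.mk g = C ∧ q ∣ orderOf g) → q ∈ π} := by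
  refine Nat.le_of_mul_le_mul_right ?_ (Nat.card_pos (α := G))
  have hG : Nat.card G = Nat.card N * Nat.card (G ⧸ N) := by
    rw [Subgroup.card_eq_card_quotient_mul_card_subgroup N, mul_comm]
  conv_rhs => rw [hG, mul_mul_mul_comm, ← card_pairs π, ← card_pairs π]
  rw [← card_pairs π, ← Nat.card_prod]
  choose I J hI hJ hIJ using fun n : G => exists_parts (G := G) π n
  -- chosen representatives in a coset centralizing a given element
  let cen : G → G ⧸ N → G := fun a c =>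
    if h : ∃ r : G, (r : G ⧸ N) = c ∧ Commute r a then h.choose else 1
  have hcen : ∀ (a r : G), Commute r a → (cen a r : G ⧸ N) = (r : G ⧸ N) ∧ Commute (cen a r) a := by
    intro a r hr
    have h : ∃ r' : G, (r' : G ⧸ N) = (r : G ⧸ N) ∧ Commute r' a := ⟨r, rfl, hr⟩
    simp only [cen, dif_pos h]
    exact h.choose_spec
  let n' : {p : G × G // IsPiEl π p.2 ∧ Commute p.1 p.2} → G := fun p =>
    (cen p.1.2 p.1.1)⁻¹ * p.1.1
  have hn' : ∀ p, n' p ∈ N ∧ Commute (n' p) p.1.2 := fun p =>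
    ⟨QuotientGroup.eq.1 (hcen _ _ p.2.2).1, (hcen _ _ p.2.2).2.inv_left.mul_left p.2.2⟩
  have hxa : ∀ p, Commute p.1.2 (n' p ^ I (n' p)) ∧ Commute p.1.2 (n' p ^ J (n' p)) := fun p =>
    ⟨(hn' p).2.symm.pow_right _, (hn' p).2.symm.pow_right _⟩
  have hw : ∀ p, Commute (p.1.2 * n' p ^ J (n' p)) (n' p ^ I (n' p)) := fun p =>
    (hxa p).1.mul_left (Commute.pow_pow_self _ _ _)
  have hwmk : ∀ p, ((p.1.2 * n' p ^ J (n' p) : G) : G ⧸ N) = (p.1.2 : G ⧸ N) := fun p => by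
    rw [QuotientGroup.mk_mul, (QuotientGroup.eq_one_iff _).2 (pow_mem (hn' p).1 _), mul_one]
  let m : {p : G × G // IsPiEl π p.2 ∧ Commute p.1 p.2} → G := fun p =>
    (cen (n' p ^ I (n' p)) (p.1.2 : G ⧸ N))⁻¹ * (p.1.2 * n' p ^ J (n' p))
  have hm : ∀ p, m p ∈ N ∧ Commute (m p) (n' p ^ I (n' p)) := fun p => by
    have h := hcen _ _ (hw p)
    rw [hwmk p] at h
    exact ⟨QuotientGroup.eq.1 (by rw [h.1, hwmk p]), h.2.inv_left.mul_left (hw p)⟩
  let f : {p : G × G // IsPiEl π p.2 ∧ Commute p.1 p.2} →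
      {p : N × N // IsPiEl π p.2 ∧ Commute p.1 p.2} ×
        {p : (G ⧸ N) × (G ⧸ N) // IsPiEl π p.2 ∧ Commute p.1 p.2} := fun p =>
    (⟨(⟨m p, (hm p).1⟩, ⟨n' p ^ I (n' p), pow_mem (hn' p).1 _⟩),
      (hI (n' p)).of_dvd (by rw [Subgroup.orderOf_mk]), Subtype.ext (hm p).2⟩,
     ⟨((p.1.1 : G ⧸ N), (p.1.2 : G ⧸ N)), p.2.1.of_dvd (orderOf_map_dvd (QuotientGroup.mk' N) _),
      p.2.2.map (QuotientGroup.mk' N)⟩)
  refine Nat.card_le_card_of_injective f fun p q hpq => ?_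
  have h1 : m p = m q := congrArg (fun t => ((t.1.1.1 : N) : G)) hpq
  have h2 : n' p ^ I (n' p) = n' q ^ I (n' q) := congrArg (fun t => ((t.1.1.2 : N) : G)) hpq
  have h3 : (p.1.1 : G ⧸ N) = (q.1.1 : G ⧸ N) := congrArg (fun t => t.2.1.1) hpq
  have h4 : (p.1.2 : G ⧸ N) = (q.1.2 : G ⧸ N) := congrArg (fun t => t.2.1.2) hpq
  simp only [m, h2, h4] at h1
  obtain ⟨h5, h6⟩ := unique_parts p.2.1 (hJ _) (hxa p).2 q.2.1 (hJ _) (hxa q).2 (mul_left_cancel h1)
  have h7 : n' p = n' q := by rw [← hIJ (n' p), ← hIJ (n' q), h2, h6]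
  simp only [n', h5, h3] at h7
  exact Subtype.ext (Prod.ext (mul_left_cancel h7) h5)

end CfsgLib.ClassPiCount
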