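import Mathlib
import Cfsg.Prelude.Def_Transfer
import Cfsg.Agent.Lib.ClassPiCount

/-!
The number of classes of `π`-elements against the `π`-part of the group order.
-/

set_option autoImplicit false

namespace CfsgLib.ClassPiBound

open CfsgLib.ClassPiCount

universe u

variable {G : Type u} [Group G]

/-- The number of classes of `π`-elements. -/
noncomputable def cnt (π : Set ℕ) (G : Type u) [Group G] : ℕ :=
  Nat.card {c : ConjClasses G // ∀ x ∈ c.carrier, IsPiEl π x}

theorem isPiEl_conj {π : Set ℕ} {x y : G} (h : IsConj x y) (hx : IsPiEl π x) : IsPiEl π y := by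
  obtain ⟨g, rfl⟩ := isConj_iff.1 h
  exact hx.of_dvd (dvd_of_eq (by rw [← MulAut.conj_apply, MulEquiv.orderOf_eq]))

/-- The class of a `π`-element. -/
def piClass {π : Set ℕ} (x : G) (hx : IsPiEl π x) : {c : ConjClasses G // ∀ x ∈ c.carrier, IsPiEl π x} :=
  ⟨ConjClasses.mk x, fun _ hy => isPiEl_conj (ConjClasses.mk_eq_mk_iff_isConj.1 (ConjClasses.mem_carrier_iff_mk_eq.1 hy).symm) hx⟩

theorem isPiEl_singleton [Finite G] {p : ℕ} (hp : p.Prime) {x : G} :
    IsPiEl {p} x ↔ ∃ k : ℕ, orderOf x = p ^ k := by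
  refine ⟨fun h => ⟨_, Nat.eq_prime_pow_of_unique_prime_dvd (orderOf_pos x).ne' fun {d} hd hdx => h d hd hdx⟩, ?_⟩
  rintro ⟨k, hk⟩ q hq hd
  rw [hk] at hd
  exact (Nat.prime_dvd_prime_iff_eq hq hp).1 (hq.dvd_of_dvd_pow hd)

theorem two_mul_card_range {α β : Type*} [Finite α] (f : α → β) (S : Set α)
    (h : ∀ x ∉ S, ∃ y, y ≠ x ∧ f y = f x) : 2 * Nat.card (Set.range f) ≤ Nat.card α + Nat.card S := by
  classical
  haveI := Fintype.ofFinite α
  rw [Nat.card_eq_fintype_card (α := α), Nat.card_coe_set_eq, ← Finset.card_univ,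
    Set.ncard_eq_toFinset_card', Set.toFinset_range, Nat.card_coe_set_eq, Set.ncard_eq_toFinset_card',
    Finset.card_eq_sum_card_image f Finset.univ,
    Finset.card_eq_sum_card_fiberwise (f := f) (s := S.toFinset) (t := Finset.univ.image f)
      (fun x _ => Finset.mem_coe.2 (Finset.mem_image_of_mem _ (Finset.mem_univ x))),
    ← Finset.sum_add_distrib, mul_comm, ← smul_eq_mul]
  refine Finset.card_nsmul_le_sum _ _ 2 fun b hb => ?_
  obtain ⟨x, -, rfl⟩ := Finset.mem_image.1 hb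
  by_cases hx : x ∈ S
  · have h1 : 0 < (Finset.univ.filter fun a => f a = f x).card := Finset.card_pos.2 ⟨x, by simp⟩
    have h2 : 0 < (S.toFinset.filter fun a => f a = f x).card := Finset.card_pos.2 ⟨x, by simp [hx]⟩
    omega
  · obtain ⟨y, hyx, hy⟩ := h x hx
    have h1 : 1 < (Finset.univ.filter fun a => f a = f x).card :=
      Finset.one_lt_card.2 ⟨y, by simp [hy], x, by simp, hyx⟩
    omega

variable {p : ℕ} [Fact p.Prime]

theorem isPiEl_of_mem_sylow [Finite G] (P : Sylow p G) (x : (P : Subgroup G)) : IsPiEl {p} (x : G) := by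
  obtain ⟨k, hk⟩ := IsPGroup.iff_orderOf.1 P.isPGroup' x
  exact (isPiEl_singleton (Fact.out)).2 ⟨k, by rw [Subgroup.orderOf_coe, hk]⟩

theorem sylowClass_surjective [Finite G] (P : Sylow p G) :
    Function.Surjective fun x : (P : Subgroup G) => piClass (x : G) (isPiEl_of_mem_sylow P x) := by
  rintro ⟨c, hc⟩
  obtain ⟨y, rfl⟩ := ConjClasses.exists_rep c
  obtain ⟨k, hk⟩ := (isPiEl_singleton (Fact.out : p.Prime)).1 (hc y (ConjClasses.mem_carrier_mk))
  obtain ⟨Q, hQ⟩ := (IsPGroup.of_card (p := p) (n := k) (by rw [Nat.card_zpowers, hk]) : IsPGroup p (Subgroup.zpowers y)).exists_le_sylow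
  obtain ⟨g, hg⟩ := MulAction.exists_smul_eq G Q P
  have hmem : g * y * g⁻¹ ∈ (P : Subgroup G) := by
    rw [← hg]
    exact ⟨y, hQ (Subgroup.mem_zpowers y), rfl⟩
  exact ⟨⟨_, hmem⟩, Subtype.ext (ConjClasses.mk_eq_mk_iff_isConj.2 (isConj_iff.2 ⟨g⁻¹, by simp [mul_assoc]⟩))⟩

theorem cnt_le_sylow [Finite G] (P : Sylow p G) : cnt {p} G ≤ Nat.card (P : Subgroup G) :=
  Nat.card_le_card_of_surjective _ (sylowClass_surjective P)

theorem two_mul_cnt_le [Finite G] (P : Sylow p G) :
    2 * cnt {p} G ≤ Nat.card (P : Subgroup G) +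
      Nat.card ↥((P : Subgroup G) ⊓ Subgroup.centralizer (Subgroup.normalizer ((P : Subgroup G) : Set G) : Set G)) := by
  set F := (P : Subgroup G) ⊓ Subgroup.centralizer (Subgroup.normalizer ((P : Subgroup G) : Set G) : Set G)
  let f := fun x : (P : Subgroup G) => piClass (x : G) (isPiEl_of_mem_sylow P x)
  have h := two_mul_card_range f (F.subgroupOf (P : Subgroup G) : Set (P : Subgroup G)) ?_
  · rw [(sylowClass_surjective P).range_eq, Nat.card_coe_set_eq, Set.ncard_univ] at h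
    refine h.trans (le_of_eq ?_)
    rw [SetLike.coe_sort_coe, Nat.card_congr (Subgroup.subgroupOfEquivOfLe (inf_le_left : F ≤ (P : Subgroup G))).toEquiv]
  intro x hx
  obtain ⟨n, hn, hne⟩ : ∃ n ∈ Subgroup.normalizer ((P : Subgroup G) : Set G), n * x ≠ x * n := by
    by_contra hall
    push Not at hall
    exact hx (Subgroup.mem_inf.2 ⟨x.2, fun n hn => hall n hn⟩)
  refine ⟨⟨n * x * n⁻¹, (Subgroup.mem_normalizer_iff.1 hn _).1 x.2⟩,
    fun e => hne (mul_inv_eq_iff_eq_mul.1 (congrArg Subtype.val e)), ?_⟩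
  exact Subtype.ext (ConjClasses.mk_eq_mk_iff_isConj.2 (isConj_iff.2 ⟨n⁻¹, by group⟩))

theorem centralizes_normalizer [Finite G] (P : Sylow p G)
    (h : (p + 1) * Nat.card (P : Subgroup G) < 2 * p * cnt {p} G) :
    Subgroup.normalizer ((P : Subgroup G) : Set G) ≤ Subgroup.centralizer ((P : Subgroup G) : Set G) := by
  have hp := (Fact.out : p.Prime)
  set F := (P : Subgroup G) ⊓ Subgroup.centralizer (Subgroup.normalizer ((P : Subgroup G) : Set G) : Set G)
  rw [Subgroup.le_centralizer_iff]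
  by_contra hne
  obtain ⟨i, hi⟩ := IsPGroup.iff_card.1 P.isPGroup'
  obtain ⟨j, hjle, hj⟩ := (Nat.dvd_prime_pow hp).1 (hi ▸ Subgroup.card_dvd_of_le (inf_le_left : F ≤ (P : Subgroup G)))
  have hji : j ≠ i := fun e => hne ((Subgroup.eq_of_le_of_card_ge (inf_le_left : F ≤ (P : Subgroup G))
    (by rw [hi, hj, e])).ge.trans inf_le_right)
  have h1 := two_mul_cnt_le P
  rw [hi] at h1 h
  rw [hj] at h1
  have h2 : p * p ^ j ≤ p ^ i := by
    rw [← pow_succ']; exact Nat.pow_le_pow_right hp.pos (by omega)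
  have h3 : 2 * p * cnt {p} G ≤ (p + 1) * p ^ i :=
    calc 2 * p * cnt {p} G = p * (2 * cnt {p} G) := by ring
      _ ≤ p * (p ^ i + p ^ j) := Nat.mul_le_mul_left p h1
      _ = p * p ^ i + p * p ^ j := by ring
      _ ≤ p * p ^ i + p ^ i := by omega
      _ = _ := by ring
  omega

theorem hasNormalPComplement_of_lt [Finite G] (P : Sylow p G)
    (h : (p + 1) * Nat.card (P : Subgroup G) < 2 * p * cnt {p} G) :
    Cfsg.HasNormalPComplement p G ∧ IsMulCommutative (P : Subgroup G) := by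
  have hc := centralizes_normalizer P h
  exact ⟨⟨P, _, inferInstance, MonoidHom.ker_transferSylow_isComplement' P hc⟩,
    ⟨⟨fun a b => Subtype.ext (hc (Subgroup.le_normalizer b.2) a a.2)⟩⟩⟩

theorem cnt_eq_of_complement [Finite G] (P : Sylow p G) (hab : IsMulCommutative (P : Subgroup G))
    (hcompl : Cfsg.HasNormalPComplement p G) : cnt {p} G = Nat.card (P : Subgroup G) := by
  obtain ⟨Q, N, hN, hc⟩ := hcompl
  haveI := hN
  haveI := hab
  set q := QuotientGroup.mk' N
  let f : (P : Subgroup G) →* G ⧸ N := q.comp (P : Subgroup G).subtype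
  have hker : ∀ x ∈ (P : Subgroup G), x ∈ N → x = 1 := by
    intro x hx hxN
    have hcop : (Nat.card N).Coprime (Nat.card (P : Subgroup G)) := by
      rw [show Nat.card (P : Subgroup G) = Nat.card (Q : Subgroup G) by rw [P.card_eq_multiplicity, Q.card_eq_multiplicity]]
      have h1 : ¬ p ∣ Nat.card N := by rw [← hc.index_eq_card]; exact Q.not_dvd_index
      obtain ⟨i, hi⟩ := IsPGroup.iff_card.1 Q.isPGroup'
      rw [hi]
      exact ((Fact.out : p.Prime).coprime_iff_not_dvd.2 h1).symm.pow_right i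
    rw [← orderOf_eq_one_iff]
    exact Nat.eq_one_of_dvd_coprimes hcop (Subgroup.orderOf_dvd_natCard N hxN) (Subgroup.orderOf_dvd_natCard _ hx)
  have hsurj : Function.Surjective f := by
    have hinj : Function.Injective f := (injective_iff_map_eq_one f).2 fun x hx =>
      Subtype.ext (hker x x.2 ((QuotientGroup.eq_one_iff (x : G)).1 hx))
    refine ((Nat.bijective_iff_injective_and_card f).2 ⟨hinj, ?_⟩).2
    rw [← Subgroup.index_eq_card, hc.symm.index_eq_card, P.card_eq_multiplicity, Q.card_eq_multiplicity]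
  refine (Nat.card_eq_of_bijective _ ⟨fun x y hxy => ?_, sylowClass_surjective P⟩).symm
  obtain ⟨g, hg⟩ := isConj_iff.1 (ConjClasses.mk_eq_mk_iff_isConj.1 (congrArg Subtype.val hxy))
  obtain ⟨z, hz⟩ := hsurj (q g)
  have h1 : q ((x : G)⁻¹ * y) = 1 := by
    rw [← hg, map_mul, map_mul, map_mul, ← hz, map_inv, map_inv, ← hz]
    show (f x)⁻¹ * (f z * f x * (f z)⁻¹) = 1
    rw [← map_inv, ← map_inv, ← map_mul, ← map_mul, ← map_mul, mul_comm' z x, mul_assoc x, mul_inv_cancel, mul_one,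
      inv_mul_cancel, map_one]
  exact Subtype.ext (inv_mul_eq_one.1 (hker _ (mul_mem (inv_mem x.2) y.2) ((QuotientGroup.eq_one_iff _).1 h1)))

theorem exists_sigma_surjective [Finite G] {r : ℕ} (π : Set ℕ) (hπ : r ∉ π) :
    cnt (insert r π) G ≤ ∑ᶠ c : {c : ConjClasses G // ∀ x ∈ c.carrier, IsPiEl ({r} : Set ℕ) x},
      cnt π ↥(Subgroup.centralizer ({Quotient.out c.1} : Set G)) := by
  classical
  haveI : Fintype {c : ConjClasses G // ∀ x ∈ c.carrier, IsPiEl ({r} : Set ℕ) x} := Fintype.ofFinite _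
  rw [finsum_eq_sum_of_fintype]
  unfold cnt
  rw [← Nat.card_sigma]
  have hout : ∀ c : ConjClasses G, ConjClasses.mk (Quotient.out c) = c := fun c => Quotient.out_eq c
  have hmul : ∀ (c : {c : ConjClasses G // ∀ x ∈ c.carrier, IsPiEl ({r} : Set ℕ) x})
      (y : ↥(Subgroup.centralizer ({Quotient.out c.1} : Set G))), IsPiEl π y →
      IsPiEl (insert r π) (Quotient.out c.1 * (y : G)) := by
    intro c y hy
    refine IsPiEl.mul (fun q hq hd => Or.inl (c.2 _ (ConjClasses.mem_carrier_iff_mk_eq.2 (hout _)) q hq hd))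
      (fun q hq hd => Or.inr (hy q hq (by rwa [← Subgroup.orderOf_coe]))) ?_
    exact (Subgroup.mem_centralizer_singleton_iff.1 y.2).symm
  let F : (Σ c : {c : ConjClasses G // ∀ x ∈ c.carrier, IsPiEl ({r} : Set ℕ) x},
      {d : ConjClasses ↥(Subgroup.centralizer ({Quotient.out c.1} : Set G)) // ∀ y ∈ d.carrier, IsPiEl π y}) →
      {c : ConjClasses G // ∀ x ∈ c.carrier, IsPiEl (insert r π) x} := fun s =>
    piClass (Quotient.out s.1.1 * (Quotient.out s.2.1 : ↥(Subgroup.centralizer ({Quotient.out s.1.1} : Set G))))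
      (hmul _ _ (s.2.2 _ (ConjClasses.mem_carrier_iff_mk_eq.2 (Quotient.out_eq _))))
  refine Nat.card_le_card_of_surjective F ?_
  rintro ⟨e, he⟩
  obtain ⟨z, rfl⟩ := ConjClasses.exists_rep e
  have hz := he z ConjClasses.mem_carrier_mk
  obtain ⟨i, j, hi, hj, hij⟩ := exists_parts ({r} : Set ℕ) z
  have hjπ : IsPiEl π (z ^ j) := fun q hq hd =>
    (hz q hq (hd.trans (orderOf_pow_dvd j))).resolve_left (hj q hq hd)
  set c := piClass (π := ({r} : Set ℕ)) (z ^ i) hi with hc
  obtain ⟨g, hg⟩ := isConj_iff.1 (ConjClasses.mk_eq_mk_iff_isConj.1 (hout c.1).symm)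
  have hgj : g * z ^ j * g⁻¹ ∈ Subgroup.centralizer ({Quotient.out c.1} : Set G) := by
    rw [Subgroup.mem_centralizer_singleton_iff, ← hg, ← MulAut.conj_apply, ← MulAut.conj_apply, ← map_mul, ← map_mul,
      (Commute.pow_pow_self z j i).eq]
  set y : ↥(Subgroup.centralizer ({Quotient.out c.1} : Set G)) := ⟨g * z ^ j * g⁻¹, hgj⟩ with hy
  have hyπ : IsPiEl π y := by
    refine (isPiEl_conj (isConj_iff.2 ⟨g, rfl⟩) hjπ).of_dvd (dvd_of_eq ?_)
    rw [← Subgroup.orderOf_coe]
  refine ⟨⟨c, piClass y hyπ⟩, Subtype.ext ?_⟩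
  show ConjClasses.mk _ = ConjClasses.mk z
  obtain ⟨h, hh⟩ := isConj_iff.1 (ConjClasses.mk_eq_mk_iff_isConj.1
    (Quotient.out_eq (piClass (π := π) y hyπ).1 : ConjClasses.mk (Quotient.out (piClass (π := π) y hyπ).1) = ConjClasses.mk y))
  rw [ConjClasses.mk_eq_mk_iff_isConj, isConj_iff]
  refine ⟨g⁻¹ * (h : G), ?_⟩
  have hh' := congrArg Subtype.val hh
  simp only [Subgroup.coe_mul, InvMemClass.coe_inv] at hh'
  have hcom : (h : G) * Quotient.out c.1 * (h : G)⁻¹ = Quotient.out c.1 := by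
    rw [Subgroup.mem_centralizer_singleton_iff.1 h.2, mul_inv_cancel_right]
  set d : G := ↑(Quotient.out (piClass (π := π) y hyπ).1) with hd
  calc g⁻¹ * (h : G) * (Quotient.out c.1 * d) * (g⁻¹ * (h : G))⁻¹
      = g⁻¹ * (((h : G) * Quotient.out c.1 * (h : G)⁻¹) * ((h : G) * d * (h : G)⁻¹)) * g := by group
    _ = g⁻¹ * ((g * z ^ i * g⁻¹) * (g * z ^ j * g⁻¹)) * g := by rw [hcom, hh', hg]
    _ = z ^ i * z ^ j := by group
    _ = z := hij

theorem cnt_le_prod : ∀ (s : Finset ℕ), (∀ r ∈ s, r.Prime) → ∀ (H : Type u) [Group H] [Finite H],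
    cnt (↑s : Set ℕ) H ≤ ∏ r ∈ s, r ^ (Nat.card H).factorization r := by
  classical
  intro s
  induction s using Finset.induction_on with
  | empty =>
    intro _ H _ _
    rw [Finset.prod_empty]
    haveI : Subsingleton {c : ConjClasses H // ∀ x ∈ c.carrier, IsPiEl (↑(∅ : Finset ℕ) : Set ℕ) x} := by
      refine ⟨fun a b => Subtype.ext ?_⟩
      have key : ∀ c : {c : ConjClasses H // ∀ x ∈ c.carrier, IsPiEl (↑(∅ : Finset ℕ) : Set ℕ) x}, c.1 = ConjClasses.mk 1 := by
        rintro ⟨c, hc⟩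
        obtain ⟨x, rfl⟩ := ConjClasses.exists_rep c
        have h1 : x = 1 := orderOf_eq_one_iff.1 (Nat.eq_one_iff_not_exists_prime_dvd.2 fun q hq hd => by
          simpa using hc x ConjClasses.mem_carrier_mk q hq hd)
        show ConjClasses.mk x = _
        rw [h1]
      rw [key a, key b]
    exact Finite.card_le_one_iff_subsingleton.2 inferInstance
  | insert r s hrs ih =>
    intro hs H _ _
    haveI : Fact r.Prime := ⟨hs r (Finset.mem_insert_self r s)⟩
    rw [Finset.coe_insert, Finset.prod_insert hrs]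
    refine (exists_sigma_surjective (r := r) _ (by simpa using hrs)).trans ?_
    haveI : Fintype {c : ConjClasses H // ∀ x ∈ c.carrier, IsPiEl ({r} : Set ℕ) x} := Fintype.ofFinite _
    rw [finsum_eq_sum_of_fintype]
    refine (Finset.sum_le_card_nsmul _ _ (∏ q ∈ s, q ^ (Nat.card H).factorization q) fun c _ => ?_).trans ?_
    · refine (ih (fun q hq => hs q (Finset.mem_insert_of_mem hq)) _).trans (Finset.prod_le_prod' fun q hq => ?_)
      refine Nat.pow_le_pow_right (hs q (Finset.mem_insert_of_mem hq)).pos ?_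
      exact (Nat.factorization_le_iff_dvd Nat.card_pos.ne' Nat.card_pos.ne').2 (Subgroup.card_subgroup_dvd_card _) q
    · rw [smul_eq_mul, Finset.card_univ, ← Nat.card_eq_fintype_card]
      refine Nat.mul_le_mul_right _ ?_
      obtain ⟨R⟩ : Nonempty (Sylow r H) := inferInstance
      exact (cnt_le_sylow R).trans R.card_eq_multiplicity.le

theorem cnt_le_single_mul [Finite G] {r : ℕ} (hr : r.Prime) (s : Finset ℕ) (hs : ∀ q ∈ s, q.Prime) (hrs : r ∈ s) :
    cnt (↑s : Set ℕ) G ≤ cnt {r} G * ∏ q ∈ s.erase r, q ^ (Nat.card G).factorization q := by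
  classical
  haveI : Fintype {c : ConjClasses G // ∀ x ∈ c.carrier, IsPiEl ({r} : Set ℕ) x} := Fintype.ofFinite _
  conv_lhs => rw [← Finset.insert_erase hrs, Finset.coe_insert]
  refine (exists_sigma_surjective (r := r) _ (by simp)).trans ?_
  rw [finsum_eq_sum_of_fintype]
  refine (Finset.sum_le_card_nsmul _ _ (∏ q ∈ s.erase r, q ^ (Nat.card G).factorization q) fun c _ => ?_).trans ?_
  · refine (cnt_le_prod _ (fun q hq => hs q (Finset.mem_of_mem_erase hq)) _).trans (Finset.prod_le_prod' fun q hq => ?_)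
    refine Nat.pow_le_pow_right (hs q (Finset.mem_of_mem_erase hq)).pos ?_
    exact (Nat.factorization_le_iff_dvd Nat.card_pos.ne' Nat.card_pos.ne').2 (Subgroup.card_subgroup_dvd_card _) q
  · rw [smul_eq_mul, Finset.card_univ, ← Nat.card_eq_fintype_card]
    exact le_rfl

end CfsgLib.ClassPiBound
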