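import Mathlib
import Cfsg.Agent.Lib.Eichler

/-! The subgroup generated by the reflections of one norm class. -/

set_option autoImplicit false

namespace CfsgLib.ClassReflections

open QuadraticMap CfsgLib.WittExtension Module CfsgLib.SpinorNorm CfsgLib.Eichler

variable {F V : Type*} [Field F] [AddCommGroup V] [Module F V] (Q : QuadraticForm F V)

/-- Reflections of norm class `c`. -/
def CRefl (c : F) : Set (quadIso Q) :=
  {g | ∃ (v : V) (hv : Q v ≠ 0), (∃ t : F, t ≠ 0 ∧ Q v = c * t ^ 2) ∧ g = refl Q hv}

instance closure_crefl_normal (c : F) : (Subgroup.closure (CRefl Q c)).Normal := by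
  rw [← Subgroup.normalizer_eq_top_iff, eq_top_iff]
  intro g _
  have key : ∀ g : quadIso Q, ∀ n ∈ Subgroup.closure (CRefl Q c),
      g * n * g⁻¹ ∈ Subgroup.closure (CRefl Q c) := by
    intro g n hn
    refine Subgroup.closure_induction (p := fun n _ => g * n * g⁻¹ ∈ Subgroup.closure (CRefl Q c)) ?_ ?_ ?_ ?_ hn
    · rintro s ⟨v, hv, ht, rfl⟩
      have hgv : Q (g.1 v) ≠ 0 := by rw [g.2]; exact hv
      exact Subgroup.subset_closure ⟨g.1 v, hgv, by rw [g.2]; exact ht, conj_refl Q g hv hgv⟩
    · simp
    · intro a b _ _ ha hb; simpa [mul_assoc] using mul_mem ha hb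
    · intro a _ ha; simpa [mul_assoc] using inv_mem ha
  rw [Subgroup.mem_normalizer_iff]
  exact fun n => ⟨key g n, fun hn => by simpa [mul_assoc] using key g⁻¹ _ hn⟩

variable [Fintype F] [FiniteDimensional F V]

/-- The vectors of norm `c` span. -/
theorem class_span (h2 : (2 : F) ≠ 0) (hQ : (polarBilin Q).Nondegenerate) (hn : 2 ≤ finrank F V)
    (h : 5 ≤ Fintype.card F ∨ 3 ≤ finrank F V) {c : F} (hc : c ≠ 0) :
    Submodule.span F {v | Q v = c} = ⊤ := by
  classical
  set X := Submodule.span F {v | Q v = c}
  obtain ⟨a, ha⟩ := SpinorMatrix.universal Q h2 hQ hn hc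
  have ha0 : Q a ≠ 0 := by rw [ha]; exact hc
  suffices hperp : ∀ x, (∀ y, Q y = c → polar Q x y = 0) → x = 0 by
    by_contra hne
    have h1 := LinearMap.BilinForm.finrank_orthogonal hQ X
    have h2 : finrank F X < finrank F V := Submodule.finrank_lt hne
    have h3 : LinearMap.BilinForm.orthogonal (polarBilin Q) X ≠ ⊥ := fun e => by
      rw [e, finrank_bot] at h1; omega
    obtain ⟨x, hx, hx0⟩ := (Submodule.ne_bot_iff _).mp h3
    exact hx0 (hperp x fun y hy => by
      rw [polar_comm]; exact hx y (Submodule.subset_span hy))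
  intro x hx
  have hxa : polar Q x a = 0 := hx a ha
  -- vectors orthogonal to `a` with norm different from `-c`
  have hgood : ∀ z, polar Q a z = 0 → Q z ≠ -c → polar Q x z = 0 := fun z haz hz => by
    have hv : Q (a + z) ≠ 0 := by
      rw [QuadraticMap.map_add Q, ha, haz, add_zero]
      exact fun e => hz (by linear_combination e)
    have h' := hx ((refl Q hv).1 a) (by rw [(refl Q hv).2, ha])
    rw [refl_apply, polar_add_right, hxa, zero_add, polar_smul_right, polar_add_left,
      ReflectionGen.pol_self, polar_comm Q z a, haz, ha, polar_add_right, hxa, zero_add, smul_eq_mul] at h'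
    simpa [hv, h2, hc] using h'
  have hall : ∀ z, polar Q a z = 0 → polar Q x z = 0 := by
    intro z haz
    by_cases hz : Q z = -c
    swap; · exact hgood z haz hz
    rcases h with h5 | h3
    · obtain ⟨t, ht⟩ : ∃ t : F, t ∉ ({0, 1, -1} : Finset F) := by
        by_contra hh
        push Not at hh
        have := Finset.card_le_card (show (Finset.univ : Finset F) ⊆ {0, 1, -1} from fun t _ => hh t)
        have h3 := Finset.card_le_three (a := (0 : F)) (b := 1) (c := -1)
        rw [Finset.card_univ] at this
        omega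
      simp only [Finset.mem_insert, Finset.mem_singleton, not_or] at ht
      have h' := hgood (t • z) (by rw [polar_smul_right, haz, smul_zero]) (by
        rw [QuadraticMap.map_smul, hz, smul_eq_mul]
        intro e
        have : t * t = 1 := mul_right_cancel₀ (neg_ne_zero.mpr hc) (by linear_combination e)
        rcases mul_self_eq_one_iff.mp this with h | h
        · exact ht.2.1 h
        · exact ht.2.2 h)
      rw [polar_smul_right, smul_eq_mul] at h'
      exact (mul_eq_zero.mp h').resolve_left ht.1
    · set A := LinearMap.ker (polarBilin Q a) with hA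
      have hAd : 2 ≤ finrank F A := by
        have h1 := LinearMap.finrank_range_add_finrank_ker (polarBilin Q a)
        have h2 := Submodule.finrank_le (LinearMap.range (polarBilin Q a))
        rw [Module.finrank_self] at h2
        rw [← hA] at h1
        omega
      have hAn : (polarBilin (Q.comp A.subtype)).Nondegenerate := by
        have hcA : ∀ u w : A, polarBilin (Q.comp A.subtype) u w = polar Q u.1 w.1 :=
          fun u w => by simp [polar]
        have hl : ∀ u : A, (∀ w : A, polar Q u.1 w.1 = 0) → u = 0 := fun u hu => by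
          refine Subtype.ext (hQ.1 u.1 fun y => ?_)
          show polar Q u.1 y = 0
          have hua : polar Q a u.1 = 0 := u.2
          have := hu ⟨y + (-(polar Q a y / (2 * c))) • a, by
            show polar Q a _ = 0
            rw [polar_add_right, polar_smul_right, ReflectionGen.pol_self, ha, smul_eq_mul]
            field_simp
            ring⟩
          simpa [polar_add_right, polar_smul_right, polar_comm Q u.1 a, hua] using this
        exact ⟨fun u hu => hl u fun w => (hcA u w) ▸ hu w,
          fun u hu => hl u fun w => by rw [polar_comm, ← hcA]; exact hu w⟩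
      obtain ⟨z₀, hz₀⟩ := SpinorMatrix.universal (Q.comp A.subtype) h2 hAn hAd hc
      have haz₀ : polar Q a z₀.1 = 0 := z₀.2
      have hQz₀ : Q z₀.1 = c := hz₀
      have hx₀ := hx z₀.1 hQz₀
      by_cases hp : polar Q z z₀.1 = -c
      · have h' := hgood (z + (-1 : F) • z₀.1)
          (by rw [polar_add_right, polar_smul_right, haz, haz₀]; simp) (by
          rw [QuadraticMap.map_add Q, QuadraticMap.map_smul, polar_smul_right, hz, hQz₀, hp]
          simp only [smul_eq_mul]
          intro e
          exact mul_ne_zero h2 hc (by linear_combination e))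
        simpa [polar_add_right, polar_smul_right, hx₀] using h'
      · have h' := hgood (z + z₀.1) (by rw [polar_add_right, haz, haz₀, add_zero]) (by
          rw [QuadraticMap.map_add Q, hz, hQz₀, neg_add_cancel, zero_add]; exact hp)
        simpa [polar_add_right, hx₀] using h'
  refine hQ.1 x fun y => ?_
  show polar Q x y = 0
  have := hall (y + (-(polar Q a y / (2 * c))) • a) (by
    rw [polar_add_right, polar_smul_right, ReflectionGen.pol_self, ha, smul_eq_mul]
    field_simp
    ring)
  simpa [polar_add_right, polar_smul_right, hxa] using this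

theorem eich_mem (h2 : (2 : F) ≠ 0) (hQ : (polarBilin Q).Nondegenerate) (hn : 4 ≤ finrank F V)
    (h : 5 ≤ Fintype.card F ∨ 5 ≤ finrank F V) {c : F} (hc : c ≠ 0)
    {e w : V} (he0 : e ≠ 0) (he : Q e = 0) (hew : polar Q e w = 0) {g : quadIso Q}
    (hg : IsEich Q e w g) : g ∈ Subgroup.closure (CRefl Q c) := by
  obtain ⟨f, hf, hef⟩ := exists_partner Q hQ he0 he
  set U := perp Q e f
  have hU : finrank F V ≤ finrank F U + 2 := perp_finrank Q he hf hef
  obtain ⟨w', hw'⟩ : ∃ x : U, x = ⟨_, proj_mem Q he hf hef w⟩ := ⟨_, rfl⟩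
  have hspan : w' ∈ Submodule.span F {v : U | (Q.comp U.subtype) v = c} := by
    rw [class_span (Q.comp U.subtype) h2 (perp_nondeg Q hQ he hf hef) (by omega)
      (h.imp id fun h5 => by omega) hc]
    trivial
  have hP : ∀ t : F, ∃ g, IsEich Q e (t • w'.1) g ∧ g ∈ Subgroup.closure (CRefl Q c) := by
    clear hw'
    induction hspan using Submodule.span_induction with
    | mem v hv =>
      intro t
      have hev : polar Q e v.1 = 0 := ((mem_perp Q).mp v.2).1
      by_cases ht : t = 0
      · exact ⟨1, by rw [ht, zero_smul]; exact eich_zero Q e, one_mem _⟩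
      have hQv : Q v.1 = c := hv
      have hQt : Q (t • v.1) = c * t ^ 2 := by rw [QuadraticMap.map_smul, hQv, smul_eq_mul]; ring
      have h0 : Q (t • v.1) ≠ 0 := by rw [hQt]; exact mul_ne_zero hc (pow_ne_zero _ ht)
      have hev' : polar Q e (t • v.1) = 0 := by rw [polar_smul_right, hev, smul_zero]
      have hQw' : Q (t • v.1 + (-Q (t • v.1)) • e) = c * t ^ 2 := by
        rw [QuadraticMap.map_add Q (t • v.1) (_ • e), QuadraticMap.map_smul Q (-Q (t • v.1)) e, he,
          polar_smul_right, polar_comm Q (t • v.1) e, hev', hQt]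
        simp
      have h0' : Q (t • v.1 + (-Q (t • v.1)) • e) ≠ 0 := by
        rw [hQw']; exact mul_ne_zero hc (pow_ne_zero _ ht)
      exact ⟨_, eich_refl Q he hev' h0 h0', mul_mem
        (Subgroup.subset_closure ⟨_, h0', ⟨t, ht, hQw'⟩, rfl⟩)
        (Subgroup.subset_closure ⟨_, h0, ⟨t, ht, hQt⟩, rfl⟩)⟩
    | zero => intro t; exact ⟨1, by simpa using eich_zero Q e, one_mem _⟩
    | add a b _ _ iha ihb =>
      intro t
      obtain ⟨g₁, h₁, m₁⟩ := iha t
      obtain ⟨g₂, h₂, m₂⟩ := ihb t
      refine ⟨g₁ * g₂, ?_, mul_mem m₁ m₂⟩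
      rw [Submodule.coe_add, smul_add]
      exact eich_add Q he (by rw [polar_smul_right, ((mem_perp Q).mp a.2).1, smul_zero])
        (by rw [polar_smul_right, ((mem_perp Q).mp b.2).1, smul_zero]) h₁ h₂
    | smul s a _ iha =>
      intro t
      obtain ⟨g₁, h₁, m₁⟩ := iha (t * s)
      exact ⟨g₁, by rw [Submodule.coe_smul, smul_smul]; exact h₁, m₁⟩
  obtain ⟨g', hg', hm⟩ := hP 1
  rw [one_smul] at hg'
  have hww : w = w'.1 + polar Q f w • e := by simp [hw', hew]
  have hs := eich_shift Q he ((mem_perp Q).mp w'.2).1 (polar Q f w) hg'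
  rw [← hww] at hs
  rw [eich_unique Q hg hs]
  exact hm

theorem index_two (h2 : (2 : F) ≠ 0) (hQ : (polarBilin Q).Nondegenerate)
    (h : finrank F V = 2 ∨ (4 ≤ finrank F V ∧ (5 ≤ Fintype.card F ∨ 5 ≤ finrank F V)))
    {c : F} (hc : c ≠ 0) : (Subgroup.closure (CRefl Q c)).index = 2 := by
  classical
  haveI : Finite V := Module.finite_of_finite F
  haveI : Fintype V := Fintype.ofFinite V
  haveI : Finite (V ≃ₗ[F] V) := Finite.of_injective (fun g => (g : V → V)) DFunLike.coe_injective
  set K := Subgroup.closure (CRefl Q c)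
  have hn : 2 ≤ finrank F V := by omega
  obtain ⟨α, hα⟩ := FiniteField.exists_nonsquare (F := F) (fun h => h2 (by
    haveI := ringChar.of_eq h; exact CharTwo.two_eq_zero))
  have hα0 : α ≠ 0 := fun h => hα (h ▸ IsSquare.zero)
  have hl : α / c ≠ 0 := div_ne_zero hα0 hc
  set χ := levelSign Q (α / c) with hχ
  have hKχ : K ≤ χ.ker := by
    rw [Subgroup.closure_le]
    rintro g ⟨v, hv, ⟨t, ht, hQv⟩, rfl⟩
    rw [SetLike.mem_coe, MonoidHom.mem_ker, hχ, levelSign_refl Q h2 hv hl, if_neg]
    rintro ⟨r, hr⟩
    exact hα ⟨r / t, by field_simp at hr ⊢; rw [hQv] at hr; exact mul_right_cancel₀ hc (by linear_combination hr)⟩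
  obtain ⟨b, hb⟩ := SpinorMatrix.universal Q h2 hQ hn (c := c * α) (mul_ne_zero hc hα0)
  have hb0 : Q b ≠ 0 := hb ▸ mul_ne_zero hc hα0
  have hχb : χ (refl Q hb0) = -1 := by
    rw [hχ, levelSign_refl Q h2 hb0 hl, if_pos]
    rw [hb]
    exact ⟨α, by field_simp⟩
  have hidx : χ.ker.index = 2 := by
    rw [Subgroup.index_ker, MonoidHom.range_eq_top.mpr (fun y => by
      rcases Int.units_eq_one_or y with rfl | rfl
      · exact ⟨1, map_one _⟩
      · exact ⟨_, hχb⟩), Subgroup.card_top, Nat.card_eq_fintype_card]
    rfl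
  suffices hle : χ.ker ≤ K by rw [le_antisymm hKχ hle]; exact hidx
  rcases h with h | ⟨hn4, h5⟩
  · -- counting in dimension two
    obtain ⟨a, ha⟩ := SpinorMatrix.universal Q h2 hQ hn hc
    have ha0 : Q a ≠ 0 := ha ▸ hc
    have hav : a ≠ 0 := fun e => ha0 (by rw [e, QuadraticMap.map_zero])
    obtain ⟨a', haa', ha'⟩ := ReflectionGen.exists_anisotropic Q hQ ⊥ (by rw [finrank_bot]; omega)
    set a₂ := (2 * c) • a' + (-(polar Q a a')) • a with ha₂
    set A := LinearMap.ker (polarBilin Q a)
    have hA1 : finrank F A = 1 := by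
      have h1 := LinearMap.finrank_range_add_finrank_ker (polarBilin Q a)
      have hsurj : LinearMap.range (polarBilin Q a) = ⊤ := by
        refine LinearMap.range_eq_top.mpr fun s => ⟨(s / (2 * c)) • a, ?_⟩
        show polar Q a _ = s
        rw [polar_smul_right, ReflectionGen.pol_self, ha, smul_eq_mul]
        field_simp
      rw [hsurj, finrank_top, Module.finrank_self] at h1
      change 1 + finrank F A = _ at h1
      omega
    obtain ⟨z, hz0, hz⟩ := finrank_eq_one_iff'.mp hA1
    set C := Subgroup.centralizer ({refl Q ha0} : Set (quadIso Q))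
    have hCa : ∀ g ∈ C, g.1 a = a ∨ g.1 a = -a := by
      intro g hg
      have hga : Q (g.1 a) ≠ 0 := by rw [g.2]; exact ha0
      have hconj : refl Q hga = refl Q ha0 := by
        rw [← conj_refl Q g ha0 hga, mul_inv_eq_iff_eq_mul]
        exact (Subgroup.mem_centralizer_singleton_iff.mp hg)
      have h' := congrArg (fun s : quadIso Q => s.1 a) hconj
      simp only [refl_apply, ReflectionGen.pol_self, g.2] at h'
      have h'' : ((Q a)⁻¹ * polar Q (g.1 a) a) • g.1 a = ((Q a)⁻¹ * (2 * Q a)) • a := by
        simpa [show Q (g.1 a) = Q a from g.2 a] using h'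
      by_cases hp : polar Q (g.1 a) a = 0
      · rw [hp, mul_zero, zero_smul] at h''
        exact absurd h''.symm (smul_ne_zero (by field_simp; exact h2) hav)
      · have hk : g.1 a = ((2 * Q a) / polar Q (g.1 a) a) • a := by
          apply smul_right_injective V (show (Q a)⁻¹ * polar Q (g.1 a) a ≠ 0 from
            mul_ne_zero (inv_ne_zero ha0) hp)
          show _ • g.1 a = _ • _
          rw [h'', smul_smul]
          congr 1
          field_simp
        set k := (2 * Q a) / polar Q (g.1 a) a
        have hq := g.2 a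
        rw [hk, QuadraticMap.map_smul, smul_eq_mul] at hq
        rcases mul_self_eq_one_iff.mp ((mul_eq_right₀ ha0).mp hq) with e | e
        · left; rw [hk, e, one_smul]
        · right; rw [hk, e, neg_smul, one_smul]
    have hCz : ∀ g ∈ C, g.1 z.1 = z.1 ∨ g.1 z.1 = -z.1 := by
      intro g hg
      have hmem : g.1 z.1 ∈ A := by
        show polar Q a (g.1 z.1) = 0
        have hz' : polar Q a z.1 = 0 := z.2
        rcases hCa g hg with e | e
        · rw [← e, OrthOrder.polar_map g.2, hz']
        · have := OrthOrder.polar_map g.2 a z.1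
          rw [e, polar_neg_left, hz', neg_eq_zero] at this
          exact this
      obtain ⟨k, hk⟩ := hz ⟨_, hmem⟩
      have hk' : k • z.1 = g.1 z.1 := congrArg Subtype.val hk
      have hQz : Q z.1 ≠ 0 := fun e => by
        refine hz0 (Subtype.ext (hQ.1 z.1 fun y => ?_))
        show polar Q z.1 y = 0
        have hz' : polar Q a z.1 = 0 := z.2
        have hy : y + (-(polar Q a y / (2 * c))) • a ∈ A := by
          show polar Q a _ = 0
          rw [polar_add_right, polar_smul_right, ReflectionGen.pol_self, ha, smul_eq_mul]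
          field_simp
          ring
        obtain ⟨j, hj⟩ := hz ⟨_, hy⟩
        have hj' : y = (polar Q a y / (2 * c)) • a + j • z.1 := by
          rw [show j • z.1 = y + (-(polar Q a y / (2 * c))) • a from congrArg Subtype.val hj]
          module
        rw [hj']
        simp [polar_add_right, polar_smul_right, polar_comm Q z.1 a, hz', ReflectionGen.pol_self, e]
      have hq := g.2 z.1
      rw [← hk', QuadraticMap.map_smul, smul_eq_mul] at hq
      rcases mul_self_eq_one_iff.mp ((mul_eq_right₀ hQz).mp hq) with e | e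
      · left; rw [← hk', e, one_smul]
      · right; rw [← hk', e, neg_smul, one_smul]
    have hgen : ∀ g g' : quadIso Q, g.1 a = g'.1 a → g.1 z.1 = g'.1 z.1 → g = g' := by
      intro g g' e1 e2
      refine Subtype.ext (LinearEquiv.ext fun y => ?_)
      have hy : y + (-(polar Q a y / (2 * c))) • a ∈ A := by
        show polar Q a _ = 0
        rw [polar_add_right, polar_smul_right, ReflectionGen.pol_self, ha, smul_eq_mul]
        field_simp
        ring
      obtain ⟨j, hj⟩ := hz ⟨_, hy⟩
      have hj' : y = (polar Q a y / (2 * c)) • a + j • z.1 := by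
        rw [show j • z.1 = y + (-(polar Q a y / (2 * c))) • a from congrArg Subtype.val hj]
        module
      rw [hj', map_add, map_add, map_smul, map_smul, map_smul, map_smul, e1, e2]
    have hC4 : Nat.card C ≤ 4 := by
      let φ : C → Bool × Bool := fun g => (decide (g.1.1 a = a), decide (g.1.1 z.1 = z.1))
      have : Function.Injective φ := by
        intro g g' e
        simp only [φ, Prod.mk.injEq, decide_eq_decide] at e
        refine Subtype.ext (hgen _ _ ?_ ?_)
        · rcases hCa g.1 g.2 with h1 | h1 <;> rcases hCa g'.1 g'.2 with h1' | h1'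
          · rw [h1, h1']
          · rw [h1, e.1.mp h1]
          · rw [h1', e.1.mpr h1']
          · rw [h1, h1']
        · rcases hCz g.1 g.2 with h1 | h1 <;> rcases hCz g'.1 g'.2 with h1' | h1'
          · rw [h1, h1']
          · rw [h1, e.2.mp h1]
          · rw [h1', e.2.mpr h1']
          · rw [h1, h1']
      have := Nat.card_le_card_of_injective φ this
      simpa using this
    -- the reflections `g r g⁻¹` and their translates
    let R : quadIso Q → quadIso Q := fun g => g * refl Q ha0 * g⁻¹
    have hmemC : SpinorNorm.refl Q ha0 ∈ CRefl Q c := ⟨a, ha0, ⟨1, one_ne_zero, by rw [ha]; ring⟩, rfl⟩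
    have hRK : ∀ g, R g ∈ K := fun g =>
      (closure_crefl_normal Q c).conj_mem _ (Subgroup.subset_closure hmemC) g
    have hraK : refl Q ha0 ∈ K := by simpa [R] using hRK 1
    let φ : (quadIso Q ⧸ C) × Bool → K := fun p =>
      bif p.2 then ⟨refl Q ha0 * R p.1.out, mul_mem hraK (hRK _)⟩ else ⟨R p.1.out, hRK _⟩
    have hφ : Function.Injective φ := by
      have hclo : Subgroup.closure (Refl Q) = ⊤ := closure_refl Q hQ
        (Or.inl ⟨-1, neg_ne_zero.mpr one_ne_zero, fun h => h2 (by linear_combination -h)⟩)
      have hdR : ∀ g, dicksonHom Q hQ hclo (R g) = -1 := fun g => by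
        simp only [R, map_mul, map_inv, dicksonHom_refl]
        rw [mul_comm (dicksonHom Q hQ hclo g), mul_assoc, mul_inv_cancel, mul_one]
      have hRinj : ∀ q q' : quadIso Q ⧸ C, R q.out = R q'.out → q = q' := fun q q' e => by
        rw [← q.out_eq', ← q'.out_eq', QuotientGroup.eq, Subgroup.mem_centralizer_singleton_iff]
        have e' : q.out * refl Q ha0 * q.out⁻¹ = q'.out * refl Q ha0 * q'.out⁻¹ := e
        calc q.out⁻¹ * q'.out * refl Q ha0 = q.out⁻¹ * (q'.out * refl Q ha0 * q'.out⁻¹) * q'.out := by group
          _ = q.out⁻¹ * (q.out * refl Q ha0 * q.out⁻¹) * q'.out := by rw [e']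
          _ = refl Q ha0 * (q.out⁻¹ * q'.out) := by group
      rintro ⟨q, s⟩ ⟨q', s'⟩ e
      have e' := congrArg Subtype.val e
      cases s <;> cases s'
      · rw [hRinj q q' e']
      · have := congrArg (dicksonHom Q hQ hclo) (show R q.out = refl Q ha0 * R q'.out from e')
        rw [hdR, map_mul, dicksonHom_refl, hdR] at this
        exact absurd this (by decide)
      · have := congrArg (dicksonHom Q hQ hclo) (show refl Q ha0 * R q.out = R q'.out from e')
        rw [hdR, map_mul, dicksonHom_refl, hdR] at this
        exact absurd this (by decide)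
      · rw [hRinj q q' (mul_left_cancel e')]
    have hK := Nat.card_le_card_of_injective φ hφ
    rw [Nat.card_prod, Nat.card_eq_fintype_card (α := Bool), Fintype.card_bool] at hK
    refine (Subgroup.eq_of_le_of_card_ge hKχ ?_).ge
    have h1 := Subgroup.card_eq_card_quotient_mul_card_subgroup C
    have h3 := Subgroup.card_mul_index χ.ker
    rw [hidx] at h3
    have : Nat.card (quadIso Q ⧸ C) * Nat.card C ≤ Nat.card (quadIso Q ⧸ C) * 4 :=
      Nat.mul_le_mul_left _ hC4
    omega
  · -- large dimension
    have hN : ∀ e w, e ≠ 0 → Q e = 0 → polar Q e w = 0 → ∀ g, IsEich Q e w g → g ∈ K :=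
      fun e w he0 he hew g hg => eich_mem Q h2 hQ hn4 h5 hc he0 he hew hg
    intro g hg
    have hclo : Subgroup.closure (Refl Q) = ⊤ := closure_refl Q hQ
      (Or.inl ⟨-1, neg_ne_zero.mpr one_ne_zero, fun h => h2 (by linear_combination -h)⟩)
    set π := QuotientGroup.mk' K
    have hrv : ∀ (v : V) (hv : Q v ≠ 0), π (refl Q hv) = 1 ∨ π (refl Q hv) = π (refl Q hb0) := by
      intro v hv
      obtain ⟨s, hs | hs⟩ := SpinorMatrix.class_cases (a := c) (b := c * α) hc (mul_ne_zero hc hα0)
        (fun ⟨r, hr⟩ => hα ⟨r / c, by field_simp; linear_combination hr⟩) hv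
      · left
        refine (QuotientGroup.eq_one_iff _).mpr (Subgroup.subset_closure ⟨v, hv, ⟨s, ?_, ?_⟩, rfl⟩)
        · rintro rfl; exact hv (by rw [hs]; ring)
        · rw [hs]; ring
      · right
        exact (refl_quot Q h2 hQ hn4 K hN hb0 hv (s := s) (by rw [hs, hb])).symm
    have hcases : π g = 1 ∨ π g = π (refl Q hb0) := by
      refine closure_induction_refl Q hclo (fun g => π g = 1 ∨ π g = π (refl Q hb0)) (Or.inl (map_one _)) ?_ g
      intro v hv y hy
      rw [map_mul]
      rcases hrv v hv with e | e <;> rw [e]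
      · rwa [one_mul]
      · rcases hy with e' | e' <;> rw [e']
        · right; rw [mul_one]
        · left; rw [← map_mul, refl_mul_self, map_one]
    rcases hcases with e | e
    · exact (QuotientGroup.eq_one_iff g).mp e
    · exfalso
      have hm : (refl Q hb0)⁻¹ * g ∈ K := QuotientGroup.eq.mp e.symm
      have := hKχ hm
      rw [MonoidHom.mem_ker, map_mul, map_inv, hχb, MonoidHom.mem_ker.mp hg, mul_one] at this
      exact absurd this (by decide)

end CfsgLib.ClassReflections
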