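import Mathlib
import Cfsg.Prelude.Def_Classical

/-! Tools for the exceptional isomorphisms of small orthogonal groups. -/

set_option autoImplicit false

namespace CfsgLib.ExceptionalIso

open Matrix
open scoped commutatorElement

/-- An action by linear isometries as a homomorphism into the isometry group. -/
noncomputable def homOfAct {G : Type*} [Group G] {F : Type*} [Field F] {ι : Type} [Fintype ι] [DecidableEq ι]
    (f : (ι → F) → F) (T : G → (ι → F) →ₗ[F] (ι → F)) (h1 : T 1 = LinearMap.id)
    (hmul : ∀ g h, T (g * h) = T g ∘ₗ T h) (hQ : ∀ g v, f (T g v) = f v) :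
    G →* Cfsg.isometryGroup F f :=
  let M : G →* Matrix ι ι F :=
    { toFun := fun g => LinearMap.toMatrix' (T g)
      map_one' := by rw [h1, LinearMap.toMatrix'_id]
      map_mul' := fun g h => by rw [hmul, LinearMap.toMatrix'_comp] }
  M.toHomUnits.codRestrict _ fun g u _ => by
    show f (LinearMap.toMatrix' (T g) *ᵥ u) = f u
    rw [LinearMap.toMatrix'_mulVec, hQ]

theorem homOfAct_eq_one {G : Type*} [Group G] {F : Type*} [Field F] {ι : Type} [Fintype ι] [DecidableEq ι]
    (f : (ι → F) → F) (T : G → (ι → F) →ₗ[F] (ι → F)) (h1 : T 1 = LinearMap.id)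
    (hmul : ∀ g h, T (g * h) = T g ∘ₗ T h) (hQ : ∀ g v, f (T g v) = f v) (g : G) :
    homOfAct f T h1 hmul hQ g = 1 ↔ T g = LinearMap.id := by
  rw [Subtype.ext_iff, Units.ext_iff]
  show LinearMap.toMatrix' (T g) = 1 ↔ _
  rw [← LinearMap.toMatrix'_id]
  exact LinearMap.toMatrix'.injective.eq_iff

variable {G O : Type*} [Group G] [Group O]

theorem range_le_of_perfect (φ : G →* O) (h : commutator G = ⊤) : φ.range ≤ commutator O := by
  rw [MonoidHom.range_eq_map, ← h, commutator_def, Subgroup.map_commutator, commutator_def]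
  exact Subgroup.commutator_mono le_top le_top

/-- An element of order dividing a number prime to the index of a normal subgroup lies in it. -/
theorem mem_of_pow_eq_one (N : Subgroup O) [N.Normal] {x : O} {p : ℕ} (hx : x ^ p = 1)
    (hp : Nat.Coprime p N.index) : x ∈ N := by
  rw [← QuotientGroup.eq_one_iff, ← orderOf_eq_one_iff]
  refine Nat.eq_one_of_dvd_coprimes hp ?_ (orderOf_dvd_natCard _)
  rw [orderOf_dvd_iff_pow_eq_one, ← QuotientGroup.mk_pow, hx, QuotientGroup.mk_one]

theorem central_of_perfect (h : commutator G = ⊤) (z : G) (hz : ∀ g : G, ⁅z, g⁆ ∈ Subgroup.center G) :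
    z ∈ Subgroup.center G := by
  have key : ∀ g : G, ⁅z, g⁆ = 1 := by
    let f : G →* Subgroup.center G := MonoidHom.mk' (fun g => ⟨⁅z, g⁆, hz g⟩) fun a b => Subtype.ext (by
      show ⁅z, a * b⁆ = ⁅z, a⁆ * ⁅z, b⁆
      have hb := Subgroup.mem_center_iff.mp (hz b)
      calc ⁅z, a * b⁆ = ⁅z, a⁆ * (a * ⁅z, b⁆ * a⁻¹) := by simp only [commutatorElement_def]; group
        _ = ⁅z, a⁆ * ⁅z, b⁆ := by rw [hb a, mul_inv_cancel_right])
    intro g
    letI : CommGroup (Subgroup.center G) :=
      { (inferInstance : Group (Subgroup.center G)) with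
        mul_comm := fun a b => Subtype.ext (Subgroup.mem_center_iff.mp b.2 a.1) }
    have hg : g ∈ f.ker := Abelianization.commutator_subset_ker f (h ▸ Subgroup.mem_top g)
    exact congrArg Subtype.val (MonoidHom.mem_ker.mp hg)
  rw [Subgroup.mem_center_iff]
  intro g
  exact (commutatorElement_eq_one_iff_mul_comm.mp (key g)).symm

theorem iso_of_hom [Finite O] [Finite G] (Ω : Subgroup O) (φ : G →* O) (hle : φ.range ≤ Ω)
    (hcard : Nat.card G = Nat.card φ.ker * Nat.card Ω) (hker : φ.ker ≤ Subgroup.center G)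
    (hz : ∀ z : G, (∀ g : G, ⁅z, g⁆ ∈ φ.ker) → z ∈ Subgroup.center G) :
    Nonempty (Ω ⧸ Subgroup.center Ω ≃* G ⧸ Subgroup.center G) := by
  set φ' : G →* Ω := φ.codRestrict Ω fun g => hle ⟨g, rfl⟩
  have hsurj : Function.Surjective φ' := by
    have hr : φ.range = Ω := by
      refine Subgroup.eq_of_le_of_card_ge hle (le_of_eq ?_)
      have h := Subgroup.card_mul_index φ.ker
      rw [Subgroup.index_ker, hcard] at h
      have : Finite φ.range := inferInstance
      have hpos : 0 < Nat.card φ.ker := Nat.card_pos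
      exact (Nat.eq_of_mul_eq_mul_left hpos h).symm
    rintro ⟨x, hx⟩
    obtain ⟨g, hg⟩ := hr.ge hx
    exact ⟨g, Subtype.ext hg⟩
  have hk : φ'.ker = φ.ker := MonoidHom.ker_codRestrict _ _ _
  set ψ : G →* Ω ⧸ Subgroup.center Ω := (QuotientGroup.mk' (Subgroup.center Ω)).comp φ'
  have hψ : ψ.ker = Subgroup.center G := by
    ext z
    rw [MonoidHom.mem_ker, MonoidHom.comp_apply, QuotientGroup.mk'_apply, QuotientGroup.eq_one_iff,
      Subgroup.mem_center_iff]
    constructor
    · intro h
      refine hz z fun g => ?_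
      rw [← hk, MonoidHom.mem_ker, map_commutatorElement, commutatorElement_eq_one_iff_mul_comm]
      exact (h (φ' g)).symm
    · intro h x
      obtain ⟨g, rfl⟩ := hsurj x
      rw [← map_mul, ← map_mul, Subgroup.mem_center_iff.mp h g]
  exact ⟨((QuotientGroup.quotientMulEquivOfEq hψ).symm.trans
    (QuotientGroup.quotientKerEquivOfSurjective ψ ((QuotientGroup.mk'_surjective _).comp hsurj))).symm⟩

end CfsgLib.ExceptionalIso
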