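import Mathlib
import Cfsg.Agent.Lib.ExceptionalIso

/-! Images of `SL₂` in finite groups. -/

set_option autoImplicit false

namespace CfsgLib.SL2Hom

open Matrix
open scoped MatrixGroups commutatorElement

variable {F : Type*} [Field F]

theorem transvection_pow {i j : Fin 2} (h : i ≠ j) (c : F) (n : ℕ) :
    (SpecialLinearGroup.transvection h c : SL(2, F)) ^ n = SpecialLinearGroup.transvection h (n * c) := by
  induction n with
  | zero => simp [SpecialLinearGroup.transvection_coeff_zero]
  | succ n ih =>
    rw [pow_succ, ih]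
    refine Subtype.ext ?_
    show Matrix.transvection i j _ * Matrix.transvection i j c = Matrix.transvection i j _
    rw [Matrix.transvection_mul_transvection_same i j h]
    congr 1
    push_cast
    ring

/-- The image of `SL₂` lies in every normal subgroup of index prime to the characteristic. -/
theorem range_le {O : Type*} [Group O] (φ : SL(2, F) →* O) (N : Subgroup O) [N.Normal] (p : ℕ)
    [CharP F p] (hp : Nat.Coprime p N.index) : φ.range ≤ N := by
  rintro _ ⟨g, rfl⟩
  refine SL2.transvection_induction (fun g => φ g ∈ N) (fun i j h c => ?_)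
    (fun A B hA hB => by rw [map_mul]; exact mul_mem hA hB) g
  refine ExceptionalIso.mem_of_pow_eq_one N (p := p) ?_ hp
  rw [← map_pow, transvection_pow, CharP.cast_eq_zero, zero_mul,
    SpecialLinearGroup.transvection_coeff_zero, map_one]

/-- Centrality modulo signs. -/
theorem central_of_comm_sign (h2 : (2 : F) ≠ 0) (z : SL(2, F))
    (hz : ∀ g : SL(2, F), (⁅z, g⁆ : SL(2, F)).1 = 1 ∨ (⁅z, g⁆ : SL(2, F)).1 = -1) :
    z ∈ Subgroup.center SL(2, F) := by
  rw [Subgroup.mem_center_iff]
  intro g
  refine SL2.transvection_induction (fun g => g * z = z * g) (fun i j h c => ?_) (fun A B hA hB => ?_) g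
  · set t : SL(2, F) := SpecialLinearGroup.transvection h c
    have e : z * t * z⁻¹ = ⁅z, t⁆ * t := by rw [commutatorElement_def, inv_mul_cancel_right]
    rcases hz t with h' | h'
    · have h'' : (⁅z, t⁆ : SL(2, F)) = 1 := Subtype.ext h'
      exact (commutatorElement_eq_one_iff_mul_comm.mp h'').symm
    · exfalso
      have htr := congrArg (fun x : SL(2, F) => Matrix.trace x.1) e
      change Matrix.trace (z.1 * t.1 * (z⁻¹ : SL(2, F)).1) = Matrix.trace ((⁅z, t⁆ : SL(2, F)).1 * t.1) at htr
      rw [h', Matrix.trace_mul_comm, ← Matrix.mul_assoc, ← Matrix.SpecialLinearGroup.coe_mul z⁻¹ z,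
        inv_mul_cancel, Matrix.SpecialLinearGroup.coe_one, Matrix.one_mul, neg_one_mul, Matrix.trace_neg] at htr
      have ht : Matrix.trace t.1 = 2 := by
        show Matrix.trace (Matrix.transvection i j c) = 2
        simp [Matrix.trace, Matrix.transvection, Fin.sum_univ_two, Matrix.single_apply]
        fin_cases i <;> fin_cases j <;> simp at h ⊢ <;> exact one_add_one_eq_two
      rw [ht] at htr
      exact mul_ne_zero h2 h2 (by linear_combination htr)
  · rw [mul_assoc, hB, ← mul_assoc, hA, mul_assoc]

theorem commutator_top [Fintype F] (hq : 4 ≤ Fintype.card F) : commutator SL(2, F) = ⊤ := by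
  classical
  obtain ⟨a, ha⟩ : ∃ a : F, a ∉ ({0, 1, -1} : Finset F) := by
    by_contra hh
    push Not at hh
    have := Finset.card_le_card (show (Finset.univ : Finset F) ⊆ {0, 1, -1} from fun t _ => hh t)
    have h3 := Finset.card_le_three (a := (0 : F)) (b := 1) (c := -1)
    rw [Finset.card_univ] at this
    omega
  simp only [Finset.mem_insert, Finset.mem_singleton, not_or] at ha
  exact SL2.commutator_eq_top ha.1 fun h => by
    rcases sq_eq_one_iff.mp h with e | e
    · exact ha.2.1 e
    · exact ha.2.2 e

end CfsgLib.SL2Hom
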