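import Mathlib

/-!
The transfer as a product of a cocycle over cosets, split along orbits.
-/

set_option autoImplicit false
set_option linter.unusedSectionVars false

namespace CfsgLib.TransferOrbit

/-- The value of the cocycle of a transfer at an element and a coset. -/
noncomputable def cval {G : Type*} [Group G] {C : Subgroup G} {A : Type*} [CommGroup A] (χ : C →* A) (g : G) (q : G ⧸ C) :
    A :=
  χ ⟨(g • q).out⁻¹ * g * q.out, by
    rw [mul_assoc, ← QuotientGroup.eq, QuotientGroup.out_eq']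
    conv_lhs => rw [← QuotientGroup.out_eq' q]
    rfl⟩

section Transfer

variable {G : Type*} [Group G] {C : Subgroup G} {A : Type*} [CommGroup A] (χ : C →* A)

theorem cval_mul (g h : G) (q : G ⧸ C) : cval χ (g * h) q = cval χ g (h • q) * cval χ h q := by
  unfold cval
  rw [← map_mul]
  congr 1
  refine Subtype.ext ?_
  change ((g * h) • q).out⁻¹ * (g * h) * q.out = ((g • h • q).out⁻¹ * g * (h • q).out) * ((h • q).out⁻¹ * h * q.out)
  rw [mul_smul]
  group

theorem cval_eq {g x : G} (hg : g • (x : G ⧸ C) = x) (hm : x⁻¹ * g * x ∈ C) :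
    cval χ g (x : G ⧸ C) = χ ⟨_, hm⟩ := by
  obtain ⟨c, hc⟩ := QuotientGroup.mk_out_eq_mul C x
  unfold cval
  have e1 : (g • (x : G ⧸ C)).out⁻¹ * g * ((x : G ⧸ C)).out = (c : G)⁻¹ * (x⁻¹ * g * x) * c := by
    rw [hg, hc]; group
  have hm' : (c : G)⁻¹ * (x⁻¹ * g * x) * c ∈ C := mul_mem (mul_mem (inv_mem c.2) hm) c.2
  rw [show (⟨_, _⟩ : C) = c⁻¹ * ⟨_, hm⟩ * c from Subtype.ext e1, map_mul, map_mul, map_inv, mul_comm (χ c)⁻¹,
    inv_mul_cancel_right]

theorem transfer_eq_prod [C.FiniteIndex] [hF : Fintype (G ⧸ C)] (g : G) : MonoidHom.transfer χ g = ∏ q : G ⧸ C, cval χ g q := by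
  classical
  obtain rfl : hF = C.fintypeQuotientOfFiniteIndex := Subsingleton.elim _ _
  letI := C.fintypeQuotientOfFiniteIndex
  let T : C.LeftTransversal :=
    ⟨Set.range fun q : G ⧸ C => q.out, Subgroup.isComplement_range_left fun q => QuotientGroup.out_eq' q⟩
  rw [MonoidHom.transfer_def χ T g]
  unfold Subgroup.leftTransversals.diff
  dsimp only
  symm
  refine Finset.prod_nbij' (fun q => g • q) (fun q => g⁻¹ • q) (fun q _ => Finset.mem_univ _) (fun q _ => Finset.mem_univ _)
    (fun q _ => inv_smul_smul g q) (fun q _ => smul_inv_smul g q) fun q _ => ?_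
  unfold cval
  congr 1
  refine Subtype.ext ?_
  have h1 : ∀ r : G ⧸ C, (T.2.leftQuotientEquiv r : G) = r.out := fun r =>
    Subgroup.IsComplement.leftQuotientEquiv_apply (fun q => QuotientGroup.out_eq' q) r
  change (g • q).out⁻¹ * g * q.out =
    (T.2.leftQuotientEquiv (g • q) : G)⁻¹ * ((g • T).2.leftQuotientEquiv (g • q) : G)
  rw [Subgroup.smul_apply_eq_smul_apply_inv_smul, h1, inv_smul_smul, h1, smul_eq_mul]
  group

end Transfer

variable {P X A : Type*} [Group P] [Finite P] [MulAction P X] [CommGroup A] {c : P → X → A}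
  (hc : ∀ g h x, c (g * h) x = c g (h • x) * c h x)

/-- The orbit of a point under a subgroup, as a finite set. -/
noncomputable def orb (S : Subgroup P) (q : X) : Finset X :=
  (Set.toFinite ((fun g : P => g • q) '' (S : Set P))).toFinset

theorem mem_orb {S : Subgroup P} {q x : X} : x ∈ orb S q ↔ ∃ g ∈ S, g • q = x := by
  simp [orb]

theorem smul_mem_orb {S : Subgroup P} {q x : X} {g : P} (hg : g ∈ S) (hx : x ∈ orb S q) : g • x ∈ orb S q := by
  obtain ⟨k, hk, rfl⟩ := mem_orb.mp hx
  exact mem_orb.mpr ⟨g * k, mul_mem hg hk, mul_smul g k q⟩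

include hc

theorem c_one (x : X) : c 1 x = 1 := by
  have := hc 1 1 x
  rwa [one_smul, mul_one, left_eq_mul] at this

theorem prod_mul {S : Subgroup P} (q : X) {g h : P} (hh : h ∈ S) :
    ∏ x ∈ orb S q, c (g * h) x = (∏ x ∈ orb S q, c g x) * ∏ x ∈ orb S q, c h x := by
  classical
  simp only [hc, Finset.prod_mul_distrib]
  congr 1
  refine Finset.prod_nbij' (fun x => h • x) (fun x => h⁻¹ • x) (fun x hx => smul_mem_orb hh hx)
    (fun x hx => smul_mem_orb (inv_mem hh) hx) (fun x _ => inv_smul_smul h x) (fun x _ => smul_inv_smul h x) fun x _ => rfl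

theorem prod_eq_one_of_stab (O : Finset X) (q : X) (hinv : ∀ (g : P), ∀ x ∈ O, g • x ∈ O)
    (htr : ∀ x ∈ O, ∃ g : P, g • q = x) (hst : ∀ g : P, g • q = q → c g q = 1) (g : P) : ∏ x ∈ O, c g x = 1 := by
  classical
  let f : X → A := fun x => if h : ∃ k : P, k • q = x then c h.choose q else 1
  have hf : ∀ (k : P), f (k • q) = c k q := by
    intro k
    have h : ∃ k' : P, k' • q = k • q := ⟨k, rfl⟩
    rw [show f (k • q) = c h.choose q from dif_pos h]
    have hfix : (k⁻¹ * h.choose) • q = q := by rw [mul_smul, h.choose_spec, inv_smul_smul]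
    have := hc k (k⁻¹ * h.choose) q
    rwa [mul_inv_cancel_left, hfix, hst _ hfix, mul_one] at this
  have key : ∀ x ∈ O, c g x * f x = f (g • x) := by
    intro x hx
    obtain ⟨k, rfl⟩ := htr x hx
    rw [hf, smul_smul, hf, hc]
  have h1 := Finset.prod_congr rfl key
  rw [Finset.prod_mul_distrib] at h1
  have h2 : ∏ x ∈ O, f (g • x) = ∏ x ∈ O, f x :=
    Finset.prod_nbij' (fun x => g • x) (fun x => g⁻¹ • x) (fun x hx => hinv g x hx) (fun x hx => hinv g⁻¹ x hx)
      (fun x _ => inv_smul_smul g x) (fun x _ => smul_inv_smul g x) fun x _ => rfl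
  rw [h2] at h1
  exact mul_eq_right.mp h1

/-- If the product over a block vanishes on its stabiliser, then the product over the orbit vanishes. -/
theorem prod_orbit_eq_one {S : Subgroup P} (q : X) (hst : ∀ g : P, g • q = q → g ∈ S)
    (hS : ∀ s ∈ S, ∏ x ∈ orb S q, c s x = 1) (g : P) : ∏ x ∈ orb (⊤ : Subgroup P) q, c g x = 1 := by
  classical
  haveI : Fintype (P ⧸ S) := Fintype.ofFinite _
  let F : P ⧸ S → Finset X := fun u => (orb S q).image (fun x => u.out • x)
  have hmemF : ∀ (u : P ⧸ S) (k : P), (k : P ⧸ S) = u → ∀ x, x ∈ F u ↔ ∃ s ∈ S, (k * s) • q = x := by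
    intro u k hk x
    have hks : u.out⁻¹ * k ∈ S := by rw [← QuotientGroup.eq, QuotientGroup.out_eq', hk]
    simp only [F, Finset.mem_image, mem_orb]
    constructor
    · rintro ⟨y, ⟨s, hs, rfl⟩, rfl⟩
      exact ⟨(u.out⁻¹ * k)⁻¹ * s, mul_mem (inv_mem hks) hs, by
        rw [← mul_smul]; congr 1; group⟩
    · rintro ⟨s, hs, rfl⟩
      exact ⟨_, ⟨(u.out⁻¹ * k) * s, mul_mem hks hs, rfl⟩, by rw [← mul_smul]; congr 1; group⟩
  have hdisj : Set.PairwiseDisjoint (↑(Finset.univ : Finset (P ⧸ S))) F := by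
    intro u _ v _ huv
    rw [Function.onFun, Finset.disjoint_left]
    intro x hx hy
    obtain ⟨s, hs, e1⟩ := (hmemF u u.out (QuotientGroup.out_eq' u) x).mp hx
    obtain ⟨t, ht, e2⟩ := (hmemF v v.out (QuotientGroup.out_eq' v) x).mp hy
    refine huv ?_
    rw [← QuotientGroup.out_eq' u, ← QuotientGroup.out_eq' v]
    refine QuotientGroup.eq.mpr ?_
    have h := hst ((u.out * s)⁻¹ * (v.out * t)) (by rw [mul_smul, e2, ← e1, inv_smul_smul])
    have h' := mul_mem (mul_mem hs h) (inv_mem ht)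
    rwa [show s * ((u.out * s)⁻¹ * (v.out * t)) * t⁻¹ = u.out⁻¹ * v.out by group] at h'
  have hcover : orb (⊤ : Subgroup P) q = Finset.univ.biUnion F := by
    ext x
    simp only [Finset.mem_biUnion, Finset.mem_univ, true_and, mem_orb, Subgroup.mem_top]
    constructor
    · rintro ⟨k, rfl⟩
      exact ⟨(k : P ⧸ S), (hmemF _ k rfl _).mpr ⟨1, one_mem S, by rw [mul_one]⟩⟩
    · rintro ⟨u, hx⟩
      obtain ⟨s, -, rfl⟩ := (hmemF u u.out (QuotientGroup.out_eq' u) x).mp hx
      exact ⟨_, rfl⟩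
  have hFsmul : ∀ (k : P) (u : P ⧸ S), (F u).image (fun x => k • x) = F (k • u) := by
    intro k u
    ext x
    have hku : ((k * u.out : P) : P ⧸ S) = k • u := by
      conv_rhs => rw [← QuotientGroup.out_eq' u]
      rfl
    rw [Finset.mem_image, hmemF (k • u) (k * u.out) hku x]
    constructor
    · rintro ⟨y, hy, rfl⟩
      obtain ⟨s, hs, rfl⟩ := (hmemF u u.out (QuotientGroup.out_eq' u) y).mp hy
      exact ⟨s, hs, by rw [mul_assoc, mul_smul]⟩
    · rintro ⟨s, hs, rfl⟩
      exact ⟨(u.out * s) • q, (hmemF u u.out (QuotientGroup.out_eq' u) _).mpr ⟨s, hs, rfl⟩,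
        by rw [← mul_smul, mul_assoc]⟩
  rw [hcover, Finset.prod_biUnion hdisj]
  refine prod_eq_one_of_stab (c := fun (k : P) (u : P ⧸ S) => ∏ x ∈ F u, c k x) (fun g h u => ?_) Finset.univ
    ((1 : P) : P ⧸ S) (fun _ _ _ => Finset.mem_univ _) (fun u _ => ⟨u.out, ?_⟩) (fun k hk => ?_) g
  · change ∏ x ∈ F u, c (g * h) x = (∏ x ∈ F (h • u), c g x) * ∏ x ∈ F u, c h x
    simp only [hc, Finset.prod_mul_distrib]
    congr 1
    rw [← hFsmul, Finset.prod_image fun x _ y _ e => smul_left_cancel h e]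
  · conv_rhs => rw [← QuotientGroup.out_eq' u]
    change ((u.out * 1 : P) : P ⧸ S) = _
    rw [mul_one]
  · have hF1 : F ((1 : P) : P ⧸ S) = orb S q := by
      ext x
      rw [hmemF _ 1 rfl x, mem_orb]
      simp
    have hkS : k ∈ S := by
      have := QuotientGroup.eq.mp (show ((k * 1 : P) : P ⧸ S) = ((1 : P) : P ⧸ S) from hk)
      rwa [mul_one, mul_one, inv_mem_iff] at this
    change ∏ x ∈ F _, c k x = 1
    rw [hF1]
    exact hS k hkS

/-- Only a fixed point contributes when every other orbit product vanishes. -/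
theorem prod_univ_eq [Fintype X] (q₀ : X) (h₀ : ∀ g : P, g • q₀ = q₀)
    (h : ∀ q, q ≠ q₀ → ∀ g : P, ∏ x ∈ orb (⊤ : Subgroup P) q, c g x = 1) (g : P) : ∏ x : X, c g x = c g q₀ := by
  classical
  let π : X → Quotient (MulAction.orbitRel P X) := Quotient.mk''
  haveI : Fintype (Quotient (MulAction.orbitRel P X)) := Fintype.ofFinite _
  have hfib : ∀ q, Finset.univ.filter (fun x => π x = π q) = orb (⊤ : Subgroup P) q := by
    intro q
    ext x
    simp only [π, Finset.mem_filter, Finset.mem_univ, true_and, mem_orb, Subgroup.mem_top, Quotient.eq'',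
      MulAction.orbitRel_apply, MulAction.mem_orbit_iff]
  rw [← Finset.prod_fiberwise Finset.univ π (fun x => c g x), Fintype.prod_eq_single (π q₀) fun u hu => ?_]
  · rw [hfib, show orb (⊤ : Subgroup P) q₀ = {q₀} from Finset.ext fun x => by
      simp only [mem_orb, Subgroup.mem_top, true_and, h₀, Finset.mem_singleton, exists_const]
      exact eq_comm, Finset.prod_singleton]
  · induction u using Quotient.inductionOn' with
    | h q =>
      change ∏ x ∈ Finset.univ.filter (fun x => π x = π q), c g x = 1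
      rw [hfib]
      exact h q (fun e => hu (by rw [e])) g

end CfsgLib.TransferOrbit
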