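/-
The central extension of a transitive permutation group obtained by transferring a central extension of a
point stabiliser.
-/
import Mathlib
import Cfsg.Prelude.Def_KGroupFacts

set_option autoImplicit false
set_option linter.unusedSectionVars false
set_option linter.style.haveILetI false

namespace CfsgLib.TransferExt

open Subgroup
open scoped commutatorElement

universe u

variable {G : Type u} [Group G] [Finite G] {n : ℕ} [MulAction G (Fin n)] (x₀ : Fin n)
  {t : Fin n → G} (ht : ∀ x, t x • x₀ = x)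
  {A : Type u} [Group A] [Finite A] (π : A →* MulAction.stabilizer G x₀)

/-- The component of `g` at the point `x`. -/
def comp (ht : ∀ x, t x • x₀ = x) (g : G) (x : Fin n) : MulAction.stabilizer G x₀ :=
  ⟨(t (g • x))⁻¹ * (g * t x), by
    rw [MulAction.mem_stabilizer_iff, mul_smul, mul_smul, ht, inv_smul_eq_iff, ht]⟩

theorem comp_mul (g h : G) (x : Fin n) : comp x₀ ht (g * h) x = comp x₀ ht g (h • x) * comp x₀ ht h x := by
  refine Subtype.ext ?_
  simp only [comp, Subgroup.coe_mul, mul_smul]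
  group

theorem comp_one (x : Fin n) : comp x₀ ht 1 x = 1 := Subtype.ext (by simp [comp])

/-- The permutation of labelled points of a lifted element. -/
def lperm (g : G) (v : Fin n → A) : Equiv.Perm (Fin n × A) where
  toFun y := (g • y.1, v y.1 * y.2)
  invFun y := (g⁻¹ • y.1, (v (g⁻¹ • y.1))⁻¹ * y.2)
  left_inv y := by simp
  right_inv y := by simp

theorem lperm_mul (g h : G) (v w : Fin n → A) :
    lperm g v * lperm h w = lperm (g * h) (fun x => v (h • x) * w x) := by
  ext y <;> simp [lperm, mul_smul, mul_assoc]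

theorem lperm_inj {g : G} {v w : Fin n → A} (h : lperm g v = lperm g w) : v = w := by
  funext x
  simpa [lperm] using congrArg (fun e : Equiv.Perm (Fin n × A) => (e (x, 1)).2) h

/-- The elements with lifted components. -/
def Lifted : Subgroup (G × Equiv.Perm (Fin n × A)) where
  carrier := {p | ∃ v : Fin n → A, (∀ x, π (v x) = comp x₀ ht p.1 x) ∧ p.2 = lperm p.1 v}
  one_mem' := ⟨fun _ => 1, fun x => by rw [Prod.fst_one, comp_one, map_one], by ext y <;> simp [lperm]⟩
  mul_mem' := by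
    rintro a b ⟨v, hv, ea⟩ ⟨w, hw, eb⟩
    refine ⟨fun x => v (b.1 • x) * w x, fun x => ?_, ?_⟩
    · rw [Prod.fst_mul, comp_mul, map_mul, hv, hw]
    · rw [Prod.snd_mul, ea, eb, lperm_mul]; rfl
  inv_mem' := by
    rintro a ⟨v, hv, ea⟩
    refine ⟨fun x => (v (a.1⁻¹ • x))⁻¹, fun x => ?_, ?_⟩
    · rw [map_inv, hv, Prod.fst_inv, inv_eq_iff_mul_eq_one, ← comp_mul, mul_inv_cancel, comp_one]
    · rw [Prod.snd_inv, ea, inv_eq_iff_mul_eq_one, lperm_mul, Prod.fst_inv, mul_inv_cancel]
      ext y <;> simp [lperm]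

variable {ht π}

/-- The projection. -/
def down : Lifted x₀ ht π →* G := (MonoidHom.fst _ _).comp (Lifted x₀ ht π).subtype

/-- The lifted components of an element. -/
noncomputable def lab (p : Lifted x₀ ht π) : Fin n → A := p.2.choose

theorem lab_spec (p : Lifted x₀ ht π) :
    (∀ x, π (lab x₀ p x) = comp x₀ ht (down x₀ p) x) ∧ (p : G × Equiv.Perm (Fin n × A)).2 = lperm (down x₀ p) (lab x₀ p) :=
  p.2.choose_spec

theorem lab_mul (p q : Lifted x₀ ht π) :
    lab x₀ (p * q) = fun x => lab x₀ p (down x₀ q • x) * lab x₀ q x := by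
  have h := (lab_spec x₀ (p * q)).2
  rw [Subgroup.coe_mul, Prod.snd_mul, (lab_spec x₀ p).2, (lab_spec x₀ q).2, lperm_mul, ← map_mul] at h
  exact (lperm_inj h).symm

theorem lab_ker {p : Lifted x₀ ht π} (hp : down x₀ p = 1) (x : Fin n) : lab x₀ p x ∈ π.ker := by
  rw [MonoidHom.mem_ker, (lab_spec x₀ p).1, hp, comp_one]

/-- An element is determined by its image and its components. -/
theorem eq_of_lab {p q : Lifted x₀ ht π} (hd : down x₀ p = down x₀ q) (hl : lab x₀ p = lab x₀ q) : p = q := by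
  refine Subtype.ext (Prod.ext hd ?_)
  rw [(lab_spec x₀ p).2, (lab_spec x₀ q).2, hd, hl]

theorem exists_lift (hπ : Function.Surjective π) (g : G) : ∃ p : Lifted x₀ ht π, down x₀ p = g :=
  ⟨⟨(g, lperm g fun x => (hπ (comp x₀ ht g x)).choose), fun x => (hπ (comp x₀ ht g x)).choose,
    fun x => (hπ (comp x₀ ht g x)).choose_spec, rfl⟩, rfl⟩

/-- A stem extension with kernel of prime order `q`, from a hom on the kernel of `π` and a commuting pair whose
lifts fail to commute. -/
theorem exists_stem {q : ℕ} [Fact q.Prime] (hπ : Function.Surjective π) (hc : π.ker ≤ center A)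
    (χ : π.ker →* Multiplicative (ZMod q))
    (g h : G) (hgh : g * h = h * g) (v w d : Fin n → A)
    (hv : ∀ x, π (v x) = comp x₀ ht g x) (hw : ∀ x, π (w x) = comp x₀ ht h x)
    (hd : ∀ x, v (h • x) * w x = d x * (w (g • x) * v x)) (s : Fin n → π.ker) (hs : ∀ x, (s x : A) = d x)
    (hne : ∏ x, χ (s x) ≠ 1) :
    ∃ (E : Type u) (_ : Group E) (_ : Finite E) (τ : E →* G), Cfsg.IsStemExtension τ ∧ Nat.card τ.ker = q := by
  classical
  let P := Lifted x₀ ht π
  haveI : Finite P := inferInstance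
  let K : Subgroup P := (down x₀).ker
  -- the sum of the labels
  let val : K →* Multiplicative (ZMod q) :=
    { toFun := fun p => ∏ x, χ ⟨lab x₀ p.1 x, lab_ker x₀ p.2 x⟩
      map_one' := by
        have h1 : lab x₀ (1 : P) = fun _ => 1 := by
          have := (lab_spec x₀ (1 : P)).2
          rw [map_one] at this
          refine (lperm_inj (g := (1 : G)) ?_).symm
          rw [← this]
          ext y <;> simp [lperm]
        refine Finset.prod_eq_one fun x _ => ?_
        rw [show (⟨lab x₀ (1 : K).1 x, _⟩ : π.ker) = 1 from Subtype.ext (congrFun h1 x), map_one]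
      map_mul' := fun a b => by
        rw [← Finset.prod_mul_distrib]
        refine Finset.prod_congr rfl fun x _ => ?_
        rw [← map_mul]
        refine congrArg χ (Subtype.ext ?_)
        show lab x₀ (a.1 * b.1) x = lab x₀ a.1 x * lab x₀ b.1 x
        rw [lab_mul, show down x₀ b.1 = 1 from b.2]
        simp }
  let N : Subgroup P := val.ker.map K.subtype
  have hmemN : ∀ p : P, p ∈ N ↔ ∃ hp : p ∈ K, val ⟨p, hp⟩ = 1 := fun p =>
    ⟨fun ⟨a, ha, e⟩ => by subst e; exact ⟨a.2, ha⟩, fun ⟨hp, e⟩ => ⟨⟨p, hp⟩, e, rfl⟩⟩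
  haveI hKn : K.Normal := MonoidHom.normal_ker _
  have hconj : ∀ (r : P) (a : K), val ⟨r * a.1 * r⁻¹, hKn.conj_mem _ a.2 r⟩ = val a := by
    intro r a
    suffices hb : ∀ b : K, b.1 * r = r * a.1 → val b = val a from hb _ (by simp)
    intro b e
    have hl := congrArg (lab x₀) e
    rw [lab_mul x₀ b.1 r, lab_mul x₀ r a.1, show down x₀ a.1 = 1 from a.2] at hl
    show ∏ x, χ ⟨lab x₀ b.1 x, lab_ker x₀ b.2 x⟩ = ∏ x, χ ⟨lab x₀ a.1 x, lab_ker x₀ a.2 x⟩
    refine (Fintype.prod_equiv (MulAction.toPerm (down x₀ r)) _ _ fun x => ?_).symm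
    refine congrArg χ (Subtype.ext ?_)
    have hx := congrFun hl x
    simp only [one_smul] at hx
    show lab x₀ a.1 x = lab x₀ b.1 (down x₀ r • x)
    rw [mem_center_iff.mp (hc (lab_ker x₀ a.2 x))] at hx
    exact (mul_right_cancel hx).symm
  haveI hNn : N.Normal := ⟨fun p hp r => by
    obtain ⟨hpK, e⟩ := (hmemN p).mp hp
    exact (hmemN _).mpr ⟨hKn.conj_mem _ hpK r, (hconj r ⟨p, hpK⟩).trans e⟩⟩
  have hle : N ≤ K := fun p hp => ((hmemN p).mp hp).1
  let τ : P ⧸ N →* G := QuotientGroup.lift N (down x₀) hle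
  have hτs : Function.Surjective τ := fun g => by
    obtain ⟨p, hp⟩ := exists_lift x₀ (ht := ht) hπ g
    exact ⟨QuotientGroup.mk p, hp⟩
  -- the commutator
  let a : P := ⟨(g, lperm g v), v, hv, rfl⟩
  let b : P := ⟨(h, lperm h w), w, hw, rfl⟩
  have la : lab x₀ a = v := (lperm_inj ((lab_spec x₀ a).2)).symm
  have lb : lab x₀ b = w := (lperm_inj ((lab_spec x₀ b).2)).symm
  have hzK : a * b * (b * a)⁻¹ ∈ K := by
    show down x₀ (a * b * (b * a)⁻¹) = 1
    rw [map_mul, map_inv, mul_inv_eq_one, map_mul, map_mul]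
    exact hgh
  set z : K := ⟨a * b * (b * a)⁻¹, hzK⟩ with hz
  have hval : val z = ∏ x, χ (s x) := by
    suffices hzz : ∀ c : K, c.1 * (b * a) = a * b → val c = ∏ x, χ (s x) from hzz z (inv_mul_cancel_right _ _)
    intro c e
    have hl := congrArg (lab x₀) e
    have hba : down x₀ (b * a) = h * g := rfl
    rw [lab_mul x₀ c.1 (b * a), hba, lab_mul x₀ b a, lab_mul x₀ a b, la, lb] at hl
    show ∏ x, χ ⟨lab x₀ c.1 x, lab_ker x₀ c.2 x⟩ = _
    refine (Fintype.prod_equiv (MulAction.toPerm (h * g)) _ _ fun x => ?_).symm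
    refine congrArg χ (Subtype.ext ?_)
    have hx := congrFun hl x
    simp only [show down x₀ a = g from rfl, show down x₀ b = h from rfl] at hx
    rw [hs]
    exact (mul_right_cancel (hx.trans (hd x))).symm
  have hzne : val z ≠ 1 := hval ▸ hne
  have hkerτ : τ.ker = K.map (QuotientGroup.mk' N) := QuotientGroup.ker_lift _ _ hle
  have hzN : (QuotientGroup.mk' N) z.1 ∈ τ.ker := hkerτ ▸ mem_map_of_mem _ z.2
  have hq : Nat.card τ.ker = q := by
    have hsurj : Function.Surjective val := by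
      rw [← MonoidHom.range_eq_top]
      haveI : Fact (Nat.card (Multiplicative (ZMod q))).Prime := ⟨by simpa using (Fact.out : q.Prime)⟩
      rcases (val.range).eq_bot_or_eq_top_of_prime_card with hb | ht'
      · exact absurd (MonoidHom.range_eq_bot_iff.mp hb ▸ rfl : val z = 1) hzne
      · exact ht'
    let f : K →* τ.ker := ((QuotientGroup.mk' N).comp K.subtype).codRestrict τ.ker fun k => hkerτ ▸ mem_map_of_mem _ k.2
    have hfs : Function.Surjective f := by
      rintro ⟨y, hy⟩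
      obtain ⟨k, hk, e⟩ := mem_map.mp (hkerτ ▸ hy : y ∈ K.map (QuotientGroup.mk' N))
      exact ⟨⟨k, hk⟩, Subtype.ext e⟩
    have hfk : f.ker = val.ker := by
      ext k
      rw [MonoidHom.mem_ker, MonoidHom.mem_ker, Subtype.ext_iff]
      show (QuotientGroup.mk k.1 : P ⧸ N) = 1 ↔ _
      rw [QuotientGroup.eq_one_iff, hmemN]
      exact ⟨fun ⟨_, e⟩ => e, fun e => ⟨k.2, e⟩⟩
    rw [← Nat.card_congr (QuotientGroup.quotientKerEquivOfSurjective f hfs).toEquiv, hfk,
      Nat.card_congr (QuotientGroup.quotientKerEquivOfSurjective val hsurj).toEquiv]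
    simp
  refine ⟨P ⧸ N, inferInstance, inferInstance, τ, ⟨hτs, fun e he => ?_, fun e he => ?_⟩, hq⟩
  · obtain ⟨k, hk, rfl⟩ := mem_map.mp (hkerτ ▸ he : e ∈ K.map (QuotientGroup.mk' N))
    refine mem_center_iff.mpr fun y => ?_
    induction y using QuotientGroup.induction_on with
    | _ r =>
      show (QuotientGroup.mk (r * k) : P ⧸ N) = QuotientGroup.mk (k * r)
      rw [QuotientGroup.eq]
      have hm : k⁻¹ * (r⁻¹ * k * r) ∈ K := mul_mem (inv_mem hk) (by simpa using hKn.conj_mem _ hk r⁻¹)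
      rw [show (r * k)⁻¹ * (k * r) = k⁻¹ * (r⁻¹ * k * r) by group, hmemN]
      refine ⟨hm, ?_⟩
      have hcj := hconj r⁻¹ ⟨k, hk⟩
      simp only [inv_inv] at hcj
      rw [show (⟨k⁻¹ * (r⁻¹ * k * r), hm⟩ : K) = ⟨k, hk⟩⁻¹ * ⟨r⁻¹ * k * r, by simpa using hKn.conj_mem _ hk r⁻¹⟩
        from rfl, map_mul, map_inv, hcj, inv_mul_cancel]
  · haveI : Fact (Nat.card τ.ker).Prime := ⟨hq ▸ (Fact.out : q.Prime)⟩
    have hgen : τ.ker ≤ zpowers ((QuotientGroup.mk' N) z.1) := by
      intro y hy
      have hz1 : (⟨_, hzN⟩ : τ.ker) ≠ 1 := fun e => hzne (by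
        obtain ⟨_, e'⟩ := (hmemN z.1).mp ((QuotientGroup.eq_one_iff _).mp (congrArg Subtype.val e))
        exact e')
      obtain ⟨k, hk⟩ : (⟨y, hy⟩ : τ.ker) ∈ zpowers (⟨_, hzN⟩ : τ.ker) := mem_zpowers_of_prime_card rfl hz1
      exact ⟨k, congrArg Subtype.val hk⟩
    refine zpowers_le.mpr ?_ (hgen he)
    rw [show z.1 = ⁅a, b⁆ by simp [z, commutatorElement_def, mul_assoc], map_commutatorElement]
    exact commutator_mem_commutator (mem_top _) (mem_top _)

end CfsgLib.TransferExt
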