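import Mathlib
import Cfsg.Agent.Lib.CoprimeClassSizes

/-!
Groups in which every class size involves primes from one side of a partition only.
-/

set_option autoImplicit false

namespace CfsgLib.CopClass

open Subgroup
open scoped Pointwise

universe u
variable {G : Type u} [Group G] [Finite G]

/-- All prime divisors of `s` are in `S`. -/
def InS (S : Set ℕ) (s : ℕ) : Prop := ∀ p : ℕ, p.Prime → p ∣ s → p ∈ S

theorem InS.dvd {S : Set ℕ} {s t : ℕ} (h : InS S s) (hd : t ∣ s) : InS S t :=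
  fun p hp hpt => h p hp (hpt.trans hd)

theorem InS.coprime {S : Set ℕ} {s t : ℕ} (h : InS S s) (h' : InS Sᶜ t) : s.Coprime t :=
  Nat.coprime_of_dvd fun p hp hps hpt => h' p hp hpt (h p hp hps)

/-- The class sizes split along `S`, with maxima `n` and `m`. -/
structure Disc (S : Set ℕ) (x y : G) (n m : ℕ) : Prop where
  hn : 1 < n
  hnm : n < m
  inS : InS S n
  outS : InS Sᶜ m
  split : ∀ z : G, InS S (cs z) ∨ InS Sᶜ (cs z)
  le_n : ∀ z : G, InS S (cs z) → cs z ≤ n
  le_m : ∀ z : G, cs z ≤ m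
  hx : cs x = n
  hy : cs y = m

namespace Disc

variable {S : Set ℕ} {x y : G} {n m : ℕ}

open scoped Classical in
/-- The primes of `S`. -/
noncomputable def NS (S : Set ℕ) (G : Type u) [Group G] : ℕ :=
  ∏ p ∈ (Nat.card G).primeFactors.filter (· ∈ S), p

theorem prime_dvd_NS {p : ℕ} (hp : p.Prime) : p ∣ NS S G ↔ p ∣ Nat.card G ∧ p ∈ S := by
  classical
  unfold NS
  constructor
  · intro h
    obtain ⟨a, ha, hpa⟩ := (hp.prime.dvd_finset_prod_iff _).mp h
    obtain ⟨ha1, ha2⟩ := Finset.mem_filter.mp ha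
    rw [(Nat.prime_dvd_prime_iff_eq hp (Nat.prime_of_mem_primeFactors ha1)).mp hpa]
    exact ⟨Nat.dvd_of_mem_primeFactors ha1, ha2⟩
  · intro h
    exact Finset.dvd_prod_of_mem (fun a => a)
      (Finset.mem_filter.mpr ⟨Nat.mem_primeFactors.mpr ⟨hp, h.1, Nat.card_pos.ne'⟩, h.2⟩)

theorem out_coprime {t : ℕ} (h : InS Sᶜ t) : t.Coprime (NS S G) :=
  Nat.coprime_of_dvd fun _ hp hpt hpN => h _ hp hpt ((prime_dvd_NS hp).mp hpN).2

theorem mixed (h : Disc S x y n m) {a : G} {p q : ℕ} (hp : p.Prime) (hq : q.Prime)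
    (hpS : p ∈ S) (hqS : q ∉ S) (hpd : p ∣ cs a) (hqd : q ∣ cs a) : False := by
  rcases h.split a with h1 | h1
  · exact hqS (h1 q hq hqd)
  · exact h1 p hp hpd hpS

theorem cs_ne_one {z : G} (hz : z ∉ center G) : cs z ≠ 1 := fun e => hz (cs_one_iff.mp e)

theorem no_mix (h : Disc S x y n m) {a b : G} (hab : Commute a b) (hco : (orderOf a).Coprime (orderOf b))
    (ha : InS S (cs a)) (ha' : a ∉ center G) (hb : InS Sᶜ (cs b)) (hb' : b ∉ center G) : False := by
  have he := inf_cz_eq hab hco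
  obtain ⟨p, hp, hpd⟩ := Nat.exists_prime_and_dvd (cs_ne_one ha')
  obtain ⟨q, hq, hqd⟩ := Nat.exists_prime_and_dvd (cs_ne_one hb')
  exact h.mixed hp hq (ha p hp hpd) (hb q hq hqd)
    (hpd.trans (index_dvd_of_le ((le_of_eq he).trans inf_le_left)))
    (hqd.trans (index_dvd_of_le ((le_of_eq he).trans inf_le_right)))

theorem cop (h : Disc S x y n m) : m.Coprime n := (h.inS.coprime h.outS).symm

theorem eq_n (h : Disc S x y n m) {z : G} (hd : n ∣ cs z) : cs z = n := by
  rcases h.split z with h1 | h1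
  · exact le_antisymm (h.le_n z h1) (Nat.le_of_dvd (cs_pos z) hd)
  · exfalso
    have := h.hn
    have := Nat.eq_one_of_dvd_coprimes (h.inS.coprime h1) dvd_rfl hd
    omega

theorem translate_top (h : Disc S x y n m) {a : G} (ha : (cs a).Coprime m) :
    Nat.card (kk a) ∣ m := by
  have h1 : (cs a).Coprime (cs y) := by rw [h.hy]; exact ha
  have h2 : cs (a * y) = cs y := le_antisymm (h.hy ▸ h.le_m _) (cs_mul_ge h1)
  exact h.hy ▸ (kk_translate h1 h2).2

theorem kk_top (h : Disc S x y n m) {a : G} (ha : (cs a).Coprime m) :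
    (Nat.card (kk a)).Coprime (cs a) :=
  ha.symm.coprime_dvd_left (h.translate_top ha)

theorem co_kk (h : Disc S x y n m) {a k : G} (ha : (cs a).Coprime m) (hk : k ∈ kk a) : Co (NS S G) k :=
  (out_coprime h.outS).coprime_dvd_left (((kk a).orderOf_dvd_natCard hk).trans (h.translate_top ha))

theorem cs_x_coprime (h : Disc S x y n m) : (cs x).Coprime m := h.hx ▸ h.cop.symm

theorem exists_k0 (h : Disc S x y n m) : ∃ k0 ∈ kk x, cz k0 = cz x := by
  obtain ⟨z, hz, k, hk, e⟩ := exists_center_mul (h.kk_top h.cs_x_coprime)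
  refine ⟨k, hk, ?_⟩
  ext g
  rw [mem_cz, mem_cz, e]
  have hzg := mem_center_iff.mp hz g
  constructor
  · intro h1; rw [← mul_assoc, hzg, mul_assoc, h1, mul_assoc]
  · intro h1
    refine mul_left_cancel (a := z) ?_
    rw [← mul_assoc, ← hzg, mul_assoc, h1, mul_assoc]

theorem pn_central (h : Disc S x y n m) {t : G} (ht : t ∈ cz x) (hPn : Pn (NS S G) t) : t ∈ center G := by
  obtain ⟨k0, hk0, hc⟩ := h.exists_k0
  have hcomm : Commute t k0 := by rw [← hc] at ht; exact mem_cz.mp ht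
  have hco := coprime_of_pn_co hPn (h.co_kk h.cs_x_coprime hk0)
  have h1 : cz (t * k0) = cz t ⊓ cz x := by rw [inf_cz_eq hcomm hco, hc]
  have h2 : cs (t * k0) = n := h.eq_n (by
    rw [← h.hx]; exact index_dvd_of_le ((le_of_eq h1).trans inf_le_right))
  have h3 : cz (t * k0) = cz x := eq_of_le_of_index ((le_of_eq h1).trans inf_le_right) (by
    change cs (t * k0) ≤ cs x; rw [h2, h.hx])
  have h4 : cs t ∣ n := by
    rw [← h.hx]; exact index_dvd_of_le ((le_of_eq h3.symm).trans ((le_of_eq h1).trans inf_le_left))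
  have h5 : (cs t).Coprime m := h.cop.symm.coprime_dvd_left h4
  obtain ⟨z, hz, k, hk, e⟩ := exists_center_mul (h.kk_top h5)
  rw [e]
  exact mul_mem hz (central_of_pn_co hz e hPn (h.co_kk h5 hk))

/-- `kk x` preserves every class of size prime to `S`. -/
theorem translate_out (h : Disc S x y n m) {b : G} (hb : InS Sᶜ (cs b)) (hb1 : b ∉ center G) :
    ∀ k ∈ kk x, ∀ u ∈ cls b, k * u ∈ cls b := by
  have hcn : (cs b).Coprime n := (h.inS.coprime hb).symm
  have hxb : (cs x).Coprime (cs b) := by rw [h.hx]; exact hcn.symm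
  rcases h.split (x * b) with h1 | h1
  · exfalso
    have h2 : cs (x * b) = cs x := le_antisymm (h.hx ▸ h.le_n _ h1) (cs_mul_ge' hxb)
    have h2' : cs (b * x) = cs x := (cs_mul_comm x b).trans h2
    have hdvd : Nat.card (kk b) ∣ n := h.hx ▸ (kk_translate hxb.symm h2').2
    obtain ⟨z, hz, k, hk, e⟩ := exists_center_mul (hcn.symm.coprime_dvd_left hdvd)
    obtain ⟨k0, hk0, hc⟩ := h.exists_k0
    have hkn : orderOf k ∣ n := ((kk b).orderOf_dvd_natCard hk).trans hdvd
    have hcomm : Commute k k0 :=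
      Subgroup.commute_of_normal_of_disjoint _ _ (kk_normal b) (kk_normal x)
        (Subgroup.disjoint_of_coprime_natCard
          ((h.cop.coprime_dvd_left (h.translate_top h.cs_x_coprime)).symm.coprime_dvd_left hdvd)) k k0 hk hk0
    have hkC : k ∈ cz x := hc ▸ mem_cz.mpr hcomm.eq
    obtain ⟨a, b', hab, ha, hb', hPn, hCo⟩ := split_pn (NS S G) k
    have hb'1 : b' = 1 := by
      refine orderOf_eq_one_iff.mp (Nat.eq_one_iff_not_exists_prime_dvd.mpr fun p hp hpd => ?_)
      have hp1 : p ∣ orderOf k := hpd.trans (orderOf_dvd_of_mem_zpowers hb')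
      exact hp.ne_one (Nat.eq_one_of_dvd_coprimes hCo hpd
        ((prime_dvd_NS hp).mpr ⟨hp1.trans (orderOf_dvd_natCard k), h.inS p hp (hp1.trans hkn)⟩))
    rw [hb'1, mul_one] at hab
    subst hab
    exact hb1 (e ▸ mul_mem hz (h.pn_central hkC hPn))
  · refine (kk_translate hxb ?_).1
    refine le_antisymm (Nat.le_of_dvd (cs_pos b) ?_) (cs_mul_ge hxb)
    exact Nat.Coprime.dvd_of_dvd_mul_left (by rw [h.hx]; exact (h.inS.coprime h1).symm) (cs_mul_dvd hxb)

theorem fixed_eq_one (h : Disc S x y n m) {w k : G} (hw : InS Sᶜ (cs w)) (hw1 : w ∉ center G)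
    (hwP : Pn (NS S G) w) (hk : k ∈ kk x) (hkw : Commute k w) : k = 1 :=
  conj_translate_fixed (fun _ hl => h.co_kk h.cs_x_coprime hl) hwP (h.translate_out hw hw1) hk hkw

theorem exists_sylow_conj {q : ℕ} [Fact q.Prime] {H : Subgroup G} (hH : ¬ q ∣ H.index) {u : G}
    {k : ℕ} (hu : u ^ q ^ k = 1) : ∃ g : G, g * u * g⁻¹ ∈ H := by
  have hR : IsPGroup q (zpowers u) := by
    obtain ⟨j, -, hj⟩ := (Nat.dvd_prime_pow Fact.out).mp (orderOf_dvd_of_pow_eq_one hu)
    exact IsPGroup.of_card (by rw [Nat.card_zpowers, hj])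
  obtain ⟨T, hT⟩ := hR.exists_le_sylow
  let Q : Sylow q H := default
  obtain ⟨T', hT'⟩ := (Q.isPGroup'.map H.subtype).exists_le_sylow
  have hT'eq : (T' : Subgroup G) = (Q : Subgroup H).map H.subtype := by
    refine (Subgroup.eq_of_le_of_card_ge hT' ?_).symm
    rw [Sylow.card_eq_multiplicity, Subgroup.card_map_of_injective H.subtype_injective, Sylow.card_eq_multiplicity]
    refine Nat.le_of_eq (congrArg (q ^ ·) ?_)
    rw [← H.card_mul_index, Nat.factorization_mul Nat.card_pos.ne' index_ne_zero_of_finite]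
    simp [Nat.factorization_eq_zero_of_not_dvd hH]
  obtain ⟨g, hg⟩ := MulAction.exists_smul_eq G T T'
  refine ⟨g, ?_⟩
  have h3 : g * u * g⁻¹ ∈ (T' : Subgroup G) := by
    rw [← hg, Sylow.coe_subgroup_smul]
    exact Subgroup.smul_mem_pointwise_smul u (MulAut.conj g) _ (hT (mem_zpowers u))
  exact map_subtype_le _ (hT'eq ▸ h3)

theorem x_ne_center (h : Disc S x y n m) : x ∉ center G := fun hx' => by
  have h1 := cs_one_iff.mpr hx'
  rw [h.hx] at h1
  have := h.hn; omega

/-- The `S'`-elements centralising an `S`-element with `S'`-class are central. -/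
theorem co_central (h : Disc S x y n m) {w t : G} (hw : InS Sᶜ (cs w)) (hw1 : w ∉ center G)
    (hwP : Pn (NS S G) w) (ht : t ∈ cz w) (htC : Co (NS S G) t) : t ∈ center G := by
  classical
  by_contra htz
  obtain ⟨r, hr, u, hu, ⟨k, huk⟩, huz⟩ := CentMax.exists_primary htz
  haveI := Fact.mk hr
  have hu1 : u ≠ 1 := fun e => huz (e ▸ one_mem _)
  have hrd : r ∣ orderOf u := by
    obtain ⟨j, -, hj⟩ := (Nat.dvd_prime_pow hr).mp (orderOf_dvd_of_pow_eq_one huk)
    rcases Nat.eq_zero_or_pos j with rfl | hj0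
    · exact absurd (orderOf_eq_one_iff.mp (by simpa using hj)) hu1
    · exact hj ▸ dvd_pow_self r hj0.ne'
  have hrS : r ∉ S := fun hrS => hr.ne_one (Nat.eq_one_of_dvd_coprimes htC
    (hrd.trans (orderOf_dvd_of_mem_zpowers hu)) ((prime_dvd_NS hr).mpr ⟨hrd.trans (orderOf_dvd_natCard u), hrS⟩))
  have hout : InS Sᶜ (cs u) := by
    rcases h.split u with h1 | h1
    · exfalso
      refine h.no_mix (show Commute u w from ?_) ?_ h1 huz hw hw1
      · obtain ⟨i, rfl⟩ := hu
        exact (show Commute t w from mem_cz.mp ht).zpow_left i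
      · exact ((coprime_of_pn_co hwP htC).coprime_dvd_right (orderOf_dvd_of_mem_zpowers hu)).symm
    · exact h1
  have hrn : ¬ r ∣ cs x := fun hd => hrS (h.inS r hr (h.hx ▸ hd))
  let Q : Sylow r (cz x) := default
  set R : Subgroup G := (Q : Subgroup (cz x)).map (cz x).subtype with hR
  have hRx : R ≤ cz x := map_subtype_le _
  have hRp : IsPGroup r R := Q.isPGroup'.map _
  have hRi : ¬ r ∣ R.index := by
    rw [hR, Subgroup.index_map_subtype]
    exact fun hd => ((Nat.Prime.dvd_mul hr).mp hd).elim Q.not_dvd_index hrn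
  obtain ⟨g0, hg0⟩ := exists_sylow_conj hRi huk
  set u1 := g0 * u * g0⁻¹ with hu1e
  set w1 := g0 * w * g0⁻¹
  have hu1S : InS Sᶜ (cs u1) := by rw [hu1e, cs_conj]; exact hout
  have hu1z : u1 ∉ center G := fun e => huz (by
    have := (inferInstance : (center G).Normal).conj_mem _ e g0⁻¹
    simpa [hu1e, mul_assoc] using this)
  have hu1k : u1 ^ r ^ k = 1 := by rw [hu1e, conj_pow, huk]; group
  obtain ⟨k0, hk0, hc⟩ := h.exists_k0
  obtain ⟨k1, k1', hk01, hk1, hk1', ⟨e, hk1e⟩, hk1'o⟩ := CycSyl.split (p := r) k0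
  have hcopr : ∀ c : G, (orderOf c).Coprime r → (orderOf c).Coprime (orderOf u1) := fun c hc' =>
    (Nat.Coprime.pow_right k hc').coprime_dvd_right (orderOf_dvd_of_pow_eq_one hu1k)
  have hInS : ∀ c : G, cz x ≤ cz c → InS S (cs c) := fun c hle => h.inS.dvd (h.hx ▸ index_dvd_of_le hle)
  have hk1'z : k1' ∈ center G := by
    by_contra hz
    have hle : cz x ≤ cz k1' := hc ▸ CentMax.cz_le_of_mem_zpowers hk1'
    exact h.no_mix (show Commute k1' u1 from (mem_cz.mp (hle (hRx hg0))).symm) (hcopr _ hk1'o) (hInS _ hle) hz hu1S hu1z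
  have hck1 : cz k1 = cz x := by
    rw [← hc, ← hk01]
    ext g
    rw [mem_cz, mem_cz]
    have hg := mem_center_iff.mp hk1'z g
    constructor
    · intro h1; rw [← mul_assoc, h1, mul_assoc, hg, mul_assoc]
    · intro h1
      refine mul_right_cancel (b := k1') ?_
      rw [mul_assoc, h1, mul_assoc, ← hg, mul_assoc]
  -- `C(x)` is an `r`-group modulo the centre
  have hr' : ∀ c ∈ cz x, (orderOf c).Coprime r → c ∈ center G := by
    intro c hcx hco
    by_contra hz
    have hcc : Commute c k1 := by rw [← hck1] at hcx; exact mem_cz.mp hcx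
    have hco1 : (orderOf c).Coprime (orderOf k1) :=
      (Nat.Coprime.pow_right e hco).coprime_dvd_right (orderOf_dvd_of_pow_eq_one hk1e)
    have he := inf_cz_eq hcc hco1
    rw [hck1] at he
    have h2 : cs (c * k1) = n := h.eq_n (h.hx ▸ index_dvd_of_le ((le_of_eq he).trans inf_le_right))
    have h3 : cz (c * k1) = cz x := eq_of_le_of_index ((le_of_eq he).trans inf_le_right) (by
      change cs (c * k1) ≤ cs x; rw [h2, h.hx])
    have hle : cz x ≤ cz c := (le_of_eq h3.symm).trans ((le_of_eq he).trans inf_le_left)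
    exact h.no_mix (show Commute c u1 from (mem_cz.mp (hle (hRx hg0))).symm) (hcopr _ hco) (hInS _ hle) hz hu1S hu1z
  have hidx : ∀ g : G, InS Sᶜ (cs g) → g ∉ center G → ∀ p : ℕ, p.Prime → p ∣ cs g → p = r := by
    intro g hg _ p hp hpd
    by_contra hpr
    haveI := Fact.mk hp
    have hpn : ¬ p ∣ cs x := fun hd => hg p hp hpd (h.inS p hp (h.hx ▸ hd))
    let P : Sylow p (cz x) := default
    have hPle : (P : Subgroup (cz x)).map (cz x).subtype ≤ center G := by
      rintro _ ⟨⟨c, hcx⟩, hcP, rfl⟩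
      obtain ⟨j, hj⟩ := P.isPGroup' ⟨_, hcP⟩
      have hj' : c ^ p ^ j = 1 := congrArg (fun s : (P : Subgroup (cz x)) => ((s : cz x) : G)) hj
      exact hr' c hcx ((Nat.Coprime.pow_left j ((Nat.coprime_primes hp hr).mpr hpr)).coprime_dvd_left
        (orderOf_dvd_of_pow_eq_one hj'))
    have h1 := hpd.trans (index_dvd_of_le (hPle.trans (center_le_centralizer ({g} : Set G))))
    rw [Subgroup.index_map_subtype] at h1
    exact ((Nat.Prime.dvd_mul hp).mp h1).elim P.not_dvd_index hpn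
  have hfac : ∀ g : G, InS Sᶜ (cs g) → g ∉ center G → ∀ h' : G, ∃ ρ ∈ R, ∃ c ∈ cz g, h' = ρ * c := by
    intro g hg hgz h'
    obtain ⟨c, hc', ρ, hρ, e⟩ := exists_eq_mul (show (cz g).index.Coprime R.index from
      Nat.coprime_of_dvd fun p hp hpg hpR => hRi ((hidx g hg hgz p hp hpg) ▸ hpR)) h'
    exact ⟨ρ, hρ, c, hc', e⟩
  have hcore : ∀ g ∈ R, InS Sᶜ (cs g) → g ∉ center G → g ∈ R.normalCore := by
    intro g hg hgS hgz h'
    obtain ⟨ρ, hρ, c, hc', rfl⟩ := hfac g hgS hgz h'
    show ρ * c * g * (ρ * c)⁻¹ ∈ R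
    have e1 : ρ * c * g * (ρ * c)⁻¹ = ρ * (c * g * c⁻¹) * ρ⁻¹ := by group
    rw [e1, mem_cz_iff_conj.mp hc']
    exact mul_mem (mul_mem hρ hg) (inv_mem hρ)
  have hcoreS : ∀ g : G, InS S (cs g) → R.normalCore ≤ cz g := by
    intro g hg
    refine le_cz_of_coprime ?_
    obtain ⟨j, hj⟩ := IsPGroup.iff_card.mp (hRp.to_le R.normalCore_le)
    rw [hj]
    exact Nat.Coprime.pow_left j ((Nat.Prime.coprime_iff_not_dvd hr).mpr fun hd => hrS (hg r hr hd))
  have hu1R : ¬ R ≤ cz u1 := by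
    intro hle
    obtain ⟨p, hp, hpd⟩ := Nat.exists_prime_and_dvd (cs_ne_one hu1z)
    obtain rfl := hidx u1 hu1S hu1z p hp hpd
    exact hRi (hpd.trans (index_dvd_of_le hle))
  by_cases hnorm : R.normalCore = R
  · -- `R` is normal
    haveI hRn : R.Normal := hnorm ▸ Subgroup.normalCore_normal R
    obtain ⟨q, hq, w0, hw0, ⟨j, hw0k⟩, hw0z⟩ := CentMax.exists_primary hw1
    haveI := Fact.mk hq
    have hw0P : Pn (NS S G) w0 := pn_of_mem_zpowers hwP hw0
    have hw0S : InS Sᶜ (cs w0) := hw.dvd (index_dvd_of_le (CentMax.cz_le_of_mem_zpowers hw0))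
    have hqr : q ≠ r := by
      rintro rfl
      have hw01 : w0 ≠ 1 := fun e => hw0z (e ▸ one_mem _)
      refine hw01 (eq_one_of_pn_co hw0P ?_)
      refine Nat.Coprime.coprime_dvd_left (orderOf_dvd_of_pow_eq_one hw0k) (Nat.Coprime.pow_left j ?_)
      exact (Nat.Prime.coprime_iff_not_dvd hq).mpr fun hd => hrS ((prime_dvd_NS hq).mp hd).2
    haveI hnil : Group.IsNilpotent R := hRp.isNilpotent
    have hall : ∀ g ∈ R, R ≤ cz g ∨ ∃ ρ ∈ R, Commute w0 (ρ * g * ρ⁻¹) := by
      intro g hg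
      by_cases hgz : g ∈ center G
      · exact Or.inl fun a _ => mem_cz.mpr (mem_center_iff.mp hgz a)
      rcases h.split g with h1 | h1
      · exact Or.inl (hnorm ▸ hcoreS g h1)
      · obtain ⟨a, ha⟩ := exists_sylow_conj (q := q) (H := cz g)
          (fun hd => hqr (hidx g h1 hgz q hq hd)) hw0k
        obtain ⟨ρ, hρ, c, hc', e⟩ := hfac g h1 hgz a⁻¹
        refine Or.inr ⟨ρ, hρ, ?_⟩
        have h2 : Commute (a * w0 * a⁻¹) g := mem_cz.mp ha
        have h3 := h2.map (MulAut.conj a⁻¹).toMonoidHom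
        simp only [MulEquiv.toMonoidHom_eq_coe, MonoidHom.coe_coe, MulAut.conj_apply, inv_inv] at h3
        have e1 : a⁻¹ * (a * w0 * a⁻¹) * a = w0 := by group
        have e2 : a⁻¹ * g * a = ρ * g * ρ⁻¹ := by
          have ea : a = (ρ * c)⁻¹ := by rw [← e, inv_inv]
          calc a⁻¹ * g * a = ρ * (c * g * c⁻¹) * ρ⁻¹ := by rw [ea]; group
            _ = _ := by rw [mem_cz_iff_conj.mp hc']
        rwa [e1, e2] at h3
    by_cases hab : ∀ g ∈ R, R ≤ cz g
    · exact hu1R (hab u1 hg0)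
    · push Not at hab
      obtain ⟨g1, hg1, hg1'⟩ := hab
      let Z1 : Subgroup R := center R
      let T1 : Subgroup R := (cz w0).subgroupOf R
      have hZ1 : Z1 ≠ ⊤ := fun e => hg1' fun a ha => mem_cz.mpr (congrArg Subtype.val
        (mem_center_iff.mp (show (⟨g1, hg1⟩ : R) ∈ center R from e.ge (mem_top _)) ⟨a, ha⟩))
      have hT1 : T1 ≠ ⊤ := by
        intro e'
        obtain ⟨a, ha⟩ := exists_sylow_conj hRi hk1e
        have hk1R : k1 ∈ R := by
          have := hRn.conj_mem _ ha a⁻¹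
          simpa [mul_assoc] using this
        have hk1' : (⟨k1, hk1R⟩ : R) ∈ T1 := e'.ge (mem_top _)
        have hk11 := h.fixed_eq_one hw0S hw0z hw0P ((zpowers_le.mpr hk0) hk1) (mem_cz.mp (mem_subgroupOf.mp hk1'))
        refine h.x_ne_center (cs_one_iff.mp ?_)
        show (cz x).index = 1
        rw [← hck1, hk11]
        exact cs_one_iff.mpr (one_mem _)
      obtain ⟨M1, hM1, hZM⟩ := (eq_top_or_exists_le_coatom Z1).resolve_left hZ1
      obtain ⟨M2, hM2, hTM⟩ := (eq_top_or_exists_le_coatom T1).resolve_left hT1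
      haveI : M2.Normal := NormalizerCondition.normal_of_coatom M2 Group.normalizerCondition_of_isNilpotent hM2
      have hcov : ∀ a : R, a ∈ M1 ∨ a ∈ M2 := by
        intro a
        rcases hall (a : G) a.2 with h1 | ⟨ρ, hρ, h1⟩
        · exact Or.inl (hZM (mem_center_iff.mpr fun b => Subtype.ext (mem_cz.mp (h1 b.2))))
        · right
          have h2 : (⟨ρ, hρ⟩ : R) * a * (⟨ρ, hρ⟩ : R)⁻¹ ∈ M2 := hTM (mem_subgroupOf.mpr (mem_cz.mpr h1.symm.eq))
          have h3 := (inferInstance : M2.Normal).conj_mem _ h2 (⟨ρ, hρ⟩ : R)⁻¹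
          simpa [mul_assoc] using h3
      obtain ⟨a, -, ha⟩ := SetLike.exists_of_lt hM1.lt_top
      obtain ⟨b, -, hb⟩ := SetLike.exists_of_lt hM2.lt_top
      have ha2 := (hcov a).resolve_left ha
      have hb1' := (hcov b).resolve_right hb
      rcases hcov (a * b) with h1 | h1
      · exact ha (by simpa [mul_assoc] using mul_mem h1 (inv_mem hb1'))
      · exact hb (by simpa [← mul_assoc] using mul_mem (inv_mem ha2) h1)
  · refine hu1R fun ρ hρ => ?_
    have hu1c := hcore u1 hg0 hu1S hu1z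
    have hout' : ∀ a ∈ R, a ∉ R.normalCore → a ∈ cz u1 := by
      intro a ha hac
      have haz : a ∉ center G := fun e' => hac fun h' => by
        show h' * a * h'⁻¹ ∈ R
        rw [mem_center_iff.mp e' h', mul_inv_cancel_right]; exact ha
      rcases h.split a with h1 | h1
      · exact mem_cz.mpr (mem_cz.mp (hcoreS a h1 hu1c)).symm
      · exact absurd (hcore a ha h1 haz) hac
    by_cases hρc : ρ ∈ R.normalCore
    · obtain ⟨a, ha, hac⟩ := SetLike.exists_of_lt (lt_of_le_of_ne R.normalCore_le hnorm)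
      have h1 := hout' (a * ρ) (mul_mem ha hρ) fun e' => hac (by simpa [mul_assoc] using mul_mem e' (inv_mem hρc))
      simpa [← mul_assoc] using mul_mem (inv_mem (hout' a ha hac)) h1
    · exact hout' ρ hρ hρc

theorem co_part_central (h : Disc S x y n m) {b : G} (hb : InS Sᶜ (cs b)) (hb1 : b ∉ center G) :
    ∃ a c : G, a * c = b ∧ Pn (NS S G) a ∧ c ∈ center G := by
  obtain ⟨a, c, hac, ha, hc, hPn, hCo⟩ := split_pn (NS S G) b
  refine ⟨a, c, hac, hPn, ?_⟩
  have hcomm : Commute a c := by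
    obtain ⟨i, rfl⟩ := ha; obtain ⟨j, rfl⟩ := hc; exact Commute.zpow_zpow_self b i j
  by_cases haz : a ∈ center G
  · by_contra hcz
    have hle : cz b ≤ cz c := CentMax.cz_le_of_mem_zpowers hc
    have hcS : InS Sᶜ (cs c) := hb.dvd (index_dvd_of_le hle)
    obtain ⟨q, hq, hqn⟩ := Nat.exists_prime_and_dvd (show n ≠ 1 by have := h.hn; omega)
    haveI := Fact.mk hq
    have hqS := h.inS q hq hqn
    let Q : Sylow q (cz c) := default
    have hle2 : (Q : Subgroup (cz c)).map (cz c).subtype ≤ center G := by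
      rintro _ ⟨⟨t, ht⟩, htQ, rfl⟩
      by_contra htz
      obtain ⟨k, hk⟩ := Q.isPGroup' ⟨_, htQ⟩
      have hk' : t ^ q ^ k = 1 := congrArg (fun s : (Q : Subgroup (cz c)) => ((s : cz c) : G)) hk
      have htP : Pn (NS S G) t :=
        pn_of_prime ((prime_dvd_NS hq).mpr ⟨hqn.trans (h.hx ▸ (cz x).index_dvd_card), hqS⟩) hk'
      have htc : Commute t c := mem_cz.mp ht
      rcases h.split t with h1 | h1
      · exact h.no_mix htc (coprime_of_pn_co htP hCo) h1 htz hcS hcz
      · exact hcz (h.co_central h1 htz htP (mem_cz.mpr htc.symm.eq) hCo)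
    have h2 : q ∣ cs x := h.hx.symm ▸ hqn
    have h3 := h2.trans ((index_dvd_of_le (center_le_centralizer ({x} : Set G))).trans (index_dvd_of_le hle2))
    rw [Subgroup.index_map_subtype] at h3
    exact ((Nat.Prime.dvd_mul hq).mp h3).elim Q.not_dvd_index fun hd => hcS q hq hd hqS
  · refine h.co_central (hb.dvd (index_dvd_of_le ?_)) haz hPn (mem_cz.mpr hcomm.symm.eq) hCo
    exact CentMax.cz_le_of_mem_zpowers ha

/-- All class sizes prime to `S` equal `m`. -/
theorem cs_eq_m (h : Disc S x y n m) {b : G} (hb : InS Sᶜ (cs b)) (hb1 : b ∉ center G) : cs b = m := by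
  have hy1 : y ∉ center G := fun e => by
    have h1 := cs_one_iff.mpr e
    rw [h.hy] at h1
    have := h.hn; have := h.hnm; omega
  have key : ∀ v : G, InS Sᶜ (cs v) → v ∉ center G → ∀ t ∈ cz v, Co (NS S G) t → t ∈ center G := by
    intro v hv hv1 t ht htC
    obtain ⟨a, c, hac, haP, hc⟩ := h.co_part_central hv hv1
    have haz : a ∉ center G := fun e => hv1 (hac ▸ mul_mem e hc)
    have hcz : cz v = cz a := by
      ext g
      rw [mem_cz, mem_cz, ← hac, ← mul_assoc, mul_assoc a, ← mem_center_iff.mp hc g, ← mul_assoc]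
      exact mul_left_inj c
    refine h.co_central ?_ haz haP (hcz ▸ ht) htC
    have e : cs a = cs v := congrArg Subgroup.index hcz.symm
    exact e ▸ hv
  have hdvd : ∀ v : G, InS Sᶜ (cs v) → v ∉ center G → ∀ p : ℕ, p.Prime → p ∉ S →
      ¬ p ∣ (center G).relIndex (cz v) := by
    intro v hv hv1 p hp hpS hd
    haveI := Fact.mk hp
    let P : Sylow p (cz v) := default
    have hle : (P : Subgroup (cz v)) ≤ (center G).subgroupOf (cz v) := by
      rintro ⟨t, ht⟩ htP
      obtain ⟨k, hk⟩ := P.isPGroup' ⟨_, htP⟩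
      have hk' : t ^ p ^ k = 1 := congrArg (fun s : (P : Subgroup (cz v)) => ((s : cz v) : G)) hk
      exact mem_subgroupOf.mpr (key v hv hv1 t ht ((Nat.Coprime.pow_left k ((Nat.Prime.coprime_iff_not_dvd hp).mpr
        fun hd' => hpS ((prime_dvd_NS hp).mp hd').2)).coprime_dvd_left (orderOf_dvd_of_pow_eq_one hk')))
    exact P.not_dvd_index (hd.trans (index_dvd_of_le hle))
  have hy' : InS Sᶜ (cs y) := h.hy.symm ▸ h.outS
  have e1 := relIndex_mul_index (center_le_centralizer ({b} : Set G))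
  have e2 := relIndex_mul_index (center_le_centralizer ({y} : Set G))
  have hc1 : ((center G).relIndex (cz y)).Coprime (cs b) := Nat.coprime_of_dvd fun p hp hp1 hp2 =>
    hdvd y hy' hy1 p hp (hb p hp hp2) hp1
  have hc2 : ((center G).relIndex (cz b)).Coprime (cs y) := Nat.coprime_of_dvd fun p hp hp1 hp2 =>
    hdvd b hb hb1 p hp (hy' p hp hp2) hp1
  rw [← h.hy]
  refine Nat.dvd_antisymm ?_ ?_
  · refine hc1.symm.dvd_of_dvd_mul_left ?_
    change cs b ∣ (center G).relIndex (cz y) * cs y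
    exact (Dvd.intro_left _ e1).trans e2.symm.dvd
  · refine hc2.symm.dvd_of_dvd_mul_left ?_
    exact (Dvd.intro_left _ e2).trans e1.symm.dvd

theorem toHyp (h : Disc S x y n m) : Hyp x y n m where
  hn := h.hn
  hnm := h.hnm
  cop := h.cop
  le_m := h.le_m
  le_n := fun z hz => by
    rcases h.split z with h1 | h1
    · exact h.le_n z h1
    · by_cases hc : z ∈ center G
      · rw [cs_one_iff.mpr hc]; exact h.hn.le
      · rw [h.cs_eq_m h1 hc] at hz; omega
  hx := h.hx
  hy := h.hy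

end Disc

end CfsgLib.CopClass
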