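import Mathlib
import Cfsg.Agent.Lib.Coprime
import Cfsg.Agent.Lib.Elementary

/-! A bound for the product of the fixed-point orders in a coprime action of a `p`-group. -/

set_option autoImplicit false

namespace CfsgLib.FixProd

open scoped IsMulCommutative

variable {p : ℕ} [Fact p.Prime]

/-- Product over the elements of `P` of the orders of the centralisers in `V`. -/
noncomputable def prodFix {G : Type*} [Group G] [Finite G] (P V : Subgroup G) : ℕ :=
  ∏ x ∈ (Set.toFinite (P : Set G)).toFinset,
    Nat.card (V ⊓ Subgroup.centralizer ({x} : Set G) : Subgroup G)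

/-- The inequality to be proved. -/
def Bound (p : ℕ) {G : Type*} [Group G] [Finite G] (P V : Subgroup G) : Prop :=
  prodFix P V ^ p ≤
    Nat.card (V ⊓ Subgroup.centralizer (P : Set G) : Subgroup G) ^ ((p - 1) * Nat.card P) *
      Nat.card V ^ Nat.card P

variable {G : Type*} [Group G] [Finite G]

theorem card_toFinset (P : Subgroup G) : (Set.toFinite (P : Set G)).toFinset.card = Nat.card P := by
  rw [← Set.ncard_eq_toFinset_card]
  rfl

theorem card_map_mul {A B : Type*} [Group A] [Group B] (f : A →* B) (H : Subgroup A) :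
    Nat.card (H.map f) * Nat.card (H ⊓ f.ker : Subgroup A) = Nat.card H := by
  have h := Subgroup.card_eq_card_quotient_mul_card_subgroup (f.comp H.subtype).ker
  rw [Nat.card_congr (QuotientGroup.quotientKerEquivRange (f.comp H.subtype)).toEquiv,
    MonoidHom.range_comp, Subgroup.range_subtype] at h
  rw [h]
  congr 1
  rw [← MonoidHom.comap_ker]
  refine Eq.trans ?_ (Subgroup.card_map_of_injective H.subtype_injective)
  rw [Subgroup.map_comap_eq, Subgroup.range_subtype]

theorem mem_centralizer_singleton_iff' {x y : G} :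
    y ∈ Subgroup.centralizer ({x} : Set G) ↔ x * y = y * x := by
  rw [Subgroup.mem_centralizer_iff]
  simp

theorem centralizer_singleton_eq (x : G) :
    Subgroup.centralizer ({x} : Set G) = Subgroup.centralizer (Subgroup.zpowers x : Set G) := by
  rw [Subgroup.zpowers_eq_closure, Subgroup.centralizer_closure]

/-- Fixed points of a `p`-group in an invariant Sylow subgroup. -/
theorem card_fixed_sylow {A K : Subgroup G} (hA : IsPGroup p A)
    (hAK : A ≤ Subgroup.normalizer (K : Set G)) (hcop : (Nat.card A).Coprime (Nat.card K))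
    {q : ℕ} [Fact q.Prime] (S : Sylow q K)
    (hS : A ≤ Subgroup.normalizer ((S : Subgroup K).map K.subtype : Set G)) :
    Nat.card ((S : Subgroup K).map K.subtype ⊓ Subgroup.centralizer (A : Set G) : Subgroup G) =
      q ^ (Nat.card (K ⊓ Subgroup.centralizer (A : Set G) : Subgroup G)).factorization q := by
  have hq : q.Prime := Fact.out
  have hsolv : Group.IsSolvable A ∨ Group.IsSolvable K := by
    have := hA.isNilpotent
    exact Or.inl inferInstance
  set C := K ⊓ Subgroup.centralizer (A : Set G) with hC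
  set S' := (S : Subgroup K).map K.subtype with hS'
  set D := S' ⊓ Subgroup.centralizer (A : Set G) with hD
  have hDC : D ≤ C := inf_le_inf_right _ (Subgroup.map_subtype_le _)
  have hDq : IsPGroup q D := (S.2.map K.subtype).to_le inf_le_left
  obtain ⟨T⟩ : Nonempty (Sylow q C) := inferInstance
  refine le_antisymm ?_ ?_
  · obtain ⟨k, hk⟩ := IsPGroup.iff_card.mp hDq
    rw [hk]
    refine Nat.pow_le_pow_right hq.pos ?_
    have := Subgroup.card_dvd_of_le hDC
    rw [hk] at this
    exact (hq.pow_dvd_iff_le_factorization Nat.card_pos.ne').mp this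
  · rw [← T.card_eq_multiplicity]
    set T' := (T : Subgroup C).map C.subtype with hT'
    have hT'C : T' ≤ C := Subgroup.map_subtype_le _
    have hcard : Nat.card (T : Subgroup C) = Nat.card T' :=
      (Subgroup.card_map_of_injective C.subtype_injective).symm
    rw [hcard]
    have hAT : A ≤ Subgroup.normalizer (T' : Set G) := by
      intro a ha
      rw [Subgroup.mem_normalizer_iff]
      intro x
      have hc : ∀ t ∈ T', a * t * a⁻¹ = t := fun t ht => by
        rw [(Subgroup.mem_centralizer_iff.mp (hT'C ht).2) a ha, mul_inv_cancel_right]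
      refine ⟨fun hx => (hc x hx).symm ▸ hx, fun hx => ?_⟩
      have h2 := hc _ hx
      have : a * x * a⁻¹ = x := mul_left_cancel (a := a) (mul_right_cancel (b := a⁻¹) h2)
      exact this ▸ hx
    obtain ⟨Q, hTQ, hQ⟩ := CfsgLib.coprime_le_invariant_sylow hAK hcop hsolv
      (hT'C.trans inf_le_left) (T.2.map C.subtype) hAT
    obtain ⟨c, hc, hcS⟩ := CfsgLib.coprime_invariant_sylow_conj hAK hcop hsolv S Q hS hQ
    calc Nat.card T' ≤ Nat.card (D.map (MulAut.conj (c : G)).toMonoidHom) := by
          refine Subgroup.card_le_of_le fun t ht => ?_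
          obtain ⟨t', ht', rfl⟩ := hTQ ht
          rw [← hcS] at ht'
          change t' ∈ (S : Subgroup K).map (MulAut.conj c).toMonoidHom at ht'
          obtain ⟨s, hs, rfl⟩ := ht'
          refine ⟨(s : G), ⟨⟨s, hs, rfl⟩, ?_⟩, rfl⟩
          have h1 := mul_mem (mul_mem (inv_mem hc) (hT'C ht).2) hc
          simpa [mul_assoc] using h1
      _ = Nat.card D := Subgroup.card_map_of_injective (MulAut.conj (c : G)).injective

theorem card_inf_eq_prod {A K : Subgroup G} :
    Nat.card (K ⊓ Subgroup.centralizer (A : Set G) : Subgroup G) =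
      ∏ q ∈ (Nat.card K).primeFactors,
        q ^ (Nat.card (K ⊓ Subgroup.centralizer (A : Set G) : Subgroup G)).factorization q := by
  conv_lhs => rw [← Nat.prod_factorization_pow_eq_self (n := Nat.card
    (K ⊓ Subgroup.centralizer (A : Set G) : Subgroup G)) Nat.card_pos.ne']
  refine Finsupp.prod_of_support_subset _ ?_ _ (fun _ _ => pow_zero _)
  rw [Nat.support_factorization]
  exact Nat.primeFactors_mono (Subgroup.card_dvd_of_le inf_le_left) Nat.card_pos.ne'

/-- Reduction to invariant Sylow subgroups. -/
theorem bound_of_sylow {P V : Subgroup G} (hP : IsPGroup p P)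
    (hPV : P ≤ Subgroup.normalizer (V : Set G)) (hcop : (Nat.card P).Coprime (Nat.card V))
    (hq : ∀ q, q.Prime → ∀ S : Subgroup G, S ≤ V → IsPGroup q S →
      P ≤ Subgroup.normalizer (S : Set G) → Bound p P S) :
    Bound p P V := by
  classical
  have hsolv : Group.IsSolvable P ∨ Group.IsSolvable V := by
    have := hP.isNilpotent
    exact Or.inl inferInstance
  have hex : ∀ q ∈ (Nat.card V).primeFactors, ∃ S : Subgroup G, S ≤ V ∧ IsPGroup q S ∧
      P ≤ Subgroup.normalizer (S : Set G) ∧ Nat.card S = q ^ (Nat.card V).factorization q ∧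
      ∀ A ≤ P, Nat.card (S ⊓ Subgroup.centralizer (A : Set G) : Subgroup G) =
        q ^ (Nat.card (V ⊓ Subgroup.centralizer (A : Set G) : Subgroup G)).factorization q := by
    intro q hq'
    haveI := Fact.mk (Nat.prime_of_mem_primeFactors hq')
    obtain ⟨S, hS⟩ := CfsgLib.coprime_exists_invariant_sylow hPV hcop hsolv q
    refine ⟨_, Subgroup.map_subtype_le _, S.2.map _, hS, ?_, fun A hA => ?_⟩
    · rw [Subgroup.card_map_of_injective V.subtype_injective, S.card_eq_multiplicity]
    · exact card_fixed_sylow (hP.to_le hA) (hA.trans hPV)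
        (hcop.coprime_dvd_left (Subgroup.card_dvd_of_le hA)) S (hA.trans hS)
  choose! S hSV hSq hPS hScard hSfix using hex
  have hV : Nat.card V = ∏ q ∈ (Nat.card V).primeFactors, Nat.card (S q) := by
    rw [Finset.prod_congr rfl hScard, ← Nat.prod_factorization_eq_prod_primeFactors,
      Nat.prod_factorization_pow_eq_self Nat.card_pos.ne']
  have hfix : ∀ A ≤ P, Nat.card (V ⊓ Subgroup.centralizer (A : Set G) : Subgroup G) =
      ∏ q ∈ (Nat.card V).primeFactors,
        Nat.card (S q ⊓ Subgroup.centralizer (A : Set G) : Subgroup G) := fun A hA => by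
    rw [Finset.prod_congr rfl (fun q hq => hSfix q hq A hA)]
    exact card_inf_eq_prod
  have hprod : prodFix P V = ∏ q ∈ (Nat.card V).primeFactors, prodFix P (S q) := by
    unfold prodFix
    rw [Finset.prod_comm]
    refine Finset.prod_congr rfl fun x hx => ?_
    rw [centralizer_singleton_eq]
    exact hfix _ (Subgroup.zpowers_le.mpr (by simpa using hx))
  unfold Bound
  rw [hprod, hfix P le_rfl]
  generalize hs : (Nat.card V).primeFactors = s at hV hSV hSq hPS ⊢
  rw [hV, ← Finset.prod_pow, ← Finset.prod_pow, ← Finset.prod_pow,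
    ← Finset.prod_mul_distrib]
  exact Finset.prod_le_prod' fun q hq' =>
    hq q (Nat.prime_of_mem_primeFactors (hs.symm ▸ hq' : q ∈ (Nat.card V).primeFactors)) (S q) (hSV q hq') (hSq q hq') (hPS q hq')

/-- The product of the fixed-point orders of pairwise independent commuting automorphisms. -/
theorem independent {A : Type*} [CommGroup A] [Finite A] (a c : A →* A)
    (hac : ∀ v, a (c v) = c (a v)) (hfree : ∀ k : ℕ, 0 < k → k < p → ∀ v, (c^[k]) v = v → v = 1)
    (hc : Function.Injective c) (s : Finset ℕ) (hs : ∀ i ∈ s, i < p) (v : ℕ → A)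
    (hv : ∀ i ∈ s, a ((c^[i]) (v i)) = v i) (h1 : ∏ i ∈ s, v i = 1) : ∀ i ∈ s, v i = 1 := by
  classical
  induction s using Finset.induction generalizing v with
  | empty => simp
  | @insert j s hj ih =>
    have hcomm : ∀ (k : ℕ) (w : A), a ((c^[k]) w) = (c^[k]) (a w) := by
      intro k
      induction k with
      | zero => simp
      | succ k ihk => intro w; rw [Function.iterate_succ_apply', Function.iterate_succ_apply', hac, ihk]
    let φ : A →* A :=
      { toFun := fun w => a ((c^[j]) w) * w⁻¹
        map_one' := by rw [iterate_map_one, map_one, inv_one, one_mul]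
        map_mul' := fun x y => by
          rw [iterate_map_mul, map_mul, mul_inv]
          exact mul_mul_mul_comm _ _ _ _ }
    have hφj : φ (v j) = 1 := by
      change a ((c^[j]) (v j)) * (v j)⁻¹ = 1
      rw [hv j (Finset.mem_insert_self _ _), mul_inv_cancel]
    have hφv : ∀ i ∈ s, a ((c^[i]) (φ (v i))) = φ (v i) := by
      intro i hi
      change a ((c^[i]) (a ((c^[j]) (v i)) * (v i)⁻¹)) = a ((c^[j]) (v i)) * (v i)⁻¹
      have hvi := hv i (Finset.mem_insert_of_mem hi)
      rw [iterate_map_mul, map_mul, ← hcomm i, ← Function.iterate_add_apply, add_comm i j,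
        Function.iterate_add_apply, hcomm j ((c^[i]) (v i)), hvi, iterate_map_inv, map_inv, hvi]
    have hrest := ih (fun i hi => hs i (Finset.mem_insert_of_mem hi)) (fun i => φ (v i)) hφv (by
      rw [Finset.prod_insert hj] at h1
      have := congrArg φ h1
      rwa [map_one, map_mul, hφj, one_mul, map_prod] at this)
    have hvs : ∀ i ∈ s, v i = 1 := by
      intro i hi
      have hvi := hv i (Finset.mem_insert_of_mem hi)
      have h0 : a ((c^[j]) (v i)) = v i := by
        have := hrest i hi
        exact mul_inv_eq_one.mp this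
      have hij : i ≠ j := fun e => hj (e ▸ hi)
      rcases lt_or_gt_of_ne hij with hlt | hlt
      · refine hfree (j - i) (by omega) (lt_of_le_of_lt (Nat.sub_le _ _) (hs j (Finset.mem_insert_self _ _))) _ ?_
        conv_lhs => rw [← hvi]
        rw [← hcomm, ← Function.iterate_add_apply, Nat.sub_add_cancel hlt.le, h0]
      · refine hfree (i - j) (by omega) (lt_of_le_of_lt (Nat.sub_le _ _) (hs i (Finset.mem_insert_of_mem hi))) _ ?_
        conv_lhs => rw [← h0]
        rw [← hcomm, ← Function.iterate_add_apply, Nat.sub_add_cancel hlt.le, hvi]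
    intro i hi
    rcases Finset.mem_insert.mp hi with rfl | hi
    · rw [Finset.prod_insert hj, Finset.prod_eq_one hvs, mul_one] at h1
      exact h1
    · exact hvs i hi

/-- The irreducible case. -/
theorem bound_irreducible {P V : Subgroup G} [V.Normal] [IsMulCommutative V] (hP : IsPGroup p P)
    (htop : P ⊔ V = ⊤)
    (hmin : ∀ K : Subgroup G, K.Normal → K ≤ V → K = ⊥ ∨ K = V) : Bound p P V := by
  classical
  have hp : p.Prime := Fact.out
  haveI := hP.isNilpotent
  by_cases htriv : P ≤ Subgroup.centralizer (V : Set G)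
  · have hfix : V ⊓ Subgroup.centralizer (P : Set G) = V :=
      inf_eq_left.mpr (Subgroup.le_centralizer_iff.mp htriv)
    unfold Bound
    rw [hfix, ← pow_add, ← add_one_mul, Nat.sub_add_cancel hp.one_lt.le]
    refine (Nat.pow_le_pow_left (Finset.prod_le_pow_card _ _ _ fun x _ =>
      Subgroup.card_le_of_le (H := V ⊓ Subgroup.centralizer ({x} : Set G)) inf_le_left) p).trans ?_
    rw [card_toFinset, ← pow_mul, mul_comm]
  -- an element of order `p` modulo the kernel, central there
  set K : Subgroup P := (Subgroup.centralizer (V : Set G)).subgroupOf P with hK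
  haveI hKn : K.Normal := Subgroup.Normal.subgroupOf (Subgroup.normal_centralizer) P
  haveI : Nontrivial (P ⧸ K) := QuotientGroup.nontrivial_iff.mpr (by
    intro h
    exact htriv (Subgroup.subgroupOf_eq_top.mp h))
  have hQp : IsPGroup p (P ⧸ K) := hP.to_quotient K
  haveI := hQp.center_nontrivial
  obtain ⟨⟨zb, hzc⟩, hzo⟩ : ∃ z : Subgroup.center (P ⧸ K), orderOf z = p := by
    refine exists_prime_orderOf_dvd_card' p ?_
    obtain ⟨k, hk⟩ := IsPGroup.iff_card.mp (hQp.to_subgroup (Subgroup.center (P ⧸ K)))
    rcases Nat.eq_zero_or_pos k with rfl | hk0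
    · exact absurd hk (Finite.one_lt_card).ne'
    · rw [hk]; exact dvd_pow_self p hk0.ne'
  rw [Subgroup.orderOf_mk] at hzo
  obtain ⟨z, rfl⟩ := QuotientGroup.mk'_surjective K zb
  -- conjugation as endomorphisms of `V`
  have hVP : ∀ x : P, ∀ v : V, (x : G) * v * (x : G)⁻¹ ∈ V := fun x v =>
    (inferInstance : V.Normal).conj_mem _ v.2 _
  let act : P → V →* V := fun x =>
    { toFun := fun v => ⟨(x : G) * v * (x : G)⁻¹, hVP x v⟩
      map_one' := Subtype.ext (by simp)
      map_mul' := fun v w => Subtype.ext (by simp [mul_assoc]) }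
  have hactmul : ∀ x y : P, ∀ v : V, act (x * y) v = act x (act y v) := fun x y v =>
    Subtype.ext (by simp [act, mul_assoc])
  have hactpow : ∀ (x : P) (k : ℕ) (v : V), act (x ^ k) v = ((act x)^[k]) v := by
    intro x k
    induction k with
    | zero => intro v; exact Subtype.ext (by simp [act])
    | succ k ih => intro v; rw [pow_succ', hactmul, ih, Function.iterate_succ_apply']
  have hactK : ∀ k ∈ K, ∀ v : V, act k v = v := fun k hk v => Subtype.ext (by
    change (k : G) * v * (k : G)⁻¹ = v
    rw [show (k : G) * v = v * k from ((Subgroup.mem_centralizer_iff.mp hk) v v.2).symm, mul_inv_cancel_right])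
  -- `z` has no fixed points
  set C := V ⊓ Subgroup.centralizer ({(z : G)} : Set G) with hC
  have hCn : C.Normal := by
    refine Subgroup.normalizer_eq_top_iff.mp (top_le_iff.mp (htop ▸ sup_le ?_ ?_))
    · intro x hx
      refine Subgroup.mem_normalizer_fintype ?_
      rintro c ⟨hcV, hc⟩
      refine ⟨(inferInstance : V.Normal).conj_mem _ hcV _, mem_centralizer_singleton_iff'.mpr ?_⟩
      have hk : (⟨x, hx⟩⁻¹ * z⁻¹ * ⟨x, hx⟩ * z : P) ∈ K := by
        rw [← QuotientGroup.eq_one_iff]
        change QuotientGroup.mk' K (⟨x, hx⟩⁻¹ * z⁻¹ * ⟨x, hx⟩ * z) = 1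
        simp only [map_mul, map_inv]
        rw [Subgroup.mem_center_iff.mp (inv_mem hzc) (QuotientGroup.mk' K ⟨x, hx⟩)⁻¹]
        group
      have h1 := Subgroup.mem_centralizer_iff.mp hk c hcV
      have h2 := mem_centralizer_singleton_iff'.mp hc
      replace h1 : c * (x⁻¹ * (z : G)⁻¹ * x * z) = (x⁻¹ * (z : G)⁻¹ * x * z) * c := h1
      calc (z : G) * (x * c * x⁻¹) = x * (z * ((x⁻¹ * (z : G)⁻¹ * x * z)⁻¹ * c * (x⁻¹ * (z : G)⁻¹ * x * z))) * (z : G)⁻¹ * x⁻¹ * z := by group
        _ = x * (z * c) * (z : G)⁻¹ * x⁻¹ * z := by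
            congr 5
            rw [mul_assoc, h1, inv_mul_cancel_left]
        _ = x * c * x⁻¹ * z := by rw [h2]; group
    · intro w hw
      refine Subgroup.mem_normalizer_fintype ?_
      rintro c hc
      have : w * c * w⁻¹ = c := by
        rw [congrArg Subtype.val (IsMulCommutative.is_comm.comm (⟨w, hw⟩ : V) ⟨c, hc.1⟩) |> fun h => (h : w * c = c * w),
          mul_inv_cancel_right]
      rw [SetLike.mem_coe, this]
      exact hc
  have hC1 : C = ⊥ := (hmin C hCn inf_le_left).resolve_right (fun h => by
    have : z ∈ K := Subgroup.mem_centralizer_iff.mpr fun v hv =>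
      (mem_centralizer_singleton_iff'.mp (h.ge hv).2).symm
    exact hp.ne_one (by rw [← hzo, orderOf_eq_one_iff]; exact (QuotientGroup.eq_one_iff z).mpr this))
  have hzp : z ^ p ∈ K := (QuotientGroup.eq_one_iff _).mp (by
    have := pow_orderOf_eq_one (QuotientGroup.mk' K z)
    rwa [hzo] at this)
  have hzfree : ∀ v : V, act z v = v → v = 1 := fun v hv => Subtype.ext (Subgroup.mem_bot.mp (hC1.le
    ⟨v.2, mem_centralizer_singleton_iff'.mpr (by
      have := congrArg Subtype.val hv
      exact mul_inv_eq_iff_eq_mul.mp this)⟩))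
  have hfree : ∀ k : ℕ, 0 < k → k < p → ∀ v : V, ((act z)^[k]) v = v → v = 1 := by
    intro k hk0 hkp v hv
    obtain ⟨m, hm⟩ := Nat.exists_mul_mod_eq_one_of_coprime
      ((hp.coprime_iff_not_dvd.mpr (Nat.not_dvd_of_pos_of_lt hk0 hkp)).symm) hp.one_lt
    refine hzfree v ?_
    have h1 : ((act z)^[k * m]) v = v := by
      rw [Function.iterate_mul]; exact Function.iterate_fixed hv _
    have h2 : ∀ j, ((act z)^[p * j]) v = v := fun j => by
      rw [← hactpow, pow_mul]; exact hactK _ (pow_mem hzp j) v
    rw [← Nat.mod_add_div (k * m) p, hm.2, Function.iterate_add_apply, h2] at h1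
    exact h1
  have hzinj : Function.Injective (act z) := fun v w e => Subtype.ext (by
    exact mul_left_cancel (mul_right_cancel (congrArg Subtype.val e)))
  -- one bound for each coset
  let cC : G → Subgroup G := fun x => V ⊓ Subgroup.centralizer ({x} : Set G)
  have hcoset : ∀ x : P, (∏ i ∈ Finset.range p, Nat.card (cC ((x * z ^ i : P) : G))) ≤ Nat.card V := by
    intro x
    have hac : ∀ v, act x (act z v) = act z (act x v) := fun v => by
      have hk : (x * z)⁻¹ * (z * x) ∈ K := by
        rw [← QuotientGroup.eq_one_iff]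
        change QuotientGroup.mk' K ((x * z)⁻¹ * (z * x)) = 1
        simp only [map_mul, map_inv]
        rw [Subgroup.mem_center_iff.mp hzc, inv_mul_cancel]
      rw [← hactmul, ← hactmul]
      conv_rhs => rw [show z * x = (x * z) * ((x * z)⁻¹ * (z * x)) by group, hactmul, hactK _ hk]
    rw [← Fin.prod_univ_eq_prod_range (fun i => Nat.card (cC ((x * z ^ i : P) : G))) p, ← Nat.card_pi]
    let F : (∀ i : Fin p, cC ((x * z ^ (i : ℕ) : P) : G)) → V := fun w =>
      ∏ i : Fin p, (⟨(w i : G), (w i).2.1⟩ : V)
    refine Nat.card_le_card_of_injective F fun w w' e => ?_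
    have hF : ∀ i : Fin p, (⟨(w i : G), (w i).2.1⟩ : V) * (⟨(w' i : G), (w' i).2.1⟩ : V)⁻¹ = 1 := by
      intro i
      let u : ℕ → V := fun j => if hj : j < p then
        (⟨(w ⟨j, hj⟩ : G), (w ⟨j, hj⟩).2.1⟩ : V) * (⟨(w' ⟨j, hj⟩ : G), (w' ⟨j, hj⟩).2.1⟩ : V)⁻¹ else 1
      have hu := independent (A := V) (act x) (act z) hac hfree hzinj (Finset.range p)
        (fun j hj => Finset.mem_range.mp hj) u ?_ ?_ i (Finset.mem_range.mpr i.2)
      · simpa [u, i.2] using hu
      · intro j hj
        have hj := Finset.mem_range.mp hj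
        have hfixj : ∀ y ∈ cC ((x * z ^ j : P) : G), ∀ hy : y ∈ V,
            act x (((act z)^[j]) ⟨y, hy⟩) = ⟨y, hy⟩ := fun y hy' hy => by
          rw [← hactpow, ← hactmul]
          exact Subtype.ext (mul_inv_eq_iff_eq_mul.mpr (mem_centralizer_singleton_iff'.mp hy'.2))
        simp only [u, dif_pos hj]
        rw [iterate_map_mul, map_mul, iterate_map_inv, map_inv, hfixj _ (w ⟨j, hj⟩).2,
          hfixj _ (w' ⟨j, hj⟩).2]
      · rw [← Fin.prod_univ_eq_prod_range u p]
        simp only [u, Fin.is_lt, dite_true, Fin.eta]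
        rw [Finset.prod_mul_distrib, Finset.prod_inv_distrib]
        exact mul_inv_eq_one.mpr e
    funext i
    have h := mul_inv_eq_one.mp (hF i)
    exact Subtype.ext (congrArg (fun v : V => (v : G)) h)
  have := Fintype.ofFinite P
  have hprod : prodFix P V = ∏ x : P, Nat.card (cC (x : G)) := by
    unfold prodFix
    refine Finset.prod_subtype _ (fun x => ?_) _
    simp
  unfold Bound
  have := Fintype.ofFinite V
  calc prodFix P V ^ p = ∏ i ∈ Finset.range p, ∏ x : P, Nat.card (cC ((x * z ^ i : P) : G)) := by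
        rw [hprod]
        conv_rhs => arg 2; ext i; rw [Fintype.prod_equiv (Equiv.mulRight (z ^ i))
          (fun x : P => Nat.card (cC ((x * z ^ i : P) : G))) (fun x : P => Nat.card (cC (x : G))) (fun x => rfl)]
        rw [Finset.prod_const, Finset.card_range]
    _ = ∏ x : P, ∏ i ∈ Finset.range p, Nat.card (cC ((x * z ^ i : P) : G)) := Finset.prod_comm
    _ ≤ ∏ _x : P, Nat.card V := Finset.prod_le_prod' fun x _ => hcoset x
    _ = Nat.card V ^ Nat.card P := by simp only [Finset.prod_const, Finset.card_univ, Nat.card_eq_fintype_card]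
    _ ≤ _ := Nat.le_mul_of_pos_left _ (pow_pos Nat.card_pos _)

universe u

theorem card_subgroupOf_fix {H : Subgroup G} {V : Subgroup G} (hVH : V ≤ H) (A : Subgroup G)
    (hAH : A ≤ H) :
    Nat.card (V.subgroupOf H ⊓ Subgroup.centralizer ((A.subgroupOf H : Subgroup H) : Set H) : Subgroup H) =
      Nat.card (V ⊓ Subgroup.centralizer (A : Set G) : Subgroup G) := by
  refine Nat.card_congr
    { toFun := fun v => ⟨(v.1 : G), v.2.1, Subgroup.mem_centralizer_iff.mpr fun a ha =>
        congrArg Subtype.val (Subgroup.mem_centralizer_iff.mp v.2.2 ⟨a, hAH ha⟩ ha)⟩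
      invFun := fun v => ⟨⟨v.1, hVH v.2.1⟩, v.2.1, Subgroup.mem_centralizer_iff.mpr fun a ha =>
        Subtype.ext (Subgroup.mem_centralizer_iff.mp v.2.2 a ha)⟩
      left_inv := fun v => rfl
      right_inv := fun v => rfl }

theorem bound_of_subgroupOf {H P V : Subgroup G} (hPH : P ≤ H) (hVH : V ≤ H)
    (h : Bound p (P.subgroupOf H) (V.subgroupOf H)) : Bound p P V := by
  classical
  have hprod : prodFix (P.subgroupOf H) (V.subgroupOf H) = prodFix P V := by
    unfold prodFix
    refine Finset.prod_nbij (fun x => (x : G)) ?_ ?_ ?_ ?_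
    · intro x hx
      simpa [Subgroup.mem_subgroupOf] using hx
    · intro x _ y _ e
      exact Subtype.ext e
    · intro y hy
      simp only [Set.Finite.coe_toFinset, SetLike.mem_coe] at hy
      exact ⟨⟨y, hPH hy⟩, by simpa [Subgroup.mem_subgroupOf] using hy, rfl⟩
    · intro x _
      rw [centralizer_singleton_eq, centralizer_singleton_eq, ← card_subgroupOf_fix hVH
        (Subgroup.zpowers (x : G)) (Subgroup.zpowers_le.mpr x.2)]
      congr!
      ext y
      rw [Subgroup.mem_subgroupOf]
      constructor
      · rintro ⟨k, rfl⟩; exact ⟨k, by simp⟩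
      · rintro ⟨k, hk⟩; exact ⟨k, Subtype.ext (by simpa using hk)⟩
  unfold Bound at h ⊢
  rwa [hprod, card_subgroupOf_fix hVH P hPH,
    Nat.card_congr (Subgroup.subgroupOfEquivOfLe hPH).toEquiv,
    Nat.card_congr (Subgroup.subgroupOfEquivOfLe hVH).toEquiv] at h

/-- Fixed points multiply along a normal subgroup. -/
theorem card_fix_mul {A V M : Subgroup G} [M.Normal] (hA : IsPGroup p A) (hMV : M ≤ V)
    (hAV : A ≤ Subgroup.normalizer (V : Set G)) (hcop : (Nat.card A).Coprime (Nat.card V)) :
    Nat.card (V ⊓ Subgroup.centralizer (A : Set G) : Subgroup G) =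
      Nat.card (M ⊓ Subgroup.centralizer (A : Set G) : Subgroup G) *
        Nat.card (V.map (QuotientGroup.mk' M) ⊓
          Subgroup.centralizer ((A.map (QuotientGroup.mk' M) : Subgroup (G ⧸ M)) : Set (G ⧸ M)) :
            Subgroup (G ⧸ M)) := by
  have hsolv : Group.IsSolvable A ∨ Group.IsSolvable V := by
    have := hA.isNilpotent
    exact Or.inl inferInstance
  set C := V ⊓ Subgroup.centralizer (A : Set G) with hC
  have himg : C.map (QuotientGroup.mk' M) = V.map (QuotientGroup.mk' M) ⊓
      Subgroup.centralizer ((A.map (QuotientGroup.mk' M) : Subgroup (G ⧸ M)) : Set (G ⧸ M)) := by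
    refine le_antisymm ?_ ?_
    · rintro _ ⟨c, ⟨hcV, hc⟩, rfl⟩
      refine ⟨⟨c, hcV, rfl⟩, Subgroup.mem_centralizer_iff.mpr ?_⟩
      rintro _ ⟨a, ha, rfl⟩
      rw [← map_mul, ← map_mul, Subgroup.mem_centralizer_iff.mp hc a ha]
    · rintro _ ⟨⟨v, hv, rfl⟩, hfix⟩
      obtain ⟨c, hc, hvc⟩ := CfsgLib.coprime_fixed_quotient hAV hcop hsolv hMV
        (Subgroup.normalizer_eq_top (H := M) ▸ le_top) (Subgroup.normalizer_eq_top (H := M) ▸ le_top) hv
        (fun a ha => by
          have h := Subgroup.mem_centralizer_iff.mp hfix _ ⟨a, ha, rfl⟩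
          rw [← QuotientGroup.eq_one_iff]
          change QuotientGroup.mk' M (a * v * a⁻¹ * v⁻¹) = 1
          rw [map_mul, map_mul, map_mul, h]
          simp)
      exact ⟨c, hc, (QuotientGroup.eq.mpr hvc).symm⟩
  have h := card_map_mul (QuotientGroup.mk' M) C
  rw [himg, QuotientGroup.ker_mk'] at h
  rw [← h, mul_comm, show C ⊓ M = M ⊓ Subgroup.centralizer (A : Set G) by
    rw [hC, inf_right_comm, inf_eq_right.mpr hMV]]

/-- A coprime action bound on the fixed-point orders. -/
theorem bound (n : ℕ) : ∀ {G : Type u} [Group G] [Finite G] (P V : Subgroup G), Nat.card G < n →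
    IsPGroup p P → P ≤ Subgroup.normalizer (V : Set G) → (Nat.card V).Coprime p → Bound p P V := by
  induction n with
  | zero => intro G _ _ P V h; exact absurd h (Nat.not_lt_zero _)
  | succ n ih =>
    intro G _ _ P V hn hP hPV hVp
    classical
    have hcopP : ∀ {K : Subgroup G}, (Nat.card K).Coprime p → (Nat.card P).Coprime (Nat.card K) := by
      intro K hK
      obtain ⟨k, hk⟩ := IsPGroup.iff_card.mp hP
      rw [hk]
      exact (hK.symm).pow_left k
    refine bound_of_sylow hP hPV (hcopP hVp) fun q hq S hSV hSq hPS => ?_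
    haveI := Fact.mk hq
    set H := P ⊔ S with hH
    refine bound_of_subgroupOf (H := H) le_sup_left le_sup_right ?_
    set P' := P.subgroupOf H with hP'
    set V' := S.subgroupOf H with hV'
    have hSp : (Nat.card S).Coprime p := hVp.coprime_dvd_left (Subgroup.card_dvd_of_le hSV)
    have hV'p : (Nat.card V').Coprime p := by
      rwa [hV', Nat.card_congr (Subgroup.subgroupOfEquivOfLe le_sup_right).toEquiv]
    have hP'p : IsPGroup p P' := hP.of_equiv (Subgroup.subgroupOfEquivOfLe le_sup_left).symm
    have hV'q : IsPGroup q V' := hSq.of_equiv (Subgroup.subgroupOfEquivOfLe le_sup_right).symm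
    haveI hV'n : V'.Normal := (Subgroup.normal_subgroupOf_iff_le_normalizer le_sup_right).mpr
      (sup_le hPS Subgroup.le_normalizer)
    have htop : P' ⊔ V' = ⊤ := by
      rw [hP', hV', ← Subgroup.subgroupOf_sup le_sup_left le_sup_right, Subgroup.subgroupOf_self]
    have hHn : Nat.card H ≤ n := (Subgroup.card_le_card_group H).trans (Nat.lt_succ_iff.mp hn)
    clear_value P' V'
    clear hP' hV'
    by_cases hV0 : V' = ⊥
    · subst hV0
      unfold Bound prodFix
      simp only [bot_inf_eq, Subgroup.card_bot, Finset.prod_const_one, one_pow, mul_one, le_refl]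
    obtain ⟨M, hMn, hMV, hM0, hMmin⟩ := CfsgLib.exists_minimal_normal hV0
    rcases eq_or_ne M V' with hMeq | hMne
    · haveI : Group.IsNilpotent V' := hV'q.isNilpotent
      haveI : Nontrivial V' := (Subgroup.nontrivial_iff_ne_bot _).mpr hV0
      haveI := hV'q.center_nontrivial
      haveI hab : IsMulCommutative V' := by
        have hZn : ((Subgroup.center V').map V'.subtype).Normal := inferInstance
        have hZ := (hMmin _ hZn (hMeq ▸ Subgroup.map_subtype_le _)).resolve_left (fun h0 => by
          exact (Subgroup.nontrivial_iff_ne_bot _).mp inferInstance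
            ((Subgroup.map_eq_bot_iff_of_injective _ V'.subtype_injective).mp h0))
        refine ⟨⟨fun a b => ?_⟩⟩
        obtain ⟨a', ha', e⟩ := (hMeq.symm ▸ hZ.ge : V' ≤ (Subgroup.center V').map V'.subtype) a.2
        rw [← V'.subtype_injective e]
        exact (Subgroup.mem_center_iff.mp ha' b).symm
      exact bound_irreducible hP'p htop (fun K hK hKV => hMeq ▸ hMmin K hK (hMeq ▸ hKV))
    -- pass to the quotient
    have hMlt : Nat.card (H ⧸ M) < n := by
      have h1 := Subgroup.card_eq_card_quotient_mul_card_subgroup M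
      have h2 : 1 < Nat.card M := Subgroup.one_lt_card_iff_ne_bot _ |>.mpr hM0
      have h3 : 0 < Nat.card (H ⧸ M) := Nat.card_pos
      nlinarith
    set π := QuotientGroup.mk' M
    have hcopA : ∀ {K : Subgroup H}, K ≤ V' → ∀ A ≤ P', (Nat.card A).Coprime (Nat.card K) := by
      intro K hK A hA
      obtain ⟨k, hk⟩ := IsPGroup.iff_card.mp (hP'p.to_le hA)
      rw [hk]
      exact ((hV'p.coprime_dvd_left (Subgroup.card_dvd_of_le hK)).symm).pow_left k
    have hQ := ih (P'.map π) (V'.map π) hMlt (hP'p.map π)
      ((Subgroup.map_mono (Subgroup.normalizer_eq_top (H := V') ▸ le_top)).trans (Subgroup.le_normalizer_map π))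
      (hV'p.coprime_dvd_left (Subgroup.card_map_dvd _ π))
    have hMb : Bound p P' M := by
      set L := P' ⊔ M with hL
      refine bound_of_subgroupOf (H := L) le_sup_left le_sup_right ?_
      refine ih _ _ ?_ (hP'p.of_equiv (Subgroup.subgroupOfEquivOfLe le_sup_left).symm) ?_ ?_
      · refine lt_of_lt_of_le ?_ hHn
        have hne : L ≠ ⊤ := by
          intro h
          have hd : Disjoint P' V' :=
            Subgroup.disjoint_of_coprime_natCard (hcopA le_rfl _ le_rfl)
          refine hMne (le_antisymm hMV fun v hv => ?_)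
          obtain ⟨a, ha, m, hm, rfl⟩ := Subgroup.mem_sup_of_normal_right.mp (h.ge (Subgroup.mem_top v))
          have : a = 1 := Subgroup.disjoint_def.mp hd ha (by
            have := V'.mul_mem hv (V'.inv_mem (hMV hm))
            rwa [mul_inv_cancel_right] at this)
          rwa [this, one_mul]
        exact (Subgroup.card_le_card_group L).lt_of_ne (fun h => hne (Subgroup.eq_top_of_card_eq L h))
      · haveI : (M.subgroupOf L).Normal := hMn.subgroupOf L
        exact Subgroup.normalizer_eq_top (H := M.subgroupOf L) ▸ le_top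
      · rw [Nat.card_congr (Subgroup.subgroupOfEquivOfLe (le_sup_right : M ≤ L)).toEquiv]
        exact hV'p.coprime_dvd_left (Subgroup.card_dvd_of_le hMV)
    have hinj : Set.InjOn π (P' : Set H) := by
      intro x hx y hy e
      have : x⁻¹ * y ∈ M := QuotientGroup.eq.mp e
      exact inv_mul_eq_one.mp (Subgroup.disjoint_def.mp
        (Subgroup.disjoint_of_coprime_natCard (hcopA hMV P' le_rfl)) (mul_mem (inv_mem hx) hy) this)
    have hnorm : ∀ A : Subgroup H, A ≤ Subgroup.normalizer (V' : Set H) := fun A =>
      Subgroup.normalizer_eq_top (H := V') ▸ le_top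
    have hprod : prodFix P' V' = prodFix P' M * prodFix (P'.map π) (V'.map π) := by
      have hset : (Set.toFinite ((P'.map π : Subgroup (H ⧸ M)) : Set (H ⧸ M))).toFinset =
          (Set.toFinite (P' : Set H)).toFinset.image π := by
        ext y; simp
      unfold prodFix
      rw [hset, Finset.prod_image (by
        intro x hx y hy e
        exact hinj (by simpa using hx) (by simpa using hy) e), ← Finset.prod_mul_distrib]
      refine Finset.prod_congr rfl fun x hx => ?_
      have hxP : Subgroup.zpowers x ≤ P' := Subgroup.zpowers_le.mpr (by simpa using hx)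
      simp only [centralizer_singleton_eq]
      rw [card_fix_mul (hP'p.to_le hxP) hMV (hnorm _) (hcopA le_rfl _ hxP), MonoidHom.map_zpowers]
    have hcardP : Nat.card (P'.map π) = Nat.card P' := by
      rw [← SetLike.coe_sort_coe (P'.map π), Subgroup.coe_map]
      exact Nat.card_image_of_injOn hinj
    have hcardV : Nat.card V' = Nat.card M * Nat.card (V'.map π) := by
      have := card_map_mul π V'
      rw [QuotientGroup.ker_mk', inf_eq_right.mpr hMV] at this
      rw [← this, mul_comm]
    unfold Bound at hQ hMb ⊢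
    rw [hprod, mul_pow, card_fix_mul hP'p hMV (hnorm _) (hcopA le_rfl _ le_rfl), hcardV, mul_pow, mul_pow,
      mul_mul_mul_comm]
    rw [hcardP] at hQ
    exact Nat.mul_le_mul hMb hQ

end CfsgLib.FixProd
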