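import Mathlib
import Cfsg.Agent.Lib.PRegularClass

/-!
Frobenius' theorem on the number of solutions of `x ^ m = 1`.
-/

set_option autoImplicit false

namespace CfsgLib

open Subgroup

universe u

variable {G : Type u} [Group G] [Finite G]

/-- A class function summed over a conjugation-invariant set: divisibility class by class. -/
theorem dvd_sum_class_invariant [Fintype G] {s : ℕ} (X : Finset G) (F : G → ℕ)
    (hX : ∀ g x, x ∈ X → g * x * g⁻¹ ∈ X) (hF : ∀ g x, F (g * x * g⁻¹) = F x)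
    (h : ∀ x ∈ X, s ∣ (Subgroup.centralizer ({x} : Set G)).index * F x) : s ∣ ∑ x ∈ X, F x := by
  classical
  rw [← Finset.sum_fiberwise X ConjClasses.mk F]
  refine Finset.dvd_sum fun c _ => ?_
  rcases (X.filter fun x => ConjClasses.mk x = c).eq_empty_or_nonempty with he | ⟨x, hx⟩
  · rw [he, Finset.sum_empty]; exact dvd_zero _
  simp only [Finset.mem_filter] at hx
  have hset : (X.filter fun y => ConjClasses.mk y = c) = (ConjClasses.mk x).carrier.toFinset := by
    ext y
    simp only [Finset.mem_filter, Set.mem_toFinset, ConjClasses.mem_carrier_iff_mk_eq]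
    rw [hx.2]
    refine ⟨fun hy => hy.2, fun hy => ⟨?_, hy⟩⟩
    obtain ⟨g, rfl⟩ := isConj_iff.mp (ConjClasses.mk_eq_mk_iff_isConj.mp (hx.2.trans hy.symm))
    exact hX g x hx.1
  rw [hset, Finset.sum_congr rfl (g := fun _ => F x), Finset.sum_const, smul_eq_mul,
    ← Set.ncard_eq_toFinset_card', ncard_carrier_eq_index_centralizer]
  · exact h x hx.1
  · intro y hy
    rw [Set.mem_toFinset, ConjClasses.mem_carrier_iff_mk_eq] at hy
    obtain ⟨g, rfl⟩ := isConj_iff.mp (ConjClasses.mk_eq_mk_iff_isConj.mp hy.symm)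
    exact hF g x

/-- The solutions of `y ^ s = 1` lift uniquely through a central subgroup of coprime order. -/
theorem card_solutions_quotient {C : Type*} [Group C] [Finite C] (Z : Subgroup C) [Z.Normal]
    (hZ : Z ≤ Subgroup.center C) {s : ℕ} (hcop : (Nat.card Z).Coprime s) :
    Nat.card {y : C // y ^ s = 1} = Nat.card {y : C ⧸ Z // y ^ s = 1} := by
  refine Nat.card_eq_of_bijective
    (fun y => ⟨QuotientGroup.mk' Z y.1, by rw [← map_pow, y.2, map_one]⟩) ⟨?_, ?_⟩
  · rintro ⟨a, ha⟩ ⟨b, hb⟩ hab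
    have hab' : QuotientGroup.mk' Z a = QuotientGroup.mk' Z b := congrArg Subtype.val hab
    have hz : a⁻¹ * b ∈ Z := by
      rw [← QuotientGroup.eq_one_iff, ← QuotientGroup.mk'_apply, map_mul, map_inv, hab',
        inv_mul_cancel]
    have hcomm : Commute a (a⁻¹ * b) := Subgroup.mem_center_iff.mp (hZ hz) a
    have h1 := hcomm.mul_pow s
    rw [mul_inv_cancel_left, hb, ha, one_mul] at h1
    have h2 : (⟨a⁻¹ * b, hz⟩ : Z) ^ s = 1 := Subtype.ext h1.symm
    have h3 : (⟨a⁻¹ * b, hz⟩ : Z) = 1 := by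
      have e1 : orderOf (⟨a⁻¹ * b, hz⟩ : Z) ∣ s := orderOf_dvd_of_pow_eq_one h2
      exact orderOf_eq_one_iff.mp (Nat.eq_one_of_dvd_coprimes hcop (orderOf_dvd_natCard _) e1)
    exact Subtype.ext (inv_mul_eq_one.mp (congrArg Subtype.val h3))
  · rintro ⟨z, hz⟩
    obtain ⟨y, rfl⟩ := QuotientGroup.mk'_surjective Z z
    have hys : y ^ s ∈ Z := by
      rw [← QuotientGroup.eq_one_iff, ← QuotientGroup.mk'_apply, map_pow, hz]
    obtain ⟨w, hw⟩ := (powCoprime hcop).surjective ⟨y ^ s, hys⟩
    have hw' : (w : C) ^ s = y ^ s := congrArg Subtype.val hw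
    have hcomm : Commute y (w : C)⁻¹ := Subgroup.mem_center_iff.mp (hZ (inv_mem w.2)) y
    refine ⟨⟨y * (w : C)⁻¹, by rw [hcomm.mul_pow, inv_pow, hw', mul_inv_cancel]⟩, Subtype.ext ?_⟩
    show QuotientGroup.mk' Z (y * (w : C)⁻¹) = QuotientGroup.mk' Z y
    rw [map_mul, map_inv, show QuotientGroup.mk' Z (w : C) = 1 from
      (QuotientGroup.eq_one_iff (w : C)).mpr w.2, inv_one, mul_one]

theorem card_solutions_gcd (m : ℕ) :
    Nat.card {g : G // g ^ m = 1} = Nat.card {g : G // g ^ Nat.gcd m (Nat.card G) = 1} := by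
  refine Nat.card_congr (Equiv.subtypeEquivRight fun g => ?_)
  rw [← orderOf_dvd_iff_pow_eq_one, ← orderOf_dvd_iff_pow_eq_one]
  exact ⟨fun h => Nat.dvd_gcd h (orderOf_dvd_natCard g), fun h => h.trans (Nat.gcd_dvd_left _ _)⟩

/-- Solutions in a conjugate centraliser correspond. -/
theorem card_centralizer_solutions_conj (g x : G) (s : ℕ) :
    Nat.card {y : Subgroup.centralizer ({g * x * g⁻¹} : Set G) // y ^ s = 1} =
      Nat.card {y : Subgroup.centralizer ({x} : Set G) // y ^ s = 1} := by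
  have hmem : ∀ y, y ∈ Subgroup.centralizer ({x} : Set G) ↔
      MulAut.conj g y ∈ Subgroup.centralizer ({g * x * g⁻¹} : Set G) := by
    intro y
    rw [Subgroup.mem_centralizer_singleton_iff, Subgroup.mem_centralizer_singleton_iff,
      ← MulAut.conj_apply, ← map_mul, ← map_mul, (MulAut.conj g).injective.eq_iff]
  refine (Nat.card_congr (Equiv.subtypeEquiv
    ((MulAut.conj g).toEquiv.subtypeEquiv hmem) fun y => ?_)).symm
  rw [Subtype.ext_iff, Subtype.ext_iff]
  show (y : G) ^ s = 1 ↔ (MulAut.conj g (y : G)) ^ s = 1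
  rw [← map_pow]
  exact (map_eq_one_iff _ (MulAut.conj g).injective).symm

/-- Pairs of a `π`-part and a commuting `π'`-part. -/
theorem card_split_eq_sum [Fintype G] {a s : ℕ} (hcop : a.Coprime s)
    (Q : G → Prop) [DecidablePred Q] (hQ : ∀ x, Q x → x ^ a = 1) :
    Nat.card {g : G // g ^ (a * s) = 1 ∧ ∀ e, e ≡ 1 [MOD a] → e ≡ 0 [MOD s] → Q (g ^ e)} =
      ∑ x ∈ Finset.univ.filter Q,
        Nat.card {y : Subgroup.centralizer ({x} : Set G) // y ^ s = 1} := by
  classical
  obtain ⟨e₁, he₁a, he₁s⟩ := Nat.chineseRemainder hcop 1 0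
  obtain ⟨e₂, he₂a, he₂s⟩ := Nat.chineseRemainder hcop 0 1
  have hsum : e₁ + e₂ ≡ 1 [MOD a * s] := by
    rw [← Nat.modEq_and_modEq_iff_modEq_mul hcop]
    exact ⟨he₁a.add he₂a, he₁s.add he₂s⟩
  have key : ∀ (x y : G), x ^ a = 1 → y ^ s = 1 → Commute x y → ∀ e, e ≡ 1 [MOD a] → e ≡ 0 [MOD s] →
      (x * y) ^ e = x := by
    intro x y hx hy hxy e hea hes
    rw [hxy.mul_pow, pow_eq_pow_mod e hx, pow_eq_pow_mod e hy, hea, hes, ← pow_eq_pow_mod 1 hx,
      ← pow_eq_pow_mod 0 hy, pow_one, pow_zero, mul_one]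
  rw [Finset.sum_subtype (Finset.univ.filter Q) (p := Q) (fun x => by simp), ← Nat.card_sigma]
  have hext : ∀ z w : (Σ x : {x // Q x},
      {y : Subgroup.centralizer ({(x : G)} : Set G) // y ^ s = 1}),
      (z.1 : G) = w.1 → ((z.2.1 : Subgroup.centralizer _) : G) = ((w.2.1 : Subgroup.centralizer _) : G) →
        z = w := by
    rintro ⟨⟨x, _⟩, ⟨⟨y, _⟩, _⟩⟩ ⟨⟨x', _⟩, ⟨⟨y', _⟩, _⟩⟩ h1 h2
    dsimp only at h1 h2
    subst h1 h2
    rfl
  refine Nat.card_congr
    { toFun := fun g => ⟨⟨g.1 ^ e₁, g.2.2 e₁ he₁a he₁s⟩, ⟨⟨g.1 ^ e₂,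
        Subgroup.mem_centralizer_singleton_iff.mpr ((Commute.pow_pow_self g.1 e₂ e₁).eq)⟩, ?_⟩⟩
      invFun := fun z => ⟨(z.1 : G) * ((z.2.1 : Subgroup.centralizer _) : G), ?_, ?_⟩
      left_inv := fun g => Subtype.ext ?_
      right_inv := ?_ }
  · refine Subtype.ext ?_
    show (g.1 ^ e₂) ^ s = 1
    obtain ⟨k, hk⟩ := Nat.modEq_zero_iff_dvd.mp he₂a
    rw [← pow_mul, hk, mul_assoc, mul_comm k s, ← mul_assoc, pow_mul, g.2.1, one_pow]
  · have hxy : Commute (z.1 : G) ((z.2.1 : Subgroup.centralizer _) : G) :=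
      (Subgroup.mem_centralizer_singleton_iff.mp z.2.1.2).symm
    rw [hxy.mul_pow, pow_mul, hQ _ z.1.2, one_pow, one_mul, mul_comm, pow_mul,
      show ((z.2.1 : Subgroup.centralizer _) : G) ^ s = 1 from congrArg Subtype.val z.2.2, one_pow]
  · intro e hea hes
    rw [key _ _ (hQ _ z.1.2) (congrArg Subtype.val z.2.2)
      (Subgroup.mem_centralizer_singleton_iff.mp z.2.1.2).symm e hea hes]
    exact z.1.2
  · show g.1 ^ e₁ * g.1 ^ e₂ = g.1
    rw [← pow_add, pow_eq_pow_mod _ g.2.1, hsum, ← pow_eq_pow_mod 1 g.2.1, pow_one]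
  · rintro ⟨⟨x, hx⟩, ⟨⟨y, hy⟩, hys⟩⟩
    have hxy : Commute x y := (Subgroup.mem_centralizer_singleton_iff.mp hy).symm
    have hys' : y ^ s = 1 := congrArg Subtype.val hys
    have h1 : (x * y) ^ e₁ = x := key x y (hQ x hx) hys' hxy e₁ he₁a he₁s
    have h2 : (x * y) ^ e₂ = y := by
      rw [hxy.mul_pow, pow_eq_pow_mod e₂ (hQ x hx), pow_eq_pow_mod e₂ hys', he₂a, he₂s,
        ← pow_eq_pow_mod 0 (hQ x hx), ← pow_eq_pow_mod 1 hys', pow_one, pow_zero, one_mul]
    exact hext _ _ h1 h2

/-- The elements with a prescribed prime power part come in sets of size divisible by `φ`. -/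
theorem totient_dvd_card_of_generators [Fintype G] (D : Finset G) {n : ℕ}
    (hD : ∀ g ∈ D, n ∣ orderOf g)
    (hgen : ∀ g ∈ D, ∀ g', Subgroup.zpowers g' = Subgroup.zpowers g → g' ∈ D) :
    Nat.totient n ∣ D.card := by
  classical
  rw [Finset.card_eq_sum_card_image (fun g : G => Subgroup.zpowers g) D]
  refine Finset.dvd_sum fun H hH => ?_
  obtain ⟨g, hg, rfl⟩ := Finset.mem_image.mp hH
  have e : (D.filter fun g' => Subgroup.zpowers g' = Subgroup.zpowers g) =
      (Finset.univ.filter fun x : Subgroup.zpowers g => orderOf x = orderOf g).map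
        (Function.Embedding.subtype _) := by
    ext g'
    simp only [Finset.mem_filter, Finset.mem_map, Finset.mem_univ, true_and,
      Function.Embedding.coe_subtype]
    constructor
    · rintro ⟨-, h⟩
      refine ⟨⟨g', h ▸ Subgroup.mem_zpowers g'⟩, ?_, rfl⟩
      rw [Subgroup.orderOf_mk, ← Nat.card_zpowers, h, Nat.card_zpowers]
    · rintro ⟨⟨x, hx⟩, ho, rfl⟩
      rw [Subgroup.orderOf_mk] at ho
      have h : Subgroup.zpowers x = Subgroup.zpowers g :=
        Subgroup.eq_of_le_of_card_ge (by rwa [Subgroup.zpowers_le])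
          (by rw [Nat.card_zpowers, Nat.card_zpowers, ho])
      exact ⟨hgen g hg x h, h⟩
  rw [e, Finset.card_map, IsCyclic.card_orderOf_eq_totient (by
    rw [← Nat.card_eq_fintype_card, Nat.card_zpowers])]
  exact Nat.totient_dvd_of_dvd (hD g hg)

theorem frobenius_main : ∀ N, ∀ (G : Type u) [Group G] [Finite G], Nat.card G = N →
    ∀ m, m ∣ Nat.card G → m ∣ Nat.card {g : G // g ^ m = 1} := by
  intro N
  induction N using Nat.strong_induction_on with
  | _ N ih =>
  intro G _ _ hN
  subst hN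
  classical
  have := Fintype.ofFinite G
  suffices ∀ d m, m * d = Nat.card G → m ∣ Nat.card {g : G // g ^ m = 1} from
    fun m ⟨d, hd⟩ => this d m hd.symm
  intro d
  induction d using Nat.strong_induction_on with
  | _ d ihd =>
  intro m hmd
  rcases eq_or_ne d 1 with rfl | hd1
  · rw [mul_one] at hmd
    subst hmd
    rw [Nat.card_congr (Equiv.subtypeUnivEquiv fun g : G => pow_card_eq_one')]
  obtain ⟨p, hp, hpd⟩ := Nat.exists_prime_and_dvd hd1
  have := Fact.mk hp
  obtain ⟨d', rfl⟩ := hpd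
  have hd0 : 0 < d' := Nat.pos_of_ne_zero fun e => by
    subst e
    rw [mul_zero, mul_zero] at hmd
    exact (Nat.card_pos (α := G)).ne' hmd.symm
  have hbig : m * p ∣ Nat.card {g : G // g ^ (m * p) = 1} :=
    ihd d' (lt_mul_left hd0 hp.one_lt) (m * p) (by rw [mul_assoc]; exact hmd)
  set D := Finset.univ.filter fun g : G => g ^ (m * p) = 1 ∧ g ^ m ≠ 1 with hD
  have hm0 : m ≠ 0 := fun e => by
    subst e
    rw [zero_mul] at hmd
    exact (Nat.card_pos (α := G)).ne' hmd.symm
  have hsplit : Nat.card {g : G // g ^ (m * p) = 1} = Nat.card {g : G // g ^ m = 1} + D.card := by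
    rw [Nat.card_eq_fintype_card, Nat.card_eq_fintype_card, Fintype.card_subtype, Fintype.card_subtype,
      hD, ← Finset.card_union_of_disjoint]
    · congr 1
      ext g
      simp only [Finset.mem_filter, Finset.mem_univ, true_and, Finset.mem_union]
      refine ⟨fun h => (em (g ^ m = 1)).imp id fun h' => ⟨h, h'⟩, ?_⟩
      rintro (h | ⟨h, -⟩)
      · rw [pow_mul, h, one_pow]
      · exact h
    · exact Finset.disjoint_filter.mpr fun g _ h h' => h'.2 h
  set a := (m * p).factorization p with ha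
  set s := ordCompl[p] (m * p) with hs
  have hmp : p ^ a * s = m * p := Nat.ordProj_mul_ordCompl_eq_self (m * p) p
  have hcop : (p ^ a).Coprime s := (Nat.coprime_ordCompl hp (mul_ne_zero hm0 hp.ne_zero)).pow_left a
  have ha1 : a = m.factorization p + 1 := by
    rw [ha, Nat.factorization_mul hm0 hp.ne_zero, Finsupp.add_apply, hp.factorization,
      Finsupp.single_eq_same]
  have hm : m = p ^ (a - 1) * s := by
    refine Nat.eq_of_mul_eq_mul_right hp.pos ?_
    rw [← hmp, ha1, Nat.add_sub_cancel, pow_succ]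
    ring
  -- the `p`-part of an element of `D` has order `p ^ a`
  have hDord : ∀ g : G, g ∈ D ↔ g ^ (p ^ a * s) = 1 ∧ p ^ a ∣ orderOf g := by
    intro g
    rw [hD, Finset.mem_filter, and_iff_right (Finset.mem_univ g), hmp]
    refine and_congr_right fun h => ⟨fun h' => ?_, fun h' h'' => ?_⟩
    · by_contra hno
      apply h'
      rw [← orderOf_dvd_iff_pow_eq_one, hm]
      have hdvd := orderOf_dvd_of_pow_eq_one h
      rw [← hmp] at hdvd
      have hog := (orderOf_pos g).ne'
      have hlt : (orderOf g).factorization p ≤ a - 1 := by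
        by_contra hlt
        exact hno ((hp.pow_dvd_iff_le_factorization hog).mpr (by omega))
      rw [← Nat.ordProj_mul_ordCompl_eq_self (orderOf g) p]
      refine Nat.mul_dvd_mul (pow_dvd_pow _ hlt) ?_
      refine Nat.Coprime.dvd_of_dvd_mul_left ?_ ((Nat.ordCompl_dvd _ _).trans hdvd)
      exact ((Nat.coprime_ordCompl hp hog).pow_left a).symm
    · have h1 : p ^ a ∣ p ^ (a - 1) * s := h'.trans (hm ▸ orderOf_dvd_of_pow_eq_one h'')
      have h2 := (Nat.pow_dvd_pow_iff_le_right hp.one_lt).mp (hcop.dvd_of_dvd_mul_right h1)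
      omega
  have h1 : p ^ (a - 1) ∣ D.card := by
    refine dvd_trans ?_ (totient_dvd_card_of_generators D (fun g hg => ((hDord g).mp hg).2)
      fun g hg g' hz => ?_)
    · rw [Nat.totient_prime_pow hp (by omega)]; exact dvd_mul_right _ _
    · have ho : orderOf g' = orderOf g := by rw [← Nat.card_zpowers, hz, Nat.card_zpowers]
      rw [hDord] at hg ⊢
      rw [ho]
      exact ⟨orderOf_dvd_iff_pow_eq_one.mp (ho ▸ orderOf_dvd_of_pow_eq_one hg.1), hg.2⟩
  have h2 : s ∣ D.card := by
    have e : D.card = Nat.card {g : G // g ^ (p ^ a * s) = 1 ∧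
        ∀ e, e ≡ 1 [MOD p ^ a] → e ≡ 0 [MOD s] → orderOf (g ^ e) = p ^ a} := by
      rw [Nat.card_eq_fintype_card, Fintype.card_subtype]
      congr 1
      ext g
      rw [hDord, Finset.mem_filter, and_iff_right (Finset.mem_univ g)]
      refine and_congr_right fun hg => ⟨fun h e hea hes => ?_, fun h => ?_⟩
      · apply Nat.dvd_antisymm
        · rw [orderOf_dvd_iff_pow_eq_one, ← pow_mul, pow_eq_pow_mod _ hg]
          obtain ⟨k, hk⟩ := Nat.modEq_zero_iff_dvd.mp hes
          rw [hk, show s * k * p ^ a = (p ^ a * s) * k by ring, Nat.mul_mod_right, pow_zero]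
        · have hce : (p ^ a).Coprime e := by
            rw [Nat.Coprime, Nat.gcd_comm, hea.gcd_eq, Nat.gcd_one_left]
          have hd : orderOf g ∣ e * orderOf (g ^ e) :=
            orderOf_dvd_iff_pow_eq_one.mpr (by rw [pow_mul, pow_orderOf_eq_one])
          exact hce.dvd_of_dvd_mul_left (h.trans hd)
      · obtain ⟨e, hea, hes⟩ := Nat.chineseRemainder hcop 1 0
        exact h e hea hes ▸ orderOf_pow_dvd e
    rw [e, card_split_eq_sum hcop (fun y : G => orderOf y = p ^ a)
      (fun x hx => hx ▸ pow_orderOf_eq_one x)]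
    refine dvd_sum_class_invariant _ _ (fun g x hx => ?_)
      (fun g x => card_centralizer_solutions_conj g x s) fun x hx => ?_
    · simp only [Finset.mem_filter, Finset.mem_univ, true_and] at hx ⊢
      rwa [← MulAut.conj_apply, MulEquiv.orderOf_eq]
    simp only [Finset.mem_filter, Finset.mem_univ, true_and] at hx
    set C := Subgroup.centralizer ({x} : Set G) with hC
    set Z := (Subgroup.zpowers x).subgroupOf C with hZdef
    have hxC : Subgroup.zpowers x ≤ C := by
      rw [Subgroup.zpowers_le, hC, Subgroup.mem_centralizer_singleton_iff]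
    have hZc : Z ≤ Subgroup.center C := by
      intro z hz
      obtain ⟨i, hi⟩ := hz
      rw [Subgroup.mem_center_iff]
      intro c
      refine Subtype.ext ?_
      have hcx : Commute (c : G) x := Subgroup.mem_centralizer_singleton_iff.mp c.2
      have hzi : (z : G) = x ^ i := hi.symm
      show (c : G) * z = z * c
      rw [hzi]
      exact (hcx.zpow_right i).eq
    have hZn : Z.Normal := ⟨fun z hz c => by
      rw [Subgroup.mem_center_iff.mp (hZc hz) c, mul_inv_cancel_right]; exact hz⟩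
    have hZcard : Nat.card Z = p ^ a := by
      rw [hZdef, Nat.card_congr (Subgroup.subgroupOfEquivOfLe hxC).toEquiv, Nat.card_zpowers, hx]
    have hZcop : (Nat.card Z).Coprime s := by rw [hZcard]; exact hcop
    rw [card_solutions_quotient Z hZc hZcop, card_solutions_gcd]
    have hlt : Nat.card (C ⧸ Z) < Nat.card G := by
      have h3 := Z.card_mul_index
      have h4 : Nat.card C ≤ Nat.card G := Subgroup.card_le_card_group C
      have h5 : 2 ≤ Nat.card Z := by
        rw [hZcard]
        exact hp.two_le.trans (Nat.le_self_pow (by omega) p)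
      change Nat.card Z * Nat.card (C ⧸ Z) = _ at h3
      have : 0 < Nat.card (C ⧸ Z) := Nat.card_pos
      nlinarith
    have h3 := ih _ hlt (C ⧸ Z) rfl (Nat.gcd s (Nat.card (C ⧸ Z))) (Nat.gcd_dvd_right _ _)
    refine dvd_trans ?_ (Nat.mul_dvd_mul_left _ h3)
    have hsG : s ∣ Nat.card G := (Dvd.intro_left _ hmp).trans (Dvd.intro d' (by rw [← hmd]; ring))
    have hgcd : Nat.gcd s (Nat.card C) = Nat.gcd s (Nat.card (C ⧸ Z)) := by
      rw [Subgroup.card_eq_card_quotient_mul_card_subgroup Z]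
      exact Nat.Coprime.gcd_mul_right_cancel_right _ hZcop
    rw [← hgcd, ← Nat.gcd_mul_left]
    refine Nat.dvd_gcd (dvd_mul_left _ _) ?_
    rw [mul_comm, C.card_mul_index]
    exact hsG
  have hmD : m ∣ D.card := by
    rw [hm]
    exact (hcop.coprime_dvd_left (pow_dvd_pow p (Nat.sub_le a 1))).mul_dvd_of_dvd_of_dvd h1 h2
  rw [hsplit] at hbig
  exact (Nat.dvd_add_left hmD).mp ((dvd_mul_right m p).trans hbig)

theorem frobenius_solutions (m : ℕ) :
    Nat.gcd m (Nat.card G) ∣ Nat.card {g : G // g ^ m = 1} := by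
  rw [card_solutions_gcd m]
  exact frobenius_main _ G rfl _ (Nat.gcd_dvd_right _ _)

end CfsgLib
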