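import Cfsg.Agent.Lib.Wreathed
import Cfsg.Agent.Lib.QuatHom
import Mathlib.GroupTheory.SpecificGroups.KleinFour

/-! Distinguished subgroups of wreathed groups. -/

set_option autoImplicit false
set_option linter.unusedSectionVars false

namespace CfsgLib.Wr

variable {S : Type*} [Group S] [Finite S] (d : Data S)

theorem u_zpow (a b k : ℤ) : (d.u a b) ^ k = d.u (a * k) (b * k) := by
  rw [Data.u, ((show Commute d.x d.y from d.hc).zpow_zpow a b).mul_zpow, ← zpow_mul, ← zpow_mul]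
  rfl

theorem orderOf_u_one (b : ℤ) : orderOf (d.u 1 b) = 2 * d.h := by
  refine Nat.dvd_antisymm ?_ ?_
  · rw [orderOf_dvd_iff_pow_eq_one, ← zpow_natCast, u_zpow, u_eq_one_iff, one_mul]
    push_cast
    exact ⟨dvd_rfl, dvd_mul_left _ _⟩
  · rw [← Int.natCast_dvd_natCast]
    have h : (d.u 1 b) ^ (orderOf (d.u 1 b) : ℤ) = 1 := by rw [zpow_natCast, pow_orderOf_eq_one]
    rw [u_zpow, u_eq_one_iff, one_mul] at h
    push_cast
    exact h.1

theorem mem_zpowers_u_one {b i j : ℤ} :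
    d.u i j ∈ Subgroup.zpowers (d.u 1 b) ↔ 2 * (d.h : ℤ) ∣ j - b * i := by
  constructor
  · rintro ⟨k, hk⟩
    replace hk : (d.u 1 b) ^ k = d.u i j := hk
    rw [u_zpow, u_eq_iff, one_mul] at hk
    obtain ⟨⟨p, hp⟩, q, hq⟩ := hk
    exact ⟨q - b * p, by linear_combination hq - b * hp⟩
  · intro h
    refine ⟨i, ?_⟩
    show (d.u 1 b) ^ i = d.u i j
    rw [u_zpow, u_eq_iff, one_mul, sub_self]
    exact ⟨dvd_zero _, h⟩

theorem center_eq : Subgroup.center S = Subgroup.zpowers (d.u 1 1) := by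
  ext g
  obtain ⟨i, j, rfl | rfl⟩ := cases_elem d g
  · rw [u_central_iff, mem_zpowers_u_one, one_mul]
  · refine iff_of_false (v_not_central d i j) fun h => ?_
    obtain ⟨k, hk⟩ := h
    replace hk : (d.u 1 1) ^ k = d.v i j := hk
    rw [u_zpow] at hk
    exact u_ne_v d _ _ i j hk

theorem v_mem_of_not_le {X : Subgroup S} (h : ¬ X ≤ d.U) : ∃ i j : ℤ, d.v i j ∈ X := by
  obtain ⟨g, hg, hgU⟩ := SetLike.not_le_iff_exists.mp h
  obtain ⟨i, j, rfl | rfl⟩ := cases_elem d g
  · exact absurd (u_mem d i j) hgU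
  · exact ⟨i, j, hg⟩

theorem U_comm {a b : S} (ha : a ∈ d.U) (hb : b ∈ d.U) : a * b = b * a := by
  obtain ⟨i, j, rfl⟩ := ha
  obtain ⟨k, l, rfl⟩ := hb
  rw [u_mul_u, u_mul_u, add_comm i, add_comm j]

include d in
/-- A nonabelian subgroup has its center inside the center of the group. -/
theorem central_of_commute {X : Subgroup S} (hX : ¬ IsMulCommutative X) {g : S} (hg : g ∈ X)
    (h : ∀ x ∈ X, g * x = x * g) : g ∈ Subgroup.center S := by
  have hle : ¬ X ≤ d.U := fun hle => hX ⟨⟨fun a b => Subtype.ext (U_comm d (hle a.2) (hle b.2))⟩⟩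
  obtain ⟨i, j, rfl | rfl⟩ := cases_elem d g
  · obtain ⟨a, b, hv⟩ := v_mem_of_not_le d hle
    exact (u_central_iff d).mpr ((commute_u_v_iff d).mp (h _ hv))
  · refine absurd ?_ hX
    -- `X` is contained in the centralizer of `v i j`, which is abelian
    refine ⟨⟨fun a b => Subtype.ext ?_⟩⟩
    have key : ∀ x ∈ X, ∃ c ∈ Subgroup.center S, x = c ∨ x = c * d.v i j := by
      intro x hx
      obtain ⟨k, l, rfl | rfl⟩ := cases_elem d x
      · exact ⟨_, (u_central_iff d).mpr ((commute_u_v_iff d).mp (h _ hx).symm), Or.inl rfl⟩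
      · refine ⟨d.u (k - i) (l - j), ?_, Or.inr (by rw [u_mul_v, sub_add_cancel, sub_add_cancel])⟩
        rw [u_central_iff]
        have h2 := h _ hx
        rw [v_mul_v, v_mul_v, u_eq_iff] at h2
        rw [show l - j - (k - i) = -(k + j - (i + l)) by ring, dvd_neg]
        exact h2.1
    have hc : ∀ {c : S}, c ∈ Subgroup.center S → ∀ y, c * y = y * c := fun hc y =>
      (Subgroup.mem_center_iff.mp hc y).symm
    obtain ⟨c₁, hc₁, ha⟩ := key a a.2
    obtain ⟨c₂, hc₂, hb⟩ := key b b.2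
    show (a : S) * b = (b : S) * a
    rcases ha with ha | ha <;> rcases hb with hb | hb <;> rw [ha, hb]
    · exact hc hc₁ _
    · exact hc hc₁ _
    · exact (hc hc₂ _).symm
    · rw [mul_assoc, ← mul_assoc (d.v i j), ← hc hc₂ (d.v i j), ← mul_assoc, ← mul_assoc,
        hc hc₁ c₂, mul_assoc c₂ c₁, mul_assoc c₂, mul_assoc c₂, ← mul_assoc (d.v i j), ← hc hc₁ (d.v i j)]

/-- The quaternion subgroup of order `4 h`. -/
def Data.R : Subgroup S := Subgroup.closure {d.u 1 (-1), d.v d.h 0}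

theorem R_rel :
    (d.u 1 (-1)) ^ (2 * d.h) = 1 ∧ d.v d.h 0 * d.v d.h 0 = (d.u 1 (-1)) ^ d.h ∧
      d.v d.h 0 * d.u 1 (-1) * (d.v d.h 0)⁻¹ = (d.u 1 (-1))⁻¹ := by
  refine ⟨?_, ?_, ?_⟩
  · rw [← orderOf_dvd_iff_pow_eq_one, orderOf_u_one]
  · rw [← zpow_natCast, v_mul_v, u_zpow, u_eq_iff]
    exact ⟨⟨0, by ring⟩, ⟨-1, by ring⟩⟩
  · rw [conj_u_by_v, u_inv, neg_neg]

theorem R_equiv : Nonempty (↥d.R ≃* QuaternionGroup d.h) :=
  CfsgLib.Quat.nonempty_equiv (R_rel d).1 (R_rel d).2.1 (R_rel d).2.2 (orderOf_u_one d _)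
    fun ⟨k, hk⟩ => u_ne_v d (1 * k) (-1 * k) d.h 0 (by rw [← u_zpow]; exact hk)

theorem card_R : Nat.card d.R = 4 * d.h := by
  obtain ⟨e⟩ := R_equiv d
  haveI : NeZero d.h := ⟨by have := d.h2; omega⟩
  rw [Nat.card_congr e.toEquiv, CfsgLib.Quat.nat_card]

theorem u_mem_R {i j : ℤ} (h : 2 * (d.h : ℤ) ∣ i + j) : d.u i j ∈ d.R := by
  have h1 : d.u i j ∈ Subgroup.zpowers (d.u 1 (-1)) := by
    rw [mem_zpowers_u_one, show j - -1 * i = i + j by ring]
    exact h
  exact Subgroup.zpowers_le.mpr (show d.u 1 (-1) ∈ d.R from Subgroup.subset_closure (Or.inl rfl)) h1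

theorem v_mem_R {i j : ℤ} (h : 2 * (d.h : ℤ) ∣ i + j - d.h) : d.v i j ∈ d.R := by
  have h1 : d.v i j = d.u (i - d.h) j * d.v d.h 0 := by rw [u_mul_v, sub_add_cancel, add_zero]
  rw [h1]
  refine mul_mem (u_mem_R d ?_) (Subgroup.subset_closure (Or.inr rfl))
  rwa [show i - (d.h : ℤ) + j = i + j - d.h by ring]

theorem R_normal : d.R.Normal := by
  have hgen : ∀ g : S, g * d.u 1 (-1) * g⁻¹ ∈ d.R ∧ g * d.v d.h 0 * g⁻¹ ∈ d.R := by
    intro g
    obtain ⟨a, b, rfl | rfl⟩ := cases_elem d g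
    · refine ⟨?_, ?_⟩
      · rw [U_comm d (u_mem d a b) (u_mem d 1 (-1)), mul_inv_cancel_right]
        exact u_mem_R d ⟨0, by ring⟩
      · rw [conj_v_by_u]
        exact v_mem_R d ⟨0, by ring⟩
    · refine ⟨?_, ?_⟩
      · rw [conj_u_by_v]
        exact u_mem_R d ⟨0, by ring⟩
      · have e : d.v a b * d.v d.h 0 * (d.v a b)⁻¹ = d.u a b * (d.z * d.v d.h 0 * d.z⁻¹) * (d.u a b)⁻¹ := by
          rw [v_eq d a b]; group
        rw [e, v_eq, ← mul_assoc d.z, z_u, mul_assoc (d.u 0 _) d.z, hzz, mul_one, zinv, ← v_eq, conj_v_by_u]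
        exact v_mem_R d ⟨0, by ring⟩
  refine ⟨fun n hn g => ?_⟩
  have hle : d.R ≤ d.R.comap (MulAut.conj g).toMonoidHom := by
    conv_lhs => rw [Data.R]
    rw [Subgroup.closure_le]
    rintro m (rfl | rfl)
    · exact (hgen g).1
    · exact (hgen g).2
  exact hle hn

/-- Any subgroup isomorphic to the quaternion group of order `4 h` is `R`. -/
theorem eq_R {Y : Subgroup S} (e : Y ≃* QuaternionGroup d.h) : Y = d.R := by
  have hh := d.h2
  haveI : NeZero d.h := ⟨by omega⟩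
  set a : QuaternionGroup d.h := QuaternionGroup.a 1
  set b : QuaternionGroup d.h := QuaternionGroup.xa 0
  set c : S := ((e.symm a : Y) : S) with hc
  set g : S := ((e.symm b : Y) : S) with hg
  have hcY : c ∈ Y := (e.symm a).2
  have hgY : g ∈ Y := (e.symm b).2
  have hordc : orderOf c = 2 * d.h := by
    rw [hc, Subgroup.orderOf_coe, MulEquiv.orderOf_eq, QuaternionGroup.orderOf_a_one]
  have hgg : g * g = c ^ d.h := by
    have h1 : b * b = a ^ d.h := by
      simp [a, b, QuaternionGroup.a_one_pow]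
    have h2 := congrArg (fun q => ((e.symm q : Y) : S)) h1
    simpa [map_mul, map_pow] using h2
  have hgc : g * c * g⁻¹ = c⁻¹ := by
    have h1 : b * a = a⁻¹ * b := by
      rw [eq_inv_mul_iff_mul_eq]
      simp [a, b]
    have h2 := congrArg (fun q => ((e.symm q : Y) : S)) h1
    simp only [map_mul, map_inv, Subgroup.coe_mul, Subgroup.coe_inv] at h2
    rw [← hc, ← hg] at h2
    rw [h2, mul_inv_cancel_right]
  have hgn : g ∉ Subgroup.zpowers c := by
    rintro ⟨k, hk⟩
    replace hk : c ^ k = g := hk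
    have h1 : e.symm b = (e.symm a) ^ k := Subtype.ext (by rw [SubgroupClass.coe_zpow, ← hc, hk])
    have h2 := congrArg e h1
    simp only [e.apply_symm_apply, map_zpow] at h2
    obtain ⟨m, hm⟩ : ∃ m : ℕ, a ^ k = a ^ m := by
      obtain ⟨m, hm⟩ := mem_powers_iff_mem_zpowers.mpr (⟨k, rfl⟩ : a ^ k ∈ Subgroup.zpowers a)
      exact ⟨m, hm.symm⟩
    rw [hm, QuaternionGroup.a_one_pow] at h2
    exact absurd h2 (by simp [b])
  -- reduce to a pair with the first element in `U`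
  suffices key : ∀ c g : S, c ∈ Y → g ∈ Y → orderOf c = 2 * d.h → g * g = c ^ d.h → g * c * g⁻¹ = c⁻¹ →
      g ∉ Subgroup.zpowers c → c ∈ d.U → Y = d.R by
    by_cases hcU : c ∈ d.U
    · exact key c g hcY hgY hordc hgg hgc hgn hcU
    obtain ⟨i, j, hcv⟩ : ∃ i j : ℤ, c = d.v i j := by
      obtain ⟨i, j, h | h⟩ := cases_elem d c
      · exact absurd (h ▸ u_mem d i j) hcU
      · exact ⟨i, j, h⟩
    have hcc : c * c ∈ Subgroup.center S := by
      rw [hcv, v_mul_v, u_central_iff]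
      exact ⟨0, by ring⟩
    -- hence `h = 2`
    have h4 : d.h = 2 := by
      have h1 : g * (c * c) * g⁻¹ = (c * c)⁻¹ := by
        rw [show g * (c * c) * g⁻¹ = g * c * g⁻¹ * (g * c * g⁻¹) by group, hgc, mul_inv_rev]
      rw [Subgroup.mem_center_iff.mp hcc g, mul_inv_cancel_right, eq_inv_iff_mul_eq_one] at h1
      have h2 : c ^ 4 = 1 := by
        rw [← h1]
        simp [pow_succ, mul_assoc]
      have := Nat.le_of_dvd (by norm_num) (orderOf_dvd_of_pow_eq_one h2)
      omega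
    have hc4 : c ^ 4 = 1 := by rw [show 4 = orderOf c by omega, pow_orderOf_eq_one]
    have hg2 : g * g = c ^ 2 := by rw [hgg, h4]
    have hcg : c * g * c⁻¹ = g⁻¹ := by
      have e1 : g * c = c⁻¹ * g := by rw [← hgc, inv_mul_cancel_right]
      apply eq_inv_of_mul_eq_one_left
      calc c * g * c⁻¹ * g = c * g * (c⁻¹ * g) := by group
        _ = c * g * (g * c) := by rw [e1]
        _ = c * (g * g) * c := by group
        _ = c ^ 4 := by rw [hg2]; group
        _ = 1 := hc4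
    have hg4 : g ^ 4 = 1 := by
      rw [show 4 = 2 * 2 from rfl, pow_mul, sq g, hg2, ← pow_mul, hc4]
    have hc2 : c ^ 2 ≠ 1 := fun h => by
      have := Nat.le_of_dvd two_pos (orderOf_dvd_of_pow_eq_one h)
      omega
    haveI : Fact (Nat.Prime 2) := ⟨Nat.prime_two⟩
    by_cases hgU : g ∈ d.U
    · refine key g c hgY hcY ?_ ?_ hcg ?_ hgU
      · rw [h4]
        refine orderOf_eq_prime_pow (p := 2) (n := 1) ?_ (by simpa using hg4)
        rw [pow_one, sq, hg2]
        exact hc2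
      · rw [h4, sq g, hg2, sq]
      · exact fun h => hcU (Subgroup.zpowers_le.mpr hgU h)
    · have hcgU : c * g ∈ d.U :=
        (Subgroup.mul_mem_iff_of_index_two (index_U d)).mpr ⟨fun h => absurd h hcU, fun h => absurd h hgU⟩
      have hsq : c * g * (c * g) = c ^ 2 := by
        calc c * g * (c * g) = c * (g * c * g⁻¹) * (g * g) := by group
          _ = c ^ 2 := by rw [hgc, hg2]; group
      refine key (c * g) c (mul_mem hcY hgY) hcY ?_ ?_ ?_ ?_ hcgU
      · rw [h4]
        refine orderOf_eq_prime_pow (p := 2) (n := 1) ?_ ?_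
        · rw [pow_one, sq, hsq]
          exact hc2
        · rw [show 2 ^ (1 + 1) = 2 * 2 from rfl, pow_mul, sq (c * g), hsq, ← pow_mul, hc4]
      · rw [h4, sq (c * g), hsq, sq]
      · rw [show c * (c * g) * c⁻¹ = c * (c * g * c⁻¹) by group, hcg]
        apply eq_inv_of_mul_eq_one_left
        calc c * g⁻¹ * (c * g) = c * (g⁻¹ * c * g) := by group
          _ = 1 := by
            have e2 : g⁻¹ * c * g = c⁻¹ := by
              calc g⁻¹ * c * g = g⁻¹ * (g * c * g⁻¹)⁻¹ * g := by rw [hgc, inv_inv]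
                _ = c⁻¹ := by group
            rw [e2, mul_inv_cancel]
      · exact fun h => hcU (Subgroup.zpowers_le.mpr hcgU h)
  -- the main computation
  intro c g hcY hgY hordc hgg hgc hgn hcU
  obtain ⟨e'⟩ := CfsgLib.Quat.nonempty_equiv (n := d.h) (a := c) (b := g)
    (by rw [← hordc, pow_orderOf_eq_one]) hgg hgc hordc hgn
  have hcardY : Nat.card Y = 4 * d.h := by rw [Nat.card_congr e.toEquiv, CfsgLib.Quat.nat_card]
  have hY : Subgroup.closure ({c, g} : Set S) = Y := by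
    refine Subgroup.eq_of_le_of_card_ge ?_ ?_
    · rw [Subgroup.closure_le]
      rintro m (rfl | rfl) <;> assumption
    · rw [hcardY, Nat.card_congr e'.toEquiv, CfsgLib.Quat.nat_card]
  rw [← hY]
  refine Subgroup.eq_of_le_of_card_ge ?_ ?_
  · rw [Subgroup.closure_le]
    obtain ⟨p, q, rfl⟩ := hcU
    obtain ⟨i, j, rfl | rfl⟩ := cases_elem d g
    · exfalso
      rw [U_comm d (u_mem d i j) (u_mem d p q), mul_inv_cancel_right, eq_inv_iff_mul_eq_one, ← sq] at hgc
      have := Nat.le_of_dvd two_pos (orderOf_dvd_of_pow_eq_one hgc)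
      omega
    rw [conj_u_by_v, u_inv, u_eq_iff] at hgc
    have hpq : 2 * (d.h : ℤ) ∣ p + q := by
      rw [show p + q = -(-p - q) by ring, dvd_neg]
      exact hgc.1
    rw [v_mul_v, ← zpow_natCast, u_zpow, u_eq_iff] at hgg
    have hne : (d.u p q) ^ (d.h : ℤ) ≠ 1 := by
      rw [Ne, ← orderOf_dvd_iff_zpow_eq_one, hordc, Int.natCast_dvd_natCast]
      exact fun h => by have := Nat.le_of_dvd (by omega) h; omega
    rintro m (rfl | rfl)
    · exact u_mem_R d hpq
    · refine v_mem_R d ((dvd_half_cases d ?_).resolve_left fun h => hne ?_)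
      · obtain ⟨r, hr⟩ := hgg.1
        exact ⟨p - 2 * r, by linear_combination -hr⟩
      · rw [u_zpow, u_eq_one_iff]
        have h1 : 2 * (d.h : ℤ) ∣ p * d.h := by
          have h5 := dvd_add hgg.1 h
          rwa [sub_add_cancel] at h5
        refine ⟨h1, ?_⟩
        have := dvd_sub (dvd_mul_of_dvd_left hpq (d.h : ℤ)) h1
        rwa [add_mul, add_sub_cancel_left] at this
  · rw [card_R, Nat.card_congr e'.toEquiv, CfsgLib.Quat.nat_card]

end CfsgLib.Wr
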