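import Cfsg.Agent.Lib.WreathedShapes
import Cfsg.Agent.Lib.QuasiDihedralClasses
import Cfsg.Agent.S1196

/-! Fusion in a wreathed Sylow subgroup. -/

set_option autoImplicit false
set_option linter.unusedSectionVars false

namespace CfsgLib.Wr

open CfsgLib.LocalFusion
open CfsgLib.QD (AutFromSylow autFromSylow_conj normal_sup_centralizer)

variable {G : Type*} [Group G] [Finite G] (P : Sylow 2 G)

/-- A subgroup of the Sylow subgroup as a subgroup of the ambient group. -/
abbrev up (H : Subgroup (P : Subgroup G)) : Subgroup G := H.map (P : Subgroup G).subtype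

theorem coe_mem_up {H : Subgroup (P : Subgroup G)} {a : (P : Subgroup G)} : (a : G) ∈ up P H ↔ a ∈ H :=
  ⟨fun ⟨b, hb, e⟩ => (Subtype.ext e : b = a) ▸ hb, fun h => ⟨a, h, rfl⟩⟩

theorem up_le (H : Subgroup (P : Subgroup G)) : up P H ≤ (P : Subgroup G) := Subgroup.map_subtype_le H

theorem up_subgroupOf {A : Subgroup G} (hA : A ≤ (P : Subgroup G)) : up P (A.subgroupOf (P : Subgroup G)) = A := by
  rw [up, Subgroup.subgroupOf_map_subtype, inf_eq_left.mpr hA]

theorem subgroupOf_up (H : Subgroup (P : Subgroup G)) : (up P H).subgroupOf (P : Subgroup G) = H := by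
  ext a
  exact coe_mem_up P

noncomputable def upEquiv (H : Subgroup (P : Subgroup G)) : ↥(up P H) ≃* H :=
  (H.equivMapOfInjective _ (Subgroup.subtype_injective _)).symm

theorem up_map_conj (H : Subgroup (P : Subgroup G)) (s : (P : Subgroup G)) :
    (up P H).map (MulAut.conj (s : G)).toMonoidHom = up P (H.map (MulAut.conj s).toMonoidHom) := by
  rw [up, up, Subgroup.map_map, Subgroup.map_map]
  rfl

theorem map_conj_eq {A : Subgroup G} {g : G} (hg : g ∈ Subgroup.normalizer (A : Set G)) :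
    A.map (MulAut.conj g).toMonoidHom = A := by
  refine le_antisymm ?_ fun x hx => ?_
  · rintro _ ⟨a, ha, rfl⟩
    exact conj_mem_of hg ha
  · refine ⟨g⁻¹ * x * g, ?_, ?_⟩
    · simpa using conj_mem_of (inv_mem hg) hx
    · show g * (g⁻¹ * x * g) * g⁻¹ = x
      group

theorem mem_normalizer_of_map_eq {A : Subgroup G} {g : G} (h : A.map (MulAut.conj g).toMonoidHom = A) :
    g ∈ Subgroup.normalizer (A : Set G) := by
  refine Subgroup.mem_normalizer_iff.mpr fun x => ⟨fun hx => h.le ⟨x, hx, rfl⟩, fun hx => ?_⟩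
  obtain ⟨a, ha, hax⟩ := h.ge hx
  exact ((MulAut.conj g).injective hax) ▸ ha

theorem card_map_conj (A : Subgroup G) (g : G) :
    Nat.card (A.map (MulAut.conj g).toMonoidHom) = Nat.card A :=
  (Nat.card_congr (A.equivMapOfInjective _ (MulAut.conj g).injective).toEquiv).symm

theorem exists_conj_le {T : Subgroup G} (hT : IsPGroup 2 T) :
    ∃ g : G, T.map (MulAut.conj g).toMonoidHom ≤ (P : Subgroup G) := by
  haveI : Fact (Nat.Prime 2) := ⟨Nat.prime_two⟩
  obtain ⟨R, hR⟩ := hT.exists_le_sylow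
  obtain ⟨g, hg⟩ := MulAction.exists_smul_eq G R P
  refine ⟨g, ?_⟩
  rintro _ ⟨t, ht, rfl⟩
  rw [← hg]
  exact Subgroup.smul_mem_pointwise_smul _ _ _ (hR ht)

theorem two_or_six {k r : ℕ} (h2 : 2 ∣ k) (h4 : ¬ 4 ∣ k) (h : k ∣ 6 * 2 ^ r) : k = 2 ∨ k = 6 := by
  obtain ⟨s, rfl⟩ := h2
  have hs : Nat.Coprime s 2 := by
    rw [Nat.coprime_comm, Nat.prime_two.coprime_iff_not_dvd]
    exact fun ⟨t, ht⟩ => h4 ⟨t, by omega⟩
  have h3 : s ∣ 3 := by
    have h5 : s ∣ 3 * 2 ^ r := by
      rw [show 6 * 2 ^ r = 2 * (3 * 2 ^ r) by ring] at h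
      exact Nat.dvd_of_mul_dvd_mul_left two_pos h
    exact (Nat.Coprime.pow_right r hs).dvd_of_dvd_mul_right h5
  rcases (Nat.dvd_prime Nat.prime_three).mp h3 with rfl | rfl <;> omega

variable (d : Data (P : Subgroup G)) {m : ℕ} (hm : d.h = 2 * m)

theorem up_center_eq : up P (Subgroup.center (P : Subgroup G)) = Subgroup.zpowers ((d.u 1 1 : (P : Subgroup G)) : G) := by
  rw [up, center_eq d, MonoidHom.map_zpowers]
  rfl

theorem center_fix {c s : G} (hc : c ∈ up P (Subgroup.center (P : Subgroup G))) (hs : s ∈ (P : Subgroup G)) :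
    s * c * s⁻¹ = c := by
  obtain ⟨a, ha, rfl⟩ := hc
  exact mul_inv_eq_iff_eq_mul.mpr (congrArg Subtype.val (Subgroup.mem_center_iff.mp ha ⟨s, hs⟩))

theorem up_Xs_eq (a b : ℤ) :
    up P (d.Xs m a b) = up P (d.Qs m a b) ⊔ up P (Subgroup.center (P : Subgroup G)) := by
  rw [up, up, up, ← Subgroup.map_sup]
  rfl

include hm in
/-- Conjugates of `Q ⊔ Z` inside the Sylow subgroup have the same form. -/
theorem conj_shape {a b : ℤ} (hab : a + b = d.h) {g : G}
    (hg : (up P (d.Xs m a b)).map (MulAut.conj g).toMonoidHom ≤ (P : Subgroup G)) :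
    ∃ a' b' : ℤ, a' + b' = d.h ∧
      (up P (d.Qs m a b)).map (MulAut.conj g).toMonoidHom = up P (d.Qs m a' b') ∧
      (up P (Subgroup.center (P : Subgroup G))).map (MulAut.conj g).toMonoidHom
        = up P (Subgroup.center (P : Subgroup G)) ∧
      (up P (d.Xs m a b)).map (MulAut.conj g).toMonoidHom = up P (d.Xs m a' b') := by
  obtain ⟨e⟩ := Qs_equiv d hm hab
  rw [up_Xs_eq, Subgroup.map_sup, sup_le_iff] at hg
  obtain ⟨a', b', hab', hQ⟩ := q8_shape d hm
    ((Subgroup.subgroupOfEquivOfLe hg.1).trans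
      (((up P (d.Qs m a b)).equivMapOfInjective _ (MulAut.conj g).injective).symm.trans ((upEquiv P _).trans e)))
  have hQ' : (up P (d.Qs m a b)).map (MulAut.conj g).toMonoidHom = up P (d.Qs m a' b') := by
    rw [← hQ]
    exact (up_subgroupOf P hg.1).symm
  have hZ : (up P (Subgroup.center (P : Subgroup G))).map (MulAut.conj g).toMonoidHom
      = up P (Subgroup.center (P : Subgroup G)) := by
    refine Subgroup.eq_of_le_of_card_ge ?_ (card_map_conj _ g).ge
    rintro _ ⟨c, hc, rfl⟩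
    have hcP : g * c * g⁻¹ ∈ (P : Subgroup G) := hg.2 ⟨c, hc, rfl⟩
    show ((⟨g * c * g⁻¹, hcP⟩ : (P : Subgroup G)) : G) ∈ _
    rw [coe_mem_up, ← centralizer_Xs d hm a' b']
    have hcomm : ∀ y ∈ d.Qs m a' b', y * (⟨g * c * g⁻¹, hcP⟩ : (P : Subgroup G)) = ⟨g * c * g⁻¹, hcP⟩ * y := by
      intro y hy
      obtain ⟨x, hx, hxy⟩ := hQ'.ge ((coe_mem_up P).mpr hy)
      refine Subtype.ext ?_
      show (y : G) * (g * c * g⁻¹) = g * c * g⁻¹ * (y : G)
      rw [← hxy]
      show g * x * g⁻¹ * (g * c * g⁻¹) = g * c * g⁻¹ * (g * x * g⁻¹)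
      rw [conj_mul, conj_mul, mul_inv_eq_iff_eq_mul.mp (center_fix P hc (up_le P _ hx))]
    have hle : d.Xs m a' b' ≤ Subgroup.centralizer ({⟨g * c * g⁻¹, hcP⟩} : Set (P : Subgroup G)) := by
      refine sup_le (fun y hy => ?_) (Subgroup.center_le_centralizer _)
      exact Subgroup.mem_centralizer_singleton_iff.mpr (hcomm y hy)
    exact Subgroup.mem_centralizer_iff.mpr fun y hy => Subgroup.mem_centralizer_singleton_iff.mp (hle hy)
  refine ⟨a', b', hab', hQ', hZ, ?_⟩
  rw [up_Xs_eq, Subgroup.map_sup, hQ', hZ, ← up_Xs_eq]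

include hm in
theorem normalizer_Xs_facts {a b : ℤ} (hab : a + b = d.h) {g : G}
    (hg : g ∈ Subgroup.normalizer (up P (d.Xs m a b) : Set G)) :
    g ∈ Subgroup.normalizer (up P (d.Qs m a b) : Set G) ∧
      g ∈ Subgroup.normalizer (up P (Subgroup.center (P : Subgroup G)) : Set G) := by
  obtain ⟨a', b', hab', hQ, hZ, hX⟩ := conj_shape P d hm hab (g := g) (by rw [map_conj_eq hg]; exact up_le P _)
  refine ⟨mem_normalizer_of_map_eq ?_, mem_normalizer_of_map_eq hZ⟩
  obtain ⟨e⟩ := Qs_equiv d hm hab'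
  have hle : d.Qs m a' b' ≤ d.Xs m a b := by
    rw [map_conj_eq hg] at hX
    rw [Subgroup.map_injective (Subgroup.subtype_injective _) hX]
    exact Qs_le_Xs d m a' b'
  rw [hQ, q8_unique d hm hab e hle]

include hm in
theorem two_subgroup_bound {a b : ℤ} (hab : a + b = d.h) {T : Subgroup G}
    (hTN : T ≤ Subgroup.normalizer (up P (d.Xs m a b) : Set G)) (hT : IsPGroup 2 T) :
    Nat.card T ≤ 2 * Nat.card (d.Xs m a b) ∧
      ∀ t ∈ T, ∀ c ∈ up P (Subgroup.center (P : Subgroup G)), t * c * t⁻¹ = c := by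
  have hXp : IsPGroup 2 (up P (d.Xs m a b)) := P.2.to_le (up_le P _)
  obtain ⟨g, hg⟩ := exists_conj_le P (hT.to_sup_of_normal_right' hXp hTN)
  rw [Subgroup.map_sup, sup_le_iff] at hg
  obtain ⟨a', b', hab', hQ, hZ, hX⟩ := conj_shape P d hm hab hg.2
  have hT' : T.map (MulAut.conj g).toMonoidHom
      ≤ up P (Subgroup.normalizer (d.Xs m a' b' : Set (P : Subgroup G))) := by
    rintro _ ⟨t, ht, rfl⟩
    have htP : g * t * g⁻¹ ∈ (P : Subgroup G) := hg.1 ⟨t, ht, rfl⟩
    have hN : g * t * g⁻¹ ∈ Subgroup.normalizer (up P (d.Xs m a' b') : Set G) := by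
      rw [← hX]
      exact Subgroup.le_normalizer_map _ ⟨t, hTN ht, rfl⟩
    show ((⟨g * t * g⁻¹, htP⟩ : (P : Subgroup G)) : G) ∈ _
    rw [coe_mem_up, Subgroup.mem_normalizer_iff]
    intro y
    rw [← coe_mem_up P, ← coe_mem_up P (a := _ * y * _)]
    exact Subgroup.mem_normalizer_iff.mp hN y
  refine ⟨?_, fun t ht c hc => ?_⟩
  · have h1 := Subgroup.card_le_of_le hT'
    rw [card_map_conj, Nat.card_congr (upEquiv P _).toEquiv] at h1
    refine h1.trans (le_of_eq ?_)
    have h2 := ((d.Xs m a' b').subgroupOf (Subgroup.normalizer (d.Xs m a' b' : Set (P : Subgroup G)))).card_mul_index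
    rw [Nat.card_congr (Subgroup.subgroupOfEquivOfLe Subgroup.le_normalizer).toEquiv, ← Subgroup.relIndex,
      relIndex_normalizer_Xs d hm hab', mul_comm] at h2
    rw [← h2]
    congr 1
    rw [← Nat.card_congr (upEquiv P (d.Xs m a' b')).toEquiv, ← hX, card_map_conj,
      Nat.card_congr (upEquiv P (d.Xs m a b)).toEquiv]
  · have hc' : g * c * g⁻¹ ∈ up P (Subgroup.center (P : Subgroup G)) := hZ.le ⟨c, hc, rfl⟩
    have := center_fix P hc' (hg.1 ⟨t, ht, rfl⟩)
    calc t * c * t⁻¹ = g⁻¹ * ((g * t * g⁻¹) * (g * c * g⁻¹) * (g * t * g⁻¹)⁻¹) * g := by group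
      _ = c := by
        rw [show g * t * g⁻¹ * (g * c * g⁻¹) * (g * t * g⁻¹)⁻¹ = g * c * g⁻¹ from this]
        group

include hm in
/-- The normalizer of `Q ⊔ Z` centralizes the centre of the Sylow subgroup. -/
theorem fix_center {a b : ℤ} (hab : a + b = d.h) {g : G}
    (hg : g ∈ Subgroup.normalizer (up P (d.Xs m a b) : Set G)) :
    ∀ c ∈ up P (Subgroup.center (P : Subgroup G)), g * c * g⁻¹ = c := by
  suffices h : g ∈ Subgroup.centralizer (up P (Subgroup.center (P : Subgroup G)) : Set G) by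
    intro c hc
    exact mul_inv_eq_iff_eq_mul.mpr (Subgroup.mem_centralizer_iff.mp h c hc).symm
  haveI : IsCyclic (up P (Subgroup.center (P : Subgroup G))) := by rw [up_center_eq P d]; infer_instance
  refine mem_of_parts (fun k a' hk => ?_) fun k hk => ?_
  · refine Subgroup.mem_centralizer_iff.mpr fun c hc => ?_
    have hp : IsPGroup 2 (Subgroup.zpowers (g ^ k)) := by
      rintro ⟨y, j, rfl⟩
      refine ⟨a', Subtype.ext ?_⟩
      show ((g ^ k) ^ j) ^ 2 ^ a' = 1
      rw [← zpow_natCast, ← zpow_mul, mul_comm, zpow_mul, zpow_natCast, hk, one_zpow]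
    exact (mul_inv_eq_iff_eq_mul.mp ((two_subgroup_bound P d hm hab
      (Subgroup.zpowers_le.mpr (pow_mem hg k)) hp).2 _ (Subgroup.mem_zpowers _) c hc)).symm
  · refine Subgroup.mem_centralizer_iff.mpr fun c hc => ?_
    exact (mul_inv_eq_iff_eq_mul.mp (fix_cyclic (P.2.to_le (up_le P _))
      (normalizer_Xs_facts P d hm hab (pow_mem hg k)).2 hk c hc)).symm

include hm in
theorem mem_centralizer_Xs {a b : ℤ} (hab : a + b = d.h) {y : G}
    (hy : y ∈ Subgroup.normalizer (up P (d.Xs m a b) : Set G))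
    (hQ : y ∈ Subgroup.centralizer (up P (d.Qs m a b) : Set G)) :
    y ∈ Subgroup.centralizer (up P (d.Xs m a b) : Set G) := by
  have hle : up P (d.Xs m a b) ≤ Subgroup.centralizer ({y} : Set G) := by
    rw [up_Xs_eq]
    refine sup_le (fun x hx => ?_) fun x hx => ?_
    · exact Subgroup.mem_centralizer_singleton_iff.mpr (Subgroup.mem_centralizer_iff.mp hQ x hx)
    · exact Subgroup.mem_centralizer_singleton_iff.mpr (mul_inv_eq_iff_eq_mul.mp (fix_center P d hm hab hy x hx)).symm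
  exact Subgroup.mem_centralizer_iff.mpr fun x hx => Subgroup.mem_centralizer_singleton_iff.mp (hle hx)

include hm in
theorem exists_outside_Xs {a b : ℤ} (hab : a + b = d.h) :
    ∃ s : (P : Subgroup G), (s : G) ∈ Subgroup.normalizer (up P (d.Xs m a b) : Set G) ∧
      (s : G) ∉ up P (d.Xs m a b) ⊔ Subgroup.centralizer (up P (d.Xs m a b) : Set G) := by
  obtain ⟨s, hsN, hsX⟩ := SetLike.not_le_iff_exists.mp
    (fun hle => absurd (Subgroup.relIndex_eq_one.mpr hle) (by rw [relIndex_normalizer_Xs d hm hab]; omega) :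
      ¬ Subgroup.normalizer (d.Xs m a b : Set (P : Subgroup G)) ≤ d.Xs m a b)
  have hsN' : (s : G) ∈ Subgroup.normalizer (up P (d.Xs m a b) : Set G) := by
    refine mem_normalizer_of_map_eq ?_
    rw [up_map_conj]
    congr 1
    refine le_antisymm ?_ fun x hx => ?_
    · rintro _ ⟨x, hx, rfl⟩
      exact conj_mem_of hsN hx
    · exact ⟨s⁻¹ * x * s, by simpa using conj_mem_of (inv_mem hsN) hx, by
        show s * (s⁻¹ * x * s) * s⁻¹ = x
        group⟩
  refine ⟨s, hsN', fun h => hsX ?_⟩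
  rw [← SetLike.mem_coe, Subgroup.coe_mul_of_left_le_normalizer_right _ _ (by
    intro t ht
    refine mem_normalizer_of_map_eq ?_
    have e1 := Subgroup.map_centralizer_le_centralizer_image (up P (d.Xs m a b) : Set G) (MulAut.conj t).toMonoidHom
    refine Subgroup.eq_of_le_of_card_ge (e1.trans ?_) (card_map_conj _ t).ge
    rw [← Subgroup.coe_map, map_conj_eq (Subgroup.le_normalizer ht)])] at h
  obtain ⟨x, hx, c, hc, hxc⟩ := h
  replace hxc : x * c = (s : G) := hxc
  have hcP : c ∈ (P : Subgroup G) := by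
    have := mul_mem (inv_mem (up_le P _ hx)) s.2
    rwa [← hxc, inv_mul_cancel_left] at this
  have hcZ : (⟨c, hcP⟩ : (P : Subgroup G)) ∈ Subgroup.center (P : Subgroup G) := by
    rw [← centralizer_Xs d hm a b]
    exact Subgroup.mem_centralizer_iff.mpr fun y hy =>
      Subtype.ext (Subgroup.mem_centralizer_iff.mp hc y ((coe_mem_up P).mpr hy))
  rw [← coe_mem_up P, ← hxc]
  exact mul_mem hx ((coe_mem_up P (a := ⟨c, hcP⟩)).mpr (center_le_Xs d m a b hcZ))

include hm in
theorem relIndex_Xs_cases {a b : ℤ} (hab : a + b = d.h) :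
    (up P (d.Xs m a b) ⊔ Subgroup.centralizer (up P (d.Xs m a b) : Set G)).relIndex
        (Subgroup.normalizer (up P (d.Xs m a b) : Set G)) = 2 ∨
      (up P (d.Xs m a b) ⊔ Subgroup.centralizer (up P (d.Xs m a b) : Set G)).relIndex
        (Subgroup.normalizer (up P (d.Xs m a b) : Set G)) = 6 := by
  haveI : Fact (Nat.Prime 2) := ⟨Nat.prime_two⟩
  set X := up P (d.Xs m a b) with hX
  set C := Subgroup.centralizer (X : Set G) with hC
  set N := Subgroup.normalizer (X : Set G) with hN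
  have hXN : X ≤ N := Subgroup.le_normalizer
  have hCN : C ≤ N := Subgroup.centralizer_le_normalizer _
  haveI : (C.subgroupOf N).Normal := by rw [← Subgroup.normalizerMonoidHom_ker]; infer_instance
  haveI hnorm : ((X ⊔ C).subgroupOf N).Normal := normal_sup_centralizer X
  have h4 : C.relIndex (X ⊔ C) = 4 := by
    rw [← Subgroup.relIndex_subgroupOf (H := C) (sup_le hXN hCN), Subgroup.subgroupOf_sup hXN hCN,
      Subgroup.relIndex_sup_right, Subgroup.relIndex_subgroupOf hXN, ← Subgroup.inf_relIndex_right,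
      show C ⊓ X = up P (Subgroup.center (P : Subgroup G)) from le_antisymm (by
        rintro x ⟨hxC, hxX⟩
        have hxP : x ∈ (P : Subgroup G) := up_le P _ hxX
        show ((⟨x, hxP⟩ : (P : Subgroup G)) : G) ∈ _
        rw [coe_mem_up, ← centralizer_Xs d hm a b]
        exact Subgroup.mem_centralizer_iff.mpr fun y hy =>
          Subtype.ext (Subgroup.mem_centralizer_iff.mp hxC y ((coe_mem_up P).mpr hy))) (by
        refine le_inf (fun x hx => Subgroup.mem_centralizer_iff.mpr fun y hy =>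
          mul_inv_eq_iff_eq_mul.mp (center_fix P hx (up_le P _ hy))) ?_
        exact Subgroup.map_mono (center_le_Xs d m a b)),
      hX, Subgroup.relIndex_map_map_of_injective _ _ (Subgroup.subtype_injective _), center_relIndex_Xs d hm hab]
  have hmul := Subgroup.relIndex_mul_relIndex C (X ⊔ C) N le_sup_right (sup_le hXN hCN)
  rw [h4] at hmul
  have hNQ : N ≤ Subgroup.normalizer (up P (d.Qs m a b) : Set G) :=
    fun g hg => (normalizer_Xs_facts P d hm hab hg).1
  obtain ⟨e⟩ := Qs_equiv d hm hab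
  obtain ⟨r, hr⟩ := index_dvd_of_kernel (C.subgroupOf N)
    ((up P (d.Qs m a b)).normalizerMonoidHom.comp (Subgroup.inclusion hNQ)) (fun y hy _ => by
      refine mem_centralizer_Xs P d hm hab y.2 ?_
      have hy' : Subgroup.inclusion hNQ y ∈ (up P (d.Qs m a b)).normalizerMonoidHom.ker := hy
      rw [Subgroup.normalizerMonoidHom_ker] at hy'
      exact hy')
  rw [← Subgroup.relIndex, ← hmul, Nat.card_congr (MulAut.congr ((upEquiv P _).trans e)).toEquiv] at hr
  obtain ⟨s, hsN, hsX⟩ := exists_outside_Xs P d hm hab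
  obtain ⟨k, hk⟩ := P.2 s
  have h2 : 2 ∣ (X ⊔ C).relIndex N :=
    two_dvd_index_of_not_mem ((X ⊔ C).subgroupOf N) (g := ⟨s, hsN⟩) (a := k)
      (Subtype.ext (by simpa using congrArg Subtype.val hk)) hsX
  refine two_or_six h2 (fun h => ?_) (r := r) ?_
  · have h8 : 4 * Nat.card X ∣ Nat.card N := by
      have h9 : 4 ∣ X.relIndex N := h.trans (Subgroup.relIndex_dvd_of_le_left N le_sup_left)
      have h10 := (X.subgroupOf N).card_mul_index
      rw [Nat.card_congr (Subgroup.subgroupOfEquivOfLe hXN).toEquiv] at h10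
      rw [← h10, mul_comm 4]
      exact mul_dvd_mul_left _ h9
    obtain ⟨j, hj⟩ := IsPGroup.iff_card.mp (P.2.to_le (up_le P (d.Xs m a b)))
    rw [← hX] at hj
    obtain ⟨T⟩ : Nonempty (Sylow 2 N) := inferInstance
    have hb := (two_subgroup_bound P d hm hab (T := (T : Subgroup N).map N.subtype) (Subgroup.map_subtype_le _)
      (T.2.map N.subtype)).1
    rw [← Nat.card_congr ((T : Subgroup N).equivMapOfInjective _ (Subgroup.subtype_injective _)).toEquiv,
      ← Nat.card_congr (upEquiv P (d.Xs m a b)).toEquiv, ← hX] at hb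
    have h11 : 4 * Nat.card X ∣ Nat.card (T : Subgroup N) := by
      refine Nat.Coprime.dvd_of_dvd_mul_right ?_ (h8.trans ((T : Subgroup N).card_mul_index).symm.dvd)
      rw [hj, show 4 * 2 ^ j = 2 ^ (j + 2) by ring]
      exact Nat.Coprime.pow_left _ (Nat.prime_two.coprime_iff_not_dvd.mpr T.not_dvd_index)
    have h12 := Nat.le_of_dvd Nat.card_pos h11
    have : 0 < Nat.card X := Nat.card_pos
    omega
  · have h13 := hr.trans (mul_dvd_mul_right q8_card_aut_dvd (2 ^ r))
    rw [show 24 * 2 ^ r = 4 * (6 * 2 ^ r) by ring] at h13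
    exact Nat.dvd_of_mul_dvd_mul_left (by norm_num) h13

/-- The involutions of `U`. -/
def Data.T0 {S : Type*} [Group S] [Finite S] (d : Data S) : Subgroup S where
  carrier := {g | g ∈ d.U ∧ g * g = 1}
  one_mem' := ⟨one_mem _, one_mul 1⟩
  mul_mem' := by
    rintro a b ⟨ha, ha'⟩ ⟨hb, hb'⟩
    refine ⟨mul_mem ha hb, ?_⟩
    rw [show a * b * (a * b) = a * (b * a) * b by group, U_comm d hb ha,
      show a * (a * b) * b = a * a * (b * b) by group, ha', hb', one_mul]
  inv_mem' := by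
    rintro a ⟨ha, ha'⟩
    exact ⟨inv_mem ha, by rw [← mul_inv_rev, ha', inv_one]⟩

theorem T0_le : d.T0 ≤ d.U := fun _ h => h.1

theorem half_ne : d.u d.h 0 ≠ d.w ∧ d.u d.h 0 ≠ d.u 0 d.h ∧ d.u 0 d.h ≠ d.w := by
  have hh := d.h2
  have key : ¬ 2 * (d.h : ℤ) ∣ (d.h : ℤ) := fun h => by
    have := Int.le_of_dvd (by omega) h
    omega
  refine ⟨fun h => key ?_, fun h => key ?_, fun h => key ?_⟩
  · rw [Data.w, u_eq_iff] at h
    simpa using h.2
  · rw [u_eq_iff] at h
    simpa using h.2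
  · rw [Data.w, u_eq_iff] at h
    simpa using h.1

theorem half_mem_T0 : d.u d.h 0 ∈ d.T0 ∧ d.u 0 d.h ∈ d.T0 ∧ d.w ∈ d.T0 := by
  refine ⟨⟨u_mem d _ _, ?_⟩, ⟨u_mem d _ _, ?_⟩, ⟨u_mem d _ _, ?_⟩⟩ <;>
    · show d.u _ _ * d.u _ _ = 1
      rw [u_mul_u, u_eq_one_iff]
      refine ⟨?_, ?_⟩ <;> simp [← two_mul]

theorem T0_klein : IsKleinFour (up P d.T0) := by
  classical
  obtain ⟨n1, n2, n3⟩ := half_ne P d
  obtain ⟨m1, m2, m3⟩ := half_mem_T0 P d
  have o1 : d.u d.h 0 ≠ 1 := fun h => by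
    have := (orderOf_half_u d).1
    rw [h, orderOf_one] at this
    omega
  have o3 : d.w ≠ 1 := fun h => by
    have := (orderOf_half_u d).2
    rw [h, orderOf_one] at this
    omega
  have o2 : d.u 0 d.h ≠ 1 := fun h => o1 (by
    rw [u_eq_one_iff] at h ⊢
    exact h.symm)
  have hset : (d.T0 : Set (P : Subgroup G))
      = (({1, d.u d.h 0, d.u 0 d.h, d.w} : Finset (P : Subgroup G)) : Set (P : Subgroup G)) := by
    ext g
    simp only [Finset.coe_insert, Finset.coe_singleton, Set.mem_insert_iff, Set.mem_singleton_iff, SetLike.mem_coe]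
    constructor
    · rintro ⟨⟨i, j, rfl⟩, h⟩
      exact u_involution_cases d h
    · rintro (rfl | rfl | rfl | rfl)
      exacts [one_mem _, m1, m2, m3]
  have hcard : Nat.card d.T0 = 4 := by
    show Nat.card (d.T0 : Set (P : Subgroup G)) = 4
    rw [hset, Nat.card_coe_set_eq, Set.ncard_coe_finset]
    exact Finset.card_eq_four.mpr ⟨_, _, _, _, o1.symm, o2.symm, o3.symm, n2, n1, n3, rfl⟩
  refine ⟨by rw [Nat.card_congr (upEquiv P _).toEquiv, hcard], ?_⟩
  rw [Monoid.exponent_eq_of_mulEquiv (upEquiv P _)]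
  haveI : Nontrivial d.T0 := ⟨⟨⟨_, m3⟩, 1, fun e => o3 (congrArg Subtype.val e)⟩⟩
  rw [Monoid.exponent_eq_prime_iff Nat.prime_two]
  exact fun g hg => orderOf_eq_prime (by rw [sq]; exact Subtype.ext g.2.2) hg

theorem U_comm_up : ∀ x ∈ up P d.U, ∀ y ∈ up P d.U, x * y = y * x := by
  rintro _ ⟨x, hx, rfl⟩ _ ⟨y, hy, rfl⟩
  exact congrArg Subtype.val (U_comm d hx hy)

theorem U_le_centralizer : up P d.U ≤ Subgroup.centralizer (up P d.U : Set G) := fun x hx =>
  Subgroup.mem_centralizer_iff.mpr fun y hy => U_comm_up P d y hy x hx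

theorem normalizer_U_le_T0 :
    Subgroup.normalizer (up P d.U : Set G) ≤ Subgroup.normalizer (up P d.T0 : Set G) := by
  intro g hg
  have key : ∀ x, x ∈ up P d.T0 ↔ x ∈ up P d.U ∧ x * x = 1 := by
    intro x
    constructor
    · rintro ⟨a, ⟨ha, ha'⟩, rfl⟩
      exact ⟨⟨a, ha, rfl⟩, congrArg Subtype.val ha'⟩
    · rintro ⟨⟨a, ha, rfl⟩, h⟩
      exact ⟨a, ⟨ha, Subtype.ext h⟩, rfl⟩
  refine Subgroup.mem_normalizer_iff.mpr fun x => ?_
  rw [key, key, ← Subgroup.mem_normalizer_iff.mp hg x, conj_mul, conj_eq_one_iff]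

theorem P_le_normalizer_U : (P : Subgroup G) ≤ Subgroup.normalizer (up P d.U : Set G) := by
  intro s hs
  haveI := Subgroup.normal_of_index_eq_two (index_U d)
  refine mem_normalizer_of_map_eq ?_
  rw [show s = ((⟨s, hs⟩ : (P : Subgroup G)) : G) from rfl, up_map_conj]
  congr 1
  exact Subgroup.eq_of_le_of_card_ge (by
    rintro _ ⟨x, hx, rfl⟩
    exact Subgroup.Normal.conj_mem inferInstance x hx _)
    (Nat.card_congr (d.U.equivMapOfInjective _ (MulAut.conj _).injective).toEquiv).le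

theorem z_not_mem_centralizer : (d.z : G) ∉ Subgroup.centralizer (up P d.U : Set G) := by
  intro h
  have h1 := Subgroup.mem_centralizer_iff.mp h _ ((coe_mem_up P).mpr (u_mem d 1 0))
  have hz : d.z = d.v 0 0 := by simp [Data.v]
  have h2 : Commute (d.u 1 0) (d.v 0 0) := hz ▸ (Subtype.ext h1 : d.u 1 0 * d.z = d.z * d.u 1 0)
  have h3 := (commute_u_v_iff d).mp h2
  rw [zero_sub, dvd_neg] at h3
  have := Int.le_of_dvd one_pos h3
  have := d.h2
  omega

theorem centralizes_U_of_T0 {y : G} (hy : y ∈ Subgroup.normalizer (up P d.U : Set G)) (hodd : Odd (orderOf y))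
    (h : y ∈ Subgroup.centralizer (up P d.T0 : Set G)) : y ∈ Subgroup.centralizer (up P d.U : Set G) := by
  refine mem_centralizer_of_fix (U_comm_up P d) (P.2.to_le (up_le P _)) hy hodd fun x hx hxx => ?_
  obtain ⟨a, ha, rfl⟩ := hx
  exact mul_inv_eq_iff_eq_mul.mpr
    (Subgroup.mem_centralizer_iff.mp h _ ⟨a, ⟨ha, Subtype.ext hxx⟩, rfl⟩).symm

theorem relIndex_U_cases :
    (Subgroup.centralizer (up P d.U : Set G)).relIndex (Subgroup.normalizer (up P d.U : Set G)) = 2 ∨
      (Subgroup.centralizer (up P d.U : Set G)).relIndex (Subgroup.normalizer (up P d.U : Set G)) = 6 := by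
  haveI : Fact (Nat.Prime 2) := ⟨Nat.prime_two⟩
  set U := up P d.U with hU
  set C := Subgroup.centralizer (U : Set G)
  set N := Subgroup.normalizer (U : Set G)
  haveI := T0_klein P d
  haveI : (C.subgroupOf N).Normal := by rw [← Subgroup.normalizerMonoidHom_ker]; infer_instance
  obtain ⟨r, hr⟩ := index_dvd_of_kernel (C.subgroupOf N)
    ((up P d.T0).normalizerMonoidHom.comp (Subgroup.inclusion (normalizer_U_le_T0 P d))) (fun y hy hodd => by
      refine centralizes_U_of_T0 P d y.2 (by rw [orderOf_injective _ (Subgroup.subtype_injective N) y]; exact hodd) ?_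
      have hy' : Subgroup.inclusion (normalizer_U_le_T0 P d) y ∈ (up P d.T0).normalizerMonoidHom.ker := hy
      rw [Subgroup.normalizerMonoidHom_ker] at hy'
      exact hy')
  rw [CfsgLib.Quat.card_aut_klein] at hr
  obtain ⟨k, hk⟩ := P.2 d.z
  refine two_or_six ?_ (fun h => ?_) hr
  · exact two_dvd_index_of_not_mem (C.subgroupOf N) (g := ⟨d.z, P_le_normalizer_U P d d.z.2⟩) (a := k)
      (Subtype.ext (by simpa using congrArg Subtype.val hk)) (z_not_mem_centralizer P d)
  · have h1 : 4 ∣ U.relIndex N := h.trans (Subgroup.relIndex_dvd_of_le_left N (U_le_centralizer P d))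
    rw [← Subgroup.relIndex_mul_relIndex U (P : Subgroup G) N (up_le P _) (P_le_normalizer_U P d),
      show U.relIndex (P : Subgroup G) = 2 by
        rw [Subgroup.relIndex, hU, subgroupOf_up, index_U],
      show 4 = 2 * 2 from rfl] at h1
    exact P.not_dvd_index ((Nat.dvd_of_mul_dvd_mul_left two_pos h1).trans
      (Subgroup.relIndex_dvd_index_of_le (P_le_normalizer_U P d)))

/-! ### Fusion -/

theorem autFromSylow_U
    (h : (Subgroup.centralizer (up P d.U : Set G)).relIndex (Subgroup.normalizer (up P d.U : Set G)) = 2) :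
    AutFromSylow P (up P d.U) := by
  have hle := U_le_centralizer P d
  intro g hg
  obtain ⟨t, ht, htx⟩ := exists_of_index_two (P := up P d.U) (k := (d.z : G)) rfl
    (by rw [sup_eq_right.mpr hle]; exact h) (P_le_normalizer_U P d d.z.2)
    (by rw [sup_eq_right.mpr hle]; exact z_not_mem_centralizer P d) hg
  refine ⟨t, ?_, htx⟩
  rcases ht with ht | ⟨q, hq, rfl⟩
  · exact up_le P _ ht
  · exact mul_mem (up_le P _ hq) (inv_mem d.z.2)

include hm in
theorem autFromSylow_Xs {a₀ b₀ : ℤ} (hab₀ : a₀ + b₀ = d.h)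
    (h : (up P (d.Xs m a₀ b₀) ⊔ Subgroup.centralizer (up P (d.Xs m a₀ b₀) : Set G)).relIndex
      (Subgroup.normalizer (up P (d.Xs m a₀ b₀) : Set G)) = 2) {a b : ℤ} (hab : a + b = d.h) :
    AutFromSylow P (up P (d.Xs m a b)) := by
  refine autFromSylow_conj P (d.u (a₀ - a) 0).2 (B := up P (d.Xs m a₀ b₀)) ?_ ?_
  · rw [up_map_conj, map_Xs d hab hab₀]
  intro g hg
  obtain ⟨s, hsN, hsX⟩ := exists_outside_Xs P d hm hab₀
  obtain ⟨t, ht, htx⟩ := exists_of_index_two (P := up P (d.Xs m a₀ b₀)) (k := (s : G)) rfl h hsN hsX hg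
  refine ⟨t, ?_, htx⟩
  rcases ht with ht | ⟨q, hq, rfl⟩
  · exact up_le P _ ht
  · exact mul_mem (up_le P _ hq) (inv_mem s.2)

theorem exists_odd_U
    (h : (Subgroup.centralizer (up P d.U : Set G)).relIndex (Subgroup.normalizer (up P d.U : Set G)) = 6) :
    ∃ g ∈ Subgroup.normalizer (up P d.U : Set G), g ∈ Subgroup.normalizer (up P d.T0 : Set G) ∧
      g ∉ Subgroup.centralizer (up P d.T0 : Set G) ∧ Odd (orderOf g) := by
  haveI : ((Subgroup.centralizer (up P d.U : Set G)).subgroupOf (Subgroup.normalizer (up P d.U : Set G))).Normal := by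
    rw [← Subgroup.normalizerMonoidHom_ker]; infer_instance
  obtain ⟨g, hg, hgC, hodd⟩ := exists_odd_outside h
  exact ⟨g, hg, normalizer_U_le_T0 P d hg, fun hc => hgC (centralizes_U_of_T0 P d hg hodd hc), hodd⟩

theorem T0_isConj
    (h : (Subgroup.centralizer (up P d.U : Set G)).relIndex (Subgroup.normalizer (up P d.U : Set G)) = 6) :
    IsConj ((d.u d.h 0 : (P : Subgroup G)) : G) ((d.w : (P : Subgroup G)) : G) := by
  obtain ⟨g, -, hgT, hgC, hodd⟩ := exists_odd_U P d h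
  obtain ⟨m1, -, m3⟩ := half_mem_T0 P d
  refine klein_isConj (T0_klein P d) hgT hgC hodd ((coe_mem_up P).mpr m1) (fun e => ?_) ((coe_mem_up P).mpr m3)
    (fun e => ?_)
  · have := (orderOf_half_u d).1
    rw [show d.u d.h 0 = 1 from Subtype.ext e, orderOf_one] at this
    omega
  · have := (orderOf_half_u d).2
    rw [show d.w = 1 from Subtype.ext e, orderOf_one] at this
    omega

/-- `U` consists of commutators with an odd order element of its normalizer. -/
theorem U_commutators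
    (h : (Subgroup.centralizer (up P d.U : Set G)).relIndex (Subgroup.normalizer (up P d.U : Set G)) = 6) :
    ∃ g : G, Odd (orderOf g) ∧ ∀ x ∈ up P d.U, ∃ u ∈ up P d.U, x = u⁻¹ * (g * u * g⁻¹) := by
  obtain ⟨g, hgU, hgT, hgC, hodd⟩ := exists_odd_U P d h
  refine ⟨g, hodd, surj_comm (U_comm_up P d) hgU fun x hx hfix => ?_⟩
  by_contra hx1
  obtain ⟨k, hk⟩ := P.2 ⟨x, up_le P _ hx⟩
  have hk' : x ^ 2 ^ k = 1 := congrArg Subtype.val hk
  obtain ⟨j, hj1, hj2⟩ : ∃ j : ℕ, x ^ 2 ^ j ≠ 1 ∧ x ^ 2 ^ (j + 1) = 1 := by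
    clear hk
    induction k with
    | zero => rw [pow_zero, pow_one] at hk'; exact absurd hk' hx1
    | succ k ih =>
      by_cases hx2 : x ^ 2 ^ k = 1
      · exact ih hx2
      · exact ⟨k, hx2, hk'⟩
  set t := x ^ 2 ^ j
  have htU : t ∈ up P d.U := pow_mem hx _
  have htt : t * t = 1 := by rw [← sq, ← pow_mul, ← pow_succ, hj2]
  have htT : t ∈ up P d.T0 := by
    obtain ⟨a, ha, e⟩ := htU
    exact ⟨a, ⟨ha, Subtype.ext (by rw [← e] at htt; exact htt)⟩, e⟩
  have hgt : g * t * g⁻¹ = t := by rw [← conj_pow, hfix]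
  have hgt2 : g ^ 2 * t * (g ^ 2)⁻¹ = t := conj_pow_fix hgt 2
  have hall : ∀ b ∈ up P d.T0, b ≠ 1 → b = t := by
    intro b hb hb1
    rcases klein_transitive (T0_klein P d) hgT hgC hodd htT hj1 hb hb1 with e | e | e
    · exact e
    · rw [e, hgt]
    · rw [e, hgt2]
  obtain ⟨m1, -, m3⟩ := half_mem_T0 P d
  have o1 := (orderOf_half_u d).1
  have o3 := (orderOf_half_u d).2
  refine (half_ne P d).1 (Subtype.ext ((hall _ ((coe_mem_up P).mpr m1) fun e => ?_).trans
    (hall _ ((coe_mem_up P).mpr m3) fun e => ?_).symm))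
  · rw [show d.u d.h 0 = 1 from Subtype.ext e, orderOf_one] at o1; omega
  · rw [show d.w = 1 from Subtype.ext e, orderOf_one] at o3; omega

include hm in
theorem exists_rot {a₀ b₀ : ℤ} (hab₀ : a₀ + b₀ = d.h)
    (h : (up P (d.Xs m a₀ b₀) ⊔ Subgroup.centralizer (up P (d.Xs m a₀ b₀) : Set G)).relIndex
      (Subgroup.normalizer (up P (d.Xs m a₀ b₀) : Set G)) = 6) {a b : ℤ} (hab : a + b = d.h) :
    ∃ g : G, g ∈ Subgroup.normalizer (up P (d.Qs m a b) : Set G) ∧
      g ∉ Subgroup.centralizer (up P (d.Qs m a b) : Set G) ∧ Odd (orderOf g) ∧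
      ∀ c ∈ up P (Subgroup.center (P : Subgroup G)), g * c * g⁻¹ = c := by
  haveI := normal_sup_centralizer (up P (d.Xs m a₀ b₀))
  obtain ⟨g, hg, hgX, hodd⟩ := exists_odd_outside h
  set s : G := ((d.u (a - a₀) 0 : (P : Subgroup G)) : G) with hs
  have hQ : (up P (d.Qs m a₀ b₀)).map (MulAut.conj s).toMonoidHom = up P (d.Qs m a b) := by
    rw [hs, up_map_conj, map_Qs d hab₀ hab]
  have hgC : g ∉ Subgroup.centralizer (up P (d.Qs m a₀ b₀) : Set G) :=
    fun hc => hgX (Subgroup.mem_sup_right (mem_centralizer_Xs P d hm hab₀ hg hc))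
  refine ⟨s * g * s⁻¹, ?_, fun hc => hgC ?_, by rwa [CfsgLib.Involutions.orderOf_conj], fun c hc => ?_⟩
  · rw [← hQ]
    exact Subgroup.le_normalizer_map _ ⟨g, (normalizer_Xs_facts P d hm hab₀ hg).1, rfl⟩
  · refine Subgroup.mem_centralizer_iff.mpr fun q hq => ?_
    have h1 : s * q * s⁻¹ * (s * g * s⁻¹) = s * g * s⁻¹ * (s * q * s⁻¹) :=
      Subgroup.mem_centralizer_iff.mp hc _ (hQ ▸ ⟨q, hq, rfl⟩)
    rw [conj_mul, conj_mul] at h1
    exact mul_left_cancel (mul_right_cancel h1)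
  · have h1 := center_fix P hc (d.u (a - a₀) 0).2
    rw [← hs] at h1
    have h2 : s⁻¹ * c * s = c := by
      conv_lhs => rw [← h1]
      group
    rw [show s * g * s⁻¹ * c * (s * g * s⁻¹)⁻¹ = s * (g * (s⁻¹ * c * s) * g⁻¹) * s⁻¹ by group, h2,
      fix_center P d hm hab₀ hg c hc, h1]

include hm in
/-- An element of order four in `U ∩ Q` fuses with one outside `U`. -/
theorem z_isConj_half
    (hrot : ∀ a b : ℤ, a + b = d.h → ∃ g : G, g ∈ Subgroup.normalizer (up P (d.Qs m a b) : Set G) ∧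
      g ∉ Subgroup.centralizer (up P (d.Qs m a b) : Set G) ∧ Odd (orderOf g) ∧
      ∀ c ∈ up P (Subgroup.center (P : Subgroup G)), g * c * g⁻¹ = c) :
    IsConj ((d.z : (P : Subgroup G)) : G) ((d.u d.h 0 : (P : Subgroup G)) : G) := by
  have hmh := hmZ d hm
  have hab : (m : ℤ) + m = d.h := by rw [hmh]; ring
  obtain ⟨g, hg, hgC, hodd, hfix⟩ := hrot m m hab
  obtain ⟨e⟩ := Qs_equiv d hm hab
  have hdiv : ¬ 2 * (d.h : ℤ) ∣ 2 * (m : ℤ) := fun h => by
    have := Int.le_of_dvd (by have := m_pos d hm; omega) h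
    have := d.h2
    omega
  obtain ⟨h, hh, hfix'⟩ := q8_conj_fix ((upEquiv P _).trans e) hg hgC hodd
    ((coe_mem_up P).mpr (v_mem_Qs d m m m))
    (fun h => hdiv (by
      have h' : d.v (m : ℤ) m * d.v (m : ℤ) m = 1 := Subtype.ext h
      rw [v_mul_v, u_eq_one_iff, ← two_mul] at h'
      exact h'.1))
    ((coe_mem_up P).mpr (u_mem_Qs d m m m))
    (fun h => hdiv (by
      have h' : d.u (m : ℤ) (-m) * d.u (m : ℤ) (-m) = 1 := Subtype.ext h
      rw [u_mul_u, u_eq_one_iff, ← two_mul] at h'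
      exact h'.1))
  have hz0 : d.u (-m) (-m) ∈ Subgroup.center (P : Subgroup G) := diag_central d _
  have h0 := hfix' ((d.u (-m) (-m) : (P : Subgroup G)) : G) (hfix _ ((coe_mem_up P).mpr hz0))
    (fun q hq => center_fix P ((coe_mem_up P).mpr hz0) (up_le P _ hq))
  have e1 : d.z = d.v (m : ℤ) m * d.u (-m) (-m) := by
    rw [v_mul_u, add_neg_cancel]
    simp [Data.v]
  have e2 : d.u 0 d.h = d.u (m : ℤ) (-m) * d.u (-m) (-m) := by
    rw [u_mul_u, u_eq_iff, hmh]
    exact ⟨⟨0, by ring⟩, ⟨-1, by ring⟩⟩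
  have hc : IsConj ((d.z : (P : Subgroup G)) : G) ((d.u 0 d.h : (P : Subgroup G)) : G) := by
    refine isConj_iff.mpr ⟨h, ?_⟩
    rw [e1, e2, Subgroup.coe_mul, Subgroup.coe_mul, ← conj_mul, hh, h0]
  refine hc.trans (isConj_iff.mpr ⟨((d.z : (P : Subgroup G)) : G), ?_⟩)
  exact congrArg Subtype.val (show d.z * d.u 0 d.h * d.z⁻¹ = d.u d.h 0 by
    rw [show d.z = d.v 0 0 by simp [Data.v], conj_u_by_v])

theorem invol_cases {t : G} (ht : orderOf t = 2) :
    IsConj t ((d.w : (P : Subgroup G)) : G) ∨ IsConj t ((d.u d.h 0 : (P : Subgroup G)) : G) ∨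
      IsConj t ((d.z : (P : Subgroup G)) : G) := by
  haveI : Fact (Nat.Prime 2) := ⟨Nat.prime_two⟩
  obtain ⟨g, hg⟩ := exists_conj_mem P (t := t) (a := 1) (by rw [ht, pow_one])
  have ho : orderOf (⟨g * t * g⁻¹, hg⟩ : (P : Subgroup G)) = 2 := by
    rw [Subgroup.orderOf_mk, CfsgLib.Involutions.orderOf_conj, ht]
  have hc : IsConj t (g * t * g⁻¹) := isConj_iff.mpr ⟨g, rfl⟩
  obtain ⟨h1, hne⟩ := CfsgLib.Involutions.orderOf_eq_two_iff'.mp ho
  obtain ⟨i, j, e | e⟩ := cases_elem d (⟨g * t * g⁻¹, hg⟩ : (P : Subgroup G))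
  · rw [e] at h1 hne
    rcases u_involution_cases d h1 with h | h | h | h
    · exact absurd h hne
    · exact Or.inr (Or.inl (congrArg Subtype.val (e.trans h) ▸ hc))
    · have he : g * t * g⁻¹ = ((d.u 0 d.h : (P : Subgroup G)) : G) := congrArg Subtype.val (e.trans h)
      rw [he] at hc
      refine Or.inr (Or.inl (hc.trans ?_))
      exact MonoidHom.map_isConj (P : Subgroup G).subtype
        (show IsConj (d.u 0 d.h) (d.u d.h 0) from isConj_iff.mpr ⟨d.z, by
          rw [show d.z = d.v 0 0 by simp [Data.v], conj_u_by_v]⟩)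
    · exact Or.inl (congrArg Subtype.val (e.trans h) ▸ hc)
  · right; right
    rw [e] at h1
    have h2 := isConj_v d 0 0 i
    rw [zero_add, zero_sub, show d.v i (-i) = d.v i j by
      rw [v_eq_iff]
      exact ⟨⟨0, by ring⟩, by rw [sub_neg_eq_add, add_comm]; exact (v_mul_self_eq_one_iff d).mp h1⟩,
      show d.v 0 0 = d.z by simp [Data.v], ← e] at h2
    exact hc.trans (MonoidHom.map_isConj (P : Subgroup G).subtype h2.symm)

include hm in
/-- Relations preserved by fusion in a wreathed Sylow subgroup. -/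
theorem fusion_rel {n : ℕ} (hn : 2 * d.h = 2 ^ n) (r : G → G → Prop) (hr : Equivalence r)
    (hconj : ∀ s ∈ (P : Subgroup G), ∀ x ∈ (P : Subgroup G), r x (s * x * s⁻¹))
    (hU : ∀ g ∈ Subgroup.normalizer (up P d.U : Set G), ∀ x ∈ up P d.U, r x (g * x * g⁻¹))
    (hX : ∀ a b : ℤ, a + b = d.h → ∀ g ∈ Subgroup.normalizer (up P (d.Xs m a b) : Set G),
      ∀ x ∈ up P (d.Xs m a b), r x (g * x * g⁻¹))
    {x : G} (hx : x ∈ (P : Subgroup G)) {g : G} (hg : g * x * g⁻¹ ∈ (P : Subgroup G)) : r x (g * x * g⁻¹) := by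
  haveI : Fact (Nat.Prime 2) := ⟨Nat.prime_two⟩
  refine CfsgLib.LocalFusion.fusion_rel P r hr hconj (fun A hAP hcen hp => ?_) hx hg
  have eA := Subgroup.subgroupOfEquivOfLe hAP
  have hC : Subgroup.centralizer ((A.subgroupOf (P : Subgroup G)) : Set (P : Subgroup G))
      ≤ A.subgroupOf (P : Subgroup G) := by
    intro c hc
    refine hcen ⟨c.2, Subgroup.mem_centralizer_iff.mpr fun y hy => ?_⟩
    exact congrArg Subtype.val (Subgroup.mem_centralizer_iff.mp hc ⟨y, hAP hy⟩ hy)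
  have hA : ¬ IsPGroup 2 (MulAut (A.subgroupOf (P : Subgroup G))) := fun h => hp (h.of_equiv (MulAut.congr eA))
  by_cases hc : IsMulCommutative (A.subgroupOf (P : Subgroup G))
  · have hle : A.subgroupOf (P : Subgroup G) ≤ d.U := by
      by_contra hle
      exact hA (aut_abelian d P.2 (by rw [hm]; exact even_two_mul _) hc hC hle)
    have heq : A.subgroupOf (P : Subgroup G) = d.U := le_antisymm hle (le_trans (fun u hu =>
      Subgroup.mem_centralizer_iff.mpr fun x hx => U_comm d (hle hx) hu) hC)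
    rw [← up_subgroupOf P hAP, heq]
    exact hU
  · obtain ⟨hlev, i, j, hv, hij⟩ := nonabelian_shape d hn P.2 hc hC hA
    obtain ⟨a, b, hab, hAX, -⟩ := shape_equiv d hm hC hlev hv hij
    rw [← up_subgroupOf P hAP, hAX]
    exact hX a b hab

/-- Translation of the hypotheses of the fusion statements. -/
theorem setup (hS : Cfsg.IsWreathed (P : Subgroup G)) {n : ℕ} (hn : Nat.card P = 2 ^ (2 * n + 1))
    {U : Subgroup G} (hUS : U ≤ (P : Subgroup G)) (hUab : IsMulCommutative U) (hUcard : Nat.card U = 2 ^ (2 * n))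
    {Q : Subgroup G} (hQS : Q ≤ (P : Subgroup G)) (eQ : Q ≃* QuaternionGroup 2) :
    2 ≤ n ∧ ∃ (d : Data (P : Subgroup G)) (m : ℕ) (a b : ℤ), d.h = 2 * m ∧ 2 * d.h = 2 ^ n ∧
      d.h = 2 ^ (n - 1) ∧ U = up P d.U ∧ a + b = d.h ∧
      Q ⊔ (Subgroup.center (P : Subgroup G)).map (P : Subgroup G).subtype = up P (d.Xs m a b) := by
  obtain ⟨k, hk, hcard, d, hdh⟩ := exists_data hS
  obtain rfl : k = n := by
    have := Nat.pow_right_injective le_rfl (hcard.symm.trans hn)
    omega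
  have h2 : 2 * d.h = 2 ^ k := by rw [hdh, ← pow_succ']; congr 1; omega
  have hm : d.h = 2 * 2 ^ (k - 2) := by rw [hdh, ← pow_succ']; congr 1; omega
  have hab : IsMulCommutative (U.subgroupOf (P : Subgroup G)) := by
    haveI := hUab
    exact ⟨⟨fun x y => Subtype.ext (Subtype.ext (setLike_mul_comm (show ((x : (P : Subgroup G)) : G) ∈ U from x.2) y.2))⟩⟩
  have hU : U.subgroupOf (P : Subgroup G) = d.U := by
    have hsq : (2 : ℕ) ^ (2 * k) = 2 * d.h * (2 * d.h) := by rw [h2, ← pow_add, two_mul]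
    have hc : Nat.card (U.subgroupOf (P : Subgroup G)) = 2 ^ (2 * k) := by
      rw [Nat.card_congr (Subgroup.subgroupOfEquivOfLe hUS).toEquiv, hUcard]
    obtain ⟨V, -, huniq⟩ := (Cfsg.Agent.S1196.result hS k hn).1
    rw [huniq _ ⟨hab, hc⟩, huniq d.U ⟨⟨⟨fun a b => Subtype.ext (U_comm d a.2 b.2)⟩⟩, by rw [card_U, hsq]⟩]
  obtain ⟨a, b, hab', hQ⟩ := q8_shape d hm ((Subgroup.subgroupOfEquivOfLe hQS).trans eQ)
  refine ⟨hk, d, 2 ^ (k - 2), a, b, hm, h2, hdh, ?_, hab', ?_⟩
  · rw [← hU, up_subgroupOf P hUS]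
  · rw [up_Xs_eq, ← hQ, up_subgroupOf P hQS]

end CfsgLib.Wr
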