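import Mathlib
import Cfsg.Agent.Lib.Coprime

/-!
Lifting elements and their normalizing elements modulo a normal subgroup of coprime order.
-/

set_option autoImplicit false

namespace CfsgLib

variable {G : Type*} [Group G] [Finite G]

/-- An element of `G ⧸ N` of order coprime to `|N|` lifts to an element of the same order. -/
theorem exists_lift_orderOf_eq (N : Subgroup G) [N.Normal] (y : G ⧸ N)
    (h : (orderOf y).Coprime (Nat.card N)) :
    ∃ x : G, (x : G ⧸ N) = y ∧ orderOf x = orderOf y := by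
  obtain ⟨x₀, rfl⟩ := QuotientGroup.mk'_surjective N y
  set d := orderOf (QuotientGroup.mk' N x₀) with hd
  obtain ⟨k, hk1, hk0⟩ := Nat.chineseRemainder h 1 0
  have hmap : QuotientGroup.mk' N (x₀ ^ k) = QuotientGroup.mk' N x₀ := by
    rw [map_pow, (pow_eq_pow_iff_modEq (x := QuotientGroup.mk' N x₀) (n := k) (m := 1)).mpr hk1, pow_one]
  refine ⟨x₀ ^ k, hmap, Nat.dvd_antisymm ?_ ?_⟩
  · refine orderOf_dvd_of_pow_eq_one ?_
    have hm : x₀ ^ d ∈ N := by
      rw [← QuotientGroup.eq_one_iff]
      show QuotientGroup.mk' N (x₀ ^ d) = 1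
      rw [map_pow, hd, pow_orderOf_eq_one]
    rw [← pow_mul, mul_comm, pow_mul, ← orderOf_dvd_iff_pow_eq_one]
    exact (Subgroup.orderOf_dvd_natCard N hm).trans (Nat.modEq_zero_iff_dvd.mp hk0)
  · have h2 := orderOf_map_dvd (QuotientGroup.mk' N) (x₀ ^ k)
    rwa [hmap] at h2

/-- If `k` normalizes the image of `⟨x⟩` modulo `N` and the orders are coprime, some element of `k * N`
normalizes `⟨x⟩`. -/
theorem exists_lift_normalizing (N : Subgroup G) [hN : N.Normal] {x k : G}
    (hcop : (orderOf x).Coprime (Nat.card N))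
    (hk : k⁻¹ * x * k ∈ N ⊔ Subgroup.zpowers x) :
    ∃ w ∈ N, k * w ∈ Subgroup.normalizer ((Subgroup.zpowers x : Subgroup G) : Set G) := by
  obtain ⟨w, hw, hn⟩ := coprime_key_normalize (A := Subgroup.zpowers x) (W := N)
    (by rw [Nat.card_zpowers]; exact hcop) (Or.inl inferInstance)
    (by rw [Subgroup.normalizer_eq_top_iff.mpr hN]; exact le_top) (k := k) (fun a ha => by
      obtain ⟨i, rfl⟩ := Subgroup.mem_zpowers_iff.mp ha
      have e : k⁻¹ * x ^ i * k = (k⁻¹ * x * k) ^ i := by
        have := conj_zpow (a := k⁻¹) (b := x) (i := i)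
        rw [inv_inv] at this
        exact this.symm
      rw [e]
      exact zpow_mem hk i)
  refine ⟨w, hw, ?_⟩
  have hle : (Subgroup.zpowers x).map (MulAut.conj (k * w)).toMonoidHom ≤ Subgroup.zpowers x := by
    rintro _ ⟨a, ha, rfl⟩
    exact hn a ha
  have heq := Subgroup.eq_of_le_of_card_ge hle
    (le_of_eq (Subgroup.card_map_of_injective (f := (MulAut.conj (k * w)).toMonoidHom)
      (MulAut.conj (k * w)).injective).symm)
  rw [Subgroup.mem_normalizer_iff]
  intro z
  conv_rhs => rw [← heq]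
  exact (Subgroup.mem_map_iff_mem (f := (MulAut.conj (k * w)).toMonoidHom)
    (MulAut.conj (k * w)).injective).symm

end CfsgLib
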