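import Cfsg.Agent.Lib.InvolutionDiag
import Cfsg.Agent.Lib.LiftConj
import Mathlib.LinearAlgebra.Matrix.SpecialLinearGroup
import Mathlib.GroupTheory.SpecificGroups.Cyclic
import Mathlib.RingTheory.IntegralDomain
import Mathlib.RingTheory.RootsOfUnity.Basic
import Mathlib.FieldTheory.Finite.Basic

/-!
Centralisers of involutions in `PSL(3, F)`, `F` of odd order.
-/

set_option autoImplicit false
set_option linter.unusedSectionVars false

namespace CfsgLib.PSLThree

open Matrix

variable {F : Type*} [Field F] [Fintype F]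

/-- `diag(A, (det A)⁻¹)`. -/
def emb (A : Matrix (Fin 2) (Fin 2) F) : Matrix (Fin 3) (Fin 3) F :=
  !![A 0 0, A 0 1, 0; A 1 0, A 1 1, 0; 0, 0, A.det⁻¹]

theorem emb_mul (A B : Matrix (Fin 2) (Fin 2) F) : emb (A * B) = emb A * emb B := by
  ext i j
  fin_cases i <;> fin_cases j <;>
    simp [emb, Matrix.mul_apply, Fin.sum_univ_three, Fin.sum_univ_two, det_mul, mul_inv, mul_comm]

theorem emb_one : emb (1 : Matrix (Fin 2) (Fin 2) F) = 1 := by
  ext i j
  fin_cases i <;> fin_cases j <;> simp [emb]

theorem emb_det {A : Matrix (Fin 2) (Fin 2) F} (h : A.det ≠ 0) : (emb A).det = 1 := by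
  rw [det_fin_three]
  simp only [emb, Matrix.cons_val', Matrix.cons_val_zero, Matrix.cons_val_one, Matrix.cons_val, Matrix.of_apply]
  rw [det_fin_two] at h ⊢
  field_simp
  ring

/-- The standard involution. -/
def dvec : Fin 3 → F := ![-1, -1, 1]

theorem emb_comm (A : Matrix (Fin 2) (Fin 2) F) : emb A * diagonal dvec = diagonal dvec * emb A := by
  ext i j
  rw [mul_diagonal, diagonal_mul]
  fin_cases i <;> fin_cases j <;> simp [emb, dvec]

variable (h2 : (2 : F) ≠ 0)

include h2 in
theorem exists_diag_form {T : Matrix (Fin 3) (Fin 3) F} (hT : T * T = 1) (hdet : T.det = 1) (hne : T ≠ 1) :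
    ∃ P : GL (Fin 3) F, T = P.1 * diagonal dvec * (P⁻¹).1 := by
  obtain ⟨P, s, hs, he⟩ := InvolutionDiag.exists_diag (ι := Unit) h2 (fun _ => T) (fun _ => hT) (fun _ _ => rfl)
  have he' := he ()
  have hprod : s () 0 * s () 1 * s () 2 = 1 := by
    have h := congrArg Matrix.det he'
    rw [det_mul, det_mul, det_diagonal, hdet, Fin.prod_univ_three] at h
    have hP : P.1.det * (P⁻¹).1.det = 1 := by rw [← det_mul, ← Units.val_mul, mul_inv_cancel, Units.val_one, det_one]
    linear_combination -h - (s () 0 * s () 1 * s () 2) * hP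
  have hne' : ¬ (s () 0 = 1 ∧ s () 1 = 1 ∧ s () 2 = 1) := fun ⟨a, b, c⟩ => hne (by
    rw [he', show diagonal (s ()) = 1 from by
      rw [← diagonal_one]; congr 1; funext i; fin_cases i <;> assumption, mul_one, ← Units.val_mul, mul_inv_cancel,
      Units.val_one])
  obtain ⟨σ, hσ⟩ : ∃ σ : Equiv.Perm (Fin 3), s () ∘ σ = dvec := by
    rcases hs () 0 with a | a <;> rcases hs () 1 with b | b <;> rcases hs () 2 with c | c
    · exact absurd ⟨a, b, c⟩ hne'
    · exfalso; rw [a, b, c] at hprod; exact h2 (by linear_combination -hprod)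
    · exfalso; rw [a, b, c] at hprod; exact h2 (by linear_combination -hprod)
    · exact ⟨Equiv.swap 0 2, by funext i; fin_cases i <;> simp [dvec, a, b, c, Equiv.swap_apply_def]⟩
    · exfalso; rw [a, b, c] at hprod; exact h2 (by linear_combination -hprod)
    · exact ⟨Equiv.swap 1 2, by funext i; fin_cases i <;> simp [dvec, a, b, c, Equiv.swap_apply_def]⟩
    · exact ⟨1, by funext i; fin_cases i <;> simp [dvec, a, b, c]⟩
    · exfalso; rw [a, b, c] at hprod; exact h2 (by linear_combination -hprod)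
  let P' : GL (Fin 3) F :=
    ⟨P.1.submatrix id σ, (P⁻¹).1.submatrix σ id,
      by rw [submatrix_mul_equiv, ← Units.val_mul, mul_inv_cancel, Units.val_one]; exact submatrix_id_id _,
      by rw [← submatrix_mul _ _ _ _ _ Function.bijective_id, ← Units.val_mul, inv_mul_cancel, Units.val_one,
        submatrix_one_equiv]⟩
  refine ⟨P', ?_⟩
  show T = P.1.submatrix id σ * diagonal dvec * (P⁻¹).1.submatrix σ id
  rw [← hσ, ← submatrix_diagonal_equiv (s ()) σ, submatrix_mul_equiv, submatrix_mul_equiv, submatrix_id_id]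
  exact he'

/-- The centraliser of an involution of `PSL(3, F)` is an image of `GL(2, F)` with small central kernel. -/
theorem exists_centralizer_iso (hF : Odd (Fintype.card F))
    (t : Matrix.ProjectiveSpecialLinearGroup (Fin 3) F) (ht : orderOf t = 2) :
    ∃ (Z : Subgroup (GL (Fin 2) F)) (_ : Z.Normal), Z ≤ Subgroup.center (GL (Fin 2) F) ∧
      Nat.card Z = Nat.gcd (Fintype.card F - 1) 3 ∧
      Nonempty (↥(Subgroup.centralizer ({t} : Set (Matrix.ProjectiveSpecialLinearGroup (Fin 3) F))) ≃*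
        GL (Fin 2) F ⧸ Z) := by
  classical
  have h2 : (2 : F) ≠ 0 := Ring.two_ne_zero fun h => Nat.not_even_iff_odd.mpr hF
    ((FiniteField.even_card_iff_char_two).mp h |> Nat.even_iff.mpr)
  -- lift
  have hcop : (orderOf t).Coprime (Nat.card (Subgroup.center (Matrix.SpecialLinearGroup (Fin 3) F))) := by
    rw [ht]
    refine Nat.Coprime.symm (Nat.coprime_two_right.mpr ?_)
    by_contra hodd
    rw [Nat.not_odd_iff_even] at hodd
    obtain ⟨⟨z, hz⟩, hzo⟩ := exists_prime_orderOf_dvd_card' 2 (even_iff_two_dvd.mp hodd)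
    obtain ⟨r, hr, hrz⟩ := Matrix.SpecialLinearGroup.mem_center_iff.mp hz
    rw [← Subgroup.orderOf_coe] at hzo
    have hzo' : orderOf z = 2 := hzo
    have hz2 : (z * z).1 = (1 : Matrix.SpecialLinearGroup (Fin 3) F).1 := by rw [← sq, ← hzo', pow_orderOf_eq_one]
    rw [Matrix.SpecialLinearGroup.coe_mul, ← hrz, ← map_mul, Matrix.SpecialLinearGroup.coe_one, ← map_one (scalar (Fin 3))] at hz2
    have hr2 : r * r = 1 := congrFun₂ (show (scalar (Fin 3)) (r * r) = (scalar (Fin 3)) 1 from hz2) 0 0 |> fun h => by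
      simpa using h
    have hr1 : r = 1 := by
      have h3 : r * r * r = 1 := by rw [← hr, Fintype.card_fin]; ring
      rw [hr2, one_mul] at h3
      exact h3
    have hz1 : z = 1 := Subtype.ext (by rw [← hrz, hr1, map_one]; rfl)
    rw [hz1, orderOf_one] at hzo'
    omega
  obtain ⟨T, rfl, hTo⟩ := CfsgLib.exists_lift_orderOf_eq _ t hcop
  rw [ht] at hTo
  have hT : T.1 * T.1 = 1 := by
    rw [← Matrix.SpecialLinearGroup.coe_mul, ← sq, ← hTo, pow_orderOf_eq_one, Matrix.SpecialLinearGroup.coe_one]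
  obtain ⟨P, hP⟩ := exists_diag_form h2 hT T.2 fun h => by
    rw [show T = 1 from Subtype.ext h, orderOf_one] at hTo
    omega
  have hPi : ∀ M : Matrix (Fin 3) (Fin 3) F, (P⁻¹).1 * (P.1 * M) = M := fun M => by
    rw [← mul_assoc, ← Units.val_mul, inv_mul_cancel, Units.val_one, one_mul]
  have hPi' : ∀ M : Matrix (Fin 3) (Fin 3) F, P.1 * ((P⁻¹).1 * M) = M := fun M => by
    rw [← mul_assoc, ← Units.val_mul, mul_inv_cancel, Units.val_one, one_mul]
  have hdetP : P.1.det * (P⁻¹).1.det = 1 := by rw [← det_mul, ← Units.val_mul, mul_inv_cancel, Units.val_one, det_one]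
  let φ₀ : GL (Fin 2) F →* Matrix.SpecialLinearGroup (Fin 3) F :=
    { toFun := fun A => ⟨P.1 * emb A.1 * (P⁻¹).1, by
        rw [det_mul, det_mul, emb_det (Matrix.GeneralLinearGroup.det_ne_zero A), mul_one, hdetP]⟩
      map_one' := Subtype.ext (by
        show P.1 * emb (1 : GL (Fin 2) F).1 * (P⁻¹).1 = 1
        rw [Units.val_one, emb_one, mul_one, ← Units.val_mul, mul_inv_cancel, Units.val_one])
      map_mul' := fun A B => Subtype.ext (by
        show P.1 * emb (A * B).1 * (P⁻¹).1 = P.1 * emb A.1 * (P⁻¹).1 * (P.1 * emb B.1 * (P⁻¹).1)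
        rw [Units.val_mul, emb_mul]
        simp only [mul_assoc, hPi]) }
  have hcomm : ∀ A, φ₀ A * T = T * φ₀ A := fun A => Subtype.ext (by
    show P.1 * emb A.1 * (P⁻¹).1 * T.1 = T.1 * (P.1 * emb A.1 * (P⁻¹).1)
    rw [hP]
    simp only [mul_assoc, hPi]
    rw [← mul_assoc (emb A.1), emb_comm, mul_assoc])
  let φ : GL (Fin 2) F →* Subgroup.centralizer
      ({(T : Matrix.ProjectiveSpecialLinearGroup (Fin 3) F)} : Set (Matrix.ProjectiveSpecialLinearGroup (Fin 3) F)) :=
    ((QuotientGroup.mk' (Subgroup.center (Matrix.SpecialLinearGroup (Fin 3) F))).comp φ₀).codRestrict _ fun A => Subgroup.mem_centralizer_singleton_iff.mpr (by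
      show QuotientGroup.mk' (Subgroup.center (Matrix.SpecialLinearGroup (Fin 3) F)) (φ₀ A) * QuotientGroup.mk' (Subgroup.center (Matrix.SpecialLinearGroup (Fin 3) F)) T = QuotientGroup.mk' (Subgroup.center (Matrix.SpecialLinearGroup (Fin 3) F)) T * QuotientGroup.mk' (Subgroup.center (Matrix.SpecialLinearGroup (Fin 3) F)) (φ₀ A)
      rw [← map_mul, ← map_mul, hcomm])
  have hsurj : Function.Surjective φ := by
    rintro ⟨y, hy⟩
    obtain ⟨g, rfl⟩ := QuotientGroup.mk'_surjective _ y
    have h1 : QuotientGroup.mk' (Subgroup.center (Matrix.SpecialLinearGroup (Fin 3) F)) (g * T) = QuotientGroup.mk' (Subgroup.center (Matrix.SpecialLinearGroup (Fin 3) F)) (T * g) := by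
      rw [map_mul, map_mul]
      exact Subgroup.mem_centralizer_singleton_iff.mp hy
    obtain ⟨c, hc, hgc⟩ := (QuotientGroup.mk'_eq_mk' _).mp h1
    obtain ⟨r, hr, hrc⟩ := Matrix.SpecialLinearGroup.mem_center_iff.mp hc
    have hgT : g.1 * T.1 * c.1 = T.1 * g.1 := congrArg Subtype.val hgc
    rw [← hrc, scalar_apply, ← smul_one_eq_diagonal, Matrix.mul_smul, mul_one] at hgT
    have hr2 : r * r = 1 := by
      have h3 : g.1 = (r * r) • g.1 := by
        have e : T.1 * g.1 = r • (g.1 * T.1) := hgT.symm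
        calc g.1 = T.1 * (T.1 * g.1) := by rw [← mul_assoc, hT, one_mul]
          _ = T.1 * (r • (g.1 * T.1)) := by rw [e]
          _ = r • ((T.1 * g.1) * T.1) := by rw [Matrix.mul_smul, mul_assoc]
          _ = r • ((r • (g.1 * T.1)) * T.1) := by rw [e]
          _ = (r * r) • g.1 := by rw [Matrix.smul_mul, mul_assoc, hT, mul_one, smul_smul]
      have h4 := congrArg Matrix.det h3
      rw [det_smul, g.2, Fintype.card_fin, mul_one] at h4
      have h6 : r ^ 3 = 1 := by simpa using hr
      have h7 : (r * r) ^ 3 = 1 := by rw [mul_pow, h6, one_mul]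
      by_contra hne
      have hg0 : (r * r - 1) • g.1 = 0 := by rw [sub_smul, ← h3, one_smul, sub_self]
      have := congrArg Matrix.det hg0
      rw [det_smul, g.2, mul_one, det_zero] at this
      exact hne (sub_eq_zero.mp (pow_eq_zero_iff (by norm_num) |>.mp this))
    have hr1 : r = 1 := by
      have h6 : r ^ 3 = 1 := by simpa using hr
      rw [pow_succ, sq, hr2, one_mul] at h6
      exact h6
    rw [hr1, one_smul] at hgT
    set H := (P⁻¹).1 * g.1 * P.1 with hH
    have hHD : H * diagonal dvec = diagonal dvec * H := by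
      have e : diagonal dvec = (P⁻¹).1 * T.1 * P.1 := by
        rw [hP]; simp only [mul_assoc, hPi]
        rw [← Units.val_mul, inv_mul_cancel, Units.val_one, mul_one]
      rw [hH, e]
      simp only [mul_assoc, hPi']
      rw [← mul_assoc g.1, hgT, mul_assoc]
    have hz : ∀ i j, (dvec j - dvec i : F) * H i j = 0 := fun i j => by
      have h := congrFun₂ hHD i j
      rw [mul_diagonal, diagonal_mul] at h
      linear_combination h
    have hne2 : (-1 : F) - 1 ≠ 0 := fun h => h2 (by linear_combination -h)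
    have hne2' : (1 : F) - -1 ≠ 0 := fun h => h2 (by linear_combination h)
    have e02 : H 0 2 = 0 := (mul_eq_zero.mp (hz 0 2)).resolve_left (by simpa [dvec] using hne2')
    have e12 : H 1 2 = 0 := (mul_eq_zero.mp (hz 1 2)).resolve_left (by simpa [dvec] using hne2')
    have e20 : H 2 0 = 0 := (mul_eq_zero.mp (hz 2 0)).resolve_left (by simpa [dvec] using hne2)
    have e21 : H 2 1 = 0 := (mul_eq_zero.mp (hz 2 1)).resolve_left (by simpa [dvec] using hne2)
    have hdetH : H.det = 1 := by
      rw [hH, det_mul, det_mul, g.2, mul_one, mul_comm]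
      exact hdetP
    let A : Matrix (Fin 2) (Fin 2) F := !![H 0 0, H 0 1; H 1 0, H 1 1]
    have hA : A.det * H 2 2 = 1 := by
      rw [← hdetH, det_fin_three, det_fin_two, e02, e12, e20, e21]
      simp [A]
      ring
    have hA0 : A.det ≠ 0 := fun h => by rw [h, zero_mul] at hA; exact zero_ne_one hA
    refine ⟨Matrix.GeneralLinearGroup.mkOfDetNeZero A hA0, Subtype.ext ?_⟩
    show QuotientGroup.mk' (Subgroup.center (Matrix.SpecialLinearGroup (Fin 3) F)) (φ₀ _) = QuotientGroup.mk' (Subgroup.center (Matrix.SpecialLinearGroup (Fin 3) F)) g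
    refine congrArg _ (Subtype.ext ?_)
    show P.1 * emb A * (P⁻¹).1 = g.1
    have hemb : emb A = H := by
      ext i j
      fin_cases i <;> fin_cases j <;> simp [emb, A, e02, e12, e20, e21]
      exact inv_eq_of_mul_eq_one_right (by simpa [det_fin_two, A] using hA)
    rw [hemb, hH]
    simp only [mul_assoc, hPi']
    rw [← Units.val_mul, mul_inv_cancel, Units.val_one, mul_one]
  -- the kernel
  have hker : ∀ A : GL (Fin 2) F, A ∈ φ.ker ↔ ∃ a : F, a ^ 3 = 1 ∧ A.1 = scalar (Fin 2) a := fun A => by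
    have h0 : A ∈ φ.ker ↔ φ₀ A ∈ Subgroup.center (Matrix.SpecialLinearGroup (Fin 3) F) :=
      ⟨fun h => (QuotientGroup.eq_one_iff _).mp (congrArg Subtype.val h),
        fun h => Subtype.ext ((QuotientGroup.eq_one_iff _).mpr h)⟩
    rw [h0, Matrix.SpecialLinearGroup.mem_center_iff]
    constructor
    · rintro ⟨r, hr, he⟩
      have he' : scalar (Fin 3) r = P.1 * emb A.1 * (P⁻¹).1 := he
      have h1 : emb A.1 = scalar (Fin 3) r := by
        have h3 : (P⁻¹).1 * (scalar (Fin 3) r) * P.1 = emb A.1 := by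
          rw [he']; simp only [mul_assoc, hPi]
          rw [← Units.val_mul, inv_mul_cancel, Units.val_one, mul_one]
        rw [← h3, scalar_apply, ← smul_one_eq_diagonal, Matrix.mul_smul, mul_one, Matrix.smul_mul, ← Units.val_mul, inv_mul_cancel,
          Units.val_one]
      refine ⟨r, by simpa using hr, ?_⟩
      ext i j
      fin_cases i <;> fin_cases j
      · simpa [emb] using congrFun₂ h1 0 0
      · simpa [emb] using congrFun₂ h1 0 1
      · simpa [emb] using congrFun₂ h1 1 0
      · simpa [emb] using congrFun₂ h1 1 1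
    · rintro ⟨a, ha, hA⟩
      refine ⟨a, by simpa using ha, ?_⟩
      show scalar (Fin 3) a = P.1 * emb A.1 * (P⁻¹).1
      have ha0 : a ≠ 0 := fun h => by rw [h] at ha; simp at ha
      have he : emb A.1 = scalar (Fin 3) a := by
        ext i j
        fin_cases i <;> fin_cases j <;> simp [emb, hA]
        field_simp
        linear_combination -ha
      rw [he, scalar_apply, ← smul_one_eq_diagonal, Matrix.mul_smul, mul_one, Matrix.smul_mul, ← Units.val_mul, mul_inv_cancel,
        Units.val_one]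
  refine ⟨φ.ker, inferInstance, fun A hA => ?_, ?_, ⟨(QuotientGroup.quotientKerEquivOfSurjective φ hsurj).symm⟩⟩
  · obtain ⟨a, -, he⟩ := (hker A).mp hA
    refine Subgroup.mem_center_iff.mpr fun B => Units.ext ?_
    rw [Units.val_mul, Units.val_mul, he, scalar_apply, ← smul_one_eq_diagonal, Matrix.mul_smul, mul_one, Matrix.smul_mul, one_mul]
  · let f : (powMonoidHom 3 : Fˣ →* Fˣ).ker → φ.ker := fun u =>
      ⟨Matrix.GeneralLinearGroup.mkOfDetNeZero (scalar (Fin 2) (u.1 : F)) (by simp [det_fin_two]),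
        (hker _).mpr ⟨(u.1 : F), by rw [← Units.val_pow_eq_pow_val, show u.1 ^ 3 = 1 from u.2, Units.val_one], rfl⟩⟩
    have hb : Function.Bijective f := by
      refine ⟨fun u v h => Subtype.ext (Units.ext ?_), fun A => ?_⟩
      · have := congrFun₂ (congrArg (fun x : φ.ker => (x.1 : GL (Fin 2) F).1) h) 0 0
        simpa [f] using this
      · obtain ⟨a, ha, he⟩ := (hker A.1).mp A.2
        have ha0 : a ≠ 0 := fun h => by rw [h] at ha; simp at ha
        exact ⟨⟨Units.mk0 a ha0, Units.ext (by simpa using ha)⟩, Subtype.ext (Units.ext he.symm)⟩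
    rw [← Nat.card_congr (Equiv.ofBijective f hb), IsCyclic.card_powMonoidHom_ker, Nat.card_units,
      Nat.card_eq_fintype_card]

end CfsgLib.PSLThree
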