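import Mathlib
import Cfsg.Prelude.Def_Local
import Cfsg.Agent.Lib.PComplement
import Cfsg.Agent.Lib.LocalFusionExtra
import Cfsg.Agent.Lib.Frobenius.UniqueSubgroup

/-!
Groups with quaternion Sylow `2`-subgroups: a normal `2`-complement or a section `SL(2,3)`.
-/

set_option autoImplicit false
set_option linter.unusedSectionVars false

namespace CfsgLib.QuatSection

abbrev SL23 := Matrix.SpecialLinearGroup (Fin 2) (ZMod 3)

def slQ : QuaternionGroup 2 → Matrix (Fin 2) (Fin 2) (ZMod 3)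
  | .a i => !![0, -1; 1, 0] ^ i.val
  | .xa i => !![1, 1; 1, -1] * !![0, -1; 1, 0] ^ i.val

def slS : Matrix (Fin 2) (Fin 2) (ZMod 3) := !![1, 1; 0, 1]

def slMap (q : QuaternionGroup 2) (t : ZMod 3) : SL23 :=
  ⟨slQ q * slS ^ t.val, by
    rw [Matrix.det_mul, Matrix.det_pow, show slS.det = 1 by simp [slS, Matrix.det_fin_two], one_pow, mul_one]
    cases q with
    | a i => show (!![0, -1; 1, 0] ^ i.val : Matrix (Fin 2) (Fin 2) (ZMod 3)).det = 1
             rw [Matrix.det_pow]; simp [Matrix.det_fin_two]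
    | xa i => show (!![1, 1; 1, -1] * !![0, -1; 1, 0] ^ i.val : Matrix (Fin 2) (Fin 2) (ZMod 3)).det = 1
              rw [Matrix.det_mul, Matrix.det_pow]; simp [Matrix.det_fin_two]; decide⟩

theorem slMap_mul : ∀ (q q' : QuaternionGroup 2) (t t' : ZMod 3),
    slMap q t * slMap q' t' = slMap (q * (CfsgLib.Quat.rotFun^[t.val] q')) (t + t') := by decide +kernel

theorem slMap_bijective : Function.Bijective (fun u : QuaternionGroup 2 × ZMod 3 => slMap u.1 u.2) := by
  decide +kernel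

theorem uniqSub_quaternion (n : ℕ) : CfsgLib.Frob.UniqSub 2 (QuaternionGroup (2 ^ n)) := by
  haveI : NeZero (2 ^ n) := ⟨by positivity⟩
  have key : ∀ H : Subgroup (QuaternionGroup (2 ^ n)), Nat.card H = 2 →
      H = Subgroup.zpowers (QuaternionGroup.a ((2 ^ n : ℕ) : ZMod (2 * 2 ^ n))) := by
    intro H hH
    have hz : orderOf (QuaternionGroup.a ((2 ^ n : ℕ) : ZMod (2 * 2 ^ n))) = 2 := by
      rw [← QuaternionGroup.a_one_pow, orderOf_pow, QuaternionGroup.orderOf_a_one, Nat.gcd_mul_left_left]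
      exact Nat.mul_div_cancel _ (by positivity)
    refine Subgroup.eq_of_le_of_card_ge (fun x hx => ?_) (by rw [hH, Nat.card_zpowers, hz])
    have hd : orderOf x ∣ 2 := (H.orderOf_dvd_natCard hx).trans hH.dvd
    cases x with
    | xa i => rw [QuaternionGroup.orderOf_xa] at hd; norm_num at hd
    | a i =>
      have h1 := orderOf_dvd_iff_pow_eq_one.1 hd
      rw [pow_two, QuaternionGroup.a_mul_a, QuaternionGroup.one_def, QuaternionGroup.a.injEq] at h1
      have h4 := congrArg ZMod.val h1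
      rw [ZMod.val_add, ZMod.val_zero] at h4
      have h5 := ZMod.val_lt i
      obtain ⟨t, ht⟩ := Nat.dvd_of_mod_eq_zero h4
      rcases Nat.lt_or_ge t 2 with ht2 | ht2
      · rcases (show t = 0 ∨ t = 1 by omega) with rfl | rfl
        · have : i = 0 := (ZMod.val_eq_zero i).1 (by omega)
          rw [this, ← QuaternionGroup.one_def]; exact one_mem _
        · have : i = ((2 ^ n : ℕ) : ZMod (2 * 2 ^ n)) := by
            rw [← ZMod.natCast_zmod_val i, show i.val = 2 ^ n by omega]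
          rw [this]; exact Subgroup.mem_zpowers _
      · have : 2 * 2 ^ n * 2 ≤ 2 * 2 ^ n * t := Nat.mul_le_mul_left _ ht2
        omega
  exact fun H K hH hK => (key H hH).trans (key K hK).symm

theorem uniqSub_of_equiv {A B : Type*} [Group A] [Group B] (e : A ≃* B) (h : CfsgLib.Frob.UniqSub 2 B) :
    CfsgLib.Frob.UniqSub 2 A := by
  intro H K hH hK
  exact Subgroup.map_injective (f := e.toMonoidHom) e.injective
    (h _ _ (by rw [Subgroup.card_map_of_injective e.injective, hH]) (by rw [Subgroup.card_map_of_injective e.injective, hK]))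

variable {G : Type*} [Group G] [Finite G]

/-- A non-trivial odd automizer of a `2`-subgroup with one involution forces a quaternion group of order eight. -/
theorem q8_of_moved {Q : Subgroup G} (hQ : IsPGroup 2 Q) (hu : CfsgLib.Frob.UniqSub 2 Q) {g : G}
    (hg : g ∈ Subgroup.normalizer (Q : Set G)) (hgC : g ∉ Subgroup.centralizer (Q : Set G))
    (hodd : Odd (orderOf g)) : Nonempty (Q ≃* QuaternionGroup 2) := by
  rcases CfsgLib.Frob.cyclic_or_quaternion_two hQ hu with hc | ⟨k, ⟨e⟩⟩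
  · exact absurd (Subgroup.mem_centralizer_iff.2 fun c hc' =>
      (mul_inv_eq_iff_eq_mul.1 (CfsgLib.LocalFusion.fix_cyclic hQ hg hodd c hc')).symm) hgC
  rcases (show k = 0 ∨ k = 1 ∨ 2 ≤ k by omega) with rfl | rfl | hk
  · have hc : IsCyclic Q := e.isCyclic.mpr QuaternionGroup.quaternionGroup_one_isCyclic
    exact absurd (Subgroup.mem_centralizer_iff.2 fun c hc' =>
      (mul_inv_eq_iff_eq_mul.1 (CfsgLib.LocalFusion.fix_cyclic hQ hg hodd c hc')).symm) hgC
  · exact ⟨e⟩
  exfalso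
  apply hgC
  haveI : NeZero (2 ^ k) := ⟨by positivity⟩
  set A : Q := e.symm (QuaternionGroup.a 1) with hA
  have hAo : orderOf A = 2 * 2 ^ k := by rw [hA, MulEquiv.orderOf_eq, QuaternionGroup.orderOf_a_one]
  have hbig : 4 < orderOf A := by
    rw [hAo]
    have : 2 ^ 2 ≤ 2 ^ k := Nat.pow_le_pow_right two_pos hk
    omega
  have hcases : ∀ q : Q, q ∈ Subgroup.zpowers A ∨ orderOf q = 4 := by
    intro q
    cases hq : e q with
    | a i =>
      left
      have : q = A ^ i.val := by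
        rw [hA, ← map_pow, QuaternionGroup.a_one_pow, ZMod.natCast_zmod_val, ← hq, MulEquiv.symm_apply_apply]
      rw [this]; exact pow_mem (Subgroup.mem_zpowers A) _
    | xa i => right; rw [← e.orderOf_eq, hq, QuaternionGroup.orderOf_xa]
  have hconjmem : ∀ q : Q, g * (q : G) * g⁻¹ ∈ Q := fun q => (Subgroup.mem_normalizer_iff.1 hg (q : G)).1 q.2
  set C : Subgroup G := Subgroup.zpowers (A : G) with hC
  have hCQ : C ≤ Q := Subgroup.zpowers_le.2 A.2
  have hgA : g * (A : G) * g⁻¹ ∈ C := by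
    rcases hcases ⟨_, hconjmem A⟩ with h | h
    · obtain ⟨i, hi⟩ := Subgroup.mem_zpowers_iff.1 h
      exact Subgroup.mem_zpowers_iff.2 ⟨i, by simpa using congrArg Subtype.val hi⟩
    · exfalso
      have h' : orderOf (MulAut.conj g (A : G)) = 4 := (Subgroup.orderOf_coe (⟨_, hconjmem A⟩ : Q)).trans h
      rw [MulEquiv.orderOf_eq, Subgroup.orderOf_coe] at h'
      omega
  have hgC' : g ∈ Subgroup.normalizer (C : Set G) := by
    have hle : C.map (MulAut.conj g).toMonoidHom ≤ C := by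
      rw [hC, MonoidHom.map_zpowers, Subgroup.zpowers_le]
      exact hgA
    have heq : C.map (MulAut.conj g).toMonoidHom = C :=
      Subgroup.eq_of_le_of_card_ge hle (by rw [Subgroup.card_map_of_injective (MulAut.conj g).injective])
    refine Subgroup.mem_normalizer_iff.2 fun x => ⟨fun hx => heq.le ⟨x, hx, rfl⟩, fun hx => ?_⟩
    obtain ⟨y, hy, hyx⟩ := heq.ge hx
    have : y = x := (MulAut.conj g).injective hyx
    exact this ▸ hy
  haveI : IsCyclic C := Subgroup.isCyclic_zpowers _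
  have hCp : IsPGroup 2 C := hQ.to_le hCQ
  have hfixC : ∀ c ∈ C, g * c * g⁻¹ = c := CfsgLib.LocalFusion.fix_cyclic hCp hgC' hodd
  refine Subgroup.mem_centralizer_iff.2 fun x hx => (mul_inv_eq_iff_eq_mul.1 ?_).symm
  by_cases hxC : x ∈ C
  · exact hfixC x hxC
  set y := g * x * g⁻¹ with hy
  have hyC : y ∉ C := fun h => by
    have h1 := hfixC y h
    rw [hy] at h1
    have h2 : g * x * g⁻¹ = x := mul_left_cancel (a := g) (mul_right_cancel (b := g⁻¹) h1)
    exact hxC (h2 ▸ h)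
  set B : Q := e.symm (QuaternionGroup.xa 0) with hB
  have hdec : ∀ q : G, q ∈ Q → q ∈ C ∨ ∃ c ∈ C, q = (B : G) * c := by
    intro q hq
    cases h : e ⟨q, hq⟩ with
    | a i =>
      left
      have : (⟨q, hq⟩ : Q) = A ^ i.val := by
        rw [hA, ← map_pow, QuaternionGroup.a_one_pow, ZMod.natCast_zmod_val, ← h, MulEquiv.symm_apply_apply]
      rw [show q = (A : G) ^ i.val by simpa using congrArg Subtype.val this]
      exact pow_mem (Subgroup.mem_zpowers _) _
    | xa i =>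
      right
      refine ⟨(A : G) ^ i.val, pow_mem (Subgroup.mem_zpowers _) _, ?_⟩
      have : (⟨q, hq⟩ : Q) = B * A ^ i.val := by
        rw [hA, hB, ← map_pow, ← map_mul, QuaternionGroup.a_one_pow, ZMod.natCast_zmod_val, QuaternionGroup.xa_mul_a,
          zero_add, ← h, MulEquiv.symm_apply_apply]
      simpa using congrArg Subtype.val this
  obtain ⟨c1, hc1, hx1⟩ := (hdec x hx).resolve_left hxC
  obtain ⟨c2, hc2, hy2⟩ := (hdec y (hconjmem ⟨x, hx⟩)).resolve_left hyC
  set c := c1⁻¹ * c2 with hc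
  have hcC : c ∈ C := mul_mem (inv_mem hc1) hc2
  have hyx : g * x * g⁻¹ = x * c := by rw [← hy, hy2, hc, hx1]; group
  have hiter : ∀ j : ℕ, g ^ j * x * (g ^ j)⁻¹ = x * c ^ j := by
    intro j
    induction j with
    | zero => group
    | succ j ihj =>
      calc g ^ (j + 1) * x * (g ^ (j + 1))⁻¹ = g ^ j * (g * x * g⁻¹) * (g ^ j)⁻¹ := by group
        _ = g ^ j * x * (g ^ j)⁻¹ * (g ^ j * c * (g ^ j)⁻¹) := by rw [hyx]; group
        _ = x * c ^ (j + 1) := by
          rw [ihj, CfsgLib.LocalFusion.conj_pow_fix (hfixC c hcC), pow_succ, mul_assoc]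
  have h2 := hiter (orderOf g)
  rw [pow_orderOf_eq_one, one_mul, inv_one, mul_one, left_eq_mul] at h2
  obtain ⟨m, hm⟩ := hCp ⟨c, hcC⟩
  have hm' : c ^ 2 ^ m = 1 := congrArg Subtype.val hm
  have hc0 : c = 1 := by
    rw [← orderOf_eq_one_iff]
    exact Nat.eq_one_of_dvd_coprimes (hodd.coprime_two_right.pow_right m) (orderOf_dvd_of_pow_eq_one h2)
      (orderOf_dvd_of_pow_eq_one hm')
  rw [hy] at *
  rw [hyx, hc0, mul_one]

theorem q8_pair_rel : ∀ i j : QuaternionGroup 2, i * i ≠ 1 → j * j ≠ 1 → j ≠ i → i * j ≠ 1 →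
    i ^ (2 * 2) = 1 ∧ j * j = i ^ 2 ∧ j * i * j⁻¹ = i⁻¹ ∧ i ^ 2 ≠ 1 ∧ ∀ m : Fin 4, j ≠ i ^ m.val := by decide

theorem q8_third : ∀ i j k : QuaternionGroup 2, i * i ≠ 1 → j * j ≠ 1 → k * k ≠ 1 → j ≠ i → i * j ≠ 1 →
    k ≠ j → j * k ≠ 1 → k ≠ i → i * k ≠ 1 → k = i * j ∨ k = j * i := by decide

theorem q8_sq_ne : (QuaternionGroup.a 1 : QuaternionGroup 2) * QuaternionGroup.a 1 ≠ 1 := by decide

theorem q8_inv_sq : ∀ i : QuaternionGroup 2, i * i ≠ 1 → i⁻¹ * i⁻¹ ≠ 1 := by decide

/-- Coordinates adapted to the action. -/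
theorem exists_param {Q : Subgroup G} (e : Q ≃* QuaternionGroup 2) {g : G}
    (hg : g ∈ Subgroup.normalizer (Q : Set G)) (hgC : g ∉ Subgroup.centralizer (Q : Set G))
    (hodd : Odd (orderOf g)) :
    ∃ φ : QuaternionGroup 2 →* G, Function.Injective φ ∧ φ.range = Q ∧ ∀ q, g * φ q * g⁻¹ = φ (CfsgLib.Quat.rotFun q) := by
  have hgC2 : g ^ 2 ∉ Subgroup.centralizer (Q : Set G) :=
    fun h => hgC (CfsgLib.LocalFusion.mem_of_pow_two (k := 1) hodd h)
  have hodd2 : Odd (orderOf (g ^ 2)) := Odd.of_dvd_nat hodd (orderOf_pow_dvd 2)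
  have hcm : ∀ x : Q, g * (x : G) * g⁻¹ ∈ Q := fun x => (Subgroup.mem_normalizer_iff.1 hg (x : G)).1 x.2
  set α : Q → Q := fun x => ⟨g * (x : G) * g⁻¹, hcm x⟩ with hα
  have hαm : ∀ x y, α (x * y) = α x * α y := fun x y => Subtype.ext (by
    show g * ((x : G) * (y : G)) * g⁻¹ = g * (x : G) * g⁻¹ * (g * (y : G) * g⁻¹)
    group)
  have hαi : ∀ x, α x⁻¹ = (α x)⁻¹ := fun x => Subtype.ext (by simp [hα, mul_assoc])
  have hinv : ∀ x : Q, e x * e x ≠ 1 → (x : G) * x ≠ 1 := fun x h hh => h (by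
    rw [← map_mul, show x * x = 1 from Subtype.ext hh, map_one])
  have hback : ∀ x y : Q, (x : G) * y ≠ 1 → e x * e y ≠ 1 := fun x y h hh => h (by
    rw [← map_mul, ← map_one e] at hh
    exact congrArg Subtype.val (e.injective hh))
  have hα2 : ∀ x, (α (α x) : G) = g ^ 2 * (x : G) * (g ^ 2)⁻¹ := fun x => by
    show g * (g * (x : G) * g⁻¹) * g⁻¹ = _
    rw [pow_two]; group
  have hpair : ∀ x : Q, e x * e x ≠ 1 →
      e (α x) * e (α x) ≠ 1 ∧ e (α x) ≠ e x ∧ e x * e (α x) ≠ 1 ∧ e (α (α x)) ≠ e x ∧ e x * e (α (α x)) ≠ 1 := by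
    intro x hx
    have m1 := CfsgLib.LocalFusion.q8_moves e hg hgC hodd x.2 (hinv x hx)
    have m2 := CfsgLib.LocalFusion.q8_moves e (pow_mem hg 2) hgC2 hodd2 x.2 (hinv x hx)
    refine ⟨fun h => ?_, fun h => m1.1 (congrArg Subtype.val (e.injective h)), hback x (α x) m1.2,
      fun h => m2.1 ((hα2 x).symm.trans (congrArg Subtype.val (e.injective h))), hback x _ ?_⟩
    · apply hx
      rw [← map_mul, ← map_one e, e.injective.eq_iff] at h ⊢
      rw [← hαm] at h
      refine Subtype.ext ?_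
      have h' : g * ((x * x : Q) : G) * g⁻¹ = 1 := congrArg Subtype.val h
      simpa using conj_eq_one_iff.1 h'
    · rw [hα2]; exact m2.2
  obtain ⟨i, hi, hrot⟩ : ∃ i : Q, e i * e i ≠ 1 ∧ α (α i) = i * α i := by
    set i₀ := e.symm (QuaternionGroup.a 1) with hi₀
    have h0 : e i₀ * e i₀ ≠ 1 := by rw [hi₀, MulEquiv.apply_symm_apply]; exact q8_sq_ne
    obtain ⟨a1, a2, a3, a4, a5⟩ := hpair i₀ h0
    obtain ⟨b1, b2, b3, -, -⟩ := hpair (α i₀) a1
    rcases q8_third _ _ _ h0 a1 b1 a2 a3 b2 b3 a4 a5 with h | h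
    · exact ⟨i₀, h0, e.injective (h.trans (map_mul e _ _).symm)⟩
    · refine ⟨i₀⁻¹, by rw [map_inv]; exact q8_inv_sq _ h0, ?_⟩
      rw [← map_mul, e.injective.eq_iff] at h
      rw [hαi, hαi, h, mul_inv_rev]
  obtain ⟨j1, j2, j3, -, -⟩ := hpair i hi
  obtain ⟨r1, r2, r3, r4, r5⟩ := q8_pair_rel _ _ hi j1 j2 j3
  have back : ∀ x y : Q, e x = e y → (x : G) = y := fun x y h => congrArg Subtype.val (e.injective h)
  set I : G := (i : G) with hI
  set J : G := (α i : G) with hJ
  have ha : I ^ (2 * 2) = 1 := by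
    have := back (i ^ (2 * 2)) 1 (by rw [map_pow, r1, map_one])
    rwa [SubgroupClass.coe_pow, OneMemClass.coe_one] at this
  have hb : J * J = I ^ 2 := by
    have := back (α i * α i) (i ^ 2) (by rw [map_mul, map_pow, r2])
    rwa [Subgroup.coe_mul, SubgroupClass.coe_pow] at this
  have hba : J * I * J⁻¹ = I⁻¹ := by
    have := back (α i * i * (α i)⁻¹) i⁻¹ (by rw [map_mul, map_mul, map_inv, map_inv, r3])
    rwa [Subgroup.coe_mul, Subgroup.coe_mul, Subgroup.coe_inv, Subgroup.coe_inv] at this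
  have hord : orderOf I = 2 * 2 := by
    haveI : Fact (Nat.Prime 2) := ⟨Nat.prime_two⟩
    have h1 : ¬ I ^ 2 ^ 1 = 1 := fun h => r4 (by
      rw [← map_pow, show i ^ 2 = 1 from Subtype.ext (by simpa [hI] using h), map_one])
    have := orderOf_eq_prime_pow (p := 2) (n := 1) h1 (by norm_num at ha ⊢; exact ha)
    rw [this]; norm_num
  have hnm : J ∉ Subgroup.zpowers I := by
    intro h
    have h' : J ∈ Submonoid.powers I := ((isOfFinOrder_of_finite I).mem_powers_iff_mem_zpowers).2 h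
    obtain ⟨m, hm⟩ := h'
    refine r5 ⟨m % 4, Nat.mod_lt _ (by norm_num)⟩ ?_
    rw [← map_pow, e.injective.eq_iff]
    refine Subtype.ext ?_
    show J = _
    rw [SubgroupClass.coe_pow, ← hm]
    show I ^ m = I ^ (m % 4)
    rw [← pow_mod_orderOf, hord]
  set φ := CfsgLib.Quat.hom I J ha hb hba with hφ
  have hinj : Function.Injective φ := CfsgLib.Quat.hom_injective ha hb hba hord hnm
  have hI1 : φ (QuaternionGroup.a 1) = I := by
    show CfsgLib.Quat.powMap I 2 1 = I
    rw [← Int.cast_one, CfsgLib.Quat.powMap_intCast ha, zpow_one]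
  have hJ1 : φ (QuaternionGroup.xa 0) = J := by
    show J * CfsgLib.Quat.powMap I 2 0 = J
    rw [← Int.cast_zero, CfsgLib.Quat.powMap_intCast ha, zpow_zero, mul_one]
  refine ⟨φ, hinj, ?_, ?_⟩
  · refine Subgroup.eq_of_le_of_card_ge ?_ ?_
    · rw [CfsgLib.Quat.hom_range ha hb hba, Subgroup.closure_le]
      rintro z (rfl | rfl)
      · exact i.2
      · exact (α i).2
    · rw [← Nat.card_congr (MonoidHom.ofInjective hinj).toEquiv, Nat.card_congr e.toEquiv]
  · intro q
    let P : Subgroup (QuaternionGroup 2) := MonoidHom.eqLocus ((MulAut.conj g).toMonoidHom.comp φ)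
      (φ.comp (MonoidHom.mk' CfsgLib.Quat.rotFun CfsgLib.Quat.rotFun_mul))
    have hgen : ∀ q : QuaternionGroup 2, q ∈ P := by
      have h1 : QuaternionGroup.a 1 ∈ P := by
        show g * φ (QuaternionGroup.a 1) * g⁻¹ = φ (CfsgLib.Quat.rotFun (QuaternionGroup.a 1))
        rw [show CfsgLib.Quat.rotFun (QuaternionGroup.a 1) = QuaternionGroup.xa 0 by decide, hI1, hJ1]
      have h2 : QuaternionGroup.xa 0 ∈ P := by
        show g * φ (QuaternionGroup.xa 0) * g⁻¹ = φ (CfsgLib.Quat.rotFun (QuaternionGroup.xa 0))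
        rw [show CfsgLib.Quat.rotFun (QuaternionGroup.xa 0) = QuaternionGroup.a 1 * QuaternionGroup.xa 0 by decide,
          map_mul, hI1, hJ1]
        exact congrArg Subtype.val hrot
      have hx : ∀ x : QuaternionGroup 2, ∃ m : Fin 4,
          x = QuaternionGroup.a 1 ^ m.val ∨ x = QuaternionGroup.xa 0 * QuaternionGroup.a 1 ^ m.val := by decide
      intro q
      obtain ⟨m, rfl | rfl⟩ := hx q
      · exact pow_mem h1 _
      · exact mul_mem h2 (pow_mem h1 _)
    exact hgen q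

/-- The section `SL(2,3)`. -/
theorem exists_section {Q : Subgroup G} (φ : QuaternionGroup 2 →* G) (hinj : Function.Injective φ)
    (hQ : φ.range = Q) {g : G} (hodd : Odd (orderOf g))
    (hrot : ∀ q, g * φ q * g⁻¹ = φ (CfsgLib.Quat.rotFun q)) :
    ∃ (H K : Subgroup G) (hK : (K.subgroupOf H).Normal), Nonempty ((H ⧸ K.subgroupOf H) ≃* SL23) := by
  set H := Q ⊔ Subgroup.zpowers g with hH
  set K := Subgroup.zpowers (g ^ 3) with hK
  have hiter : ∀ (t : ℕ) q, g ^ t * φ q * (g ^ t)⁻¹ = φ (CfsgLib.Quat.rotFun^[t] q) := by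
    intro t
    induction t with
    | zero => intro q; simp
    | succ t ih =>
      intro q
      rw [Function.iterate_succ_apply', ← hrot, ← ih]
      rw [pow_succ']; group
  have h3 : ∀ q, Commute (g ^ 3) (φ q) := fun q => by
    have := hiter 3 q
    rw [show CfsgLib.Quat.rotFun^[3] q = q from CfsgLib.Quat.rotFun_cube q] at this
    exact mul_inv_eq_iff_eq_mul.1 this
  have hgH : g ∈ H := Subgroup.mem_sup_right (Subgroup.mem_zpowers g)
  have hQH : ∀ q, φ q ∈ H := fun q => Subgroup.mem_sup_left (hQ ▸ ⟨q, rfl⟩)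
  have hKH : K ≤ H := Subgroup.zpowers_le.2 (pow_mem hgH 3)
  have hcent : H ≤ Subgroup.centralizer {g ^ 3} := by
    rw [hH, ← hQ]
    refine sup_le ?_ (Subgroup.zpowers_le.2 ?_)
    · rintro _ ⟨q, rfl⟩
      exact Subgroup.mem_centralizer_singleton_iff.2 (h3 q).eq.symm
    · exact Subgroup.mem_centralizer_singleton_iff.2 ((Commute.refl g).pow_right 3).eq
  haveI hKn : (K.subgroupOf H).Normal := ⟨fun n hn h => by
    obtain ⟨m, hm⟩ := Subgroup.mem_zpowers_iff.1 (Subgroup.mem_subgroupOf.1 hn)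
    rw [Subgroup.mem_subgroupOf]
    have hc : Commute (h : G) ((g ^ 3) ^ m) :=
      (show Commute (h : G) (g ^ 3) from Subgroup.mem_centralizer_singleton_iff.1 (hcent h.2)).zpow_right m
    have : ((h * n * h⁻¹ : H) : G) = (n : G) := by
      push_cast
      rw [← hm, hc.eq, mul_inv_cancel_right]
    rw [this]; exact Subgroup.mem_subgroupOf.1 hn⟩
  refine ⟨H, K, hKn, ?_⟩
  set π := QuotientGroup.mk' (K.subgroupOf H) with hπ
  set Φ : QuaternionGroup 2 →* H := φ.codRestrict H hQH with hΦ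
  set gh : H := ⟨g, hgH⟩ with hgh
  set ψ : QuaternionGroup 2 × ZMod 3 → H ⧸ K.subgroupOf H := fun u => π (Φ u.1 * gh ^ u.2.val) with hψ
  have hg3 : π (gh ^ 3) = 1 := (QuotientGroup.eq_one_iff _).2 (Subgroup.mem_subgroupOf.2 (by
    simp only [hgh, SubgroupClass.coe_pow]; exact Subgroup.mem_zpowers _))
  have hψmul : ∀ q q' t t', ψ (q, t) * ψ (q', t') = ψ (q * (CfsgLib.Quat.rotFun^[t.val] q'), t + t') := by
    intro q q' t t'
    simp only [hψ]
    rw [← map_mul]
    have e1 : Φ q * gh ^ t.val * (Φ q' * gh ^ t'.val) =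
        Φ (q * CfsgLib.Quat.rotFun^[t.val] q') * gh ^ (t.val + t'.val) := by
      refine Subtype.ext ?_
      simp only [Subgroup.coe_mul, SubgroupClass.coe_pow, hΦ, hgh, MonoidHom.codRestrict_apply, map_mul]
      rw [← hiter t.val q', pow_add]
      group
    have e2 : t.val + t'.val = (t + t').val + 3 * ((t.val + t'.val) / 3) := by
      rw [ZMod.val_add]; exact (Nat.mod_add_div _ _).symm
    rw [e1, e2, pow_add, pow_mul, ← mul_assoc, map_mul π _ ((gh ^ 3) ^ _), map_pow π (gh ^ 3), hg3, one_pow, mul_one]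
  let F := Equiv.ofBijective _ slMap_bijective
  let θ : SL23 →* H ⧸ K.subgroupOf H := MonoidHom.mk' (fun s => ψ (F.symm s)) (fun a b => by
    obtain ⟨⟨q, t⟩, rfl⟩ := F.surjective a
    obtain ⟨⟨q', t'⟩, rfl⟩ := F.surjective b
    have hm : F (q, t) * F (q', t') = F (q * (CfsgLib.Quat.rotFun^[t.val] q'), t + t') := slMap_mul q q' t t'
    rw [hm, F.symm_apply_apply, F.symm_apply_apply, F.symm_apply_apply, hψmul])
  have hinjθ : Function.Injective θ := by
    rw [injective_iff_map_eq_one]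
    intro s hs
    obtain ⟨⟨q, t⟩, rfl⟩ := F.surjective s
    have hs' : ψ (q, t) = 1 := by simpa [θ] using hs
    have hmem : φ q * g ^ t.val ∈ K := by
      have := Subgroup.mem_subgroupOf.1 ((QuotientGroup.eq_one_iff _).1 hs')
      simpa [hΦ, hgh] using this
    obtain ⟨m, hm⟩ := Subgroup.mem_zpowers_iff.1 hmem
    have hq : φ q = (g ^ 3) ^ m * (g ^ t.val)⁻¹ := by rw [hm, mul_inv_cancel_right]
    have hq1 : φ q = 1 := by
      rw [← orderOf_eq_one_iff]
      refine Nat.eq_one_of_dvd_coprimes (k := orderOf (φ q)) (hodd.coprime_two_right.pow_right 3) ?_ ?_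
      · refine orderOf_dvd_of_pow_eq_one ?_
        rw [hq, ((Commute.pow_pow (Commute.refl g) 3 t.val).zpow_left m).inv_right.mul_pow,
          ← zpow_natCast ((g ^ 3) ^ m), ← zpow_mul, mul_comm m, zpow_mul, zpow_natCast, ← pow_mul, mul_comm 3,
          pow_mul, pow_orderOf_eq_one, one_pow, one_zpow, one_mul, inv_pow, ← pow_mul, mul_comm, pow_mul,
          pow_orderOf_eq_one, one_pow, inv_one]
      · rw [orderOf_injective φ hinj]
        exact orderOf_dvd_of_pow_eq_one ((show ∀ x : QuaternionGroup 2, x ^ 2 ^ 3 = 1 by decide) q)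
    have hq2 : q = 1 := hinj (hq1.trans (map_one φ).symm)
    subst hq2
    rw [map_one, one_mul] at hmem
    have ht : t = 0 := by
      obtain ⟨m, hm⟩ := Subgroup.mem_zpowers_iff.1 hmem
      have hcom : Commute (g ^ t.val) (φ (QuaternionGroup.a 1)) := hm ▸ ((h3 _).zpow_left m)
      have := hiter t.val (QuaternionGroup.a 1)
      rw [hcom.eq, mul_inv_cancel_right] at this
      have h' := hinj this
      exact (show ∀ t : ZMod 3, (QuaternionGroup.a 1 : QuaternionGroup 2) =
        CfsgLib.Quat.rotFun^[t.val] (QuaternionGroup.a 1) → t = 0 by decide) t h'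
    subst ht
    show F (1, 0) = 1
    exact (show slMap 1 0 = 1 by decide +kernel)
  have hsurjθ : Function.Surjective θ := by
    have hall : ∀ x : H, π x ∈ θ.range := by
      have hle : H ≤ (θ.range.comap π).map H.subtype := by
        refine sup_le ?_ (Subgroup.zpowers_le.2 ?_)
        · intro z hz
          obtain ⟨q, rfl⟩ := hQ.ge hz
          refine ⟨Φ q, ⟨F (q, 0), ?_⟩, rfl⟩
          show ψ (F.symm (F (q, 0))) = π (Φ q)
          rw [F.symm_apply_apply]
          simp [hψ]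
        · refine ⟨gh, ⟨F (1, 1), ?_⟩, rfl⟩
          show ψ (F.symm (F (1, 1))) = π gh
          rw [F.symm_apply_apply]
          simp [hψ, ZMod.val_one]
      intro x
      obtain ⟨y, hy, hyx⟩ := hle x.2
      have : y = x := Subtype.ext hyx
      exact this ▸ hy
    intro z
    obtain ⟨x, rfl⟩ := QuotientGroup.mk'_surjective (K.subgroupOf H) z
    exact hall x
  exact ⟨(MulEquiv.ofBijective θ ⟨hinjθ, hsurjθ⟩).symm⟩

theorem main (T : Sylow 2 G) (n : ℕ) (hT : Nonempty ((T : Subgroup G) ≃* QuaternionGroup (2 ^ n))) :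
    Cfsg.HasNormalPComplement 2 G ∨
      ∃ (H K : Subgroup G) (hK : (K.subgroupOf H).Normal), Nonempty ((H ⧸ K.subgroupOf H) ≃* SL23) := by
  haveI : Fact (Nat.Prime 2) := ⟨Nat.prime_two⟩
  rw [CfsgLib.hasNormalPComplement_iff_frobeniusCond]
  by_cases h : CfsgLib.FrobeniusCond 2 G
  · exact Or.inl h
  right
  simp only [CfsgLib.FrobeniusCond, not_forall] at h
  obtain ⟨Q, hQ, g, hg, hgp, hgC⟩ := h
  obtain ⟨e0⟩ := hT
  obtain ⟨S, hS⟩ := hQ.exists_le_sylow
  have hSu : CfsgLib.Frob.UniqSub 2 (S : Subgroup G) :=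
    uniqSub_of_equiv ((Sylow.equiv S T).trans e0) (uniqSub_quaternion n)
  have hQu : CfsgLib.Frob.UniqSub 2 Q :=
    uniqSub_of_equiv (Subgroup.subgroupOfEquivOfLe hS).symm (hSu.sub (Q.subgroupOf (S : Subgroup G)))
  have hodd : Odd (orderOf g) := Nat.coprime_two_right.1 hgp
  obtain ⟨e⟩ := q8_of_moved hQ hQu hg hgC hodd
  obtain ⟨φ, hinj, hr, hrot⟩ := exists_param e hg hgC hodd
  exact exists_section φ hinj hr hodd hrot

end CfsgLib.QuatSection
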