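import Mathlib
import Cfsg.Agent.Lib.IsotropicCount

/-! Frames for the standard Hermitian form. -/

set_option autoImplicit false

namespace CfsgLib.IsotropicCount

open Module
open scoped Matrix

variable {F : Type*} [Field F] [Fintype F] {q n : ℕ}

theorem herm_sesq (hF : Fintype.card F = q ^ 2) (n : ℕ) :
    ∃ (σ : F →+* F) (B : (Fin n → F) →ₛₗ[σ] (Fin n → F) →ₗ[F] F), σ ≠ RingHom.id F ∧
      (∀ a, σ (σ a) = a) ∧ (∀ a, σ a = a ^ q) ∧ B.IsSymm ∧ B.Nondegenerate ∧
      ∀ x y, B x y = Cfsg.hermForm n F q y x := by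
  obtain ⟨hq, σ, hσ⟩ := CfsgLib.UnitaryBasic.frob_exists hF
  have hσid : σ ≠ RingHom.id F := fun h => by
    obtain ⟨ζ, hζ⟩ := CfsgLib.UnitaryBasic.exists_zeta hF
    have h1 : (ζ : F) ^ q = ζ := by rw [← hσ, h]; rfl
    have h2 : ζ ^ (q - 1) = 1 := by
      refine mul_right_cancel (b := ζ) ?_
      rw [← pow_succ, Nat.sub_add_cancel hq.le, one_mul]
      exact Units.ext (by simpa using h1)
    have := Nat.le_of_dvd (by omega) (orderOf_dvd_of_pow_eq_one h2)
    omega
  have hσ2 : ∀ a, σ (σ a) = a := fun a => by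
    rw [hσ, hσ, ← pow_mul, ← sq, ← hF, FiniteField.pow_card]
  let B : (Fin n → F) →ₛₗ[σ] (Fin n → F) →ₗ[F] F :=
    LinearMap.mk₂'ₛₗ σ (RingHom.id F) (fun x y => Cfsg.hermForm n F q y x)
      (fun a b c => by
        simp only [Cfsg.hermForm, ← Finset.sum_add_distrib, ← mul_add, Pi.add_apply, ← hσ, map_add])
      (fun r a b => by
        simp only [Cfsg.hermForm, Finset.mul_sum, Pi.smul_apply, smul_eq_mul, ← hσ, map_mul]
        exact Finset.sum_congr rfl fun i _ => by ring)
      (fun a b c => by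
        simp only [Cfsg.hermForm, ← Finset.sum_add_distrib, Pi.add_apply, add_mul])
      (fun r a b => by
        simp only [Cfsg.hermForm, Finset.mul_sum, Pi.smul_apply, smul_eq_mul, RingHom.id_apply,
          mul_assoc])
  have hB : ∀ x y, B x y = Cfsg.hermForm n F q y x := fun x y => rfl
  have hS : B.IsSymm := ⟨fun x y => by rw [hB, hB, hσ, CfsgLib.UnitaryOrder.herm_swap hF]⟩
  have hleft : ∀ x, (∀ y, B x y = 0) → x = 0 := fun x hx => by
    funext i
    have h := hx (Pi.single i 1)
    rw [hB, ← CfsgLib.UnitaryOrder.herm_swap hF, CfsgLib.UnitaryOrder.herm_single_right hF,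
      pow_eq_zero_iff (by omega)] at h
    exact h
  exact ⟨σ, B, hσid, hσ2, hσ, hS, ⟨hleft, fun y hy => hleft y fun x => by
    rw [← hS.eq, hy x, map_zero]⟩, hB⟩

theorem herm_span2 (hF : Fintype.card F = q ^ 2) : Span2 (Cfsg.hermForm n F q) := by
  obtain ⟨σ, B, -, -, -, -, -, hB⟩ := herm_sesq hF n
  intro s hs u hu v hv
  rw [← hB]
  have hA : ∀ y ∈ s, ∀ x ∈ Submodule.span F s, B y x = 0 := fun y hy x hx => by
    have hker : Submodule.span F s ≤ LinearMap.ker (B y) := by
      rw [Submodule.span_le]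
      intro z hz
      show B y z = 0
      rw [hB]; exact hs z hz y hy
    exact hker hx
  induction hv using Submodule.span_induction with
  | mem y hy => exact hA y hy u hu
  | zero => simp
  | add a b _ _ ha hb => simp [ha, hb]
  | smul c a _ ha => simp [ha]

/-- Witt's theorem for `GU`. -/
theorem herm_extend (hF : Fintype.card F = q ^ 2) (X : Submodule F (Fin n → F))
    (φ : X →ₗ[F] (Fin n → F)) (hinj : Function.Injective φ)
    (hφ : ∀ x x' : X, Cfsg.hermForm n F q (φ x) (φ x') = Cfsg.hermForm n F q x x') :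
    ∃ g : Cfsg.GU n F q, ∀ x : X, g.1.1 *ᵥ (x : Fin n → F) = φ x := by
  obtain ⟨σ, B, hσid, hσ2, -, hS, hnd, hB⟩ := herm_sesq hF n
  obtain ⟨g, hg, hgX⟩ := CfsgLib.WittExtension.sesq_extend hσid hσ2 B hS hnd X φ hinj
    (fun x x' => by rw [hB, hB, hφ])
  refine ⟨⟨Matrix.GeneralLinearGroup.mkOfDetNeZero
    (LinearMap.toMatrix' (g : (Fin n → F) →ₗ[F] (Fin n → F)))
    (by rw [LinearMap.det_toMatrix']; exact g.isUnit_det'.ne_zero), fun u v => ?_⟩, fun x => ?_⟩
  · show Cfsg.hermForm n F q (LinearMap.toMatrix' _ *ᵥ u) (LinearMap.toMatrix' _ *ᵥ v) = _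
    rw [LinearMap.toMatrix'_mulVec, LinearMap.toMatrix'_mulVec, ← hB, ← hB]
    exact hg v u
  · show LinearMap.toMatrix' _ *ᵥ _ = _
    rw [LinearMap.toMatrix'_mulVec]
    exact hgX x

theorem herm_trans (hF : Fintype.card F = q ^ 2) {k : ℕ} (s t : Frame (Cfsg.hermForm n F q) k) :
    ∃ g : Cfsg.GU n F q, ∀ i, g.1.1 *ᵥ s.1 i = t.1 i := by
  let b := Basis.span s.2.1
  let φ := b.constr F t.1
  have hb : ∀ i, (b i : Fin n → F) = s.1 i := fun i =>
    congrArg Subtype.val (Basis.span_apply s.2.1 i) |>.trans rfl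
  have hφ0 : ∀ x, φ x ∈ Submodule.span F (Set.range t.1) := fun x => by
    rw [Basis.constr_apply_fintype]
    exact Submodule.sum_mem _ fun i _ => Submodule.smul_mem _ _ (Submodule.subset_span ⟨i, rfl⟩)
  have hinj : Function.Injective φ := by
    rw [injective_iff_map_eq_zero]
    intro x hx
    rw [Basis.constr_apply_fintype] at hx
    have := Fintype.linearIndependent_iff.mp t.2.1 _ hx
    exact b.equivFun.injective (funext fun i => (this i).trans (by simp))
  obtain ⟨g, hg⟩ := herm_extend hF _ φ hinj (fun x x' => by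
    have hz : ∀ (r : Frame (Cfsg.hermForm n F q) k), ∀ u ∈ Submodule.span F (Set.range r.1),
        ∀ v ∈ Submodule.span F (Set.range r.1), Cfsg.hermForm n F q u v = 0 := fun r =>
      herm_span2 hF _ (by rintro _ ⟨i, rfl⟩ _ ⟨j, rfl⟩; exact r.2.2 i j)
    rw [hz t _ (hφ0 x) _ (hφ0 x'), hz s _ x.2 _ x'.2])
  exact ⟨g, fun i => by rw [← hb, hg, Basis.constr_basis]⟩

/-- Isotropic vectors perpendicular to a frame and outside its span. -/
abbrev Next (F : Type*) [Field F] (q : ℕ) {n k : ℕ} (s : Fin k → Fin n → F) : Type _ :=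
  {v : Fin n → F // v ∉ Submodule.span F (Set.range s) ∧ Cfsg.hermForm n F q v v = 0 ∧
    ∀ i, Cfsg.hermForm n F q (s i) v = 0 ∧ Cfsg.hermForm n F q v (s i) = 0}

theorem card_next_eq (hF : Fintype.card F = q ^ 2) {k : ℕ} (s t : Frame (Cfsg.hermForm n F q) k) :
    Nat.card (Next F q s.1) = Nat.card (Next F q t.1) := by
  obtain ⟨g, hg⟩ := herm_trans hF s t
  set A : (Fin n → F) ≃ (Fin n → F) :=
    { toFun := fun v => g.1.1 *ᵥ v
      invFun := fun v => g.1⁻¹.1 *ᵥ v
      left_inv := fun v => by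
        show g.1⁻¹.1 *ᵥ (g.1.1 *ᵥ v) = v
        rw [Matrix.mulVec_mulVec, show g.1⁻¹.1 * g.1.1 = 1 from congrArg Units.val (inv_mul_cancel g.1),
          Matrix.one_mulVec]
      right_inv := fun v => by
        show g.1.1 *ᵥ (g.1⁻¹.1 *ᵥ v) = v
        rw [Matrix.mulVec_mulVec, show g.1.1 * g.1⁻¹.1 = 1 from congrArg Units.val (mul_inv_cancel g.1),
          Matrix.one_mulVec] }
  refine Nat.card_congr (A.subtypeEquiv fun v => ?_)
  have hp : ∀ u w, Cfsg.hermForm n F q (g.1.1 *ᵥ u) (g.1.1 *ᵥ w) = Cfsg.hermForm n F q u w := g.2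
  show _ ↔ g.1.1 *ᵥ v ∉ _ ∧ Cfsg.hermForm n F q (g.1.1 *ᵥ v) (g.1.1 *ᵥ v) = 0 ∧ _
  have hspan : g.1.1 *ᵥ v ∈ Submodule.span F (Set.range t.1) ↔ v ∈ Submodule.span F (Set.range s.1) := by
    have e : Submodule.span F (Set.range t.1) =
        (Submodule.span F (Set.range s.1)).map g.1.1.mulVecLin := by
      rw [Submodule.map_span, ← Set.range_comp]
      congr 2
      funext i
      exact (hg i).symm
    rw [e]
    refine ⟨?_, fun h => ⟨v, h, rfl⟩⟩
    rintro ⟨w, hw, hwv⟩
    have hwv' : A w = A v := hwv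
    exact A.injective hwv' ▸ hw
  rw [hspan, hp]
  simp only [← hg, hp, A, Equiv.coe_fn_mk]

theorem card_frame_std {k r : ℕ} (hF : Fintype.card F = q ^ 2) (e : Fin n ≃ (Fin k ⊕ Fin k) ⊕ Fin r) :
    ∃ s : Frame (Cfsg.hermForm n F q) k,
      Nat.card (Next F q s.1) = q ^ (2 * k) * (HermCount.A0 F q r - 1) := by
  classical
  obtain ⟨hq, -⟩ := CfsgLib.UnitaryBasic.frob_exists hF
  obtain ⟨t, ht⟩ := HermCount.exists_norm (F := F) hF (c := -1) (neg_ne_zero.mpr one_ne_zero) (by
    obtain ⟨-, σ, hσ⟩ := CfsgLib.UnitaryBasic.frob_exists hF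
    rw [← hσ, map_neg, map_one])
  have hh : ∀ u v : Fin n → F, Cfsg.hermForm n F q u v =
      ∑ i : Fin k, (u (e.symm (.inl (.inl i))) * v (e.symm (.inl (.inl i))) ^ q +
        u (e.symm (.inl (.inr i))) * v (e.symm (.inl (.inr i))) ^ q) +
      ∑ j : Fin r, u (e.symm (.inr j)) * v (e.symm (.inr j)) ^ q := fun u v => by
    rw [Cfsg.hermForm, ← e.symm.sum_comp, Fintype.sum_sum_type, Fintype.sum_sum_type,
      Finset.sum_add_distrib]
  let mk : (Fin k → F) → (Fin k → F) → (Fin r → F) → (Fin n → F) := fun a b y p =>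
    Sum.elim (Sum.elim a b) y (e p)
  have mk1 : ∀ a b y i, mk a b y (e.symm (.inl (.inl i))) = a i := fun a b y i => by simp [mk]
  have mk2 : ∀ a b y i, mk a b y (e.symm (.inl (.inr i))) = b i := fun a b y i => by simp [mk]
  have mk3 : ∀ a b y j, mk a b y (e.symm (.inr j)) = y j := fun a b y j => by simp [mk]
  let s : Fin k → Fin n → F := fun i => mk (Pi.single i 1) (Pi.single i (t : F)) 0
  have hsum : ∀ c : Fin k → F, ∑ i, c i • s i = mk c (fun i => (t : F) * c i) 0 := fun c => by
    funext p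
    obtain ⟨x, rfl⟩ := e.symm.surjective p
    simp only [Finset.sum_apply, Pi.smul_apply, smul_eq_mul, s]
    rcases x with (i | i) | j
    · simp only [mk1, Pi.single_apply, mul_ite, mul_one, mul_zero]
      rw [Finset.sum_ite_eq Finset.univ i c, if_pos (Finset.mem_univ _)]
    · simp only [mk2, Pi.single_apply, mul_ite, mul_zero]
      rw [Finset.sum_ite_eq Finset.univ i (fun x => c x * (t : F)), if_pos (Finset.mem_univ _), mul_comm]
    · simp [mk3]
  have hperp : ∀ v i, Cfsg.hermForm n F q v (s i) =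
      v (e.symm (.inl (.inl i))) + v (e.symm (.inl (.inr i))) * (t : F) ^ q := fun v i => by
    rw [hh]
    simp only [s, mk1, mk2, mk3, Pi.zero_apply, zero_pow (show q ≠ 0 by omega), mul_zero,
      Finset.sum_const_zero, add_zero]
    rw [Finset.sum_eq_single i]
    · simp
    · intro j _ hj; simp [hj, zero_pow (show q ≠ 0 by omega)]
    · simp
  have htt : (t : F) ^ q * (t : F) = -1 := by rw [← pow_succ]; exact ht
  have hli : LinearIndependent F s := by
    rw [Fintype.linearIndependent_iff]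
    intro c hc i
    rw [hsum] at hc
    have := congrFun hc (e.symm (.inl (.inl i)))
    rwa [mk1] at this
  have hiso : ∀ i j, Cfsg.hermForm n F q (s i) (s j) = 0 := fun i j => by
    rw [hperp]
    simp only [s, mk1, mk2]
    rcases eq_or_ne j i with rfl | hne
    · simp only [Pi.single_eq_same]; rw [mul_comm, htt]; ring
    · simp [hne]
  refine ⟨⟨s, hli, hiso⟩, ?_⟩
  have hswap : ∀ v i, Cfsg.hermForm n F q v (s i) = 0 → Cfsg.hermForm n F q (s i) v = 0 := fun v i h => by
    rw [← CfsgLib.UnitaryOrder.herm_swap hF, h, zero_pow (by omega)]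
  let E : Next F q s ≃ (Fin k → F) × {y : Fin r → F // y ≠ 0 ∧ Cfsg.hermForm r F q y y = 0} :=
    { toFun := fun v => (fun i => v.1 (e.symm (.inl (.inr i))), ⟨fun j => v.1 (e.symm (.inr j)), by
        have hv : ∀ i, v.1 (e.symm (.inl (.inl i))) = -(v.1 (e.symm (.inl (.inr i))) * (t : F) ^ q) :=
          fun i => eq_neg_of_add_eq_zero_left ((hperp v.1 i).symm.trans (v.2.2.2 i).2)
        constructor
        · intro hy
          refine v.2.1 ?_
          have : v.1 = ∑ i, (v.1 (e.symm (.inl (.inl i)))) • s i := by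
            rw [hsum]
            funext p
            obtain ⟨x, rfl⟩ := e.symm.surjective p
            rcases x with (i | i) | j
            · rw [mk1]
            · rw [mk2, hv i]
              linear_combination (v.1 (e.symm (.inl (.inr i)))) * htt
            · rw [mk3]; exact congrFun hy j
          rw [this]
          exact Submodule.sum_mem _ fun i _ => Submodule.smul_mem _ _ (Submodule.subset_span ⟨i, rfl⟩)
        · have h := v.2.2.1
          rw [hh] at h
          have h0 : ∀ i, v.1 (e.symm (.inl (.inl i))) * v.1 (e.symm (.inl (.inl i))) ^ q +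
              v.1 (e.symm (.inl (.inr i))) * v.1 (e.symm (.inl (.inr i))) ^ q = 0 := by
            intro i
            obtain ⟨-, σ, hσ⟩ := CfsgLib.UnitaryBasic.frob_exists hF
            have hσσ : σ (σ (t : F)) = t := by
              rw [hσ, hσ, ← pow_mul, ← sq, ← hF, FiniteField.pow_card]
            have htt' : σ (t : F) * (t : F) = -1 := by rw [hσ]; exact htt
            simp only [hv i, ← hσ, map_neg, map_mul, hσσ]
            linear_combination (v.1 (e.symm (.inl (.inr i))) * σ (v.1 (e.symm (.inl (.inr i))))) * htt'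
          simpa [h0, Cfsg.hermForm] using h⟩)
      invFun := fun p => ⟨mk (fun i => -(p.1 i * (t : F) ^ q)) p.1 p.2.1, by
        have hz : ∀ i, Cfsg.hermForm n F q (mk (fun i => -(p.1 i * (t : F) ^ q)) p.1 p.2.1) (s i) = 0 :=
          fun i => by rw [hperp, mk1, mk2]; ring
        refine ⟨fun hmem => p.2.2.1 ?_, ?_, fun i => ⟨hswap _ i (hz i), hz i⟩⟩
        · obtain ⟨c, hc⟩ := (Submodule.mem_span_range_iff_exists_fun F).mp hmem
          rw [hsum] at hc
          funext j
          have := congrFun hc (e.symm (.inr j))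
          rw [mk3, mk3] at this
          exact this.symm
        · rw [hh]
          simp only [mk1, mk2, mk3]
          have h0 : ∀ i, -(p.1 i * (t : F) ^ q) * (-(p.1 i * (t : F) ^ q)) ^ q + p.1 i * p.1 i ^ q = 0 := by
            intro i
            obtain ⟨-, σ, hσ⟩ := CfsgLib.UnitaryBasic.frob_exists hF
            have hσσ : σ (σ (t : F)) = t := by
              rw [hσ, hσ, ← pow_mul, ← sq, ← hF, FiniteField.pow_card]
            have htt' : σ (t : F) * (t : F) = -1 := by rw [hσ]; exact htt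
            simp only [← hσ, map_neg, map_mul, hσσ]
            linear_combination (p.1 i * σ (p.1 i)) * htt'
          simp only [h0, Finset.sum_const_zero, zero_add]
          exact p.2.2.2⟩
      left_inv := fun v => by
        apply Subtype.ext
        funext q'
        obtain ⟨x, rfl⟩ := e.symm.surjective q'
        rcases x with (i | i) | j
        · simp only [mk1]
          exact (eq_neg_of_add_eq_zero_left ((hperp v.1 i).symm.trans (v.2.2.2 i).2)).symm
        · simp only [mk2]
        · simp only [mk3]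
      right_inv := fun p => by
        refine Prod.ext (funext fun i => ?_) (Subtype.ext (funext fun j => ?_))
        · simp only [mk2]
        · simp only [mk3] }
  rw [Nat.card_congr E, Nat.card_prod, Nat.card_eq_fintype_card, Fintype.card_fun, Fintype.card_fin,
    hF, ← pow_mul]
  congr 1
  have h0 : Cfsg.hermForm r F q (0 : Fin r → F) 0 = 0 := by simp [Cfsg.hermForm]
  rw [show Nat.card {y : Fin r → F // y ≠ 0 ∧ Cfsg.hermForm r F q y y = 0} =
    ({y : Fin r → F | Cfsg.hermForm r F q y y = 0} \ {0}).ncard from Nat.card_congr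
      (Equiv.subtypeEquivRight fun y => ⟨fun h => ⟨h.2, h.1⟩, fun h => ⟨h.2, h.1⟩⟩),
    Set.ncard_sdiff_singleton_of_mem (show (0 : Fin r → F) ∈ {y | Cfsg.hermForm r F q y y = 0} from h0)]
  rfl

theorem card_hermFrame (hF : Fintype.card F = q ^ 2) :
    ∀ k : ℕ, 2 * k ≤ n + 2 → Nat.card (Frame (Cfsg.hermForm n F q) k) =
      ∏ i ∈ Finset.range k, q ^ (2 * i) * (HermCount.A0 F q (n - 2 * i) - 1) := by
  intro k
  induction k with
  | zero => intro _; rw [card_frame_zero]; simp
  | succ k ih =>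
    intro hk
    have hk' : 2 * k ≤ n := by omega
    let e : Fin n ≃ (Fin k ⊕ Fin k) ⊕ Fin (n - 2 * k) :=
      (finCongr (show n = (k + k) + (n - 2 * k) by omega)).trans
        (finSumFinEquiv.symm.trans (finSumFinEquiv.symm.sumCongr (Equiv.refl _)))
    obtain ⟨t, ht⟩ := card_frame_std hF e
    rw [card_frame_succ _ k _ (fun s => (card_next_eq hF s t).trans ht), ih (by omega),
      Finset.prod_range_succ]

end CfsgLib.IsotropicCount
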