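import Mathlib

/-!
Semisimple matrices over a field are determined up to similarity by the characteristic polynomial;
semisimple matrices with a given characteristic polynomial over a finite field.
-/

set_option autoImplicit false

namespace CfsgLib.SemisimpleClasses

open Polynomial

variable {F : Type*} [Field F]

/-- An irreducible factor of the characteristic polynomial kills a non-zero vector. -/
theorem exists_killed {V : Type*} [AddCommGroup V] [Module F V] [FiniteDimensional F V]
    (f : Module.End F V) {m : F[X]} (hm : Irreducible m) (hd : m ∣ f.charpoly) :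
    ∃ v, v ≠ 0 ∧ aeval f m v = 0 := by
  classical
  haveI : Fact (Irreducible m) := ⟨hm⟩
  let b := Module.finBasis F V
  set M := LinearMap.toMatrixAlgEquiv b f with hM
  let K := AdjoinRoot m
  let φ : Matrix (Fin (Module.finrank F V)) (Fin (Module.finrank F V)) F →ₐ[F]
      Matrix (Fin (Module.finrank F V)) (Fin (Module.finrank F V)) K := (Algebra.ofId F K).mapMatrix
  have hroot : (m.map (algebraMap F K)).IsRoot (AdjoinRoot.root m) := by
    rw [IsRoot.def, eval_map, AdjoinRoot.algebraMap_eq, AdjoinRoot.eval₂_root]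
  have hchar : (φ M).charpoly.eval (AdjoinRoot.root m) = 0 := by
    have : φ M = M.map (algebraMap F K) := rfl
    rw [this, Matrix.charpoly_map, hM]
    obtain ⟨c, hc⟩ := hd
    rw [show (LinearMap.toMatrixAlgEquiv b f).charpoly = f.charpoly from
      LinearMap.charpoly_toMatrix f b, hc, Polynomial.map_mul, eval_mul, hroot.eq_zero, zero_mul]
  rw [Matrix.eval_charpoly] at hchar
  obtain ⟨k, hk⟩ := dvd_iff_isRoot.mpr hroot
  have hdet : (aeval M m).det = 0 := by
    apply (algebraMap F K).injective
    rw [map_zero, RingHom.map_det]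
    show (φ (aeval M m)).det = 0
    rw [← Polynomial.aeval_algHom_apply, ← aeval_map_algebraMap K, hk, map_mul, Matrix.det_mul,
      map_sub, aeval_X, aeval_C, Matrix.algebraMap_eq_diagonal,
      ← neg_sub (Matrix.diagonal _) (φ M), Matrix.det_neg]
    have : (Matrix.diagonal (algebraMap K (Fin (Module.finrank F V) → K) (AdjoinRoot.root m)) - φ M).det = 0 := by
      rw [← hchar]; rfl
    rw [this]
    simp
  have hdet' : LinearMap.det (aeval f m) = 0 := by
    rw [← LinearMap.det_toMatrix b, ← hdet, hM]
    congr 1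
    exact (Polynomial.aeval_algHom_apply (LinearMap.toMatrixAlgEquiv b) f m).symm
  have hker : LinearMap.ker (aeval f m) ≠ ⊥ := by
    intro h
    have := (LinearMap.isUnit_iff_ker_eq_bot _).mpr h
    exact (this.map LinearMap.det).ne_zero hdet'
  obtain ⟨v, hv, hv0⟩ := Submodule.exists_mem_ne_zero_of_ne_bot hker
  exact ⟨v, hv0, hv⟩

/-- The cyclic map of a vector killed by an irreducible polynomial. -/
noncomputable def cycMap {V : Type*} [AddCommGroup V] [Module F V] (f : Module.End F V) (d : ℕ)
    (v : V) : degreeLT F d →ₗ[F] V :=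
  (LinearMap.applyₗ v).comp ((aeval f).toLinearMap.comp (degreeLT F d).subtype)

theorem cycMap_apply {V : Type*} [AddCommGroup V] [Module F V] (f : Module.End F V) (d : ℕ) (v : V)
    (P : degreeLT F d) : cycMap f d v P = aeval f (P : F[X]) v := rfl

theorem cycMap_injective {V : Type*} [AddCommGroup V] [Module F V] (f : Module.End F V) {m : F[X]}
    (hm : Irreducible m) {v : V} (hv : v ≠ 0) (hk : aeval f m v = 0) :
    Function.Injective (cycMap f m.natDegree v) := by
  rw [← LinearMap.ker_eq_bot, Submodule.eq_bot_iff]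
  rintro ⟨P, hP⟩ h0
  rw [LinearMap.mem_ker, cycMap_apply] at h0
  by_contra hne
  have hP0 : P ≠ 0 := fun h => hne (Subtype.ext h)
  have hcop : IsCoprime m P := by
    rw [Irreducible.coprime_iff_not_dvd hm]
    intro hd
    have h1 := natDegree_le_of_dvd hd hP0
    have h2 := mem_degreeLT.mp hP
    rw [degree_eq_natDegree hP0] at h2
    exact absurd (Nat.cast_lt.mp h2) (not_lt.mpr h1)
  obtain ⟨a, c, hac⟩ := hcop
  refine hv ?_
  have := congrArg (fun Q => aeval f Q v) hac
  simp only [map_add, map_mul, map_one, LinearMap.add_apply, Module.End.mul_apply, Module.End.one_apply,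
    h0, hk, map_zero, add_zero] at this
  exact this.symm

theorem cycMap_step {V : Type*} [AddCommGroup V] [Module F V] (f : Module.End F V) {m : F[X]}
    (hm : m.Monic) (hd : 0 < m.natDegree) {v : V} (hk : aeval f m v = 0) (P : degreeLT F m.natDegree) :
    f (cycMap f m.natDegree v P) = cycMap f m.natDegree v
      ⟨(X * (P : F[X])) %ₘ m, mem_degreeLT.mpr (by
        rw [← degree_eq_natDegree hm.ne_zero]; exact degree_modByMonic_lt _ hm)⟩ := by
  rw [cycMap_apply, cycMap_apply]
  conv_lhs => rw [← Module.End.mul_apply]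
  show (f * aeval f (P : F[X])) v = aeval f ((X * (P : F[X])) %ₘ m) v
  rw [show f * aeval f (P : F[X]) = aeval f (X * (P : F[X])) by rw [map_mul, aeval_X]]
  conv_lhs => rw [← modByMonic_add_div (X * (P : F[X])) m]
  rw [map_add, LinearMap.add_apply, mul_comm m, map_mul, Module.End.mul_apply, hk, map_zero, add_zero]

theorem charpoly_decomp {V : Type*} [AddCommGroup V] [Module F V] [FiniteDimensional F V]
    (f : Module.End F V) {U C : Submodule F V} (hU : ∀ u ∈ U, f u ∈ U) (hC : ∀ u ∈ C, f u ∈ C)
    (h : IsCompl U C) : f.charpoly = (f.restrict hU).charpoly * (f.restrict hC).charpoly := by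
  let e := Submodule.prodEquivOfIsCompl U C h
  have : f = e.conj (LinearMap.prodMap (f.restrict hU) (f.restrict hC)) := by
    refine LinearMap.ext fun x => ?_
    obtain ⟨⟨u, c⟩, rfl⟩ := e.surjective x
    simp [e, LinearEquiv.conj_apply]
  conv_lhs => rw [this]
  rw [LinearEquiv.charpoly_conj, LinearMap.charpoly_prodMap]

/-- Semisimple endomorphisms with equal characteristic polynomials are isomorphic. -/
theorem exists_equiv : ∀ (n : ℕ) {V W : Type*} [AddCommGroup V] [Module F V] [FiniteDimensional F V]
    [AddCommGroup W] [Module F W] [FiniteDimensional F W] (f : Module.End F V) (g : Module.End F W),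
    f.IsSemisimple → g.IsSemisimple → f.charpoly = g.charpoly → Module.finrank F V = n →
    ∃ e : V ≃ₗ[F] W, ∀ v, e (f v) = g (e v) := by
  intro n
  induction n using Nat.strong_induction_on with
  | _ n ih =>
    intro V W _ _ _ _ _ _ f g hf hg hc hn
    classical
    have hnW : Module.finrank F W = n := by
      rw [← g.charpoly_natDegree, ← hc, f.charpoly_natDegree, hn]
    rcases Nat.eq_zero_or_pos n with rfl | hpos
    · haveI : Subsingleton V := Module.finrank_zero_iff.mp hn
      haveI : Subsingleton W := Module.finrank_zero_iff.mp hnW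
      exact ⟨LinearEquiv.ofSubsingleton V W, fun v => Subsingleton.elim _ _⟩
    obtain ⟨m, hmm, hmi, hmd⟩ := exists_monic_irreducible_factor f.charpoly (by
      intro hu
      have := natDegree_eq_zero_of_isUnit hu
      rw [f.charpoly_natDegree, hn] at this
      omega)
    have hd : 0 < m.natDegree := hmi.natDegree_pos
    obtain ⟨v, hv, hkv⟩ := exists_killed f hmi hmd
    obtain ⟨w, hw, hkw⟩ := exists_killed g hmi (hc ▸ hmd)
    let Φ := LinearEquiv.ofInjective _ (cycMap_injective f hmi hv hkv)
    let Ψ := LinearEquiv.ofInjective _ (cycMap_injective g hmi hw hkw)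
    have hΦ : ∀ P, ((Φ P : _) : V) = cycMap f m.natDegree v P := fun P => rfl
    have hΨ : ∀ P, ((Ψ P : _) : W) = cycMap g m.natDegree w P := fun P => rfl
    let U := LinearMap.range (cycMap f m.natDegree v)
    let U' := LinearMap.range (cycMap g m.natDegree w)
    have hUf : ∀ u ∈ U, f u ∈ U := by
      rintro _ ⟨P, rfl⟩
      exact ⟨_, (cycMap_step f hmm hd hkv P).symm⟩
    have hUg : ∀ u ∈ U', g u ∈ U' := by
      rintro _ ⟨P, rfl⟩
      exact ⟨_, (cycMap_step g hmm hd hkw P).symm⟩
    let e₁ : U ≃ₗ[F] U' := Φ.symm.trans Ψ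
    have he₁ : ∀ u : U, e₁ (f.restrict hUf u) = g.restrict hUg (e₁ u) := by
      intro u
      obtain ⟨P, rfl⟩ := Φ.surjective u
      have h1 : f.restrict hUf (Φ P) = Φ ⟨(X * (P : F[X])) %ₘ m, mem_degreeLT.mpr (by
          rw [← degree_eq_natDegree hmm.ne_zero]; exact degree_modByMonic_lt _ hmm)⟩ :=
        Subtype.ext ((congrArg f (hΦ P)).trans ((cycMap_step f hmm hd hkv P).trans (hΦ _).symm))
      rw [h1]
      simp only [e₁, LinearEquiv.trans_apply, LinearEquiv.symm_apply_apply]
      exact Subtype.ext ((hΨ _).trans ((cycMap_step g hmm hd hkw P).symm.trans (congrArg g (hΨ P)).symm))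
    obtain ⟨C, hCf, hC⟩ := (Module.End.isSemisimple_iff.mp hf) U ((Module.End.mem_invtSubmodule f).mpr hUf)
    obtain ⟨C', hCg, hC'⟩ := (Module.End.isSemisimple_iff.mp hg) U' ((Module.End.mem_invtSubmodule g).mpr hUg)
    have hCf' : ∀ u ∈ C, f u ∈ C := (Module.End.mem_invtSubmodule f).mp hCf
    have hCg' : ∀ u ∈ C', g u ∈ C' := (Module.End.mem_invtSubmodule g).mp hCg
    have hsub : (f.restrict hUf).charpoly = (g.restrict hUg).charpoly := by
      rw [← e₁.charpoly_conj (f.restrict hUf)]
      congr 1
      refine LinearMap.ext fun x => ?_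
      rw [LinearEquiv.conj_apply]
      simp only [LinearMap.comp_apply, LinearEquiv.coe_coe, he₁, LinearEquiv.apply_symm_apply]
    have hrest : (f.restrict hCf').charpoly = (g.restrict hCg').charpoly := by
      have h1 := charpoly_decomp f hUf hCf' hC
      have h2 := charpoly_decomp g hUg hCg' hC'
      rw [hc, h2, hsub] at h1
      exact (mul_left_cancel₀ (LinearMap.charpoly_monic _).ne_zero h1).symm
    have hlt : Module.finrank F C < n := by
      have h1 := Submodule.finrank_add_eq_of_isCompl hC
      have h2 : Module.finrank F U = m.natDegree := by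
        rw [← Φ.finrank_eq, Module.finrank_eq_card_basis ((Pi.basisFun F _).map (degreeLTEquiv F m.natDegree).symm),
          Fintype.card_fin]
      omega
    obtain ⟨e₂, he₂⟩ := ih _ hlt (f.restrict hCf') (g.restrict hCg')
      (Module.End.IsSemisimple.restrict hCf hf) (Module.End.IsSemisimple.restrict hCg hg) hrest rfl
    refine ⟨((Submodule.prodEquivOfIsCompl U C hC).symm.trans (e₁.prodCongr e₂)).trans
      (Submodule.prodEquivOfIsCompl U' C' hC'), fun x => ?_⟩
    obtain ⟨⟨u, c⟩, rfl⟩ := (Submodule.prodEquivOfIsCompl U C hC).surjective x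
    have hfx : f (Submodule.prodEquivOfIsCompl U C hC (u, c)) =
        Submodule.prodEquivOfIsCompl U C hC (f.restrict hUf u, f.restrict hCf' c) := by simp
    rw [hfx]
    simp only [LinearEquiv.trans_apply, LinearEquiv.symm_apply_apply, LinearEquiv.prodCongr_apply,
      he₁, he₂]
    simp

/-- Matrices: semisimple with equal characteristic polynomial implies conjugate. -/
theorem exists_conj {n : ℕ} {A B : Matrix (Fin n) (Fin n) F}
    (hA : Module.End.IsSemisimple (Matrix.toLinAlgEquiv' A))
    (hB : Module.End.IsSemisimple (Matrix.toLinAlgEquiv' B))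
    (h : A.charpoly = B.charpoly) :
    ∃ P : GL (Fin n) F, (P : Matrix (Fin n) (Fin n) F) * A = B * P := by
  obtain ⟨e, he⟩ := exists_equiv n (Matrix.toLinAlgEquiv' A) (Matrix.toLinAlgEquiv' B) hA hB (by
    rw [← LinearMap.charpoly_toMatrix _ (Pi.basisFun F (Fin n)), ← LinearMap.charpoly_toMatrix _ (Pi.basisFun F (Fin n))]
    rw [LinearMap.toMatrix_eq_toMatrix']
    rw [show Matrix.toLinAlgEquiv' A = Matrix.toLin' A from rfl, show Matrix.toLinAlgEquiv' B = Matrix.toLin' B from rfl,
      LinearMap.toMatrix'_toLin', LinearMap.toMatrix'_toLin', h]) (by simp)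
  refine ⟨⟨LinearMap.toMatrixAlgEquiv' (e : Module.End F (Fin n → F)),
    LinearMap.toMatrixAlgEquiv' (e.symm : Module.End F (Fin n → F)), ?_, ?_⟩, ?_⟩
  · rw [← map_mul, show (e : Module.End F (Fin n → F)) * (e.symm : Module.End F (Fin n → F)) = 1 from
      LinearMap.ext fun x => e.apply_symm_apply x, map_one]
  · rw [← map_mul, show (e.symm : Module.End F (Fin n → F)) * (e : Module.End F (Fin n → F)) = 1 from
      LinearMap.ext fun x => e.symm_apply_apply x, map_one]
  · apply Matrix.toLinAlgEquiv'.injective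
    simp only [map_mul, Matrix.toLinAlgEquiv'_toMatrixAlgEquiv']
    exact LinearMap.ext fun x => he x

/-- An element of the general linear group of order prime to `p` is semisimple. -/
theorem isSemisimple_of_coprime {p : ℕ} [Fact p.Prime] [CharP F p] {n : ℕ} (x : GL (Fin n) F)
    (hx : (orderOf x).Coprime p) : Module.End.IsSemisimple (Matrix.toLinAlgEquiv' x.1) := by
  have hk : (orderOf x : F) ≠ 0 := by
    rw [Ne, CharP.cast_eq_zero_iff F p]
    exact fun h => (Fact.out : p.Prime).not_dvd_one (hx ▸ Nat.dvd_gcd h dvd_rfl)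
  refine Module.End.isSemisimple_of_squarefree_aeval_eq_zero
    (p := Polynomial.X ^ orderOf x - 1)
    (Polynomial.X_pow_sub_one_separable_iff.mpr hk).squarefree ?_
  rw [map_sub, map_pow, Polynomial.aeval_X, map_one, ← map_pow, ← Units.val_pow_eq_pow_val,
    pow_orderOf_eq_one, Units.val_one, map_one, sub_self]

variable [Fintype F]

/-- Over a finite field every monic polynomial of degree `n` is the characteristic polynomial of a
matrix equal to its own `q ^ N`-th power, where `N` is a multiple of all degrees up to `n`. -/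
theorem exists_matrix (N : ℕ) : ∀ (n : ℕ) (P : F[X]), P.Monic → P.natDegree = n →
    (∀ d, 0 < d → d ≤ n → d ∣ N) →
    ∃ M : Matrix (Fin n) (Fin n) F, M.charpoly = P ∧ M ^ (Fintype.card F ^ N) = M := by
  intro n
  induction n using Nat.strong_induction_on with
  | _ n ih =>
    intro P hP hd hN
    classical
    rcases Nat.eq_zero_or_pos n with rfl | hpos
    · refine ⟨0, ?_, Subsingleton.elim _ _⟩
      rw [Matrix.charpoly_isEmpty, hP.natDegree_eq_zero.mp hd]
    obtain ⟨m, hmm, hmi, c, hc⟩ := exists_monic_irreducible_factor P (by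
      intro hu
      have := natDegree_eq_zero_of_isUnit hu
      omega)
    have hcm : c.Monic := hmm.of_mul_monic_left (hc ▸ hP)
    have hsum : m.natDegree + c.natDegree = n := by rw [← hd, hc, hmm.natDegree_mul hcm]
    have hdm := hmi.natDegree_pos
    haveI : Fact (Irreducible m) := ⟨hmi⟩
    let pb := AdjoinRoot.powerBasis hmm.ne_zero
    haveI : Module.Finite F (AdjoinRoot m) := Module.Finite.of_basis pb.basis
    haveI : Finite (AdjoinRoot m) := Module.finite_of_finite F
    haveI : Fintype (AdjoinRoot m) := Fintype.ofFinite _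
    set A := Algebra.leftMulMatrix pb.basis pb.gen with hA
    have hAc : A.charpoly = m := by
      rw [hA, charpoly_leftMulMatrix, AdjoinRoot.powerBasis_gen, AdjoinRoot.minpoly_root hmm.ne_zero,
        hmm.leadingCoeff, inv_one, C_1, mul_one]
    have hAp : A ^ (Fintype.card F ^ N) = A := by
      rw [hA, ← map_pow]
      congr 1
      obtain ⟨k, hk⟩ := hN m.natDegree hdm (by omega)
      have hcard : Fintype.card (AdjoinRoot m) = Fintype.card F ^ m.natDegree := by
        rw [Module.card_fintype pb.basis, Fintype.card_fin]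
        rfl
      rw [hk, pow_mul, ← hcard, FiniteField.pow_card_pow]
    obtain ⟨B, hBc, hBp⟩ := ih c.natDegree (by omega) c hcm rfl fun d h1 h2 => hN d h1 (by omega)
    let e : Fin pb.dim ⊕ Fin c.natDegree ≃ Fin n :=
      finSumFinEquiv.trans (finCongr (show pb.dim + c.natDegree = n from hsum))
    refine ⟨Matrix.reindex e e (Matrix.fromBlocks A 0 0 B), ?_, ?_⟩
    · rw [Matrix.charpoly_reindex, Matrix.charpoly_fromBlocks_zero₁₂, hAc, hBc, hc]
    · rw [show Matrix.reindex e e (Matrix.fromBlocks A 0 0 B) =
        Matrix.reindexAlgEquiv F F e (Matrix.fromBlocks A 0 0 B) from rfl, ← map_pow,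
        Matrix.fromBlocks_diagonal_pow, hAp, hBp]

/-- An invertible matrix of order prime to `p` with a prescribed characteristic polynomial. -/
theorem exists_GL {p : ℕ} [Fact p.Prime] [CharP F p] {n : ℕ} (P : F[X]) (hP : P.Monic)
    (hd : P.natDegree = n) (h0 : P.coeff 0 ≠ 0) :
    ∃ g : GL (Fin n) F, g.1.charpoly = P ∧ (orderOf g).Coprime p := by
  obtain ⟨M, hMc, hMp⟩ := exists_matrix (Nat.factorial n) n P hP hd fun d h1 h2 => Nat.dvd_factorial h1 h2
  have hdet : M.det ≠ 0 := by
    rw [Matrix.det_eq_sign_charpoly_coeff, hMc]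
    exact mul_ne_zero (pow_ne_zero _ (neg_ne_zero.mpr one_ne_zero)) h0
  let g := Matrix.GeneralLinearGroup.mkOfDetNeZero M hdet
  refine ⟨g, hMc, ?_⟩
  obtain ⟨f, hp, hf⟩ := FiniteField.card F p
  have hQ : 1 ≤ Fintype.card F ^ Nat.factorial n := Nat.one_le_pow _ _ Fintype.card_pos
  have hone : g ^ (Fintype.card F ^ Nat.factorial n - 1) = 1 := by
    have : g ^ (Fintype.card F ^ Nat.factorial n) = g := Units.ext (by rw [Units.val_pow_eq_pow_val]; exact hMp)
    conv_lhs at this => rw [← Nat.sub_add_cancel hQ, pow_succ]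
    exact mul_eq_right.mp this
  refine Nat.Coprime.coprime_dvd_left (orderOf_dvd_of_pow_eq_one hone) ?_
  rw [Nat.coprime_comm, hp.coprime_iff_not_dvd]
  intro hdiv
  have hpQ : p ∣ Fintype.card F ^ Nat.factorial n :=
    dvd_pow (hf ▸ dvd_pow_self p f.ne_zero) (Nat.factorial_pos n).ne'
  have := Nat.dvd_sub hpQ hdiv
  rw [Nat.sub_sub_self hQ] at this
  exact hp.not_dvd_one this

/-- Monic polynomials of degree `k + 1` with a condition on the constant coefficient. -/
theorem card_monic (k : ℕ) (S : F → Prop) :
    Nat.card {P : F[X] // (P.Monic ∧ P.natDegree = k + 1) ∧ S (P.coeff 0)} =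
      Nat.card {a : F // S a} * Fintype.card F ^ k := by
  classical
  let e : {P : F[X] // P.Monic ∧ P.natDegree = k + 1} ≃ (Fin (k + 1) → F) :=
    (monicEquivDegreeLT (k + 1)).trans (degreeLTEquiv F (k + 1)).toEquiv
  have he : ∀ P, e P 0 = (P.1).coeff 0 := by
    rintro ⟨P, hm, hd⟩
    show (P.eraseLead).coeff 0 = P.coeff 0
    rw [eraseLead_coeff_of_ne]
    omega
  rw [Nat.card_congr ((Equiv.subtypeSubtypeEquivSubtypeInter _ (fun P : F[X] => S (P.coeff 0))).symm),
    Nat.card_congr (e.subtypeEquiv (q := fun c : Fin (k + 1) → F => S (c 0)) fun P => by rw [he])]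
  let e2 : {c : Fin (k + 1) → F // S (c 0)} ≃ {a : F // S a} × (Fin k → F) :=
    { toFun := fun c => (⟨c.1 0, c.2⟩, Fin.tail c.1)
      invFun := fun x => ⟨Fin.cons x.1.1 x.2, by simpa using x.1.2⟩
      left_inv := fun c => Subtype.ext (Fin.cons_self_tail c.1)
      right_inv := fun x => by ext <;> simp }
  rw [Nat.card_congr e2, Nat.card_prod, Nat.card_fun, Nat.card_eq_fintype_card (α := F), Nat.card_fin]

end CfsgLib.SemisimpleClasses
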