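/-
All transvections of SU(n,q), n at least 3, are conjugate.
-/
import Mathlib
import Cfsg.Agent.Lib.UnitarySimple
import Cfsg.Agent.Lib.IsotropicHerm
import Cfsg.Prelude.Def_ClassicalGeometry

set_option autoImplicit false

namespace CfsgLib.UnitaryTransConj

open Matrix CfsgLib.UnitaryTransvection CfsgLib.UnitarySimple

variable {F : Type*} [Field F] [Fintype F] {q n : ℕ} (hF : Fintype.card F = q ^ 2)

local notation "h" => Cfsg.hermForm n F q
local notation "σ" => frob hF

include hF in
theorem exists_unit_perp (hn : 3 ≤ n) {w : Fin n → F} (hw0 : w ≠ 0) :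
    ∃ u, h u u = 1 ∧ h w u = 0 := by
  obtain ⟨y, -, hy⟩ := exists_partner hF hw0
  let f : (Fin n → F) →ₗ[F] F :=
    { toFun := fun x => h x w, map_add' := fun a b => h_add_left a b w, map_smul' := fun c a => h_smul_left c a w }
  have hker : ¬ LinearMap.ker f ≤ Submodule.span F {w} := by
    intro hle
    have h1 := Submodule.finrank_mono hle
    rw [finrank_span_singleton hw0] at h1
    have h2 := LinearMap.finrank_range_add_finrank_ker f
    rw [Module.finrank_fin_fun] at h2
    have h3 : Module.finrank F (LinearMap.range f) ≤ 1 :=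
      (Submodule.finrank_le _).trans (Module.finrank_self F).le
    omega
  obtain ⟨a, ha, haw⟩ := SetLike.not_le_iff_exists.mp hker
  have hex : ∃ b, h b w = 0 ∧ h b b ≠ 0 := by
    by_contra hcon
    push Not at hcon
    have hab : ∀ b, h b w = 0 → h b a = 0 := by
      intro b hb
      -- polarise with scalars
      have key : ∀ t : F, t * h b a + σ (t * h b a) = 0 := by
        intro t
        have := hcon (t • b + a) (by rw [h_add_left, h_smul_left, hb, show h a w = 0 from ha, mul_zero, add_zero])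
        rw [h_add_left, h_add_right hF, h_add_right hF, h_smul_left, h_smul_left, h_smul_right hF, h_smul_right hF,
          hcon b hb, hcon a ha, ← h_swap hF b a] at this
        rw [map_mul]
        linear_combination this
      by_contra hne
      obtain ⟨d, hd⟩ := exists_trace_one hF
      have := key (d / h b a)
      rw [div_mul_cancel₀ _ hne] at this
      exact one_ne_zero (α := F) (by linear_combination this - hd)
    apply haw
    rw [Submodule.mem_span_singleton]
    refine ⟨σ (h y a), ?_⟩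
    apply sub_eq_zero.mp
    apply h_nondeg hF
    intro x
    rw [h_sub_left, h_smul_left, ← h_swap hF x a, ← h_swap hF x w]
    have := hab (x - h x w • y) (by rw [h_sub_left, h_smul_left, hy, mul_one, sub_self])
    rw [h_sub_left, h_smul_left, sub_eq_zero] at this
    rw [this, map_mul]
    ring
  obtain ⟨b, hbw, hbb⟩ := hex
  obtain ⟨t, ht⟩ := exists_norm_eq hF (h_swap hF b b)
  have ht0 : t ≠ 0 := fun e => hbb (by rw [← ht, e, zero_mul])
  refine ⟨t⁻¹ • b, ?_, ?_⟩
  · rw [h_smul_left, h_smul_right hF, map_inv₀, ← ht]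
    have : σ t ≠ 0 := fun e => hbb (by rw [← ht, e, mul_zero])
    field_simp
  · rw [h_smul_right hF, ← h_swap hF b w, hbw, map_zero, mul_zero]

include hF in
/-- `SU` is transitive on nonzero isotropic vectors. -/
theorem su_trans (hn : 3 ≤ n) {v w : Fin n → F} (hv0 : v ≠ 0) (hw0 : w ≠ 0) (hv : h v v = 0) (hw : h w w = 0) :
    ∃ g : Cfsg.SU n F q, mat g *ᵥ v = w := by
  have hli : ∀ {x : Fin n → F}, x ≠ 0 → LinearIndependent F (fun _ : Fin 1 => x) := fun {x} hx =>
    LinearIndependent.of_subsingleton 0 hx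
  obtain ⟨g, hg⟩ := IsotropicCount.herm_trans (n := n) hF (k := 1) ⟨fun _ => v, hli hv0, fun _ _ => hv⟩
    ⟨fun _ => w, hli hw0, fun _ _ => hw⟩
  obtain ⟨u, hu, hwu⟩ := exists_unit_perp hF hn hw0
  set d : F := g.1.1.det with hd
  have hdet : d * σ d = 1 := by
    have := UnitaryBasic.det_pow hF g.2
    rw [frob_apply, ← pow_succ']
    exact congrArg Units.val this
  have hd0 : d ≠ 0 := left_ne_zero_of_mul_eq_one hdet
  have hgood : Good hF u (d⁻¹ - 1) := by
    unfold Good
    rw [hu, map_sub, map_inv₀, map_one, mul_one]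
    have hs : σ d ≠ 0 := right_ne_zero_of_mul_eq_one hdet
    field_simp
    linear_combination -hdet
  refine ⟨mkSU (Cfsg.unitaryTransvection n q u (d⁻¹ - 1) * g.1.1)
    (fun a b => by rw [← mulVec_mulVec, ← mulVec_mulVec, tmat_isometry hF hgood, gu_h])
    (by rw [det_mul, det_tmat, hu, mul_one, add_sub_cancel, ← hd, inv_mul_cancel₀ hd0]), ?_⟩
  show (Cfsg.unitaryTransvection n q u (d⁻¹ - 1) * g.1.1) *ᵥ v = w
  rw [← mulVec_mulVec, show g.1.1 *ᵥ v = w from hg 0, tmat_mulVec, hwu, mul_zero, zero_smul, add_zero]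

include hF in
theorem eq_tv (s : Cfsg.SU n F q) (hs : Cfsg.IsTransvection (mat s)) :
    ∃ (z : Fin n → F) (c : F) (hz : h z z = 0) (hc : c + σ c = 0), z ≠ 0 ∧ c ≠ 0 ∧ s = tv hF z hz c hc := by
  obtain ⟨hr, hsq⟩ := hs
  set N := mat s - 1 with hN
  obtain ⟨z0, hz0, hspan⟩ := finrank_eq_one_iff'.mp (show Module.finrank F (LinearMap.range N.mulVecLin) = 1 from hr)
  set z : Fin n → F := z0.1 with hz
  obtain ⟨y, hy⟩ := z0.2
  have hy' : N *ᵥ y = z := hy
  have hl : ∀ x, ∃ l : F, N *ᵥ x = l • z := fun x => by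
    obtain ⟨l, hl⟩ := hspan ⟨N *ᵥ x, x, rfl⟩
    exact ⟨l, (congrArg Subtype.val hl).symm⟩
  have hNz : N *ᵥ z = 0 := by rw [← hy', mulVec_mulVec, hsq, zero_mulVec]
  have hiso : ∀ a b, h (N *ᵥ a) b + h a (N *ᵥ b) + h (N *ᵥ a) (N *ᵥ b) = 0 := by
    intro a b
    have h1 := su_h s a b
    rw [show mat s = N + 1 from (sub_add_cancel _ _).symm, add_mulVec, one_mulVec, add_mulVec, one_mulVec,
      h_add_left, h_add_right hF, h_add_right hF] at h1
    linear_combination h1
  have hzz : h z z = 0 := by
    have := hiso y z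
    have h0 : ∀ a, h a (0 : Fin n → F) = 0 := fun a => by
      rw [← zero_smul F z, h_smul_right hF, map_zero, zero_mul]
    rw [hNz, hy', h0, h0, add_zero, add_zero] at this
    exact this
  have hzne : z ≠ 0 := fun e => hz0 (Subtype.ext e)
  have hkey : ∀ x l, N *ᵥ x = l • z → l * h z y = - h x z := by
    intro x l hl
    have := hiso x y
    rw [hl, hy', h_smul_left, h_smul_left, hzz, mul_zero, add_zero] at this
    linear_combination this
  have hzy : h z y ≠ 0 := by
    intro e
    apply hzne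
    apply h_nondeg hF
    intro x
    obtain ⟨l, hl⟩ := hl x
    have := hkey x l hl
    rw [e, mul_zero] at this
    rw [← h_swap hF x z, neg_eq_zero.mp this.symm, map_zero]
  set c := -(h z y)⁻¹ with hc
  have hM : ∀ x, mat s *ᵥ x = Cfsg.unitaryTransvection n q z c *ᵥ x := by
    intro x
    obtain ⟨l, hl⟩ := hl x
    have := hkey x l hl
    rw [show mat s = N + 1 from (sub_add_cancel _ _).symm, add_mulVec, one_mulVec, tmat_mulVec, hl, add_comm]
    congr 2
    rw [hc]
    field_simp
    linear_combination this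
  have hskew : c + σ c = 0 := skew_of_tmat hF hzz hzne fun a b => by rw [← hM, ← hM, su_h]
  exact ⟨z, c, hzz, hskew, hzne, neg_ne_zero.mpr (inv_ne_zero hzy), su_ext fun x => (hM x).trans rfl⟩

include hF in
theorem conj_of_transvection (hn : 3 ≤ n) (s t : Cfsg.SU n F q) (hs : Cfsg.IsTransvection (mat s))
    (ht : Cfsg.IsTransvection (mat t)) : IsConj s t := by
  obtain ⟨z, c, hz, hc, hz0, hc0, rfl⟩ := eq_tv hF s hs
  obtain ⟨w, d, hw, hd, hw0, hd0, rfl⟩ := eq_tv hF t ht
  have hfix : σ (c / d) = c / d := by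
    rw [map_div₀, show σ c = -c by linear_combination hc, show σ d = -d by linear_combination hd, neg_div_neg_eq]
  obtain ⟨r, hr⟩ := exists_norm_eq hF hfix
  have hr0 : r ≠ 0 := fun e => div_ne_zero hc0 hd0 (by rw [← hr, e, zero_mul])
  have hrz : h (r • z) (r • z) = 0 := by rw [h_smul_left, h_smul_right hF, hz]; ring
  have he : tv hF z hz c hc = tv hF (r • z) hrz d hd := by
    refine su_ext fun x => ?_
    rw [tv_mulVec, tv_mulVec, smul_smul, h_smul_right hF]
    congr 2
    rw [eq_div_iff hd0] at hr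
    linear_combination -(h x z) * hr
  obtain ⟨g, hg⟩ := su_trans hF hn (smul_ne_zero hr0 hz0) hw0 hrz hw
  rw [he, isConj_iff]
  refine ⟨g, ?_⟩
  rw [conj_tv]
  exact su_ext fun x => by rw [tv_mulVec, tv_mulVec, hg]

end CfsgLib.UnitaryTransConj
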