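import Mathlib
import Cfsg.Prelude.Def_Classical

/-! The Plücker action on alternating `4 × 4` matrices. -/

set_option autoImplicit false

namespace CfsgLib.Plucker

open Matrix

variable {F : Type*} [Field F]

/-- The strictly upper triangular part. -/
def U (v : Fin 3 ⊕ Fin 3 → F) : Matrix (Fin 4) (Fin 4) F :=
  !![0, v (Sum.inl 0), v (Sum.inl 1), v (Sum.inl 2);
     0, 0, v (Sum.inr 2), -v (Sum.inr 1);
     0, 0, 0, v (Sum.inr 0);
     0, 0, 0, 0]

/-- The alternating matrix with given Plücker coordinates. -/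
def toA (v : Fin 3 ⊕ Fin 3 → F) : Matrix (Fin 4) (Fin 4) F := U v - (U v)ᵀ

/-- Plücker coordinates. -/
def vec (M : Matrix (Fin 4) (Fin 4) F) : Fin 3 ⊕ Fin 3 → F :=
  Sum.elim ![M 0 1, M 0 2, M 0 3] ![M 2 3, M 3 1, M 1 2]

theorem vec_toA (v : Fin 3 ⊕ Fin 3 → F) : vec (toA v) = v := funext fun s => by
  rcases s with i | i <;> fin_cases i <;> simp [vec, toA, U]

theorem toA_vec (B : Matrix (Fin 4) (Fin 4) F) : toA (vec (B - Bᵀ)) = B - Bᵀ := by
  ext i j
  fin_cases i <;> fin_cases j <;> simp [vec, toA, U]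

theorem toA_injective : Function.Injective (toA (F := F)) := fun u v h => by
  rw [← vec_toA u, h, vec_toA]

theorem toA_add (u v : Fin 3 ⊕ Fin 3 → F) : toA (u + v) = toA u + toA v := by
  ext i j
  fin_cases i <;> fin_cases j <;> simp [toA, U] <;> ring

theorem toA_smul (c : F) (v : Fin 3 ⊕ Fin 3 → F) : toA (c • v) = c • toA v := by
  ext i j
  fin_cases i <;> fin_cases j <;> simp [toA, U] <;> ring

theorem vec_add (M N : Matrix (Fin 4) (Fin 4) F) : vec (M + N) = vec M + vec N := funext fun s => by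
  rcases s with i | i <;> fin_cases i <;> simp [vec]

theorem vec_smul (c : F) (M : Matrix (Fin 4) (Fin 4) F) : vec (c • M) = c • vec M := funext fun s => by
  rcases s with i | i <;> fin_cases i <;> simp [vec]

/-- The action of a `4 × 4` matrix. -/
def T (g : Matrix (Fin 4) (Fin 4) F) : (Fin 3 ⊕ Fin 3 → F) →ₗ[F] (Fin 3 ⊕ Fin 3 → F) where
  toFun v := vec (g * toA v * gᵀ)
  map_add' u v := by rw [toA_add, Matrix.mul_add, Matrix.add_mul, vec_add]
  map_smul' c v := by rw [toA_smul, Matrix.mul_smul, Matrix.smul_mul, vec_smul]; rfl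

theorem toA_T (g : Matrix (Fin 4) (Fin 4) F) (v : Fin 3 ⊕ Fin 3 → F) :
    toA (T g v) = g * toA v * gᵀ := by
  have e : g * toA v * gᵀ = g * U v * gᵀ - (g * U v * gᵀ)ᵀ := by
    simp only [toA, Matrix.mul_sub, Matrix.sub_mul, Matrix.transpose_mul, Matrix.transpose_transpose,
      Matrix.mul_assoc]
  show toA (vec _) = _
  rw [e, toA_vec]

theorem T_one : T (1 : Matrix (Fin 4) (Fin 4) F) = LinearMap.id := LinearMap.ext fun v =>
  toA_injective (by rw [toA_T, Matrix.transpose_one, Matrix.one_mul, Matrix.mul_one]; rfl)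

theorem T_mul (g h : Matrix (Fin 4) (Fin 4) F) : T (g * h) = T g ∘ₗ T h :=
  LinearMap.ext fun v => toA_injective (by
    rw [LinearMap.comp_apply, toA_T, toA_T, toA_T, Matrix.transpose_mul]
    simp only [Matrix.mul_assoc])

set_option maxHeartbeats 1600000 in
theorem form_T (g : Matrix (Fin 4) (Fin 4) F) (v : Fin 3 ⊕ Fin 3 → F) :
    Cfsg.quadFormPlus 3 F (T g v) = g.det * Cfsg.quadFormPlus 3 F v := by
  rw [Matrix.det_succ_row_zero]
  simp [Cfsg.quadFormPlus, T, vec, toA, U, Matrix.mul_apply, Fin.sum_univ_succ, Matrix.det_fin_three,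
    Fin.succAbove]
  ring

/-- Only scalars `±1` act trivially. -/
theorem T_eq_id_iff {g : Matrix (Fin 4) (Fin 4) F} (hg : g.det ≠ 0) :
    T g = LinearMap.id ↔ ∃ r : F, r * r = 1 ∧ g = Matrix.scalar (Fin 4) r := by
  constructor
  · intro h
    have key : ∀ B : Matrix (Fin 4) (Fin 4) F, g * (B - Bᵀ) * gᵀ = B - Bᵀ := fun B => by
      rw [← toA_vec B, ← toA_T, h]; rfl
    have hu : IsUnit gᵀ.det := by rw [Matrix.det_transpose]; exact isUnit_iff_ne_zero.mpr hg
    have hoff : ∀ a i j : Fin 4, a ≠ i → a ≠ j → i ≠ j → g a i = 0 := by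
      intro a i j hai haj hij
      have hk := congrArg (fun X => X * gᵀ⁻¹) (key (Matrix.single i j 1))
      simp only [Matrix.mul_assoc, Matrix.mul_nonsing_inv _ hu, Matrix.mul_one] at hk
      have hk' := congrFun (congrFun hk a) j
      simpa [Matrix.mul_sub, Matrix.sub_mul, Matrix.transpose_single, hai, haj, hij,
        Matrix.single_mul_apply_of_ne, Ne.symm hai, Ne.symm haj, Ne.symm hij] using hk'
    have hdiag : ∀ a i : Fin 4, a ≠ i → g a i = 0 := fun a i hai => by
      obtain ⟨j, hj1, hj2⟩ : ∃ j : Fin 4, a ≠ j ∧ i ≠ j := by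
        revert a i hai; decide
      exact hoff a i j hai hj1 hj2
    have hdd : g = Matrix.diagonal fun i => g i i := Matrix.ext fun a i => by
      by_cases e : a = i
      · subst e; simp
      · rw [Matrix.diagonal_apply_ne _ e, hdiag a i e]
    have hpair : ∀ i j : Fin 4, i ≠ j → g i i * g j j = 1 := fun i j hij => by
      have hk := congrFun (congrFun (key (Matrix.single i j 1)) i) j
      rw [hdd, Matrix.diagonal_transpose] at hk
      simpa [Matrix.diagonal_mul, Matrix.mul_diagonal, Matrix.transpose_single,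
        hij, Ne.symm hij] using hk
    have hsq : g 0 0 * g 0 0 = 1 := by
      have e1 := hpair 0 1 (by decide)
      have e2 := hpair 1 2 (by decide)
      have e3 := hpair 0 2 (by decide)
      linear_combination e1 + (g 0 0 * g 0 0) * (-1 : F) * e2 + (g 0 0 * g 1 1) * e3
    refine ⟨g 0 0, hsq, hdd.trans ?_⟩
    rw [Matrix.scalar_apply]
    congr 1
    funext i
    by_cases hi : i = 0
    · rw [hi]
    · calc g i i = (g 0 0 * g 0 0) * g i i := by rw [hsq, one_mul]
        _ = g 0 0 := by rw [mul_assoc, hpair 0 i (Ne.symm hi), mul_one]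
  · rintro ⟨r, hr, rfl⟩
    refine LinearMap.ext fun v => toA_injective ?_
    rw [toA_T, LinearMap.id_apply, Matrix.scalar_apply, Matrix.diagonal_transpose]
    ext i j
    rw [Matrix.mul_diagonal, Matrix.diagonal_mul]
    linear_combination (toA v i j) * hr

end CfsgLib.Plucker
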