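import Mathlib
import Cfsg.Agent.Lib.FiniteForms.Restrict

/-! The quadratic extension attached to an anisotropic binary form. -/

set_option autoImplicit false

namespace CfsgLib.QuadExt

open CfsgLib.FiniteForms

/-- Data of a quadratic extension realising `z₁² + a z₁ z₂ + b z₂²` as a norm. -/
structure Data {F K : Type*} [Field F] [Field K] (a b : F) where
  i : F →+* K
  σ : K →+* K
  τ : K
  sq : ∀ x, σ (σ x) = x
  fixed : ∀ x, σ x = x ↔ ∃ r, i r = x
  trace : τ + σ τ = i a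
  norm : τ * σ τ = i b
  coord : ∀ w, ∃ z : Fin 2 → F, w = i (z 0) + i (z 1) * τ

theorem exists_data {F K : Type*} [Field F] [Fintype F] [Field K] [Fintype K] {q : ℕ}
    (hF : Fintype.card F = q) (hK : Fintype.card K = q ^ 2) (a b : F)
    (hab : ∀ z₁ z₂ : F, z₁ ^ 2 + a * z₁ * z₂ + b * z₂ ^ 2 = 0 → z₁ = 0 ∧ z₂ = 0) :
    ∃ D : Data (K := K) a b, ∀ x, D.σ x = x ^ q := by
  obtain ⟨i, w, hw, hwi⟩ := exists_embedding_root hK hF (-a) b fun r hr =>
    one_ne_zero (hab (-r) 1 (by linear_combination hr)).2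
  obtain ⟨σ, hord, hσ, hfix⟩ := quadratic_data hK hF i
  letI := i.toAlgebra
  obtain ⟨c, hc⟩ := exists_coords hK hF (w := w) hwi
  have hsq : ∀ x, σ (σ x) = x := fun x => by
    have h := congrArg (fun e : RingAut K => e x) (pow_orderOf_eq_one σ)
    rwa [hord, pow_two] at h
  have hi : ∀ r, σ (i r) = i r := fun r => (hfix _).mpr ⟨r, rfl⟩
  rw [map_neg] at hw
  have hw' := congrArg σ hw
  rw [map_add, map_add, map_mul, map_pow, map_neg, hi, hi, map_zero] at hw'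
  have hne : σ w - w ≠ 0 := sub_ne_zero.mpr fun h => hwi ((hfix w).mp h)
  have htr : w + σ w = i a := by
    refine mul_left_cancel₀ hne ?_
    linear_combination hw' - hw
  exact ⟨⟨i, σ.toRingHom, w, hsq, fun x => (hfix x).trans RingHom.mem_range, htr,
    by show w * σ w = i b; linear_combination w * htr - hw, fun x => ⟨c x, hc x⟩⟩, hσ⟩

variable {F K : Type*} [Field F] [Field K] {a b : F} (D : Data (K := K) a b)

theorem Data.σ_i (r : F) : D.σ (D.i r) = D.i r := (D.fixed _).mpr ⟨r, rfl⟩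

theorem Data.norm_coord (z₀ z₁ : F) :
    (D.i z₀ + D.i z₁ * D.τ) * D.σ (D.i z₀ + D.i z₁ * D.τ) =
      D.i (z₀ ^ 2 + a * z₀ * z₁ + b * z₁ ^ 2) := by
  simp only [map_add, map_mul, map_pow, D.σ_i]
  linear_combination (D.i z₀ * D.i z₁) * D.trace + (D.i z₁ ^ 2) * D.norm

theorem Data.coord_inj (hab : ∀ z₁ z₂ : F, z₁ ^ 2 + a * z₁ * z₂ + b * z₂ ^ 2 = 0 → z₁ = 0 ∧ z₂ = 0)
    {z₀ z₁ y₀ y₁ : F} (h : D.i z₀ + D.i z₁ * D.τ = D.i y₀ + D.i y₁ * D.τ) : z₀ = y₀ ∧ z₁ = y₁ := by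
  have h0 : D.i (z₀ - y₀) + D.i (z₁ - y₁) * D.τ = 0 := by
    simp only [map_sub]; linear_combination h
  have := D.norm_coord (z₀ - y₀) (z₁ - y₁)
  rw [h0, zero_mul, eq_comm, map_eq_zero] at this
  obtain ⟨e0, e1⟩ := hab _ _ this
  exact ⟨sub_eq_zero.mp e0, sub_eq_zero.mp e1⟩

end CfsgLib.QuadExt
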