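/-
Subgroups generated by symplectic pairs modulo a central involution are extraspecial.
-/
import Cfsg.Agent.Lib.ExtraspecialTwo
import Cfsg.Agent.Lib.LargeExtra.Odd

set_option autoImplicit false
set_option linter.unusedSectionVars false

namespace CfsgLib.SymplecticFrame

open Subgroup

universe u

variable {A : Type u} [Group A] [Finite A] {n : ℕ} {J : A} {g : Fin n × Bool → A}

/-- Pairs of elements with commutator `J` inside a pair and trivial between pairs. -/
structure IsFrame (J : A) (g : Fin n × Bool → A) : Prop where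
  jj : J * J = 1
  jne : J ≠ 1
  jcomm : ∀ k, J * g k = g k * J
  sq : ∀ k, g k * g k = 1 ∨ g k * g k = J
  comm : ∀ k l, g k * g l * (g k)⁻¹ * (g l)⁻¹ = if k.1 = l.1 ∧ k ≠ l then J else 1

variable (J g) in
/-- The subgroup generated by the pairs and the involution. -/
def span : Subgroup A := Subgroup.closure (insert J (Set.range g))

theorem j_mem : J ∈ span J g := Subgroup.subset_closure (Set.mem_insert _ _)

theorem g_mem (k : Fin n × Bool) : g k ∈ span J g :=
  Subgroup.subset_closure (Set.mem_insert_of_mem _ (Set.mem_range_self k))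

omit [Finite A] in
theorem zmem (h : IsFrame J g) {y : A} : y ∈ Subgroup.zpowers J ↔ y = 1 ∨ y = J := by
  refine ⟨fun hy => ?_, ?_⟩
  · obtain ⟨k, rfl⟩ := Subgroup.mem_zpowers_iff.mp hy
    rcases Int.even_or_odd k with ⟨l, rfl⟩ | ⟨l, rfl⟩
    · exact Or.inl (by rw [← two_mul, zpow_mul, zpow_two, h.jj, one_zpow])
    · exact Or.inr (by rw [zpow_add, zpow_mul, zpow_two, h.jj, one_zpow, one_mul, zpow_one])
  · rintro (rfl | rfl)
    exacts [one_mem _, Subgroup.mem_zpowers _]

theorem IsFrame.j_central (h : IsFrame J g) {x : A} (hx : x ∈ span J g) : J * x = x * J := by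
  have : span J g ≤ Subgroup.centralizer ({J} : Set A) := by
    rw [span, Subgroup.closure_le]
    rintro _ (rfl | ⟨k, rfl⟩) <;> refine Subgroup.mem_centralizer_singleton_iff.mpr ?_
    · rfl
    · exact (h.jcomm k).symm
  exact (Subgroup.mem_centralizer_singleton_iff.mp (this hx)).symm

theorem IsFrame.z_central (h : IsFrame J g) {x z : A} (hx : x ∈ span J g) (hz : z ∈ Subgroup.zpowers J) :
    z * x = x * z := by
  rcases (zmem h).mp hz with rfl | rfl
  · simp
  · exact h.j_central hx

/-- The commutator with a member of the frame. -/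
theorem IsFrame.comm_mem (h : IsFrame J g) {x : A} (hx : x ∈ span J g) (l : Fin n × Bool) :
    x * g l * x⁻¹ * (g l)⁻¹ ∈ Subgroup.zpowers J := by
  induction hx using Subgroup.closure_induction with
  | mem v hv =>
    rcases hv with rfl | ⟨k, rfl⟩
    · rw [h.jcomm l]; simp
    · rw [h.comm k l]
      split_ifs
      exacts [Subgroup.mem_zpowers _, one_mem _]
  | one => simp
  | mul p q hp hq ihp ihq =>
    rw [show p * q * g l * (p * q)⁻¹ * (g l)⁻¹ =
      p * (q * g l * q⁻¹ * (g l)⁻¹) * p⁻¹ * (p * g l * p⁻¹ * (g l)⁻¹) by group]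
    refine mul_mem ?_ ihp
    rw [← h.z_central hp ihq, mul_inv_cancel_right]
    exact ihq
  | inv p hp ihp =>
    rw [show p⁻¹ * g l * p⁻¹⁻¹ * (g l)⁻¹ = p⁻¹ * (p * g l * p⁻¹ * (g l)⁻¹)⁻¹ * p⁻¹⁻¹ by group,
      ← h.z_central (inv_mem hp) (inv_mem ihp), mul_inv_cancel_right]
    exact inv_mem ihp

theorem IsFrame.comm_all (h : IsFrame J g) {x y : A} (hx : x ∈ span J g) (hy : y ∈ span J g) :
    x * y * x⁻¹ * y⁻¹ ∈ Subgroup.zpowers J := by
  induction hy using Subgroup.closure_induction with
  | mem v hv =>
    rcases hv with rfl | ⟨k, rfl⟩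
    · rw [← h.j_central hx]; simp
    · exact h.comm_mem hx k
  | one => simp
  | mul p q hp hq ihp ihq =>
    rw [show x * (p * q) * x⁻¹ * (p * q)⁻¹ =
      (x * p * x⁻¹ * p⁻¹) * (p * (x * q * x⁻¹ * q⁻¹) * p⁻¹) by group]
    refine mul_mem ihp ?_
    rw [← h.z_central hp ihq, mul_inv_cancel_right]
    exact ihq
  | inv p hp ihp =>
    rw [show x * p⁻¹ * x⁻¹ * p⁻¹⁻¹ = p⁻¹ * (x * p * x⁻¹ * p⁻¹)⁻¹ * p⁻¹⁻¹ by group,
      ← h.z_central (inv_mem hp) (inv_mem ihp), mul_inv_cancel_right]
    exact inv_mem ihp

theorem IsFrame.sq_all (h : IsFrame J g) {x : A} (hx : x ∈ span J g) : x * x ∈ Subgroup.zpowers J := by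
  induction hx using Subgroup.closure_induction with
  | mem v hv =>
    rcases hv with rfl | ⟨k, rfl⟩
    · rw [h.jj]; exact one_mem _
    · exact (zmem h).mpr (h.sq k)
  | one => simp
  | mul p q hp hq ihp ihq =>
    have hc := h.comm_all hq hp
    rw [show p * q * (p * q) = p * (q * p * q⁻¹ * p⁻¹) * p * (q * q) by group, ← h.z_central hp hc,
      mul_assoc _ p p]
    exact mul_mem (mul_mem hc ihp) ihq
  | inv p hp ihp => rw [← _root_.mul_inv_rev]; exact inv_mem ihp

/-- Adjoining a normalising element with square in the subgroup at most doubles it. -/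
theorem card_adjoin_le {S : Set A} {x : A} (hn : ∀ y ∈ S, x * y * x⁻¹ ∈ Subgroup.closure S)
    (hn' : ∀ y ∈ S, x⁻¹ * y * x ∈ Subgroup.closure S) (hx : x * x ∈ Subgroup.closure S) :
    Nat.card (Subgroup.closure (insert x S)) ≤ 2 * Nat.card (Subgroup.closure S) := by
  set H := Subgroup.closure S
  have hN : ∀ y ∈ H, x * y * x⁻¹ ∈ H := by
    have : H ≤ H.comap (MulAut.conj x).toMonoidHom := (Subgroup.closure_le _).mpr fun y hy => hn y hy
    exact fun y hy => this hy
  have hN' : ∀ y ∈ H, x⁻¹ * y * x ∈ H := by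
    have : H ≤ H.comap (MulAut.conj x⁻¹).toMonoidHom := (Subgroup.closure_le _).mpr fun y hy => by
      show x⁻¹ * y * x⁻¹⁻¹ ∈ H
      rw [inv_inv]; exact hn' y hy
    intro y hy
    have h1 : x⁻¹ * y * x⁻¹⁻¹ ∈ H := this hy
    rwa [inv_inv] at h1
  let M : Subgroup A :=
    { carrier := {z | z ∈ H ∨ x⁻¹ * z ∈ H}
      one_mem' := Or.inl (one_mem _)
      mul_mem' := fun {p q} hp hq => by
        rcases hp with hp | hp <;> rcases hq with hq | hq
        · exact Or.inl (mul_mem hp hq)
        · refine Or.inr ?_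
          have := mul_mem (hN' p hp) hq
          simpa [mul_assoc] using this
        · exact Or.inr (by rw [← mul_assoc]; exact mul_mem hp hq)
        · refine Or.inl ?_
          have := mul_mem (mul_mem (hN _ hp) hx) hq
          simpa [mul_assoc] using this
      inv_mem' := fun {p} hp => by
        rcases hp with hp | hp
        · exact Or.inl (inv_mem hp)
        · refine Or.inr ?_
          have := mul_mem (inv_mem hx) (hN _ (inv_mem hp))
          simpa [mul_assoc] using this }
  have hle : Subgroup.closure (insert x S) ≤ M := by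
    rw [Subgroup.closure_le]
    rintro _ (rfl | hy)
    · exact Or.inr (by rw [inv_mul_cancel]; exact one_mem _)
    · exact Or.inl (Subgroup.subset_closure hy)
  refine (Subgroup.card_le_of_le hle).trans ?_
  have e : (M : Set A) ⊆ (H : Set A) ∪ (fun z => x * z) '' (H : Set A) := by
    rintro z (hz | hz)
    · exact Or.inl hz
    · exact Or.inr ⟨_, hz, mul_inv_cancel_left x z⟩
  have h1 := (Set.ncard_le_ncard e (Set.toFinite _)).trans (Set.ncard_union_le _ _)
  have h2 := Set.ncard_image_le (f := fun z => x * z) (Set.toFinite (H : Set A))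
  have h3 : (H : Set A).ncard = Nat.card H := (Nat.card_coe_set_eq _).symm
  have h4 : (M : Set A).ncard = Nat.card M := (Nat.card_coe_set_eq _).symm
  omega

theorem IsFrame.card_le (h : IsFrame J g) : Nat.card (span J g) ≤ 2 ^ (2 * n + 1) := by
  classical
  have key : ∀ s : Finset (Fin n × Bool),
      Nat.card (Subgroup.closure (insert J (g '' (s : Set (Fin n × Bool))))) ≤ 2 ^ (s.card + 1) := by
    intro s
    induction s using Finset.induction_on with
    | empty =>
      have : (∅ : Finset (Fin n × Bool)).card = 0 := rfl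
      rw [Finset.coe_empty, Set.image_empty, ← Set.singleton_def, ← Subgroup.zpowers_eq_closure, Nat.card_zpowers,
        orderOf_eq_prime (p := 2) (by rw [pow_two]; exact h.jj) h.jne, this]
      norm_num
    | @insert a s ha ih =>
      rw [Finset.card_insert_of_notMem ha, Finset.coe_insert, Set.image_insert_eq, Set.insert_comm]
      set S := insert J (g '' (s : Set (Fin n × Bool)))
      have hS : Subgroup.closure S ≤ span J g := Subgroup.closure_mono
        (Set.insert_subset_insert (Set.image_subset_range _ _))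
      have hz : Subgroup.zpowers J ≤ Subgroup.closure S :=
        Subgroup.zpowers_le.mpr (Subgroup.subset_closure (Set.mem_insert _ _))
      have hconj : ∀ w ∈ span J g, ∀ y ∈ S, w * y * w⁻¹ ∈ Subgroup.closure S := fun w hw y hy => by
        have h1 := mul_mem (hz (h.comm_all hw (hS (Subgroup.subset_closure hy)))) (Subgroup.subset_closure hy)
        rwa [inv_mul_cancel_right] at h1
      refine (card_adjoin_le (hconj _ (g_mem a)) (fun y hy => ?_) (hz ((zmem h).mpr (h.sq a)))).trans ?_
      · have := hconj _ (inv_mem (g_mem a)) y hy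
        rwa [inv_inv] at this
      · rw [pow_succ, mul_comm _ 2]; omega
  have := key Finset.univ
  rwa [Finset.coe_univ, Set.image_univ, Finset.card_univ, Fintype.card_prod, Fintype.card_fin, Fintype.card_bool,
    mul_comm] at this

/-- The commutators with the frame. -/
def IsFrame.pairing (h : IsFrame J g) : span J g →* (Fin n × Bool → A) where
  toFun x := fun l => (x : A) * g l * (x : A)⁻¹ * (g l)⁻¹
  map_one' := by funext l; simp
  map_mul' x y := funext fun l => by
    simp only [Subgroup.coe_mul, Pi.mul_apply]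
    rw [show (x : A) * y * g l * ((x : A) * y)⁻¹ * (g l)⁻¹ =
      x * ((y : A) * g l * (y : A)⁻¹ * (g l)⁻¹) * (x : A)⁻¹ * ((x : A) * g l * (x : A)⁻¹ * (g l)⁻¹) by group,
      ← h.z_central x.2 (h.comm_mem y.2 l), mul_inv_cancel_right]
    have hin : (x : A) * g l * (x : A)⁻¹ * (g l)⁻¹ ∈ span J g :=
      mul_mem (mul_mem (mul_mem x.2 (g_mem l)) (inv_mem x.2)) (inv_mem (g_mem l))
    exact h.z_central hin (h.comm_mem y.2 l)

theorem IsFrame.structure' (h : IsFrame J g) :
    Nat.card (span J g) = 2 ^ (2 * n + 1) ∧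
      ∀ x ∈ span J g, (∀ l, x * g l = g l * x) → x = 1 ∨ x = J := by
  classical
  set f := h.pairing
  have hrange : ∀ s : Finset (Fin n × Bool), ∀ v : Fin n × Bool → A, (∀ l, v l = 1 ∨ v l = J) →
      (∀ l, l ∉ s → v l = 1) → v ∈ f.range := by
    intro s
    induction s using Finset.induction_on with
    | empty =>
      intro v _ hv0
      rw [show v = 1 from funext fun l => hv0 l (Finset.notMem_empty l)]
      exact one_mem _
    | @insert a s ha ih =>
      intro v hv hv0
      rcases hv a with e | e
      · refine ih v hv fun l hl => ?_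
        by_cases hla : l = a
        · rw [hla, e]
        · exact hv0 l (by simp [hl, hla])
      · have hp : f ⟨g (a.1, !a.2), g_mem _⟩ = Pi.mulSingle a J := by
          funext l
          show g (a.1, !a.2) * g l * (g (a.1, !a.2))⁻¹ * (g l)⁻¹ = _
          rw [h.comm, Pi.mulSingle_apply]
          by_cases hla : l = a
          · subst hla
            rw [if_pos rfl, if_pos ⟨rfl, fun e' => Bool.not_ne_self _ (congrArg Prod.snd e')⟩]
          · rw [if_neg hla, if_neg]
            rintro ⟨e1, e2⟩
            obtain ⟨l1, l2⟩ := l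
            obtain ⟨a1, a2⟩ := a
            simp only at e1
            subst e1
            cases l2 <;> cases a2 <;> simp_all
        have h1 := ih (fun l => if l = a then 1 else v l) (fun l => by
          by_cases hla : l = a
          · simp [hla]
          · simpa [hla] using hv l) (fun l hl => by
          by_cases hla : l = a
          · simp [hla]
          · simpa [hla] using hv0 l (by simp [hl, hla]))
        have h2 := mul_mem (MonoidHom.mem_range.mpr ⟨_, hp⟩) h1
        convert h2 using 1
        funext l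
        by_cases hla : l = a
        · subst hla; simp [e]
        · simp [hla]
  have hr : 2 ^ (2 * n) ≤ Nat.card f.range := by
    let ι : (Fin n × Bool → Bool) → f.range := fun b => ⟨fun l => if b l then J else 1,
      hrange Finset.univ _ (fun l => by by_cases hb : b l = true <;> simp [hb]) fun l hl => absurd (Finset.mem_univ l) hl⟩
    have hι : Function.Injective ι := fun b b' e => funext fun l => by
      have e' : (if b l then J else 1) = (if b' l then J else 1) := congrFun (congrArg Subtype.val e) l
      cases hb : b l <;> cases hb' : b' l <;> simp_all [h.jne, h.jne.symm]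
    have := Nat.card_le_card_of_injective ι hι
    simpa [Nat.card_eq_fintype_card, Fintype.card_prod, mul_comm] using this
  have hk : (⟨J, j_mem⟩ : span J g) ∈ f.ker := by
    refine MonoidHom.mem_ker.mpr (funext fun l => ?_)
    show J * g l * J⁻¹ * (g l)⁻¹ = 1
    rw [h.jcomm l]; simp
  have hk2 : 2 ≤ Nat.card f.ker := by
    have : Nontrivial f.ker := ⟨⟨⟨_, hk⟩, 1, fun e => h.jne (congrArg (fun v : f.ker => ((v : span J g) : A)) e)⟩⟩
    exact Finite.one_lt_card
  have hmul : Nat.card (span J g) = Nat.card f.ker * Nat.card f.range := by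
    rw [Subgroup.card_eq_card_quotient_mul_card_subgroup f.ker,
      Nat.card_congr (QuotientGroup.quotientKerEquivRange f).toEquiv, mul_comm]
  have hle := h.card_le
  have hge : 2 * 2 ^ (2 * n) ≤ Nat.card (span J g) := hmul ▸ Nat.mul_le_mul hk2 hr
  have hcard : Nat.card (span J g) = 2 ^ (2 * n + 1) := by rw [pow_succ] at hle ⊢; omega
  refine ⟨hcard, fun x hx hc => ?_⟩
  have hker : Nat.card f.ker = 2 := by
    refine le_antisymm ?_ hk2
    have h1 : Nat.card f.ker * 2 ^ (2 * n) ≤ Nat.card (span J g) := hmul ▸ Nat.mul_le_mul_left _ hr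
    rw [hcard, pow_succ, mul_comm (2 ^ (2 * n)) 2] at h1
    exact Nat.le_of_mul_le_mul_right h1 (by positivity)
  have hx' : (⟨x, hx⟩ : span J g) ∈ f.ker := MonoidHom.mem_ker.mpr (funext fun l => by
    show x * g l * x⁻¹ * (g l)⁻¹ = 1
    rw [hc l]; group)
  obtain ⟨w, -, huniq⟩ := (Nat.card_eq_two_iff' (1 : f.ker)).mp hker
  by_cases hx1 : x = 1
  · exact Or.inl hx1
  · right
    have e1 := huniq ⟨_, hx'⟩ fun e => hx1 (congrArg (fun v : f.ker => ((v : span J g) : A)) e)
    have e2 := huniq ⟨_, hk⟩ fun e => h.jne (congrArg (fun v : f.ker => ((v : span J g) : A)) e)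
    exact congrArg (fun v : f.ker => ((v : span J g) : A)) (e1.trans e2.symm)

theorem IsFrame.ext2 (h : IsFrame J g) : CfsgLib.ExtraTwo.Ext2 (span J g) ⟨J, j_mem⟩ where
  ne e := h.jne (congrArg Subtype.val e)
  center_iff x := by
    rw [Subgroup.mem_center_iff]
    refine ⟨fun hc => ?_, ?_⟩
    · rcases h.structure'.2 x x.2 fun l => (congrArg Subtype.val (hc ⟨g l, g_mem l⟩)).symm with e | e
      exacts [Or.inl (Subtype.ext e), Or.inr (Subtype.ext e)]
    · rintro (rfl | rfl) y
      · simp
      · exact Subtype.ext (h.j_central y.2).symm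
  sq x := ((zmem h).mp (h.sq_all x.2)).imp (fun e => Subtype.ext e) (fun e => Subtype.ext e)

theorem IsFrame.extraspecial (h : IsFrame J g) (hn : 0 < n) : Cfsg.IsExtraspecial 2 (span J g) := by
  refine CfsgLargeExtra.isExtraspecial_of_ext2 h.ext2
    (a := ⟨g (⟨0, hn⟩, false), g_mem _⟩) (b := ⟨g (⟨0, hn⟩, true), g_mem _⟩) fun e => h.jne ?_
  have e' : g (⟨0, hn⟩, false) * g (⟨0, hn⟩, true) = g (⟨0, hn⟩, true) * g (⟨0, hn⟩, false) := congrArg Subtype.val e
  have h1 := h.comm (⟨0, hn⟩, false) (⟨0, hn⟩, true)
  rw [if_pos ⟨rfl, by simp⟩, e', mul_inv_cancel_right, mul_inv_cancel] at h1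
  exact h1.symm

end CfsgLib.SymplecticFrame
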