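import Mathlib

/-!
Minimal Frobenius groups of order `pᵃq` and products of them.
-/

set_option autoImplicit false

namespace CfsgLib.CriticalProd

theorem exists_factor (p q : ℕ) (hp : p.Prime) (hq : q.Prime) (hpq : p ≠ q) :
    ∃ (F : Type) (_ : Group F) (_ : Fintype F),
      (∀ x : F, orderOf x = 1 ∨ orderOf x = p ∨ orderOf x = q) ∧
      (∃ x : F, orderOf x = p) ∧
      (∀ x y : F, orderOf x = p → orderOf y = p → x * y = y * x) ∧
      (∃ x y : F, orderOf x = q ∧ orderOf y = q ∧ x * y ≠ y * x) ∧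
      (∀ H : Subgroup F, (∃ x ∈ H, orderOf x = p) → (∃ x ∈ H, orderOf x = q) → H = ⊤) ∧
      (∀ N : Subgroup F, N.Normal → N ≠ ⊥ → ∀ x : F, orderOf x = p → x ∈ N) := by
  classical
  haveI : Fact p.Prime := ⟨hp⟩
  haveI : Fact q.Prime := ⟨hq⟩
  have hpu : IsUnit ((p : ℕ) : ZMod q) := by
    rw [ZMod.isUnit_iff_coprime]
    exact (Nat.coprime_primes hp hq).mpr hpq
  set u := hpu.unit with hu
  set a := orderOf u with ha
  have ha0 : a ≠ 0 := (orderOf_pos u).ne'
  have hdiv : q ∣ p ^ a - 1 := by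
    have h1 : (((p ^ a : ℕ)) : ZMod q) = 1 := by
      have h := congrArg (fun v : (ZMod q)ˣ => (v : ZMod q)) (pow_orderOf_eq_one u)
      rw [Units.val_pow_eq_pow_val, Units.val_one] at h
      rw [Nat.cast_pow]
      exact h
    rw [← Nat.modEq_iff_dvd' (Nat.one_le_pow _ _ hp.pos)]
    exact ((ZMod.natCast_eq_natCast_iff _ _ _).mp (h1.trans Nat.cast_one.symm)).symm
  obtain ⟨K, iK, iKf, hK, hKc⟩ : ∃ (K : Type) (_ : Field K) (_ : Fintype K), Nat.card K = p ^ a ∧ CharP K p :=
    ⟨GaloisField p a, inferInstance, Fintype.ofFinite _, GaloisField.card p a ha0, inferInstance⟩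
  obtain ⟨ζ, hζ⟩ := exists_prime_orderOf_dvd_card' (G := Kˣ) q (by rw [Nat.card_units, hK]; exact hdiv)
  let φ : (Subgroup.zpowers ζ) →* MulAut (Multiplicative K) :=
    MonoidHom.mk' (fun t =>
      ({ toFun := fun v => Multiplicative.ofAdd ((((t : Kˣ) : K)) * v.toAdd)
         invFun := fun v => Multiplicative.ofAdd ((((t : Kˣ)⁻¹ : Kˣ) : K) * v.toAdd)
         left_inv := fun v => by simp
         right_inv := fun v => by simp
         map_mul' := fun v w => by simp [mul_add] } : MulAut (Multiplicative K)))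
      (fun t s => MulEquiv.ext fun v => by simp [mul_assoc])
  haveI : Finite (Multiplicative K ⋊[φ] (Subgroup.zpowers ζ)) := Finite.of_equiv _ SemidirectProduct.equivProd.symm
  let e : K → (Multiplicative K ⋊[φ] (Subgroup.zpowers ζ)) := fun w => SemidirectProduct.inl (Multiplicative.ofAdd w)
  let g : Subgroup.zpowers ζ → (Multiplicative K ⋊[φ] (Subgroup.zpowers ζ)) := fun t => SemidirectProduct.inr t
  have he : ∀ v w, e (v + w) = e v * e w := fun v w => by
    simp only [e, ofAdd_add, map_mul]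
  have heinj : Function.Injective e := SemidirectProduct.inl_injective.comp Multiplicative.ofAdd.injective
  have he0 : e 0 = 1 := by simp [e]
  have hconj : ∀ (v : K) (t : Subgroup.zpowers ζ) (w : K),
      e v * g t * e w * (e v * g t)⁻¹ = e ((((t : Kˣ) : K)) * w) := by
    intro v t w
    have h1 : g t * e w * (g t)⁻¹ = e ((((t : Kˣ) : K)) * w) := by
      rw [← map_inv]
      exact (SemidirectProduct.inl_aut (φ := φ) t (Multiplicative.ofAdd w)).symm
    have h2 : e v * e ((((t : Kˣ) : K)) * w) = e ((((t : Kˣ) : K)) * w) * e v := by rw [← he, ← he, add_comm]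
    calc e v * g t * e w * (e v * g t)⁻¹ = e v * (g t * e w * (g t)⁻¹) * (e v)⁻¹ := by group
      _ = _ := by rw [h1, h2, mul_inv_cancel_right]
  have hsplit : ∀ x : (Multiplicative K ⋊[φ] (Subgroup.zpowers ζ)), x = e x.left.toAdd * g x.right := fun x => (SemidirectProduct.inl_left_mul_inr_right x).symm
  have hord_g : ∀ t : Subgroup.zpowers ζ, t ≠ 1 → orderOf t = q := by
    intro t ht
    have h1 : orderOf t ∣ q := by
      have := orderOf_dvd_natCard t
      rwa [Nat.card_zpowers, hζ] at this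
    exact ((Nat.dvd_prime hq).mp h1).resolve_left (fun h => ht (orderOf_eq_one_iff.mp h))
  have hone : ∀ t : Subgroup.zpowers ζ, t ≠ 1 → (1 : K) - ((t : Kˣ) : K) ≠ 0 := fun t ht h =>
    ht (Subtype.ext (Units.ext (sub_eq_zero.mp h).symm))
  have hordq : ∀ x : (Multiplicative K ⋊[φ] (Subgroup.zpowers ζ)), x.right ≠ 1 → orderOf x = q := by
    intro x hx
    obtain ⟨w, hw⟩ : ∃ w : K, w * (1 - ((x.right : Kˣ) : K)) = x.left.toAdd :=
      ⟨x.left.toAdd / (1 - ((x.right : Kˣ) : K)), div_mul_cancel₀ _ (hone _ hx)⟩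
    have hxeq : x = e w * g x.right * (e w)⁻¹ := by
      have h1 : g x.right * (e w)⁻¹ * (g x.right)⁻¹ = e (-(((x.right : Kˣ) : K) * w)) := by
        have h2 : (e w)⁻¹ = e (-w) := inv_eq_of_mul_eq_one_right (by rw [← he, add_neg_cancel, he0])
        rw [h2, show g x.right * e (-w) * (g x.right)⁻¹ = e 0 * g x.right * e (-w) * (e 0 * g x.right)⁻¹ by
          rw [he0, one_mul], hconj, mul_neg]
      calc x = e x.left.toAdd * g x.right := hsplit x
        _ = e w * (g x.right * (e w)⁻¹ * (g x.right)⁻¹) * g x.right := by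
          rw [h1, ← he, ← hw]; congr 2; ring
        _ = _ := by simp only [mul_assoc, inv_mul_cancel, mul_one]
    rw [hxeq, show e w * g x.right * (e w)⁻¹ = MulAut.conj (e w) (g x.right) from rfl, MulEquiv.orderOf_eq]
    exact (orderOf_injective _ SemidirectProduct.inr_injective _).trans (hord_g _ hx)
  have hordp : ∀ v : K, v ≠ 0 → orderOf (e v) = p := by
    intro v hv
    refine orderOf_eq_prime ?_ (fun h => hv (heinj (h.trans he0.symm)))
    show (SemidirectProduct.inl (Multiplicative.ofAdd v) : (Multiplicative K ⋊[φ] (Subgroup.zpowers ζ))) ^ p = 1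
    rw [← map_pow, ← ofAdd_nsmul, nsmul_eq_mul, CharP.cast_eq_zero, zero_mul, ofAdd_zero, map_one]
  have hcases : ∀ x : (Multiplicative K ⋊[φ] (Subgroup.zpowers ζ)), (x.right = 1 ∧ x = e x.left.toAdd) ∨ (x.right ≠ 1 ∧ orderOf x = q) := by
    intro x
    by_cases hx : x.right = 1
    · exact Or.inl ⟨hx, by conv_lhs => rw [hsplit x, hx]; simp [g]⟩
    · exact Or.inr ⟨hx, hordq x hx⟩
  have hP : ∀ x : (Multiplicative K ⋊[φ] (Subgroup.zpowers ζ)), orderOf x = p → x = e x.left.toAdd := fun x hx =>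
    ((hcases x).resolve_right (fun h => hpq (hx.symm.trans h.2))).2
  have hζ1 : (⟨ζ, Subgroup.mem_zpowers ζ⟩ : Subgroup.zpowers ζ) ≠ 1 := fun h => by
    have h' : ζ = 1 := congrArg Subtype.val h
    rw [h', orderOf_one] at hζ
    exact hq.ne_one hζ.symm
  -- invariant subgroups are everything
  have hirr : ∀ (H : Subgroup (Multiplicative K ⋊[φ] (Subgroup.zpowers ζ))) (t : Subgroup.zpowers ζ), t ≠ 1 →
      (∀ w, e w ∈ H → e ((((t : Kˣ) : K)) * w) ∈ H) → (∃ w, w ≠ 0 ∧ e w ∈ H) → ∀ k, e k ∈ H := by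
    intro H t ht hinv ⟨w₀, hw₀, hw₀H⟩
    let W : AddSubgroup K :=
      { carrier := {w | e w ∈ H}
        zero_mem' := by show e 0 ∈ H; rw [he0]; exact one_mem H
        add_mem' := fun {v w} hv hw => by show e (v + w) ∈ H; rw [he]; exact mul_mem hv hw
        neg_mem' := fun {v} hv => by
          show e (-v) ∈ H
          rw [← inv_eq_of_mul_eq_one_right (show e v * e (-v) = 1 by rw [← he, add_neg_cancel, he0])]
          exact inv_mem hv }
    let R : Subring K :=
      { carrier := {r | ∀ w ∈ W, r * w ∈ W}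
        zero_mem' := fun w _ => by rw [zero_mul]; exact W.zero_mem
        one_mem' := fun w hw => by rwa [one_mul]
        add_mem' := fun {r s} hr hs w hw => by rw [add_mul]; exact W.add_mem (hr w hw) (hs w hw)
        neg_mem' := fun {r} hr w hw => by rw [neg_mul]; exact W.neg_mem (hr w hw)
        mul_mem' := fun {r s} hr hs w hw => by rw [mul_assoc]; exact hr _ (hs w hw) }
    let L : Subfield K :=
      { R with
        inv_mem' := fun x hx => by
          by_cases h0 : x = 0
          · rw [h0, inv_zero]; exact R.zero_mem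
          · have h1 : x⁻¹ = x ^ (Fintype.card K - 2) := by
              refine inv_eq_of_mul_eq_one_right ?_
              rw [← pow_succ', show Fintype.card K - 2 + 1 = Fintype.card K - 1 by
                have := Fintype.one_lt_card (α := K); omega, FiniteField.pow_card_sub_one_eq_one x h0]
            rw [h1]
            exact R.pow_mem hx _ }
    have htL : ((t : Kˣ) : K) ∈ L := fun w hw => hinv w hw
    haveI : Fintype L := Fintype.ofFinite _
    haveI : CharP L p := (RingHom.charP_iff L.subtype L.subtype.injective p).mpr inferInstance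
    obtain ⟨n, -, hn⟩ := FiniteField.card L p
    have htord : orderOf (⟨((t : Kˣ) : K), htL⟩ : L) = q := by
      have h2 := orderOf_injective (L.subtype.toMonoidHom) L.subtype.injective (⟨((t : Kˣ) : K), htL⟩ : L)
      rw [← h2]
      show orderOf ((t : Kˣ) : K) = q
      rw [orderOf_units, Subgroup.orderOf_coe]
      exact hord_g t ht
    have hqn : q ∣ p ^ (n : ℕ) - 1 := by
      rw [← htord, ← hn]
      refine orderOf_dvd_of_pow_eq_one (FiniteField.pow_card_sub_one_eq_one _ fun h => ?_)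
      exact (t : Kˣ).ne_zero (congrArg Subtype.val h)
    have han : a ∣ n := by
      refine orderOf_dvd_of_pow_eq_one (Units.ext ?_)
      rw [Units.val_pow_eq_pow_val, IsUnit.unit_spec, Units.val_one, ← Nat.cast_pow]
      rw [show (1 : ZMod q) = ((1 : ℕ) : ZMod q) from Nat.cast_one.symm, ZMod.natCast_eq_natCast_iff]
      exact ((Nat.modEq_iff_dvd' (Nat.one_le_pow _ _ hp.pos)).mpr hqn).symm
    have hL : ∀ k, k ∈ L := by
      intro k
      have h1 : Nat.card L = Nat.card K := by
        refine le_antisymm (Nat.card_le_card_of_injective _ Subtype.val_injective) ?_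
        rw [hK, Nat.card_eq_fintype_card (α := L), hn]
        exact Nat.pow_le_pow_right hp.pos (Nat.le_of_dvd n.2 han)
      have hb : Function.Bijective (Subtype.val : L → K) :=
        (Nat.bijective_iff_injective_and_card _).mpr ⟨Subtype.val_injective, h1⟩
      obtain ⟨l, rfl⟩ := hb.2 k
      exact l.2
    intro k
    have := hL (k / w₀) w₀ hw₀H
    rwa [div_mul_cancel₀ _ hw₀] at this
  refine ⟨(Multiplicative K ⋊[φ] (Subgroup.zpowers ζ)), inferInstance, Fintype.ofFinite (Multiplicative K ⋊[φ] (Subgroup.zpowers ζ)), ?_, ⟨e 1, hordp 1 one_ne_zero⟩, ?_, ?_, ?_, ?_⟩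
  · intro x
    rcases hcases x with ⟨-, hx⟩ | ⟨-, hx⟩
    · by_cases h0 : x.left.toAdd = 0
      · left; rw [hx, h0, he0, orderOf_one]
      · right; left; rw [hx]; exact hordp _ h0
    · exact Or.inr (Or.inr hx)
  · intro x y hx hy
    rw [hP x hx, hP y hy, ← he, ← he, add_comm]
  · refine ⟨g ⟨ζ, Subgroup.mem_zpowers ζ⟩, e 1 * g ⟨ζ, Subgroup.mem_zpowers ζ⟩ * (e 1)⁻¹, ?_, ?_, ?_⟩
    · exact (orderOf_injective _ SemidirectProduct.inr_injective _).trans (hord_g _ hζ1)
    · rw [show e 1 * g ⟨ζ, Subgroup.mem_zpowers ζ⟩ * (e 1)⁻¹ = MulAut.conj (e 1) (g ⟨ζ, Subgroup.mem_zpowers ζ⟩)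
        from rfl, MulEquiv.orderOf_eq]
      exact (orderOf_injective _ SemidirectProduct.inr_injective _).trans (hord_g _ hζ1)
    · intro h
      set z : Subgroup.zpowers ζ := ⟨ζ, Subgroup.mem_zpowers ζ⟩ with hz
      set c : K := ((z : Kˣ) : K) with hc
      have h1 : g z * e (-1) * (g z)⁻¹ = e (c * -1) := by
        have := hconj 0 z (-1)
        rwa [he0, one_mul] at this
      have h2 : e 1 * g z * (e 1)⁻¹ = e (1 + c * -1) * g z := by
        rw [he, ← h1, show (e 1)⁻¹ = e (-1) from inv_eq_of_mul_eq_one_right (by rw [← he, add_neg_cancel, he0])]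
        simp only [mul_assoc, inv_mul_cancel, mul_one]
      rw [h2] at h
      have h3 : e (c * (1 + c * -1)) * g z * g z = e (1 + c * -1) * g z * g z := by
        rw [← hconj 0 z, he0, one_mul]
        refine Eq.trans ?_ (h.trans rfl)
        simp only [mul_assoc, inv_mul_cancel_left]
      have h4 := heinj (mul_right_cancel (mul_right_cancel h3))
      have h5 : (c - 1) * (1 - c) = 0 := by linear_combination h4
      rcases mul_eq_zero.mp h5 with h6 | h6
      · exact hone z hζ1 (by rw [← hc]; linear_combination -h6)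
      · exact hone z hζ1 (by rw [← hc]; exact h6)
  · rintro H ⟨x, hxH, hx⟩ ⟨y, hyH, hy⟩
    have hy1 : y.right ≠ 1 := fun h => by
      rcases hcases y with ⟨-, hye⟩ | ⟨hne, -⟩
      · by_cases h0 : y.left.toAdd = 0
        · rw [hye, h0, he0, orderOf_one] at hy; exact hq.ne_one hy.symm
        · rw [hye, hordp _ h0] at hy; exact hpq hy
      · exact hne h
    have hall : ∀ k, e k ∈ H := by
      refine hirr H y.right hy1 (fun w hw => ?_) ⟨x.left.toAdd, fun h0 => ?_, hP x hx ▸ hxH⟩
      · rw [← hconj y.left.toAdd y.right w, ← hsplit]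
        exact mul_mem (mul_mem hyH hw) (inv_mem hyH)
      · rw [hP x hx, h0, he0, orderOf_one] at hx
        exact hp.ne_one hx.symm
    have hgy : g y.right ∈ H := by
      have h' : e y.left.toAdd * g y.right ∈ H := (hsplit y).subst (motive := fun z => z ∈ H) hyH
      have := mul_mem (inv_mem (hall y.left.toAdd)) h'
      rwa [inv_mul_cancel_left] at this
    rw [eq_top_iff]
    intro z _
    rw [hsplit z]
    refine mul_mem (hall _) ?_
    have hgen : Subgroup.zpowers y.right = ⊤ := by
      refine (Subgroup.card_eq_iff_eq_top _).mp ?_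
      rw [Nat.card_zpowers, hord_g _ hy1, Nat.card_zpowers, hζ]
    obtain ⟨i, hi⟩ := Subgroup.mem_zpowers_iff.mp (show z.right ∈ Subgroup.zpowers y.right by rw [hgen]; trivial)
    rw [← hi, show g (y.right ^ i) = g y.right ^ i from map_zpow SemidirectProduct.inr _ _]
    exact H.zpow_mem hgy i
  · intro N hN hN0 x hx
    obtain ⟨z, hzN, hz⟩ : ∃ z ∈ N, z ≠ 1 := by
      by_contra h
      push Not at h
      exact hN0 (N.eq_bot_iff_forall.mpr h)
    have hex : ∃ w, w ≠ 0 ∧ e w ∈ N := by
      rcases hcases z with ⟨-, hze⟩ | ⟨hzr, -⟩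
      · exact ⟨_, fun h0 => hz (by rw [hze, h0, he0]), hze ▸ hzN⟩
      · refine ⟨((z.right : Kˣ) : K) * 1 + -1, fun h => hone _ hzr (by linear_combination -h), ?_⟩
        rw [he, ← hconj z.left.toAdd z.right 1, ← hsplit]
        have h2 : e (-1 : K) = (e 1)⁻¹ :=
          (inv_eq_of_mul_eq_one_right (by rw [← he, add_neg_cancel, he0])).symm
        rw [h2, show z * e 1 * z⁻¹ * (e 1)⁻¹ = z * (e 1 * z⁻¹ * (e 1)⁻¹) by group]
        exact mul_mem hzN (hN.conj_mem _ (inv_mem hzN) _)
    rw [hP x hx]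
    refine hirr N ⟨ζ, Subgroup.mem_zpowers ζ⟩ hζ1 (fun w hw => ?_) hex _
    have := hconj 0 ⟨ζ, Subgroup.mem_zpowers ζ⟩ w
    rw [he0, one_mul] at this
    rw [← this]
    exact hN.conj_mem _ hw _

variable {ι : Type*} [Fintype ι] [DecidableEq ι] {F : ι → Type*} [∀ i, Group (F i)] [∀ i, Fintype (F i)]

theorem orderOf_pi (hcop : ∀ i j, i ≠ j → ∀ (x : F i) (y : F j), (orderOf x).Coprime (orderOf y)) (x : ∀ i, F i) :
    orderOf x = ∏ i, orderOf (x i) := by
  refine Nat.dvd_antisymm (orderOf_dvd_of_pow_eq_one (funext fun i => ?_)) ?_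
  · rw [Pi.pow_apply]
    exact orderOf_dvd_iff_pow_eq_one.mp (Finset.dvd_prod_of_mem _ (Finset.mem_univ i))
  · suffices h : ∀ s : Finset ι, ∏ i ∈ s, orderOf (x i) ∣ orderOf x from h Finset.univ
    intro s
    induction s using Finset.induction_on with
    | empty => simp
    | insert i s hi ih =>
      rw [Finset.prod_insert hi]
      refine Nat.Coprime.mul_dvd_of_dvd_of_dvd
        (Nat.Coprime.prod_right fun j hj => hcop i j (fun h => hi (h ▸ hj)) _ _) ?_ ih
      refine orderOf_dvd_of_pow_eq_one ?_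
      rw [← Pi.pow_apply, pow_orderOf_eq_one, Pi.one_apply]

theorem single_mem (hcop : ∀ i j, i ≠ j → ∀ (x : F i) (y : F j), (orderOf x).Coprime (orderOf y))
    (H : Subgroup (∀ i, F i)) {x : ∀ i, F i} (hx : x ∈ H) (j : ι) : Pi.mulSingle j (x j) ∈ H := by
  set M := ∏ i ∈ Finset.univ.erase j, orderOf (x i) with hM
  have hco : (orderOf (x j)).Coprime M :=
    Nat.Coprime.prod_right fun i hi => hcop j i (Finset.ne_of_mem_erase hi).symm _ _
  obtain ⟨u, hu⟩ := exists_pow_eq_self_of_coprime hco.symm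
  have : Pi.mulSingle j (x j) = (x ^ M) ^ u := by
    funext i
    rw [Pi.pow_apply, Pi.pow_apply]
    by_cases hi : i = j
    · subst hi; rw [Pi.mulSingle_eq_same, hu]
    · have hz : (x i) ^ M = 1 := orderOf_dvd_iff_pow_eq_one.mp
        (Finset.dvd_prod_of_mem (fun i => orderOf (x i)) (Finset.mem_erase.mpr ⟨hi, Finset.mem_univ i⟩))
      rw [Pi.mulSingle_eq_of_ne hi, hz, one_pow]
  rw [this]
  exact pow_mem (pow_mem hx _) _

end CfsgLib.CriticalProd
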