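import Mathlib.GroupTheory.Perm.Cycle.PossibleTypes
import Mathlib.GroupTheory.SpecificGroups.Alternating
import Mathlib.Algebra.GCDMonoid.Multiset
import Mathlib.Algebra.GCDMonoid.Nat

/-!
Element orders of alternating groups through cycle types.
-/

set_option autoImplicit false

namespace CfsgLib.CycleOrders

theorem mem_range_orderOf {n : ℕ} (m : Multiset ℕ) (hsum : m.sum ≤ n) (h2 : ∀ a ∈ m, 2 ≤ a)
    (heven : Even (m.sum + Multiset.card m)) :
    m.lcm ∈ Set.range (orderOf : alternatingGroup (Fin n) → ℕ) := by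
  obtain ⟨σ, hσ⟩ := (Equiv.Perm.exists_with_cycleType_iff (α := Fin n)).mpr
    ⟨by rwa [Fintype.card_fin], h2⟩
  refine ⟨⟨σ, ?_⟩, ?_⟩
  · rw [Equiv.Perm.mem_alternatingGroup, Equiv.Perm.sign_of_cycleType, hσ, heven.neg_one_pow]
  · rw [Subgroup.orderOf_mk, ← Equiv.Perm.lcm_cycleType, hσ]

/-- A prime dividing the lcm divides a member. -/
theorem exists_mem_dvd {p : ℕ} (hp : p.Prime) {m : Multiset ℕ} (h : p ∣ m.lcm) :
    ∃ a ∈ m, p ∣ a := by
  induction m using Multiset.induction_on with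
  | empty => simp [Multiset.lcm_zero, hp.ne_one] at h
  | cons a m ih =>
    rw [Multiset.lcm_cons] at h
    rcases hp.dvd_mul.mp (h.trans (lcm_dvd_mul a m.lcm)) with h | h
    · exact ⟨a, Multiset.mem_cons_self _ _, h⟩
    · obtain ⟨b, hb, hb'⟩ := ih h
      exact ⟨b, Multiset.mem_cons_of_mem hb, hb'⟩

end CfsgLib.CycleOrders
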