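import Mathlib
import Cfsg.Agent.S0143
import Cfsg.Agent.S0144
import Cfsg.Agent.S0219

namespace CfsgCyclicByTwo

open Subgroup

/-- `A` has a cyclic normal subgroup with cyclic 2-group quotient. -/
def CycByTwo (A : Type*) [Group A] : Prop :=
  ∃ (B : Subgroup A) (_ : B.Normal), IsCyclic B ∧ IsCyclic (A ⧸ B) ∧ IsPGroup 2 (A ⧸ B)

theorem CycByTwo.of_injective {A A' : Type*} [Group A] [Group A'] (f : A' →* A)
    (hf : Function.Injective f) (h : CycByTwo A) : CycByTwo A' := by
  obtain ⟨B, hBn, hB, hq, h2⟩ := h
  haveI := hBn
  refine ⟨B.comap f, inferInstance, ?_, ?_, ?_⟩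
  · haveI := hB
    let g : ↥(B.comap f) →* ↥B :=
      (f.comp (B.comap f).subtype).codRestrict B fun x => x.2
    refine isCyclic_of_injective g ?_
    intro x y hxy
    exact Subtype.ext (hf (congrArg Subtype.val hxy))
  all_goals
    have hinj : Function.Injective (QuotientGroup.map (B.comap f) B f le_rfl) := by
      rw [injective_iff_map_eq_one]
      intro x
      induction x using QuotientGroup.induction_on with
      | H y =>
        intro hy
        rw [QuotientGroup.map_mk, QuotientGroup.eq_one_iff] at hy
        rw [QuotientGroup.eq_one_iff]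
        exact hy
  · haveI := hq
    exact isCyclic_of_injective _ hinj
  · exact h2.of_injective _ hinj

theorem CycByTwo.of_surjective {A A' : Type*} [Group A] [Group A'] (f : A →* A')
    (hf : Function.Surjective f) (h : CycByTwo A) : CycByTwo A' := by
  obtain ⟨B, hBn, hB, hq, h2⟩ := h
  haveI := hBn
  haveI hn : (B.map f).Normal := hBn.map f hf
  refine ⟨B.map f, hn, ?_, ?_, ?_⟩
  · haveI := hB
    exact isCyclic_of_surjective _ (f.subgroupMap_surjective B)
  all_goals
    have hsurj : Function.Surjective (QuotientGroup.map B (B.map f) f (le_comap_map f B)) := by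
      intro x
      induction x using QuotientGroup.induction_on with
      | H y =>
        obtain ⟨a, rfl⟩ := hf y
        exact ⟨(a : A ⧸ B), rfl⟩
  · haveI := hq
    exact isCyclic_of_surjective _ hsurj
  · exact h2.of_surjective _ hsurj

/-- A simple group with a subgroup of prime power index which is cyclic-by-(cyclic 2) is
of prime order. -/
theorem simple_solvable {G : Type*} [Group G] [Finite G] [IsSimpleGroup G] (A : Subgroup G)
    (p s : ℕ) (hp : p.Prime) (hA : A.index = p ^ s) (h : CycByTwo A) : Group.IsSolvable G := by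
  classical
  haveI : Fact (Nat.Prime 2) := ⟨Nat.prime_two⟩
  by_contra hns
  -- no nontrivial element has a class of prime power size
  have key : ∀ (g : G) (q k : ℕ), g ≠ 1 → q.Prime →
      (centralizer ({g} : Set G)).index = q ^ k → False := by
    intro g q k hg hq hk
    apply hns
    have hpr := Cfsg.Agent.S0143.result q k hq g hg hk
    exact Cfsg.Agent.S0144.result (Nat.card G) 2 1 0 hpr Nat.prime_two (by simp)
  have keyA : ∀ g : G, g ≠ 1 → (∀ a ∈ A, a * g = g * a) → False := by
    intro g hg hc
    have hle : A ≤ centralizer ({g} : Set G) := by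
      intro a ha
      rw [Subgroup.mem_centralizer_iff]
      intro x hx
      rw [Set.mem_singleton_iff] at hx
      subst hx
      exact (hc a ha).symm
    obtain ⟨k, -, hk⟩ := (Nat.dvd_prime_pow hp).1 (hA ▸ Subgroup.index_dvd_of_le hle)
    exact key g p k hg hp hk
  obtain ⟨B, hBn, hB, hq, h2⟩ := h
  haveI := hBn
  obtain ⟨r, hr⟩ := (IsPGroup.iff_card).1 h2
  have hcard : Nat.card G = Nat.card B * 2 ^ r * p ^ s := by
    rw [← hr, ← hA, ← Subgroup.card_mul_index A, Subgroup.card_eq_card_quotient_mul_card_subgroup B]
    ring
  obtain ⟨b, hb⟩ := hB.exists_generator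
  -- elements of B commute
  have hBc : ∀ x y : B, x * y = y * x := fun x y =>
    (IsCyclic.commGroup (α := B)).mul_comm x y
  by_cases hev : Even (Nat.card B)
  · -- the involution of B is central in A
    obtain ⟨t, ht⟩ := exists_prime_orderOf_dvd_card' (G := B) 2 (even_iff_two_dvd.1 hev)
    have ht1 : ((t : A) : G) ≠ 1 := by
      intro h1
      have : t = 1 := by ext; exact h1
      simp [this] at ht
    refine keyA _ ht1 ?_
    intro a ha
    let a' : A := ⟨a, ha⟩
    have hmem : a' * (t : A) * a'⁻¹ ∈ B := hBn.conj_mem _ t.2 a'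
    let u : B := ⟨_, hmem⟩
    have hu : orderOf u = 2 := by
      rw [← Subgroup.orderOf_coe u]
      show orderOf (MulAut.conj a' (t : A)) = 2
      rw [MulEquiv.orderOf_eq, Subgroup.orderOf_coe, ht]
    have huniq : u = t := by
      haveI := hB
      haveI := Fintype.ofFinite B
      have hle := IsCyclic.card_pow_eq_one_le (α := B) (n := 2) (by norm_num)
      by_contra hne
      have hsub : ({1, t, u} : Finset B) ⊆ Finset.univ.filter (fun x : B => x ^ 2 = 1) := by
        intro x hx
        simp only [Finset.mem_insert, Finset.mem_singleton] at hx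
        simp only [Finset.mem_filter, Finset.mem_univ, true_and]
        rcases hx with rfl | rfl | rfl
        · simp
        · rw [← ht]; exact pow_orderOf_eq_one _
        · rw [← hu]; exact pow_orderOf_eq_one _
      have h3 : ({1, t, u} : Finset B).card = 3 := by
        have h1t : (1 : B) ≠ t := by rintro rfl; simp at ht
        have h1u : (1 : B) ≠ u := by intro h1; rw [← h1] at hu; simp at hu
        simp [h1t, h1u, Ne.symm hne]
      have := (Finset.card_le_card hsub).trans hle
      omega
    have : a' * (t : A) * a'⁻¹ = (t : A) := congrArg Subtype.val huniq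
    have h2' : a' * (t : A) = (t : A) * a' := by
      rw [mul_inv_eq_iff_eq_mul] at this
      exact this
    exact congrArg Subtype.val h2'
  · by_cases hB1 : Nat.card B = 1
    · apply hns
      refine Cfsg.Agent.S0144.result p 2 s r hp Nat.prime_two ?_
      rw [hcard, hB1]; ring
    -- an element of B has centraliser containing B
    haveI : Nontrivial B := Finite.one_lt_card_iff_nontrivial.1
      (by have := Nat.card_pos (α := B); omega)
    obtain ⟨x, hx⟩ := exists_ne (1 : B)
    have hx1 : ((x : A) : G) ≠ 1 := by
      intro h1; exact hx (by ext; exact h1)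
    have hleB : B.map A.subtype ≤ centralizer ({((x : A) : G)} : Set G) := by
      rintro _ ⟨y, hy, rfl⟩
      rw [Subgroup.mem_centralizer_iff]
      intro z hz
      rw [Set.mem_singleton_iff] at hz
      subst hz
      exact congrArg (fun w : B => ((w : A) : G)) (hBc x ⟨y, hy⟩)
    have hidxB : (B.map A.subtype).index = 2 ^ r * p ^ s := by
      have h1 : Nat.card (B.map A.subtype) = Nat.card B :=
        Subgroup.card_map_of_injective A.subtype_injective
      have h2 := Subgroup.card_mul_index (B.map A.subtype)
      rw [h1, hcard, mul_assoc] at h2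
      exact Nat.eq_of_mul_eq_mul_left Nat.card_pos h2
    have hdvd : (centralizer ({((x : A) : G)} : Set G)).index ∣ 2 ^ r * p ^ s :=
      hidxB ▸ Subgroup.index_dvd_of_le hleB
    by_cases hr0 : r = 0
    · subst hr0
      rw [pow_zero, one_mul] at hdvd
      obtain ⟨k, -, hk⟩ := (Nat.dvd_prime_pow hp).1 hdvd
      exact key _ p k hx1 hp hk
    by_cases hp2 : p = 2
    · subst hp2
      rw [← pow_add] at hdvd
      obtain ⟨k, -, hk⟩ := (Nat.dvd_prime_pow hp).1 hdvd
      exact key _ 2 k hx1 hp hk
    -- cyclic Sylow 2-subgroups
    have hevG : Even (Nat.card G) := by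
      rw [hcard]
      refine Even.mul_right (Even.mul_left ?_ _) _
      exact Nat.even_pow.2 ⟨even_two, hr0⟩
    obtain ⟨Q⟩ : Nonempty (Sylow 2 A) := inferInstance
    have hfac : (Nat.card G).factorization 2 = r := by
      have hBodd : ¬ 2 ∣ Nat.card B := fun h => hev (even_iff_two_dvd.2 h)
      have hB0 : Nat.card B ≠ 0 := Nat.card_pos.ne'
      rw [hcard, Nat.factorization_mul (mul_ne_zero hB0 (by positivity)) (pow_ne_zero _ hp.ne_zero),
        Nat.factorization_mul hB0 (by positivity)]
      simp [Nat.factorization_eq_zero_of_not_dvd hBodd, hp.factorization_pow,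
        Nat.prime_two.factorization_pow, hp2]
    have hQcard : Nat.card Q = 2 ^ r := by
      have hc : Nat.card A = Nat.card B * 2 ^ r := by
        rw [← hr, Subgroup.card_eq_card_quotient_mul_card_subgroup B]; ring
      have hBodd : ¬ 2 ∣ Nat.card B := fun h => hev (even_iff_two_dvd.2 h)
      rw [Q.card_eq_multiplicity, hc, Nat.factorization_mul Nat.card_pos.ne' (by positivity)]
      simp [Nat.factorization_eq_zero_of_not_dvd hBodd, Nat.prime_two.factorization_pow]
    let T : Sylow 2 G := Sylow.ofCard ((Q : Subgroup A).map A.subtype)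
      (by rw [hfac, Subgroup.card_map_of_injective A.subtype_injective]; exact hQcard)
    have hQcyc : IsCyclic Q := by
      haveI := hq
      refine isCyclic_of_injective ((QuotientGroup.mk' B).comp (Q : Subgroup A).subtype) ?_
      rw [injective_iff_map_eq_one]
      intro y hy
      have hyB : (y : A) ∈ B := (QuotientGroup.eq_one_iff _).1 hy
      obtain ⟨k, hk⟩ := Q.2 y
      have h1 : orderOf (y : A) ∣ 2 ^ k := by
        apply orderOf_dvd_of_pow_eq_one
        simpa using congrArg Subtype.val hk
      have h2 : orderOf (y : A) ∣ Nat.card B := by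
        have := orderOf_dvd_natCard (⟨(y : A), hyB⟩ : B)
        rwa [← Subgroup.orderOf_coe] at this
      have hco : Nat.Coprime (2 ^ k) (Nat.card B) := by
        refine Nat.Coprime.pow_left _ ?_
        exact (Nat.prime_two.coprime_iff_not_dvd).2 fun h => hev (even_iff_two_dvd.2 h)
      have : orderOf (y : A) = 1 := Nat.eq_one_of_dvd_coprimes hco h1 h2
      exact Subtype.ext (orderOf_eq_one_iff.1 this)
    have hT : IsCyclic (T : Subgroup G) := by
      haveI := hQcyc
      exact isCyclic_of_surjective _
        (MulEquiv.surjective ((Q : Subgroup A).equivMapOfInjective A.subtype A.subtype_injective))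
    obtain ⟨H, hH⟩ := Cfsg.Agent.S0219.result hevG T hT
    haveI := Subgroup.normal_of_index_eq_two hH
    rcases IsSimpleGroup.eq_bot_or_eq_top_of_normal H inferInstance with h1 | h1
    · apply hns
      rw [h1, Subgroup.index_bot] at hH
      exact Cfsg.Agent.S0144.result 2 2 1 0 Nat.prime_two Nat.prime_two (by simp [hH])
    · rw [h1, Subgroup.index_top] at hH; omega

theorem solvable_of_cycByTwo {G : Type*} [Group G] [Finite G] (A : Subgroup G)
    (p s : ℕ) (hp : p.Prime) (hA : A.index = p ^ s) (h : CycByTwo A) : Group.IsSolvable G := by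
  classical
  induction hn : Nat.card G using Nat.strong_induction_on generalizing G s with
  | _ n ih =>
  subst hn
  by_cases hN : ∃ N : Subgroup G, N.Normal ∧ N ≠ ⊥ ∧ N ≠ ⊤
  · obtain ⟨N, hNn, hN0, hN1⟩ := hN
    haveI := hNn
    have hq : Group.IsSolvable (G ⧸ N) := by
      have hd : (A.map (QuotientGroup.mk' N)).index ∣ p ^ s :=
        hA ▸ Subgroup.index_map_dvd A (QuotientGroup.mk'_surjective N)
      obtain ⟨k, -, hk⟩ := (Nat.dvd_prime_pow hp).1 hd
      refine ih _ ?_ _ k hk (h.of_surjective _ ((QuotientGroup.mk' N).subgroupMap_surjective A)) rfl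
      rw [Subgroup.card_eq_card_quotient_mul_card_subgroup N]
      refine lt_mul_of_one_lt_right Nat.card_pos ?_
      exact (Subgroup.one_lt_card_iff_ne_bot N).2 hN0
    have hs : Group.IsSolvable N := by
      have hd : (A.subgroupOf N).index ∣ p ^ s := by
        rw [← hA]
        show A.relIndex N ∣ A.index
        refine Dvd.intro (A ⊔ N).index ?_
        have h1 := Subgroup.relIndex_mul_index (inf_le_right : A ⊓ N ≤ N)
        have h2 := Subgroup.relIndex_mul_index (inf_le_left : A ⊓ N ≤ A)
        have h3 := Subgroup.relIndex_mul_index (le_sup_right : N ≤ A ⊔ N)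
        rw [Subgroup.relIndex_sup_right (H := A) (K := N)] at h3
        rw [Subgroup.inf_relIndex_right] at h1
        rw [Subgroup.inf_relIndex_left] at h2
        have h4 : 0 < N.relIndex A := Nat.pos_of_ne_zero Subgroup.index_ne_zero_of_finite
        refine Nat.eq_of_mul_eq_mul_left h4 ?_
        rw [h2, ← h1, ← h3]
        ring
      obtain ⟨k, -, hk⟩ := (Nat.dvd_prime_pow hp).1 hd
      let f : ↥(A.subgroupOf N) →* ↥A :=
        (N.subtype.comp (A.subgroupOf N).subtype).codRestrict A fun x => x.2
      have hf : Function.Injective f := by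
        intro x y hxy
        exact Subtype.ext (Subtype.ext (congrArg (fun w : A => (w : G)) hxy))
      refine ih _ ?_ _ k hk (h.of_injective f hf) rfl
      exact lt_of_le_of_ne (Subgroup.card_le_card_group N)
        (fun he => hN1 (Subgroup.eq_top_of_card_eq N he))
    exact Group.isSolvable_of_ker_le_range N.subtype (QuotientGroup.mk' N)
      (by simp [QuotientGroup.ker_mk'])
  · push Not at hN
    rcases subsingleton_or_nontrivial G with hs | hs
    · exact inferInstance
    · haveI : IsSimpleGroup G :=
        ⟨fun N hN' => or_iff_not_imp_left.2 (hN N hN')⟩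
      exact simple_solvable A p s hp hA h

end CfsgCyclicByTwo
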