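import Mathlib

/-!
The order of an irreducible module for a cyclic group of prime order.
-/

set_option autoImplicit false

namespace CfsgLib.CyclicModule

universe u

/-- An additive group of exponent `q` that is irreducible under an endomorphism of order `p`. -/
theorem card_le_of_irreducible {M : Type u} [AddCommGroup M] [Finite M] [Nontrivial M] {p q : ℕ} [Fact q.Prime]
    (hpf : 0 < orderOf (q : ZMod p)) (hexp : ∀ v : M, q • v = 0) (s : AddMonoid.End M) (hs : s ^ p = 1)
    (hmin : ∀ B : AddSubgroup M, (∀ b ∈ B, s b ∈ B) → B = ⊥ ∨ B = ⊤) :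
    Nat.card M ≤ q ^ orderOf (q : ZMod p) := by
  classical
  let R : Subring (AddMonoid.End M) := Subring.closure {s}
  have hcs : ∀ k ∈ R, k * s = s * k := by
    intro k hk
    have hle : R ≤ Subring.centralizer {s} := Subring.closure_le.mpr fun x hx => by
      rw [Set.mem_singleton_iff.mp hx]
      exact Subring.mem_centralizer_iff.mpr fun g hg => by rw [Set.mem_singleton_iff.mp hg]
    exact (Subring.mem_centralizer_iff.mp (hle hk) s rfl).symm
  have hcomm : ∀ a ∈ R, ∀ b ∈ R, a * b = b * a := by
    intro a ha b hb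
    have hle : R ≤ Subring.centralizer {a} := Subring.closure_le.mpr fun x hx => by
      rw [Set.mem_singleton_iff.mp hx]
      exact Subring.mem_centralizer_iff.mpr fun g hg => by rw [Set.mem_singleton_iff.mp hg]; exact hcs a ha
    exact Subring.mem_centralizer_iff.mp (hle hb) a rfl
  let _ : CommRing R := { (inferInstance : Ring R) with mul_comm := fun a b => Subtype.ext (hcomm a a.2 b b.2) }
  have : Finite R := Finite.of_injective (fun k : R => ⇑(k : AddMonoid.End M)) fun a b h =>
    Subtype.ext (DFunLike.coe_injective h)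
  -- nonzero elements are injective
  have hinj : ∀ k ∈ R, k ≠ 0 → Function.Injective k := by
    intro k hk hk0
    refine (injective_iff_map_eq_zero k).mpr fun v hv => ?_
    rcases hmin (AddMonoidHom.ker k) (fun b hb => by
      have hb : k b = 0 := hb
      show (k * s) b = 0
      rw [hcs k hk]
      show s (k b) = 0
      rw [show k b = 0 from hb, map_zero]) with h | h
    · have : v ∈ AddMonoidHom.ker k := AddMonoidHom.mem_ker.mpr hv
      rw [h] at this
      exact this
    · exfalso
      refine hk0 (AddMonoidHom.ext fun w => ?_)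
      exact AddMonoidHom.mem_ker.mp (h ▸ AddSubgroup.mem_top w : w ∈ AddMonoidHom.ker k)
  have : Nontrivial R := by
    refine ⟨⟨0, 1, fun h => ?_⟩⟩
    obtain ⟨v, hv⟩ := exists_ne (0 : M)
    exact hv (DFunLike.congr_fun (congrArg Subtype.val h.symm) v)
  have : NoZeroDivisors R := ⟨fun {a b} hab => by
    by_contra hne
    push Not at hne
    refine hne.2 (Subtype.ext (AddMonoidHom.ext fun w => ?_))
    refine hinj a a.2 (fun h => hne.1 (Subtype.ext h)) ?_
    refine (DFunLike.congr_fun (congrArg Subtype.val hab) w).trans ?_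
    exact (map_zero (a : AddMonoid.End M)).symm⟩
  have : IsDomain R := NoZeroDivisors.to_isDomain R
  have hq0 : (q : R) = 0 := Subtype.ext (AddMonoidHom.ext fun w => by
    show ((q : R) : AddMonoid.End M) w = 0
    rw [SubringClass.coe_natCast, AddMonoid.End.natCast_apply, hexp])
  have : CharP R q := (CharP.charP_iff_prime_eq_zero Fact.out).mpr hq0
  have hexpc : ExpChar R q := ExpChar.prime Fact.out
  set f := orderOf (q : ZMod p) with hf
  -- the Frobenius power fixes the generator, hence everything
  have hsmem : s ∈ R := Subring.subset_closure rfl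
  have hfix : ∀ k : R, k ^ q ^ f = k := by
    intro k
    let φ : R →+* R := iterateFrobenius R q f
    have hφ : ∀ x, φ x = x ^ q ^ f := fun x => iterateFrobenius_def q f x
    have hs' : (⟨s, hsmem⟩ : R) ^ q ^ f = ⟨s, hsmem⟩ := by
      refine Subtype.ext ?_
      rw [SubmonoidClass.coe_pow]
      have h1 : ((q ^ f : ℕ) : ZMod p) = ((1 : ℕ) : ZMod p) := by
        rw [Nat.cast_pow, hf, pow_orderOf_eq_one, Nat.cast_one]
      rw [ZMod.natCast_eq_natCast_iff] at h1
      show s ^ q ^ f = s
      conv_rhs => rw [← pow_one s]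
      exact pow_eq_pow_of_modEq h1 hs
    have key : ∀ (x : AddMonoid.End M) (hx : x ∈ R), φ ⟨x, hx⟩ = ⟨x, hx⟩ := by
      intro x hx
      induction hx using Subring.closure_induction with
      | mem y hy =>
        rw [Set.mem_singleton_iff] at hy
        subst hy
        rw [hφ]; exact hs'
      | zero => exact map_zero φ
      | one => exact map_one φ
      | add a b ha hb iha ihb =>
        show φ ((⟨a, ha⟩ : R) + ⟨b, hb⟩) = (⟨a, ha⟩ : R) + ⟨b, hb⟩
        rw [map_add, iha, ihb]
      | neg a ha iha =>
        show φ (-(⟨a, ha⟩ : R)) = -(⟨a, ha⟩ : R)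
        rw [map_neg, iha]
      | mul a b ha hb iha ihb =>
        show φ ((⟨a, ha⟩ : R) * ⟨b, hb⟩) = (⟨a, ha⟩ : R) * ⟨b, hb⟩
        rw [map_mul, iha, ihb]
    rw [← hφ]
    exact key k k.2
  have hR : Nat.card R ≤ q ^ f := by
    have : Fintype R := Fintype.ofFinite R
    have hf0 : 1 < q ^ f := Nat.one_lt_pow hpf.ne' (Fact.out : q.Prime).one_lt
    have hdeg : (Polynomial.X ^ q ^ f - Polynomial.X : Polynomial R).natDegree = q ^ f := by
      rw [Polynomial.natDegree_sub_eq_left_of_natDegree_lt] <;> simp [hf0]
    have hne : (Polynomial.X ^ q ^ f - Polynomial.X : Polynomial R) ≠ 0 := fun e => by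
      rw [e, Polynomial.natDegree_zero] at hdeg; omega
    rw [Nat.card_eq_fintype_card, ← Finset.card_univ, ← hdeg]
    exact Polynomial.card_le_degree_of_subset_roots fun x _ => by
      rw [Polynomial.mem_roots hne]
      simp [hfix x]
  -- orbit of a nonzero vector
  obtain ⟨v, hv⟩ := exists_ne (0 : M)
  let ev : R →+ M :=
    { toFun := fun k => (k : AddMonoid.End M) v
      map_zero' := rfl
      map_add' := fun _ _ => rfl }
  have hsurj : ev.range = ⊤ := by
    refine (hmin ev.range ?_).resolve_left ?_
    · rintro _ ⟨k, rfl⟩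
      exact ⟨⟨s, hsmem⟩ * k, rfl⟩
    · intro h
      have : v ∈ ev.range := ⟨1, rfl⟩
      rw [h] at this
      exact hv this
  exact (Nat.card_le_card_of_surjective ev (AddMonoidHom.range_eq_top.mp hsurj)).trans hR

end CfsgLib.CyclicModule
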