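import Cfsg.Prelude.Def_DStar
import Cfsg.Prelude.Def_PLocal
import Cfsg.Agent.Lib.ZJ.Replacement

/-! Thompson replacement for abelian subgroups and the subgroup `D*(S)`. -/

set_option autoImplicit false
set_option linter.style.haveILetI false

namespace CfsgLib.DStar

open scoped commutatorElement

variable {S : Type*} [Group S]

theorem isMulCommutative_iff {A : Subgroup S} :
    IsMulCommutative A ↔ ∀ a ∈ A, ∀ b ∈ A, a * b = b * a :=
  ⟨fun h a ha b hb => congrArg Subtype.val (h.is_comm.comm ⟨a, ha⟩ ⟨b, hb⟩),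
    fun h => ⟨⟨fun a b => Subtype.ext (h a a.2 b b.2)⟩⟩⟩

/-- A member commutes with every abelian subgroup it normalises and is normalised by. -/
theorem commute_of_normalizing {D B : Subgroup S} (hD : D ∈ Cfsg.dStarFamily S)
    (hB : ∀ a ∈ B, ∀ b ∈ B, a * b = b * a) (hBD : B ≤ Subgroup.normalizer (D : Set S))
    (hDB : D ≤ Subgroup.normalizer (B : Set S)) : ∀ d ∈ D, ∀ b ∈ B, d * b = b * d := by
  intro d hd b hb
  have hDc := isMulCommutative_iff.1 hD.1
  refine hD.2 b ?_ d hd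
  set X := D ⊔ Subgroup.zpowers b
  have hzb : Subgroup.zpowers b ≤ B := (Subgroup.zpowers_le).2 hb
  have hdec : ∀ x ∈ X, ∃ a ∈ D, ∃ u ∈ B, x = a * u := fun x hx => by
    obtain ⟨a, ha, u, hu, e⟩ := CfsgLib.mem_sup_of_le_normalizer (hzb.trans hBD) hx
    exact ⟨a, ha, u, hzb hu, e.symm⟩
  have hca : ∀ a ∈ D, ∀ u ∈ B, u * a * u⁻¹ * a⁻¹ ∈ D ∧ u * a * u⁻¹ * a⁻¹ ∈ B := fun a ha u hu => by
    refine ⟨D.mul_mem ((Subgroup.mem_normalizer_iff.1 (hBD hu) a).1 ha) (D.inv_mem ha), ?_⟩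
    have := B.mul_mem hu ((Subgroup.mem_normalizer_iff.1 (hDB ha) u⁻¹).1 (B.inv_mem hu))
    simpa [mul_assoc] using this
  have hXX : ⁅X, X⁆ ≤ D ⊓ B := by
    refine Subgroup.commutator_le.2 fun x hx y hy => ?_
    obtain ⟨a, ha, u, hu, rfl⟩ := hdec x hx
    obtain ⟨a', ha', v, hv, rfl⟩ := hdec y hy
    have e : ⁅a * u, a' * v⁆ = (a * (u * a' * u⁻¹ * a'⁻¹) * a⁻¹) *
        ((a * a') * (v * a⁻¹ * v⁻¹ * a) * (a * a')⁻¹) := by
      have huv : u * v = v * u := hB u hu v hv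
      have haa : a * a' = a' * a := hDc a ha a' ha'
      calc ⁅a * u, a' * v⁆ = a * (u * a' * u⁻¹ * a'⁻¹) * a' * (u * v) * u⁻¹ * a⁻¹ * v⁻¹ * a'⁻¹ := by
            rw [commutatorElement_def]; group
        _ = a * (u * a' * u⁻¹ * a'⁻¹) * a⁻¹ * (a * a') * (v * a⁻¹ * v⁻¹ * a) * (a⁻¹ * a'⁻¹) := by
            rw [huv]; group
        _ = a * (u * a' * u⁻¹ * a'⁻¹) * a⁻¹ * (a * a') * (v * a⁻¹ * v⁻¹ * a) * (a' * a)⁻¹ := by group
        _ = _ := by rw [← haa]; group
    have hfix : ∀ g ∈ D, ∀ c ∈ D, g * c * g⁻¹ = c := fun g hg c hc => by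
      rw [hDc g hg c hc, mul_inv_cancel_right]
    have h1 := hca a' ha' u hu
    have h2 : v * a⁻¹ * v⁻¹ * a ∈ D ⊓ B := by
      have := hca _ (D.inv_mem ha) v hv
      rwa [inv_inv] at this
    rw [e, hfix a ha _ h1.1, hfix _ (D.mul_mem ha ha') _ h2.1]
    exact (D ⊓ B).mul_mem h1 h2
  refine (Subgroup.commutator_eq_bot_iff_le_centralizer).2 fun c hc x hx => ?_
  obtain ⟨a, ha, u, hu, rfl⟩ := hdec x hx
  obtain ⟨hcD, hcB⟩ := hXX hc
  calc a * u * c = a * (u * c) := mul_assoc _ _ _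
    _ = a * (c * u) := by rw [hB u hu c hcB]
    _ = (a * c) * u := (mul_assoc _ _ _).symm
    _ = (c * a) * u := by rw [hDc a ha c hcD]
    _ = _ := mul_assoc _ _ _

theorem sup_mem {D E : Subgroup S} (hD : D ∈ Cfsg.dStarFamily S) (hE : E ∈ Cfsg.dStarFamily S)
    (h : ∀ d ∈ D, ∀ e ∈ E, d * e = e * d) : D ⊔ E ∈ Cfsg.dStarFamily S := by
  have hDn : E ≤ Subgroup.normalizer (D : Set S) := fun e he => Subgroup.mem_normalizer_iff.2 fun x =>
    ⟨fun hx => by rwa [← h x hx e he, mul_inv_cancel_right], fun hx => by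
      have h1 : e⁻¹ * (e * x * e⁻¹) = (e * x * e⁻¹) * e⁻¹ := (h _ hx _ (E.inv_mem he)).symm
      have h2 : x * e⁻¹ = e * x * e⁻¹ * e⁻¹ := by rw [← h1]; group
      rwa [mul_right_cancel h2]⟩
  refine ⟨isMulCommutative_iff.2 fun x hx y hy => ?_, fun x hcl a ha => ?_⟩
  · obtain ⟨a, ha, b, hb, rfl⟩ := CfsgLib.mem_sup_of_le_normalizer hDn hx
    obtain ⟨c, hc, d, hd, rfl⟩ := CfsgLib.mem_sup_of_le_normalizer hDn hy
    have c1 : Commute a c := isMulCommutative_iff.1 hD.1 a ha c hc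
    have c2 : Commute a d := h a ha d hd
    have c3 : Commute b c := (h c hc b hb).symm
    have c4 : Commute b d := isMulCommutative_iff.1 hE.1 b hb d hd
    exact ((c1.mul_right c2).mul_left (c3.mul_right c4)).eq
  · obtain ⟨d, hd, e, he, rfl⟩ := CfsgLib.mem_sup_of_le_normalizer hDn ha
    have mono : ∀ A : Subgroup S, A ≤ D ⊔ E →
        ⁅⁅A ⊔ Subgroup.zpowers x, A ⊔ Subgroup.zpowers x⁆, A ⊔ Subgroup.zpowers x⁆ = ⊥ := fun A hA => by
      refine le_bot_iff.1 ((Subgroup.commutator_mono (Subgroup.commutator_mono ?_ ?_) ?_).trans hcl.le) <;>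
        exact sup_le_sup_right hA _
    exact (Commute.mul_left (hD.2 x (mono D le_sup_left) d hd) (hE.2 x (mono E le_sup_right) e he)).eq

theorem map_equiv_mem {D : Subgroup S} (hD : D ∈ Cfsg.dStarFamily S) (φ : MulAut S) :
    D.map φ.toMonoidHom ∈ Cfsg.dStarFamily S := by
  refine ⟨?_, fun x hcl a ha => ?_⟩
  · haveI := hD.1
    infer_instance
  · obtain ⟨d, hd, rfl⟩ := ha
    have e : (D ⊔ Subgroup.zpowers (φ⁻¹ x)).map φ.toMonoidHom = D.map φ.toMonoidHom ⊔ Subgroup.zpowers x := by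
      rw [Subgroup.map_sup, MonoidHom.map_zpowers]
      simp
    rw [← e, ← Subgroup.map_commutator, ← Subgroup.map_commutator,
      Subgroup.map_eq_bot_iff_of_injective _ φ.injective] at hcl
    have := congrArg φ (hD.2 _ hcl d hd)
    simpa using this

variable [Finite S] {p : ℕ} [Fact p.Prime]

theorem normalizer_mem_conj {A : Subgroup S} {x : S}
    (h : ∀ a ∈ A, x * a * x⁻¹ ∈ A) : x ∈ Subgroup.normalizer (A : Set S) := by
  have h1 : A.map (MulAut.conj x).toMonoidHom = A := Subgroup.eq_of_le_of_card_ge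
    (by rintro _ ⟨a, ha, rfl⟩; exact h a ha) (Subgroup.card_map_of_injective (MulEquiv.injective _)).ge
  refine Subgroup.mem_normalizer_iff.2 fun y => ⟨h y, fun hy => ?_⟩
  obtain ⟨z, hz, e⟩ := h1.ge hy
  have : z = y := by simpa [MulAut.conj_apply] using e
  exact this ▸ hz

/-- A maximal member is normal. -/
theorem normal_of_maximal (hS : IsPGroup p S) {M : Subgroup S} (hM : M ∈ Cfsg.dStarFamily S)
    (hmax : ∀ D ∈ Cfsg.dStarFamily S, M ≤ D → D = M) : M.Normal := by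
  haveI := hS.isNilpotent
  rw [← Subgroup.normalizer_eq_top_iff]
  by_contra hne
  set N := Subgroup.normalizer (M : Set S)
  obtain ⟨x, hxN, hx⟩ := SetLike.exists_of_lt
    (Group.normalizerCondition_of_isNilpotent (G := S) N (lt_top_iff_ne_top.2 hne))
  have hM' := map_equiv_mem hM (MulAut.conj x)
  set M' := M.map (MulAut.conj x).toMonoidHom
  have hM'N : M' ≤ N := by
    rintro _ ⟨m, hm, rfl⟩
    exact (Subgroup.mem_normalizer_iff.1 hxN m).1 (Subgroup.le_normalizer hm)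
  have hMN' : M ≤ Subgroup.normalizer (M' : Set S) := fun m hm => by
    have hm' : x⁻¹ * m * x ∈ N := by
      have h := Subgroup.le_normalizer (H := M) hm
      refine (Subgroup.mem_normalizer_iff.1 hxN (x⁻¹ * m * x)).2 ?_
      simpa [mul_assoc] using h
    refine normalizer_mem_conj fun a ha => ?_
    obtain ⟨b, hb, rfl⟩ := ha
    refine ⟨(x⁻¹ * m * x) * b * (x⁻¹ * m * x)⁻¹, (Subgroup.mem_normalizer_iff.1 hm' b).1 hb, ?_⟩
    simp [MulAut.conj_apply, mul_assoc]
  have hc := commute_of_normalizing hM (isMulCommutative_iff.1 hM'.1) hM'N hMN'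
  refine hx (normalizer_mem_conj fun m hm => ?_)
  exact (hmax _ (sup_mem hM hM' hc) le_sup_left).le (Subgroup.mem_sup_right ⟨m, hm, rfl⟩)

theorem dStar_mem (hS : IsPGroup p S) : Cfsg.dStar S ∈ Cfsg.dStarFamily S := by
  have hbot : (⊥ : Subgroup S) ∈ Cfsg.dStarFamily S := ⟨inferInstance, fun x _ a ha => by
    rw [Subgroup.mem_bot.1 ha, one_mul, mul_one]⟩
  obtain ⟨M, -, hM, hMmax⟩ := (Set.toFinite (Cfsg.dStarFamily S)).exists_le_maximal hbot
  have hMmax' : ∀ D ∈ Cfsg.dStarFamily S, M ≤ D → D = M := fun D hD h => le_antisymm (hMmax hD h) h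
  have hMn := normal_of_maximal hS hM hMmax'
  have hall : ∀ D ∈ Cfsg.dStarFamily S, D ≤ M := by
    intro D hD
    obtain ⟨E, hDE, hE, hEmax⟩ := (Set.toFinite (Cfsg.dStarFamily S)).exists_le_maximal hD
    have hEn := normal_of_maximal hS hE fun F hF h => le_antisymm (hEmax hF h) h
    have hc := commute_of_normalizing hM (isMulCommutative_iff.1 hE.1)
      ((Subgroup.normalizer_eq_top M).symm ▸ le_top) ((Subgroup.normalizer_eq_top E).symm ▸ le_top)
    exact hDE.trans (le_sup_right.trans (hMmax' _ (sup_mem hM hE hc) le_sup_left).le)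
  rw [show Cfsg.dStar S = M from le_antisymm (sSup_le hall) (le_sSup hM)]
  exact hM

theorem dStar_normal (hS : IsPGroup p S) : (Cfsg.dStar S).Normal :=
  normal_of_maximal hS (dStar_mem hS) fun _ hD h => le_antisymm (le_sSup hD) h

theorem center_le (hS : IsPGroup p S) : Subgroup.center S ≤ Cfsg.dStar S :=
  le_sSup ⟨inferInstance, fun x _ a ha => (Subgroup.mem_center_iff.1 ha x).symm⟩

/-- The replacement `[A, b] C_A([A, b])` of `A`, when `[A, b]` lies in an abelian subgroup normalised by `A`. -/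
theorem replace_core {A B : Subgroup S} [hBn : B.Normal]
    (hA : A ∈ Cfsg.maxAbelianSubgroups S) (hB : ∀ a ∈ B, ∀ b ∈ B, a * b = b * a) {b : S}
    (hbB : ∀ a ∈ A, a * b * a⁻¹ * b⁻¹ ∈ B) :
    Subgroup.closure {c | ∃ a ∈ A, c = a * b * a⁻¹ * b⁻¹} ⊔
        (A ⊓ Subgroup.centralizer (Subgroup.closure {c | ∃ a ∈ A, c = a * b * a⁻¹ * b⁻¹} : Set S)) ∈
      Cfsg.maxAbelianSubgroups S := by
  obtain ⟨hAc', hAmax⟩ := hA
  have hAc := isMulCommutative_iff.1 hAc'
  set K := Subgroup.closure {c | ∃ a ∈ A, c = a * b * a⁻¹ * b⁻¹}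
  have hKB : K ≤ B := (Subgroup.closure_le _).2 (by rintro _ ⟨a, ha, rfl⟩; exact hbB a ha)
  set C := A ⊓ Subgroup.centralizer (K : Set S)
  set A' := K ⊔ C
  have hKC : ∀ k ∈ K, ∀ c ∈ C, k * c = c * k := fun k hk c hc => hc.2 k hk
  have hCn : C ≤ Subgroup.normalizer (K : Set S) := fun c hc =>
    normalizer_mem_conj fun k hk => by rwa [← hKC k hk c hc, mul_inv_cancel_right]
  have hA'c : ∀ x ∈ A', ∀ y ∈ A', x * y = y * x := by
    intro x hx y hy
    obtain ⟨k, hk, c, hc, rfl⟩ := CfsgLib.mem_sup_of_le_normalizer hCn hx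
    obtain ⟨l, hl, d, hd, rfl⟩ := CfsgLib.mem_sup_of_le_normalizer hCn hy
    have c1 : Commute k l := hB k (hKB hk) l (hKB hl)
    have c2 : Commute k d := hKC k hk d hd
    have c3 : Commute c l := (hKC l hl c hc).symm
    have c4 : Commute c d := hAc c hc.1 d hd.1
    exact ((c1.mul_right c2).mul_left (c3.mul_right c4)).eq
  have hcomm_mem : ∀ a ∈ A, a * b * a⁻¹ * b⁻¹ ∈ K := fun a ha => Subgroup.subset_closure ⟨a, ha, rfl⟩
  -- the map `a ↦ [a, b]` separates the cosets of `C` in `A`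
  have hge : Nat.card A ≤ Nat.card A' := by
    let f : A ⧸ C.subgroupOf A → A' ⧸ C.subgroupOf A' := fun q =>
      QuotientGroup.mk ⟨(q.out : S) * b * (q.out : S)⁻¹ * b⁻¹, Subgroup.mem_sup_left (hcomm_mem _ q.out.2)⟩
    have hinj : Function.Injective f := by
      intro q q' h
      have hm : ((q.out : S) * b * (q.out : S)⁻¹ * b⁻¹)⁻¹ * ((q'.out : S) * b * (q'.out : S)⁻¹ * b⁻¹) ∈ C :=
        Subgroup.mem_subgroupOf.1 (QuotientGroup.eq.1 (show QuotientGroup.mk _ = QuotientGroup.mk _ from h))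
      rw [← q.out_eq, ← q'.out_eq]
      refine QuotientGroup.eq.2 ?_
      show ((q.out : S))⁻¹ * (q'.out : S) ∈ C
      generalize hu : (q.out : S) = u at hm
      generalize hv : (q'.out : S) = v at hm
      have huA : u ∈ A := hu ▸ q.out.2
      have hvA : v ∈ A := hv ▸ q'.out.2
      refine ⟨A.mul_mem (A.inv_mem huA) hvA, ?_⟩
      suffices K ≤ Subgroup.centralizer ({u⁻¹ * v} : Set S) from fun k hk => Subgroup.mem_centralizer_singleton_iff.1 (this hk)
      refine (Subgroup.closure_le _).2 ?_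
      rintro _ ⟨d, hd, rfl⟩
      refine Subgroup.mem_centralizer_singleton_iff.2 ?_
      -- `u` and `v` act in the same way on `[d, b]`
      have key : ∀ a ∈ A, a * (d * b * d⁻¹ * b⁻¹) * a⁻¹ * (d * b * d⁻¹ * b⁻¹)⁻¹ =
          d * (a * b * a⁻¹ * b⁻¹) * d⁻¹ * (a * b * a⁻¹ * b⁻¹)⁻¹ := by
        intro a ha
        have had : a * d = d * a := hAc a ha d hd
        set md := d * b * d⁻¹ * b⁻¹ with hmd
        set ma := a * b * a⁻¹ * b⁻¹ with hma
        have e : (a * md * a⁻¹) * ma = (d * ma * d⁻¹) * md := by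
          calc (a * md * a⁻¹) * ma = (a * d) * b * (a * d)⁻¹ * b⁻¹ := by rw [hmd, hma]; group
            _ = (d * a) * b * (d * a)⁻¹ * b⁻¹ := by rw [had]
            _ = _ := by rw [hmd, hma]; group
        have c1 : Commute md⁻¹ ma := hB _ (B.inv_mem (hbB d hd)) _ (hbB a ha)
        calc a * md * a⁻¹ * md⁻¹ = (a * md * a⁻¹) * (ma * ma⁻¹) * md⁻¹ := by group
          _ = ((a * md * a⁻¹) * ma) * (ma⁻¹ * md⁻¹) := by group
          _ = ((d * ma * d⁻¹) * md) * (ma⁻¹ * md⁻¹) := by rw [e]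
          _ = ((d * ma * d⁻¹) * md) * (md⁻¹ * ma⁻¹) := by rw [(c1.symm.inv_left).eq]
          _ = _ := by group
      set k := d * b * d⁻¹ * b⁻¹
      set mu := u * b * u⁻¹ * b⁻¹
      set mv := v * b * v⁻¹ * b⁻¹
      have hdm : Commute d (mu⁻¹ * mv) := hAc d hd _ hm.1
      have h3 : d * mv * d⁻¹ * mv⁻¹ = d * mu * d⁻¹ * mu⁻¹ := by
        have ev : mv = mu * (mu⁻¹ * mv) := (mul_inv_cancel_left _ _).symm
        rw [ev]
        calc d * (mu * (mu⁻¹ * mv)) * d⁻¹ * (mu * (mu⁻¹ * mv))⁻¹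
            = d * mu * ((mu⁻¹ * mv) * d⁻¹) * (mu⁻¹ * mv)⁻¹ * mu⁻¹ := by group
          _ = d * mu * (d⁻¹ * (mu⁻¹ * mv)) * (mu⁻¹ * mv)⁻¹ * mu⁻¹ := by rw [hdm.inv_left.eq]
          _ = _ := by group
      rw [← key v hvA, ← key u huA] at h3
      have h4 : v * k * v⁻¹ = u * k * u⁻¹ := mul_right_cancel h3
      calc k * (u⁻¹ * v) = u⁻¹ * (u * k * u⁻¹) * v := by group
        _ = u⁻¹ * (v * k * v⁻¹) * v := by rw [h4]
        _ = _ := by group
    have h1 := Nat.card_le_card_of_injective f hinj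
    rw [← Subgroup.card_mul_index (C.subgroupOf A), ← Subgroup.card_mul_index (C.subgroupOf A'),
      Nat.card_congr (Subgroup.subgroupOfEquivOfLe (inf_le_left : C ≤ A)).toEquiv,
      Nat.card_congr (Subgroup.subgroupOfEquivOfLe (le_sup_right : C ≤ A')).toEquiv]
    exact Nat.mul_le_mul_left _ h1
  exact ⟨isMulCommutative_iff.2 hA'c, fun B' hB' => (hAmax B' hB').trans hge⟩

/-- Thompson's replacement theorem. -/
theorem thompson_replacement (hS : IsPGroup p S) {A B : Subgroup S} [hBn : B.Normal]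
    (hA : A ∈ Cfsg.maxAbelianSubgroups S) (hB : ∀ a ∈ B, ∀ b ∈ B, a * b = b * a)
    (hnot : ¬ B ≤ Subgroup.normalizer (A : Set S)) :
    ∃ A' ∈ Cfsg.maxAbelianSubgroups S, A ⊓ B < A' ⊓ B ∧ A' ≤ Subgroup.normalizer (A : Set S) := by
  have hStop : IsPGroup p (⊤ : Subgroup S) := hS.to_subgroup _
  obtain ⟨b, hbB, hbA, hbN⟩ := CfsgLib.ZJ.exists_mem_normalizer_normalizer hStop le_top
    (Subgroup.normalizer_eq_top B).symm.le hnot
  simp only [top_inf_eq] at hbN
  have hmemB : ∀ a ∈ A, a * b * a⁻¹ * b⁻¹ ∈ B := fun a _ => B.mul_mem (hBn.conj_mem b hbB a) (B.inv_mem hbB)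
  have h := replace_core hA hB hmemB
  set K := Subgroup.closure {c | ∃ a ∈ A, c = a * b * a⁻¹ * b⁻¹}
  have hKB : K ≤ B := (Subgroup.closure_le _).2 (by rintro _ ⟨a, ha, rfl⟩; exact hmemB a ha)
  have hKN : K ≤ Subgroup.normalizer (A : Set S) := (Subgroup.closure_le _).2 (by
    rintro _ ⟨a, ha, rfl⟩
    have h1 := (hbN a⁻¹).1 (Subgroup.le_normalizer (A.inv_mem ha))
    have := Subgroup.mul_mem _ (Subgroup.le_normalizer (H := A) ha) h1
    simpa [mul_assoc] using this)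
  refine ⟨_, h, ?_, sup_le hKN (inf_le_left.trans Subgroup.le_normalizer)⟩
  have hle : A ⊓ B ≤ (K ⊔ (A ⊓ Subgroup.centralizer (K : Set S))) ⊓ B := fun x hx =>
    ⟨Subgroup.mem_sup_right ⟨hx.1, fun k hk => hB k (hKB hk) x hx.2⟩, hx.2⟩
  refine lt_of_le_of_ne hle fun e => hbA (normalizer_mem_conj fun a ha => ?_)
  have h1 : a⁻¹ * b * a⁻¹⁻¹ * b⁻¹ ∈ A :=
    (e.ge ⟨Subgroup.mem_sup_left (Subgroup.subset_closure ⟨_, A.inv_mem ha, rfl⟩), hmemB _ (A.inv_mem ha)⟩).1
  have := A.mul_mem ha h1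
  simpa [mul_assoc] using this

/-- Gillam: in a metabelian group a normal abelian subgroup of largest order lies in any given normal
subgroup containing one of largest order. -/
theorem gillam (hmeta : IsMulCommutative ↥(commutator S)) {A : Subgroup S}
    (hA : A ∈ Cfsg.maxAbelianSubgroups S) (N : Subgroup S) [hN : N.Normal] (hAN : A ≤ N) :
    ∃ B ∈ Cfsg.maxAbelianSubgroups S, B.Normal ∧ B ≤ N := by
  set C := commutator S
  have hC := isMulCommutative_iff.1 hmeta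
  obtain ⟨B, ⟨hB, hBN⟩, hBm⟩ := Set.exists_max_image
    {B : Subgroup S | B ∈ Cfsg.maxAbelianSubgroups S ∧ B ≤ N} (fun B => Nat.card ↥(B ⊓ C))
    (Set.toFinite _) ⟨A, hA, hAN⟩
  refine ⟨B, hB, Subgroup.normalizer_eq_top_iff.1 (top_le_iff.1 fun b _ => normalizer_mem_conj fun a ha => ?_), hBN⟩
  have hmem : ∀ a ∈ B, a * b * a⁻¹ * b⁻¹ ∈ C := fun a _ =>
    Subgroup.commutator_mem_commutator (Subgroup.mem_top a) (Subgroup.mem_top b)
  have hmax' := replace_core hB hC hmem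
  set K := Subgroup.closure {c | ∃ a ∈ B, c = a * b * a⁻¹ * b⁻¹}
  have hKC : K ≤ C := (Subgroup.closure_le _).2 (by rintro _ ⟨a, ha, rfl⟩; exact hmem a ha)
  have hKN : K ≤ N := (Subgroup.closure_le _).2 (by
    rintro _ ⟨a, ha, rfl⟩
    have := N.mul_mem (hBN ha) (hN.conj_mem _ (N.inv_mem (hBN ha)) b)
    simpa [mul_assoc] using this)
  set B' := K ⊔ (B ⊓ Subgroup.centralizer (K : Set S))
  have hle : B ⊓ C ≤ B' ⊓ C := fun x hx =>
    ⟨Subgroup.mem_sup_right ⟨hx.1, fun k hk => hC k (hKC hk) x hx.2⟩, hx.2⟩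
  have heq := Subgroup.eq_of_le_of_card_ge hle (hBm B' ⟨hmax', sup_le hKN (inf_le_left.trans hBN)⟩)
  have h1 : a⁻¹ * b * a⁻¹⁻¹ * b⁻¹ ∈ B :=
    (heq.ge ⟨Subgroup.mem_sup_left (Subgroup.subset_closure ⟨_, B.inv_mem ha, rfl⟩), hmem _ (B.inv_mem ha)⟩).1
  have := B.mul_mem ha h1
  simpa [mul_assoc] using this

theorem dStar_commute_maxAbelian (hS : IsPGroup p S) {A : Subgroup S} (hA : A ∈ Cfsg.maxAbelianSubgroups S) :
    Cfsg.dStar S ≤ A := by
  haveI := dStar_normal hS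
  have hD := dStar_mem hS
  have hDc := isMulCommutative_iff.1 hD.1
  set D := Cfsg.dStar S
  have absorb : ∀ A ∈ Cfsg.maxAbelianSubgroups S, D ≤ Subgroup.normalizer (A : Set S) → D ≤ A := by
    intro A hA hn
    have hc := commute_of_normalizing hD (isMulCommutative_iff.1 hA.1)
      ((Subgroup.normalizer_eq_top D).symm ▸ le_top) hn
    have hn' : A ≤ Subgroup.normalizer (D : Set S) := (Subgroup.normalizer_eq_top D).symm ▸ le_top
    have habel : ∀ x ∈ D ⊔ A, ∀ y ∈ D ⊔ A, x * y = y * x := by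
      intro x hx y hy
      obtain ⟨a, ha, b, hb, rfl⟩ := CfsgLib.mem_sup_of_le_normalizer hn' hx
      obtain ⟨c, hc', d, hd, rfl⟩ := CfsgLib.mem_sup_of_le_normalizer hn' hy
      have c1 : Commute a c := hDc a ha c hc'
      have c2 : Commute a d := hc a ha d hd
      have c3 : Commute b c := (hc c hc' b hb).symm
      have c4 : Commute b d := isMulCommutative_iff.1 hA.1 b hb d hd
      exact ((c1.mul_right c2).mul_left (c3.mul_right c4)).eq
    have h1 := Subgroup.eq_of_le_of_card_ge (le_sup_right : A ≤ D ⊔ A) (hA.2 _ (isMulCommutative_iff.2 habel))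
    exact le_sup_left.trans h1.ge
  suffices ∀ n, ∀ A ∈ Cfsg.maxAbelianSubgroups S, Nat.card D - Nat.card ↥(A ⊓ D) ≤ n → D ≤ A from
    this _ A hA le_rfl
  intro n
  induction n with
  | zero =>
    intro A hA hn
    have hle : Nat.card D ≤ Nat.card ↥(A ⊓ D) := by omega
    exact (Subgroup.eq_of_le_of_card_ge inf_le_right hle).ge.trans inf_le_left
  | succ n ih =>
    intro A hA hn
    refine absorb A hA ?_
    by_contra hnot
    obtain ⟨A', hA', hlt, hA'n⟩ := thompson_replacement hS hA hDc hnot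
    have h1 : Nat.card ↥(A ⊓ D) < Nat.card ↥(A' ⊓ D) := by
      refine lt_of_le_of_ne (Subgroup.card_le_of_le hlt.le) fun e => hlt.ne ?_
      exact Subgroup.eq_of_le_of_card_ge hlt.le e.ge
    have h2 : Nat.card ↥(A' ⊓ D) ≤ Nat.card D := Subgroup.card_le_of_le inf_le_right
    exact hnot ((ih A' hA' (by omega)).trans hA'n)

theorem le_thompson (hS : IsPGroup p S) :
    Cfsg.dStar S ≤ Cfsg.thompsonSubgroupA S ⊓ Subgroup.centralizer (Cfsg.thompsonSubgroupA S : Set S) := by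
  obtain ⟨A, hAc, hAm⟩ := Set.exists_max_image {A : Subgroup S | IsMulCommutative A} (fun A => Nat.card A)
    (Set.toFinite _) ⟨⊥, inferInstanceAs (IsMulCommutative (⊥ : Subgroup S))⟩
  refine le_inf ((dStar_commute_maxAbelian hS ⟨hAc, hAm⟩).trans (le_sSup ⟨hAc, hAm⟩)) fun d hd => ?_
  have : Cfsg.thompsonSubgroupA S ≤ Subgroup.centralizer ({d} : Set S) := sSup_le fun B hB b hb =>
    Subgroup.mem_centralizer_singleton_iff.2
      (isMulCommutative_iff.1 hB.1 b hb d (dStar_commute_maxAbelian hS hB hd))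
  exact fun x hx => Subgroup.mem_centralizer_singleton_iff.1 (this hx)

theorem le_maximal_normal_abelian (hS : IsPGroup p S) {A : Subgroup S} [A.Normal] (hA : IsMulCommutative A)
    (hmax : ∀ B : Subgroup S, B.Normal → IsMulCommutative B → A ≤ B → B = A) : Cfsg.dStar S ≤ A := by
  haveI := dStar_normal hS
  set D := Cfsg.dStar S
  have hc := commute_of_normalizing (dStar_mem hS) (isMulCommutative_iff.1 hA)
    ((Subgroup.normalizer_eq_top D).symm ▸ le_top) ((Subgroup.normalizer_eq_top A).symm ▸ le_top)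
  have hn' : A ≤ Subgroup.normalizer (D : Set S) := (Subgroup.normalizer_eq_top D).symm ▸ le_top
  have habel : IsMulCommutative ↥(D ⊔ A) := isMulCommutative_iff.2 fun x hx y hy => by
    obtain ⟨a, ha, b, hb, rfl⟩ := CfsgLib.mem_sup_of_le_normalizer hn' hx
    obtain ⟨c, hc', d, hd, rfl⟩ := CfsgLib.mem_sup_of_le_normalizer hn' hy
    have c1 : Commute a c := isMulCommutative_iff.1 (dStar_mem hS).1 a ha c hc'
    have c2 : Commute a d := hc a ha d hd
    have c3 : Commute b c := (hc c hc' b hb).symm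
    have c4 : Commute b d := isMulCommutative_iff.1 hA b hb d hd
    exact ((c1.mul_right c2).mul_left (c3.mul_right c4)).eq
  exact le_sup_left.trans (hmax _ inferInstance habel le_sup_right).le

end CfsgLib.DStar
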