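import Mathlib

/-!
Counting lemmas for derangements in transitive and doubly transitive groups (for S5730).
-/

set_option autoImplicit false

open MulAction Finset

namespace Cfsg.Agent.DerangeTwo

variable {G Ω : Type*} [Group G] [Fintype G] [DecidableEq G] [MulAction G Ω] [Fintype Ω]
  [DecidableEq Ω]

/-- fixed points as a finset -/
def fx (g : G) : Finset Ω := univ.filter (fun x => g • x = x)

@[simp] lemma mem_fx {g : G} {x : Ω} : x ∈ (fx g : Finset Ω) ↔ g • x = x := by simp [fx]

variable (G Ω)

/-- doubly transitive, elementary form -/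
def TT : Prop := ∀ a b c d : Ω, a ≠ b → c ≠ d → ∃ g : G, g • a = c ∧ g • b = d

variable {G Ω}

/-- two-point stabiliser as a finset -/
def hs (a b : Ω) : Finset G := univ.filter (fun g => g • a = a ∧ g • b = b)

@[simp] lemma mem_hs {a b : Ω} {g : G} : g ∈ (hs a b : Finset G) ↔ g • a = a ∧ g • b = b := by
  simp [hs]

/-- the points fixed by the whole two-point stabiliser -/
def line (G : Type*) [Group G] [Fintype G] [DecidableEq G] [MulAction G Ω] (a b : Ω) : Finset Ω :=
  univ.filter (fun x => ∀ g ∈ (hs a b : Finset G), g • x = x)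

@[simp] lemma mem_line {a b x : Ω} :
    x ∈ line G a b ↔ ∀ g : G, g • a = a → g • b = b → g • x = x := by
  simp [line]

lemma fx_one : (fx (1 : G) : Finset Ω) = univ := by ext x; simp

lemma card_fx_one : (fx (1 : G) : Finset Ω).card = Fintype.card Ω := by
  rw [fx_one, card_univ]

lemma eq_one_of_fx [FaithfulSMul G Ω] {g : G} (h : ∀ x : Ω, g • x = x) : g = 1 :=
  eq_of_smul_eq_smul (α := Ω) fun x => by rw [h x, one_smul]

lemma card_fx_lt [FaithfulSMul G Ω] {g : G} (h : g ≠ 1) :
    (fx g : Finset Ω).card < Fintype.card Ω := by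
  rw [← card_univ]
  apply card_lt_card
  rw [ssubset_univ_iff]
  intro he
  exact h (eq_one_of_fx fun x => mem_fx.1 (he.symm ▸ mem_univ x))

lemma fx_conj (g h : G) :
    (fx (g * h * g⁻¹) : Finset Ω) = (fx h).image (fun x => g • x) := by
  ext x
  simp only [mem_fx, mem_image, mul_smul]
  constructor
  · intro hx
    exact ⟨g⁻¹ • x, eq_inv_smul_iff.2 hx, smul_inv_smul g x⟩
  · rintro ⟨y, hy, rfl⟩
    rw [inv_smul_smul, hy]

lemma card_fx_conj (g h : G) :
    (fx (g * h * g⁻¹) : Finset Ω).card = (fx h : Finset Ω).card := by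
  rw [fx_conj, card_image_of_injective _ (MulAction.injective g)]

lemma hs_conj {a b c d : Ω} {g : G} (h1 : g • a = c) (h2 : g • b = d) :
    (hs c d : Finset G) = (hs a b).image (fun h => g * h * g⁻¹) := by
  subst h1; subst h2
  ext x
  simp only [mem_hs, mem_image]
  constructor
  · rintro ⟨hx1, hx2⟩
    refine ⟨g⁻¹ * x * g, ⟨?_, ?_⟩, by group⟩
    · rw [mul_smul, mul_smul, hx1, inv_smul_smul]
    · rw [mul_smul, mul_smul, hx2, inv_smul_smul]
  · rintro ⟨y, ⟨hy1, hy2⟩, rfl⟩
    constructor
    · rw [mul_smul, mul_smul, inv_smul_smul, hy1]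
    · rw [mul_smul, mul_smul, inv_smul_smul, hy2]

lemma sum_hs_conj {M : Type*} [AddCommMonoid M] (hT : TT G Ω) {a b c d : Ω} (hab : a ≠ b)
    (hcd : c ≠ d) (φ : G → M) (hφ : ∀ g h, φ (g * h * g⁻¹) = φ h) :
    ∑ h ∈ (hs c d : Finset G), φ h = ∑ h ∈ (hs a b : Finset G), φ h := by
  obtain ⟨g, h1, h2⟩ := hT a b c d hab hcd
  rw [hs_conj h1 h2, sum_image]
  · exact sum_congr rfl fun x _ => hφ g x
  · intro x _ y _ hxy; simpa using hxy

lemma card_hs_eq (hT : TT G Ω) {a b c d : Ω} (hab : a ≠ b) (hcd : c ≠ d) :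
    (hs c d : Finset G).card = (hs a b : Finset G).card := by
  rw [card_eq_sum_ones, card_eq_sum_ones]
  exact sum_hs_conj hT hab hcd (fun _ => 1) fun _ _ => rfl

lemma card_line_eq (hT : TT G Ω) {a b c d : Ω} (hab : a ≠ b) (hcd : c ≠ d) :
    (line G c d).card = (line G a b).card := by
  obtain ⟨g, h1, h2⟩ := hT a b c d hab hcd
  have : line G c d = (line G a b).image (fun x => g • x) := by
    ext x
    simp only [line, mem_filter, mem_univ, true_and, mem_image, hs_conj h1 h2,
      forall_exists_index, and_imp, forall_apply_eq_imp_iff₂]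
    constructor
    · intro hx
      refine ⟨g⁻¹ • x, fun h hh => ?_, smul_inv_smul g x⟩
      have := hx h hh
      rw [mul_smul, mul_smul] at this
      exact eq_inv_smul_iff.2 this
    · rintro ⟨y, hy, rfl⟩ h hh
      rw [mul_smul, mul_smul, inv_smul_smul, hy h hh]
  rw [this, card_image_of_injective _ (MulAction.injective g)]

/-- If one two-point stabiliser is contained in another they are equal. -/
lemma hs_eq_of_fix (hT : TT G Ω) {a b c d : Ω} (hab : a ≠ b) (hcd : c ≠ d)
    (hc : c ∈ line G a b) (hd : d ∈ line G a b) : (hs c d : Finset G) = hs a b := by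
  refine (eq_of_subset_of_card_le (fun g hg => ?_) (card_hs_eq hT hab hcd).le).symm
  rw [mem_hs] at hg ⊢
  exact ⟨mem_line.1 hc g hg.1 hg.2, mem_line.1 hd g hg.1 hg.2⟩

lemma self_mem_line_left (a b : Ω) : a ∈ line G a b := by simp +contextual

lemma self_mem_line_right (a b : Ω) : b ∈ line G a b := by simp +contextual

lemma line_subset_fx {a b : Ω} {h : G} (ha : h • a = a) (hb : h • b = b) :
    line G a b ⊆ fx h := fun x hx => mem_fx.2 (mem_line.1 hx h ha hb)

lemma two_le_card_line {a b : Ω} (hab : a ≠ b) : 2 ≤ (line G a b).card := by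
  have : ({a, b} : Finset Ω) ⊆ line G a b := by
    intro x hx
    simp only [mem_insert, mem_singleton] at hx
    rcases hx with rfl | rfl
    · exact self_mem_line_left _ _
    · exact self_mem_line_right _ _
  simpa [hab] using card_le_card this

/-- Lines from a point outside a line-closed set meet only at that point. -/
lemma subspace_bound (hT : TT G Ω) {a b : Ω} (hab : a ≠ b) (S T : Finset Ω) {e : Ω}
    (he : e ∉ S) (heT : e ∈ T) (hS : ∀ c ∈ S, ∀ d ∈ S, c ≠ d → line G c d ⊆ S)
    (hTS : ∀ c ∈ S, line G e c ⊆ T) :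
    S.card * ((line G a b).card - 1) + 1 ≤ T.card := by
  classical
  have hne : ∀ c ∈ S, e ≠ c := fun c hc h => he (h ▸ hc)
  have hdisj : (↑S : Set Ω).PairwiseDisjoint (fun c => (line G e c).erase e) := by
    intro c hc c' hc' hcc'
    have hc0 : c ∈ S := hc
    have hc0' : c' ∈ S := hc'
    rw [Function.onFun, Finset.disjoint_left]
    intro p hp hp'
    rw [mem_erase] at hp hp'
    have e1 := hs_eq_of_fix hT (hne c hc0) (Ne.symm hp.1) (self_mem_line_left e c) hp.2
    have e2 := hs_eq_of_fix hT (hne c' hc0') (Ne.symm hp.1) (self_mem_line_left e c') hp'.2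
    apply he
    apply hS c hc0 c' hc0' hcc'
    rw [mem_line]
    intro g hgc hgc'
    have hsub : (hs e c : Finset G) ⊆ hs c c' := by
      intro y hy
      have : y ∈ (hs e c' : Finset G) := by rw [← e2, e1]; exact hy
      rw [mem_hs] at hy this ⊢
      exact ⟨hy.2, this.2⟩
    have := eq_of_subset_of_card_le hsub (card_hs_eq hT (hne c hc0) hcc').le
    have hg : g ∈ (hs e c : Finset G) := by rw [this]; simp [hgc, hgc']
    exact (mem_hs.1 hg).1
  have h1 : (S.biUnion fun c => (line G e c).erase e) ⊆ T.erase e := by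
    intro x hx
    rw [mem_biUnion] at hx
    obtain ⟨c, hc, hx⟩ := hx
    rw [mem_erase] at hx ⊢
    exact ⟨hx.1, hTS c hc hx.2⟩
  have h2 := card_le_card h1
  rw [card_biUnion hdisj, card_erase_of_mem heT] at h2
  have h3 : ∀ c ∈ S, ((line G e c).erase e).card = (line G a b).card - 1 := fun c hc => by
    rw [card_erase_of_mem (self_mem_line_left e c), card_line_eq hT hab (hne c hc)]
  rw [sum_congr rfl h3, sum_const, smul_eq_mul] at h2
  have : 0 < T.card := card_pos.2 ⟨e, heT⟩
  omega

lemma fx_line_closed {g : G} : ∀ c ∈ (fx g : Finset Ω), ∀ d ∈ (fx g : Finset Ω), c ≠ d →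
    line G c d ⊆ fx g :=
  fun _ hc _ hd _ => line_subset_fx (mem_fx.1 hc) (mem_fx.1 hd)

/-- Fixed point sets of non-identity elements are small subspaces. -/
lemma fx_bound [FaithfulSMul G Ω] (hT : TT G Ω) {a b : Ω} (hab : a ≠ b) {g : G} (hg : g ≠ 1) :
    (fx g : Finset Ω).card * ((line G a b).card - 1) + 1 ≤ Fintype.card Ω := by
  have : ∃ e : Ω, e ∉ (fx g : Finset Ω) := by
    by_contra hc
    push_neg at hc
    exact hg (eq_one_of_fx fun x => mem_fx.1 (hc x))
  obtain ⟨e, he⟩ := this
  rw [← card_univ]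
  exact subspace_bound hT hab _ univ he (mem_univ _) fx_line_closed fun c _ => subset_univ _

/-! ### sums -/

lemma sum_card_fx_sq (φ : G → ℚ) :
    ∑ g : G, ((fx g : Finset Ω).offDiag.card : ℚ) * φ g =
      ∑ p ∈ (univ : Finset Ω).offDiag, ∑ g ∈ (hs p.1 p.2 : Finset G), φ g := by
  calc ∑ g : G, ((fx g : Finset Ω).offDiag.card : ℚ) * φ g
      = ∑ g : G, ∑ p ∈ (univ : Finset Ω).offDiag,
          (if g • p.1 = p.1 ∧ g • p.2 = p.2 then φ g else 0) := by
        refine sum_congr rfl fun g _ => ?_
        rw [← sum_filter, sum_const, nsmul_eq_mul]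
        have : ((univ : Finset Ω).offDiag.filter fun p => g • p.1 = p.1 ∧ g • p.2 = p.2) =
            (fx g).offDiag := by
          ext p
          simp [mem_offDiag]
          tauto
        rw [this]
    _ = ∑ p ∈ (univ : Finset Ω).offDiag, ∑ g : G,
          (if g • p.1 = p.1 ∧ g • p.2 = p.2 then φ g else 0) := sum_comm
    _ = _ := sum_congr rfl fun p _ => by rw [← sum_filter]; rfl

lemma card_stab_mul (htr : IsPretransitive G Ω) (x : Ω) :
    (univ.filter (fun g : G => g • x = x)).card * Fintype.card Ω = Fintype.card G := by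
  have h := card_eq_sum_card_fiberwise (f := fun g : G => g • x)
    (s := (univ : Finset G)) (t := (univ : Finset Ω)) (fun _ _ => mem_univ _)
  have h2 : ∀ y : Ω, (univ.filter (fun g : G => g • x = y)).card =
      (univ.filter (fun g : G => g • x = x)).card := by
    intro y
    obtain ⟨t, ht⟩ := exists_smul_eq G x y
    refine card_bij' (fun g _ => t⁻¹ * g) (fun g _ => t * g) ?_ ?_ ?_ ?_
    · intro g hg
      simp only [mem_filter, mem_univ, true_and] at hg ⊢
      rw [mul_smul, hg, ← ht, inv_smul_smul]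
    · intro g hg
      simp only [mem_filter, mem_univ, true_and] at hg ⊢
      rw [mul_smul, hg, ht]
    · intro g _; simp
    · intro g _; simp
  rw [sum_congr rfl (fun y _ => h2 y), sum_const, smul_eq_mul, card_univ, card_univ] at h
  rw [h]; ring

lemma sum_card_fx (htr : IsPretransitive G Ω) [Nonempty Ω] :
    ∑ g : G, (fx g : Finset Ω).card = Fintype.card G := by
  have : ∑ g : G, (fx g : Finset Ω).card =
      ∑ x : Ω, (univ.filter (fun g : G => g • x = x)).card := by
    simp only [fx, card_eq_sum_ones, sum_filter]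
    exact sum_comm
  rw [this]
  obtain ⟨x₀⟩ := (inferInstance : Nonempty Ω)
  have h : ∀ x : Ω, (univ.filter (fun g : G => g • x = x)).card =
      (univ.filter (fun g : G => g • x₀ = x₀)).card := by
    intro x
    have h1 := card_stab_mul htr x
    have h2 := card_stab_mul htr x₀
    exact Nat.eq_of_mul_eq_mul_right Fintype.card_pos (h1.trans h2.symm)
  rw [sum_congr rfl (fun x _ => h x), sum_const, smul_eq_mul, card_univ, mul_comm,
    card_stab_mul htr x₀]

/-- derangements -/
def der (G Ω : Type*) [Group G] [Fintype G] [MulAction G Ω] [Fintype Ω] [DecidableEq Ω] :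
    Finset G := univ.filter (fun g => ∀ x : Ω, g • x ≠ x)

lemma mem_der {g : G} : g ∈ der G Ω ↔ (fx g : Finset Ω).card = 0 := by
  simp [der, fx, filter_eq_empty_iff]

lemma master [Nonempty Ω] :
    (Fintype.card Ω : ℚ) * (der G Ω).card =
      ∑ g ∈ univ.filter (fun g => g ∉ der G Ω),
          (((fx g : Finset Ω).card : ℚ) - 1) * (Fintype.card Ω - (fx g : Finset Ω).card) +
        ∑ g : G, (((fx g : Finset Ω).card : ℚ) * (fx g : Finset Ω).card
          - (Fintype.card Ω + 1) * (fx g : Finset Ω).card + Fintype.card Ω) := by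
  rw [sum_filter, ← sum_add_distrib]
  have : ((der G Ω).card : ℚ) = ∑ g : G, if g ∈ der G Ω then (1 : ℚ) else 0 := by simp
  rw [this, mul_sum]
  refine sum_congr rfl fun g _ => ?_
  by_cases hg : g ∈ der G Ω
  · have : (fx g : Finset Ω).card = 0 := mem_der.1 hg
    simp [hg, this]
  · simp [hg]; ring

lemma master' (htr : IsPretransitive G Ω) [Nonempty Ω] :
    (Fintype.card Ω : ℚ) * (der G Ω).card =
      ∑ g ∈ univ.filter (fun g => g ∉ der G Ω),
          (((fx g : Finset Ω).card : ℚ) - 1) * (Fintype.card Ω - (fx g : Finset Ω).card) +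
        ((∑ g : G, ((fx g : Finset Ω).card : ℚ) * (fx g : Finset Ω).card) - Fintype.card G) := by
  rw [master, sum_add_distrib, sum_sub_distrib, ← mul_sum, sum_const, card_univ, nsmul_eq_mul,
    ← Nat.cast_sum, sum_card_fx htr]
  ring

lemma card_group_two (hT : TT G Ω) {a b : Ω} (hab : a ≠ b) :
    Fintype.card G = Fintype.card Ω * (Fintype.card Ω - 1) * (hs a b : Finset G).card := by
  have h := card_eq_sum_card_fiberwise (f := fun g : G => (g • a, g • b))
    (s := (univ : Finset G)) (t := (univ : Finset Ω).offDiag)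
    (fun g _ => by simp [mem_offDiag, hab])
  have h2 : ∀ p ∈ (univ : Finset Ω).offDiag,
      (univ.filter (fun g : G => (g • a, g • b) = p)).card = (hs a b : Finset G).card := by
    intro p hp
    simp only [mem_offDiag, mem_univ, true_and] at hp
    obtain ⟨t, ht1, ht2⟩ := hT a b p.1 p.2 hab hp
    refine card_bij' (fun g _ => t⁻¹ * g) (fun g _ => t * g) ?_ ?_ ?_ ?_
    · intro g hg
      simp only [mem_filter, mem_univ, true_and, Prod.ext_iff] at hg
      rw [mem_hs, mul_smul, mul_smul, hg.1, hg.2, ← ht1, ← ht2, inv_smul_smul, inv_smul_smul]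
      exact ⟨rfl, rfl⟩
    · intro g hg
      rw [mem_hs] at hg
      simp only [mem_filter, mem_univ, true_and, Prod.ext_iff]
      rw [mul_smul, mul_smul, hg.1, hg.2]
      exact ⟨ht1, ht2⟩
    · intro g _; simp
    · intro g _; simp
  rw [sum_congr rfl h2, sum_const, smul_eq_mul, offDiag_card, card_univ, card_univ] at h
  rw [h, Nat.mul_sub_one]

/-- In a doubly transitive group the excess of derangements comes from a two-point stabiliser. -/
lemma two_trans_identity [Nonempty Ω] (htr : IsPretransitive G Ω) (hT : TT G Ω) {a b : Ω}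
    (hab : a ≠ b) :
    (Fintype.card Ω : ℚ) * (der G Ω).card = Fintype.card G +
      (Fintype.card Ω * (Fintype.card Ω - 1) : ℕ) *
        ∑ h ∈ (hs a b : Finset G),
          ((Fintype.card Ω : ℚ) - (fx h : Finset Ω).card) / (fx h : Finset Ω).card := by
  have hoff : ((univ : Finset Ω).offDiag.card : ℕ) = Fintype.card Ω * (Fintype.card Ω - 1) := by
    rw [offDiag_card, card_univ, Nat.mul_sub_one]
  have hgen : ∀ φ : G → ℚ, (∀ g h, φ (g * h * g⁻¹) = φ h) →
      ∑ g : G, ((fx g : Finset Ω).offDiag.card : ℚ) * φ g =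
        (Fintype.card Ω * (Fintype.card Ω - 1) : ℕ) * ∑ h ∈ (hs a b : Finset G), φ h := by
    intro φ hφ
    rw [sum_card_fx_sq, sum_congr rfl (g := fun _ => ∑ h ∈ (hs a b : Finset G), φ h), sum_const,
      nsmul_eq_mul, hoff]
    intro p hp
    exact sum_hs_conj hT hab (by simpa [mem_offDiag] using hp) φ hφ
  have hodq : ∀ g : G, ((fx g : Finset Ω).offDiag.card : ℚ) =
      ((fx g : Finset Ω).card : ℚ) * (fx g : Finset Ω).card - (fx g : Finset Ω).card := by
    intro g
    rw [offDiag_card, Nat.cast_sub (Nat.le_mul_self _), Nat.cast_mul]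
  have hsq : (∑ g : G, ((fx g : Finset Ω).card : ℚ) * (fx g : Finset Ω).card) =
      Fintype.card G + Fintype.card G := by
    have h1 := hgen (fun _ => 1) (fun _ _ => rfl)
    simp only [mul_one, sum_const, nsmul_eq_mul, hodq, sum_sub_distrib] at h1
    rw [← Nat.cast_sum, sum_card_fx htr] at h1
    have h2 := card_group_two (G := G) hT hab
    have h3 : (Fintype.card G : ℚ) =
        (Fintype.card Ω * (Fintype.card Ω - 1) : ℕ) * ((hs a b : Finset G).card : ℚ) := by
      exact_mod_cast h2
    linarith
  have hex : ∑ g ∈ univ.filter (fun g => g ∉ der G Ω),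
      (((fx g : Finset Ω).card : ℚ) - 1) * (Fintype.card Ω - (fx g : Finset Ω).card) =
      (Fintype.card Ω * (Fintype.card Ω - 1) : ℕ) * ∑ h ∈ (hs a b : Finset G),
          ((Fintype.card Ω : ℚ) - (fx h : Finset Ω).card) / (fx h : Finset Ω).card := by
    rw [← hgen _ (fun g h => by rw [card_fx_conj]), sum_filter]
    refine sum_congr rfl fun g _ => ?_
    rw [hodq]
    by_cases hg : g ∈ der G Ω
    · have h0 : (fx g : Finset Ω).card = 0 := mem_der.1 hg
      simp [hg, h0]
    · have h0 : ((fx g : Finset Ω).card : ℚ) ≠ 0 := by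
        exact_mod_cast fun h => hg (mem_der.2 h)
      simp only [hg, not_false_eq_true, if_true]
      field_simp
  rw [master' htr, hex, hsq]
  ring

lemma rank_three_bound [Nonempty Ω] (htr : IsPretransitive G Ω) (hT : ¬ TT G Ω) :
    2 * Fintype.card G ≤ Fintype.card Ω * (der G Ω).card := by
  classical
  simp only [TT, not_forall, not_exists, not_and] at hT
  obtain ⟨a, b, c, d, hab, hcd, hno⟩ := hT
  obtain ⟨t, ht⟩ := exists_smul_eq G a c
  have hb' : t • b ≠ c := fun h => hab ((MulAction.injective t) (ht.trans h.symm))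
  have hsum : ∀ x : Ω, ∑ g ∈ univ.filter (fun g : G => g • x = x), (fx g : Finset Ω).card =
      ∑ g ∈ univ.filter (fun g : G => g • c = c), (fx g : Finset Ω).card := by
    intro x
    obtain ⟨s, hs'⟩ := exists_smul_eq G c x
    symm
    refine sum_bij' (fun g _ => s * g * s⁻¹) (fun g _ => s⁻¹ * g * s) ?_ ?_ ?_ ?_ ?_
    · intro g hg
      simp only [mem_filter, mem_univ, true_and] at hg ⊢
      rw [mul_smul, mul_smul, ← hs', inv_smul_smul, hg]
    · intro g hg
      simp only [mem_filter, mem_univ, true_and] at hg ⊢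
      rw [mul_smul, mul_smul, hs', hg, ← hs', inv_smul_smul]
    · intro g _; group
    · intro g _; group
    · intro g _; rw [card_fx_conj]
  have hK : ∑ g ∈ univ.filter (fun g : G => g • c = c), (fx g : Finset Ω).card ≥
      3 * (univ.filter (fun g : G => g • c = c)).card := by
    set K := stabilizer G c with hKdef
    have hb := sum_card_fixedBy_eq_card_orbits_mul_card_group ↥K Ω
    have e1 : ∑ g ∈ univ.filter (fun g : G => g • c = c), (fx g : Finset Ω).card =
        ∑ g : ↥K, Fintype.card (fixedBy Ω g) := by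
      rw [Finset.sum_subtype (univ.filter (fun g : G => g • c = c))
        (p := fun g : G => g ∈ K) (fun g => by simp [hKdef]) (fun g => (fx g : Finset Ω).card)]
      refine sum_congr rfl fun g _ => ?_
      rw [Fintype.card_subtype]
      rfl
    have e2 : (univ.filter (fun g : G => g • c = c)).card = Fintype.card ↥K := by
      rw [← Fintype.card_subtype]
      exact Fintype.card_congr (Equiv.subtypeEquivRight fun g => by simp [hKdef])
    rw [e1, e2, hb]
    refine Nat.mul_le_mul_right _ ?_
    let q : Fin 3 → Quotient (orbitRel (↥K) Ω) := ![⟦c⟧, ⟦t • b⟧, ⟦d⟧]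
    have hq : Function.Injective q := by
      have key : ∀ x y : Ω, (⟦x⟧ : Quotient (orbitRel (↥K) Ω)) = ⟦y⟧ →
          ∃ g : G, g • c = c ∧ g • y = x := by
        intro x y h
        rw [Quotient.eq, orbitRel_apply, mem_orbit_iff] at h
        obtain ⟨⟨g, hg⟩, hgx⟩ := h
        exact ⟨g, hg, hgx⟩
      have h01 : q 0 ≠ q 1 := fun h => by
        obtain ⟨g, hg1, hg2⟩ := key _ _ h
        exact hb' (MulAction.injective g (hg2.trans hg1.symm))
      have h02 : q 0 ≠ q 2 := fun h => by
        obtain ⟨g, hg1, hg2⟩ := key _ _ h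
        exact hcd.symm (MulAction.injective g (hg2.trans hg1.symm))
      have h12 : q 2 ≠ q 1 := fun h => by
        obtain ⟨g, hg1, hg2⟩ := key _ _ h
        exact hno (g * t) (by rw [mul_smul, ht, hg1]) (by rw [mul_smul, hg2])
      intro i j h
      fin_cases i <;> fin_cases j <;>
        first | rfl | exact absurd h h01 | exact absurd h h02 | exact absurd h h12.symm |
          exact absurd h.symm h01 | exact absurd h.symm h02 | exact absurd h.symm h12.symm
    simpa using Fintype.card_le_of_injective q hq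
  have hsq : 3 * Fintype.card G ≤
      ∑ g : G, (fx g : Finset Ω).card * (fx g : Finset Ω).card := by
    have : ∑ g : G, (fx g : Finset Ω).card * (fx g : Finset Ω).card =
        ∑ x : Ω, ∑ g ∈ univ.filter (fun g : G => g • x = x), (fx g : Finset Ω).card := by
      simp only [sum_filter]
      rw [sum_comm]
      refine sum_congr rfl fun g _ => ?_
      rw [← sum_filter, sum_const, smul_eq_mul]
      rfl
    rw [this, sum_congr rfl (fun x _ => hsum x), sum_const, smul_eq_mul, card_univ]
    calc 3 * Fintype.card G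
        = Fintype.card Ω * (3 * (univ.filter (fun g : G => g • c = c)).card) := by
          rw [← card_stab_mul htr c]; ring
      _ ≤ _ := Nat.mul_le_mul_left _ hK
  have hm := master' (G := G) (Ω := Ω) htr
  have h0 : (0 : ℚ) ≤ ∑ g ∈ univ.filter (fun g => g ∉ der G Ω),
      (((fx g : Finset Ω).card : ℚ) - 1) * (Fintype.card Ω - (fx g : Finset Ω).card) := by
    refine sum_nonneg fun g hg => ?_
    simp only [mem_filter, mem_univ, true_and] at hg
    have h1 : (1 : ℚ) ≤ (fx g : Finset Ω).card := by
      exact_mod_cast Nat.one_le_iff_ne_zero.2 fun h => hg (mem_der.2 h)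
    have h2 : ((fx g : Finset Ω).card : ℚ) ≤ Fintype.card Ω := by
      exact_mod_cast card_le_univ _
    apply mul_nonneg <;> linarith
  have hsq' : (3 : ℚ) * Fintype.card G ≤
      ∑ g : G, ((fx g : Finset Ω).card : ℚ) * (fx g : Finset Ω).card := by
    exact_mod_cast hsq
  have : (2 : ℚ) * Fintype.card G ≤ Fintype.card Ω * (der G Ω).card := by linarith
  exact_mod_cast this

/-- number of orbits of a two-point stabiliser times its order -/
lemma dvd_sum_fx (a b : Ω) :
    (hs a b : Finset G).card ∣ ∑ h ∈ (hs a b : Finset G), (fx h : Finset Ω).card := by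
  classical
  set K := stabilizer G a ⊓ stabilizer G b with hKdef
  have hb := sum_card_fixedBy_eq_card_orbits_mul_card_group ↥K Ω
  have e1 : ∑ h ∈ (hs a b : Finset G), (fx h : Finset Ω).card =
      ∑ g : ↥K, Fintype.card (fixedBy Ω g) := by
    rw [Finset.sum_subtype (hs a b : Finset G) (p := fun g : G => g ∈ K)
      (fun g => by simp [hKdef]) (fun g => (fx g : Finset Ω).card)]
    refine sum_congr rfl fun g _ => ?_
    rw [Fintype.card_subtype]
    rfl
  have e2 : (hs a b : Finset G).card = Fintype.card ↥K := by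
    rw [← Fintype.card_coe]
    exact Fintype.card_congr (Equiv.subtypeEquivRight fun g => by simp [hKdef])
  rw [e1, e2, hb]
  exact dvd_mul_left _ _

end Cfsg.Agent.DerangeTwo
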