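import Cfsg.Agent.Lib.DerangeCount

/-!
Elementary bound for the two-point stabiliser of a doubly transitive group (for S5730).
-/

set_option autoImplicit false

open MulAction Finset

namespace Cfsg.Agent.DerangeTwo

variable {G Ω : Type*} [Group G] [Fintype G] [DecidableEq G] [MulAction G Ω] [Fintype Ω]
  [DecidableEq Ω]

/-- orbit of a point under the two-point stabiliser -/
def orb (G : Type*) [Group G] [Fintype G] [DecidableEq G] [MulAction G Ω] (a b x : Ω) : Finset Ω :=
  (hs a b : Finset G).image (fun g => g • x)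

@[simp] lemma mem_orb {a b x y : Ω} :
    y ∈ orb G a b x ↔ ∃ g : G, (g • a = a ∧ g • b = b) ∧ g • x = y := by
  simp [orb]

lemma self_mem_orb (a b x : Ω) : x ∈ orb G a b x := mem_orb.2 ⟨1, by simp, one_smul _ _⟩

lemma orb_pos (a b x : Ω) : 0 < (orb G a b x).card := card_pos.2 ⟨x, self_mem_orb a b x⟩

lemma orb_eq {a b x y : Ω} (h : y ∈ orb G a b x) : orb G a b y = orb G a b x := by
  obtain ⟨g, ⟨ga, gb⟩, rfl⟩ := mem_orb.1 h
  ext z
  simp only [mem_orb]
  constructor
  · rintro ⟨k, ⟨ka, kb⟩, rfl⟩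
    exact ⟨k * g, ⟨by rw [mul_smul, ga, ka], by rw [mul_smul, gb, kb]⟩, mul_smul _ _ _⟩
  · rintro ⟨k, ⟨ka, kb⟩, rfl⟩
    refine ⟨k * g⁻¹, ⟨?_, ?_⟩, ?_⟩
    · rw [mul_smul, inv_smul_eq_iff.2 ga.symm, ka]
    · rw [mul_smul, inv_smul_eq_iff.2 gb.symm, kb]
    · rw [mul_smul, inv_smul_smul]

lemma orb_mul (a b x : Ω) :
    (orb G a b x).card * ((hs a b : Finset G).filter (fun g => g • x = x)).card =
      (hs a b : Finset G).card := by
  have h := card_eq_sum_card_fiberwise (f := fun g : G => g • x)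
    (s := (hs a b : Finset G)) (t := orb G a b x) (fun g hg => mem_image_of_mem _ hg)
  have h2 : ∀ y ∈ orb G a b x, ((hs a b : Finset G).filter (fun g => g • x = y)).card =
      ((hs a b : Finset G).filter (fun g => g • x = x)).card := by
    intro y hy
    obtain ⟨t, ⟨ta, tb⟩, rfl⟩ := mem_orb.1 hy
    refine card_bij' (fun g _ => t⁻¹ * g) (fun g _ => t * g) ?_ ?_ ?_ ?_
    · intro g hg
      simp only [mem_filter, mem_hs] at hg ⊢
      refine ⟨⟨?_, ?_⟩, ?_⟩
      · rw [mul_smul, hg.1.1, inv_smul_eq_iff.2 ta.symm]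
      · rw [mul_smul, hg.1.2, inv_smul_eq_iff.2 tb.symm]
      · rw [mul_smul, hg.2, inv_smul_smul]
    · intro g hg
      simp only [mem_filter, mem_hs] at hg ⊢
      exact ⟨⟨by rw [mul_smul, hg.1.1, ta], by rw [mul_smul, hg.1.2, tb]⟩, by rw [mul_smul, hg.2]⟩
    · intro g _; simp
    · intro g _; simp
  rw [sum_congr rfl h2, sum_const, smul_eq_mul] at h
  exact h.symm

lemma orb_card_dvd (a b x : Ω) : (orb G a b x).card ∣ (hs a b : Finset G).card :=
  ⟨_, (orb_mul a b x).symm⟩

lemma orb_one_iff {a b x : Ω} : (orb G a b x).card = 1 ↔ x ∈ line G a b := by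
  constructor
  · intro h
    rw [mem_line]
    intro g ga gb
    exact card_le_one.1 h.le _ (mem_orb.2 ⟨g, ⟨ga, gb⟩, rfl⟩) _ (self_mem_orb a b x)
  · intro h
    apply le_antisymm _ (orb_pos a b x)
    rw [card_le_one]
    intro y hy z hz
    obtain ⟨g, ⟨ga, gb⟩, rfl⟩ := mem_orb.1 hy
    obtain ⟨k, ⟨ka, kb⟩, rfl⟩ := mem_orb.1 hz
    rw [mem_line.1 h g ga gb, mem_line.1 h k ka kb]

lemma sum_fx_stab (a b : Ω) :
    ∑ h ∈ (hs a b : Finset G), (fx h : Finset Ω).card =
      ∑ x : Ω, ((hs a b : Finset G).filter (fun g => g • x = x)).card := by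
  simp only [fx, card_eq_sum_ones, sum_filter]
  exact sum_comm

lemma sq_fix_of_small {a b x : Ω} (hx : (orb G a b x).card ≤ 2) {h : G}
    (hh : h ∈ (hs a b : Finset G)) : (h * h) • x = x := by
  rw [mem_hs] at hh
  by_contra hne
  have h1 : h • x ≠ x := fun e => hne (by rw [mul_smul, e, e])
  have h2 : (h * h) • x ≠ h • x := by
    intro e
    rw [mul_smul] at e
    exact h1 (MulAction.injective h e)
  have : ({x, h • x, (h * h) • x} : Finset Ω) ⊆ orb G a b x := by
    intro y hy
    simp only [mem_insert, mem_singleton] at hy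
    rcases hy with rfl | rfl | rfl
    · exact self_mem_orb a b _
    · exact mem_orb.2 ⟨h, hh, rfl⟩
    · exact mem_orb.2 ⟨h * h, ⟨by rw [mul_smul, hh.1, hh.1], by rw [mul_smul, hh.2, hh.2]⟩, rfl⟩
  have h3 := card_le_card this
  rw [card_insert_of_notMem (by simp [Ne.symm h1, Ne.symm hne]), card_pair (Ne.symm h2)] at h3
  omega

/-- elements of odd order of a two-point stabiliser -/
noncomputable def od (a b : Ω) : Finset G := (hs a b : Finset G).filter (fun g => Odd (orderOf g))

lemma orderOf_conj' (g h : G) : orderOf (g * h * g⁻¹) = orderOf h :=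
  orderOf_injective (MulAut.conj g).toMonoidHom (MulAut.conj g).injective h

lemma od_conj {a b c d : Ω} {g : G} (h1 : g • a = c) (h2 : g • b = d) :
    (od c d : Finset G) = (od a b).image (fun h => g * h * g⁻¹) := by
  ext x
  simp only [od, hs_conj h1 h2, mem_filter, mem_image]
  constructor
  · rintro ⟨⟨y, hy, rfl⟩, ho⟩
    exact ⟨y, ⟨hy, by rwa [orderOf_conj'] at ho⟩, rfl⟩
  · rintro ⟨y, ⟨hy, ho⟩, rfl⟩
    exact ⟨⟨y, hy, rfl⟩, by rwa [orderOf_conj']⟩

lemma fix_of_odd_sq {x : Ω} {h : G} (ho : Odd (orderOf h)) (h2 : (h * h) • x = x) :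
    h • x = x := by
  obtain ⟨r, hr⟩ := ho
  have e : h = (h * h) ^ (r + 1) := by
    rw [← sq, ← pow_mul, show 2 * (r + 1) = orderOf h + 1 by omega, pow_succ, pow_orderOf_eq_one,
      one_mul]
  have : (h * h) ^ (r + 1) ∈ stabilizer G x := Subgroup.pow_mem _ (mem_stabilizer_iff.2 h2) _
  rw [← e] at this
  exact this

lemma od_fix {a b x : Ω} (hx : (orb G a b x).card ≤ 2) {h : G} (hh : h ∈ (od a b : Finset G)) :
    h • x = x := by
  rw [od, mem_filter] at hh
  exact fix_of_odd_sq hh.2 (sq_fix_of_small hx hh.1)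

lemma od_eq_of_small (hT : TT G Ω) {a b x : Ω} (hab : a ≠ b) (hxa : x ≠ a)
    (hx : (orb G a b x).card ≤ 2) : (od a x : Finset G) = od a b := by
  refine (eq_of_subset_of_card_le (fun h hh => ?_) ?_).symm
  · have hfix := od_fix hx hh
    simp only [od, mem_filter, mem_hs] at hh ⊢
    exact ⟨⟨hh.1.1, hfix⟩, hh.2⟩
  · obtain ⟨g, h1, h2⟩ := hT a b a x hab (Ne.symm hxa)
    rw [od_conj h1 h2]
    exact card_image_le

/-- points x such that the odd parts of the stabilisers of (a,b) and (a,x) agree -/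
noncomputable def blk (G : Type*) [Group G] [Fintype G] [DecidableEq G] [MulAction G Ω] (a b : Ω) : Finset Ω :=
  univ.filter (fun x => x ≠ a ∧ (od a x : Finset G) = od a b)

lemma blk_small (hT : TT G Ω) {a b y : Ω} (hab : a ≠ b) (hy : y ≠ a)
    (hne : (od a y : Finset G) ≠ od a b) : 2 * (blk G a b).card + 1 ≤ Fintype.card Ω := by
  obtain ⟨g, hga, hgb⟩ := hT a b a y hab (Ne.symm hy)
  set B := blk G a b with hB
  have hd : Disjoint B (B.image fun x => g • x) := by
    rw [Finset.disjoint_left]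
    intro z hz hz'
    rw [mem_image] at hz'
    obtain ⟨w, hw, rfl⟩ := hz'
    simp only [hB, blk, mem_filter, mem_univ, true_and] at hz hw
    apply hne
    rw [od_conj hga hgb, ← hw.2, ← od_conj hga (rfl : g • w = g • w), hz.2, hw.2]
  have hs' : B ∪ B.image (fun x => g • x) ⊆ univ.erase a := by
    intro z hz
    rw [mem_union] at hz
    rw [mem_erase]
    refine ⟨?_, mem_univ _⟩
    rcases hz with hz | hz
    · simp only [hB, blk, mem_filter, mem_univ, true_and] at hz
      exact hz.1
    · rw [mem_image] at hz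
      obtain ⟨w, hw, rfl⟩ := hz
      simp only [hB, blk, mem_filter, mem_univ, true_and] at hw
      exact fun e => hw.1 (MulAction.injective g (e.trans hga.symm))
  have h := card_le_card hs'
  rw [card_union_of_disjoint hd, card_image_of_injective _ (MulAction.injective g),
    card_erase_of_mem (mem_univ _), card_univ] at h
  have : 0 < Fintype.card Ω := Fintype.card_pos_iff.2 ⟨a⟩
  omega

/-- the points in orbits of length at least three -/
def big (G : Type*) [Group G] [Fintype G] [DecidableEq G] [MulAction G Ω] (a b : Ω) : Finset Ω :=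
  univ.filter (fun x => 3 ≤ (orb G a b x).card)

lemma notMem_big {a b x : Ω} : x ∉ big G a b ↔ (orb G a b x).card ≤ 2 := by
  simp [big]
  omega

lemma od_trivial [FaithfulSMul G Ω] (hT : TT G Ω) {a b : Ω} (hab : a ≠ b)
    (hR : 2 * (big G a b).card + 1 < Fintype.card Ω) :
    ∀ h ∈ (od a b : Finset G), h = 1 := by
  have hall : ∀ y : Ω, y ≠ a → (od a y : Finset G) = od a b := by
    by_contra hc
    push_neg at hc
    obtain ⟨y, hy, hne⟩ := hc
    have h1 := blk_small hT hab hy hne
    have h2 : (univ.erase a) \ big G a b ⊆ blk G a b := by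
      intro x hx
      rw [mem_sdiff, mem_erase] at hx
      simp only [blk, mem_filter, mem_univ, true_and]
      exact ⟨hx.1.1, od_eq_of_small hT hab hx.1.1 (notMem_big.1 hx.2)⟩
    have h3 := card_le_card h2
    have h4 := le_card_sdiff (big G a b) (univ.erase a)
    rw [card_erase_of_mem (mem_univ _), card_univ] at h4
    omega
  intro h hh
  refine eq_one_of_fx (Ω := Ω) fun x => ?_
  by_cases hx : x = a
  · subst hx
    simp only [od, mem_filter, mem_hs] at hh
    exact hh.1.1
  · rw [← hall x hx] at hh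
    simp only [od, mem_filter, mem_hs] at hh
    exact hh.1.2

lemma card_hs_two_pow {a b : Ω} (h1 : ∀ h ∈ (od a b : Finset G), h = 1) :
    ∃ e : ℕ, (hs a b : Finset G).card = 2 ^ e := by
  classical
  set K := stabilizer G a ⊓ stabilizer G b with hKdef
  have e2 : (hs a b : Finset G).card = Nat.card ↥K := by
    rw [Nat.card_eq_fintype_card, ← Fintype.card_coe]
    exact Fintype.card_congr (Equiv.subtypeEquivRight fun g => by simp [hKdef])
  refine ⟨_, Nat.eq_prime_pow_of_unique_prime_dvd (p := 2)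
    (by rw [e2]; exact Nat.card_pos.ne') ?_⟩
  intro q hq hdvd
  rw [e2] at hdvd
  have := Fact.mk hq
  obtain ⟨x, hx⟩ := exists_prime_orderOf_dvd_card' (G := ↥K) q hdvd
  by_contra hne
  have ho : Odd (orderOf (x : G)) := by
    rw [Subgroup.orderOf_coe, hx]
    exact hq.odd_of_ne_two hne
  have hmem : (x : G) ∈ (od a b : Finset G) := by
    have hxK := x.2
    simp only [hKdef, Subgroup.mem_inf, mem_stabilizer_iff] at hxK
    simp only [od, mem_filter, mem_hs]
    exact ⟨hxK, ho⟩
  have := h1 _ hmem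
  rw [show x = 1 by ext; exact this, orderOf_one] at hx
  exact hq.one_lt.ne hx

lemma parity_line {a b : Ω} {e : ℕ} (he : (hs a b : Finset G).card = 2 ^ e) :
    (line G a b).card % 2 = Fintype.card Ω % 2 := by
  classical
  set K := stabilizer G a ⊓ stabilizer G b with hKdef
  have e2 : (hs a b : Finset G).card = Nat.card ↥K := by
    rw [Nat.card_eq_fintype_card, ← Fintype.card_coe]
    exact Fintype.card_congr (Equiv.subtypeEquivRight fun g => by simp [hKdef])
  have hP : IsPGroup 2 ↥K := IsPGroup.of_card (e2.symm.trans he)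
  have := Fact.mk Nat.prime_two
  have h := hP.card_modEq_card_fixedPoints Ω
  have hf : Nat.card (fixedPoints ↥K Ω) = (line G a b).card := by
    rw [← Nat.card_eq_finsetCard]
    refine Nat.card_congr (Equiv.subtypeEquivRight fun x => ?_)
    simp only [mem_fixedPoints, mem_line, Subtype.forall]
    constructor
    · intro hx g ga gb
      exact hx g (by simp [hKdef, ga, gb])
    · intro hx g hg
      simp only [hKdef, Subgroup.mem_inf, mem_stabilizer_iff] at hg
      exact hx g hg.1 hg.2
  rw [hf, Nat.card_eq_fintype_card] at h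
  exact h.symm

lemma parity_fx {g : G} (h : g * g = 1) :
    (fx g : Finset Ω).card % 2 = Fintype.card Ω % 2 := by
  have hP : IsPGroup 2 ↥(Subgroup.zpowers g) := by
    rintro ⟨x, hx⟩
    refine ⟨1, Subtype.ext ?_⟩
    obtain ⟨k, rfl⟩ := Subgroup.mem_zpowers_iff.1 hx
    rw [Subgroup.coe_pow, pow_one, ← zpow_natCast, ← zpow_mul, mul_comm, zpow_mul, zpow_natCast, sq,
      h, one_zpow, Subgroup.coe_one]
  have := Fact.mk Nat.prime_two
  have hm := hP.card_modEq_card_fixedPoints Ω
  have hf : Nat.card (fixedPoints ↥(Subgroup.zpowers g) Ω) = (fx g : Finset Ω).card := by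
    rw [← Nat.card_eq_finsetCard]
    refine Nat.card_congr (Equiv.subtypeEquivRight fun x => ?_)
    simp only [mem_fixedPoints, mem_fx, Subtype.forall]
    constructor
    · intro hx
      exact hx g (Subgroup.mem_zpowers g)
    · intro hx y hy
      have : Subgroup.zpowers g ≤ stabilizer G x :=
        Subgroup.zpowers_le.2 (mem_stabilizer_iff.2 hx)
      exact this hy
  rw [hf, Nat.card_eq_fintype_card] at hm
  exact hm.symm

/-! ### criteria -/

/-- the quantity that must be large -/
noncomputable def excess (G : Type*) [Group G] [Fintype G] [DecidableEq G] [MulAction G Ω] (a b : Ω) : ℚ :=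
  ∑ h ∈ (hs a b : Finset G),
    ((Fintype.card Ω : ℚ) - (fx h : Finset Ω).card) / (fx h : Finset Ω).card

lemma one_mem_hs (a b : Ω) : (1 : G) ∈ (hs a b : Finset G) := by simp

lemma two_le_fx {a b : Ω} (hab : a ≠ b) {h : G} (hh : h ∈ (hs a b : Finset G)) :
    2 ≤ (fx h : Finset Ω).card :=
  le_trans (two_le_card_line (G := G) hab)
    (card_le_card (line_subset_fx (mem_hs.1 hh).1 (mem_hs.1 hh).2))

lemma excess_eq {a b : Ω} (hab : a ≠ b) :
    excess G a b = (∑ h ∈ (hs a b : Finset G).erase 1,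
      (Fintype.card Ω : ℚ) / (fx h : Finset Ω).card) - ((hs a b : Finset G).card - 1 : ℕ) := by
  rw [excess, ← add_sum_erase _ _ (one_mem_hs a b), card_fx_one, sub_self, zero_div, zero_add]
  have hc : ((hs a b : Finset G).erase 1).card = (hs a b : Finset G).card - 1 :=
    card_erase_of_mem (one_mem_hs a b)
  rw [← hc, card_eq_sum_ones, Nat.cast_sum, ← sum_sub_distrib]
  refine sum_congr rfl fun h hh => ?_
  have : (2 : ℚ) ≤ (fx h : Finset Ω).card := by
    exact_mod_cast two_le_fx hab (mem_of_mem_erase hh)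
  rw [Nat.cast_one, sub_div, div_self (by linarith)]

lemma good_of_uniform {a b : Ω} (hab : a ≠ b) (q p : ℕ) (hp : 0 < p)
    (hf : ∀ h ∈ (hs a b : Finset G), h ≠ 1 →
      q * (fx h : Finset Ω).card ≤ p * Fintype.card Ω)
    (hq : (2 * (hs a b : Finset G).card - 1) * p ≤ ((hs a b : Finset G).card - 1) * q) :
    ((hs a b : Finset G).card : ℚ) ≤ excess G a b := by
  rw [excess_eq hab]
  set m := (hs a b : Finset G).card with hm
  have hm1 : 1 ≤ m := card_pos.2 ⟨1, one_mem_hs a b⟩
  have h1 : ((m - 1 : ℕ) : ℚ) * ((q : ℚ) / p) ≤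
      ∑ h ∈ (hs a b : Finset G).erase 1, (Fintype.card Ω : ℚ) / (fx h : Finset Ω).card := by
    rw [hm, ← card_erase_of_mem (one_mem_hs a b), ← nsmul_eq_mul]
    refine card_nsmul_le_sum _ _ _ fun h hh => ?_
    have hf2 := two_le_fx hab (mem_of_mem_erase hh)
    rw [div_le_div_iff₀ (by exact_mod_cast hp) (by exact_mod_cast (by omega : 0 < (fx h : Finset Ω).card))]
    have := hf h (mem_of_mem_erase hh) (ne_of_mem_erase hh)
    exact_mod_cast le_trans this (le_of_eq (mul_comm _ _))
  have h2 : ((2 * m - 1 : ℕ) : ℚ) ≤ ((m - 1 : ℕ) : ℚ) * ((q : ℚ) / p) := by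
    rw [← mul_div_assoc, le_div_iff₀ (by exact_mod_cast hp)]
    exact_mod_cast hq
  have h3 : ((2 * m - 1 : ℕ) : ℚ) = 2 * (m : ℚ) - 1 := by
    rw [Nat.cast_sub (by omega)]; push_cast; ring
  have h4 : ((m - 1 : ℕ) : ℚ) = (m : ℚ) - 1 := by
    rw [Nat.cast_sub hm1]; push_cast; ring
  rw [h3] at h2
  rw [h4] at h1 h2 ⊢
  linarith

lemma good_of_average {a b : Ω} (hab : a ≠ b) (hm2 : 2 ≤ (hs a b : Finset G).card)
    (hS : (2 * (hs a b : Finset G).card - 1) * ∑ h ∈ (hs a b : Finset G), (fx h : Finset Ω).card ≤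
      Fintype.card Ω * ((hs a b : Finset G).card * (hs a b : Finset G).card)) :
    ((hs a b : Finset G).card : ℚ) ≤ excess G a b := by
  rw [excess_eq hab]
  set m := (hs a b : Finset G).card with hm
  set n := Fintype.card Ω with hn
  set T := ∑ h ∈ (hs a b : Finset G).erase 1, (fx h : Finset Ω).card with hTdef
  have hST : ∑ h ∈ (hs a b : Finset G), (fx h : Finset Ω).card = n + T := by
    rw [← add_sum_erase _ _ (one_mem_hs a b), card_fx_one]
  rw [hST] at hS
  have hpos : ∀ h ∈ (hs a b : Finset G).erase 1, (0 : ℚ) < (fx h : Finset Ω).card := fun h hh => by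
    have := two_le_fx hab (mem_of_mem_erase hh)
    exact_mod_cast (by omega : 0 < (fx h : Finset Ω).card)
  have hne : ((hs a b : Finset G).erase 1).Nonempty := by
    rw [← card_pos, card_erase_of_mem (one_mem_hs a b)]
    omega
  have hTpos : (0 : ℚ) < T := by
    rw [hTdef, Nat.cast_sum]
    exact sum_pos hpos hne
  have ht := sq_sum_div_le_sum_sq_div ((hs a b : Finset G).erase 1) (fun _ => (1 : ℚ)) hpos
  rw [sum_const, nsmul_eq_mul, mul_one, card_erase_of_mem (one_mem_hs a b), ← hm, ← Nat.cast_sum,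
    ← hTdef] at ht
  simp only [one_pow] at ht
  have h4 : ((m - 1 : ℕ) : ℚ) = (m : ℚ) - 1 := by
    rw [Nat.cast_sub (by omega)]; push_cast; ring
  have hSq : (2 * (m : ℚ) - 1) * (n + T) ≤ n * (m * m) := by
    have : (((2 * m - 1) * (n + T) : ℕ) : ℚ) ≤ ((n * (m * m) : ℕ) : ℚ) := by exact_mod_cast hS
    rw [Nat.cast_mul, Nat.cast_mul, Nat.cast_sub (by omega)] at this
    push_cast at this
    linarith
  rw [h4] at ht ⊢
  have hsum : ∑ h ∈ (hs a b : Finset G).erase 1, (n : ℚ) / (fx h : Finset Ω).card =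
      n * ∑ h ∈ (hs a b : Finset G).erase 1, 1 / ((fx h : Finset Ω).card : ℚ) := by
    rw [mul_sum]
    exact sum_congr rfl fun h _ => by rw [mul_one_div]
  rw [hsum]
  have h5 : 2 * (m : ℚ) - 1 ≤ (n : ℚ) * (((m : ℚ) - 1) ^ 2 / T) := by
    rw [← mul_div_assoc, le_div_iff₀ hTpos]
    nlinarith [hSq]
  have h6 := mul_le_mul_of_nonneg_left ht (by positivity : (0 : ℚ) ≤ (n : ℚ))
  linarith

/-! ### consequences of a large average -/

lemma big_bound {a b : Ω} (c : ℕ) (hc : c = 3 ∨ c = 4)
    (hbig : ∀ x ∈ big G a b, c ≤ (orb G a b x).card)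
    (hS : Fintype.card Ω * ((hs a b : Finset G).card * (hs a b : Finset G).card) <
      (2 * (hs a b : Finset G).card - 1) * ∑ h ∈ (hs a b : Finset G), (fx h : Finset Ω).card) :
    (c - 2) * (big G a b).card + c ≤ c * (line G a b).card := by
  set m := (hs a b : Finset G).card with hm
  set n := Fintype.card Ω with hn
  have hm1 : 1 ≤ m := card_pos.2 ⟨1, one_mem_hs a b⟩
  obtain ⟨σ, hσ⟩ := dvd_sum_fx (G := G) a b
  rw [hσ, ← hm] at hS
  have h2 : n < 2 * σ := by
    by_contra hcon
    push_neg at hcon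
    have : (2 * m - 1) * (m * σ) ≤ n * (m * m) := by
      calc (2 * m - 1) * (m * σ) ≤ (2 * m) * (m * σ) := Nat.mul_le_mul_right _ (by omega)
        _ = (2 * σ) * (m * m) := by ring
        _ ≤ n * (m * m) := Nat.mul_le_mul_right _ hcon
    omega
  have hper : ∀ x : Ω, 2 * c * ((hs a b : Finset G).filter (fun g => g • x = x)).card ≤
      m * ((if x ∈ line G a b then c else 0) + (if x ∉ big G a b then c else 0) +
        (if x ∈ big G a b then 2 else 0)) := by
    intro x
    have h := orb_mul (G := G) a b x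
    rw [← hm] at h
    set o := (orb G a b x).card with ho
    set s := ((hs a b : Finset G).filter (fun g => g • x = x)).card
    by_cases hx : x ∈ big G a b
    · have h3 : 3 ≤ o := by simpa [big] using hx
      have hl : x ∉ line G a b := fun hl => by
        have := orb_one_iff.2 hl
        omega
      simp only [hl, hx, not_true_eq_false, if_true, if_false, Nat.zero_add]
      have := Nat.mul_le_mul_right s (hbig x hx)
      rw [h] at this
      nlinarith
    · have ho2 : o ≤ 2 := notMem_big.1 hx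
      have ho1 : 1 ≤ o := orb_pos a b x
      by_cases hl : x ∈ line G a b
      · simp only [hl, hx, not_false_eq_true, if_true, if_false, Nat.add_zero]
        have := orb_one_iff.2 hl
        rw [← ho] at this
        rw [this, one_mul] at h
        rw [h]; exact le_of_eq (by ring)
      · simp only [hl, hx, not_false_eq_true, if_true, if_false, Nat.add_zero, Nat.zero_add]
        have : o = 2 := by
          rcases Nat.lt_or_ge o 2 with h' | h'
          · exact absurd (orb_one_iff.1 (by rw [← ho]; omega)) hl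
          · omega
        rw [this] at h
        rw [← h]; exact le_of_eq (by ring)
  have h3 := sum_le_sum (s := (univ : Finset Ω)) fun x _ => hper x
  rw [← mul_sum, ← mul_sum, ← sum_fx_stab, hσ, ← hm, sum_add_distrib, sum_add_distrib,
    ← sum_filter, ← sum_filter, ← sum_filter, sum_const, sum_const, sum_const, filter_mem_eq_inter,
    filter_mem_eq_inter, univ_inter, univ_inter, filter_notMem_eq_sdiff, card_sdiff_of_subset
    (subset_univ _), card_univ, ← hn, smul_eq_mul, smul_eq_mul, smul_eq_mul] at h3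
  have hR : (big G a b).card ≤ n := card_le_univ _
  rcases hc with rfl | rfl
  · have : 6 * σ ≤ (line G a b).card * 3 + (n - (big G a b).card) * 3 + (big G a b).card * 2 := by
      nlinarith
    omega
  · have : 8 * σ ≤ (line G a b).card * 4 + (n - (big G a b).card) * 4 + (big G a b).card * 2 := by
      nlinarith
    omega

lemma orb_subset_big {a b x : Ω} (hx : x ∈ big G a b) : orb G a b x ⊆ big G a b := by
  intro y hy
  simp only [big, mem_filter, mem_univ, true_and] at hx ⊢
  rwa [orb_eq hy]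

lemma big_ge_four {a b x : Ω} {e : ℕ} (he : (hs a b : Finset G).card = 2 ^ e)
    (hx : x ∈ big G a b) : 4 ≤ (orb G a b x).card := by
  have h3 : 3 ≤ (orb G a b x).card := by simpa [big] using hx
  by_contra hc
  have h := orb_card_dvd (G := G) a b x
  rw [show (orb G a b x).card = 3 by omega, he] at h
  have := Nat.Prime.dvd_of_dvd_pow Nat.prime_three h
  omega

/-! ### exponent two -/

lemma sq_eq_one_general (hT : TT G Ω) {a b : Ω} (hab : a ≠ b)
    (h2 : ∀ h ∈ (hs a b : Finset G), h * h = 1) {c d : Ω} (hcd : c ≠ d) :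
    ∀ h ∈ (hs c d : Finset G), h * h = 1 := by
  obtain ⟨g, h1, h1'⟩ := hT a b c d hab hcd
  rw [hs_conj h1 h1']
  intro h hh
  obtain ⟨y, hy, rfl⟩ := mem_image.1 hh
  rw [show g * y * g⁻¹ * (g * y * g⁻¹) = g * (y * y) * g⁻¹ by group, h2 y hy]
  group

lemma commutator_bound [FaithfulSMul G Ω] (hT : TT G Ω) {a b : Ω} (hab : a ≠ b)
    (h2 : ∀ h ∈ (hs a b : Finset G), h * h = 1) :
    ∀ h ∈ (hs a b : Finset G), h ≠ 1 →
      5 * (fx h : Finset Ω).card ≤ 2 * Fintype.card Ω + 3 := by
  intro h0 hh0 hne0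
  obtain ⟨i, hi, hmax⟩ := exists_max_image ((hs a b : Finset G).erase 1)
    (fun g => (fx g : Finset Ω).card) ⟨h0, mem_erase.2 ⟨hne0, hh0⟩⟩
  suffices 5 * (fx i : Finset Ω).card ≤ 2 * Fintype.card Ω + 3 by
    have := hmax h0 (mem_erase.2 ⟨hne0, hh0⟩)
    omega
  rw [mem_erase] at hi
  obtain ⟨hi1, hih⟩ := hi
  have hii : i * i = 1 := h2 i hih
  -- a conjugate of i not commuting with it
  have hce : ∃ c : Ω, i • c ≠ c := by
    by_contra hc
    push_neg at hc
    exact hi1 (eq_one_of_fx hc)
  obtain ⟨c, hc⟩ := hce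
  have hia : i • a = a := (mem_hs.1 hih).1
  have hac : a ≠ c := fun e => hc (e ▸ hia)
  obtain ⟨g, hg1, hg2⟩ := hT (i • c) c a c hc hac
  obtain ⟨j, hj⟩ : ∃ j : G, j = g * i * g⁻¹ := ⟨_, rfl⟩
  have hja : j • c = a := by
    rw [hj, mul_smul, mul_smul, inv_smul_eq_iff.2 hg2.symm, hg1]
  have hji : i * j ≠ j * i := by
    intro e
    have h1 : (i * j) • c = (j * i) • c := by rw [e]
    rw [mul_smul, mul_smul, hja, hia] at h1
    exact hc (MulAction.injective j (h1.symm.trans hja.symm))
  have hjj : j * j = 1 := by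
    rw [hj, show g * i * g⁻¹ * (g * i * g⁻¹) = g * (i * i) * g⁻¹ by group, hii]; group
  have hjcard : (fx j : Finset Ω).card = (fx i : Finset Ω).card := by
    rw [hj]; exact card_fx_conj g i
  have hd : ((fx i : Finset Ω) ∩ fx j).card ≤ 1 := by
    rw [card_le_one]
    intro x hx y hy
    by_contra hxy
    rw [mem_inter, mem_fx, mem_fx] at hx hy
    apply hji
    have e := sq_eq_one_general hT hab h2 hxy (i * j)
      (mem_hs.2 ⟨by rw [mul_smul, hx.2, hx.1], by rw [mul_smul, hy.2, hy.1]⟩)
    calc i * j = i * j * (j * i * (i * j)) := by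
          rw [show j * i * (i * j) = j * (i * i) * j by group, hii, mul_one, hjj, mul_one]
      _ = (i * j * (j * i)) * (i * j) := by group
      _ = i * j := by rw [show i * j * (j * i) = i * (j * j) * i by group, hjj, mul_one, hii, one_mul]
      _ = (i * j)⁻¹ := (inv_eq_of_mul_eq_one_right e).symm
      _ = j * i := by
        rw [_root_.mul_inv_rev, inv_eq_of_mul_eq_one_right hjj, inv_eq_of_mul_eq_one_right hii]
  obtain ⟨z, hz⟩ : ∃ z : G, z = i * j * (i * j) := ⟨_, rfl⟩
  have hz1 : z ≠ 1 := by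
    intro e
    rw [hz] at e
    apply hji
    calc i * j = (i * j)⁻¹ := (inv_eq_of_mul_eq_one_right e).symm
      _ = j * i := by
        rw [_root_.mul_inv_rev, inv_eq_of_mul_eq_one_right hjj, inv_eq_of_mul_eq_one_right hii]
  set E := univ \ ((fx i : Finset Ω) ∪ fx j) with hE
  have hiinv : ∀ x : Ω, i • i • x = x := fun x => by rw [← mul_smul, hii, one_smul]
  have hjinv : ∀ x : Ω, j • j • x = x := fun x => by rw [← mul_smul, hjj, one_smul]
  have hsupp : univ \ (E ∪ E.image (fun x => i • x) ∪ E.image (fun x => j • x)) ⊆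
      (fx z : Finset Ω) := by
    intro p hp
    simp only [mem_sdiff, mem_union, mem_univ, true_and, not_or, hE, mem_image, mem_fx, not_and,
      not_exists] at hp
    rw [mem_fx, hz]
    simp only [mul_smul]
    obtain ⟨⟨hp1, hp2⟩, hp3⟩ := hp
    by_cases hpi : i • p = p
    · by_cases hpj : j • p = p
      · rw [hpj, hpi, hpj, hpi]
      · have hq : i • j • p = j • p := by
          by_contra hq
          exact hp3 (j • p) ⟨hq, by rw [hjinv]; exact fun e => hpj e.symm⟩ (hjinv p)
        rw [hq, hjinv, hpi]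
    · have hpj : j • p = p := by tauto
      have hq : j • i • p = i • p := by
        by_contra hq
        exact hp2 (i • p) ⟨by rw [hiinv]; exact fun e => hpi e.symm, hq⟩ (hiinv p)
      rw [hpj, hq, hiinv]
  have h3 := card_le_card hsupp
  rw [card_sdiff_of_subset (subset_univ _), card_univ] at h3
  have h4 : (E ∪ E.image (fun x => i • x) ∪ E.image (fun x => j • x)).card ≤ 3 * E.card := by
    refine le_trans (card_union_le _ _) ?_
    refine le_trans (Nat.add_le_add (card_union_le _ _) le_rfl) ?_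
    have := card_image_le (s := E) (f := fun x => i • x)
    have := card_image_le (s := E) (f := fun x => j • x)
    omega
  have h5 : E.card + ((fx i : Finset Ω) ∪ fx j).card = Fintype.card Ω := by
    rw [hE, card_sdiff_add_card_eq_card (subset_univ _), card_univ]
  have h6 := card_union_add_card_inter (fx i : Finset Ω) (fx j)
  have h7 : (fx i : Finset Ω).card < Fintype.card Ω := card_fx_lt hi1
  have h8 : (fx z : Finset Ω).card ≤ 1 ∨ (fx z : Finset Ω).card ≤ (fx i : Finset Ω).card := by
    by_cases h : (fx z : Finset Ω).card ≤ 1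
    · exact Or.inl h
    · right
      obtain ⟨u, hu, v, hv, huv⟩ := one_lt_card.1 (not_le.1 h)
      obtain ⟨t, ht1, ht2⟩ := hT u v a b huv hab
      rw [← card_fx_conj t z]
      refine hmax _ (mem_erase.2 ⟨?_, ?_⟩)
      · intro e
        exact hz1 (by simpa using e)
      · rw [hs_conj ht1 ht2, mem_image]
        exact ⟨z, mem_hs.2 ⟨mem_fx.1 hu, mem_fx.1 hv⟩, rfl⟩
  omega

lemma line_three_card_ne_eleven (hT : TT G Ω) {a b : Ω} (hab : a ≠ b)
    (hk : (line G a b).card = 3) : Fintype.card Ω ≠ 11 := by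
  intro hn
  have h := card_eq_sum_card_fiberwise (f := fun p : Ω × Ω => line G p.1 p.2)
    (s := (univ : Finset Ω).offDiag)
    (t := ((univ : Finset Ω).offDiag).image (fun p : Ω × Ω => line G p.1 p.2))
    (fun p hp => mem_image_of_mem _ hp)
  have h2 : ∀ L ∈ ((univ : Finset Ω).offDiag).image (fun p : Ω × Ω => line G p.1 p.2),
      (((univ : Finset Ω).offDiag).filter (fun p : Ω × Ω => line G p.1 p.2 = L)).card = 6 := by
    intro L hL
    obtain ⟨⟨x, y⟩, hxy, rfl⟩ := mem_image.1 hL
    simp only [mem_offDiag, mem_univ, true_and] at hxy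
    have : ((univ : Finset Ω).offDiag).filter (fun p : Ω × Ω => line G p.1 p.2 = line G x y) =
        (line G x y).offDiag := by
      ext ⟨u, v⟩
      simp only [mem_filter, mem_offDiag, mem_univ, true_and]
      constructor
      · rintro ⟨huv, e⟩
        exact ⟨e ▸ self_mem_line_left u v, e ▸ self_mem_line_right u v, huv⟩
      · rintro ⟨hu, hv, huv⟩
        refine ⟨huv, ?_⟩
        simp only [line, hs_eq_of_fix hT hxy huv hu hv]
    rw [this, offDiag_card, card_line_eq hT hab hxy, hk]
  rw [sum_congr rfl h2, sum_const, smul_eq_mul, offDiag_card, card_univ, hn] at h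
  omega

end Cfsg.Agent.DerangeTwo
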