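import Cfsg.Agent.Lib.LocalFusion
import Cfsg.Agent.Lib.PResidual
import Cfsg.Agent.Lib.Fusion.Hyperfocal
import Mathlib.GroupTheory.SpecificGroups.Cyclic
import Mathlib.GroupTheory.SpecificGroups.Dihedral

/-!
Fusion in groups with dihedral Sylow 2-subgroups.
-/

set_option autoImplicit false
set_option linter.unusedSectionVars false

namespace CfsgLib.DihedralFusion

open DihedralGroup
open CfsgLib.LocalFusion

/-- Evenness in `ZMod m`. -/
def EvenIdx {m : ℕ} (i : ZMod m) : Prop := ∃ j, i = j + j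

theorem two_torsion {m h : ℕ} (hm : m = 2 * h) (hh : 0 < h) {i : ZMod m} (hi : i + i = 0) :
    i = 0 ∨ i = (h : ZMod m) := by
  haveI : NeZero m := ⟨by omega⟩
  have h1 : m ∣ i.val + i.val := by
    rw [← ZMod.natCast_eq_zero_iff, Nat.cast_add, ZMod.natCast_zmod_val, hi]
  have hv : i.val < m := ZMod.val_lt i
  obtain ⟨t, ht⟩ := h1
  have ht : i.val + i.val = 2 * h * t := ht.trans (congrArg (· * t) hm)
  have : i.val = 0 ∨ i.val = h := by
    rcases t with _ | _ | t
    · left; omega
    · right; omega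
    · exfalso
      have : 2 * h * (t + 1 + 1) ≥ 2 * h * 2 := Nat.mul_le_mul_left _ (by omega)
      omega
  rcases this with e | e
  · exact Or.inl ((ZMod.val_eq_zero i).mp e)
  · exact Or.inr (by rw [← e, ZMod.natCast_zmod_val])

theorem half_add_half {m h : ℕ} (hm : m = 2 * h) : (h : ZMod m) + (h : ZMod m) = 0 := by
  rw [← Nat.cast_add, show h + h = m by omega, ZMod.natCast_self]

theorem sq_r {m : ℕ} (j : ZMod m) : (r j : DihedralGroup m) * r j = 1 ↔ j + j = 0 := by
  rw [r_mul_r, one_def, r.injEq]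

theorem comm_r_sr {m : ℕ} {i j : ZMod m} (h : (r j : DihedralGroup m) * sr i = sr i * r j) : j + j = 0 := by
  rw [r_mul_sr, sr_mul_r, sr.injEq] at h
  linear_combination -h

theorem comm_sr_sr {m : ℕ} {i j : ZMod m} (h : (sr j : DihedralGroup m) * sr i = sr i * sr j) :
    (j - i) + (j - i) = 0 := by
  rw [sr_mul_sr, sr_mul_sr, r.injEq] at h
  linear_combination -h

theorem four_cases {m h : ℕ} (hm : m = 2 * h) (hh : 0 < h) {i : ZMod m} {x : DihedralGroup m} (hx : x * x = 1)
    (hc : x * sr i = sr i * x) : x = r 0 ∨ x = r (h : ZMod m) ∨ x = sr i ∨ x = sr (i + (h : ZMod m)) := by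
  cases x with
  | r j => rcases two_torsion hm hh (comm_r_sr hc) with rfl | rfl <;> simp
  | sr j =>
    rcases two_torsion hm hh (comm_sr_sr hc) with e | e
    · rw [sub_eq_zero] at e; subst e; simp
    · rw [sub_eq_iff_eq_add'] at e; subst e; simp

theorem klein_iff {m h : ℕ} (hm : m = 2 * h) (hh : 0 < h) {U : Subgroup (DihedralGroup m)} (hU : IsKleinFour U) :
    ∃ i : ZMod m, ∀ x : DihedralGroup m, x ∈ U ↔
      (x = r 0 ∨ x = r (h : ZMod m) ∨ x = sr i ∨ x = sr (i + (h : ZMod m))) := by
  classical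
  haveI := hU
  haveI : NeZero m := ⟨by omega⟩
  have hsq : ∀ x ∈ U, x * x = 1 := fun x hx => congrArg Subtype.val (IsKleinFour.mul_self (⟨x, hx⟩ : U))
  have hcomm : ∀ x ∈ U, ∀ y ∈ U, x * y = y * x := fun x hx y hy => by
    haveI := IsKleinFour.isMulCommutative (G := U)
    exact setLike_mul_comm hx hy
  have hcard : (U : Set (DihedralGroup m)).ncard = 4 := (Nat.card_coe_set_eq _).symm.trans hU.card_four
  obtain ⟨i, hi⟩ : ∃ i, sr i ∈ U := by
    by_contra hcon
    push Not at hcon
    have hsub : (U : Set (DihedralGroup m)) ⊆ ({r 0, r (h : ZMod m)} : Set _) := fun x hx => by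
      cases x with
      | r j => rcases two_torsion hm hh ((sq_r j).mp (hsq _ hx)) with rfl | rfl <;> simp
      | sr j => exact absurd hx (hcon j)
    have h2 := Set.ncard_le_ncard hsub
    have h3 := Set.ncard_insert_le (r 0 : DihedralGroup m) {r (h : ZMod m)}
    rw [Set.ncard_singleton] at h3
    omega
  refine ⟨i, fun x => ⟨fun hx => four_cases hm hh (hsq x hx) (hcomm x hx _ hi), ?_⟩⟩
  set T : Finset (DihedralGroup m) := {r 0, r (h : ZMod m), sr i, sr (i + (h : ZMod m))} with hT
  have hTc : T.card ≤ 4 := by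
    rw [hT]
    exact Finset.card_le_four
  have hsub : (U : Set (DihedralGroup m)) ⊆ (T : Set _) := fun y hy => by
    simpa [hT] using four_cases hm hh (hsq y hy) (hcomm y hy _ hi)
  have heq : (U : Set (DihedralGroup m)) = (T : Set _) :=
    Set.eq_of_subset_of_ncard_le hsub (by rw [Set.ncard_coe_finset, hcard]; exact hTc)
  intro hx
  show x ∈ (U : Set (DihedralGroup m))
  rw [heq]
  simpa [hT] using hx

theorem isPGroup_of_odd_trivial {A : Type*} [Group A] [Finite A] (h : ∀ a : A, Odd (orderOf a) → a = 1) :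
    IsPGroup 2 A := fun a => by
  haveI : Fact (Nat.Prime 2) := ⟨Nat.prime_two⟩
  obtain ⟨k, hk⟩ := CfsgLib.PResidual.exists_pow_coprime (p := 2) a
  exact ⟨k, h _ (Nat.coprime_two_right.mp hk)⟩

/-- The non-four subgroups of a dihedral 2-group have 2-groups of automorphisms. -/
theorem isPGroup_mulAut {k m : ℕ} (hm : m = 2 ^ (k + 1)) (P : Subgroup (DihedralGroup m)) (hP : ¬ IsKleinFour P) :
    IsPGroup 2 (MulAut P) := by
  classical
  haveI : Fact (Nat.Prime 2) := ⟨Nat.prime_two⟩
  haveI : NeZero m := ⟨by rw [hm]; positivity⟩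
  haveI : Finite (MulAut P) := Finite.of_injective (fun f : MulAut P => (f : P → P)) DFunLike.coe_injective
  have hm2 : m = 2 * 2 ^ k := by rw [hm, pow_succ, mul_comm]
  have hh : 0 < 2 ^ k := by positivity
  have hD : IsPGroup 2 (DihedralGroup m) := IsPGroup.of_card (n := k + 2) (by rw [DihedralGroup.nat_card, hm]; ring)
  refine isPGroup_of_odd_trivial fun α hα => ?_
  let R : Subgroup (DihedralGroup m) := Subgroup.zpowers (r 1)
  have hR : ∀ x, x ∈ R ↔ ∃ j, x = r j := by
    intro x
    constructor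
    · rintro ⟨n, rfl⟩
      exact ⟨(n : ZMod m), r_one_zpow n⟩
    · rintro ⟨j, rfl⟩
      exact ⟨(j.val : ℤ), by show (r 1 : DihedralGroup m) ^ (j.val : ℤ) = _; rw [r_one_zpow]; simp⟩
  by_cases hbig : ∃ j, r j ∈ P ∧ j + j ≠ 0
  · obtain ⟨j, hj, hjj⟩ := hbig
    let C : Subgroup P := R.subgroupOf P
    have key : ∀ β : MulAut P, ∀ x ∈ C, β x ∈ C := by
      intro β
      have hbase : ∀ x : P, (∃ l, (x : DihedralGroup m) = r l ∧ l + l ≠ 0) → β x ∈ C := by
        rintro x ⟨l, hl, hll⟩
        refine Subgroup.mem_subgroupOf.mpr ((hR _).mpr ?_)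
        rcases hb : ((β x : P) : DihedralGroup m) with l' | l'
        · exact ⟨l', rfl⟩
        · exfalso
          have h1 : β x * β x = 1 := Subtype.ext (by rw [Subgroup.coe_mul, hb, Subgroup.coe_one, sr_mul_self])
          rw [← map_mul, map_eq_one_iff β β.injective] at h1
          exact hll ((sq_r l).mp (by rw [← hl]; exact congrArg Subtype.val h1))
      intro x hx
      obtain ⟨l, hl⟩ := (hR _).mp (Subgroup.mem_subgroupOf.mp hx)
      by_cases hll : l + l = 0
      · have h1 : β (x * ⟨r j, hj⟩) ∈ C := hbase _ ⟨l + j, by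
          rw [Subgroup.coe_mul, hl, r_mul_r], fun e => hjj (by linear_combination e - hll)⟩
        have h2 := mul_mem h1 (InvMemClass.inv_mem (hbase ⟨r j, hj⟩ ⟨j, rfl, hjj⟩))
        rwa [map_mul, mul_inv_cancel_right] at h2
      · exact hbase x ⟨l, hl, hll⟩
    -- `α` fixes the rotations
    let ψ : C →* C := (α.toMonoidHom.comp C.subtype).codRestrict C fun x => key α _ x.2
    let ψ' : MulAut C := MulEquiv.ofBijective ψ
      (Finite.injective_iff_bijective.mp fun a b e => Subtype.ext (α.injective (congrArg Subtype.val e)))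
    haveI : IsCyclic C := by
      haveI : IsCyclic R := inferInstance
      exact isCyclic_of_injective ((P.subtype.comp C.subtype).codRestrict R fun x => Subgroup.mem_subgroupOf.mp x.2)
        (fun a b e => Subtype.ext (Subtype.ext (congrArg (fun z : R => (z : DihedralGroup m)) e)))
    have hψ : ψ' = 1 := by
      obtain ⟨a, ha⟩ := IsPGroup.iff_card.mp ((hD.to_subgroup P).to_subgroup C)
      have h1 : ∃ b, Nat.card (MulAut C) = 2 ^ b := by
        rw [IsCyclic.card_mulAut, ha]
        rcases Nat.eq_zero_or_pos a with rfl | h0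
        · exact ⟨0, by simp⟩
        · exact ⟨a - 1, by rw [Nat.totient_prime_pow Nat.prime_two h0]; simp⟩
      obtain ⟨b, hb⟩ := h1
      have hpow : ∀ n : ℕ, ∀ x : C, (((ψ' ^ n) x : C) : P) = (α ^ n) (x : P) := by
        intro n
        induction n with
        | zero => intro x; rfl
        | succ n ih =>
          intro x
          rw [pow_succ', pow_succ', MulAut.mul_apply, MulAut.mul_apply]
          exact congrArg α (ih x)
      have h2 : orderOf ψ' ∣ orderOf α := orderOf_dvd_of_pow_eq_one (MulEquiv.ext fun x => Subtype.ext (by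
        rw [hpow, pow_orderOf_eq_one]; rfl))
      have h3 : orderOf ψ' ∣ 2 ^ b := hb ▸ orderOf_dvd_natCard ψ'
      exact orderOf_eq_one_iff.mp (Nat.eq_one_of_dvd_coprimes
        (Nat.Coprime.pow_right b (Nat.coprime_two_right.mpr hα)) h2 h3)
    have hfix : ∀ x ∈ C, α x = x := fun x hx => by
      have h9 : ψ' ⟨x, hx⟩ = ⟨x, hx⟩ := DFunLike.congr_fun hψ ⟨x, hx⟩
      exact congrArg Subtype.val h9
    refine MulEquiv.ext fun x => ?_
    by_cases hx : x ∈ C
    · exact hfix x hx
    set w := x⁻¹ * α x with hw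
    have hwC : w ∈ C := by
      have hax : α x ∉ C := fun e => hx (by
        have := key α⁻¹ _ e
        rwa [MulAut.inv_apply_self] at this)
      refine Subgroup.mem_subgroupOf.mpr ((hR _).mpr ?_)
      rcases hx1 : (x : DihedralGroup m) with l | l
      · exact absurd (Subgroup.mem_subgroupOf.mpr ((hR _).mpr ⟨l, hx1⟩)) hx
      rcases hx2 : ((α x : P) : DihedralGroup m) with l' | l'
      · exact absurd (Subgroup.mem_subgroupOf.mpr ((hR _).mpr ⟨l', hx2⟩)) hax
      exact ⟨l' - l, by rw [hw, Subgroup.coe_mul, Subgroup.coe_inv, hx1, hx2, inv_sr, sr_mul_sr]⟩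
    have hxw : α x = x * w := by rw [hw, mul_inv_cancel_left]
    have hn : ∀ n : ℕ, (α ^ n) x = x * w ^ n := by
      intro n
      induction n with
      | zero => simp
      | succ n ih => rw [pow_succ', MulAut.mul_apply, ih, map_mul, map_pow, hfix w hwC, hxw, pow_succ', mul_assoc]
    have h4 : w ^ orderOf α = 1 := by
      have := hn (orderOf α)
      rwa [pow_orderOf_eq_one, MulAut.one_apply, left_eq_mul] at this
    obtain ⟨b, hb⟩ := (hD.to_subgroup P) w
    have h5 : w = 1 := orderOf_eq_one_iff.mp (Nat.eq_one_of_dvd_coprimes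
      (Nat.Coprime.pow_right b (Nat.coprime_two_right.mpr hα)) (orderOf_dvd_of_pow_eq_one h4)
      (orderOf_dvd_of_pow_eq_one hb))
    rw [hxw, h5, mul_one]
    rfl
  · push Not at hbig
    have hsq : ∀ x ∈ P, x * x = 1 := fun x hx => by
      cases x with
      | r j => exact (sq_r j).mpr (hbig j hx)
      | sr j => exact sr_mul_self j
    have hcomm : ∀ x ∈ P, ∀ y ∈ P, x * y = y * x := fun x hx y hy => by
      have := hsq _ (mul_mem hx hy)
      calc x * y = (x * y)⁻¹ := (inv_eq_of_mul_eq_one_right this).symm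
        _ = y⁻¹ * x⁻¹ := mul_inv_rev x y
        _ = y * x := by rw [inv_eq_of_mul_eq_one_right (hsq x hx), inv_eq_of_mul_eq_one_right (hsq y hy)]
    have hcard : Nat.card P ≤ 2 := by
      have h4 : Nat.card P ≤ 4 := by
        by_cases hs : ∃ i, sr i ∈ P
        · obtain ⟨i, hi⟩ := hs
          let T : Finset (DihedralGroup m) := {r 0, r ((2 ^ k : ℕ) : ZMod m), sr i, sr (i + ((2 ^ k : ℕ) : ZMod m))}
          have hsub : (P : Set (DihedralGroup m)) ⊆ (T : Set _) := fun y hy => by
            simpa [T] using four_cases hm2 hh (hsq y hy) (hcomm y hy _ hi)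
          have h1 := Set.ncard_le_ncard hsub
          rw [Set.ncard_coe_finset, ← Nat.card_coe_set_eq] at h1
          exact h1.trans Finset.card_le_four
        · have hsub : (P : Set (DihedralGroup m)) ⊆ ({r 0, r ((2 ^ k : ℕ) : ZMod m)} : Set _) := fun x hx => by
            cases x with
            | r j => rcases two_torsion hm2 hh (hbig j hx) with rfl | rfl <;> simp
            | sr j => exact absurd ⟨j, hx⟩ hs
          have h2 := Set.ncard_le_ncard hsub
          have h3 := Set.ncard_insert_le (r 0 : DihedralGroup m) {r ((2 ^ k : ℕ) : ZMod m)}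
          rw [Set.ncard_singleton] at h3
          rw [← Nat.card_coe_set_eq] at h2
          exact h2.trans (h3.trans (by norm_num))
      obtain ⟨n, hn⟩ := IsPGroup.iff_card.mp (hD.to_subgroup P)
      rw [hn] at h4 ⊢
      rcases n with _ | _ | _ | n
      · norm_num
      · norm_num
      · exfalso
        refine hP { card_four := by rw [hn]; norm_num, exponent_two := ?_ }
        haveI : Nontrivial P := Finite.one_lt_card_iff_nontrivial.mp (by rw [hn]; norm_num)
        exact (Monoid.exponent_eq_prime_iff Nat.prime_two).mpr fun g hg =>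
          orderOf_eq_prime (by rw [sq]; exact Subtype.ext (hsq _ g.2)) hg
      · exfalso
        have : 2 ^ 3 ≤ 2 ^ (n + 1 + 1 + 1) := Nat.pow_le_pow_right (by norm_num) (by omega)
        omega
    refine MulEquiv.ext fun x => ?_
    show α x = x
    by_cases hx : x = 1
    · rw [hx, map_one]
    by_contra hne
    have h3 : ({1, x, α x} : Finset P).card = 3 := by
      rw [Finset.card_insert_of_notMem, Finset.card_pair (Ne.symm hne)]
      simp only [Finset.mem_insert, Finset.mem_singleton, not_or]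
      exact ⟨Ne.symm hx, fun e => hx (α.injective (e.symm.trans (map_one α).symm))⟩
    haveI := Fintype.ofFinite P
    have h4 := Finset.card_le_univ ({1, x, α x} : Finset P)
    rw [← Nat.card_eq_fintype_card] at h4
    omega

theorem isKleinFour_of_equiv {A B : Type*} [Group A] [Group B] (e : A ≃* B) [IsKleinFour A] : IsKleinFour B where
  card_four := (Nat.card_congr e.toEquiv).symm.trans IsKleinFour.card_four
  exponent_two := (Monoid.exponent_eq_of_mulEquiv e).symm.trans IsKleinFour.exponent_two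

section

variable {X : Type*} [Group X] [Finite X] {S : Sylow 2 X} {m : ℕ} (eS : (S : Subgroup X) ≃* DihedralGroup m)

theorem exists_pow_index {m : ℕ} (hm : 2 ≤ m) (eS : (S : Subgroup X) ≃* DihedralGroup m) :
    ∃ k, m = 2 ^ (k + 1) ∧ Nat.card S = 2 * m := by
  obtain ⟨n, hn⟩ := IsPGroup.iff_card.mp S.2
  have h2 : Nat.card S = 2 * m := (Nat.card_congr eS.toEquiv).trans DihedralGroup.nat_card
  rw [hn] at h2
  rcases n with _ | _ | n
  · omega
  · omega
  · exact ⟨n, by rw [pow_succ, pow_succ] at h2; rw [pow_succ]; omega, by rw [hn, ← h2]⟩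

/-- A subgroup of `X` inside `S`, seen in the dihedral group. -/
def toD (U : Subgroup X) : Subgroup (DihedralGroup m) := (U.subgroupOf (S : Subgroup X)).map eS.toMonoidHom

/-- The equivalence of a subgroup of `S` with its image. -/
noncomputable def equivD {U : Subgroup X} (hU : U ≤ (S : Subgroup X)) : U ≃* toD eS U :=
  (Subgroup.subgroupOfEquivOfLe hU).symm.trans (Subgroup.equivMapOfInjective _ _ eS.injective)

include eS in
theorem isPGroup_mulAut_of_not_klein (hm : 2 ≤ m) {P : Subgroup X} (hP : P ≤ (S : Subgroup X))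
    (hK : ¬ IsKleinFour P) : IsPGroup 2 (MulAut P) := by
  obtain ⟨k, hk, -⟩ := exists_pow_index hm eS
  refine (isPGroup_mulAut hk (toD eS P) fun h => hK ?_).of_equiv (MulAut.congr (equivD eS hP)).symm
  haveI := h
  exact isKleinFour_of_equiv (equivD eS hP).symm

theorem mem_toD {U : Subgroup X} (hU : U ≤ (S : Subgroup X)) {x : X} (hx : x ∈ (S : Subgroup X)) :
    eS ⟨x, hx⟩ ∈ toD eS U ↔ x ∈ U := by
  constructor
  · rintro ⟨y, hy, e⟩
    have h' : (y : X) = x := congrArg (fun z : (S : Subgroup X) => (z : X)) (eS.injective e)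
    rw [← h']
    exact hy
  · exact fun h => ⟨⟨x, hx⟩, h, rfl⟩

theorem klein_shape (hm : 2 ≤ m) {U : Subgroup X} (hU : U ≤ (S : Subgroup X)) (hK : IsKleinFour U) :
    ∃ i : ZMod m, ∀ x ∈ (S : Subgroup X), ∀ hx : x ∈ (S : Subgroup X), x ∈ U ↔
      (eS ⟨x, hx⟩ = r 0 ∨ eS ⟨x, hx⟩ = r ((m / 2 : ℕ) : ZMod m) ∨ eS ⟨x, hx⟩ = sr i ∨
        eS ⟨x, hx⟩ = sr (i + ((m / 2 : ℕ) : ZMod m))) := by
  obtain ⟨k, hk, -⟩ := exists_pow_index hm eS
  have h2 : m = 2 * (m / 2) := by rw [hk, pow_succ]; omega
  haveI := hK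
  haveI := isKleinFour_of_equiv (equivD eS hU)
  obtain ⟨i, hi⟩ := klein_iff h2 (by omega) (U := toD eS U) inferInstance
  exact ⟨i, fun x _ hx => (mem_toD eS hU hx).symm.trans (hi _)⟩

/-- The class of a four subgroup of `S`. -/
def IsEvenSub (U : Subgroup X) : Prop :=
  ∃ (x : X) (hx : x ∈ (S : Subgroup X)) (i : ZMod m), x ∈ U ∧ eS ⟨x, hx⟩ = sr i ∧ EvenIdx i

theorem isEvenSub_conj {U : Subgroup X} {s : X} (hs : s ∈ (S : Subgroup X)) (h : IsEvenSub eS U) :
    IsEvenSub eS (U.map (MulAut.conj s).toMonoidHom) := by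
  obtain ⟨x, hx, i, hxU, he, j, hj⟩ := h
  have hc : s * x * s⁻¹ ∈ (S : Subgroup X) := mul_mem (mul_mem hs hx) (InvMemClass.inv_mem hs)
  have e1 : eS ⟨s * x * s⁻¹, hc⟩ = eS ⟨s, hs⟩ * sr i * (eS ⟨s, hs⟩)⁻¹ := by
    rw [← he, ← map_inv, ← map_mul, ← map_mul]; rfl
  rcases hd : eS ⟨s, hs⟩ with l | l
  · refine ⟨_, hc, i - l - l, ⟨x, hxU, rfl⟩, ?_, j - l, by rw [hj]; ring⟩
    rw [e1, hd, inv_r, r_mul_sr, sr_mul_r]
    exact congrArg sr (by ring)
  · refine ⟨_, hc, l + l - i, ⟨x, hxU, rfl⟩, ?_, l - j, by rw [hj]; ring⟩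
    rw [e1, hd, inv_sr, sr_mul_sr, r_mul_sr]
    exact congrArg sr (by ring)

theorem isEvenSub_conj_iff {U : Subgroup X} {s : X} (hs : s ∈ (S : Subgroup X)) :
    IsEvenSub eS (U.map (MulAut.conj s).toMonoidHom) ↔ IsEvenSub eS U := by
  refine ⟨fun h => ?_, isEvenSub_conj eS hs⟩
  have := isEvenSub_conj eS (InvMemClass.inv_mem hs) h
  rwa [Subgroup.map_map, show ((MulAut.conj s⁻¹).toMonoidHom.comp (MulAut.conj s).toMonoidHom) = MonoidHom.id X from
    MonoidHom.ext fun x => by simp [mul_assoc], Subgroup.map_id] at this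

open Cfsg Cfsg.FusionSystem in
/-- Conjugation preserves the class of a four subgroup of `S`. -/
theorem isEvenSub_fusion (hm : 2 ≤ m) {U : Subgroup X} (hU : U ≤ (S : Subgroup X)) (hK : IsKleinFour U) {g : X}
    (hg : ∀ x ∈ U, g * x * g⁻¹ ∈ (S : Subgroup X)) :
    IsEvenSub eS (U.map (MulAut.conj g).toMonoidHom) ↔ IsEvenSub eS U := by
  haveI : Fact (Nat.Prime 2) := ⟨Nat.prime_two⟩
  set F := groupFusionSystem (S : Subgroup X) with hF
  let E : FusionSystem (S : Subgroup X) :=
    { Hom := fun P => {φ | φ ∈ F.Hom P ∧ ∀ W : Subgroup X, W ≤ P → IsKleinFour W →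
        (IsEvenSub eS ((W.subgroupOf P).map φ) ↔ IsEvenSub eS W)}
      le_of_mem := fun h => F.le_of_mem h.1
      injective_of_mem := fun h => F.injective_of_mem h.1
      conj_mem := fun {P s} hP hs => ⟨F.conj_mem hP hs, fun W hW _ => by
        rw [show (W.subgroupOf P).map (conjHom P s) = W.map (MulAut.conj s).toMonoidHom from by
          ext y
          constructor
          · rintro ⟨z, hz, rfl⟩; exact ⟨z, hz, rfl⟩
          · rintro ⟨z, hz, rfl⟩; exact ⟨⟨z, hW hz⟩, hz, rfl⟩]
        exact isEvenSub_conj_iff eS hs⟩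
      comp_mem := fun {P Q φ ψ} hφ hψ h => ⟨F.comp_mem hφ.1 hψ.1 h, fun W hW hWK => by
        have hle : (W.subgroupOf P).map φ ≤ Q := by rintro _ ⟨z, -, rfl⟩; exact h z
        have hK' : IsKleinFour ((W.subgroupOf P).map φ) := by
          haveI := hWK
          exact isKleinFour_of_equiv ((Subgroup.subgroupOfEquivOfLe hW).symm.trans
            (Subgroup.equivMapOfInjective _ _ (F.injective_of_mem hφ.1)))
        rw [← (hφ.2 W hW hWK), ← hψ.2 _ hle hK']
        refine iff_of_eq (congrArg (IsEvenSub eS) ?_)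
        ext y
        constructor
        · rintro ⟨z, hz, rfl⟩
          exact ⟨⟨φ z, h z⟩, ⟨z, hz, rfl⟩, rfl⟩
        · rintro ⟨⟨_, hy⟩, ⟨z, hz, rfl⟩, rfl⟩
          exact ⟨z, hz, rfl⟩⟩
      inv_mem := fun {P φ} hφ => by
        obtain ⟨ψ, hψ, hl⟩ := F.inv_mem hφ.1
        refine ⟨ψ, ⟨hψ, fun W hW hWK => ?_⟩, hl⟩
        have hle : (W.subgroupOf φ.range).map ψ ≤ P := by
          rintro _ ⟨⟨_, z, rfl⟩, -, rfl⟩
          rw [hl]
          exact z.2
        have hK' : IsKleinFour ((W.subgroupOf φ.range).map ψ) := by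
          haveI := hWK
          exact isKleinFour_of_equiv ((Subgroup.subgroupOfEquivOfLe hW).symm.trans
            (Subgroup.equivMapOfInjective _ _ (F.injective_of_mem hψ)))
        rw [← hφ.2 _ hle hK']
        refine iff_of_eq (congrArg (IsEvenSub eS) ?_)
        ext y
        constructor
        · rintro ⟨z, ⟨⟨_, w, rfl⟩, hw, e⟩, rfl⟩
          rw [hl] at e
          rw [show z = w from Subtype.ext e.symm]
          exact hw
        · intro hy
          obtain ⟨w, rfl⟩ := hW hy
          exact ⟨w, ⟨⟨φ w, ⟨w, rfl⟩⟩, hy, hl w⟩, rfl⟩ }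
  have hsat := groupFusionSystem_isSaturated S
  have key : F ≤ E := by
    refine hsat.le_of_autGroup_le S.2 E fun P hP => ?_
    have hPS : P ≤ (S : Subgroup X) := by
      rcases hP with rfl | hP
      exacts [le_rfl, hP.2.1.1]
    have hn : F.IsFullyNormalized P := by
      rcases hP with rfl | hP
      exacts [isFullyNormalized_self, hP.2.1]
    intro α hα
    refine (E.mem_autGroup_iff hPS).mpr ⟨(F.mem_autGroup_iff hPS).mp hα, fun W hW hWK => ?_⟩
    by_cases hK' : IsKleinFour P
    · have hWP : W = P := Subgroup.eq_of_le_of_card_ge hW (by rw [hWK.card_four, hK'.card_four])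
      subst hWP
      refine iff_of_eq (congrArg (IsEvenSub eS) ?_)
      ext y
      constructor
      · rintro ⟨z, -, rfl⟩
        exact SetLike.coe_mem _
      · intro hy
        exact ⟨α.symm ⟨y, hy⟩, Subgroup.mem_subgroupOf.mpr (SetLike.coe_mem _),
          congrArg (fun z : W => (z : X)) (α.apply_symm_apply ⟨y, hy⟩)⟩
    · have hp : IsPGroup 2 (MulAut P) := isPGroup_mulAut_of_not_klein eS hm hPS hK'
      obtain ⟨-, R, hR⟩ := hsat.isFullyAutomized_of_isFullyNormalized S.2 hn
      have h1 : (R : Subgroup (F.autGroup P)) = ⊤ := by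
        refine (R.3 (Q := ⊤) ?_ le_top).symm
        exact (hp.to_subgroup _).of_equiv Subgroup.topEquiv.symm
      have h2 : α ∈ autInducedBy (S : Subgroup X) P := by
        have h3 : (⟨α, hα⟩ : F.autGroup P) ∈ (R : Subgroup (F.autGroup P)) := h1 ▸ Subgroup.mem_top _
        rw [hR] at h3
        exact h3
      obtain ⟨s, hs, -, he⟩ := mem_autInducedBy_iff.mp h2
      rw [show (W.subgroupOf P).map (P.subtype.comp α.toMonoidHom) = W.map (MulAut.conj s).toMonoidHom from by
        ext y
        constructor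
        · rintro ⟨z, hz, rfl⟩; exact ⟨z, hz, (he z).symm⟩
        · rintro ⟨z, hz, rfl⟩; exact ⟨⟨z, hW hz⟩, hz, he _⟩]
      exact isEvenSub_conj_iff eS hs
  have h := (key _ (conjHom_mem_groupFusionSystem (g := g) hU hg)).2 U le_rfl hK
  rwa [Subgroup.subgroupOf_self, ← MonoidHom.range_eq_map, range_conjHom] at h

end

end CfsgLib.DihedralFusion
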