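import Mathlib
import Cfsg.Agent.Lib.Eichler

/-! Siegel and reflection matrices as linear isometries. -/

set_option autoImplicit false

namespace CfsgLib.EichlerMatrix

open CfsgLib.SpinorMatrix CfsgLib.SpinorNorm CfsgLib.Eichler QuadraticMap CfsgLib.WittExtension

variable {F : Type*} [Field F] {ι : Type} [Fintype ι] [DecidableEq ι] (Q : QuadraticForm F (ι → F))

theorem sieg_iff (g : Cfsg.isometryGroup F ⇑Q) (u v : ι → F) (c : F) :
    g.1.1 = Cfsg.siegelMatrix (⇑Q) u v c ↔ IsSieg Q u v c (isoEquiv Q g) := by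
  constructor
  · intro h x
    rw [isoEquiv_apply, h, PolarVec.siegel_mulVec]
  · intro h
    refine Matrix.ext_of_mulVec_single fun i => ?_
    rw [← isoEquiv_apply, h, PolarVec.siegel_mulVec]

theorem refl_iff (g : Cfsg.isometryGroup F ⇑Q) {v : ι → F} (hv : Q v ≠ 0) :
    g.1.1 = Cfsg.reflectionMatrix (⇑Q) v ↔ isoEquiv Q g = refl Q hv := by
  constructor
  · intro h
    refine Subtype.ext (LinearEquiv.ext fun x => ?_)
    rw [isoEquiv_apply, h, PolarVec.reflection_mulVec, refl_apply]
  · intro h
    refine Matrix.ext_of_mulVec_single fun i => ?_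
    rw [← isoEquiv_apply, h, PolarVec.reflection_mulVec, refl_apply]

theorem commutatorSet_map {G H : Type*} [Group G] [Group H] (e : G ≃* H) {g : G}
    (h : e g ∈ commutatorSet H) : g ∈ commutatorSet G := by
  obtain ⟨a, b, hab⟩ := h
  exact ⟨e.symm a, e.symm b, by rw [← map_commutatorElement, hab, MulEquiv.symm_apply_apply]⟩

end CfsgLib.EichlerMatrix
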