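import Mathlib
import Cfsg.Agent.Lib.SpinorMatrix

/-!
Membership in the derived orthogonal group through products of reflections (odd order fields).
-/

set_option autoImplicit false

namespace CfsgLib.OmegaMem

open QuadraticMap CfsgLib.WittExtension Module CfsgLib.SpinorNorm CfsgLib.SpinorMatrix

variable {F : Type*} [Field F] [Fintype F] [DecidableEq F] {ι : Type} [Fintype ι] [DecidableEq ι]
  (Q : QuadraticForm F (ι → F))

theorem isSquare_mul_iff (h2 : (2 : F) ≠ 0) {a b : F} (ha : a ≠ 0) (hb : b ≠ 0) :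
    IsSquare (a * b) ↔ (IsSquare a ↔ IsSquare b) := by
  classical
  have hF : ringChar F ≠ 2 := fun h => h2 (by haveI := ringChar.of_eq h; exact CharTwo.two_eq_zero)
  rw [← quadraticChar_one_iff_isSquare (mul_ne_zero ha hb), ← quadraticChar_one_iff_isSquare ha,
    ← quadraticChar_one_iff_isSquare hb, map_mul]
  rcases quadraticChar_dichotomy ha with h | h <;> rcases quadraticChar_dichotomy hb with h' | h' <;>
    rw [h, h'] <;> norm_num

theorem omega_iff (h2 : (2 : F) ≠ 0) (hn : 2 ≤ Fintype.card ι) (hQ : (polarBilin Q).Nondegenerate)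
    (g : Cfsg.isometryGroup F ⇑Q) :
    g ∈ Cfsg.Omega F ⇑Q ↔ phi Q hQ (hc_odd Q h2 hQ) (isoEquiv Q g) = 1 := by
  obtain ⟨hcom, -⟩ := commutator_eq Q h2 hQ (by rwa [Module.finrank_pi]) (hc_odd Q h2 hQ)
  rw [Cfsg.Omega, comap_commutator (isoEquiv Q), Subgroup.mem_comap, hcom, MonoidHom.mem_ker]
  rfl

theorem exists_refl_prod (h2 : (2 : F) ≠ 0) (hQ : (polarBilin Q).Nondegenerate) :
    ∀ vs : List (ι → F), (∀ v ∈ vs, Q v ≠ 0) →
      ∃ g : Cfsg.isometryGroup F ⇑Q, g.1.1 = (vs.map fun v => Cfsg.reflectionMatrix (⇑Q) v).prod ∧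
        phi Q hQ (hc_odd Q h2 hQ) (isoEquiv Q g) = ((-1) ^ vs.length,
          if IsSquare (vs.map fun v => Q v).prod then (-1) ^ vs.length else -(-1) ^ vs.length) := by
  classical
  intro vs
  induction vs with
  | nil =>
    intro _
    refine ⟨1, by simp, ?_⟩
    rw [map_one, map_one]
    simp [Prod.one_eq_mk]
  | cons v t ih =>
    intro h
    have hv : Q v ≠ 0 := h v List.mem_cons_self
    obtain ⟨g, hg, hphi⟩ := ih fun w hw => h w (List.mem_cons_of_mem _ hw)
    refine ⟨(isoEquiv Q).symm (refl Q hv) * g, ?_, ?_⟩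
    · have : ((isoEquiv Q).symm (refl Q hv)).1.1 = Cfsg.reflectionMatrix (⇑Q) v :=
        Matrix.ext_of_mulVec_single fun i => by
          rw [isoEquiv_symm_apply, refl_apply, CfsgLib.PolarVec.reflection_mulVec]
      show ((isoEquiv Q).symm (refl Q hv)).1.1 * g.1.1 = _
      rw [this, hg]
      simp
    · rw [map_mul, MulEquiv.apply_symm_apply, map_mul, hphi, phi_refl Q h2 hQ _ hv]
      have hp : (t.map fun w => Q w).prod ≠ 0 := by
        apply List.prod_ne_zero
        intro h0
        obtain ⟨w, hw, hw0⟩ := List.mem_map.mp h0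
        exact h w (List.mem_cons_of_mem _ hw) hw0
      simp only [List.map_cons, List.prod_cons, List.length_cons, pow_succ', Prod.mk_mul_mk,
        isSquare_mul_iff h2 hv hp]
      by_cases h1 : IsSquare (Q v) <;> by_cases h3 : IsSquare (t.map fun w => Q w).prod <;>
        simp [h1, h3]

theorem omega_iff_prod (h2 : (2 : F) ≠ 0) (hn : 2 ≤ Fintype.card ι) (hQ : (polarBilin Q).Nondegenerate)
    (g : Cfsg.isometryGroup F ⇑Q) (vs : List (ι → F)) (hvs : ∀ v ∈ vs, Q v ≠ 0)
    (hg : g.1.1 = (vs.map fun v => Cfsg.reflectionMatrix (⇑Q) v).prod) :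
    g ∈ Cfsg.Omega F ⇑Q ↔ Even vs.length ∧ IsSquare (vs.map fun v => Q v).prod := by
  classical
  obtain ⟨g', hg', hphi⟩ := exists_refl_prod Q h2 hQ vs hvs
  have : g = g' := Subtype.ext (Units.ext (hg.trans hg'.symm))
  rw [this, omega_iff Q h2 hn hQ, hphi, Prod.mk_eq_one]
  rcases Nat.even_or_odd vs.length with he | ho
  · rw [he.neg_one_pow]
    by_cases h : IsSquare (vs.map fun v => Q v).prod <;> simp [h, he]
  · rw [ho.neg_one_pow]
    simp [Nat.not_even_iff_odd.mpr ho]

theorem prod_mulVec_fix : ∀ (vs : List (ι → F)) (x : ι → F), (∀ v ∈ vs, polar Q v x = 0) →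
    (vs.map fun v => Cfsg.reflectionMatrix (⇑Q) v).prod.mulVec x = x := by
  intro vs
  induction vs with
  | nil => intro x _; simp
  | cons v t ih =>
    intro x h
    rw [List.map_cons, List.prod_cons, ← Matrix.mulVec_mulVec,
      ih x fun w hw => h w (List.mem_cons_of_mem _ hw), CfsgLib.PolarVec.reflection_mulVec,
      h v List.mem_cons_self]
    simp

theorem prod_mulVec_neg : ∀ (vs : List (ι → F)) (x : ι → F), x ∈ vs → vs.Pairwise (fun a b => polar Q a b = 0) →
    Q x ≠ 0 → (vs.map fun v => Cfsg.reflectionMatrix (⇑Q) v).prod.mulVec x = -x := by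
  intro vs
  induction vs with
  | nil => intro x h; simp at h
  | cons v t ih =>
    intro x hx hp hQx
    rw [List.pairwise_cons] at hp
    rw [List.map_cons, List.prod_cons, ← Matrix.mulVec_mulVec]
    rcases List.mem_cons.mp hx with rfl | hx'
    · rw [prod_mulVec_fix Q t x fun w hw => by rw [polar_comm]; exact hp.1 w hw,
        CfsgLib.PolarVec.reflection_mulVec, CfsgLib.PolarVec.polar_self]
      match_scalars <;> field_simp <;> ring
    · rw [ih x hx' hp.2 hQx, Matrix.mulVec_neg, CfsgLib.PolarVec.reflection_mulVec, hp.1 x hx']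
      simp

end CfsgLib.OmegaMem

namespace CfsgLib.OmegaMem

open QuadraticMap

variable {F : Type*} [Field F] [Fintype F] {ι : Type} [Fintype ι] [DecidableEq ι]

/-- A diagonal sign matrix negating `i` hyperbolic pairs lies in `Ω` exactly when `(-1) ^ i` is a square. -/
theorem pairs_mem_iff {q : ℕ} (hF : Fintype.card F = q) (hq : Odd q) (f : (ι → F) → F)
    (Q : QuadraticForm F (ι → F)) (hf : ∀ v, f v = Q v) (hn : 2 ≤ Fintype.card ι)
    (hQ : (polarBilin Q).Nondegenerate) {i : ℕ} (L R : Fin i → ι) (hL : Function.Injective L)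
    (hR : Function.Injective R) (hLR : ∀ a b, L a ≠ R b) (hQL : ∀ j, Q (Pi.single (L j) 1) = 0)
    (hQR : ∀ j, Q (Pi.single (R j) 1) = 0)
    (hpL : ∀ j x, polar Q (Pi.single (L j) 1) x = x (R j))
    (hpR : ∀ j x, polar Q (Pi.single (R j) 1) x = x (L j))
    (d : ι → F) (hd1 : ∀ j, d (L j) = -1 ∧ d (R j) = -1)
    (hd2 : ∀ k, (∀ j, k ≠ L j ∧ k ≠ R j) → d k = 1) :
    (∃ g : ↥(Cfsg.isometryGroup F f), g ∈ Cfsg.Omega F f ∧ g.1.1 = Matrix.diagonal d) ↔
      q ^ i % 4 = 1 := by
  classical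
  obtain rfl : f = ⇑Q := funext hf
  have h2 : (2 : F) ≠ 0 := fun h => by
    haveI : Fact (Nat.Prime 2) := ⟨Nat.prime_two⟩
    have hc : ringChar F = 2 := CharP.ringChar_of_prime_eq_zero Nat.prime_two (by exact_mod_cast h)
    have := FiniteField.even_card_of_char_two hc
    obtain ⟨t, ht⟩ := hq
    omega
  set a : Fin i → ι → F := fun j => Pi.single (L j) 1 + Pi.single (R j) 1 with ha
  set b : Fin i → ι → F := fun j => Pi.single (L j) 1 - Pi.single (R j) 1 with hb
  have hpa : ∀ j x, polar Q (a j) x = x (R j) + x (L j) := fun j x => by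
    simp only [ha]; rw [polar_add_left, hpL, hpR]
  have hpb : ∀ j x, polar Q (b j) x = x (R j) - x (L j) := fun j x => by
    simp only [hb]; rw [sub_eq_add_neg, polar_add_left, polar_neg_left, hpL, hpR, sub_eq_add_neg]
  have hQa : ∀ j, Q (a j) = 1 := fun j => by
    simp only [ha]; rw [QuadraticMap.map_add Q, hQL, hQR, hpL]; simp
  have hQb : ∀ j, Q (b j) = -1 := fun j => by
    simp only [hb]; rw [sub_eq_add_neg, QuadraticMap.map_add Q, QuadraticMap.map_neg, hQL, hQR, polar_neg_right, hpL]; simp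
  set vs := (List.finRange i).flatMap (fun j => [a j, b j]) with hvs
  have hne : ∀ v ∈ vs, Q v ≠ 0 := by
    intro v hv
    obtain ⟨j, -, hj⟩ := List.mem_flatMap.mp hv
    rcases List.mem_pair.mp hj with rfl | rfl
    · rw [hQa]; exact one_ne_zero
    · rw [hQb]; exact neg_ne_zero.mpr one_ne_zero
  have hpw : vs.Pairwise (fun u v => polar Q u v = 0) := by
    rw [hvs, List.pairwise_flatMap]
    refine ⟨fun j _ => List.pairwise_pair.mpr ?_, (List.nodup_finRange i).imp fun {j k} hjk u hu v hv => ?_⟩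
    · rw [hpa]
      simp [hb, Pi.single_apply, hLR j j, (hLR j j).symm]
    · have h0 : ∀ l, (Pi.single (L k) (1 : F) : ι → F) (R l) = 0 ∧ (Pi.single (R k) (1 : F) : ι → F) (L l) = 0 :=
        fun l => ⟨Pi.single_eq_of_ne (fun h => hLR k l h.symm) _, Pi.single_eq_of_ne (hLR l k) _⟩
      have h1 : (Pi.single (L k) (1 : F) : ι → F) (L j) = 0 ∧ (Pi.single (R k) (1 : F) : ι → F) (R j) = 0 :=
        ⟨Pi.single_eq_of_ne (hL.ne hjk) _, Pi.single_eq_of_ne (hR.ne hjk) _⟩
      rcases List.mem_pair.mp hu with rfl | rfl <;> rcases List.mem_pair.mp hv with rfl | rfl <;>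
        simp only [hpa, hpb] <;> simp [ha, hb, h0, h1]
  have hprod : (vs.map fun v => Cfsg.reflectionMatrix (⇑Q) v).prod = Matrix.diagonal d := by
    refine Matrix.ext_of_mulVec_single fun k => ?_
    rw [show (Matrix.diagonal d).mulVec (Pi.single k 1) = d k • Pi.single k 1 by
      ext l; rw [Matrix.mulVec_diagonal]; by_cases h : l = k <;> simp [h]]
    by_cases hk : ∀ j, k ≠ L j ∧ k ≠ R j
    · rw [hd2 k hk, one_smul, prod_mulVec_fix Q vs _ fun v hv => ?_]
      obtain ⟨j, -, hj⟩ := List.mem_flatMap.mp hv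
      rcases List.mem_pair.mp hj with rfl | rfl <;>
        simp [hpa, hpb, (hk j).1.symm, (hk j).2.symm]
    · push Not at hk
      obtain ⟨j, hj⟩ := hk
      have hA := prod_mulVec_neg Q vs (a j) (List.mem_flatMap.mpr ⟨j, List.mem_finRange j, by simp⟩) hpw
        (hne _ (List.mem_flatMap.mpr ⟨j, List.mem_finRange j, by simp⟩))
      have hB := prod_mulVec_neg Q vs (b j) (List.mem_flatMap.mpr ⟨j, List.mem_finRange j, by simp⟩) hpw
        (hne _ (List.mem_flatMap.mpr ⟨j, List.mem_finRange j, by simp⟩))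
      by_cases hkL : k = L j
      · subst hkL
        rw [(hd1 j).1, show (Pi.single (L j) (1 : F) : ι → F) = (2 : F)⁻¹ • (a j + b j) by
          rw [ha, hb]; ext l; simp; field_simp; ring,
          Matrix.mulVec_smul, Matrix.mulVec_add, hA, hB, ← neg_add, smul_neg, neg_one_smul]
      · have hkR := hj hkL
        subst hkR
        rw [(hd1 j).2, show (Pi.single (R j) (1 : F) : ι → F) = (2 : F)⁻¹ • (a j - b j) by
          rw [ha, hb]; ext l; simp; field_simp; ring,
          Matrix.mulVec_smul, Matrix.mulVec_sub, hA, hB, neg_one_smul, ← smul_neg]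
        congr 1; abel
  have hlen : vs.length = 2 * i := by
    rw [hvs, List.length_flatMap]; simp [List.sum_const_nat, mul_comm]
  have hQprod : (vs.map fun v => Q v).prod = (-1 : F) ^ i := by
    rw [hvs, List.map_flatMap, List.flatMap_def, List.prod_flatten, List.map_map]
    simp [Function.comp_def, hQa, hQb]
  obtain ⟨g, hg, -⟩ := exists_refl_prod Q h2 hQ vs hne
  have hiff := omega_iff_prod Q h2 hn hQ g vs hne hg
  rw [hlen, hQprod] at hiff
  have hsq : IsSquare ((-1 : F) ^ i) ↔ q ^ i % 4 = 1 := by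
    subst hF
    rcases Nat.even_or_odd i with ⟨k, rfl⟩ | hi
    · obtain ⟨t, ht⟩ := hq
      rw [← two_mul, pow_mul, neg_one_sq, one_pow, pow_mul, Nat.pow_mod,
        show Fintype.card F ^ 2 % 4 = 1 by rw [ht, show (2 * t + 1) ^ 2 = 4 * (t * t + t) + 1 by ring]; omega]
      simp
    · rw [hi.neg_one_pow, FiniteField.isSquare_neg_one_iff]
      obtain ⟨k, rfl⟩ := hi
      obtain ⟨t, ht⟩ := hq
      rw [pow_succ, pow_mul, Nat.mul_mod, Nat.pow_mod,
        show Fintype.card F ^ 2 % 4 = 1 by rw [ht, show (2 * t + 1) ^ 2 = 4 * (t * t + t) + 1 by ring]; omega]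
      simp only [one_pow, one_mul, Nat.mod_mod]
      omega
  constructor
  · rintro ⟨g', hg', e⟩
    have : g' = g := Subtype.ext (Units.ext (by rw [e, hg, hprod]))
    exact hsq.mp (hiff.mp (this ▸ hg')).2
  · exact fun h => ⟨g, hiff.mpr ⟨even_two_mul i, hsq.mpr h⟩, hg.trans hprod⟩

end CfsgLib.OmegaMem
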