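/-
Finite groups in which every subgroup is normal.
-/
import Mathlib
import Cfsg.Agent.Lib.SmallElements
import Cfsg.Agent.Lib.QuatHom

set_option autoImplicit false

namespace CfsgLib.Hamiltonian

universe u

variable {G : Type u} [Group G] (hn : ∀ H : Subgroup G, H.Normal)
include hn

theorem conj_mem_zpowers (x g : G) : g * x * g⁻¹ ∈ Subgroup.zpowers x :=
  (hn _).conj_mem x (Subgroup.mem_zpowers x) g

theorem comm_mem (x y : G) :
    x * y * x⁻¹ * y⁻¹ ∈ Subgroup.zpowers x ∧ x * y * x⁻¹ * y⁻¹ ∈ Subgroup.zpowers y := by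
  refine ⟨?_, (Subgroup.zpowers y).mul_mem (conj_mem_zpowers hn y x) (inv_mem (Subgroup.mem_zpowers y))⟩
  rw [show x * y * x⁻¹ * y⁻¹ = x * (y * x⁻¹ * y⁻¹) by simp only [mul_assoc]]
  refine (Subgroup.zpowers x).mul_mem (Subgroup.mem_zpowers x) ?_
  rw [show y * x⁻¹ * y⁻¹ = (y * x * y⁻¹)⁻¹ by simp [mul_assoc]]
  exact inv_mem (conj_mem_zpowers hn x y)

theorem commute_of_coprime {x y : G} (h : (orderOf x).Coprime (orderOf y)) : Commute x y := by
  have h1 := comm_mem hn x y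
  have h2 : x * y * x⁻¹ * y⁻¹ = 1 := by
    rw [← orderOf_eq_one_iff]
    exact Nat.eq_one_of_dvd_coprimes h
      (Nat.card_zpowers x ▸ Subgroup.orderOf_dvd_natCard _ h1.1)
      (Nat.card_zpowers y ▸ Subgroup.orderOf_dvd_natCard _ h1.2)
  rw [mul_inv_eq_one, mul_inv_eq_iff_eq_mul] at h2
  exact h2

variable [Finite G]

/-- A minimal non-commuting pair of `p`-elements generates a quaternion group of order 8. -/
theorem minimal_pair {p : ℕ} [Fact p.Prime] {x y : G} (hx : ∃ i, orderOf x = p ^ i) (hy : ∃ j, orderOf y = p ^ j)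
    (hle : orderOf y ≤ orderOf x) (hxy : ¬ Commute x y)
    (hmin : ∀ a b : G, (∃ i, orderOf a = p ^ i) → (∃ j, orderOf b = p ^ j) → ¬ Commute a b →
      orderOf x + orderOf y ≤ orderOf a + orderOf b) :
    p = 2 ∧ orderOf x = 4 ∧ y * y = x ^ 2 ∧ y * x * y⁻¹ = x⁻¹ ∧ y ∉ Subgroup.zpowers x := by
  obtain ⟨i', hi'⟩ := hx
  obtain ⟨j', hj'⟩ := hy
  have hp : p.Prime := Fact.out
  have hx1 : x ≠ 1 := fun e => hxy (e ▸ Commute.one_left y)
  have hy1 : y ≠ 1 := fun e => hxy (e ▸ Commute.one_right x)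
  obtain ⟨i, rfl⟩ : ∃ i, i' = i + 1 := Nat.exists_eq_succ_of_ne_zero (fun e => hx1 (orderOf_eq_one_iff.mp (by rw [hi', e, pow_zero])))
  obtain ⟨j, rfl⟩ : ∃ j, j' = j + 1 := Nat.exists_eq_succ_of_ne_zero (fun e => hy1 (orderOf_eq_one_iff.mp (by rw [hj', e, pow_zero])))
  obtain ⟨hcx, hcy⟩ := comm_mem hn x y
  set c := x * y * x⁻¹ * y⁻¹ with hc
  have hcx' : Commute c x := by
    obtain ⟨k, hk⟩ := hcx; rw [← hk]; exact (Commute.refl x).zpow_left k
  have hcy' : Commute c y := by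
    obtain ⟨k, hk⟩ := hcy; rw [← hk]; exact (Commute.refl y).zpow_left k
  have hconj : x * y * x⁻¹ = c * y := by rw [hc, inv_mul_cancel_right]
  have hpow : ∀ n : ℕ, x ^ n * y * (x ^ n)⁻¹ = c ^ n * y := by
    intro n
    induction n with
    | zero => simp
    | succ n ih =>
      calc x ^ (n + 1) * y * (x ^ (n + 1))⁻¹ = x * (x ^ n * y * (x ^ n)⁻¹) * x⁻¹ := by rw [pow_succ']; group
        _ = x * (c ^ n * y) * x⁻¹ := by rw [ih]
        _ = c ^ n * (x * y * x⁻¹) := by rw [← mul_assoc x, ← (hcx'.pow_left n).eq]; group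
        _ = c ^ (n + 1) * y := by rw [hconj, pow_succ, ← mul_assoc]
  -- the commutator has order `p`
  have hcp : c ^ p = 1 := by
    have hlt : orderOf (x ^ p) < orderOf x := by
      rw [orderOf_pow, hi', Nat.gcd_eq_right (dvd_pow_self p (Nat.succ_ne_zero i)), pow_succ, Nat.mul_div_cancel _ hp.pos]
      exact lt_mul_of_one_lt_right (pow_pos hp.pos i) hp.one_lt
    have hcm : Commute (x ^ p) y := by
      by_contra h
      have := hmin _ _ (by
        obtain ⟨k, -, hk⟩ := (Nat.dvd_prime_pow hp).mp (hi' ▸ orderOf_pow_dvd (x := x) p)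
        exact ⟨k, hk⟩) ⟨j + 1, hj'⟩ h
      omega
    have h1 := hpow p
    rw [hcm.eq, mul_inv_cancel_right] at h1
    exact mul_eq_right.mp h1.symm
  have hc1 : c ≠ 1 := fun e => hxy (by
    rw [e] at hconj
    rw [one_mul, mul_inv_eq_iff_eq_mul] at hconj
    exact hconj)
  have hco : orderOf c = p := orderOf_eq_prime hcp hc1
  -- both orders exceed `p`
  have hgen : ∀ (z : G) (k : ℕ), orderOf z = p ^ (k + 1) → c ∈ Subgroup.zpowers z →
      Subgroup.zpowers c = Subgroup.zpowers (z ^ p ^ k) := by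
    intro z k hz hcz
    obtain ⟨e, he⟩ := hcz
    simp only at he
    have hd : (p : ℤ) ^ k ∣ e := by
      have h1 : z ^ (e * p) = 1 := by rw [zpow_mul, he, zpow_natCast, hcp]
      rw [← orderOf_dvd_iff_zpow_eq_one, hz, pow_succ, Nat.cast_mul, Nat.cast_pow] at h1
      exact (mul_dvd_mul_iff_right (by exact_mod_cast hp.ne_zero)).mp h1
    obtain ⟨r, rfl⟩ := hd
    refine Subgroup.eq_of_le_of_card_ge (Subgroup.zpowers_le.mpr ⟨r, ?_⟩) ?_
    · simp only
      rw [← he, ← zpow_natCast, ← zpow_mul]; push_cast; rfl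
    · rw [Nat.card_zpowers, Nat.card_zpowers, hco, orderOf_pow, hz, Nat.gcd_eq_right (pow_dvd_pow p k.le_succ),
        Nat.pow_div k.le_succ hp.pos]
      simp
  have hgx := hgen x i hi' hcx
  have hgy := hgen y j hj' hcy
  obtain ⟨u, hu⟩ : y ^ p ^ j ∈ Subgroup.zpowers (x ^ p ^ i) := hgx ▸ hgy ▸ Subgroup.mem_zpowers _
  simp only at hu
  have hij : j ≤ i := by
    rw [hi', hj'] at hle
    have := (Nat.pow_le_pow_iff_right hp.one_lt).mp hle
    omega
  have hj0 : j ≠ 0 := by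
    intro e
    rw [e, pow_zero, pow_one] at hu
    exact hxy (by rw [← hu]; exact ((Commute.refl x).pow_right _).zpow_right _)
  -- shorten `y`
  set t : ℤ := -(u * (p : ℤ) ^ (i - j)) with ht
  set y' := x ^ t * y with hy'
  have hxy' : ¬ Commute x y' := fun h => hxy (by
    have := ((Commute.refl x).zpow_right t).inv_right.mul_right h
    rwa [hy', inv_mul_cancel_left] at this)
  have hdd : y * x ^ t = x ^ t * y * (c⁻¹) ^ t := by
    have h1 : ∀ k : ℤ, x ^ k * y * (x ^ k)⁻¹ = c ^ k * y := by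
      intro k
      obtain ⟨m, rfl | rfl⟩ := Int.eq_nat_or_neg k
      · simp only [zpow_natCast]; exact hpow m
      · simp only [zpow_neg, zpow_natCast, inv_inv]
        calc (x ^ m)⁻¹ * y * x ^ m = (x ^ m)⁻¹ * ((c ^ m)⁻¹ * (c ^ m * y)) * x ^ m := by rw [inv_mul_cancel_left]
          _ = (x ^ m)⁻¹ * ((c ^ m)⁻¹ * (x ^ m * y * (x ^ m)⁻¹)) * x ^ m := by rw [hpow m]
          _ = (x ^ m)⁻¹ * (x ^ m * (c ^ m)⁻¹) * y := by
            rw [← mul_assoc (c ^ m)⁻¹, ← mul_assoc (c ^ m)⁻¹, ((hcx'.pow_pow m m).inv_left).eq]; group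
          _ = (c ^ m)⁻¹ * y := by rw [inv_mul_cancel_left]
    have h2 := h1 t
    rw [mul_inv_eq_iff_eq_mul] at h2
    have hcm : Commute (c ^ t) (x ^ t * y) := (hcx'.zpow_zpow t t).mul_right (hcy'.zpow_left t)
    rw [inv_zpow, ← hcm.inv_left.eq, h2]
    group
  have hy'pow : y' ^ p ^ j = (c⁻¹) ^ (t * ((p ^ j).choose 2 : ℕ)) := by
    rw [hy', CfsgLib.Small.mul_pow_class_two hdd ((hcx'.inv_left.zpow_zpow t t)) (hcy'.inv_left.zpow_left t) (p ^ j),
      ← zpow_natCast (x ^ t), ← zpow_mul, zpow_mul _ t ((p ^ j).choose 2 : ℕ), zpow_natCast _ ((p ^ j).choose 2)]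
    suffices h : x ^ (t * ((p ^ j : ℕ) : ℤ)) * y ^ p ^ j = 1 by rw [h, one_mul]
    rw [← hu, ← zpow_natCast x (p ^ i), ← zpow_mul, ← zpow_add, ht]
    rw [show -(u * (p : ℤ) ^ (i - j)) * ((p ^ j : ℕ) : ℤ) + ((p ^ i : ℕ) : ℤ) * u = 0 by
      push_cast
      rw [neg_mul, mul_assoc, ← pow_add, Nat.sub_add_cancel hij]; ring, zpow_zero]
  have hbad : (c⁻¹) ^ (t * ((p ^ j).choose 2 : ℕ)) = 1 → False := by
    intro h
    rw [h] at hy'pow
    have h2 : orderOf y' ∣ p ^ j := orderOf_dvd_of_pow_eq_one hy'pow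
    have h3 := hmin x y' ⟨i + 1, hi'⟩ (by
      obtain ⟨k, -, hk⟩ := (Nat.dvd_prime_pow hp).mp h2; exact ⟨k, hk⟩) hxy'
    have h4 := Nat.le_of_dvd (pow_pos hp.pos j) h2
    have h5 : p ^ j < p ^ (j + 1) := Nat.pow_lt_pow_right hp.one_lt (by omega)
    omega
  have hcinv : ∀ k : ℤ, (p : ℤ) ∣ k → (c⁻¹) ^ k = 1 := by
    intro k hk
    rw [← orderOf_dvd_iff_zpow_eq_one, orderOf_inv, hco]; exact hk
  have h2j : p = 2 ∧ j = 1 := by
    by_contra h
    refine hbad (hcinv _ (Dvd.dvd.mul_left ?_ t))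
    rw [Int.natCast_dvd_natCast, Nat.choose_two_right]
    obtain ⟨j₀, rfl⟩ := Nat.exists_eq_succ_of_ne_zero hj0
    by_cases hp2 : p = 2
    · subst hp2
      obtain ⟨j₁, rfl⟩ := Nat.exists_eq_succ_of_ne_zero (show j₀ ≠ 0 from fun e => h ⟨rfl, by rw [e]⟩)
      refine ⟨2 ^ j₁ * (2 ^ (j₁ + 2) - 1), ?_⟩
      rw [show 2 ^ (j₁ + 1 + 1) * (2 ^ (j₁ + 1 + 1) - 1) = 2 * (2 * (2 ^ j₁ * (2 ^ (j₁ + 2) - 1))) by
        rw [pow_succ, pow_succ]; ring, Nat.mul_div_cancel_left _ two_pos]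
    · refine (Nat.Coprime.dvd_of_dvd_mul_left (k := p) (m := 2) ((Nat.coprime_primes hp Nat.prime_two).mpr hp2) ?_)
      rw [Nat.mul_div_cancel' (Nat.even_mul_pred_self _).two_dvd]
      exact (dvd_pow_self p j₀.succ_ne_zero).mul_right _
  obtain ⟨rfl, rfl⟩ := h2j
  have hi1 : i = 1 := by
    by_contra hne
    refine hbad (hcinv _ (Dvd.dvd.mul_right ?_ _))
    rw [ht, dvd_neg]
    exact Dvd.dvd.mul_left (dvd_pow_self _ (by omega)) u
  subst hi1
  have ho4 : orderOf x = 4 := by rw [hi']; norm_num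
  have hc2 : c = x ^ 2 := by
    have h1 : c ∈ Subgroup.zpowers (x ^ 2 ^ 1) := hgx ▸ Subgroup.mem_zpowers c
    obtain ⟨k, hk⟩ := h1
    simp only [pow_one] at hk
    rcases Int.even_or_odd k with ⟨a, rfl⟩ | ⟨a, rfl⟩
    · exfalso; apply hc1
      rw [← hk, ← two_mul, ← zpow_natCast x 2, ← zpow_mul, show ((2 : ℕ) : ℤ) * (2 * a) = 4 * a by push_cast; ring,
        zpow_mul, show x ^ (4 : ℤ) = 1 by rw [show (4 : ℤ) = ((4 : ℕ) : ℤ) from rfl, zpow_natCast, ← ho4, pow_orderOf_eq_one],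
        one_zpow]
    · rw [← hk, ← zpow_natCast x 2, ← zpow_mul, show ((2 : ℕ) : ℤ) * (2 * a + 1) = 4 * a + ((2 : ℕ) : ℤ) by push_cast; ring,
        zpow_add, zpow_mul, show x ^ (4 : ℤ) = 1 by rw [show (4 : ℤ) = ((4 : ℕ) : ℤ) from rfl, zpow_natCast, ← ho4, pow_orderOf_eq_one],
        one_zpow, one_mul]
  have hy2 : y ^ 2 = c := by
    have h1 : c ∈ Subgroup.zpowers (y ^ 2 ^ 1) := hgy ▸ Subgroup.mem_zpowers c
    have h4 : orderOf (y ^ 2) = 2 := by
      rw [orderOf_pow, hj']; norm_num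
    rw [pow_one] at h1
    obtain ⟨k, hk⟩ := h1
    simp only at hk
    have h22 : (y ^ 2) ^ (2 : ℤ) = 1 := by
      rw [show (2 : ℤ) = ((orderOf (y ^ 2) : ℕ) : ℤ) by rw [h4]; rfl, zpow_natCast, pow_orderOf_eq_one]
    rcases Int.even_or_odd k with ⟨a, rfl⟩ | ⟨a, rfl⟩
    · exfalso; apply hc1
      rw [← hk, ← two_mul, zpow_mul, h22, one_zpow]
    · rw [← hk, zpow_add, zpow_mul, h22, one_zpow, one_mul, zpow_one]
  refine ⟨rfl, ho4, by rw [← pow_two, hy2, hc2], ?_, ?_⟩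
  · have h1 : y * x * y⁻¹ = c⁻¹ * x := by
      rw [hc]; group
    rw [h1, hc2, show x⁻¹ = (x ^ 2)⁻¹ * x by group]
  · rintro ⟨k, hk⟩
    exact hxy (hk ▸ (Commute.refl x).zpow_right k)

/-- If prime power elements commute, so do all elements. -/
theorem commute_of_prime_power (h : ∀ p : ℕ, p.Prime → ∀ a b : G, (∃ i, orderOf a = p ^ i) → (∃ j, orderOf b = p ^ j) →
    Commute a b) (g k : G) : Commute g k := by
  suffices key : ∀ n, ∀ g k : G, orderOf g + orderOf k = n → Commute g k from key _ g k rfl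
  intro n
  induction n using Nat.strong_induction_on with
  | h n ih =>
    intro g k hn'
    have split : ∀ z : G, (∃ p i, p.Prime ∧ orderOf z = p ^ i) ∨
        ∃ (a b : G), z = a * b ∧ orderOf a < orderOf z ∧ orderOf b < orderOf z := by
      intro z
      by_cases h1 : orderOf z = 1
      · exact Or.inl ⟨2, 0, Nat.prime_two, h1⟩
      obtain ⟨p, hp, hpd⟩ := Nat.exists_prime_and_dvd h1
      obtain ⟨e, m, hm, ho⟩ := Nat.exists_eq_pow_mul_and_not_dvd (orderOf_pos z).ne' p hp.one_lt.ne'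
      by_cases hm1 : m = 1
      · exact Or.inl ⟨p, e, hp, by rw [ho, hm1, mul_one]⟩
      have he : e ≠ 0 := fun e0 => hm (by simpa [ho, e0] using hpd)
      have hcop : (p ^ e).Coprime m := ((hp.coprime_iff_not_dvd).mpr hm).pow_left e
      have hb := Nat.gcd_eq_gcd_ab (p ^ e) m
      rw [hcop.gcd_eq_one] at hb
      set u := Nat.gcdA (p ^ e) m
      set v := Nat.gcdB (p ^ e) m
      refine Or.inr ⟨(z ^ p ^ e) ^ u, (z ^ m) ^ v, ?_, ?_, ?_⟩
      · rw [← zpow_natCast, ← zpow_natCast, ← zpow_mul, ← zpow_mul, ← zpow_add, ← hb, Nat.cast_one, zpow_one]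
      · refine lt_of_le_of_lt (Nat.le_of_dvd (Nat.pos_of_ne_zero fun e0 => by simp [e0] at hm) (orderOf_dvd_of_pow_eq_one (n := m) ?_)) ?_
        · rw [← zpow_natCast, ← zpow_mul, mul_comm, zpow_mul, zpow_natCast, ← pow_mul, ← ho, pow_orderOf_eq_one, one_zpow]
        · rw [ho]; exact lt_mul_of_one_lt_left (Nat.pos_of_ne_zero fun e0 => by simp [e0] at hm) (Nat.one_lt_pow he hp.one_lt)
      · refine lt_of_le_of_lt (Nat.le_of_dvd (pow_pos hp.pos e) (orderOf_dvd_of_pow_eq_one (n := p ^ e) ?_)) ?_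
        · rw [← zpow_natCast, ← zpow_mul, mul_comm, zpow_mul, zpow_natCast, ← pow_mul, mul_comm m, ← ho, pow_orderOf_eq_one, one_zpow]
        · have hm0 : m ≠ 0 := fun e0 => by simp [e0] at hm
          rw [ho]; exact lt_mul_of_one_lt_right (pow_pos hp.pos e) (by omega)
    rcases split g with ⟨p, i, hp, hgi⟩ | ⟨a, b, rfl, ha, hb⟩
    · rcases split k with ⟨q, j, hq, hkj⟩ | ⟨a, b, rfl, ha, hb⟩
      · by_cases hpq : p = q
        · exact h p hp g k ⟨i, hgi⟩ ⟨j, hpq ▸ hkj⟩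
        · refine commute_of_coprime hn ?_
          rw [hgi, hkj]
          exact Nat.Coprime.pow i j ((Nat.coprime_primes hp hq).mpr hpq)
      · exact Commute.mul_right (ih (orderOf g + orderOf a) (by omega) g a rfl) (ih (orderOf g + orderOf b) (by omega) g b rfl)
    · exact Commute.mul_left (ih (orderOf a + orderOf k) (by omega) a k rfl) (ih (orderOf b + orderOf k) (by omega) b k rfl)

/-- A minimal pair exists among non-commuting `p`-elements. -/
theorem exists_minimal_pair {p : ℕ} [Fact p.Prime] {a b : G} (ha : ∃ i, orderOf a = p ^ i) (hb : ∃ j, orderOf b = p ^ j)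
    (hab : ¬ Commute a b) :
    p = 2 ∧ ∃ x y : G, orderOf x = 4 ∧ y * y = x ^ 2 ∧ y * x * y⁻¹ = x⁻¹ ∧ y ∉ Subgroup.zpowers x := by
  classical
  have hex : ∃ n, ∃ x y : G, (∃ i, orderOf x = p ^ i) ∧ (∃ j, orderOf y = p ^ j) ∧ ¬ Commute x y ∧ orderOf x + orderOf y = n :=
    ⟨_, a, b, ha, hb, hab, rfl⟩
  obtain ⟨x, y, hx, hy, hxy, hsum⟩ := Nat.find_spec hex
  have hmin : ∀ a b : G, (∃ i, orderOf a = p ^ i) → (∃ j, orderOf b = p ^ j) → ¬ Commute a b →
      orderOf x + orderOf y ≤ orderOf a + orderOf b := fun a b ha hb hab => by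
    rw [hsum]; exact Nat.find_min' hex ⟨a, b, ha, hb, hab, rfl⟩
  rcases le_total (orderOf y) (orderOf x) with hle | hle
  · obtain ⟨h1, h2⟩ := minimal_pair hn hx hy hle hxy hmin
    exact ⟨h1, x, y, h2⟩
  · obtain ⟨h1, h2⟩ := minimal_pair hn hy hx hle (fun h => hxy h.symm) (fun a b ha hb hab => (add_comm _ _).trans_le (hmin a b ha hb hab))
    exact ⟨h1, y, x, h2⟩

end CfsgLib.Hamiltonian
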