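import Mathlib
import Cfsg.Agent.Lib.OmegaMem

/-!
Membership in `Ω` through reflection words, uniformly in the characteristic.
-/

set_option autoImplicit false

namespace CfsgLib.OmegaList

open QuadraticMap CfsgLib.WittExtension Module CfsgLib.SpinorNorm CfsgLib.SpinorMatrix
open scoped commutatorElement

variable {F : Type*} [Field F] [Fintype F] {ι : Type} [Fintype ι] [DecidableEq ι]
  (Q : QuadraticForm F (ι → F))

/-- The product of the reflection matrices of a list of vectors. -/
def RP (vs : List (ι → F)) : Matrix ι ι F := (vs.map fun v => Cfsg.reflectionMatrix (⇑Q) v).prod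

/-- The product of the values of the form. -/
def QP (vs : List (ι → F)) : F := (vs.map fun v => Q v).prod

theorem RP_append (a b : List (ι → F)) : RP Q (a ++ b) = RP Q a * RP Q b := by simp [RP]

theorem QP_append (a b : List (ι → F)) : QP Q (a ++ b) = QP Q a * QP Q b := by simp [QP]

theorem QP_ne_zero {vs : List (ι → F)} (h : ∀ v ∈ vs, Q v ≠ 0) : QP Q vs ≠ 0 := by
  apply List.prod_ne_zero
  intro h0
  obtain ⟨w, hw, hw0⟩ := List.mem_map.mp h0
  exact h w hw hw0

theorem symm_refl_matrix {v : ι → F} (hv : Q v ≠ 0) :
    ((isoEquiv Q).symm (refl Q hv)).1.1 = Cfsg.reflectionMatrix (⇑Q) v :=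
  Matrix.ext_of_mulVec_single fun i => by
    rw [isoEquiv_symm_apply, refl_apply, CfsgLib.PolarVec.reflection_mulVec]

theorem exists_iso : ∀ vs : List (ι → F), (∀ v ∈ vs, Q v ≠ 0) →
    ∃ g : Cfsg.isometryGroup F ⇑Q, g.1.1 = RP Q vs := by
  intro vs
  induction vs with
  | nil => intro _; exact ⟨1, by simp [RP]⟩
  | cons v t ih =>
    intro h
    obtain ⟨g, hg⟩ := ih fun w hw => h w (List.mem_cons_of_mem _ hw)
    refine ⟨(isoEquiv Q).symm (refl Q (h v List.mem_cons_self)) * g, ?_⟩
    show ((isoEquiv Q).symm (refl Q (h v List.mem_cons_self))).1.1 * g.1.1 = _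
    rw [symm_refl_matrix, hg]
    simp [RP]

variable (hc : Subgroup.closure (Refl Q) = ⊤)

include hc in
theorem exists_list (g : Cfsg.isometryGroup F ⇑Q) :
    ∃ vs : List (ι → F), (∀ v ∈ vs, Q v ≠ 0) ∧ g.1.1 = RP Q vs := by
  obtain ⟨x, rfl⟩ := (isoEquiv Q).symm.surjective g
  refine closure_induction_refl Q hc
    (fun x => ∃ vs : List (ι → F), (∀ v ∈ vs, Q v ≠ 0) ∧ ((isoEquiv Q).symm x).1.1 = RP Q vs) ?_ ?_ x
  · exact ⟨[], by simp, by rw [map_one]; simp [RP]⟩
  · rintro v hv y ⟨vs, hvs, he⟩
    refine ⟨v :: vs, by simpa [hv] using hvs, ?_⟩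
    rw [map_mul]
    show ((isoEquiv Q).symm (refl Q hv)).1.1 * ((isoEquiv Q).symm y).1.1 = _
    rw [symm_refl_matrix, he]
    simp [RP]

include hc in
theorem sq_mem_commutator (g : Cfsg.isometryGroup F ⇑Q) : g * g ∈ Cfsg.Omega F ⇑Q := by
  obtain ⟨x, rfl⟩ := (isoEquiv Q).symm.surjective g
  rw [Cfsg.Omega, comap_commutator (isoEquiv Q), Subgroup.mem_comap]
  simp only [MulEquiv.coe_toMonoidHom, map_mul, MulEquiv.apply_symm_apply]
  refine closure_induction_refl Q hc (fun x => x * x ∈ commutator (quadIso Q)) (by simp) ?_ x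
  intro v hv y hy
  have : refl Q hv * y * (refl Q hv * y) = ⁅refl Q hv, y⁆ * (y * (refl Q hv * refl Q hv) * y) := by
    rw [commutatorElement_def]; group
  rw [this, refl_mul_self, mul_one]
  exact mul_mem (Subgroup.commutator_mem_commutator (Subgroup.mem_top _) (Subgroup.mem_top _)) hy

include hc in
theorem dickson_list (hQ : (polarBilin Q).Nondegenerate) : ∀ vs : List (ι → F), (∀ v ∈ vs, Q v ≠ 0) →
    ∀ g : Cfsg.isometryGroup F ⇑Q, g.1.1 = RP Q vs →
      dicksonHom Q hQ hc (isoEquiv Q g) = (-1) ^ vs.length := by
  intro vs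
  induction vs with
  | nil =>
    intro _ g hg
    have : g = 1 := Subtype.ext (Units.ext (by simpa [RP] using hg))
    rw [this, map_one, map_one]; rfl
  | cons v t ih =>
    intro h g hg
    have hv := h v List.mem_cons_self
    obtain ⟨g', hg'⟩ := exists_iso Q t fun w hw => h w (List.mem_cons_of_mem _ hw)
    have : g = (isoEquiv Q).symm (refl Q hv) * g' := Subtype.ext (Units.ext (by
      rw [hg]
      show _ = ((isoEquiv Q).symm (refl Q hv)).1.1 * g'.1.1
      rw [symm_refl_matrix, hg']; simp [RP]))
    rw [this, map_mul, map_mul, MulEquiv.apply_symm_apply, dicksonHom_refl,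
      ih (fun w hw => h w (List.mem_cons_of_mem _ hw)) g' hg', List.length_cons, pow_succ']

include hc in
theorem omega_iff_list (hQ : (polarBilin Q).Nondegenerate) (g : Cfsg.isometryGroup F ⇑Q)
    (vs : List (ι → F)) (hvs : ∀ v ∈ vs, Q v ≠ 0) (hg : g.1.1 = RP Q vs) :
    g ∈ Cfsg.Omega F ⇑Q ↔ Even vs.length ∧ IsSquare (QP Q vs) := by
  classical
  by_cases h2 : (2 : F) = 0
  · haveI : CharP F 2 := CharTwo.of_one_ne_zero_of_two_eq_zero one_ne_zero h2
    rw [and_iff_left (FiniteField.isSquare_of_char_two (ringChar.eq F 2) _)]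
    by_cases hn : Fintype.card ι = 0
    · haveI : IsEmpty ι := Fintype.card_eq_zero_iff.mp hn
      have hv : vs = [] := by
        rcases vs with _ | ⟨v, t⟩
        · rfl
        · refine absurd ?_ (hvs v List.mem_cons_self)
          rw [Subsingleton.elim v 0, QuadraticMap.map_zero]
      have : g = 1 := Subtype.ext (Units.ext (Subsingleton.elim _ _))
      simp [hv, this]
    · have hker : commutator (quadIso Q) = (dicksonHom Q hQ hc).ker := by
        refine le_antisymm (Abelianization.commutator_subset_ker _) fun x hx => ?_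
        obtain ⟨a, ha⟩ := exists_anisotropic_pos Q hQ (by rw [Module.finrank_pi]; omega)
        have hidx := index_commutator_two Q h2 hQ (by rw [Module.finrank_pi]; omega) hc
        by_contra hx'
        have hr : refl Q ha ∉ commutator (quadIso Q) := fun h => by
          have := MonoidHom.mem_ker.mp (Abelianization.commutator_subset_ker (dicksonHom Q hQ hc) h)
          rw [dicksonHom_refl] at this
          exact absurd this (by decide)
        have := MonoidHom.mem_ker.mp (Abelianization.commutator_subset_ker (dicksonHom Q hQ hc)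
          ((Subgroup.mul_mem_iff_of_index_two hidx).mpr (iff_of_false hx' hr)))
        rw [map_mul, MonoidHom.mem_ker.mp hx, dicksonHom_refl, one_mul] at this
        exact absurd this (by decide)
      rw [Cfsg.Omega, comap_commutator (isoEquiv Q), Subgroup.mem_comap, hker, MonoidHom.mem_ker]
      simp only [MulEquiv.coe_toMonoidHom]
      rw [dickson_list Q hc hQ vs hvs g hg]
      rcases Nat.even_or_odd vs.length with he | ho
      · simp [he]
      · simp [ho.neg_one_pow, Nat.not_even_iff_odd.mpr ho]
  · by_cases hn : 2 ≤ Fintype.card ι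
    · exact CfsgLib.OmegaMem.omega_iff_prod Q h2 hn hQ g vs hvs hg
    · haveI : Subsingleton ι := Fintype.card_le_one_iff_subsingleton.mp (by omega)
      have hcomm : ∀ x y : Cfsg.isometryGroup F ⇑Q, x * y = y * x := fun x y => Subtype.ext (Units.ext (by
        show x.1.1 * y.1.1 = y.1.1 * x.1.1
        ext i j
        simp only [Matrix.mul_apply]
        exact Finset.sum_congr rfl fun k _ => by
          rw [Subsingleton.elim i k, Subsingleton.elim j k, mul_comm]))
      have hbot : Cfsg.Omega F ⇑Q = ⊥ := by
        rw [Cfsg.Omega, commutator_eq_closure, Subgroup.closure_eq_bot_iff]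
        rintro _ ⟨x, y, rfl⟩
        rw [Set.mem_singleton_iff, commutatorElement_eq_one_iff_commute]
        exact hcomm x y
      rcases isEmpty_or_nonempty ι with hι | ⟨⟨k⟩⟩
      · have hv : vs = [] := by
          rcases vs with _ | ⟨v, t⟩
          · rfl
          · refine absurd ?_ (hvs v List.mem_cons_self)
            rw [Subsingleton.elim v 0, QuadraticMap.map_zero]
        have : g = 1 := Subtype.ext (Units.ext (Subsingleton.elim _ _))
        simp [hv, this, QP]
      · have hscal : ∀ v : ι → F, v = v k • (Pi.single k 1 : ι → F) := fun v => by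
          ext l; simp [Subsingleton.elim l k]
        have hQs : ∀ v, Q v = v k * v k * Q (Pi.single k 1) := fun v => by
          conv_lhs => rw [hscal v, QuadraticMap.map_smul, smul_eq_mul]
        have hR : ∀ v, Q v ≠ 0 → Cfsg.reflectionMatrix (⇑Q) v = -1 := fun v hv => by
          refine Matrix.ext_of_mulVec_single fun l => ?_
          rw [CfsgLib.PolarVec.reflection_mulVec, Matrix.neg_mulVec, Matrix.one_mulVec, Subsingleton.elim l k]
          have h0 : v k ≠ 0 := fun h => hv (by rw [hQs, h, zero_mul, zero_mul])
          have hp : polar Q v (Pi.single k 1) = v k * (2 * Q (Pi.single k 1)) := by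
            conv_lhs => rw [hscal v, polar_smul_left, CfsgLib.PolarVec.polar_self, smul_eq_mul]
          have hQe : Q (Pi.single k 1) ≠ 0 := fun h => hv (by rw [hQs, h, mul_zero])
          ext a
          simp [Subsingleton.elim a k, hp, hQs v]
          field_simp
          ring
        have hRP : RP Q vs = (-1) ^ vs.length := by
          have : ∀ l : List (ι → F), (∀ v ∈ l, Q v ≠ 0) → RP Q l = (-1) ^ l.length := by
            intro l
            induction l with
            | nil => intro _; simp [RP]
            | cons v t ih =>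
              intro h
              have e : RP Q (v :: t) = Cfsg.reflectionMatrix (⇑Q) v * RP Q t := by simp [RP]
              rw [e, hR v (h v List.mem_cons_self), ih fun w hw => h w (List.mem_cons_of_mem _ hw),
                List.length_cons, pow_succ']
          exact this vs hvs
        have hQP : ∀ l : List (ι → F), ∃ s, QP Q l = s * s * Q (Pi.single k 1) ^ l.length := by
          intro l
          induction l with
          | nil => exact ⟨1, by simp [QP]⟩
          | cons v t ih =>
            obtain ⟨s, hs⟩ := ih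
            refine ⟨v k * s, ?_⟩
            have e : QP Q (v :: t) = Q v * QP Q t := by simp [QP]
            rw [e, hs, hQs v, List.length_cons, pow_succ']
            ring
        rw [hbot, Subgroup.mem_bot]
        constructor
        · intro h1
          have he : Even vs.length := by
            by_contra ho
            rw [(Nat.not_even_iff_odd.mp ho).neg_one_pow] at hRP
            rw [h1, hRP] at hg
            have := congrFun (congrFun hg k) k
            simp at this
            exact h2 (by linear_combination this)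
          obtain ⟨s, hs⟩ := hQP vs
          obtain ⟨t, ht⟩ := he
          refine ⟨⟨t, ht⟩, s * Q (Pi.single k 1) ^ t, ?_⟩
          rw [hs, ht, pow_add]; ring
        · rintro ⟨he, -⟩
          refine Subtype.ext (Units.ext ?_)
          rw [hg, hRP, he.neg_one_pow]; rfl

include hc in
theorem list_of_mem (hQ : (polarBilin Q).Nondegenerate) (g : Cfsg.isometryGroup F ⇑Q)
    (h : g ∈ Cfsg.Omega F ⇑Q) :
    ∃ vs : List (ι → F), (∀ v ∈ vs, Q v ≠ 0) ∧ g.1.1 = RP Q vs ∧ Even vs.length ∧ IsSquare (QP Q vs) := by
  obtain ⟨vs, h1, h2⟩ := exists_list Q hc g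
  exact ⟨vs, h1, h2, (omega_iff_list Q hc hQ g vs h1 h2).mp h⟩

end CfsgLib.OmegaList
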