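import Mathlib
import Cfsg.Prelude.Def_Transfer
import Cfsg.Agent.Lib.PGroup.Alperin

/-!
Extraspecial groups of exponent `p`, `p` odd, are determined by their order.
-/

set_option autoImplicit false
set_option linter.unusedSectionVars false

universe u v

namespace CfsgLib.ExtraOdd

open scoped commutatorElement

/-- Centre `⟨z⟩`, exponent `p`, commutators in `⟨z⟩`. -/
structure ExP (p : ℕ) (E : Type u) [Group E] (z : E) : Prop where
  ne : z ≠ 1
  exp : ∀ g : E, g ^ p = 1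
  center_iff : ∀ g : E, g ∈ Subgroup.center E ↔ g ∈ Subgroup.zpowers z
  comm : ∀ a b : E, ⁅a, b⁆ ∈ Subgroup.zpowers z

variable {E : Type u} [Group E] {p : ℕ} [Fact p.Prime] {z : E}

theorem ofExtraspecial [Finite E] (hE : Cfsg.IsExtraspecial p E) (he : Monoid.exponent E = p) : ∃ z : E, ExP p E z := by
  obtain ⟨⟨-, -, hc⟩, hcard⟩ := hE
  have hp := (Fact.out : p.Prime)
  obtain ⟨w, hw⟩ := exists_prime_orderOf_dvd_card' (G := Subgroup.center E) p (by rw [hcard])
  have hw1 : (w : E) ≠ 1 := fun e => by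
    rw [show w = 1 from Subtype.ext e, orderOf_one] at hw
    exact hp.one_lt.ne hw
  have heq : Subgroup.zpowers (w : E) = Subgroup.center E :=
    Subgroup.eq_of_le_of_card_ge (Subgroup.zpowers_le.2 w.2) (by rw [hcard, Nat.card_zpowers, Subgroup.orderOf_coe, hw])
  refine ⟨w, hw1, fun g => by rw [← he]; exact Monoid.pow_exponent_eq_one g, fun g => by rw [heq], fun a b => ?_⟩
  rw [heq, ← hc, commutator_def]
  exact Subgroup.commutator_mem_commutator (Subgroup.mem_top _) (Subgroup.mem_top _)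

namespace ExP

theorem z_comm (h : ExP p E z) {c : E} (hc : c ∈ Subgroup.zpowers z) (g : E) : Commute g c :=
  Subgroup.mem_center_iff.1 ((h.center_iff c).2 hc) g

theorem order_z (h : ExP p E z) : orderOf z = p := orderOf_eq_prime (h.exp z) h.ne

theorem zpow_inj (h : ExP p E z) {i j : ZMod p} (e : z ^ i.val = z ^ j.val) : i = j := by
  haveI : NeZero p := ⟨(Fact.out : p.Prime).ne_zero⟩
  refine ZMod.val_injective p (pow_injOn_Iio_orderOf ?_ ?_ e)
  · rw [Set.mem_Iio, h.order_z]; exact ZMod.val_lt i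
  · rw [Set.mem_Iio, h.order_z]; exact ZMod.val_lt j

theorem exists_pow (h : ExP p E z) {c : E} (hc : c ∈ Subgroup.zpowers z) : ∃ i : ZMod p, c = z ^ i.val := by
  haveI : NeZero p := ⟨(Fact.out : p.Prime).ne_zero⟩
  obtain ⟨k, rfl⟩ := Subgroup.mem_zpowers_iff.1 hc
  refine ⟨(k : ZMod p), ?_⟩
  rw [← zpow_natCast z, ZMod.val_intCast, ← h.order_z, zpow_mod_orderOf]

theorem pow_val_add (h : ExP p E z) (g : E) (i j : ZMod p) : g ^ (i + j).val = g ^ i.val * g ^ j.val := by
  haveI : NeZero p := ⟨(Fact.out : p.Prime).ne_zero⟩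
  rw [ZMod.val_add, ← pow_add]
  conv_rhs => rw [← Nat.mod_add_div (i.val + j.val) p, pow_add, pow_mul, h.exp, one_pow, mul_one]

/-- `g ↦ [g, x]`. -/
def chi (h : ExP p E z) (x : E) : E →* E where
  toFun g := g⁻¹ * x⁻¹ * g * x
  map_one' := by group
  map_mul' := fun g₁ g₂ => by
    have hmem : g₁⁻¹ * x⁻¹ * g₁ * x ∈ Subgroup.zpowers z := by
      have := h.comm g₁⁻¹ x⁻¹
      rwa [commutatorElement_def, inv_inv, inv_inv] at this
    have hc : g₂⁻¹ * (g₁⁻¹ * x⁻¹ * g₁ * x) = (g₁⁻¹ * x⁻¹ * g₁ * x) * g₂⁻¹ := (h.z_comm hmem g₂⁻¹).eq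
    calc (g₁ * g₂)⁻¹ * x⁻¹ * (g₁ * g₂) * x = g₂⁻¹ * (g₁⁻¹ * x⁻¹ * g₁ * x) * (x⁻¹ * g₂ * x) := by group
      _ = _ := by rw [hc]; group

theorem chi_mem (h : ExP p E z) (x g : E) : h.chi x g ∈ Subgroup.zpowers z := by
  have := h.comm g⁻¹ x⁻¹
  rwa [commutatorElement_def, inv_inv, inv_inv] at this

theorem chi_eq (h : ExP p E z) (x g : E) : g * x = x * g * h.chi x g := by
  show g * x = x * g * (g⁻¹ * x⁻¹ * g * x)
  group

theorem chi_eq_one (h : ExP p E z) (x g : E) : h.chi x g = 1 ↔ Commute g x := by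
  show g⁻¹ * x⁻¹ * g * x = 1 ↔ g * x = x * g
  rw [show g⁻¹ * x⁻¹ * g * x = (x * g)⁻¹ * (g * x) by group, inv_mul_eq_one, eq_comm]

end ExP

/-- Coordinates with respect to a hyperbolic pair. -/
theorem exists_coord [Finite E] (h : ExP p E z) (hne : Subgroup.center E ≠ ⊤) :
    ∃ (x y : E) (C : Subgroup E) (hz : z ∈ C), ExP p C ⟨z, hz⟩ ∧ Nat.card E = p ^ 2 * Nat.card C ∧
      y * x = x * y * z ∧ (∀ c ∈ C, Commute c x ∧ Commute c y) ∧
      Function.Bijective (fun t : ZMod p × ZMod p × C => x ^ t.1.val * y ^ t.2.1.val * (t.2.2 : E)) := by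
  haveI : NeZero p := ⟨(Fact.out : p.Prime).ne_zero⟩
  obtain ⟨x, -, hx⟩ := SetLike.exists_of_lt (lt_top_iff_ne_top.2 hne)
  obtain ⟨y₀, hy₀⟩ : ∃ y, h.chi x y ≠ 1 := by
    by_contra hall
    push Not at hall
    exact hx (Subgroup.mem_center_iff.2 fun g => ((h.chi_eq_one x g).1 (hall g)).eq)
  obtain ⟨y, hy⟩ : ∃ y, h.chi x y = z := by
    have hle : (h.chi x).range ≤ Subgroup.zpowers z := by
      rintro _ ⟨g, rfl⟩; exact h.chi_mem x g
    have hd := Subgroup.card_dvd_of_le hle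
    rw [Nat.card_zpowers, h.order_z] at hd
    rcases (Nat.dvd_prime (Fact.out : p.Prime)).1 hd with e | e
    · exact absurd (Subgroup.mem_bot.1 ((Subgroup.eq_bot_of_card_eq _ e).le ⟨y₀, rfl⟩)) hy₀
    · have := Subgroup.eq_of_le_of_card_ge hle (by rw [Nat.card_zpowers, h.order_z, e])
      exact this.ge (Subgroup.mem_zpowers z)
  have hyx : h.chi y x = z⁻¹ := by
    have e1 : y * x = x * y * z := by rw [← hy]; exact h.chi_eq x y
    show x⁻¹ * y⁻¹ * x * y = z⁻¹
    rw [eq_inv_iff_mul_eq_one]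
    calc x⁻¹ * y⁻¹ * x * y * z = x⁻¹ * y⁻¹ * (x * y * z) := by group
      _ = 1 := by rw [← e1]; group
  set C := (h.chi x).ker ⊓ (h.chi y).ker with hC
  have hzC : z ∈ C := Subgroup.mem_inf.2 ⟨(h.chi_eq_one x z).2 ((h.z_comm (Subgroup.mem_zpowers z) x).symm),
    (h.chi_eq_one y z).2 ((h.z_comm (Subgroup.mem_zpowers z) y).symm)⟩
  have hCc : ∀ c ∈ C, Commute c x ∧ Commute c y := fun c hc =>
    ⟨(h.chi_eq_one x c).1 (Subgroup.mem_inf.1 hc).1, (h.chi_eq_one y c).1 (Subgroup.mem_inf.1 hc).2⟩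
  have hxx : h.chi x x = 1 := (h.chi_eq_one x x).2 (Commute.refl x)
  have hyy : h.chi y y = 1 := (h.chi_eq_one y y).2 (Commute.refl y)
  have hval1 : ∀ (i j : ZMod p) (c : E), c ∈ C → h.chi x (x ^ i.val * y ^ j.val * c) = z ^ j.val := by
    intro i j c hc
    rw [map_mul, map_mul, map_pow, map_pow, hxx, hy, (Subgroup.mem_inf.1 hc).1, one_pow, one_mul, mul_one]
  have hval2 : ∀ (i j : ZMod p) (c : E), c ∈ C → h.chi y (x ^ i.val * y ^ j.val * c) = (z ^ i.val)⁻¹ := by
    intro i j c hc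
    rw [map_mul, map_mul, map_pow, map_pow, hyy, hyx, (Subgroup.mem_inf.1 hc).2, one_pow, mul_one, mul_one, inv_pow]
  have hbij : Function.Bijective (fun t : ZMod p × ZMod p × C => x ^ t.1.val * y ^ t.2.1.val * (t.2.2 : E)) := by
    constructor
    · rintro ⟨i, j, c⟩ ⟨i', j', c'⟩ e
      have hj := congrArg (h.chi x) e
      rw [hval1 i j c c.2, hval1 i' j' c' c'.2] at hj
      have hi := congrArg (h.chi y) e
      rw [hval2 i j c c.2, hval2 i' j' c' c'.2] at hi
      obtain rfl := h.zpow_inj hj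
      obtain rfl := h.zpow_inj (inv_injective hi)
      simp only at e
      obtain rfl : c = c' := Subtype.ext (mul_left_cancel e)
      rfl
    · intro g
      obtain ⟨j, hj⟩ := h.exists_pow (h.chi_mem x g)
      obtain ⟨i, hi⟩ := h.exists_pow (inv_mem (h.chi_mem y g))
      have hc : (x ^ i.val * y ^ j.val)⁻¹ * g ∈ C := by
        refine Subgroup.mem_inf.2 ⟨?_, ?_⟩
        · have := hval1 i j 1 (one_mem C)
          rw [mul_one] at this
          rw [MonoidHom.mem_ker, map_mul, map_inv, this, ← hj, inv_mul_cancel]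
        · have := hval2 i j 1 (one_mem C)
          rw [mul_one] at this
          rw [MonoidHom.mem_ker, map_mul, map_inv, this, ← hi, inv_inv, inv_mul_cancel]
      exact ⟨⟨i, j, ⟨_, hc⟩⟩, mul_inv_cancel_left _ _⟩
  refine ⟨x, y, C, hzC, ⟨fun e => h.ne (congrArg Subtype.val e), fun c => Subtype.ext (h.exp c), fun c => ⟨fun hc => ?_, ?_⟩, fun a b => ?_⟩,
    ?_, by rw [← hy]; exact h.chi_eq x y, hCc, hbij⟩
  · have hcc : (c : E) ∈ Subgroup.center E := by
      rw [Subgroup.mem_center_iff]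
      intro g
      obtain ⟨⟨i, j, c'⟩, rfl⟩ := hbij.2 g
      have h1 : Commute (c : E) (c' : E) := (congrArg Subtype.val (Subgroup.mem_center_iff.1 hc c')).symm
      exact ((((hCc c c.2).1.pow_right i.val).mul_right ((hCc c c.2).2.pow_right j.val)).mul_right h1).symm.eq
    obtain ⟨k, hk⟩ := Subgroup.mem_zpowers_iff.1 ((h.center_iff _).1 hcc)
    exact Subgroup.mem_zpowers_iff.2 ⟨k, Subtype.ext (by rw [SubgroupClass.coe_zpow]; exact hk)⟩
  · intro hc
    refine Subgroup.mem_center_iff.2 fun g => Subtype.ext ?_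
    obtain ⟨k, hk⟩ := Subgroup.mem_zpowers_iff.1 hc
    have : (c : E) ∈ Subgroup.zpowers z := Subgroup.mem_zpowers_iff.2 ⟨k, by rw [← hk, SubgroupClass.coe_zpow]⟩
    exact (h.z_comm this g).eq
  · obtain ⟨k, hk⟩ := Subgroup.mem_zpowers_iff.1 (h.comm (a : E) b)
    exact Subgroup.mem_zpowers_iff.2 ⟨k, Subtype.ext (by rw [SubgroupClass.coe_zpow]; simpa [commutatorElement_def] using hk)⟩
  · rw [← Nat.card_congr (Equiv.ofBijective _ hbij), Nat.card_prod, Nat.card_prod, Nat.card_zmod]; ring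

theorem coord_mul (h : ExP p E z) {x y c c' : E} (hyx : y * x = x * y * z)
    (hcx : Commute c x) (hcy : Commute c y) (i i' j j' : ZMod p) :
    x ^ i.val * y ^ j.val * c * (x ^ i'.val * y ^ j'.val * c') =
      x ^ (i + i').val * y ^ (j + j').val * (z ^ (j.val * i'.val) * c * c') := by
  have hz : ∀ g : E, Commute g z := h.z_comm (Subgroup.mem_zpowers z)
  have h1 : ∀ n : ℕ, y * x ^ n = x ^ n * y * z ^ n := by
    intro n
    induction n with
    | zero => simp
    | succ n ih =>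
      calc y * x ^ (n + 1) = (y * x ^ n) * x := by rw [pow_succ, mul_assoc]
        _ = x ^ n * y * (z ^ n * x) := by rw [ih]; group
        _ = x ^ n * (y * x) * z ^ n := by rw [((hz x).pow_right n).symm.eq]; group
        _ = x ^ n * x * y * (z * z ^ n) := by rw [hyx]; group
        _ = x ^ (n + 1) * y * z ^ (n + 1) := by rw [pow_succ x, pow_succ' z]
  have h2 : ∀ m n : ℕ, y ^ m * x ^ n = x ^ n * y ^ m * z ^ (m * n) := by
    intro m n
    induction m with
    | zero => simp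
    | succ m ih =>
      calc y ^ (m + 1) * x ^ n = y * (y ^ m * x ^ n) := by rw [pow_succ', mul_assoc]
        _ = (y * x ^ n) * y ^ m * z ^ (m * n) := by rw [ih]; group
        _ = x ^ n * y * (z ^ n * y ^ m) * z ^ (m * n) := by rw [h1]; group
        _ = x ^ n * y * (y ^ m * z ^ n) * z ^ (m * n) := by rw [(((hz y).pow_left m).pow_right n).eq]
        _ = x ^ n * (y * y ^ m) * (z ^ n * z ^ (m * n)) := by group
        _ = x ^ n * y ^ (m + 1) * z ^ ((m + 1) * n) := by
          rw [pow_succ' y, ← pow_add, Nat.succ_mul, add_comm n]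
  rw [h.pow_val_add x, h.pow_val_add y]
  set w := z ^ (j.val * i'.val) with hw
  calc x ^ i.val * y ^ j.val * c * (x ^ i'.val * y ^ j'.val * c')
      = x ^ i.val * y ^ j.val * (c * (x ^ i'.val * y ^ j'.val)) * c' := by group
    _ = x ^ i.val * (y ^ j.val * x ^ i'.val) * y ^ j'.val * c * c' := by
        rw [((hcx.pow_right i'.val).mul_right (hcy.pow_right j'.val)).eq]; group
    _ = x ^ i.val * x ^ i'.val * y ^ j.val * (w * y ^ j'.val) * c * c' := by rw [h2, ← hw]; group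
    _ = x ^ i.val * x ^ i'.val * y ^ j.val * (y ^ j'.val * w) * c * c' := by
        rw [((hz _).pow_right _).eq.symm]
    _ = _ := by group

theorem iso_of_card : ∀ (N : ℕ) (E : Type u) [Group E] [Finite E] (z : E) (E' : Type v) [Group E'] [Finite E']
    (z' : E'), Nat.card E = N → Nat.card E' = N → ExP p E z → ExP p E' z' → ∃ e : E ≃* E', e z = z' := by
  intro N
  induction N using Nat.strong_induction_on with
  | _ N IH =>
  intro E _ _ z E' _ _ z' hN hN' h h'
  have hp := (Fact.out : p.Prime)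
  haveI : NeZero p := ⟨hp.ne_zero⟩
  by_cases hne : Subgroup.center E = ⊤
  · have hE : Nat.card E = p := by
      have : Subgroup.zpowers z = ⊤ := eq_top_iff.2 fun g _ => (h.center_iff g).1 (hne.ge (Subgroup.mem_top g))
      rw [← Subgroup.card_top, ← this, Nat.card_zpowers, h.order_z]
    have hzz : ∀ {H : Type v} [Group H] [Finite H] {w : H}, orderOf w = p → Nat.card H = p → Subgroup.zpowers w = ⊤ :=
      fun {H} _ _ {w} hw hH => Subgroup.eq_top_of_card_eq _ (by rw [Nat.card_zpowers, hw, hH])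
    have ht' := hzz h'.order_z (by omega)
    have ht : Subgroup.zpowers z = ⊤ := Subgroup.eq_top_of_card_eq _ (by rw [Nat.card_zpowers, h.order_z, hE])
    have hb : ∀ g : E, g ∈ Subgroup.zpowers z := fun g => ht.ge (Subgroup.mem_top g)
    have hb' : ∀ g : E', g ∈ Subgroup.zpowers z' := fun g => ht'.ge (Subgroup.mem_top g)
    exact ⟨mulEquivOfOrderOfEq hb hb' (h.order_z.trans h'.order_z.symm), mulEquivOfOrderOfEq_apply_gen hb hb' _⟩
  · obtain ⟨x, y, C, hz, hC, hcard, hyx, hCc, hbij⟩ := exists_coord h hne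
    have hne' : Subgroup.center E' ≠ ⊤ := by
      intro e
      have : Subgroup.zpowers z' = ⊤ := eq_top_iff.2 fun g _ => (h'.center_iff g).1 (e.ge (Subgroup.mem_top g))
      have hE' : Nat.card E' = p := by rw [← Subgroup.card_top, ← this, Nat.card_zpowers, h'.order_z]
      have h1 : 1 ≤ Nat.card C := Nat.card_pos
      have h2 : p ^ 2 ≤ p ^ 2 * Nat.card C := Nat.le_mul_of_pos_right _ h1
      have h3 : p < p ^ 2 := by have := hp.two_le; nlinarith
      omega
    obtain ⟨x', y', C', hz', hC', hcard', hyx', hCc', hbij'⟩ := exists_coord h' hne'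
    have hCcard : Nat.card C = Nat.card C' :=
      Nat.eq_of_mul_eq_mul_left (pow_pos hp.pos 2) (by omega)
    have hlt : Nat.card C < N := by
      have h1 : 0 < Nat.card C := Nat.card_pos
      have h2 : 1 < p ^ 2 := Nat.one_lt_pow two_ne_zero hp.one_lt
      have h3 : 1 * Nat.card C < p ^ 2 * Nat.card C := Nat.mul_lt_mul_of_pos_right h2 h1
      omega
    obtain ⟨φ, hφ⟩ := IH (Nat.card C) hlt C ⟨z, hz⟩ C' ⟨z', hz'⟩ rfl hCcard.symm hC hC'
    set F : E ≃ E' := (Equiv.ofBijective _ hbij).symm.trans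
      (((Equiv.refl (ZMod p)).prodCongr ((Equiv.refl (ZMod p)).prodCongr φ.toEquiv)).trans (Equiv.ofBijective _ hbij')) with hF
    have hFapp : ∀ i j : ZMod p, ∀ c : C, F (x ^ i.val * y ^ j.val * (c : E)) = x' ^ i.val * y' ^ j.val * (φ c : E') := by
      intro i j c
      have : (Equiv.ofBijective _ hbij).symm (x ^ i.val * y ^ j.val * (c : E)) = (i, j, c) := by
        rw [Equiv.symm_apply_eq]; rfl
      simp only [hF, Equiv.trans_apply, this]
      rfl
    have hmul : ∀ a b, F (a * b) = F a * F b := by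
      intro a b
      obtain ⟨⟨i, j, c⟩, rfl⟩ := hbij.2 a
      obtain ⟨⟨i', j', c'⟩, rfl⟩ := hbij.2 b
      simp only
      rw [coord_mul h hyx (hCc c c.2).1 (hCc c c.2).2 i i' j j', hFapp, hFapp,
        coord_mul h' hyx' (hCc' (φ c) (φ c).2).1 (hCc' (φ c) (φ c).2).2 i i' j j']
      have e : z ^ (j.val * i'.val) * (c : E) * (c' : E) = (((⟨z, hz⟩ : C) ^ (j.val * i'.val) * c * c' : C) : E) := by
        simp
      rw [e, hFapp, map_mul, map_mul, map_pow, hφ]
      simp
    refine ⟨MulEquiv.mk F hmul, ?_⟩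
    have := hFapp 0 0 ⟨z, hz⟩
    simp only [ZMod.val_zero, pow_zero, one_mul, hφ] at this
    exact this

theorem iso_of_exponent {E₁ : Type u} {E₂ : Type v} [Group E₁] [Group E₂] [Finite E₁] [Finite E₂]
    (h₁ : Cfsg.IsExtraspecial p E₁) (h₂ : Cfsg.IsExtraspecial p E₂) (he₁ : Monoid.exponent E₁ = p)
    (he₂ : Monoid.exponent E₂ = p) (hc : Nat.card E₁ = Nat.card E₂) : Nonempty (E₁ ≃* E₂) := by
  obtain ⟨z₁, g₁⟩ := ofExtraspecial h₁ he₁
  obtain ⟨z₂, g₂⟩ := ofExtraspecial h₂ he₂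
  exact (iso_of_card _ E₁ z₁ E₂ z₂ rfl hc.symm g₁ g₂).elim fun e _ => ⟨e⟩

end CfsgLib.ExtraOdd
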