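import Mathlib
import Cfsg.Agent.Lib.ExtraspecialTwo

/-!
An involution normalising a self-centralising extraspecial subgroup and centralising a hyperplane lies in it.
-/

set_option autoImplicit false

namespace CfsgLib.ExtraTwo

open scoped commutatorElement

theorem Ext2.mem_of_index_two {G : Type*} [Group G] [Finite G] {E : Subgroup G} {z' : E} (hx : Ext2 E z')
    (hcent : Subgroup.centralizer (E : Set G) ≤ E) {w : G} (hnorm : ∀ e ∈ E, w * e * w⁻¹ ∈ E)
    (hwz : w * (z' : G) = (z' : G) * w) (hww : w * w = 1)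
    (h2 : ((Subgroup.centralizer ({w} : Set G)).subgroupOf E).index = 2) : w ∈ E := by
  classical
  by_contra hwE
  have hwi : w⁻¹ = w := inv_eq_of_mul_eq_one_right hww
  set Mw : Subgroup E := (Subgroup.centralizer ({w} : Set G)).subgroupOf E with hMw
  have hmemM : ∀ k : E, k ∈ Mw ↔ (k : G) * w = w * k := fun k => by
    rw [hMw, Subgroup.mem_subgroupOf, Subgroup.mem_centralizer_singleton_iff]
  have hcentral : (∀ k : E, k ∈ Mw) → False := fun h => hwE (hcent (Subgroup.mem_centralizer_iff.mpr fun b hb =>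
    (hmemM ⟨b, hb⟩).mp (h _)))
  let σ : E →* E := MonoidHom.mk' (fun k => (⟨w * k * w⁻¹, hnorm k k.2⟩ : E)) fun k l => Subtype.ext (by
    change w * ((k : G) * l) * w⁻¹ = w * k * w⁻¹ * (w * l * w⁻¹); group)
  have hσM : ∀ k : E, σ k = k ↔ k ∈ Mw := fun k => by
    rw [hmemM, ← Subtype.coe_inj]
    change w * (k : G) * w⁻¹ = k ↔ _
    rw [mul_inv_eq_iff_eq_mul, eq_comm]
  have hσσ : ∀ k, σ (σ k) = k := fun k => Subtype.ext (by
    change w * (w * (k : G) * w⁻¹) * w⁻¹ = k
    rw [hwi, ← mul_assoc, ← mul_assoc, hww, one_mul, mul_assoc, hww, mul_one])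
  obtain ⟨e0, he0⟩ : ∃ e0 : E, e0 ∉ Mw := by
    by_contra hall
    push Not at hall
    exact hcentral hall
  have hzM : z' ∈ Mw := by
    rw [hmemM]
    exact hwz.symm
  have hMn : Mw.Normal := Subgroup.normal_of_index_eq_two h2
  set m : E := e0⁻¹ * σ e0 with hm
  have hσe0 : σ e0 = e0 * m := by rw [hm, mul_inv_cancel_left]
  have hmM : m ∈ Mw := by
    refine (Subgroup.mul_mem_iff_of_index_two h2).mpr (iff_of_false (fun h => he0 (inv_mem_iff.mp h)) fun h => ?_)
    have := (hσM _).mpr h
    rw [hσσ] at this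
    exact he0 (this ▸ h)
  have hm2 : m * m = 1 := by
    have := hσσ e0
    rw [hσe0, map_mul, hσe0, (hσM m).mpr hmM, mul_assoc, mul_eq_left] at this
    exact this
  have hmMc : ∀ k ∈ Mw, m * k = k * m := by
    intro k hk
    have h1 := (hσM _).mpr (hMn.conj_mem k hk e0)
    rw [map_mul, map_mul, map_inv, (hσM k).mpr hk, hσe0] at h1
    calc m * k = e0⁻¹ * (e0 * m * k * (e0 * m)⁻¹) * e0 * m := by group
      _ = e0⁻¹ * (e0 * k * e0⁻¹) * e0 * m := by rw [h1]
      _ = k * m := by group
  have hme0 : m * e0 = e0 * m := by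
    have he : e0 * e0 ∈ Mw := by
      rcases hx.sq e0 with h | h <;> rw [h]
      exacts [one_mem _, hzM]
    have h1 := (hσM _).mpr he
    rw [map_mul, hσe0, mul_assoc, mul_right_inj] at h1
    calc m * e0 = m * (e0 * m) * m⁻¹ := by group
      _ = e0 * m := by rw [h1, inv_eq_of_mul_eq_one_right hm2]
  have hmc : m ∈ Subgroup.center E := by
    refine Subgroup.mem_center_iff.mpr fun k => ?_
    by_cases hk : k ∈ Mw
    · exact (hmMc k hk).symm
    · have hk' : e0⁻¹ * k ∈ Mw :=
        (Subgroup.mul_mem_iff_of_index_two h2).mpr (iff_of_false (fun h => he0 (inv_mem_iff.mp h)) hk)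
      have h1 : Commute m (e0 * (e0⁻¹ * k)) := (show Commute m e0 from hme0).mul_right (hmMc _ hk')
      rw [mul_inv_cancel_left] at h1
      exact h1.eq.symm
  rcases (hx.center_iff m).mp hmc with h | h
  · rw [hm, inv_mul_eq_one] at h
    exact he0 ((hσM e0).mp h.symm)
  · -- correct `w` by an element centralising the subgroup of index two
    have hc4 := hx.card_mul_card_centralizer (A := Mw) hzM
    rw [← Mw.card_mul_index, h2, mul_assoc] at hc4
    have hc4' := Nat.eq_of_mul_eq_mul_left Nat.card_pos hc4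
    obtain ⟨u, hu, hu'⟩ : ∃ u ∈ Subgroup.centralizer (Mw : Set E), u ∉ Subgroup.center E := by
      by_contra hall
      push Not at hall
      have := Subgroup.card_le_of_le hall
      rw [hc4', hx.card_center] at this
      omega
    have hue : ⁅u, e0⁆ = z' := (hx.comm_cases u e0).resolve_left fun h' => hu' (by
      refine Subgroup.mem_center_iff.mpr fun k => ?_
      by_cases hk : k ∈ Mw
      · exact Subgroup.mem_centralizer_iff.mp hu k hk
      · have hk' : e0⁻¹ * k ∈ Mw :=
          (Subgroup.mul_mem_iff_of_index_two h2).mpr (iff_of_false (fun h => he0 (inv_mem_iff.mp h)) hk)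
        have h1 : Commute u (e0 * (e0⁻¹ * k)) := (commutatorElement_eq_one_iff_commute.mp h').mul_right
          (Subgroup.mem_centralizer_iff.mp hu _ hk').symm
        rw [mul_inv_cancel_left] at h1
        exact h1.eq.symm)
    refine hwE ?_
    have huw : ∀ k : E, u * σ k * u⁻¹ = k := by
      have hMfix : ∀ k ∈ Mw, u * σ k * u⁻¹ = k := fun k hk => by
        rw [(hσM k).mpr hk, mul_inv_eq_iff_eq_mul]
        exact (Subgroup.mem_centralizer_iff.mp hu k hk).symm
      have he0fix : u * σ e0 * u⁻¹ = e0 := by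
        rw [hσe0, h]
        calc u * (e0 * z') * u⁻¹ = ⁅u, e0⁆ * e0 * (u * z' * u⁻¹) := by rw [commutatorElement_def]; group
          _ = z' * e0 * z' := by rw [hue, (hx.z_comm u).eq, mul_inv_cancel_right]
          _ = e0 := by rw [← (hx.z_comm e0).eq, mul_assoc, hx.zz, mul_one]
      intro k
      by_cases hk : k ∈ Mw
      · exact hMfix k hk
      · have hk' : e0⁻¹ * k ∈ Mw :=
          (Subgroup.mul_mem_iff_of_index_two h2).mpr (iff_of_false (fun h => he0 (inv_mem_iff.mp h)) hk)
        calc u * σ k * u⁻¹ = (u * σ e0 * u⁻¹) * (u * σ (e0⁻¹ * k) * u⁻¹) := by rw [map_mul, map_inv]; group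
          _ = k := by rw [he0fix, hMfix _ hk', mul_inv_cancel_left]
    have h1 : (u : G) * w ∈ Subgroup.centralizer (E : Set G) := by
      refine Subgroup.mem_centralizer_iff.mpr fun b hb => ?_
      have h2 : (u : G) * (w * b * w⁻¹) * (u : G)⁻¹ = b := congrArg Subtype.val (huw ⟨b, hb⟩)
      conv_lhs => rw [← h2]
      group
    have := E.mul_mem (E.inv_mem u.2) (hcent h1)
    rwa [inv_mul_cancel_left] at this

end CfsgLib.ExtraTwo
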