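import Mathlib
import Cfsg.Agent.Lib.ExtraspecialTwo

/-!
Transfer to the centraliser of an involution with large extraspecial core vanishes on the core.
-/

set_option autoImplicit false
set_option linter.unusedSectionVars false

namespace CfsgLib.ExtraTransfer

open CfsgLib.ExtraTwo
open scoped commutatorElement

/-- A subgroup of index two of an extraspecial group of order at least `2 ^ 5` is not abelian. -/
theorem not_comm_of_index_two {E : Type*} [Group E] [Finite E] {z : E} (h : Ext2 E z) (hcard : 2 ^ 5 ≤ Nat.card E)
    {S : Subgroup E} (hS : S.index = 2) : ∃ a ∈ S, ∃ b ∈ S, ⁅a, b⁆ = z := by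
  by_contra hno
  push Not at hno
  have hab : ∀ a ∈ S, ∀ b ∈ S, Commute a b := fun a ha b hb =>
    commutatorElement_eq_one_iff_commute.mp ((h.comm_cases a b).resolve_right (hno a ha b hb))
  obtain ⟨t, ht⟩ := Subgroup.index_eq_two_iff.mp hS
  have htS : t ∉ S := by
    have := ht 1
    rw [one_mul] at this
    rcases this with ⟨-, h2⟩ | ⟨-, h2⟩
    · exact absurd (one_mem S) h2
    · exact h2
  -- the elements of `S` commuting with `t` are central
  have hfin : Nat.card S ≤ 4 := by
    classical
    haveI : Fintype S := Fintype.ofFinite S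
    rw [Nat.card_eq_fintype_card, ← Finset.card_univ]
    refine (Finset.card_le_mul_card_image (f := fun a : S => decide (⁅(a : E), t⁆ = 1)) Finset.univ 2
      fun b _ => ?_).trans (by
        have := Finset.card_le_univ (Finset.univ.image fun a : S => decide (⁅(a : E), t⁆ = 1))
        rw [Fintype.card_bool] at this
        omega)
    by_contra hlt
    push Not at hlt
    -- quotients of two elements with the same commutator with `t` are central
    obtain ⟨a, b', c, ha, hb, hc, hab', hac, hbc⟩ := Finset.two_lt_card_iff.mp hlt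
    simp only [Finset.mem_filter, Finset.mem_univ, true_and] at ha hb hc
    have key : ∀ x y : S, decide (⁅(x : E), t⁆ = 1) = decide (⁅(y : E), t⁆ = 1) → (x : E)⁻¹ * y = 1 ∨ (x : E)⁻¹ * y = z := by
      intro x y hxy
      refine (h.center_iff _).mp (Subgroup.mem_center_iff.mpr fun g => ?_)
      have hmem : (x : E)⁻¹ * y ∈ S := mul_mem (inv_mem x.2) y.2
      have hxy' : ⁅(x : E), t⁆ = ⁅(y : E), t⁆ := by
        rw [decide_eq_decide] at hxy
        rcases h.comm_cases (x : E) t with e1 | e1 <;> rcases h.comm_cases (y : E) t with e2 | e2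
        · rw [e1, e2]
        · exact absurd ((hxy.mp e1).symm.trans e2) (Ne.symm h.ne)
        · exact absurd ((hxy.mpr e2).symm.trans e1) (Ne.symm h.ne)
        · rw [e1, e2]
      have hct : Commute ((x : E)⁻¹ * y) t := by
        have h1 : ((x : E)⁻¹ * y) * t * ((x : E)⁻¹ * y)⁻¹ = t := by
          have h2 : (y : E) * t * (y : E)⁻¹ = (x : E) * t * (x : E)⁻¹ := by
            have := congrArg (· * t) hxy'
            simpa [commutatorElement_def] using this.symm
          calc ((x : E)⁻¹ * y) * t * ((x : E)⁻¹ * y)⁻¹ = (x : E)⁻¹ * ((y : E) * t * (y : E)⁻¹) * x := by group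
            _ = (x : E)⁻¹ * ((x : E) * t * (x : E)⁻¹) * x := by rw [h2]
            _ = t := by group
        exact mul_inv_eq_iff_eq_mul.mp h1
      by_cases hg : g ∈ S
      · exact (hab g hg _ hmem).eq
      · have hgt : g * t ∈ S := by
          rcases ht g with ⟨h1, -⟩ | ⟨h1, -⟩
          · exact h1
          · exact absurd h1 hg
        have h1 : Commute ((x : E)⁻¹ * y) (g * t * t⁻¹) := (hab _ hmem _ hgt).mul_right hct.inv_right
        rw [mul_inv_cancel_right] at h1
        exact h1.eq.symm
    have hz1 := key a b' (ha.trans hb.symm)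
    have hz2 := key a c (ha.trans hc.symm)
    have h1 : (a : E)⁻¹ * b' ≠ 1 := fun e => hab' (Subtype.ext (inv_mul_eq_one.mp e))
    have h2 : (a : E)⁻¹ * c ≠ 1 := fun e => hac (Subtype.ext (inv_mul_eq_one.mp e))
    exact hbc (Subtype.ext (mul_left_cancel ((hz1.resolve_left h1).trans (hz2.resolve_left h2).symm)))
  have := S.card_mul_index
  rw [hS] at this
  norm_num at hcard
  omega

variable {G : Type*} [Group G] [Finite G]

/-- The transfer of a homomorphism to a group of exponent two vanishes on the core only if the homomorphism does. -/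
theorem eq_one_of_transfer {C E : Subgroup G} {A : Type*} [CommGroup A] (hA : ∀ a : A, a * a = 1) (χ : C →* A)
    (htr : ∀ g, MonoidHom.transfer χ g = 1) {z : E} (hx : Ext2 E z) (hcard : 2 ^ 5 ≤ Nat.card E) (hEC : E ≤ C)
    (hbase : ∀ g : G, (∀ e ∈ E, g⁻¹ * e * g ∈ C) → g ∈ C) (e : E) : χ ⟨e, hEC e.2⟩ = 1 := by
  classical
  haveI : Fintype (G ⧸ C) := Fintype.ofFinite _
  let ψ : G ⧸ C → G → A := fun q h => if hm : q.out⁻¹ * h * q.out ∈ C then χ ⟨_, hm⟩ else 1
  have hstab : ∀ (h x : G), h • (x : G ⧸ C) = x ↔ x⁻¹ * h * x ∈ C := fun h x => by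
    rw [show h • (x : G ⧸ C) = ((h * x : G) : G ⧸ C) from rfl, eq_comm, QuotientGroup.eq, mul_assoc]
  have hψ : ∀ (x h : G) (hm : x⁻¹ * h * x ∈ C), ψ (x : G ⧸ C) h = χ ⟨_, hm⟩ := by
    intro x h hm
    obtain ⟨c, hc⟩ : ∃ c : C, ((x : G ⧸ C)).out = x * c := QuotientGroup.mk_out_eq_mul C x
    have e1 : ((x : G ⧸ C)).out⁻¹ * h * ((x : G ⧸ C)).out = (c : G)⁻¹ * (x⁻¹ * h * x) * c := by rw [hc]; group
    have hm' : ((x : G ⧸ C)).out⁻¹ * h * ((x : G ⧸ C)).out ∈ C := by
      rw [e1]; exact mul_mem (mul_mem (inv_mem c.2) hm) c.2
    rw [show ψ (x : G ⧸ C) h = χ ⟨_, hm'⟩ from dif_pos hm',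
      show (⟨_, hm'⟩ : C) = c⁻¹ * ⟨_, hm⟩ * c from Subtype.ext e1, map_mul, map_mul, map_inv, mul_comm (χ c)⁻¹,
      inv_mul_cancel_right]
  have hψmul : ∀ (q : G ⧸ C) (h k : G), h • q = q → k • q = q → ψ q (h * k) = ψ q h * ψ q k := by
    intro q h k hh hk
    obtain ⟨x, rfl⟩ := QuotientGroup.mk_surjective q
    have h1 := (hstab h x).mp hh
    have h2 := (hstab k x).mp hk
    have h3 : x⁻¹ * (h * k) * x ∈ C := by
      rw [show x⁻¹ * (h * k) * x = (x⁻¹ * h * x) * (x⁻¹ * k * x) by group]; exact mul_mem h1 h2
    rw [hψ x _ h1, hψ x _ h2, hψ x _ h3, ← map_mul]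
    congr 1
    exact Subtype.ext (by change x⁻¹ * (h * k) * x = (x⁻¹ * h * x) * (x⁻¹ * k * x); group)
  have hψconj : ∀ (q : G ⧸ C) (g h : G), h • (g • q) = g • q → ψ (g • q) h = ψ q (g⁻¹ * h * g) := by
    intro q g h hh
    obtain ⟨x, rfl⟩ := QuotientGroup.mk_surjective q
    change h • ((g * x : G) : G ⧸ C) = ((g * x : G) : G ⧸ C) at hh
    have h1 := (hstab h _).mp hh
    have h2 : x⁻¹ * (g⁻¹ * h * g) * x ∈ C := by
      rwa [show x⁻¹ * (g⁻¹ * h * g) * x = (g * x)⁻¹ * h * (g * x) by group]
    change ψ ((g * x : G) : G ⧸ C) h = _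
    rw [hψ _ _ h1, hψ x _ h2]
    congr 1
    exact Subtype.ext (by change (g * x)⁻¹ * h * (g * x) = x⁻¹ * (g⁻¹ * h * g) * x; group)
  have hψone : ∀ q : G ⧸ C, ψ q 1 = 1 := fun q => by
    have := hψmul q 1 1 (one_smul G q) (one_smul G q)
    rwa [mul_one, left_eq_mul] at this
  -- notation
  set a : G := (e : G) with ha
  set zz : G := (z : G) with hzz
  have hzc : ∀ h : E, (h : G) * zz = zz * h := fun h => congrArg Subtype.val (hx.z_comm h).eq
  have hz2 : zz * zz = 1 := congrArg Subtype.val hx.zz
  have ha2 : a * a = 1 ∨ a * a = zz := (hx.sq e).imp (congrArg Subtype.val) (congrArg Subtype.val)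
  have ha4 : a ^ 4 = 1 := congrArg Subtype.val (hx.pow_four e)
  -- stabilizers in `E`
  let st : G ⧸ C → Subgroup E := fun q =>
    { carrier := {h | (h : G) • q = q}
      one_mem' := one_smul G q
      mul_mem' := fun {h k} hh hk => by
        change ((h * k : E) : G) • q = q
        rw [Subgroup.coe_mul, mul_smul, show (k : G) • q = q from hk, show (h : G) • q = q from hh]
      inv_mem' := fun {h} hh => by
        change ((h⁻¹ : E) : G) • q = q
        rw [Subgroup.coe_inv, inv_smul_eq_iff, show (h : G) • q = q from hh] }
  have hmem : ∀ q (h : E), h ∈ st q ↔ (h : G) • q = q := fun _ _ => Iff.rfl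
  have hstconj : ∀ (q : G ⧸ C) (g : E), z ∈ st q → st ((g : G) • q) = st q := by
    intro q g hzq
    have hnorm : ∀ (g : E) (q : G ⧸ C), z ∈ st q → ∀ h ∈ st q, h ∈ st ((g : G) • q) := by
      intro g q hzq h hh
      have hk : g⁻¹ * h * g ∈ st q := by
        rcases hx.comm_cases g⁻¹ h with e1 | e1
        · rw [commutatorElement_eq_one_iff_commute] at e1
          rwa [e1.eq, inv_mul_cancel_right]
        · rw [show g⁻¹ * h * g = ⁅g⁻¹, h⁆ * h by rw [commutatorElement_def]; group, e1]
          exact mul_mem hzq hh
      rw [hmem, Subgroup.coe_mul, Subgroup.coe_mul, mul_smul, mul_smul, Subgroup.coe_inv, inv_smul_eq_iff] at hk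
      exact hk
    refine le_antisymm (fun h hh => ?_) (hnorm g q hzq)
    have := hnorm g⁻¹ ((g : G) • q) (hnorm g q hzq z hzq) h hh
    rwa [Subgroup.coe_inv, inv_smul_smul] at this
  -- the element used to pair orbits
  let P : Subgroup E → E → Prop := fun S h =>
    h ∉ S ∧ e⁻¹ * h ∉ S ∧ (e ∈ S → e * h = h * e ∨ ∀ c : E, e * c = c * e → c ∈ S)
  let sel : Subgroup E → E := fun S =>
    if z ∈ S then (if h : ∃ h, P S h then h.choose else 1) else z
  let per : G ⧸ C → ℕ := fun q => Function.minimalPeriod (a • ·) q
  let gv : G ⧸ C → A := fun q => ψ q (a ^ per q)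
  let Ω := Quotient (MulAction.orbitRel (Subgroup.zpowers a) (G ⧸ C))
  haveI : Fintype Ω := Fintype.ofFinite Ω
  have hsum : MonoidHom.transfer χ a = ∏ o : Ω, gv o.out := by
    rw [MonoidHom.transfer_eq_prod_quotient_orbitRel_zpowers_quot χ a]
    exact Finset.prod_congr rfl fun o _ =>
      (show gv o.out = χ ⟨_, QuotientGroup.out_conj_pow_minimalPeriod_mem C a o.out⟩ from dif_pos _).symm
  have hper : ∀ q, a ^ per q • q = q := fun q => by
    have h := Function.isPeriodicPt_minimalPeriod (a • ·) q
    rw [Function.IsPeriodicPt, Function.IsFixedPt, smul_iterate_apply] at h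
    exact h
  have hper4 : ∀ q, per q = 1 ∨ per q = 2 ∨ per q = 4 := fun q => by
    have h : Function.IsPeriodicPt (a • ·) 4 q := by
      rw [Function.IsPeriodicPt, Function.IsFixedPt, smul_iterate_apply, ha4, one_smul]
    obtain ⟨i, hi, hio⟩ := (Nat.dvd_prime_pow Nat.prime_two).mp
      (show per q ∣ 2 ^ 2 from h.minimalPeriod_dvd)
    interval_cases i <;> simp [hio]
  -- translating by an element commuting with `a` up to stabilised elements
  have horb : ∀ (q : G ⧸ C) (i : ℤ), a ^ i • q ∈ MulAction.orbit (Subgroup.zpowers a) q := fun q i =>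
    ⟨⟨a ^ i, Subgroup.zpow_mem _ (Subgroup.mem_zpowers a) i⟩, rfl⟩
  have hsel : ∀ (q : G ⧸ C) (g : E), z ∈ st q → sel (st ((g : G) • q)) = sel (st q) := fun q g h => by
    rw [hstconj q g h]
  have hzsel : ∀ q (g : E), z ∉ st q → z ∉ st ((g : G) • q) := fun q g h h' => h (by
    rw [hmem] at h' ⊢
    rw [smul_smul, ← hzc g, ← smul_smul, smul_left_cancel_iff] at h'
    exact h')
  have hcommz : ∀ (q : G ⧸ C) (g k : E), z ∈ st q → ((g * k : E) : G) • q = ((k * g : E) : G) • q := by
    intro q g k hzq
    rcases hx.comm_cases g k with e1 | e1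
    · rw [(commutatorElement_eq_one_iff_commute.mp e1).eq]
    · rw [show g * k = z * (k * g) by rw [← e1, commutatorElement_def]; group, Subgroup.coe_mul, mul_smul]
      have h2 : z ∈ st (((k * g : E) : G) • q) := by rw [hstconj q (k * g) hzq]; exact hzq
      exact h2
  -- the map on points commutes with `a`
  let mv : G ⧸ C → G ⧸ C := fun q => ((sel (st q) : E) : G) • q
  have hmva : ∀ q, mv (a • q) = a • mv q := by
    intro q
    by_cases hzq : z ∈ st q
    · change ((sel (st (a • q)) : E) : G) • (a • q) = a • (((sel (st q) : E) : G) • q)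
      rw [hsel q e hzq, smul_smul, smul_smul]
      exact hcommz q (sel (st q)) e hzq
    · have h2 := hzsel q e hzq
      change ((sel (st (a • q)) : E) : G) • (a • q) = a • (((sel (st q) : E) : G) • q)
      rw [show sel (st (a • q)) = z from if_neg h2, show sel (st q) = z from if_neg hzq, smul_smul, smul_smul, ← hzc e]
  have hmvz : ∀ (q : G ⧸ C) (i : ℕ), mv (a ^ i • q) = a ^ i • mv q := fun q i => by
    induction i with
    | zero => rw [pow_zero, one_smul, one_smul]
    | succ i ih => rw [pow_succ', mul_smul, hmva, ih, ← mul_smul]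
  let Mv : Ω → Ω := Quotient.map' mv (fun q q' h => by
    rw [MulAction.orbitRel_apply] at h ⊢
    obtain ⟨⟨g, hg⟩, rfl⟩ := h
    obtain ⟨i, -, rfl⟩ := Finset.mem_image.mp (mem_zpowers_iff_mem_range_orderOf.mp hg)
    change mv (a ^ i • q') ∈ _
    rw [hmvz, ← zpow_natCast]
    exact horb _ _)
  have hMv : ∀ q : G ⧸ C, Mv (Quotient.mk'' q) = Quotient.mk'' (mv q) := fun q => rfl
  have hmvmv : ∀ q, mv (mv q) = q := by
    intro q
    by_cases hzq : z ∈ st q
    · change ((sel (st (((sel (st q) : E) : G) • q)) : E) : G) • (((sel (st q) : E) : G) • q) = q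
      rw [hsel q _ hzq, smul_smul, ← Subgroup.coe_mul]
      rcases hx.sq (sel (st q)) with h | h
      · rw [h, Subgroup.coe_one, one_smul]
      · rw [h]; exact hzq
    · have h2 := hzsel q z hzq
      change ((sel (st (((sel (st q) : E) : G) • q)) : E) : G) • (((sel (st q) : E) : G) • q) = q
      rw [show sel (st q) = z from if_neg hzq, show sel (st (zz • q)) = z from if_neg h2, smul_smul, hz2, one_smul]
  -- the value is constant on orbits
  have hperc : ∀ (q : G ⧸ C) (g : G), (∀ j : ℕ, (g * a ^ j) • q = (a ^ j * g) • q) → per (g • q) = per q := by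
    intro q g hg
    refine Function.minimalPeriod_eq_minimalPeriod_iff.mpr fun n => ?_
    rw [Function.IsPeriodicPt, Function.IsFixedPt, Function.IsPeriodicPt, Function.IsFixedPt, smul_iterate_apply,
      smul_iterate_apply, smul_smul, ← hg n, mul_smul]
    exact smul_left_cancel_iff g
  have hgvorb : ∀ (q : G ⧸ C) (i : ℕ), gv (a ^ i • q) = gv q := by
    intro q i
    have hp : per (a ^ i • q) = per q := hperc q _ fun j => by rw [pow_mul_comm]
    change ψ (a ^ i • q) (a ^ per (a ^ i • q)) = ψ q (a ^ per q)
    rw [hp, hψconj q (a ^ i) (a ^ per q) (by rw [smul_smul, pow_mul_comm, mul_smul, hper])]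
    congr 1
    rw [mul_assoc, pow_mul_comm a (per q) i, inv_mul_cancel_left]
  have hgvout : ∀ q : G ⧸ C, gv (Quotient.mk'' q : Ω).out = gv q := by
    intro q
    have h := Quotient.mk_out' (s₁ := MulAction.orbitRel (Subgroup.zpowers a) (G ⧸ C)) q
    rw [MulAction.orbitRel_apply] at h
    obtain ⟨⟨g, hg⟩, hgq⟩ := h
    obtain ⟨i, -, rfl⟩ := Finset.mem_image.mp (mem_zpowers_iff_mem_range_orderOf.mp hg)
    change a ^ i • q = (Quotient.mk'' q : Ω).out at hgq
    rw [← hgq, hgvorb]
  -- the base point
  let q₀ : G ⧸ C := ((1 : G) : G ⧸ C)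
  have hq₀ : ∀ h : E, (h : G) • q₀ = q₀ := fun h => (hstab _ 1).mpr (by rw [inv_one, one_mul, mul_one]; exact hEC h.2)
  have hq₀eq : ∀ q : G ⧸ C, (∀ h : E, (h : G) • q = q) → q = q₀ := by
    intro q hq
    obtain ⟨x, rfl⟩ := QuotientGroup.mk_surjective q
    have hxC : x ∈ C := hbase x fun h hh => (hstab h x).mp (hq ⟨h, hh⟩)
    exact QuotientGroup.eq.mpr (by rw [mul_one]; exact inv_mem hxC)
  let o₀ : Ω := Quotient.mk'' q₀
  -- a non-trivial value away from the base is moved and paired with an equal one
  have key : ∀ q : G ⧸ C, q ≠ q₀ → gv q ≠ 1 →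
      gv (mv q) = gv q ∧ (Quotient.mk'' (mv q) : Ω) ≠ Quotient.mk'' q := by
    intro q hq0 hne
    have hpne : a ^ per q ≠ 1 := fun h => hne (by change ψ q (a ^ per q) = 1; rw [h, hψone])
    by_cases hzq : z ∈ st q
    · -- two-point orbits at most
      have hzq' : zz • q = q := hzq
      have hsqfix : (a * a) • q = q := by
        rcases ha2 with h | h <;> rw [h]
        · exact one_smul G q
        · exact hzq'
      have hψz : (∃ S : Subgroup E, S.index = 2 ∧ S ≤ st q) → ψ q zz = 1 := by
        rintro ⟨S, hS, hSle⟩
        obtain ⟨u, hu, v, hv, huv⟩ := not_comm_of_index_two hx hcard hS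
        have hu' := hSle hu
        have hv' := hSle hv
        have huvz : (u : G) * v = zz * (v * u) := by
          have : u * v = z * (v * u) := by rw [← huv, commutatorElement_def]; group
          exact congrArg Subtype.val this
        have hvu : ((v : G) * u) • q = q := (mul_mem hv' hu' :)
        have e1 := hψmul q u v hu' hv'
        rw [huvz, hψmul q zz (v * u) hzq' hvu, hψmul q v u hv' hu', mul_comm (ψ q u)] at e1
        exact mul_eq_right.mp e1
      by_cases hex : ∃ h, P (st q) h
      · have hsq : sel (st q) = hex.choose := by rw [show sel (st q) = _ from if_pos hzq, dif_pos hex]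
        obtain ⟨hh1, hh2, hh3⟩ := hex.choose_spec
        change gv (((sel (st q) : E) : G) • q) = gv q ∧
          (Quotient.mk'' (((sel (st q) : E) : G) • q) : Ω) ≠ Quotient.mk'' q
        rw [hsq]
        set h := hex.choose
        have hpj : per ((h : G) • q) = per q := hperc q h fun j => by
          have := hcommz q h (e ^ j) hzq
          simpa [ha] using this
        refine ⟨?_, fun heq => ?_⟩
        · change ψ ((h : G) • q) (a ^ per ((h : G) • q)) = ψ q (a ^ per q)
          rw [hpj, hψconj q h (a ^ per q) (by
            have := hper ((h : G) • q)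
            rwa [hpj] at this)]
          rcases hper4 q with hp | hp | hp
          · rw [hp, pow_one]
            have heS : e ∈ st q := by
              have := hper q
              rwa [hp, pow_one] at this
            rcases hx.comm_cases h⁻¹ e with e1 | e1
            · rw [commutatorElement_eq_one_iff_commute] at e1
              have e2 : (h : G)⁻¹ * a = a * (h : G)⁻¹ := congrArg Subtype.val e1.eq
              rw [e2, inv_mul_cancel_right]
            · have e2 : (h : G)⁻¹ * a * h = zz * a := by
                have : h⁻¹ * e * h = z * e := by rw [← e1, commutatorElement_def]; group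
                exact congrArg Subtype.val this
              rw [e2, hψmul q zz a hzq' heS]
              have hno : ¬ e * h = h * e := fun hc => by
                refine hx.ne ?_
                rw [← e1, commutatorElement_eq_one_iff_commute]
                exact (show Commute e h from hc).symm.inv_left
              have hall := (hh3 heS).resolve_left hno
              have hidx : (Subgroup.centralizer ({e} : Set E)).index = 2 := by
                refine Subgroup.index_eq_two_iff.mpr ⟨h, fun b => ?_⟩
                simp only [Subgroup.mem_centralizer_singleton_iff]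
                have hboth : ¬ b * e = e * b → b * h * e = e * (b * h) := by
                  intro hb
                  have h1 : ⁅e, b⁆ = z := (hx.comm_cases e b).resolve_left fun h' =>
                    hb (commutatorElement_eq_one_iff_commute.mp h').symm.eq
                  have h2 : ⁅e, h⁆ = z := (hx.comm_cases e h).resolve_left fun h' =>
                    hno (commutatorElement_eq_one_iff_commute.mp h').eq
                  have h3 : e * (b * h) = z * z * (b * h * e) := by
                    calc e * (b * h) = ⁅e, b⁆ * b * (⁅e, h⁆ * h) * e := by simp only [commutatorElement_def]; group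
                      _ = z * b * (z * h) * e := by rw [h1, h2]
                      _ = z * z * (b * h * e) := by
                        rw [show z * b * (z * h) = z * (b * z) * h by group, (hx.z_comm b).eq]; group
                  rw [hx.zz, one_mul] at h3
                  exact h3.symm
                by_cases hb : b * e = e * b
                · refine Or.inr ⟨hb, fun h' => hno ?_⟩
                  have h4 : e * (b * h) = b * (e * h) := by rw [← mul_assoc, ← hb, mul_assoc]
                  rw [h4, mul_assoc] at h'
                  exact (mul_left_cancel h').symm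
                · exact Or.inl ⟨hboth hb, hb⟩
              rw [hψz ⟨_, hidx, fun c hc => hall c (Subgroup.mem_centralizer_singleton_iff.mp hc).symm⟩, one_mul]
          · rw [hp, pow_two]
            rcases ha2 with h' | h'
            · rw [h']; congr 1; group
            · rw [h', mul_assoc, ← hzc h, inv_mul_cancel_left]
          · exact absurd (hp ▸ ha4) hpne
        · have := Quotient.eq''.mp heq
          rw [MulAction.orbitRel_apply] at this
          obtain ⟨⟨g, hg⟩, hgq⟩ := this
          obtain ⟨i, -, rfl⟩ := Finset.mem_image.mp (mem_zpowers_iff_mem_range_orderOf.mp hg)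
          change a ^ i • q = (h : G) • q at hgq
          have hpow : a ^ i • q = q ∨ a ^ i • q = a • q := by
            obtain ⟨t, rfl | rfl⟩ := Nat.even_or_odd' i
            · left
              clear hgq hg
              induction t with
              | zero => rw [mul_zero, pow_zero, one_smul]
              | succ t ih => rw [mul_add, pow_add, mul_smul, mul_one, pow_two, hsqfix, ih]
            · right
              clear hgq hg
              induction t with
              | zero => rw [mul_zero, zero_add, pow_one]
              | succ t ih => rw [show 2 * (t + 1) + 1 = (2 * t + 1) + 2 by ring, pow_add, mul_smul, pow_two, hsqfix, ih]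
          rcases hpow with h' | h'
          · exact hh1 (h' ▸ hgq).symm
          · refine hh2 ?_
            rw [hmem, Subgroup.coe_mul, Subgroup.coe_inv, mul_smul, inv_smul_eq_iff]
            exact (h' ▸ hgq).symm
      · exfalso
        have heS : e ∉ st q := by
          intro heS
          refine hex ?_
          by_cases hall : ∀ c : E, e * c = c * e → c ∈ st q
          · obtain ⟨h, hh⟩ : ∃ h : E, h ∉ st q := by
              by_contra hno
              push Not at hno
              exact hq0 (hq₀eq q fun h => hno h)
            exact ⟨h, hh, fun h' => hh (by simpa using mul_mem heS h'), fun _ => Or.inr hall⟩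
          · push Not at hall
            obtain ⟨c, hc1, hc2⟩ := hall
            exact ⟨c, hc2, fun h' => hc2 (by simpa using mul_mem heS h'), fun _ => Or.inl hc1⟩
        have hidx : (st q).index = 2 := by
          refine Subgroup.index_eq_two_iff'.mpr ⟨e⁻¹, fun b => ?_⟩
          by_cases hb : b ∈ st q
          · exact Or.inr ⟨hb, fun h' => heS (inv_mem_iff.mp ((Subgroup.mul_mem_cancel_right _ hb).mp h'))⟩
          · refine Or.inl ⟨by_contra fun h' => hex ⟨b, hb, h', fun h'' => absurd h'' heS⟩, hb⟩
        have hz1 := hψz ⟨_, hidx, le_rfl⟩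
        rcases hper4 q with hp | hp | hp
        · exact heS (by have := hper q; rwa [hp, pow_one] at this)
        · refine hne ?_
          change ψ q (a ^ per q) = 1
          rw [hp, pow_two]
          rcases ha2 with h' | h' <;> rw [h']
          exacts [hψone q, hz1]
        · exact hpne (hp ▸ ha4)
    · -- the central involution pairs fixed points
      change gv (((sel (st q) : E) : G) • q) = gv q ∧
        (Quotient.mk'' (((sel (st q) : E) : G) • q) : Ω) ≠ Quotient.mk'' q
      rw [show sel (st q) = z from if_neg hzq]
      have hzq' : zz • q ≠ q := hzq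
      have hfix : a • q = q := by
        rcases hper4 q with hp | hp | hp
        · have := hper q; rwa [hp, pow_one] at this
        · rcases ha2 with h' | h'
          · exact absurd (by rw [hp, pow_two, h']) hpne
          · exact absurd (by have := hper q; rwa [hp, pow_two, h'] at this) hzq'
        · exact absurd (hp ▸ ha4) hpne
      have hpz : per (zz • q) = per q := hperc q zz fun j => by
        have e2 : ((e ^ j : E) : G) * zz = zz * ((e ^ j : E) : G) := hzc (e ^ j)
        rw [Subgroup.coe_pow] at e2
        rw [← e2]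
      refine ⟨?_, fun heq => ?_⟩
      · change ψ (zz • q) (a ^ per (zz • q)) = ψ q (a ^ per q)
        rw [hpz, hψconj q zz _ (by have := hper (zz • q); rwa [hpz] at this)]
        congr 1
        have e2 : ((e ^ per q : E) : G) * zz = zz * ((e ^ per q : E) : G) := hzc (e ^ per q)
        rw [Subgroup.coe_pow] at e2
        rw [mul_assoc, e2, inv_mul_cancel_left]
      · have := Quotient.eq''.mp heq
        rw [MulAction.orbitRel_apply] at this
        obtain ⟨⟨g, hg⟩, hgq⟩ := this
        obtain ⟨i, -, rfl⟩ := Finset.mem_image.mp (mem_zpowers_iff_mem_range_orderOf.mp hg)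
        change a ^ i • q = zz • q at hgq
        refine hzq' (hgq.symm.trans ?_)
        clear hgq hg
        induction i with
        | zero => rw [pow_zero, one_smul]
        | succ i ih => rw [pow_succ, mul_smul, hfix, ih]
  have hprod : ∏ o ∈ Finset.univ.erase o₀, gv o.out = 1 := by
    refine Finset.prod_involution (fun o _ => Mv o) (fun o ho => ?_) (fun o ho hne => ?_) (fun o ho => ?_) fun o ho => ?_
    all_goals induction o using Quotient.inductionOn' with
    | h q => ?_
    · have hq : q ≠ q₀ := fun h' => (Finset.mem_erase.mp ho).1 (by rw [h'])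
      rw [hMv, hgvout, hgvout]
      by_cases h1 : gv q = 1
      · by_cases h2 : gv (mv q) = 1
        · rw [h1, h2, one_mul]
        · have hq' : mv q ≠ q₀ := fun h' => hq (by
            have := hmvmv q
            rw [h'] at this
            rw [← this]
            exact hq₀ _)
          have := (key (mv q) hq' h2).1
          rw [hmvmv, h1] at this
          exact absurd this.symm h2
      · rw [(key q hq h1).1, hA]
    · rw [hgvout] at hne
      exact (key q (fun h' => (Finset.mem_erase.mp ho).1 (by rw [h'])) hne).2
    · refine Finset.mem_erase.mpr ⟨fun h' => (Finset.mem_erase.mp ho).1 ?_, Finset.mem_univ _⟩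
      rw [hMv] at h'
      have h2 := congrArg Mv h'
      rw [hMv, hmvmv, hMv, show mv q₀ = q₀ from hq₀ _] at h2
      exact h2
    · rw [hMv, hMv, hmvmv]
  have htot := htr a
  rw [hsum, ← Finset.mul_prod_erase Finset.univ (fun o : Ω => gv o.out) (Finset.mem_univ o₀), hprod, mul_one,
    hgvout] at htot
  have hp1 : per q₀ = 1 := Function.minimalPeriod_eq_one_iff_isFixedPt.mpr (hq₀ e)
  have hm : (1 : G)⁻¹ * a * 1 ∈ C := by rw [inv_one, one_mul, mul_one]; exact hEC e.2
  change ψ q₀ (a ^ per q₀) = 1 at htot
  rw [hp1, pow_one, hψ 1 a hm] at htot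
  simpa only [inv_one, one_mul, mul_one] using htot

end CfsgLib.ExtraTransfer
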