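import Mathlib
import Cfsg.Agent.Lib.TransferOrbit

/-!
In a `2`-group with a normal extraspecial subgroup the transfer cocycle vanishes on small orbits' complements.
-/

set_option autoImplicit false
set_option linter.unusedSectionVars false

namespace CfsgLib.ExtraTransfer

open CfsgLib.TransferOrbit

variable {P X A : Type*} [Group P] [Finite P] [MulAction P X] [CommGroup A] {c : P → X → A}

/-- A normal subgroup of a nilpotent group not inside `N` has an element outside `N` central modulo `N`. -/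
theorem exists_fixed (hP : Group.IsNilpotent P) (E : Subgroup P) [hE : E.Normal] {N : Subgroup P} (hN : ¬ E ≤ N) :
    ∃ h ∈ E, h ∉ N ∧ ∀ s : P, s⁻¹ * h⁻¹ * s * h ∈ E ⊓ N := by
  classical
  obtain ⟨n, hn⟩ := Subgroup.nilpotent_iff_lowerCentralSeries.mp hP
  have hex : ∃ k, E ⊓ Subgroup.lowerCentralSeries (⊤ : Subgroup P) k ≤ N :=
    ⟨n, by rw [hn, inf_bot_eq]; exact bot_le⟩
  have h0 : Nat.find hex ≠ 0 := fun h => hN (by
    have := Nat.find_spec hex
    rw [h] at this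
    exact le_trans (le_inf le_rfl le_top) this)
  obtain ⟨k, hk⟩ := Nat.exists_eq_succ_of_ne_zero h0
  obtain ⟨h, hh, hhN⟩ := SetLike.not_le_iff_exists.mp (Nat.find_min hex (show k < Nat.find hex by omega))
  refine ⟨h, hh.1, hhN, fun s => ?_⟩
  have hE' : s⁻¹ * h⁻¹ * s * h ∈ E := by
    have := hE.conj_mem h⁻¹ (inv_mem hh.1) s⁻¹
    rw [inv_inv] at this
    exact mul_mem this hh.1
  refine ⟨hE', Nat.find_spec hex ⟨hE', ?_⟩⟩
  rw [hk, Subgroup.lowerCentralSeries_succ, Subgroup.commutator_comm]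
  have := Subgroup.commutator_mem_commutator (H₁ := (⊤ : Subgroup P)) (Subgroup.mem_top s⁻¹) (inv_mem hh.2)
  simpa [commutatorElement_def] using this

variable (hc : ∀ g h x, c (g * h) x = c g (h • x) * c h x)
include hc

/-- Adjoining an element normalising the stabiliser of a block and squaring into it. -/
theorem step {S : Subgroup P} (q : X) (hst : ∀ g : P, g • q = q → g ∈ S) {h : P} (hh : h ∉ S)
    (hn : ∀ s ∈ S, h⁻¹ * s * h ∈ S) (h2 : h * h ∈ S) :
    ∃ S' : Subgroup P, (∀ x, x ∈ S' ↔ x ∈ S ∨ h⁻¹ * x ∈ S) ∧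
      (∀ s ∈ S, ∏ x ∈ orb S' q, c s x = (∏ x ∈ orb S q, c s x) * ∏ x ∈ orb S q, c (h⁻¹ * s * h) x) ∧
      ∏ x ∈ orb S' q, c h x = ∏ x ∈ orb S q, c (h * h) x := by
  classical
  have hn' : ∀ s ∈ S, h * s * h⁻¹ ∈ S := fun s hs => by
    have h1 := hn _ (mul_mem (mul_mem h2 hs) (inv_mem h2))
    rwa [show h⁻¹ * (h * h * s * (h * h)⁻¹) * h = h * s * h⁻¹ by group] at h1
  let S' : Subgroup P :=
    { carrier := {x | x ∈ S ∨ h⁻¹ * x ∈ S}
      one_mem' := Or.inl (one_mem S)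
      mul_mem' := fun {a b} ha hb => by
        rcases ha with ha | ha <;> rcases hb with hb | hb
        · exact Or.inl (mul_mem ha hb)
        · refine Or.inr ?_
          have := mul_mem (hn a ha) hb
          rwa [show h⁻¹ * a * h * (h⁻¹ * b) = h⁻¹ * (a * b) by group] at this
        · refine Or.inr ?_
          have := mul_mem ha hb
          rwa [mul_assoc] at this
        · refine Or.inl ?_
          have := mul_mem (mul_mem h2 (hn _ ha)) hb
          rwa [show h * h * (h⁻¹ * (h⁻¹ * a) * h) * (h⁻¹ * b) = a * b by group] at this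
      inv_mem' := fun {a} ha => by
        rcases ha with ha | ha
        · exact Or.inl (inv_mem ha)
        · refine Or.inr ?_
          have := mul_mem (inv_mem h2) (hn' _ (inv_mem ha))
          rwa [show (h * h)⁻¹ * (h * (h⁻¹ * a)⁻¹ * h⁻¹) = h⁻¹ * a⁻¹ by group] at this }
  have hS' : ∀ x, x ∈ S' ↔ x ∈ S ∨ h⁻¹ * x ∈ S := fun _ => Iff.rfl
  have hsplit : orb S' q = orb S q ∪ (orb S q).image (fun x => h • x) := by
    ext x
    simp only [Finset.mem_union, Finset.mem_image, mem_orb, hS']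
    constructor
    · rintro ⟨g, hg | hg, rfl⟩
      · exact Or.inl ⟨g, hg, rfl⟩
      · exact Or.inr ⟨(h⁻¹ * g) • q, ⟨_, hg, rfl⟩, by rw [← mul_smul, mul_inv_cancel_left]⟩
    · rintro (⟨g, hg, rfl⟩ | ⟨y, ⟨g, hg, rfl⟩, rfl⟩)
      · exact ⟨g, Or.inl hg, rfl⟩
      · exact ⟨h * g, Or.inr (by rwa [inv_mul_cancel_left]), mul_smul h g q⟩
  have hdisj : Disjoint (orb S q) ((orb S q).image fun x => h • x) := by
    rw [Finset.disjoint_left]
    intro x hx hy
    obtain ⟨s, hs, rfl⟩ := mem_orb.mp hx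
    obtain ⟨y, hy, e⟩ := Finset.mem_image.mp hy
    obtain ⟨t, ht, rfl⟩ := mem_orb.mp hy
    refine hh ?_
    have hf := hst (s⁻¹ * (h * t)) (by rw [mul_smul, mul_smul, e, inv_smul_smul])
    have h' := mul_mem (mul_mem hs hf) (inv_mem ht)
    rwa [show s * (s⁻¹ * (h * t)) * t⁻¹ = h by group] at h'
  have hval : ∀ g : P, ∏ x ∈ orb S' q, c g x = (∏ x ∈ orb S q, c g x) * ∏ x ∈ orb S q, c g (h • x) := fun g => by
    rw [hsplit, Finset.prod_union hdisj, Finset.prod_image fun x _ y _ e => smul_left_cancel h e]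
  refine ⟨S', hS', fun s hs => ?_, ?_⟩
  · rw [hval]
    congr 1
    have e1 : ∀ x, c s (h • x) * c h x = c h ((h⁻¹ * s * h) • x) * c (h⁻¹ * s * h) x := fun x => by
      rw [← hc, ← hc]
      congr 1
      group
    have e2 := Finset.prod_congr rfl fun x (_ : x ∈ orb S q) => e1 x
    rw [Finset.prod_mul_distrib, Finset.prod_mul_distrib] at e2
    have e3 : ∏ x ∈ orb S q, c h ((h⁻¹ * s * h) • x) = ∏ x ∈ orb S q, c h x :=
      Finset.prod_nbij' (fun x => (h⁻¹ * s * h) • x) (fun x => (h⁻¹ * s * h)⁻¹ • x)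
        (fun x hx => smul_mem_orb (hn s hs) hx) (fun x hx => smul_mem_orb (inv_mem (hn s hs)) hx)
        (fun x _ => inv_smul_smul _ x) (fun x _ => smul_inv_smul _ x) fun x _ => rfl
    rw [e3, mul_comm _ (∏ x ∈ orb S q, c (h⁻¹ * s * h) x)] at e2
    exact mul_right_cancel e2
  · rw [hval, ← Finset.prod_mul_distrib]
    exact Finset.prod_congr rfl fun x _ => by rw [hc, mul_comm]

/-- Orbits with small stabiliser in the extraspecial subgroup contribute nothing. -/
theorem orbit_eq_one (hP : Group.IsNilpotent P) (hA : ∀ a : A, a * a = 1) (E : Subgroup P) [hE : E.Normal] {z : P}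
    (hzE : z ∈ E) (hzc : ∀ g : P, g * z = z * g) (hz2 : z * z = 1) (hsq : ∀ e ∈ E, e * e = 1 ∨ e * e = z)
    (hcom : ∀ a ∈ E, ∀ b ∈ E, b⁻¹ * a⁻¹ * b * a = 1 ∨ b⁻¹ * a⁻¹ * b * a = z) (q : X)
    (hcase : z • q ≠ q ∨ ∀ M : Subgroup P, (∀ x, x ∈ M ↔ x ∈ E ∧ x • q = q) →
      (8 * Nat.card M ≤ Nat.card E ∨ (4 * Nat.card M ≤ Nat.card E ∧ c z q = 1)) ∨
        (2 * Nat.card M ≤ Nat.card E ∧ ∀ m ∈ M, c m q = 1)) (g : P) :
    ∏ x ∈ orb (⊤ : Subgroup P) q, c g x = 1 := by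
  classical
  let D : Subgroup P := MulAction.stabilizer P q
  have hstD : ∀ g : P, g • q = q → g ∈ D := fun g hg => hg
  have hD1 : orb D q = {q} := by
    ext x
    rw [mem_orb, Finset.mem_singleton]
    exact ⟨fun ⟨g, hg, e⟩ => e ▸ hg, fun e => ⟨1, one_mem D, by rw [e, one_smul]⟩⟩
  have hT0 : ∀ g : P, ∏ x ∈ orb D q, c g x = c g q := fun g => by rw [hD1, Finset.prod_singleton]
  -- the product on a block is a homomorphism
  have hhom : ∀ (S : Subgroup P) (a b : P), b ∈ S →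
      ∏ x ∈ orb S q, c (a * b) x = (∏ x ∈ orb S q, c a x) * ∏ x ∈ orb S q, c b x :=
    fun S a b hb => prod_mul hc q hb
  -- values after one step
  have adv : ∀ (S : Subgroup P), D ≤ S → z ∈ S → ¬ E ≤ S →
      ∃ S' : Subgroup P, S ≤ S' ∧ Nat.card (E ⊓ S' : Subgroup P) ≤ 2 * Nat.card (E ⊓ S : Subgroup P) ∧
      ∃ h : P, h ∈ E ∧ h ∈ S' ∧ (∀ x ∈ S', x ∈ S ∨ h⁻¹ * x ∈ S) ∧
        (∀ s ∈ S, s⁻¹ * h⁻¹ * s * h ∈ E ⊓ S ∧
          ∏ x ∈ orb S' q, c s x = ∏ x ∈ orb S q, c (s⁻¹ * h⁻¹ * s * h) x) ∧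
        ∏ x ∈ orb S' q, c h x = ∏ x ∈ orb S q, c (h * h) x := by
    intro S hDS hzS hES
    obtain ⟨h, hhE, hhS, hfix⟩ := exists_fixed hP E hES
    have hn : ∀ s ∈ S, h⁻¹ * s * h ∈ S := fun s hs => by
      have h1 := mul_mem hs (hfix s).2
      rwa [show s * (s⁻¹ * h⁻¹ * s * h) = h⁻¹ * s * h by group] at h1
    have h2 : h * h ∈ S := by
      rcases hsq h hhE with e | e <;> rw [e]
      exacts [one_mem S, hzS]
    obtain ⟨S', hmem, hv1, hv2⟩ := step hc q (fun g hg => hDS (hstD g hg)) hhS hn h2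
    refine ⟨S', fun x hx => (hmem x).mpr (Or.inl hx), ?_, h, hhE, (hmem h).mpr (Or.inr (by rw [inv_mul_cancel]; exact one_mem S)),
      fun x hx => (hmem x).mp hx, fun s hs => ?_, hv2⟩
    · haveI : Fintype (E ⊓ S' : Subgroup P) := Fintype.ofFinite _
      haveI : Fintype (E ⊓ S : Subgroup P) := Fintype.ofFinite _
      rw [Nat.card_eq_fintype_card, Nat.card_eq_fintype_card, ← Fintype.card_bool, ← Fintype.card_prod]
      refine Fintype.card_le_of_injective (fun x =>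
        if hx : (x : P) ∈ S then (true, (⟨x, x.2.1, hx⟩ : (E ⊓ S : Subgroup P)))
        else (false, (⟨h⁻¹ * x, E.mul_mem (E.inv_mem hhE) x.2.1, ((hmem _).mp x.2.2).resolve_left hx⟩ : (E ⊓ S : Subgroup P)))) fun x y e => ?_
      dsimp only at e
      by_cases hx : (x : P) ∈ S <;> by_cases hy : (y : P) ∈ S <;> simp [hx, hy] at e
      · exact Subtype.ext (Subtype.ext_iff.mp e :)
      · exact Subtype.ext (mul_left_cancel (Subtype.ext_iff.mp e :))
    · refine ⟨hfix s, ?_⟩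
      rw [hv1 s hs, show h⁻¹ * s * h = s * (s⁻¹ * h⁻¹ * s * h) by group, hhom S s _ (hfix s).2, ← mul_assoc, hA,
        one_mul]
  have htriv : ∀ (S : Subgroup P), ∏ x ∈ orb S q, c 1 x = 1 := fun S => Finset.prod_eq_one fun x _ => c_one hc x
  by_cases hzq : z • q = q
  · have hzD : z ∈ D := hzq
    let M : Subgroup P := E ⊓ D
    have hM := (hcase.resolve_left (not_not.mpr hzq)) M fun x => Iff.rfl
    have hMpos : 0 < Nat.card M := Nat.card_pos
    have hES0 : ¬ E ≤ D := fun hle => by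
      have : M = E := inf_eq_left.mpr hle
      rw [this] at hM hMpos
      omega
    obtain ⟨S1, hDS1, hc1, h1, h1E, h1S, hmem1, hv1, hw1⟩ := adv D le_rfl hzD hES0
    have hzS1 : z ∈ S1 := hDS1 hzD
    -- the central involution is killed by the first step
    have hT1z : ∏ x ∈ orb S1 q, c z x = 1 := by
      rw [(hv1 z hzD).2, show z⁻¹ * h1⁻¹ * z * h1 = 1 by rw [mul_assoc z⁻¹, hzc h1⁻¹]; group]
      exact htriv D
    -- a further step kills a subgroup on which the previous one kills the commutators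
    have kill : ∀ (S S' : Subgroup P) (h : P), h ∈ E → h ∈ S' → (∀ x ∈ S', x ∈ S ∨ h⁻¹ * x ∈ S) →
        (∀ s ∈ S, s⁻¹ * h⁻¹ * s * h ∈ E ⊓ S ∧ ∏ x ∈ orb S' q, c s x = ∏ x ∈ orb S q, c (s⁻¹ * h⁻¹ * s * h) x) →
        ∏ x ∈ orb S' q, c h x = ∏ x ∈ orb S q, c (h * h) x → z ∈ S → ∏ x ∈ orb S q, c z x = 1 →
        (∀ x ∈ E ⊓ S', ∏ y ∈ orb S' q, c x y = 1) ∧
          ((∀ x ∈ E ⊓ S, ∏ y ∈ orb S q, c x y = 1) → ∀ x ∈ S', ∏ y ∈ orb S' q, c x y = 1) := by
      intro S S' h hhE hhS' hmem hv hw hzS hz1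
      have hh : ∏ x ∈ orb S' q, c h x = 1 := by
        rw [hw]
        rcases hsq h hhE with e | e <;> rw [e]
        exacts [htriv S, hz1]
      have hle : ∀ s ∈ S, s ∈ S' → ∀ t : P, ∏ y ∈ orb S' q, c (t * s) y =
          (∏ y ∈ orb S' q, c t y) * ∏ y ∈ orb S' q, c s y := fun s _ hs t => hhom S' t s hs
      refine ⟨fun x hx => ?_, fun hall x hx => ?_⟩
      · have hES : ∀ s ∈ E, s ∈ S → ∏ y ∈ orb S' q, c s y = 1 := fun s hsE hsS => by
          rw [(hv s hsS).2]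
          rcases hcom h hhE s hsE with e | e <;> rw [e]
          exacts [htriv S, hz1]
        rcases hmem x hx.2 with h' | h'
        · exact hES x hx.1 h'
        · have e := hle (h⁻¹ * x) h' (mul_mem (inv_mem hhS') hx.2) h
          rwa [mul_inv_cancel_left, hh, one_mul, hES _ (mul_mem (inv_mem hhE) hx.1) h'] at e
      · have hS : ∀ s ∈ S, ∏ y ∈ orb S' q, c s y = 1 := fun s hs => by
          rw [(hv s hs).2]; exact hall _ (hv s hs).1
        rcases hmem x hx with h' | h'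
        · exact hS x h'
        · have e := hle (h⁻¹ * x) h' (mul_mem (inv_mem hhS') hx) h
          rwa [mul_inv_cancel_left, hh, one_mul, hS _ h'] at e
    rcases hM with hM | ⟨-, hMk⟩
    swap
    · -- one step
      have k1 := kill D S1 h1 h1E h1S hmem1 hv1 hw1 hzD (by rw [hT0]; exact hMk z ⟨hzE, hzD⟩)
      exact prod_orbit_eq_one hc q (fun g hg => hDS1 (hstD g hg))
        (k1.2 fun x hx => by rw [hT0]; exact hMk x hx) g
    have hES1 : ¬ E ≤ S1 := fun hle => by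
      rw [inf_eq_left.mpr hle] at hc1
      change Nat.card E ≤ 2 * Nat.card M at hc1
      omega
    obtain ⟨S2, hS12, hc2, h2, h2E, h2S, hmem2, hv2, hw2⟩ := adv S1 hDS1 hzS1 hES1
    have k2 := kill S1 S2 h2 h2E h2S hmem2 hv2 hw2 hzS1 hT1z
    change Nat.card (E ⊓ S1 : Subgroup P) ≤ 2 * Nat.card M at hc1
    rcases hM with h8 | ⟨h4, hcz⟩
    · -- three steps
      have hzS2 : z ∈ S2 := hS12 hzS1
      have hES2 : ¬ E ≤ S2 := fun hle => by
        rw [inf_eq_left.mpr hle] at hc2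
        omega
      obtain ⟨S3, hS23, -, h3, h3E, h3S, hmem3, hv3, hw3⟩ := adv S2 (hDS1.trans hS12) hzS2 hES2
      have k3 := kill S2 S3 h3 h3E h3S hmem3 hv3 hw3 hzS2 (k2.1 z ⟨hzE, hzS2⟩)
      exact prod_orbit_eq_one hc q (fun g hg => hS23 (hS12 (hDS1 (hstD g hg)))) (k3.2 k2.1) g
    · -- two steps
      have k1 := kill D S1 h1 h1E h1S hmem1 hv1 hw1 hzD (by rw [hT0]; exact hcz)
      exact prod_orbit_eq_one hc q (fun g hg => hS12 (hDS1 (hstD g hg))) (k2.2 k1.1) g
  · -- the central involution moves the point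
    have hn : ∀ s ∈ D, z⁻¹ * s * z ∈ D := fun s hs => by rwa [mul_assoc, hzc s, inv_mul_cancel_left]
    have hzD : z ∉ D := hzq
    obtain ⟨S', hmem, hv, hw⟩ := step hc q hstD hzD hn (by rw [hz2]; exact one_mem D)
    refine prod_orbit_eq_one hc q (fun g hg => (hmem g).mpr (Or.inl hg)) (fun x hx => ?_) g
    have hD : ∀ s ∈ D, ∏ y ∈ orb S' q, c s y = 1 := fun s hs => by
      rw [hv s hs, mul_assoc z⁻¹, hzc s, inv_mul_cancel_left, hA]
    have hzv : ∏ y ∈ orb S' q, c z y = 1 := by rw [hw, hz2]; exact htriv D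
    rcases (hmem x).mp hx with h' | h'
    · exact hD x h'
    · have e := hhom S' z (z⁻¹ * x) ((hmem _).mpr (Or.inl h'))
      rwa [mul_inv_cancel_left, hzv, one_mul, hD _ h'] at e

end CfsgLib.ExtraTransfer
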