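import Cfsg.Prelude.Def_GeometricClasses

/-!
Eigenspace bounds for elements of prime order normalizing an absolutely irreducible extraspecial
group.

For `u = [g, y]` one has `E ∩ yE ≤ Fix u`.  This gives `n(1+1/r)/2` in general and `n/2` when `u` can
be chosen without fixed points.  When `g` has order `r` there is `v` with `u = [g, v]` fixed by `g`,
and `g` is then quadratic or a shift on the eigenspaces of `u`, giving `2n/r`.
-/

set_option autoImplicit false
set_option maxHeartbeats 800000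

open scoped commutatorElement
open Matrix Module

namespace CfsgLib.ExtraEigen

variable {F : Type*} [Field F] {n : ℕ}

local notation "𝔾" => Matrix.GeneralLinearGroup (Fin n) F
local notation "𝕊" => Cfsg.Geo.scalars (Fin n) F

/-- The scalar matrices. -/
noncomputable def sc : Fˣ →* 𝔾 := Units.map (Matrix.scalar (Fin n) : F →+* Matrix (Fin n) (Fin n) F).toMonoidHom

/-- The linear map of a matrix. -/
noncomputable def lin (h : 𝔾) : Module.End F (Fin n → F) := Matrix.toLin' (h : Matrix (Fin n) (Fin n) F)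

theorem lin_mul (a b : 𝔾) (x : Fin n → F) : lin (a * b) x = lin a (lin b x) := by
  simp [lin, Matrix.toLin'_mul]

theorem lin_one (x : Fin n → F) : lin (1 : 𝔾) x = x := by simp [lin]

theorem lin_sc (c : Fˣ) (x : Fin n → F) : lin (sc (n := n) c) x = (c : F) • x := by
  simp [lin, sc, ← Matrix.smul_one_eq_diagonal]

theorem lin_injective (h : 𝔾) : Function.Injective (lin h) := by
  intro x y hxy
  have := congrArg (lin h⁻¹) hxy
  rwa [← lin_mul, ← lin_mul, inv_mul_cancel, lin_one, lin_one] at this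

theorem sc_mem (c : Fˣ) : sc (n := n) c ∈ 𝕊 := ⟨c, rfl⟩

theorem scalars_comm {s : 𝔾} (hs : s ∈ 𝕊) (x : 𝔾) : s * x = x * s := by
  obtain ⟨c, hc⟩ := (Cfsg.Geo.mem_scalars_iff s).1 hs
  refine Units.ext ?_
  rw [Units.val_mul, Units.val_mul, hc]
  simp

theorem sc_comm (c : Fˣ) (x : 𝔾) : sc c * x = x * sc c := scalars_comm (sc_mem c) x

/-- The eigenspace. -/
noncomputable def eig (h : 𝔾) (c : F) : Submodule F (Fin n → F) := Module.End.eigenspace (lin h) c

theorem mem_eig {h : 𝔾} {c : F} {x : Fin n → F} : x ∈ eig h c ↔ lin h x = c • x :=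
  Module.End.mem_eigenspace_iff

theorem eig_zero (h : 𝔾) : eig h (0 : F) = ⊥ := by
  rw [eq_bot_iff]
  intro x hx
  rw [mem_eig, zero_smul] at hx
  exact (Submodule.mem_bot F).2 (lin_injective h (hx.trans (map_zero _).symm))

theorem finrank_le_of_maps {W W' : Submodule F (Fin n → F)} (k : 𝔾) (h : ∀ x ∈ W, lin k x ∈ W') :
    finrank F W ≤ finrank F W' := by
  rw [(Submodule.equivMapOfInjective (lin k) (lin_injective k) W).finrank_eq]
  exact Submodule.finrank_mono (by rintro _ ⟨x, hx, rfl⟩; exact h x hx)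

theorem sum_eig_le_aux (W : Submodule F (Fin n → F)) (h : 𝔾) (T : Finset F) :
    ∑ c ∈ T, finrank F ↥(W ⊓ eig h c) ≤ finrank F W := by
  classical
  suffices hs : ∑ c ∈ T, finrank F ↥(W ⊓ eig h c) = finrank F ↥(T.sup fun c => W ⊓ eig h c) by
    rw [hs]
    exact Submodule.finrank_mono (Finset.sup_le fun c _ => inf_le_left)
  induction T using Finset.induction_on with
  | empty => rw [Finset.sum_empty, Finset.sup_empty, finrank_bot]
  | insert a s ha ih =>
    rw [Finset.sum_insert ha, Finset.sup_insert, ih]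
    have hd : Disjoint (W ⊓ eig h a) (s.sup fun c => W ⊓ eig h c) := by
      refine Disjoint.mono inf_le_right ?_
        ((Module.End.eigenspaces_iSupIndep (lin h)).disjoint_biSup (y := (s : Set F)) (by simpa using ha))
      exact Finset.sup_le fun c hc => le_trans inf_le_right (le_biSup (fun c => Module.End.eigenspace (lin h) c) hc)
    have h2 := Submodule.finrank_sup_add_finrank_inf_eq (W ⊓ eig h a) (s.sup fun c => W ⊓ eig h c)
    rw [hd.eq_bot, finrank_bot] at h2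
    exact (Nat.add_zero _ ▸ h2).symm

/-- Eigenspaces listed with multiplicity at most `M`. -/
theorem sum_eig_le {ι : Type*} (W : Submodule F (Fin n → F)) (h : 𝔾) (s : Finset ι) (e : ι → F) (M : ℕ)
    [DecidableEq F] (hM : ∀ i ∈ s, (s.filter fun j => e j = e i).card ≤ M) :
    ∑ i ∈ s, finrank F ↥(W ⊓ eig h (e i)) ≤ M * finrank F W := by
  rw [Finset.sum_comp (fun c => finrank F ↥(W ⊓ eig h c)) e]
  refine le_trans ?_ (Nat.mul_le_mul_left M (sum_eig_le_aux W h (s.image e)))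
  rw [Finset.mul_sum]
  refine Finset.sum_le_sum fun b hb => ?_
  obtain ⟨i, hi, rfl⟩ := Finset.mem_image.1 hb
  rw [smul_eq_mul]
  exact Nat.mul_le_mul_right _ (hM i hi)

theorem pow_inj_of_prime {r : ℕ} (hr : r.Prime) {w : Fˣ} (hw : w ^ r = 1) (hw1 : w ≠ 1) :
    orderOf w = r := by
  haveI := Fact.mk hr
  exact orderOf_eq_prime hw hw1

/-- A map shifting the eigenvalues of `h` inside `W`. -/
theorem shift_le {r : ℕ} (hr : r.Prime) (W : Submodule F (Fin n → F)) (h k : 𝔾) {w : Fˣ}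
    (hw : w ^ r = 1) (hw1 : w ≠ 1) (hk : ∀ x ∈ W, lin k x ∈ W)
    (hrel : ∀ x ∈ W, lin h (lin k x) = (w : F) • lin k (lin h x)) {c : F} (hc : c ≠ 0) :
    r * finrank F ↥(W ⊓ eig h c) ≤ finrank F W := by
  classical
  have hmap : ∀ i : ℕ, ∀ x ∈ W ⊓ eig h c, lin (k ^ i) x ∈ W ⊓ eig h ((w : F) ^ i * c) := by
    intro i
    induction i with
    | zero => intro x hx; simpa [lin_one] using hx
    | succ i ih =>
      intro x hx
      obtain ⟨h1, h2⟩ := ih x hx
      rw [pow_succ' k i, lin_mul, pow_succ' (w : F) i]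
      refine ⟨hk _ h1, ?_⟩
      rw [SetLike.mem_coe, mem_eig] at h2 ⊢
      rw [hrel _ h1, h2, map_smul, smul_smul]
      congr 1
      ring
  have h1 : r * finrank F ↥(W ⊓ eig h c) ≤ ∑ i ∈ Finset.range r, finrank F ↥(W ⊓ eig h ((w : F) ^ i * c)) := by
    calc r * finrank F ↥(W ⊓ eig h c) = ∑ _i ∈ Finset.range r, finrank F ↥(W ⊓ eig h c) := by simp
      _ ≤ _ := Finset.sum_le_sum fun i _ => finrank_le_of_maps (k ^ i) (hmap i)
  refine h1.trans (le_trans (sum_eig_le W h _ _ 1 fun i hi => ?_) (Nat.one_mul _).le)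
  refine Finset.card_le_one.2 fun a ha b hb => ?_
  simp only [Finset.mem_filter, Finset.mem_range] at ha hb
  have h3 : (w : F) ^ a = (w : F) ^ b := mul_right_cancel₀ hc (ha.2.trans hb.2.symm)
  have h4 : w ^ a = w ^ b := Units.ext (by simpa using h3)
  exact pow_injOn_Iio_orderOf (by rw [pow_inj_of_prime hr hw hw1]; exact ha.1)
    (by rw [pow_inj_of_prime hr hw hw1]; exact hb.1) h4

/-- Decomposition into eigenspaces of an element of order `r`. -/
theorem finrank_le_sum {r : ℕ} (hr : r.Prime) (W : Submodule F (Fin n → F)) (u : 𝔾) (hu : u ^ r = 1)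
    (hW : ∀ x ∈ W, lin u x ∈ W) {w : Fˣ} (hw : w ^ r = 1) (hw1 : w ≠ 1) :
    finrank F W ≤ ∑ j ∈ Finset.range r, finrank F ↥(W ⊓ eig u ((w : F) ^ j)) := by
  classical
  have hwr : (w : F) ^ r = 1 := by rw [← Units.val_pow_eq_pow_val, hw, Units.val_one]
  have hr0 : (r : F) ≠ 0 := by
    intro h0
    haveI := Fact.mk hr
    haveI : CharP F r := (CharP.charP_iff_prime_eq_zero hr).2 h0
    have : ((w : F) - 1) ^ r = 0 := by rw [sub_pow_char, hwr, one_pow, sub_self]
    exact hw1 (Units.ext (by simpa using sub_eq_zero.1 (pow_eq_zero_iff hr.ne_zero |>.1 this)))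
  have hsum : finrank F ↥((Finset.range r).sup fun j => W ⊓ eig u ((w : F) ^ j)) ≤
      ∑ j ∈ Finset.range r, finrank F ↥(W ⊓ eig u ((w : F) ^ j)) := by
    induction Finset.range r using Finset.induction_on with
    | empty => simp
    | insert a s ha ih =>
      rw [Finset.sum_insert ha, Finset.sup_insert]
      exact (Submodule.finrank_add_le_finrank_add_finrank _ _).trans (by omega)
  refine le_trans (Submodule.finrank_mono fun x hx => ?_) hsum
  have hup : ∀ k : ℕ, lin (u ^ k) x ∈ W := by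
    intro k
    induction k with
    | zero => simpa [lin_one] using hx
    | succ k ih => rw [pow_succ', lin_mul]; exact hW _ ih
  set P : ℕ → Fin n → F := fun j => ∑ k ∈ Finset.range r, (((w : F) ^ (j * k))⁻¹) • lin (u ^ k) x with hP
  have hPmem : ∀ j, P j ∈ W ⊓ eig u ((w : F) ^ j) := by
    intro j
    refine ⟨W.sum_mem fun k _ => W.smul_mem _ (hup k), ?_⟩
    rw [SetLike.mem_coe, mem_eig]
    have hstep : ∀ k : ℕ, lin u ((((w : F) ^ (j * k))⁻¹) • lin (u ^ k) x) =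
        (w : F) ^ j • ((((w : F) ^ (j * (k + 1)))⁻¹) • lin (u ^ (k + 1)) x) := by
      intro k
      rw [map_smul, ← lin_mul, ← pow_succ' u k, smul_smul]
      congr 1
      rw [mul_add, mul_one, pow_add, mul_inv, mul_comm ((w : F) ^ j), mul_assoc,
        inv_mul_cancel₀ (pow_ne_zero _ w.ne_zero), mul_one]
    rw [hP, map_sum, Finset.sum_congr rfl fun k _ => hstep k, ← Finset.smul_sum]
    congr 1
    obtain ⟨m, rfl⟩ : ∃ m, r = m + 1 := ⟨r - 1, by have := hr.pos; omega⟩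
    show _ = ∑ k ∈ Finset.range (m + 1), (((w : F) ^ (j * k))⁻¹) • lin (u ^ k) x
    rw [Finset.sum_range_succ, Finset.sum_range_succ' (fun k => (((w : F) ^ (j * k))⁻¹) • lin (u ^ k) x)]
    congr 1
    rw [mul_comm j (m + 1), pow_mul, hwr, one_pow, inv_one, hu, mul_zero, pow_zero, pow_zero, inv_one]
  have hx' : (r : F) • x = ∑ j ∈ Finset.range r, P j := by
    simp only [hP]
    rw [Finset.sum_comm]
    simp_rw [← Finset.sum_smul]
    rw [Finset.sum_eq_single_of_mem 0 (Finset.mem_range.2 hr.pos)]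
    · simp [lin_one]
    · intro k hk hk0
      have hne : ((w : F) ^ k)⁻¹ ≠ 1 := by
        rw [Ne, inv_eq_one]
        intro h1
        have h2 : w ^ k = 1 := Units.ext (by simpa using h1)
        have h3 := Nat.le_of_dvd (Nat.pos_of_ne_zero hk0) (pow_inj_of_prime hr hw hw1 ▸ orderOf_dvd_of_pow_eq_one h2)
        exact absurd (Finset.mem_range.1 hk) (by omega)
      have hg : ∑ j ∈ Finset.range r, ((w : F) ^ (j * k))⁻¹ = 0 := by
        have he : ∀ j : ℕ, ((w : F) ^ (j * k))⁻¹ = (((w : F) ^ k)⁻¹) ^ j := fun j => by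
          rw [inv_pow, ← pow_mul, mul_comm]
        simp_rw [he]
        rw [geom_sum_eq hne, inv_pow, ← pow_mul, mul_comm, pow_mul, hwr, one_pow, inv_one, sub_self, zero_div]
      rw [hg, zero_smul]
  have : x = (r : F)⁻¹ • ((r : F) • x) := by rw [smul_smul, inv_mul_cancel₀ hr0, one_smul]
  rw [this, hx']
  exact Submodule.smul_mem _ _ (Submodule.sum_mem _ fun j hj =>
    (Finset.le_sup (f := fun j => W ⊓ eig u ((w : F) ^ j)) hj) (hPmem j))

/-! ### Commutator bookkeeping -/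

theorem pow_comm_of {a b : 𝔾} {w : Fˣ} (h : a * b = sc w * (b * a)) (k : ℕ) :
    a ^ k * b = sc (w ^ k) * (b * a ^ k) := by
  induction k with
  | zero => simp
  | succ k ih =>
    calc a ^ (k + 1) * b = a ^ k * (a * b) := by rw [pow_succ, mul_assoc]
      _ = a ^ k * (sc w * (b * a)) := by rw [h]
      _ = sc w * (a ^ k * b) * a := by simp only [← mul_assoc, sc_comm w (a ^ k)]
      _ = sc w * (sc (w ^ k) * (b * a ^ k)) * a := by rw [ih]
      _ = _ := by rw [pow_succ' w, map_mul, pow_succ a]; simp only [mul_assoc]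

theorem mul_pow_of {a b : 𝔾} {v : Fˣ} (h : b * a = sc v * (a * b)) (k : ℕ) :
    (a * b) ^ k = sc (v ^ k.choose 2) * (a ^ k * b ^ k) := by
  induction k with
  | zero => simp
  | succ k ih =>
    calc (a * b) ^ (k + 1) = sc (v ^ k.choose 2) * (a ^ k * (b ^ k * a) * b) := by
          rw [pow_succ, ih]; simp only [mul_assoc]
      _ = sc (v ^ k.choose 2) * (a ^ k * (sc (v ^ k) * (a * b ^ k)) * b) := by rw [pow_comm_of h k]
      _ = sc (v ^ k.choose 2) * (sc (v ^ k) * (a ^ k * (a * b ^ k) * b)) := by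
          simp only [← mul_assoc]; rw [mul_assoc (sc (v ^ k.choose 2)) (a ^ k), ← sc_comm (v ^ k) (a ^ k)]
          simp only [mul_assoc]
      _ = _ := by
          rw [← mul_assoc (sc (v ^ k.choose 2)), ← map_mul, ← pow_add, Nat.choose_succ_succ' k 1,
            Nat.choose_one_right, Nat.add_comm k, pow_succ a, pow_succ b]
          simp only [mul_assoc]

/-- The standing hypotheses. -/
structure Hyp (RZ : Subgroup 𝔾) (g : 𝔾) (r o : ℕ) : Prop where
  hr : r.Prime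
  ho : o.Prime
  sc_le : 𝕊 ≤ RZ
  comm : ∀ a ∈ RZ, ∀ b ∈ RZ, ∃ w : Fˣ, w ^ r = 1 ∧ ⁅a, b⁆ = sc w
  cen : ∀ x : 𝔾, (∀ y ∈ RZ, y * x = x * y) → x ∈ 𝕊
  pgroup : IsPGroup r ↥(RZ.map (QuotientGroup.mk' 𝕊))
  norm : g ∈ Subgroup.normalizer (RZ : Set 𝔾)
  ord : orderOf g = o
  gns : g ∉ 𝕊

variable {RZ : Subgroup (Matrix.GeneralLinearGroup (Fin n) F)}
  {g : Matrix.GeneralLinearGroup (Fin n) F} {r o : ℕ}

theorem Hyp.conj_mem (H : Hyp RZ g r o) {x : 𝔾} (hx : x ∈ RZ) : g * x * g⁻¹ ∈ RZ :=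
  (Subgroup.mem_normalizer_iff.1 H.norm x).1 hx

theorem Hyp.conj_inv_mem (H : Hyp RZ g r o) {x : 𝔾} (hx : x ∈ RZ) : g⁻¹ * x * g ∈ RZ := by
  have := (Subgroup.mem_normalizer_iff.1 ((Subgroup.normalizer _).inv_mem H.norm) x).1 hx
  simpa using this

theorem Hyp.u_mem (H : Hyp RZ g r o) {y : 𝔾} (hy : y ∈ RZ) : ⁅g, y⁆ ∈ RZ :=
  RZ.mul_mem (H.conj_mem hy) (RZ.inv_mem hy)

theorem Hyp.central (H : Hyp RZ g r o) {a b : 𝔾} (ha : a ∈ RZ) (hb : b ∈ RZ) (x : 𝔾) :
    ⁅a, b⁆ * x = x * ⁅a, b⁆ := by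
  obtain ⟨w, -, hw⟩ := H.comm a ha b hb
  rw [hw]; exact sc_comm w x

theorem Hyp.mul_left (H : Hyp RZ g r o) {a b c : 𝔾} (hb : b ∈ RZ) (hc : c ∈ RZ) :
    ⁅a * b, c⁆ = ⁅a, c⁆ * ⁅b, c⁆ := by
  calc ⁅a * b, c⁆ = a * ⁅b, c⁆ * (c * a⁻¹ * c⁻¹) := by simp only [commutatorElement_def]; group
    _ = ⁅b, c⁆ * a * (c * a⁻¹ * c⁻¹) := by rw [H.central hb hc a]
    _ = ⁅b, c⁆ * ⁅a, c⁆ := by simp only [commutatorElement_def]; group
    _ = _ := H.central hb hc _

theorem Hyp.mul_right (H : Hyp RZ g r o) {a b c : 𝔾} (hb : b ∈ RZ) (hc : c ∈ RZ) :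
    ⁅c, a * b⁆ = ⁅c, a⁆ * ⁅c, b⁆ := by
  calc ⁅c, a * b⁆ = ⁅c, a⁆ * (a * ⁅c, b⁆ * a⁻¹) := by simp only [commutatorElement_def]; group
    _ = ⁅c, a⁆ * ⁅c, b⁆ := by rw [← H.central hc hb a, mul_inv_cancel_right]

theorem Hyp.inv_right (H : Hyp RZ g r o) {a c : 𝔾} (ha : a ∈ RZ) (hc : c ∈ RZ) :
    ⁅c, a⁻¹⁆ = ⁅c, a⁆⁻¹ := by
  refine eq_inv_of_mul_eq_one_left ?_
  rw [← H.mul_right ha hc, inv_mul_cancel, commutatorElement_one_right]

theorem comm_scalar_left {s a b : 𝔾} (hs : s ∈ 𝕊) : ⁅s * a, b⁆ = ⁅a, b⁆ := by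
  have hb : s * b = b * s := scalars_comm hs b
  calc ⁅s * a, b⁆ = s * (a * b * a⁻¹) * s⁻¹ * b⁻¹ := by simp only [commutatorElement_def]; group
    _ = (a * b * a⁻¹) * s * s⁻¹ * b⁻¹ := by rw [scalars_comm hs]
    _ = ⁅a, b⁆ := by simp only [commutatorElement_def]; group

theorem comm_scalar_right {s a b : 𝔾} (hs : s ∈ 𝕊) : ⁅a, s * b⁆ = ⁅a, b⁆ := by
  rw [← commutatorElement_inv (s * b) a, comm_scalar_left hs, commutatorElement_inv]

theorem Hyp.conj_comm (H : Hyp RZ g r o) {a b : 𝔾} (ha : a ∈ RZ) (hb : b ∈ RZ) :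
    ⁅g * a * g⁻¹, g * b * g⁻¹⁆ = ⁅a, b⁆ := by
  calc ⁅g * a * g⁻¹, g * b * g⁻¹⁆ = g * ⁅a, b⁆ * g⁻¹ := by simp only [commutatorElement_def]; group
    _ = _ := by rw [← H.central ha hb g, mul_inv_cancel_right]

theorem Hyp.pow_mem (H : Hyp RZ g r o) {x : 𝔾} (hx : x ∈ RZ) : x ^ r ∈ 𝕊 := by
  refine H.cen _ fun y hy => ?_
  obtain ⟨w, hw, hwc⟩ := H.comm x hx y hy
  have h : x * y = sc w * (y * x) := by rw [← hwc, commutatorElement_def]; group
  rw [pow_comm_of h r, hw, map_one, one_mul]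

/-- The images in the quotient by the scalars commute. -/
theorem Hyp.mk_comm (H : Hyp RZ g r o) {a b : 𝔾} (ha : a ∈ RZ) (hb : b ∈ RZ) :
    (QuotientGroup.mk' 𝕊 a) * QuotientGroup.mk' 𝕊 b = QuotientGroup.mk' 𝕊 b * QuotientGroup.mk' 𝕊 a := by
  obtain ⟨w, -, hwc⟩ := H.comm a ha b hb
  rw [← map_mul, ← map_mul, show a * b = sc w * (b * a) from by rw [← hwc, commutatorElement_def]; group,
    map_mul, show QuotientGroup.mk' 𝕊 (sc w) = 1 from (QuotientGroup.eq_one_iff _).2 (sc_mem w), one_mul]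

theorem mem_iff_mk {x : 𝔾} : x ∈ 𝕊 ↔ QuotientGroup.mk' 𝕊 x = 1 := (QuotientGroup.eq_one_iff x).symm

theorem Hyp.u_mem_iff (g y : 𝔾) : ⁅g, y⁆ ∈ 𝕊 ↔ Commute (QuotientGroup.mk' 𝕊 g) (QuotientGroup.mk' 𝕊 y) := by
  rw [mem_iff_mk, map_commutatorElement, commutatorElement_eq_one_iff_mul_comm]
  rfl

/-- `g²` commuting with `x` modulo scalars gives the same for `g` (odd order). -/
theorem Hyp.of_sq (H : Hyp RZ g r o) (hodd : Odd o) {x : 𝔾}
    (h : QuotientGroup.mk' 𝕊 (g * x * g⁻¹) = QuotientGroup.mk' 𝕊 (g⁻¹ * x * g)) : ⁅g, x⁆ ∈ 𝕊 := by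
  rw [Hyp.u_mem_iff]
  set G := QuotientGroup.mk' 𝕊 g with hG
  set X := QuotientGroup.mk' 𝕊 x with hX
  simp only [map_mul, map_inv, ← hG, ← hX] at h
  have h2 : Commute (G ^ 2) X := by
    show G ^ 2 * X = X * G ^ 2
    calc G ^ 2 * X = G * (G * X * G⁻¹) * G := by simp [pow_two, mul_assoc]
      _ = G * (G⁻¹ * X * G) * G := by rw [h]
      _ = X * G ^ 2 := by simp [pow_two, mul_assoc]
  obtain ⟨m, hm⟩ := hodd
  have hGo : G ^ (2 * m + 1) = 1 := by rw [← hm, hG, ← map_pow, ← H.ord, pow_orderOf_eq_one, map_one]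
  have h3 : G = ((G ^ 2) ^ m)⁻¹ := by
    refine eq_inv_of_mul_eq_one_left ?_
    rw [← pow_mul, ← pow_succ']; exact hGo
  rw [h3]
  exact (h2.pow_left m).inv_left

/-! ### The bounds -/

theorem Hyp.shift_bound (H : Hyp RZ g r o) {u : 𝔾} (hu : u ∈ RZ) (hns : u ∉ 𝕊) {μ : F} (hμ : μ ≠ 0) :
    r * finrank F ↥(eig u μ) ≤ n := by
  obtain ⟨k, hk, hne⟩ : ∃ k ∈ RZ, k * u ≠ u * k := by
    by_contra hcon
    push Not at hcon
    exact hns (H.cen u hcon)
  obtain ⟨w, hw, hwc⟩ := H.comm u hu k hk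
  have hw1 : w ≠ 1 := by
    rintro rfl
    rw [map_one, commutatorElement_eq_one_iff_mul_comm] at hwc
    exact hne hwc.symm
  have hrel : u * k = sc w * (k * u) := by rw [← hwc, commutatorElement_def]; group
  have := shift_le H.hr ⊤ u k hw hw1 (fun x _ => trivial)
    (fun x _ => by rw [← lin_mul, hrel, lin_mul, lin_sc, lin_mul]) hμ
  rw [top_inf_eq, finrank_top, finrank_fin_fun] at this
  exact this

/-- `g y g⁻¹ = w y` bounds the eigenspaces of `g` by `n / r`. -/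
theorem Hyp.scalar_bound (H : Hyp RZ g r o) {y : 𝔾} (hy : y ∈ RZ) (hu : ⁅g, y⁆ ∈ 𝕊) (hu1 : ⁅g, y⁆ ≠ 1)
    {c : F} (hc : c ≠ 0) : r * finrank F ↥(eig g c) ≤ n := by
  obtain ⟨w, hwc⟩ := hu
  replace hwc : sc w = ⁅g, y⁆ := hwc
  have hw1 : w ≠ 1 := by rintro rfl; exact hu1 (by rw [← hwc, map_one])
  have hconj : g * y * g⁻¹ = sc w * y := by rw [hwc, commutatorElement_def]; group
  have hw : w ^ r = 1 := by
    have h1 : (g * y * g⁻¹) ^ r = y ^ r := by
      rw [conj_pow, ← scalars_comm (H.pow_mem hy) g, mul_inv_cancel_right]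
    rw [hconj, (show Commute (sc w) y from sc_comm w y).mul_pow, ← map_pow] at h1
    have h2 : sc (n := n) (w ^ r) = 1 := mul_eq_right.1 h1
    rcases Nat.eq_zero_or_pos n with hn | hn
    · exfalso
      subst hn
      exact H.gns (by rw [Subsingleton.elim g 1]; exact Subgroup.one_mem _)
    · haveI : Nonempty (Fin n) := ⟨⟨0, hn⟩⟩
      have h3 : lin (sc (n := n) (w ^ r)) (fun _ => (1 : F)) = lin (1 : 𝔾) (fun _ => (1 : F)) := by rw [h2]
      rw [lin_sc, lin_one] at h3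
      exact Units.ext (by simpa using congrFun h3 ⟨0, hn⟩)
  have hrel : g * y = sc w * (y * g) := by rw [hwc, commutatorElement_def]; group
  have := shift_le H.hr ⊤ g y hw hw1 (fun x _ => trivial)
    (fun x _ => by rw [← lin_mul, hrel, lin_mul, lin_sc, lin_mul]) hc
  rw [top_inf_eq, finrank_top, finrank_fin_fun] at this
  exact this

/-- `E ∩ yE` is fixed by `[g, y]` and by its conjugate under `g`. -/
theorem Hyp.two_mul_le (H : Hyp RZ g r o) (y : 𝔾) {c : F} (hc : c ≠ 0) (K : Submodule F (Fin n → F))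
    (hK : ∀ x ∈ eig g c, lin ⁅g, y⁆ x = x → lin (g * ⁅g, y⁆ * g⁻¹) x = x → x ∈ K) :
    2 * finrank F ↥(eig g c) ≤ n + finrank F K := by
  set E := eig g c with hE
  set E' := E.map (lin y) with hE'
  have hfr : finrank F E' = finrank F E :=
    (Submodule.equivMapOfInjective (lin y) (lin_injective y) E).finrank_eq.symm
  have hle : E ⊓ E' ≤ K := by
    rintro x ⟨hx, z, hz, rfl⟩
    rw [SetLike.mem_coe] at hx hz
    have hgx := mem_eig.1 hx
    have hgz := mem_eig.1 hz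
    have hu : lin ⁅g, y⁆ (lin y z) = lin y z := by
      rw [← lin_mul, show ⁅g, y⁆ * y = g * y * g⁻¹ from by rw [commutatorElement_def]; group, lin_mul, lin_mul]
      have hinv : lin g⁻¹ z = c⁻¹ • z := by
        refine lin_injective g ?_
        rw [← lin_mul, mul_inv_cancel, lin_one, map_smul, hgz, smul_smul, inv_mul_cancel₀ hc, one_smul]
      rw [hinv, map_smul, map_smul, hgx, smul_smul, inv_mul_cancel₀ hc, one_smul]
    refine hK _ hx hu ?_
    have hinv : lin g⁻¹ (lin y z) = c⁻¹ • lin y z := by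
      refine lin_injective g ?_
      rw [← lin_mul, mul_inv_cancel, lin_one, map_smul, hgx, smul_smul, inv_mul_cancel₀ hc, one_smul]
    rw [lin_mul, lin_mul, hinv, map_smul, hu, map_smul, hgx, smul_smul, inv_mul_cancel₀ hc, one_smul]
  have h1 := Submodule.finrank_sup_add_finrank_inf_eq E E'
  have h2 : finrank F ↥(E ⊔ E') ≤ n := by
    have := Submodule.finrank_le (E ⊔ E')
    rwa [finrank_fin_fun] at this
  have h3 := Submodule.finrank_mono hle
  omega

/-- With no fixed vector the bound is `n / 2`. -/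
theorem Hyp.half_of_no_fix (H : Hyp RZ g r o) (y : 𝔾) {c : F} (hc : c ≠ 0)
    (hfix : ∀ x : Fin n → F, lin ⁅g, y⁆ x = x → lin (g * ⁅g, y⁆ * g⁻¹) x = x → x = 0) :
    2 * finrank F ↥(eig g c) ≤ n := by
  have := H.two_mul_le y hc ⊥ (fun x _ h1 h2 => (Submodule.mem_bot F).2 (hfix x h1 h2))
  simpa using this

theorem eq_zero_of_smul {w : Fˣ} (hw : w ≠ 1) {x : Fin n → F} (h : (w : F) • x = x) : x = 0 := by
  have h2 : ((w : F) - 1) • x = 0 := by rw [sub_smul, one_smul, h, sub_self]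
  rcases smul_eq_zero.1 h2 with h3 | h3
  · exact absurd (Units.ext (sub_eq_zero.1 h3)) hw
  · exact h3

/-- Non-commuting `u` and `g u g⁻¹`. -/
theorem Hyp.half_of_noncomm (H : Hyp RZ g r o) {y : 𝔾} (hy : y ∈ RZ)
    (hne : ⁅g * ⁅g, y⁆ * g⁻¹, ⁅g, y⁆⁆ ≠ 1) {c : F} (hc : c ≠ 0) : 2 * finrank F ↥(eig g c) ≤ n := by
  set u := ⁅g, y⁆ with hu
  obtain ⟨w, -, hwc⟩ := H.comm _ (H.conj_mem (H.u_mem hy)) _ (H.u_mem hy)
  refine H.half_of_no_fix y hc fun x h1 h2 => eq_zero_of_smul (w := w) ?_ ?_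
  · rintro rfl; exact hne (by rw [hwc, map_one])
  · rw [← hu] at h1 h2 hwc
    have : (g * u * g⁻¹) * u = sc w * (u * (g * u * g⁻¹)) := by rw [← hwc, commutatorElement_def]; group
    have h3 := congrArg (fun z => lin z x) this
    rw [lin_mul, h1, h2, lin_mul, lin_sc, lin_mul, h2, h1] at h3
    exact h3.symm

/-- `r = 2`, `g y g⁻¹` and `y` do not commute. -/
theorem Hyp.half_of_two (H : Hyp RZ g r o) (hr2 : r = 2) {y : 𝔾} (hy : y ∈ RZ)
    (hne : ⁅g * y * g⁻¹, y⁆ ≠ 1) {c : F} (hc : c ≠ 0) : 2 * finrank F ↥(eig g c) ≤ n := by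
  set Y := g * y * g⁻¹ with hY
  obtain ⟨v, -, hvc⟩ := H.comm y⁻¹ (RZ.inv_mem hy) Y (H.conj_mem hy)
  have hv1 : v ≠ 1 := by
    rintro rfl
    rw [map_one, commutatorElement_eq_one_iff_mul_comm] at hvc
    exact hne (commutatorElement_eq_one_iff_mul_comm.2 (by
      have := congrArg (fun z => y * z * y) hvc
      simp only [← mul_assoc, mul_inv_cancel, one_mul] at this
      simpa [mul_assoc] using this))
  have hrel : y⁻¹ * Y = sc v * (Y * y⁻¹) := by rw [← hvc, commutatorElement_def]; group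
  have hY2 : Y ^ 2 = y ^ 2 := by
    rw [hY, conj_pow, ← scalars_comm (hr2 ▸ H.pow_mem hy) g, mul_inv_cancel_right]
  have hu2 : ⁅g, y⁆ ^ 2 = sc v := by
    have h := mul_pow_of hrel 2
    rw [show (2 : ℕ).choose 2 = 1 from rfl, pow_one, hY2, inv_pow, mul_inv_cancel, mul_one] at h
    rw [show ⁅g, y⁆ = Y * y⁻¹ from rfl, h]
  refine H.half_of_no_fix y hc fun x h1 _ => eq_zero_of_smul hv1 ?_
  rw [← lin_sc v x, ← hu2, pow_two, lin_mul, h1, h1]

/-- `g ∈ RZ`-like elements are excluded: some commutator is nontrivial modulo scalars, or a bound holds. -/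
theorem Hyp.exists_nonscalar (H : Hyp RZ g r o) (hno : ∀ y ∈ RZ, ⁅g, y⁆ ∈ 𝕊 → ⁅g, y⁆ = 1) :
    ∃ y ∈ RZ, ⁅g, y⁆ ∉ 𝕊 := by
  by_contra hcon
  push Not at hcon
  exact H.gns (H.cen g fun y hy => (commutatorElement_eq_one_iff_mul_comm.1 (hno y hy (hcon y hy))).symm)

/-- `[g, [g, z]] = 1` forces `[g, z] = 1` when `o ≠ r`. -/
theorem Hyp.u_eq_one (H : Hyp RZ g r o) (hor : o ≠ r) (hno : ∀ y ∈ RZ, ⁅g, y⁆ ∈ 𝕊 → ⁅g, y⁆ = 1) {z : 𝔾}
    (hz : z ∈ RZ) (h2 : ⁅g, ⁅g, z⁆⁆ ∈ 𝕊) : ⁅g, z⁆ = 1 := by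
  refine hno z hz ?_
  set u := ⁅g, z⁆ with hu
  have hcomm : g * u = u * g := commutatorElement_eq_one_iff_mul_comm.1 (hno u (H.u_mem hz) h2)
  have hiter : ∀ k : ℕ, g ^ k * z * (g ^ k)⁻¹ = u ^ k * z := by
    intro k
    induction k with
    | zero => simp
    | succ k ih =>
      have hck : g * u ^ k = u ^ k * g := ((show Commute g u from hcomm).pow_right k).eq
      calc g ^ (k + 1) * z * (g ^ (k + 1))⁻¹ = g * (g ^ k * z * (g ^ k)⁻¹) * g⁻¹ := by rw [pow_succ']; group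
        _ = g * u ^ k * z * g⁻¹ := by rw [ih]; group
        _ = u ^ k * (g * z * g⁻¹ * z⁻¹) * z := by rw [hck]; group
        _ = u ^ (k + 1) * z := by rw [hu, commutatorElement_def, pow_succ]
  have huo : u ^ o = 1 := by
    have := hiter o
    rw [← H.ord, pow_orderOf_eq_one, inv_one, one_mul, mul_one, H.ord] at this
    exact mul_eq_right.1 this.symm
  rw [mem_iff_mk]
  refine orderOf_eq_one_iff.1 (Nat.eq_one_of_dvd_coprimes ((Nat.coprime_primes H.ho H.hr).2 hor)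
    (orderOf_dvd_of_pow_eq_one ?_) (orderOf_dvd_of_pow_eq_one ?_))
  · rw [← map_pow, huo, map_one]
  · rw [← map_pow, ← mem_iff_mk]; exact H.pow_mem (H.u_mem hz)

theorem Hyp.exists_noncomm (H : Hyp RZ g r o) (hor : o ≠ r) (hodd : Odd o)
    (hno : ∀ y ∈ RZ, ⁅g, y⁆ ∈ 𝕊 → ⁅g, y⁆ = 1) : ∃ y ∈ RZ, ⁅g * ⁅g, y⁆ * g⁻¹, ⁅g, y⁆⁆ ≠ 1 := by
  by_contra hcon
  push Not at hcon
  obtain ⟨y, hy, hyu⟩ := H.exists_nonscalar hno
  apply hyu
  set U := ⁅g, y⁆ with hU
  have hUm := H.u_mem hy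
  rw [← hU] at hUm
  -- polarization
  have hpol : ∀ x ∈ RZ, ⁅⁅g, x⁆, g * U * g⁻¹⁆ = ⁅⁅g, x⁆, g⁻¹ * U * g⁆ := by
    intro x hx
    set A := ⁅g, x⁆ with hA
    have hAm := H.u_mem hx
    rw [← hA] at hAm
    obtain ⟨w, -, hwc⟩ := H.comm x hx U hUm
    have hxy : ⁅g, x * y⁆ = sc w * (A * U) := by
      calc ⁅g, x * y⁆ = A * (x * U * x⁻¹) := by rw [hA, hU]; simp only [commutatorElement_def]; group
        _ = A * (⁅x, U⁆ * U) := by simp only [commutatorElement_def]; group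
        _ = sc w * (A * U) := by rw [hwc, ← mul_assoc, ← sc_comm w A, mul_assoc]
    have h := hcon (x * y) (RZ.mul_mem hx hy)
    rw [hxy, comm_scalar_right (sc_mem w),
      show g * (sc w * (A * U)) * g⁻¹ = sc w * ((g * A * g⁻¹) * (g * U * g⁻¹)) from by
        rw [← mul_assoc g (sc w), ← sc_comm w g]; group,
      comm_scalar_left (sc_mem w), H.mul_left (H.conj_mem hUm) (RZ.mul_mem hAm hUm),
      H.mul_right hUm (H.conj_mem hAm), H.mul_right hUm (H.conj_mem hUm), hcon x hx, hcon y hy,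
      one_mul, mul_one] at h
    have h2 : ⁅g * A * g⁻¹, U⁆ = ⁅A, g⁻¹ * U * g⁆ := by
      rw [← H.conj_comm hAm (H.conj_inv_mem hUm)]; group
    rw [← h2, eq_inv_of_mul_eq_one_left h, commutatorElement_inv]
  set y' := g⁻¹ * U * g with hy'
  have hy'm : y' ∈ RZ := H.conj_inv_mem hUm
  set W := g * U * g⁻¹ * y'⁻¹ with hW
  have hWm : W ∈ RZ := RZ.mul_mem (H.conj_mem hUm) (RZ.inv_mem hy'm)
  have hperp : ∀ x ∈ RZ, ⁅⁅g, x⁆, W⁆ = 1 := by
    intro x hx
    rw [hW, H.mul_right (RZ.inv_mem hy'm) (H.u_mem hx), H.inv_right hy'm (H.u_mem hx), hpol x hx,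
      mul_inv_cancel]
  have hW2 : ⁅g, W⁆ ∈ 𝕊 := by
    refine H.cen _ fun z hz => ?_
    rw [← commutatorElement_eq_one_iff_mul_comm]
    -- `z` is a conjugate of some `x`
    set x := g⁻¹ * z * g with hx
    have hxm : x ∈ RZ := H.conj_inv_mem hz
    have hz' : z = g * x * g⁻¹ := by rw [hx]; group
    have h1 : ⁅z, W⁆ = ⁅x, W⁆ := by
      rw [show z = ⁅g, x⁆ * x from by rw [hz', commutatorElement_def]; group, H.mul_left hxm hWm, hperp x hxm, one_mul]
    rw [show ⁅g, W⁆ = (g * W * g⁻¹) * W⁻¹ from rfl, H.mul_right (RZ.inv_mem hWm) hz, H.inv_right hWm hz]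
    rw [mul_inv_eq_one, h1, hz', H.conj_comm hxm hWm]
  set Z := (g * y' * g⁻¹) * y' with hZ
  have hZm : Z ∈ RZ := RZ.mul_mem (H.conj_mem hy'm) hy'm
  have hUy : g * y' * g⁻¹ = U := by rw [hy']; group
  have hπ : QuotientGroup.mk' 𝕊 ⁅g, Z⁆ = QuotientGroup.mk' 𝕊 W := by
    have h1 : ⁅g, U * y'⁆ = (g * U * g⁻¹) * ((g * y' * g⁻¹) * (y'⁻¹ * U⁻¹)) := by
      rw [commutatorElement_def]; group
    rw [hZ, hUy, h1, hUy, map_mul _ (g * U * g⁻¹), map_mul _ U, map_mul _ y'⁻¹,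
      H.mk_comm (RZ.inv_mem hy'm) (RZ.inv_mem hUm), ← mul_assoc (QuotientGroup.mk' 𝕊 U),
      ← map_mul _ U, mul_inv_cancel, map_one, one_mul, ← map_mul, ← hW]
  have hZZ : ⁅g, ⁅g, Z⁆⁆ ∈ 𝕊 := by
    rw [Hyp.u_mem_iff, hπ, ← Hyp.u_mem_iff]; exact hW2
  have hW1 : QuotientGroup.mk' 𝕊 W = 1 := by rw [← hπ, H.u_eq_one hor hno hZm hZZ, map_one]
  have hUfix : ⁅g, U⁆ ∈ 𝕊 := H.of_sq hodd (by
    rw [hW, map_mul, map_inv] at hW1
    exact mul_inv_eq_one.1 hW1)
  rw [hU, H.u_eq_one hor hno hy hUfix]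
  exact Subgroup.one_mem _

theorem Hyp.exists_noncomm_two (H : Hyp RZ g r o) (hodd : Odd o)
    (hno : ∀ y ∈ RZ, ⁅g, y⁆ ∈ 𝕊 → ⁅g, y⁆ = 1) : ∃ y ∈ RZ, ⁅g * y * g⁻¹, y⁆ ≠ 1 := by
  by_contra hcon
  push Not at hcon
  obtain ⟨x, hx, hxu⟩ := H.exists_nonscalar hno
  apply hxu
  refine H.of_sq hodd ?_
  rw [← mul_inv_eq_one, ← map_inv, ← map_mul, ← mem_iff_mk]
  refine H.cen _ fun y hy => ?_
  symm
  rw [← commutatorElement_eq_one_iff_mul_comm, H.mul_left (RZ.inv_mem (H.conj_inv_mem hx)) hy]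
  have h := hcon (x * y) (RZ.mul_mem hx hy)
  rw [show g * (x * y) * g⁻¹ = (g * x * g⁻¹) * (g * y * g⁻¹) from by group,
    H.mul_left (H.conj_mem hy) (RZ.mul_mem hx hy), H.mul_right hy (H.conj_mem hx),
    H.mul_right hy (H.conj_mem hy), hcon x hx, hcon y hy, one_mul, mul_one] at h
  have h2 : ⁅g * y * g⁻¹, x⁆ = ⁅y, g⁻¹ * x * g⁆ := by
    rw [← H.conj_comm hy (H.conj_inv_mem hx)]; group
  have h3 : ⁅(g⁻¹ * x * g)⁻¹, y⁆ = ⁅y, g⁻¹ * x * g⁆ := by
    rw [← commutatorElement_inv, H.inv_right (H.conj_inv_mem hx) hy, inv_inv]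
  rw [h3, ← h2]
  exact h

variable [Finite F]

/-- A last non-scalar commutator, when `g` has order `r`. -/
theorem Hyp.exists_last (H : Hyp RZ g r o) (hor : o = r) {y : 𝔾} (hy : y ∈ RZ) (hyu : ⁅g, y⁆ ∉ 𝕊) :
    ∃ v ∈ RZ, ⁅g, v⁆ ∉ 𝕊 ∧ ⁅g, ⁅g, v⁆⁆ ∈ 𝕊 := by
  haveI := Fact.mk H.hr
  set π := QuotientGroup.mk' 𝕊 with hπ
  set P := Subgroup.zpowers (π g) ⊔ RZ.map π with hP
  have hPp : IsPGroup r P := by
    refine IsPGroup.to_sup_of_normal_right' ?_ H.pgroup ?_
    · intro x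
      refine ⟨1, ?_⟩
      obtain ⟨i, hi⟩ := x.2
      refine Subtype.ext ?_
      rw [Subgroup.coe_pow, Subgroup.coe_one]
      rw [← hi, pow_one, ← zpow_natCast, ← _root_.zpow_mul, mul_comm, _root_.zpow_mul, zpow_natCast, ← map_pow, ← hor,
        ← H.ord, pow_orderOf_eq_one, map_one, _root_.one_zpow]
    · rw [Subgroup.zpowers_le]
      refine Subgroup.mem_normalizer_iff.2 fun z => ⟨?_, ?_⟩
      · rintro ⟨a, ha, rfl⟩
        exact ⟨g * a * g⁻¹, H.conj_mem ha, by simp⟩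
      · rintro ⟨a, ha, he⟩
        exact ⟨g⁻¹ * a * g, H.conj_inv_mem ha, by rw [map_mul, map_mul, map_inv, he]; group⟩
  haveI := hPp.isNilpotent
  obtain ⟨N, hN⟩ := P.isNilpotent_iff_lowerCentralSeries.1 inferInstance
  set s : ℕ → 𝔾 := fun k => (fun z => ⁅g, z⁆)^[k] y with hs
  have hsm : ∀ k, s k ∈ RZ := by
    intro k
    induction k with
    | zero => exact hy
    | succ k ih => rw [hs]; simp only [Function.iterate_succ', Function.comp_apply]; exact H.u_mem ih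
  have hgP : π g ∈ P := le_sup_left (a := Subgroup.zpowers (π g)) (b := RZ.map π) (Subgroup.mem_zpowers _)
  have hmem : ∀ k, π (s k) ∈ P.lowerCentralSeries k := by
    intro k
    induction k with
    | zero => exact le_sup_right (a := Subgroup.zpowers (π g)) (b := RZ.map π) ⟨_, hsm 0, rfl⟩
    | succ k ih =>
      rw [Subgroup.lowerCentralSeries_succ, Subgroup.commutator_comm]
      have h' : π (s (k + 1)) = ⁅π g, π (s k)⁆ := by
        simp only [hs, Function.iterate_succ', Function.comp_apply, map_commutatorElement]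
      rw [h']
      exact Subgroup.commutator_mem_commutator hgP ih
  have hend : ∃ k, s (k + 1) ∈ 𝕊 := by
    refine ⟨N, ?_⟩
    have h := hmem N
    rw [hN, Subgroup.mem_bot] at h
    rw [mem_iff_mk, ← hπ, show s (N + 1) = ⁅g, s N⁆ from by simp only [hs, Function.iterate_succ', Function.comp_apply],
      map_commutatorElement, h, commutatorElement_one_right]
  classical
  have hk0 : Nat.find hend ≠ 0 := by
    intro h0
    have := Nat.find_spec hend
    rw [h0] at this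
    exact hyu this
  obtain ⟨j, hj⟩ := Nat.exists_eq_succ_of_ne_zero hk0
  refine ⟨s j, hsm j, ?_, ?_⟩
  · have h := Nat.find_min hend (m := j) (by omega)
    rwa [show s (j + 1) = ⁅g, s j⁆ from Function.iterate_succ_apply' _ j y] at h
  · have h := Nat.find_spec hend
    rw [hj] at h
    rwa [show s (j.succ + 1) = ⁅g, s j.succ⁆ from Function.iterate_succ_apply' _ j.succ y,
      show s j.succ = ⁅g, s j⁆ from Function.iterate_succ_apply' _ j y] at h

/-- The bound `2n / r` for elements of odd order `r`. -/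
theorem Hyp.bound_r (H : Hyp RZ g r o) (hor : o = r) (hr2 : r ≠ 2)
    (hno : ∀ y ∈ RZ, ⁅g, y⁆ ∈ 𝕊 → ⁅g, y⁆ = 1) {c : F} (hc : c ≠ 0) :
    r * finrank F ↥(eig g c) ≤ 2 * n := by
  classical
  obtain ⟨y, hy, hyu⟩ := H.exists_nonscalar hno
  obtain ⟨v, hv, hvu, hvu2⟩ := H.exists_last hor hy hyu
  set u := ⁅g, v⁆ with hu
  have hum := H.u_mem hv
  rw [← hu] at hum
  have hgu : g * u = u * g := commutatorElement_eq_one_iff_mul_comm.1 (hno u hum hvu2)
  have hgv : g * v = u * v * g := by rw [hu, commutatorElement_def]; group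
  have hodd : Odd r := H.hr.odd_of_ne_two hr2
  have hur : u ^ r = 1 := by
    obtain ⟨e, he, hec⟩ := H.comm v⁻¹ (RZ.inv_mem hv) (g * v * g⁻¹) (H.conj_mem hv)
    have hrel : v⁻¹ * (g * v * g⁻¹) = sc e * ((g * v * g⁻¹) * v⁻¹) := by
      rw [← hec, commutatorElement_def]; group
    have h := mul_pow_of hrel r
    rw [conj_pow, ← scalars_comm (H.pow_mem hv) g, mul_inv_cancel_right, inv_pow, mul_inv_cancel, mul_one] at h
    rw [show u = g * v * g⁻¹ * v⁻¹ from hu, h]
    have hdvd : r ∣ r.choose 2 := H.hr.dvd_choose_self (by norm_num) (lt_of_le_of_ne H.hr.two_le (Ne.symm hr2))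
    obtain ⟨m, hm⟩ := hdvd
    rw [hm, pow_mul, he, one_pow, map_one]
  set E := eig g c with hE
  have hEu : ∀ x ∈ E, lin u x ∈ E := by
    intro x hx
    rw [hE, mem_eig] at hx ⊢
    rw [← lin_mul, hgu, lin_mul, hx, map_smul]
  obtain ⟨w, hw, hwc⟩ := H.comm u hum v hv
  have hrel : u * v = sc w * (v * u) := by rw [← hwc, commutatorElement_def]; group
  by_cases hw1 : w = 1
  · -- `u` and `v` commute
    subst hw1
    rw [map_one, one_mul] at hrel
    obtain ⟨k, hk, hne⟩ : ∃ k ∈ RZ, k * u ≠ u * k := by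
      by_contra hcon
      push Not at hcon
      exact hvu (H.cen u hcon)
    obtain ⟨w', hw', hwc'⟩ := H.comm u hum k hk
    have hw'1 : w' ≠ 1 := by
      rintro rfl
      rw [map_one, commutatorElement_eq_one_iff_mul_comm] at hwc'
      exact hne hwc'.symm
    have h1 := finrank_le_sum H.hr E u hur hEu hw' hw'1
    have h2 : ∀ j ∈ Finset.range r, r * (r * finrank F ↥(E ⊓ eig u ((w' : F) ^ j))) ≤
        if j = 0 then r * n else n := by
      intro j hj
      have hVj := H.shift_bound hum hvu (pow_ne_zero j w'.ne_zero : (w' : F) ^ j ≠ 0)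
      by_cases hj0 : j = 0
      · rw [if_pos hj0]
        refine Nat.mul_le_mul_left r (le_trans ?_ hVj)
        exact Nat.mul_le_mul_left r (Submodule.finrank_mono inf_le_right)
      · rw [if_neg hj0]
        refine le_trans (Nat.mul_le_mul_left r ?_) hVj
        rw [inf_comm]
        have hwj : w' ^ j ≠ 1 := fun h1 => by
          have h3 := Nat.le_of_dvd (Nat.pos_of_ne_zero hj0)
            (pow_inj_of_prime H.hr hw' hw'1 ▸ orderOf_dvd_of_pow_eq_one h1)
          exact absurd (Finset.mem_range.1 hj) (by omega)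
        refine shift_le H.hr (eig u ((w' : F) ^ j)) g v (w := w' ^ j)
          (by rw [← pow_mul, mul_comm, pow_mul, hw', one_pow]) hwj (fun x hx => ?_) (fun x hx => ?_) hc
        · rw [mem_eig] at hx ⊢
          rw [← lin_mul, hrel, lin_mul, hx, map_smul]
        · rw [mem_eig] at hx
          rw [← lin_mul g v, hgv, lin_mul, lin_mul]
          have hgx : lin g x ∈ eig u ((w' : F) ^ j) := by
            rw [mem_eig, ← lin_mul, ← hgu, lin_mul, hx, map_smul]
          have : lin v (lin g x) ∈ eig u ((w' : F) ^ j) := by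
            rw [mem_eig] at hgx ⊢
            rw [← lin_mul, hrel, lin_mul, hgx, map_smul]
          rw [mem_eig.1 this]
          simp
    have h3 : r * (r * finrank F E) ≤ r * (2 * n) := by
      calc r * (r * finrank F E) ≤ r * (r * ∑ j ∈ Finset.range r, finrank F ↥(E ⊓ eig u ((w' : F) ^ j))) :=
            Nat.mul_le_mul_left r (Nat.mul_le_mul_left r h1)
        _ ≤ ∑ j ∈ Finset.range r, if j = 0 then r * n else n := by
            rw [Finset.mul_sum, Finset.mul_sum]; exact Finset.sum_le_sum h2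
        _ ≤ ∑ j ∈ Finset.range r, ((if j = 0 then r * n else 0) + n) :=
            Finset.sum_le_sum fun j _ => by split <;> omega
        _ = r * n + r * n := by
            rw [Finset.sum_add_distrib, Finset.sum_ite_eq', if_pos (Finset.mem_range.2 H.hr.pos)]; simp
        _ = r * (2 * n) := by ring
    exact Nat.le_of_mul_le_mul_left h3 H.hr.pos
  · -- `g` is quadratic along the orbit of `v`
    have hwi : (w⁻¹ : Fˣ) ^ r = 1 := by rw [inv_pow, hw, inv_one]
    have hwi1 : w⁻¹ ≠ 1 := by simpa using hw1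
    have h1 := finrank_le_sum H.hr E u hur hEu hwi hwi1
    set e : ℕ → F := fun t => c * ((w⁻¹ : Fˣ) : F) ^ (∑ s ∈ Finset.range t, s) with he
    have hmap : ∀ t : ℕ, ∀ c' : F, ∀ x ∈ eig g c' ⊓ eig u (((w⁻¹ : Fˣ) : F) ^ t),
        lin (v ^ t) x ∈ eig u 1 ⊓ eig g (c' * ((w⁻¹ : Fˣ) : F) ^ (∑ s ∈ Finset.range t, s)) := by
      intro t
      induction t with
      | zero =>
        rintro c' x ⟨hx1, hx2⟩
        rw [pow_zero] at hx2
        simp only [pow_zero, lin_one, Finset.range_zero, Finset.sum_empty, mul_one]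
        exact ⟨hx2, hx1⟩
      | succ t ih =>
        rintro c' x ⟨hx1, hx2⟩
        rw [SetLike.mem_coe, mem_eig] at hx1 hx2
        rw [pow_succ, lin_mul]
        have hstep : lin v x ∈ eig g (c' * ((w⁻¹ : Fˣ) : F) ^ t) ⊓ eig u (((w⁻¹ : Fˣ) : F) ^ t) := by
          have hu' : lin u (lin v x) = (((w⁻¹ : Fˣ) : F) ^ t) • lin v x := by
            rw [← lin_mul, hrel, lin_mul, lin_sc, lin_mul, hx2, map_smul, smul_smul, pow_succ',
              ← mul_assoc, Units.mul_inv, one_mul]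
          refine ⟨?_, mem_eig.2 hu'⟩
          rw [SetLike.mem_coe, mem_eig, ← lin_mul, hgv, lin_mul, lin_mul, hx1, map_smul, map_smul, hu', smul_smul]
        have h := ih _ _ hstep
        rw [Finset.sum_range_succ, Nat.add_comm _ t, pow_add, ← mul_assoc]
        exact h
    have h2 : finrank F E ≤ ∑ t ∈ Finset.range r, finrank F ↥(eig u 1 ⊓ eig g (e t)) :=
      h1.trans (Finset.sum_le_sum fun t _ => finrank_le_of_maps (v ^ t) (hmap t c))
    have h3 := sum_eig_le (eig u 1) g (Finset.range r) e 2 fun t ht => by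
      haveI := Fact.mk H.hr
      refine le_trans (Finset.card_le_card (t := {t, ((1 : ZMod r) - (t : ZMod r)).val}) fun a ha => ?_)
        Finset.card_le_two
      simp only [Finset.mem_filter, Finset.mem_range] at ha ht
      simp only [Finset.mem_insert, Finset.mem_singleton]
      have h4 : (w⁻¹ : Fˣ) ^ (∑ s ∈ Finset.range a, s) = (w⁻¹ : Fˣ) ^ (∑ s ∈ Finset.range t, s) :=
        Units.ext (by simpa [he] using mul_left_cancel₀ hc ha.2)
      rw [pow_eq_pow_iff_modEq, pow_inj_of_prime H.hr hwi hwi1, ← ZMod.natCast_eq_natCast_iff] at h4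
      have h5 : ∀ m : ℕ, (2 : ZMod r) * ((∑ s ∈ Finset.range m, s : ℕ) : ZMod r) = (m : ZMod r) * ((m : ZMod r) - 1) := by
        intro m
        rcases m with _ | m
        · simp
        · have := congrArg (Nat.cast : ℕ → ZMod r) (Finset.sum_range_id_mul_two (m + 1))
          simp only [Nat.add_sub_cancel, Nat.cast_mul, Nat.cast_add, Nat.cast_one, Nat.cast_ofNat] at this
          rw [mul_comm, this, Nat.cast_add, Nat.cast_one, add_sub_cancel_right]
      have h6 : ((a : ZMod r) - t) * ((a : ZMod r) + t - 1) = 0 := by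
        have := h5 a
        rw [h4, h5 t] at this
        linear_combination -this
      rcases mul_eq_zero.1 h6 with h7 | h7
      · left
        have := congrArg ZMod.val (sub_eq_zero.1 h7)
        rwa [ZMod.val_cast_of_lt ha.1, ZMod.val_cast_of_lt ht] at this
      · right
        rw [show (1 : ZMod r) - (t : ZMod r) = (a : ZMod r) by linear_combination -h7, ZMod.val_cast_of_lt ha.1]
    have h4 := H.shift_bound hum hvu (one_ne_zero : (1 : F) ≠ 0)
    calc r * finrank F E ≤ r * (2 * finrank F ↥(eig u (1 : F))) := Nat.mul_le_mul_left r (h2.trans h3)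
      _ = 2 * (r * finrank F ↥(eig u (1 : F))) := by ring
      _ ≤ 2 * n := Nat.mul_le_mul_left 2 h4

/-- All the bounds. -/
theorem Hyp.bounds (H : Hyp RZ g r o) (c : F) :
    (o = 2 → 4 * finrank F ↥(eig g c) ≤ 3 * n) ∧
    (o ≠ 2 → 2 * finrank F ↥(eig g c) ≤ n ∨ (o = 3 ∧ r = 3 ∧ 3 * finrank F ↥(eig g c) ≤ 2 * n)) := by
  rcases eq_or_ne c 0 with rfl | hc
  · rw [eig_zero, finrank_bot]; simp
  set d := finrank F ↥(eig g c) with hd
  by_cases hno : ∀ y ∈ RZ, ⁅g, y⁆ ∈ 𝕊 → ⁅g, y⁆ = 1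
  swap
  · push Not at hno
    obtain ⟨y, hy, h1, h2⟩ := hno
    have := H.scalar_bound hy h1 h2 hc
    rw [← hd] at this
    have h2r : 2 * d ≤ r * d := Nat.mul_le_mul_right _ H.hr.two_le
    exact ⟨fun _ => by omega, fun _ => Or.inl (by omega)⟩
  have hgen : r * (2 * d - n) ≤ n := by
    obtain ⟨y, hy, hyu⟩ := H.exists_nonscalar hno
    have h1 := H.two_mul_le y hc (eig ⁅g, y⁆ 1) (fun x _ hx _ => by rw [mem_eig, one_smul]; exact hx)
    have h2 := H.shift_bound (H.u_mem hy) hyu (one_ne_zero : (1 : F) ≠ 0)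
    rw [← hd] at h1
    exact le_trans (Nat.mul_le_mul_left r (by omega)) h2
  refine ⟨fun _ => ?_, fun ho2 => ?_⟩
  · have : 2 * (2 * d - n) ≤ n := le_trans (Nat.mul_le_mul_right _ H.hr.two_le) hgen
    omega
  have hodd : Odd o := H.ho.odd_of_ne_two ho2
  rcases eq_or_ne r 2 with hr2 | hr2
  · obtain ⟨y, hy, hne⟩ := H.exists_noncomm_two hodd hno
    exact Or.inl (H.half_of_two hr2 hy hne hc)
  by_cases hor : o = r
  · have hb := H.bound_r hor hr2 hno hc
    rw [← hd] at hb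
    have h2 := H.hr.two_le
    by_cases h3 : r = 3
    · subst h3
      exact Or.inr ⟨hor, rfl, by omega⟩
    · have h4 : r ≠ 4 := fun h => by rw [h] at H; exact absurd H.hr (by norm_num)
      have h5 : 5 * d ≤ r * d := Nat.mul_le_mul_right _ (by omega)
      exact Or.inl (by omega)
  · obtain ⟨y, hy, hne⟩ := H.exists_noncomm hor hodd hno
    exact Or.inl (H.half_of_noncomm hy hne hc)

end CfsgLib.ExtraEigen
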