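import Mathlib

/-!
The smallest faithful module of an extraspecial group over a prime field of another characteristic.
-/

set_option autoImplicit false

namespace CfsgLib.ExtraFaithful

open scoped commutatorElement
open Finset

universe u v

variable {p r : ℕ}

theorem pow_mul_two {E : Type u} [Group E] {a b c : E} (hc : ∀ g, Commute g c) (hba : b * a = a * b * c) (n : ℕ) :
    (a * b) ^ n = a ^ n * b ^ n * c ^ (n.choose 2) := by
  have hb : ∀ n : ℕ, b ^ n * a = a * b ^ n * c ^ n := by
    intro n
    induction n with
    | zero => simp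
    | succ n ih =>
      rw [pow_succ, mul_assoc, hba, ← mul_assoc, ← mul_assoc, ih, pow_succ c n]
      rw [mul_assoc (a * b ^ n) (c ^ n) b, ((hc b).pow_right n).symm.eq]
      group
  induction n with
  | zero => simp
  | succ n ih =>
    rw [pow_succ, ih, pow_succ a, pow_succ b, Nat.choose_succ_succ, Nat.choose_one_right, pow_add]
    calc a ^ n * b ^ n * c ^ n.choose 2 * (a * b)
        = a ^ n * (b ^ n * a) * b * c ^ n.choose 2 := by
          rw [mul_assoc (a ^ n * b ^ n), ((hc (a * b)).pow_right _).symm.eq]; group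
      _ = a ^ n * (a * b ^ n * c ^ n) * b * c ^ n.choose 2 := by rw [hb]
      _ = a ^ n * a * (b ^ n * (c ^ n * b)) * c ^ n.choose 2 := by group
      _ = a ^ n * a * (b ^ n * b) * (c ^ n * c ^ n.choose 2) := by
          rw [((hc b).pow_right n).symm.eq]; group

/-- The norm of an automorphism. -/
def norm {V : Type v} [CommGroup V] (p : ℕ) (f : MulAut V) : V →* V where
  toFun v := ∏ i ∈ range p, (f ^ i) v
  map_one' := by simp
  map_mul' a b := by simp [prod_mul_distrib]

theorem norm_fixed {V : Type v} [CommGroup V] {f : MulAut V} (hf : f ^ p = 1) (a : V) :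
    f (norm p f a) = norm p f a := by
  have h1 : ∀ i, f ((f ^ i) a) = (f ^ (i + 1)) a := fun i => by rw [pow_succ']; rfl
  show f (∏ i ∈ range p, (f ^ i) a) = ∏ i ∈ range p, (f ^ i) a
  rw [map_prod, prod_congr rfl fun i _ => h1 i]
  have h2 := prod_range_succ' (fun i => (f ^ i) a) p
  rw [prod_range_succ, hf] at h2
  simpa using h2.symm

theorem le_dim {n : ℕ} [Fact p.Prime] [Fact r.Prime] (hmin : ∀ k : ℕ, 1 ≤ k → p ∣ r ^ k - 1 → n ≤ k)
    {V : Type v} [CommGroup V] [Finite V] [Nontrivial V] (hV : ∀ v : V, v ^ r = 1) (f : MulAut V) (hf : f ^ p = 1)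
    (hfix : ∀ v, f v = v → v = 1) : r ^ n ≤ Nat.card V := by
  classical
  obtain ⟨d, hd⟩ := (IsPGroup.of_card (G := V) (p := r) (n := (Nat.card V).factorization r) (by
    obtain ⟨k, hk⟩ := (show IsPGroup r V from fun v => ⟨1, by rw [pow_one]; exact hV v⟩).exists_card_eq
    rw [hk, (Fact.out : r.Prime).factorization_pow, Finsupp.single_eq_same])).exists_card_eq
  haveI := Fintype.ofFinite V
  let σ : Equiv.Perm V := f.toEquiv
  have hσ : σ ^ p ^ 1 = 1 := by
    ext1 a
    rw [pow_one, Equiv.Perm.coe_pow, Equiv.Perm.one_apply]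
    have : ∀ i : ℕ, (⇑σ)^[i] a = (f ^ i) a := by
      intro i
      induction i with
      | zero => rfl
      | succ i ih => rw [Function.iterate_succ_apply', ih, pow_succ']; rfl
    rw [this, hf]; rfl
  have h := Equiv.Perm.card_compl_support_modEq hσ
  have e : σ.supportᶜ = {1} := by
    ext a
    simp only [Finset.mem_compl, Equiv.Perm.mem_support, not_not, Finset.mem_singleton]
    exact ⟨fun ha => hfix a ha, fun ha => by subst ha; exact map_one f⟩
  rw [e, Finset.card_singleton, ← Nat.card_eq_fintype_card, hd] at h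
  have hd1 : 1 ≤ d := by
    by_contra h0
    push Not at h0
    interval_cases d
    exact absurd hd (Finite.one_lt_card (α := V)).ne'
  have hdvd : p ∣ r ^ d - 1 := (Nat.modEq_iff_dvd' (Nat.one_le_pow _ _ (Fact.out : r.Prime).pos)).mp h
  rw [hd]
  exact Nat.pow_le_pow_right (Fact.out : r.Prime).pos (hmin d hd1 hdvd)

/-- The bound, by induction on the width. -/
theorem bound {n : ℕ} [Fact p.Prime] [Fact r.Prime] (hpr : p ≠ r)
    (hmin : ∀ k : ℕ, 1 ≤ k → p ∣ r ^ k - 1 → n ≤ k) (hn2 : p = 2 → n ≤ 1) :
    ∀ (k : ℕ) (E : Type u) [Group E] [Finite E] (z : E), Nat.card E = p ^ (2 * k + 1) → orderOf z = p →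
      (∀ g : E, Commute g z) → (∀ g h : E, ⁅g, h⁆ ∈ Subgroup.zpowers z) →
      (∀ g : E, (∀ h, Commute g h) → g ∈ Subgroup.zpowers z) →
      ∀ (V : Type v) [CommGroup V] [Finite V] [Nontrivial V], (∀ v : V, v ^ r = 1) →
        ∀ φ : E →* MulAut V, (∀ v, φ z v = v → v = 1) → r ^ (n * p ^ k) ≤ Nat.card V := by
  intro k
  induction k with
  | zero =>
    intro E _ _ z _ hz _ _ _ V _ _ _ hV φ hfix
    rw [pow_zero, mul_one]
    exact le_dim hmin hV (φ z) (by rw [← map_pow, ← hz, pow_orderOf_eq_one, map_one]) hfix
  | succ k ih =>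
    intro E _ _ z hcard hz hzc hcomm hcen V _ _ _ hV φ hfix
    classical
    have hp := (Fact.out : p.Prime)
    have hzp : z ^ p = 1 := by rw [← hz, pow_orderOf_eq_one]
    have hzmem : ∀ c ∈ Subgroup.zpowers z, ∀ g, Commute g c := by
      rintro _ ⟨i, rfl⟩ g
      exact (hzc g).zpow_right i
    have hczp : ∀ c ∈ Subgroup.zpowers z, c ^ p = 1 := by
      rintro _ ⟨i, rfl⟩
      rw [← zpow_natCast, ← zpow_mul, mul_comm, zpow_mul, zpow_natCast, hzp, one_zpow]
    have hswap : ∀ a b : E, b * a = a * b * ⁅a⁻¹, b⁻¹⁆⁻¹ := fun a b => by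
      simp only [commutatorElement_def]; group
    have hpow : ∀ g : E, g ^ p ∈ Subgroup.zpowers z := by
      intro g
      refine hcen _ fun h => ?_
      have hc := hzmem _ (hcomm g h)
      have key : ∀ i : ℕ, g ^ i * h = ⁅g, h⁆ ^ i * h * g ^ i := by
        intro i
        induction i with
        | zero => simp
        | succ i ih =>
          calc g ^ (i + 1) * h = g * (g ^ i * h) := by rw [pow_succ']; group
            _ = g * ⁅g, h⁆ ^ i * h * g ^ i := by rw [ih]; group
            _ = ⁅g, h⁆ ^ i * (g * h) * g ^ i := by rw [((hc g).pow_right i).eq]; group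
            _ = ⁅g, h⁆ ^ i * (⁅g, h⁆ * (h * g)) * g ^ i := by
                rw [show ⁅g, h⁆ * (h * g) = g * h by simp only [commutatorElement_def]; group]
            _ = _ := by rw [pow_succ, pow_succ']; group
      show g ^ p * h = h * g ^ p
      rw [key p, hczp _ (hcomm g h), one_mul]
    have hk1 : Nat.card (Subgroup.zpowers z) = p := by rw [Nat.card_zpowers, hz]
    by_cases hex : ∃ x : E, x ∉ Subgroup.zpowers z ∧ x ^ p = 1
    · obtain ⟨x, hx, hxp⟩ := hex
      obtain ⟨y, hy⟩ : ∃ y, ¬ Commute x y := by
        by_contra hn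
        push Not at hn
        exact hx (hcen x hn)
      have hc1 : ⁅y, x⁆ ≠ 1 := fun h => hy (commutatorElement_eq_one_iff_commute.mp h).symm
      -- the commutator maps
      let τ : E → E →* Subgroup.zpowers z := fun a =>
        { toFun := fun g => ⟨⁅g, a⁆, hcomm g a⟩
          map_one' := Subtype.ext (commutatorElement_one_left a)
          map_mul' := fun g h => Subtype.ext (by
            show ⁅g * h, a⁆ = ⁅g, a⁆ * ⁅h, a⁆
            calc ⁅g * h, a⁆ = g * ⁅h, a⁆ * g⁻¹ * ⁅g, a⁆ := by simp only [commutatorElement_def]; group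
              _ = ⁅h, a⁆ * ⁅g, a⁆ := by rw [(hzmem _ (hcomm h a) g).eq]; group
              _ = _ := (hzmem _ (hcomm g a) ⁅h, a⁆).eq) }
      have hgen : ∀ c : Subgroup.zpowers z, ∀ d : Subgroup.zpowers z, c ≠ 1 → ∃ i : ℕ, c ^ i = d := by
        intro c d hc
        have hcc : orderOf c = p := orderOf_eq_prime (Subtype.ext (hczp c c.2)) hc
        have h1 : Subgroup.zpowers c = ⊤ :=
          Subgroup.eq_top_of_card_eq _ (by rw [Nat.card_zpowers, hcc, hk1])
        exact mem_powers_iff_mem_zpowers.mpr (h1 ▸ Subgroup.mem_top d)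
      let τ2 : E →* Subgroup.zpowers z × Subgroup.zpowers z := (τ x).prod (τ y)
      have hxy' : τ x y ≠ 1 := fun h => hc1 (congrArg Subtype.val h)
      have hyx' : τ y x ≠ 1 := fun h => hy (commutatorElement_eq_one_iff_commute.mp (congrArg Subtype.val h))
      have hτxx : τ x x = 1 := Subtype.ext (commutatorElement_self x)
      have hτyy : τ y y = 1 := Subtype.ext (commutatorElement_self y)
      have hsur : Function.Surjective τ2 := by
        rintro ⟨d, d'⟩
        obtain ⟨i, hi⟩ := hgen _ d hxy'
        obtain ⟨j, hj⟩ := hgen _ d' hyx'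
        refine ⟨y ^ i * x ^ j, ?_⟩
        show (τ x (y ^ i * x ^ j), τ y (y ^ i * x ^ j)) = (d, d')
        simp [map_mul, map_pow, hτxx, hτyy, hi, hj]
      set E' := τ2.ker with hE'
      have hmemE' : ∀ g, g ∈ E' ↔ ⁅g, x⁆ = 1 ∧ ⁅g, y⁆ = 1 := fun g => by
        rw [hE', MonoidHom.mem_ker]
        exact ⟨fun h => ⟨congrArg (fun q => (q.1 : E)) h, congrArg (fun q => (q.2 : E)) h⟩,
          fun h => Prod.ext (Subtype.ext h.1) (Subtype.ext h.2)⟩
      have hzE : z ∈ E' := (hmemE' z).mpr
        ⟨commutatorElement_eq_one_iff_commute.mpr (hzc x).symm, commutatorElement_eq_one_iff_commute.mpr (hzc y).symm⟩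
      have hcard' : Nat.card E' = p ^ (2 * k + 1) := by
        have h1 := E'.card_mul_index
        rw [hE', Subgroup.index_ker, MonoidHom.range_eq_top.mpr hsur, Subgroup.card_top, Nat.card_prod, hk1,
          hcard, ← hE'] at h1
        refine Nat.eq_of_mul_eq_mul_right (Nat.mul_pos hp.pos hp.pos) ?_
        rw [h1]; ring
      set f := φ x with hf
      set ζ := φ z with hζ
      let W : Subgroup V :=
        { carrier := {v | f v = v}
          one_mem' := map_one f
          mul_mem' := fun {a b} ha hb => by simp only [Set.mem_setOf_eq] at *; rw [map_mul, ha, hb]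
          inv_mem' := fun {a} ha => by simp only [Set.mem_setOf_eq] at *; rw [map_inv, ha] }
      have hmul : ∀ a b : E, ∀ v, φ (a * b) v = φ a (φ b v) := fun a b v => by rw [map_mul]; rfl
      have hWinv : ∀ g : E, Commute g x → ∀ v ∈ W, φ g v ∈ W := fun g hg v hv => by
        show f (φ g v) = φ g v
        rw [hf, ← hmul, ← hg.eq, hmul, show φ x v = v from hv]
      let ψ : E' →* MulAut W :=
        { toFun := fun g =>
            { toFun := fun v => ⟨φ g v, hWinv g (commutatorElement_eq_one_iff_commute.mp ((hmemE' g).mp g.2).1) v v.2⟩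
              invFun := fun v => ⟨φ ((g : E)⁻¹) v,
                hWinv _ (commutatorElement_eq_one_iff_commute.mp ((hmemE' g).mp g.2).1).inv_left v v.2⟩
              left_inv := fun v => Subtype.ext (by
                show φ ((g : E)⁻¹) (φ g v) = v
                rw [← hmul, inv_mul_cancel, map_one]; rfl)
              right_inv := fun v => Subtype.ext (by
                show φ g (φ ((g : E)⁻¹) v) = v
                rw [← hmul, mul_inv_cancel, map_one]; rfl)
              map_mul' := fun a b => Subtype.ext (map_mul _ _ _) }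
          map_one' := MulEquiv.ext fun v => Subtype.ext (by show φ 1 (v : V) = v; rw [map_one]; rfl)
          map_mul' := fun a b => MulEquiv.ext fun v => Subtype.ext (hmul a b v) }
      -- conjugates of `W`
      obtain ⟨j, hj⟩ : ∃ j : ℕ, z ^ j = ⁅y, x⁆ := mem_powers_iff_mem_zpowers.mpr (hcomm y x)
      have hyx : ∀ i : ℕ, y ^ i * x = x * z ^ (j * i) * y ^ i := by
        intro i
        induction i with
        | zero => simp
        | succ i ih =>
          calc y ^ (i + 1) * x = y * (y ^ i * x) := by rw [pow_succ']; group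
            _ = (y * x) * z ^ (j * i) * y ^ i := by rw [ih]; group
            _ = ⁅y, x⁆ * x * (y * z ^ (j * i)) * y ^ i := by simp only [commutatorElement_def]; group
            _ = (z ^ j * x) * (z ^ (j * i) * y) * y ^ i := by rw [hj, ((hzc y).pow_right _).eq]
            _ = x * (z ^ j * z ^ (j * i)) * (y * y ^ i) := by rw [((hzc x).pow_right j).symm.eq]; group
            _ = _ := by rw [← pow_add, ← pow_succ']; congr 3; ring
      let W' : Fin p → Subgroup V := fun i => W.map (φ (y ^ (i : ℕ))).toMonoidHom
      have hW'fix : ∀ (i : Fin p), ∀ v ∈ W' i, φ (x * z ^ (j * (i : ℕ))) v = v := by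
        rintro i _ ⟨v, hv, rfl⟩
        show φ (x * z ^ (j * (i : ℕ))) (φ (y ^ (i : ℕ)) v) = φ (y ^ (i : ℕ)) v
        rw [← hmul, ← hyx, hmul, show φ x v = v from hv]
      have hjp : ¬ p ∣ j := fun hd => hc1 (by
        obtain ⟨t, rfl⟩ := hd
        rw [← hj, pow_mul, hzp, one_pow])
      have hN0 : ∀ a : E, a ^ p = 1 → ∀ v, φ a v = v → norm p (φ a) v = v ^ p := by
        intro a _ v hv
        show ∏ i ∈ range p, ((φ a) ^ i) v = v ^ p
        have key : ∀ i : ℕ, ((φ a) ^ i) v = v := by
          intro i
          induction i with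
          | zero => rfl
          | succ i ih => rw [pow_succ']; show φ a (((φ a) ^ i) v) = v; rw [ih, hv]
        rw [prod_congr rfl fun i _ => key i, prod_const, card_range]
      have hN1 : ∀ (a : E) (t : ℕ), a ^ p = 1 → ¬ p ∣ t → Commute a z → ∀ v, φ (a * z ^ t) v = v →
          norm p (φ a) v = 1 := by
        intro a t ha ht haz v hv
        have hnf : φ a (norm p (φ a) v) = norm p (φ a) v := norm_fixed (by rw [← map_pow, ha, map_one]) v
        have hzn : φ (z ^ t) (norm p (φ a) v) = norm p (φ a) v := by
          have hcm : ∀ (g : E), Commute g a → ∀ w, φ g (norm p (φ a) w) = norm p (φ a) (φ g w) := by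
            intro g hg w
            show φ g (∏ i ∈ range p, ((φ a) ^ i) w) = ∏ i ∈ range p, ((φ a) ^ i) (φ g w)
            rw [map_prod]
            refine prod_congr rfl fun i _ => ?_
            rw [← map_pow, ← hmul, ← hmul, (hg.pow_right i).eq]
          calc φ (z ^ t) (norm p (φ a) v) = φ (z ^ t) (φ a (norm p (φ a) v)) := by rw [hnf]
            _ = φ (a * z ^ t) (norm p (φ a) v) := by rw [← hmul, (haz.pow_right t).eq]
            _ = norm p (φ a) v := by
              rw [hcm _ ((Commute.refl a).mul_left (haz.pow_right t).symm), hv]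
        have hcop : t.Coprime (orderOf z) := by
          rw [hz]; exact (hp.coprime_iff_not_dvd.mpr ht).symm
        obtain ⟨m, hm⟩ := exists_pow_eq_self_of_coprime hcop
        refine hfix _ ?_
        have : ∀ i : ℕ, φ ((z ^ t) ^ i) (norm p (φ a) v) = norm p (φ a) v := by
          intro i
          induction i with
          | zero => rw [pow_zero, map_one]; rfl
          | succ i ih => rw [pow_succ', hmul, ih, hzn]
        have h := this m
        rwa [hm] at h
      have hinj : Function.Injective (fun w : (∀ i : Fin p, W' i) => ∏ i, (w i : V)) := by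
        let Φ : (∀ i : Fin p, W' i) →* V :=
          { toFun := fun w => ∏ i, (w i : V), map_one' := by simp, map_mul' := fun a b => by simp [prod_mul_distrib] }
        change Function.Injective Φ
        rw [injective_iff_map_eq_one]
        intro w hw
        funext i
        refine Subtype.ext ?_
        set a := x * z ^ (j * (i : ℕ)) with ha
        have hap : a ^ p = 1 := by
          rw [ha, ((hzc x).pow_right _).mul_pow, hxp, ← pow_mul, mul_comm, pow_mul, hzp, one_pow, one_mul]
        have haz : Commute a z := hzc a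
        have h1 : ∀ i' : Fin p, i' ≠ i → norm p (φ a) (w i' : V) = 1 := by
          intro i' hne
          have hv := hW'fix i' _ (w i').2
          have h2 : a * z ^ (j * ((i' : ℕ) + (p - (i : ℕ)))) = x * z ^ (j * (i' : ℕ)) := by
            rw [ha, mul_assoc, ← pow_add, show j * (i : ℕ) + j * ((i' : ℕ) + (p - (i : ℕ))) = j * (i' : ℕ) + p * j by
              rw [← Nat.mul_add, show (i : ℕ) + ((i' : ℕ) + (p - (i : ℕ))) = (i' : ℕ) + p by omega]; ring,
              pow_add, pow_mul z p j, hzp, one_pow, mul_one]
          refine hN1 a _ hap ?_ haz _ (h2 ▸ hv)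
          intro hd
          rcases hp.dvd_mul.mp hd with hd | hd
          · exact hjp hd
          · apply hne
            have hi := i.2
            have hi' := i'.2
            obtain ⟨t, ht⟩ := hd
            apply Fin.ext
            rcases t with _ | _ | t
            · omega
            · omega
            · rw [show p * (t + 1 + 1) = p * t + p + p by ring] at ht
              omega
        have h3 : norm p (φ a) (∏ i', (w i' : V)) = norm p (φ a) (w i : V) := by
          rw [map_prod]
          exact Finset.prod_eq_single i (fun i' _ h => h1 i' h) (fun h => absurd (mem_univ i) h)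
        rw [show (∏ i', (w i' : V)) = 1 from hw, map_one, hN0 a hap _ (hW'fix i _ (w i).2)] at h3
        have h4 : orderOf (w i : V) ∣ Nat.gcd p r :=
          Nat.dvd_gcd (orderOf_dvd_of_pow_eq_one h3.symm) (orderOf_dvd_of_pow_eq_one (hV _))
        rw [(Nat.coprime_primes hp (Fact.out : r.Prime)).mpr hpr, Nat.dvd_one, orderOf_eq_one_iff] at h4
        exact h4
      have hle := Nat.card_le_card_of_injective _ hinj
      rw [Nat.card_pi] at hle
      have hcW : ∀ i, Nat.card (W' i) = Nat.card W := fun i =>
        Subgroup.card_map_of_injective (φ (y ^ (i : ℕ))).injective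
      simp only [hcW, prod_const, Finset.card_univ, Fintype.card_fin] at hle
      haveI : Nontrivial W := by
        rw [Subgroup.nontrivial_iff_ne_bot]
        intro hW
        have hfree : ∀ v, f v = v → v = 1 := fun v hv => by
          have : v ∈ W := hv
          rwa [hW, Subgroup.mem_bot] at this
        -- some product of norms is the `p`-th power
        obtain ⟨v, hv⟩ := exists_ne (1 : V)
        apply hv
        have hnorms : ∀ i : ℕ, norm p (φ (x * z ^ (j * i))) v = 1 := by
          intro i
          have hap : (x * z ^ (j * i)) ^ p = 1 := by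
            rw [((hzc x).pow_right _).mul_pow, hxp, ← pow_mul, mul_comm, pow_mul, hzp, one_pow, one_mul]
          have h1 := norm_fixed (f := φ (x * z ^ (j * i))) (by rw [← map_pow, hap, map_one]) v
          have h2 : φ x (φ ((y ^ i)⁻¹) (norm p (φ (x * z ^ (j * i))) v)) =
              φ ((y ^ i)⁻¹) (norm p (φ (x * z ^ (j * i))) v) := by
            conv_rhs => rw [← h1]
            rw [← hmul, ← hmul]
            congr 2
            rw [eq_inv_mul_iff_mul_eq, ← mul_assoc, hyx, mul_assoc, mul_inv_cancel, mul_one]
          have h3 := hfree _ h2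
          rw [← map_one (φ ((y ^ i)⁻¹))] at h3
          exact (φ ((y ^ i)⁻¹)).injective h3
        have hsum : ∏ i ∈ range p, norm p (φ (x * z ^ (j * i))) v = v ^ p := by
          show ∏ i ∈ range p, ∏ l ∈ range p, ((φ (x * z ^ (j * i))) ^ l) v = v ^ p
          rw [prod_comm, prod_range_eq_mul_Ico _ hp.pos]
          have h0 : ∏ i ∈ range p, ((φ (x * z ^ (j * i))) ^ 0) v = v ^ p := by simp
          rw [h0]
          convert mul_one (v ^ p) using 2
          refine prod_eq_one fun l hl => ?_
          rw [mem_Ico] at hl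
          have e : ∀ i, ((φ (x * z ^ (j * i))) ^ l) v = ((φ (z ^ (j * l))) ^ i) (φ (x ^ l) v) := by
            intro i
            rw [← map_pow, ← map_pow, ((hzc x).pow_right _).mul_pow, ← hmul]
            congr 2
            rw [← pow_mul, ← pow_mul, mul_right_comm j i l, ((hzc (x ^ l)).pow_right _).eq]
          rw [prod_congr rfl fun i _ => e i]
          have hne : ¬ p ∣ j * l := fun hd => by
            rcases hp.dvd_mul.mp hd with hd | hd
            · exact hjp hd
            · have := Nat.le_of_dvd (by omega) hd; omega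
          have h5 := norm_fixed (f := φ (z ^ (j * l))) (p := p)
            (by rw [← map_pow, ← pow_mul, mul_comm, pow_mul, hzp, one_pow, map_one]) (φ (x ^ l) v)
          have hcop : (j * l).Coprime (orderOf z) := by rw [hz]; exact (hp.coprime_iff_not_dvd.mpr hne).symm
          obtain ⟨m, hm⟩ := exists_pow_eq_self_of_coprime hcop
          refine hfix _ ?_
          have : ∀ i : ℕ, φ ((z ^ (j * l)) ^ i) (norm p (φ (z ^ (j * l))) (φ (x ^ l) v)) =
              norm p (φ (z ^ (j * l))) (φ (x ^ l) v) := by
            intro i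
            induction i with
            | zero => rw [pow_zero, map_one]; rfl
            | succ i ih => rw [pow_succ', hmul, ih, h5]
          have h6 := this m
          rwa [hm] at h6
        rw [prod_eq_one fun i _ => hnorms i] at hsum
        have h4 : orderOf v ∣ Nat.gcd p r :=
          Nat.dvd_gcd (orderOf_dvd_of_pow_eq_one hsum.symm) (orderOf_dvd_of_pow_eq_one (hV _))
        rw [(Nat.coprime_primes hp (Fact.out : r.Prime)).mpr hpr, Nat.dvd_one, orderOf_eq_one_iff] at h4
        exact h4
      have hcenE : ∀ g : E', (∀ h, Commute g h) → g ∈ Subgroup.zpowers (⟨z, hzE⟩ : E') := by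
        intro g hg
        have hgx := commutatorElement_eq_one_iff_commute.mp ((hmemE' g).mp g.2).1
        have hgy := commutatorElement_eq_one_iff_commute.mp ((hmemE' g).mp g.2).2
        obtain ⟨i, hi⟩ := hcen (g : E) fun h => by
          obtain ⟨a, ha⟩ := hgen _ (τ x h) hxy'
          obtain ⟨b, hb⟩ := hgen _ (τ y h) hyx'
          have hh : (y ^ a * x ^ b)⁻¹ * h ∈ E' := by
            rw [hE', MonoidHom.mem_ker, map_mul, map_inv]
            show (τ x (y ^ a * x ^ b), τ y (y ^ a * x ^ b))⁻¹ * (τ x h, τ y h) = 1
            simp [map_mul, map_pow, hτxx, hτyy, ha, hb]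
          have h1 : Commute (g : E) ((y ^ a * x ^ b)⁻¹ * h) := congrArg Subtype.val (hg ⟨_, hh⟩).eq
          have h2 : Commute (g : E) (y ^ a * x ^ b) := (hgy.pow_right a).mul_right (hgx.pow_right b)
          have := h2.mul_right h1
          rwa [mul_inv_cancel_left] at this
        exact ⟨i, Subtype.ext (by simpa using hi)⟩
      have hcommE : ∀ g h : E', ⁅g, h⁆ ∈ Subgroup.zpowers (⟨z, hzE⟩ : E') := by
        intro g h
        obtain ⟨i, hi⟩ := hcomm g h
        exact ⟨i, Subtype.ext (by simpa [commutatorElement_def] using hi)⟩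
      have hW := ih E' ⟨z, hzE⟩ hcard' (by rw [Subgroup.orderOf_mk]; exact hz)
        (fun g => Subtype.ext (hzc g)) hcommE hcenE W (fun v => Subtype.ext (hV v)) ψ
        (fun v hv => Subtype.ext (hfix v (congrArg Subtype.val hv)))
      calc r ^ (n * p ^ (k + 1)) = (r ^ (n * p ^ k)) ^ p := by rw [← pow_mul]; ring_nf
        _ ≤ Nat.card W ^ p := Nat.pow_le_pow_left hW p
        _ ≤ Nat.card V := hle
    · push Not at hex
      have hp2 : p = 2 := by
        by_contra hne
        have hodd : p ∣ p.choose 2 := by
          rw [Nat.choose_two_right]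
          obtain ⟨t, ht⟩ := hp.odd_of_ne_two hne
          exact ⟨t, by rw [show p - 1 = 2 * t by omega, show p * (2 * t) = p * t * 2 by ring, Nat.mul_div_cancel _ two_pos]⟩
        let P : E →* Subgroup.zpowers z :=
          { toFun := fun g => ⟨g ^ p, hpow g⟩
            map_one' := Subtype.ext (one_pow p)
            map_mul' := fun a b => Subtype.ext (by
              show (a * b) ^ p = a ^ p * b ^ p
              have hcm : ⁅a⁻¹, b⁻¹⁆⁻¹ ∈ Subgroup.zpowers z := inv_mem (hcomm a⁻¹ b⁻¹)
              obtain ⟨t, ht⟩ := hodd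
              rw [pow_mul_two (hzmem _ hcm) (hswap a b), ht, pow_mul, hczp _ hcm, one_pow, mul_one]) }
        have hle : P.ker ≤ Subgroup.zpowers z := fun g hg => by
          by_contra hgz
          exact hex g hgz (congrArg Subtype.val hg)
        have h1 := P.ker.card_mul_index
        rw [Subgroup.index_ker, hcard] at h1
        have h2 : Nat.card P.range ≤ p := hk1 ▸ Subgroup.card_le_card_group _
        have h3 : Nat.card P.ker ≤ p := hk1 ▸ Subgroup.card_le_of_le hle
        have h4 : p ^ 3 ≤ p ^ (2 * (k + 1) + 1) := Nat.pow_le_pow_right hp.pos (by omega)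
        have h5 : p ^ 3 = p * p * p := by ring
        have := Nat.mul_le_mul h3 h2
        have := hp.two_le
        nlinarith
      subst hp2
      have hsq : ∀ g : E, g ∉ Subgroup.zpowers z → g * g = z := by
        intro g hg
        obtain ⟨i, hi⟩ : ∃ i : ℕ, z ^ i = g ^ 2 := mem_powers_iff_mem_zpowers.mpr (hpow g)
        rw [← pow_two, ← hi]
        rcases Nat.even_or_odd i with ⟨t, rfl⟩ | ⟨t, rfl⟩
        · exact absurd (hi ▸ (by rw [← two_mul, pow_mul, hzp, one_pow])) (hex g hg)
        · rw [pow_add, pow_mul, hzp, one_pow, one_mul, pow_one]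
      have hk0 : k = 0 := by
        by_contra hk
        obtain ⟨a, ha⟩ : ∃ a : E, a ∉ Subgroup.zpowers z := by
          by_contra hn
          push Not at hn
          have h1 : Subgroup.zpowers z = ⊤ := top_le_iff.mp fun g _ => hn g
          rw [h1, Subgroup.card_top, hcard] at hk1
          have h4 : 2 ^ 3 ≤ 2 ^ (2 * (k + 1) + 1) := Nat.pow_le_pow_right two_pos (by omega)
          omega
        let T : E →* Subgroup.zpowers z :=
          { toFun := fun g => ⟨⁅g, a⁆, hcomm g a⟩
            map_one' := Subtype.ext (commutatorElement_one_left a)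
            map_mul' := fun g h => Subtype.ext (by
              show ⁅g * h, a⁆ = ⁅g, a⁆ * ⁅h, a⁆
              calc ⁅g * h, a⁆ = g * ⁅h, a⁆ * g⁻¹ * ⁅g, a⁆ := by simp only [commutatorElement_def]; group
                _ = ⁅h, a⁆ * ⁅g, a⁆ := by rw [(hzmem _ (hcomm h a) g).eq]; group
                _ = _ := (hzmem _ (hcomm g a) ⁅h, a⁆).eq) }
        have hle : T.ker ≤ Subgroup.zpowers z ⊔ Subgroup.zpowers a := by
          intro b hb
          by_contra hb'
          have hbz : b ∉ Subgroup.zpowers z := fun h => hb' (Subgroup.mem_sup_left h)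
          have hba : Commute b a := commutatorElement_eq_one_iff_commute.mp (congrArg Subtype.val hb)
          have habz : b * a ∈ Subgroup.zpowers z := by
            by_contra hn
            refine hex _ hn ?_
            rw [hba.mul_pow, pow_two, pow_two, hsq b hbz, hsq a ha, ← pow_two, hzp]
          refine hb' ?_
          have := Subgroup.mul_mem_sup habz (Subgroup.inv_mem _ (Subgroup.mem_zpowers a))
          rwa [mul_inv_cancel_right] at this
        have h1 := T.ker.card_mul_index
        rw [Subgroup.index_ker, hcard] at h1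
        have h2 : Nat.card T.range ≤ 2 := hk1 ▸ Subgroup.card_le_card_group _
        have h3 : Nat.card (Subgroup.zpowers z ⊔ Subgroup.zpowers a : Subgroup E) ≤ 8 := by
          refine le_trans (Nat.card_le_card_of_surjective
            (fun q : Subgroup.zpowers z × Subgroup.zpowers a => (⟨(q.1 : E) * q.2,
              Subgroup.mul_mem_sup q.1.2 q.2.2⟩ : (Subgroup.zpowers z ⊔ Subgroup.zpowers a : Subgroup E))) ?_) ?_
          · rintro ⟨g, hg⟩
            have hn : Subgroup.zpowers a ≤ Subgroup.normalizer (Subgroup.zpowers z : Set E) := fun c _ => by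
              rw [Subgroup.mem_normalizer_iff]
              intro d
              constructor
              · intro hd; rw [(hzmem d hd c).eq, mul_inv_cancel_right]; exact hd
              · intro hd
                have h2 : c * (c * d * c⁻¹) = c * d * c⁻¹ * c := (hzmem _ hd c).eq
                rw [inv_mul_cancel_right] at h2
                rwa [mul_left_cancel h2] at hd
            rw [← SetLike.mem_coe, Subgroup.coe_mul_of_right_le_normalizer_left _ _ hn] at hg
            obtain ⟨c, hc, d, hd, rfl⟩ := hg
            exact ⟨(⟨c, hc⟩, ⟨d, hd⟩), rfl⟩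
          · rw [Nat.card_prod, hk1, Nat.card_zpowers]
            have h4 : a ^ 4 = 1 := by rw [show (4 : ℕ) = 2 * 2 from rfl, pow_mul, pow_two a, hsq a ha, hzp]
            have := Nat.le_of_dvd (by norm_num) (orderOf_dvd_of_pow_eq_one h4)
            omega
        have h4 := Subgroup.card_le_of_le hle
        have h5 : 2 ^ 5 ≤ 2 ^ (2 * (k + 1) + 1) := Nat.pow_le_pow_right two_pos (by omega)
        have := Nat.mul_le_mul (h4.trans h3) h2
        omega
      subst hk0
      have h2 : n * 2 ^ (0 + 1) ≤ 2 := by have := hn2 rfl; omega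
      refine (Nat.pow_le_pow_right (Fact.out : r.Prime).pos h2).trans ?_
      obtain ⟨d, hd⟩ := (show IsPGroup r V from fun v => ⟨1, by rw [pow_one]; exact hV v⟩).exists_card_eq
      by_contra hlt
      have hd2 : d ≤ 1 := by
        by_contra hd2
        exact hlt (hd ▸ Nat.pow_le_pow_right (Fact.out : r.Prime).pos (by omega))
      interval_cases d
      · exact absurd (hd.trans (pow_zero r)) (Finite.one_lt_card (α := V)).ne'
      haveI : IsCyclic V := isCyclic_of_prime_card (p := r) (by rw [hd, pow_one])
      obtain ⟨v, hv⟩ := exists_ne (1 : V)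
      obtain ⟨a, b, hab⟩ : ∃ a b : E, ¬ Commute a b := by
        by_contra hn
        push Not at hn
        have : Subgroup.zpowers z = ⊤ := top_le_iff.mp fun g _ => hcen g (hn g)
        rw [this, Subgroup.card_top, hcard] at hk1
        norm_num at hk1
      obtain ⟨ma, hma⟩ := MonoidHom.map_cyclic (φ a).toMonoidHom
      obtain ⟨mb, hmb⟩ := MonoidHom.map_cyclic (φ b).toMonoidHom
      have h1 : φ ⁅a, b⁆ v = v := by
        have hcm : ∀ w, φ a (φ b w) = φ b (φ a w) := fun w => by
          have e1 : φ a (φ b w) = (w ^ mb) ^ ma := by rw [← hma, ← hmb]; rfl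
          have e2 : φ b (φ a w) = (w ^ ma) ^ mb := by rw [← hmb, ← hma]; rfl
          rw [e1, e2, ← zpow_mul, ← zpow_mul, mul_comm]
        have hcm' : φ a * φ b = φ b * φ a := MulEquiv.ext hcm
        rw [map_commutatorElement, commutatorElement_eq_one_iff_commute.mpr hcm']
        rfl
      obtain ⟨i, hi⟩ : ∃ i : ℕ, z ^ i = ⁅a, b⁆ := mem_powers_iff_mem_zpowers.mpr (hcomm a b)
      rcases Nat.even_or_odd i with ⟨t, rfl⟩ | ⟨t, rfl⟩
      · exact hab (commutatorElement_eq_one_iff_commute.mp (by rw [← hi, ← two_mul, pow_mul, hzp, one_pow]))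
      · rw [← hi, pow_add, pow_mul, hzp, one_pow, one_mul, pow_one] at h1
        exact hv (hfix v h1)

end CfsgLib.ExtraFaithful
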