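import Mathlib
import Cfsg.Prelude
import Cfsg.Agent.Lib.Elementary
import Cfsg.Agent.S3741

/-! Orders of extraspecial groups and of their abelian subgroups; `p`-groups with an extraspecial
subgroup of index `p`. -/

namespace CfsgLib.ExtraspecialIndexP

open Cfsg

variable {S : Type*} [Group S] [Finite S] {p : ℕ} [hp : Fact p.Prime]

theorem card_mul_relIndex {H K : Subgroup S} (h : H ≤ K) : Nat.card H * H.relIndex K = Nat.card K := by
  have := Subgroup.relIndex_mul_relIndex ⊥ H K bot_le h
  rwa [Subgroup.relIndex_bot_left, Subgroup.relIndex_bot_left] at this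

theorem center_le_of_maximal {A : Subgroup S} (hA : IsMulCommutative A)
    (hmax : ∀ B : Subgroup S, IsMulCommutative B → A ≤ B → B = A) :
    Subgroup.centralizer (A : Set S) = A := by
  refine le_antisymm (fun x hx => ?_) (fun a ha => Subgroup.mem_centralizer_iff.mpr fun b hb => ?_)
  · have hc : IsMulCommutative (Subgroup.closure ((A : Set S) ∪ {x})) := by
      refine Subgroup.isMulCommutative_closure ?_
      rintro a (ha | rfl) b (hb | rfl)
      · exact congrArg Subtype.val (hA.is_comm.comm ⟨a, ha⟩ ⟨b, hb⟩)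
      · exact Subgroup.mem_centralizer_iff.mp hx a ha
      · exact (Subgroup.mem_centralizer_iff.mp hx b hb).symm
      · rfl
    rw [← hmax _ hc (fun a ha => Subgroup.subset_closure (Or.inl ha))]
    exact Subgroup.subset_closure (Or.inr rfl)
  · exact congrArg Subtype.val (hA.is_comm.comm ⟨b, hb⟩ ⟨a, ha⟩)

theorem exists_max_abelian (A : Subgroup S) (hA : IsMulCommutative A) :
    ∃ B : Subgroup S, A ≤ B ∧ IsMulCommutative B ∧ ∀ C : Subgroup S, IsMulCommutative C → B ≤ C → C = B := by
  obtain ⟨B, hle, hB, hmax⟩ := (Set.toFinite {B : Subgroup S | IsMulCommutative B}).exists_le_maximal hA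
  exact ⟨B, hle, hB, fun C hC hBC => le_antisymm (hmax hC hBC) hBC⟩

/-- A maximal abelian subgroup of an extraspecial group has the expected order. -/
theorem card_sq_of_maximal (hS : IsExtraspecial p S) {A : Subgroup S} (hA : IsMulCommutative A)
    (hmax : ∀ B : Subgroup S, IsMulCommutative B → A ≤ B → B = A) :
    Nat.card A * Nat.card A = p * Nat.card S := by
  obtain ⟨⟨hpg, -, hcomm⟩, hz⟩ := hS
  have hC := center_le_of_maximal hA hmax
  have hZA : Subgroup.center S ≤ A := hC ▸ Subgroup.center_le_centralizer _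
  have hle : ⁅A, (⊤ : Subgroup S)⁆ ≤ Subgroup.center S := by
    rw [← hcomm, commutator_def]; exact Subgroup.commutator_mono le_top le_rfl
  have h := Cfsg.Agent.S3741.result hpg A ⊤ (le_inf (hle.trans hZA) le_top)
    ((Subgroup.card_le_of_le hle).trans hz.le)
  rw [Subgroup.coe_top, Subgroup.centralizer_univ, inf_eq_right.mpr hZA, hC, top_inf_eq,
    Subgroup.relIndex_top_right] at h
  have e1 := card_mul_relIndex hZA
  rw [hz, h] at e1
  have e2 := A.card_mul_index
  calc Nat.card A * Nat.card A = Nat.card A * (p * A.index) := by rw [e1]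
    _ = p * (Nat.card A * A.index) := by ring
    _ = p * Nat.card S := by rw [e2]

theorem card_abelian_sq_le (hS : IsExtraspecial p S) (A : Subgroup S) (hA : IsMulCommutative A) :
    Nat.card A * Nat.card A ≤ p * Nat.card S := by
  obtain ⟨B, hle, hB, hmax⟩ := exists_max_abelian A hA
  rw [← card_sq_of_maximal hS hB hmax]
  exact Nat.mul_le_mul (Subgroup.card_le_of_le hle) (Subgroup.card_le_of_le hle)

theorem exists_card (hS : IsExtraspecial p S) : ∃ n : ℕ, 1 ≤ n ∧ Nat.card S = p ^ (2 * n + 1) := by
  obtain ⟨B, hle, hB, hmax⟩ := exists_max_abelian (Subgroup.center S) inferInstance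
  have h := card_sq_of_maximal hS hB hmax
  obtain ⟨⟨hpg, -, hcomm⟩, hz⟩ := hS
  obtain ⟨m, hm⟩ := IsPGroup.iff_card.mp hpg
  obtain ⟨b, hb⟩ := IsPGroup.iff_card.mp (hpg.to_subgroup B)
  rw [hb, hm, ← pow_add, ← pow_succ'] at h
  have h1 := Nat.pow_right_injective hp.out.two_le h
  have h2 : 1 < m := by
    by_contra hle'
    have hc : commutator S = ⊥ := by
      have : IsCyclic S := by
        interval_cases m
        · have := (Nat.card_eq_one_iff_unique.mp (by rw [hm, pow_zero] : Nat.card S = 1)).1
          exact isCyclic_of_subsingleton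
        · exact isCyclic_of_prime_card (by rw [hm, pow_one])
      rw [commutator_def, Subgroup.commutator_eq_bot_iff_le_centralizer]
      intro x _
      exact Subgroup.mem_centralizer_iff.mpr fun y _ => (IsCyclic.commGroup (α := S)).mul_comm y x
    rw [← hcomm, hc, Subgroup.card_bot] at hz
    exact hp.out.ne_one hz.symm
  exact ⟨b - 1, by omega, by rw [hm]; congr 1; omega⟩

/-- The centre of a normal extraspecial subgroup is central in the ambient `p`-group. -/
theorem center_map_le_center (hpS : IsPGroup p S) (Q : Subgroup S) [Q.Normal] (hQ : IsExtraspecial p Q) :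
    Nat.card ((Subgroup.center Q).map Q.subtype) = p ∧
      (Subgroup.center Q).map Q.subtype ≤ Subgroup.center S := by
  set Z := (Subgroup.center Q).map Q.subtype with hZ
  have hcard : Nat.card Z = p := by
    rw [hZ, Subgroup.card_map_of_injective Q.subtype_injective]; exact hQ.2
  refine ⟨hcard, ?_⟩
  have : Group.IsNilpotent S := hpS.isNilpotent
  have hne : Z ≠ ⊥ := fun e => hp.out.ne_one (by rw [← hcard, e, Subgroup.card_bot])
  have h := CfsgLib.inf_center_ne_bot_of_nilpotent (N := Z) hne
  have hd := Subgroup.card_dvd_of_le (inf_le_left : Z ⊓ Subgroup.center S ≤ Z)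
  rw [hcard] at hd
  rcases hp.out.eq_one_or_self_of_dvd _ hd with e | e
  · exact absurd (Subgroup.card_eq_one.mp e) h
  · rw [← Subgroup.eq_of_le_of_card_ge (inf_le_left : Z ⊓ Subgroup.center S ≤ Z) (by rw [hcard, e])]
    exact inf_le_right

theorem normal_of_index_prime (hpS : IsPGroup p S) {Q : Subgroup S} (hQi : Q.index = p) : Q.Normal := by
  have hco : IsCoatom Q := by
    refine ⟨fun e => hp.out.ne_one (by rw [← hQi, e, Subgroup.index_top]), fun R hR => ?_⟩
    have h := Subgroup.relIndex_mul_index hR.le
    rw [hQi] at h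
    rcases hp.out.eq_one_or_self_of_dvd R.index ⟨Q.relIndex R, by rw [mul_comm]; exact h.symm⟩ with e | e
    · exact Subgroup.index_eq_one.mp e
    · rw [e] at h
      have h1 : Q.relIndex R = 1 := (Nat.mul_eq_right hp.out.ne_zero).mp h
      exact absurd (Subgroup.relIndex_eq_one.mp h1) hR.not_ge
  exact (CfsgLib.index_coatom_pGroup hpS hco).1

end CfsgLib.ExtraspecialIndexP
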