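import Mathlib
import Cfsg.Agent.S2847
import Cfsg.Agent.S2821
import Cfsg.Agent.Lib.Large
import Cfsg.Agent.Lib.PReducedOf

/-!
The basic property of `M ∈ 𝔐` in a group of parabolic characteristic `p`, and asymmetry of `Y_M`.
-/

set_option autoImplicit false
set_option linter.unusedVariables false

namespace CfsgLib.FrakM

open Cfsg CfsgLib
open scoped commutatorElement

variable {G : Type*} [Group G] [Finite G] {p : ℕ} [Fact p.Prime]

/-- A normal `p`-subgroup `W` and a normal subgroup `Z` of `p`-power index centralized modulo `W` give a normal Sylow. -/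
theorem pClosed_of_central {N : Type*} [Group N] [Finite N] (Z W : Subgroup N) [Z.Normal] [W.Normal]
    (hW : IsPGroup p ↥W) (hpow : ∀ n : N, ∃ k : ℕ, n ^ p ^ k ∈ Z)
    (hc : ∀ z ∈ Z, ∀ n : N, z * n * z⁻¹ * n⁻¹ ∈ W) : Cfsg.IsPClosed p N := by
  intro P
  have hWP : W ≤ (P : Subgroup N) := (le_pCore hW).trans (pCore_le_sylow P)
  have hZP : Z ≤ Subgroup.normalizer ((P : Subgroup N) : Set N) := Large.le_normalizer_of fun z hz x hx => by
    have h := (P : Subgroup N).mul_mem (hWP (hc z hz x)) hx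
    rwa [inv_mul_cancel_right] at h
  have hsup : (P : Subgroup N) ⊔ Z = ⊤ := by
    refine eq_top_iff.mpr ?_
    let π := QuotientGroup.mk' Z
    have hQ : IsPGroup p (N ⧸ Z) := fun x => by
      obtain ⟨n, rfl⟩ := QuotientGroup.mk'_surjective Z x
      exact (hpow n).imp fun k hk => by rw [← map_pow]; exact (QuotientGroup.eq_one_iff _).mpr hk
    obtain ⟨k, hk⟩ := IsPGroup.iff_card.mp hQ
    have h1 : ((P : Subgroup N) ⊔ Z).index = 1 := by
      have hd : ((P : Subgroup N) ⊔ Z).index ∣ p ^ k := hk ▸ Subgroup.index_dvd_of_le (le_sup_right : Z ≤ (P : Subgroup N) ⊔ Z)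
      obtain ⟨j, -, hj⟩ := (Nat.dvd_prime_pow Fact.out).mp hd
      rcases Nat.eq_zero_or_pos j with rfl | hjp
      · simpa using hj
      · exact absurd ((hj ▸ dvd_pow_self p hjp.ne').trans (Subgroup.index_dvd_of_le le_sup_left)) P.not_dvd_index
    exact (Subgroup.index_eq_one.mp h1).ge
  exact Subgroup.normalizer_eq_top_iff.mp (top_le_iff.mp (hsup ▸ sup_le Subgroup.le_normalizer hZP))

variable {S : Sylow p G} {M : Subgroup G}

local notation "Ym" => Cfsg.largestPReducedOf p M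
local notation "Cm" => Subgroup.centralizer (Cfsg.largestPReducedOf p M : Set G)

theorem le_dag_of_mem (hM : Cfsg.IsInFrakM p M) {X : Subgroup G} (hX : X ∈ Cfsg.charPSubgroups p G) (hMX : M ≤ X) :
    X ≤ M ⊔ Cm := by
  classical
  obtain ⟨-, -, huniq, -⟩ := hM
  set s : Set (Subgroup G) := {K | K ∈ Cfsg.charPSubgroups p G ∧ X ≤ K}
  obtain ⟨K, ⟨hK, hXK⟩, hmax⟩ := Set.exists_max_image s (fun K => Nat.card ↥K) s.toFinite ⟨X, hX, le_rfl⟩
  have h := huniq K ⟨hK, fun L hL hKL => (Subgroup.eq_of_le_of_card_ge hKL (hmax L ⟨hL, hXK.trans hKL⟩)).symm⟩ (hMX.trans hXK)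
  exact h ▸ hXK

theorem dag_le_normalizer (M : Subgroup G) : M ⊔ Subgroup.centralizer (Cfsg.largestPReducedOf p M : Set G) ≤
    Subgroup.normalizer (Cfsg.largestPReducedOf p M : Set G) :=
  sup_le (PReducedOf.le_normalizer M) (Large.centralizer_le_normalizer _)

theorem normalizer_le_dag (hpc : Cfsg.IsOfParabolicCharacteristic p G) (hSM : (S : Subgroup G) ≤ M)
    (hM : Cfsg.IsInFrakM p M) {I : Subgroup G} (hI : IsPGroup p ↥I) (hI1 : I ≠ ⊥)
    (hMI : M ≤ Subgroup.normalizer (I : Set G)) : Subgroup.normalizer (I : Set G) ≤ M ⊔ Cm :=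
  le_dag_of_mem hM (Cfsg.Agent.S2847.mem_of_normalizes hpc S (hSM.trans hMI) Subgroup.le_normalizer le_rfl hI hI1) hMI

theorem Y_isPGroup (M : Subgroup G) : IsPGroup p ↥(Cfsg.largestPReducedOf p M) :=
  (PReducedOf.pCoreOf_isPGroup M).to_le (PReducedOf.le_pCoreOf M)

theorem Y_ne (hSM : (S : Subgroup G) ≤ M) (hM : Cfsg.IsInFrakM p M) : Ym ≠ ⊥ :=
  Cfsg.Agent.S2847.Y_ne_bot S hSM hM.1

theorem normalizer_Y_eq (hpc : Cfsg.IsOfParabolicCharacteristic p G) (hSM : (S : Subgroup G) ≤ M)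
    (hM : Cfsg.IsInFrakM p M) : Subgroup.normalizer (Ym : Set G) = M ⊔ Cm :=
  le_antisymm (normalizer_le_dag hpc hSM hM (Y_isPGroup M) (Y_ne hSM hM) (PReducedOf.le_normalizer M))
    (dag_le_normalizer M)

theorem O_eq (hSM : (S : Subgroup G) ≤ M) (hM : Cfsg.IsInFrakM p M) :
    Cfsg.pCoreOf p M = (S : Subgroup G) ⊓ Cm := by
  obtain ⟨-, -, -, -, hclosed, -⟩ := hM
  refine le_antisymm (le_inf (PReducedOf.pCoreOf_le_sylow S hSM) (PReducedOf.pCoreOf_le_centralizer M)) fun x hx => ?_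
  set K := M ⊓ Cm
  obtain ⟨P, hP⟩ := ((S.2.to_le (inf_le_left : (S : Subgroup G) ⊓ Cm ≤ _)).comap_of_injective K.subtype
    K.subtype_injective).exists_le_sylow
  haveI hPn : (P : Subgroup ↥K).Normal := hclosed P
  refine Large.le_pCoreOf_of_normal (K := K) inf_le_left ?_ (Subgroup.map_subtype_le (P : Subgroup ↥K)) ?_ (P.2.map _)
    ⟨⟨x, hSM hx.1, hx.2⟩, hP hx, rfl⟩
  · exact Large.le_normalizer_of fun m hm a ha =>
      ⟨M.mul_mem (M.mul_mem hm ha.1) (M.inv_mem hm), Large.conj_mem (PReducedOf.le_normalizer_centralizer M) hm ha.2⟩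
  · refine Large.le_normalizer_of fun k hk a ha => ?_
    obtain ⟨y, hy, rfl⟩ := ha
    exact ⟨⟨k, hk⟩ * y * ⟨k, hk⟩⁻¹, hPn.conj_mem y hy _, rfl⟩

/-- `O_p(M)` is the only `p`-subgroup of `C(Y_M)` containing it. -/
theorem inf_centralizer_eq (hSM : (S : Subgroup G) ≤ M) (hM : Cfsg.IsInFrakM p M) {R : Subgroup G}
    (hR : IsPGroup p ↥R) (hOR : Cfsg.pCoreOf p M ≤ R) : R ⊓ Cm = Cfsg.pCoreOf p M := by
  refine le_antisymm ?_ (le_inf hOR (PReducedOf.pCoreOf_le_centralizer M))
  obtain ⟨⟨P, hP⟩, -⟩ := Cfsg.Agent.S2821.result S M hSM (Cfsg.Agent.S2847.charP_of_mem hM.1) _ rfl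
  have h := P.3 ((hR.to_le (inf_le_left : R ⊓ Cm ≤ R)).comap_of_injective (Cm).subtype (Cm).subtype_injective) (by
    rw [hP, ← O_eq hSM hM]
    exact fun x hx => ⟨hOR hx, x.2⟩)
  intro x hx
  have h2 : (⟨x, hx.2⟩ : ↥Cm) ∈ (P : Subgroup ↥Cm) := h ▸ hx
  rw [hP, ← O_eq hSM hM] at h2
  exact h2

omit [Finite G] [Fact p.Prime] in
theorem commute_of_asym {A : Subgroup G} (hasym : ¬ Cfsg.IsSymmetricIn A) {g : G}
    (h1 : A ≤ Subgroup.normalizer ((A.map (MulAut.conj g).toMonoidHom : Subgroup G) : Set G))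
    (h2 : A.map (MulAut.conj g).toMonoidHom ≤ Subgroup.normalizer (A : Set G)) :
    A.map (MulAut.conj g).toMonoidHom ≤ Subgroup.centralizer (A : Set G) := by
  set B := A.map (MulAut.conj g).toMonoidHom with hB
  have hb : ⁅A, B⁆ = ⊥ := by
    by_contra hne
    refine hasym ⟨g, hne, Subgroup.commutator_le.mpr fun a ha b hb => ⟨?_, ?_⟩⟩
    · rw [commutatorElement_def, show a * b * a⁻¹ * b⁻¹ = a * (b * a⁻¹ * b⁻¹) by group]
      exact A.mul_mem ha (Large.conj_mem h2 hb (A.inv_mem ha))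
    · rw [commutatorElement_def]
      exact B.mul_mem (Large.conj_mem h1 ha hb) (B.inv_mem hb)
  intro b hb'
  refine Subgroup.mem_centralizer_iff.mpr fun a ha => ?_
  have h := Subgroup.mem_bot.mp (hb ▸ Subgroup.commutator_mem_commutator ha hb')
  exact commutatorElement_eq_one_iff_mul_comm.mp h

theorem normalizer_le_dag_of_asym (hpc : Cfsg.IsOfParabolicCharacteristic p G) (hSM : (S : Subgroup G) ≤ M)
    (hM : Cfsg.IsInFrakM p M) (hasym : ¬ Cfsg.IsSymmetricIn Ym) {R : Subgroup G} (hR : IsPGroup p ↥R)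
    (hOR : Cfsg.pCoreOf p M ≤ R) (hRd : R ≤ M ⊔ Cm) : Subgroup.normalizer (R : Set G) ≤ M ⊔ Cm := by
  classical
  set O := Cfsg.pCoreOf p M
  set N := Subgroup.normalizer (R : Set G)
  have hMO : M ≤ Subgroup.normalizer (O : Set G) := Large.le_normalizer_pCoreOf p M
  have hY : Ym ≤ O := PReducedOf.le_pCoreOf M
  have key : ∀ k : ℕ, ∀ l : List G, l.length ≤ k → (∀ a ∈ l, a ∈ M ∨ a ∈ N) →
      (Ym).map (MulAut.conj l.prod).toMonoidHom ≤ O := by
    intro k
    induction k with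
    | zero =>
      intro l hl _
      obtain rfl : l = [] := List.eq_nil_of_length_eq_zero (Nat.le_zero.mp hl)
      exact Local.map_conj_le fun y hy => by simpa using hY hy
    | succ k ih =>
      have hR' : ∀ l : List G, l.length ≤ k + 1 → (∀ a ∈ l, a ∈ M ∨ a ∈ N) →
          (Ym).map (MulAut.conj l.prod).toMonoidHom ≤ R := by
        intro l hl ha
        cases l with
        | nil => exact Local.map_conj_le fun y hy => by simpa using hOR (hY hy)
        | cons a t =>
          have h1 := ih t (by simpa using hl) fun b hb => ha b (List.mem_cons_of_mem a hb)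
          rw [List.prod_cons, ← Local.map_conj_mul]
          refine Local.map_conj_le fun y hy => ?_
          rcases ha a (List.mem_cons_self) with h | h
          · exact hOR (Large.conj_mem hMO h (h1 hy))
          · exact Large.conj_mem le_rfl h (hOR (h1 hy))
      intro l hl ha
      set z := l.prod with hz
      have h1 := hR' l hl ha
      have h2 := hR' ((l.map fun x => x⁻¹).reverse) (by simpa using hl) fun b hb => by
        obtain ⟨a, haa, rfl⟩ := List.mem_map.mp (List.mem_reverse.mp hb)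
        exact (ha a haa).imp (Subgroup.inv_mem _) (Subgroup.inv_mem _)
      rw [← List.prod_inv_reverse] at h2
      have h3 : Ym ≤ Subgroup.normalizer (((Ym).map (MulAut.conj z).toMonoidHom : Subgroup G) : Set G) :=
        Large.le_normalizer_of fun y hy b hb => by
          have hy' : z⁻¹ * y * z⁻¹⁻¹ ∈ Subgroup.normalizer (Ym : Set G) :=
            dag_le_normalizer M (hRd (h2 ⟨y, hy, by simp [hz]⟩))
          rw [Local.mem_map_conj] at hb ⊢
          have h := (Subgroup.mem_normalizer_iff.mp hy' _).mp hb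
          simpa [mul_assoc] using h
      exact (le_inf h1 (commute_of_asym hasym h3 (h1.trans (hRd.trans (dag_le_normalizer M))))).trans
        (inf_centralizer_eq hSM hM hR hOR).le
  set W := ⨆ l : {l : List G // ∀ a ∈ l, a ∈ M ∨ a ∈ N}, (Ym).map (MulAut.conj l.1.prod).toMonoidHom with hW
  have hWO : W ≤ O := iSup_le fun l => key l.1.length l.1 le_rfl l.2
  have hinv : ∀ a : G, (a ∈ M ∨ a ∈ N) → a ∈ Subgroup.normalizer (W : Set G) := fun a ha => by
    refine Local.mem_normalizer_of_map_conj_eq (Subgroup.eq_of_le_of_card_ge ?_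
      (Subgroup.card_map_of_injective (MulEquiv.injective (MulAut.conj a))).ge)
    rw [hW, Subgroup.map_iSup]
    refine iSup_le fun l => ?_
    rw [Local.map_conj_mul, ← List.prod_cons]
    exact le_iSup (fun l : {l : List G // ∀ a ∈ l, a ∈ M ∨ a ∈ N} => (Ym).map (MulAut.conj l.1.prod).toMonoidHom)
      ⟨a :: l.1, List.forall_mem_cons.mpr ⟨ha, l.2⟩⟩
  have hW1 : W ≠ ⊥ := fun h => Y_ne hSM hM (le_bot_iff.mp (by
    rw [← h]
    refine le_trans ?_ (le_iSup (fun l : {l : List G // ∀ a ∈ l, a ∈ M ∨ a ∈ N} =>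
      (Ym).map (MulAut.conj l.1.prod).toMonoidHom) ⟨[], by simp⟩)
    exact fun y hy => ⟨y, hy, by simp⟩))
  exact le_trans (fun n hn => hinv n (Or.inr hn)) (normalizer_le_dag hpc hSM hM
    ((PReducedOf.pCoreOf_isPGroup M).to_le hWO) hW1 fun m hm => hinv m (Or.inl hm))

/-- Under asymmetry every `p`-subgroup containing `O_p(M)` lies in `M†` and normalises `O_p(M)`. -/
theorem pgroup_facts (hpc : Cfsg.IsOfParabolicCharacteristic p G) (hSM : (S : Subgroup G) ≤ M)
    (hM : Cfsg.IsInFrakM p M) (hasym : ¬ Cfsg.IsSymmetricIn Ym) {L : Subgroup G} (hL : IsPGroup p ↥L)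
    (hOL : Cfsg.pCoreOf p M ≤ L) :
    L ≤ M ⊔ Cm ∧ Subgroup.normalizer (L : Set G) ≤ Subgroup.normalizer (Cfsg.pCoreOf p M : Set G) ∧
      Subgroup.normalizer (L : Set G) ≤ M ⊔ Cm := by
  set R := L ⊓ (M ⊔ Cm) with hR
  have hRn := normalizer_le_dag_of_asym hpc hSM hM hasym (hL.to_le (inf_le_left : R ≤ L))
    (le_inf hOL ((Large.pCoreOf_le p M).trans le_sup_left)) inf_le_right
  haveI : Group.IsNilpotent ↥L := hL.isNilpotent
  have hLd : L ≤ M ⊔ Cm := by
    by_contra hcon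
    have hlt : R.subgroupOf L < ⊤ := lt_top_iff_ne_top.mpr fun h => hcon fun x hx =>
      ((Subgroup.subgroupOf_eq_top.mp h) hx).2
    obtain ⟨-, x, hx, hxR⟩ := SetLike.lt_iff_le_and_exists.mp (Group.normalizerCondition_of_isNilpotent _ hlt)
    refine hxR ⟨x.2, hRn (Local.mem_normalizer_of_map_conj_eq (Subgroup.eq_of_le_of_card_ge ?_
      (Subgroup.card_map_of_injective (MulEquiv.injective (MulAut.conj (x : G)))).ge))⟩
    refine Local.map_conj_le fun r hr => ?_
    exact (Subgroup.mem_normalizer_iff.mp hx ⟨r, hr.1⟩).mp hr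
  have hN := normalizer_le_dag_of_asym hpc hSM hM hasym hL hOL hLd
  refine ⟨hLd, ?_, hN⟩
  rw [← inf_centralizer_eq hSM hM hL hOL]
  exact Large.le_normalizer_of fun n hn a ha => ⟨Large.conj_mem le_rfl hn ha.1,
    Large.conj_mem (CharP.normalizer_le_normalizer_centralizer _) (dag_le_normalizer M (hN hn)) ha.2⟩

theorem weakly_closed (hpc : Cfsg.IsOfParabolicCharacteristic p G) (hSM : (S : Subgroup G) ≤ M)
    (hM : Cfsg.IsInFrakM p M) (hasym : ¬ Cfsg.IsSymmetricIn Ym) :
    Cfsg.IsWeaklyClosed (Cfsg.pCoreOf p M) (S : Subgroup G) := by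
  set O := Cfsg.pCoreOf p M
  have hOS : O ≤ (S : Subgroup G) := PReducedOf.pCoreOf_le_sylow S hSM
  refine ⟨hOS, fun g hg => ?_⟩
  set S' := (S : Subgroup G).map (MulAut.conj g⁻¹).toMonoidHom
  have hOS' : O ≤ S' := fun x hx => Local.mem_map_conj.mpr (by simpa using hg ⟨x, hx, rfl⟩)
  obtain ⟨k, hk, P, hP, -, hSP, hS'P⟩ := Local.exists_conj_isPGroup S.2 (S.2.map _ : IsPGroup p ↥S')
    (hSM.trans le_sup_left : (S : Subgroup G) ≤ M ⊔ Cm) (pgroup_facts hpc hSM hM hasym (S.2.map _) hOS').1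
  rw [S.3 hP hSP, Local.map_conj_mul] at hS'P
  have hn : k * g⁻¹ ∈ M ⊔ Cm := (pgroup_facts hpc hSM hM hasym S.2 hOS).2.2 (Local.mem_normalizer_of_map_conj_eq
    (Subgroup.eq_of_le_of_card_ge hS'P (Subgroup.card_map_of_injective (MulEquiv.injective (MulAut.conj _))).ge))
  have hgd : g ∈ M ⊔ Cm := by
    have := Subgroup.mul_mem _ (Subgroup.inv_mem _ hn) hk
    simpa using this
  have hC : O.map (MulAut.conj g).toMonoidHom ≤ Cm := Local.map_conj_le fun x hx =>
    Large.conj_mem (CharP.normalizer_le_normalizer_centralizer _) (dag_le_normalizer M hgd)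
      (PReducedOf.pCoreOf_le_centralizer M hx)
  refine Subgroup.eq_of_le_of_card_ge ?_ (Subgroup.card_map_of_injective (MulEquiv.injective (MulAut.conj g))).ge
  exact (le_inf hg hC).trans (O_eq hSM hM).ge

end CfsgLib.FrakM
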