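import Mathlib
import Cfsg.Agent.Lib.FrakMFacts
import Cfsg.Agent.Lib.PResidual
import Cfsg.Agent.Lib.Subnormal
import Cfsg.Agent.Lib.PComplement

/-!
Members of `ℌ(O_p(M))`.
-/

set_option autoImplicit false
set_option linter.unusedVariables false

namespace CfsgLib.FrakH

open Cfsg CfsgLib
open scoped commutatorElement

variable {G : Type*} [Group G] [Finite G] {p : ℕ} [Fact p.Prime] {M H : Subgroup G}

local notation "O'" => Subgroup.subgroupOf (Cfsg.pCoreOf p M) H
local notation "Y'" => Subgroup.subgroupOf (Cfsg.largestPReducedOf p M) H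

theorem O'_isPGroup : IsPGroup p ↥(O') :=
  (PReducedOf.pCoreOf_isPGroup M).comap_of_injective H.subtype H.subtype_injective

theorem Y'_le : Y' ≤ O' := fun x hx => PReducedOf.le_pCoreOf M hx

theorem O'_le_normalizer : O' ≤ Subgroup.normalizer ((Y' : Subgroup ↥H) : Set ↥H) :=
  Large.le_normalizer_of fun o ho y hy =>
    Large.conj_mem ((Large.pCoreOf_le p M).trans (PReducedOf.le_normalizer M)) ho hy

/-- A proper subgroup of `H` containing `O_p(M)` has `Y_M` in its core, so is not normal. -/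
theorem normal_eq_top (hH : Cfsg.IsInFrakH p M H) (N : Subgroup ↥H) [hN : N.Normal] (hON : O' ≤ N) : N = ⊤ := by
  obtain ⟨-, hOH, hY, hprop⟩ := hH
  by_contra hne
  set K := N.map H.subtype
  have hKH : K ≤ H := Subgroup.map_subtype_le _
  have hlt : K < H := lt_of_le_of_ne hKH fun h => hne (eq_top_iff.mpr fun x _ => by
    obtain ⟨y, hy, e⟩ := h.ge x.2
    rwa [← Subtype.ext (e : (y : G) = x)])
  have hHK : H ≤ Subgroup.normalizer (K : Set G) := Large.le_normalizer_of fun h hh k hk => by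
    obtain ⟨y, hy, rfl⟩ := hk
    exact ⟨⟨h, hh⟩ * y * ⟨h, hh⟩⁻¹, hN.conj_mem y hy _, rfl⟩
  exact hY ((hprop K (fun x hx => ⟨⟨x, hOH hx⟩, hON hx, rfl⟩) hlt).trans
    (Large.le_pCoreOf_of_normal hKH hHK (Large.pCoreOf_le p K) (Large.le_normalizer_pCoreOf p K) ((isPGroup_pCore p).map _)))

theorem eq_top_of_residual_le (hH : Cfsg.IsInFrakH p M H) (K : Subgroup ↥H) (hOK : O' ≤ K)
    (hRK : Cfsg.pResidual p ↥H ≤ K) : K = ⊤ := by
  by_contra hne
  haveI : Group.IsNilpotent (↥H ⧸ Cfsg.pResidual p ↥H) :=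
    (CfsgLib.isPGroup_quotient_of_pResidual_le (le_refl (Cfsg.pResidual p ↥H))).isNilpotent
  have h := (CfsgLib.isSubnormal_of_nilpotent (K.map (QuotientGroup.mk' (Cfsg.pResidual p ↥H)))).comap
    (QuotientGroup.mk' (Cfsg.pResidual p ↥H))
  rw [Subgroup.comap_map_eq, QuotientGroup.ker_mk', sup_eq_left.mpr hRK] at h
  obtain hK | ⟨N, hN, hKN, hlt⟩ := h.lt_normal
  · exact hne hK
  · haveI := hN
    exact hlt.ne (normal_eq_top hH N (hOK.trans hKN))

theorem sup_O (hH : Cfsg.IsInFrakH p M H) : Cfsg.pResidual p ↥H ⊔ O' = ⊤ :=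
  eq_top_of_residual_le hH _ le_sup_right le_sup_left

theorem ncl_O (hH : Cfsg.IsInFrakH p M H) : Subgroup.normalClosure ((O' : Subgroup ↥H) : Set ↥H) = ⊤ :=
  haveI := Subgroup.normalClosure_normal (s := ((O' : Subgroup ↥H) : Set ↥H))
  normal_eq_top hH _ Subgroup.le_normalClosure

theorem ncl_Y_sup_O (hH : Cfsg.IsInFrakH p M H) :
    Subgroup.normalClosure ((Y' : Subgroup ↥H) : Set ↥H) ⊔ O' = ⊤ := by
  have hH' := hH
  obtain ⟨-, hOH, hY, hprop⟩ := hH'
  set N := Subgroup.normalClosure ((Y' : Subgroup ↥H) : Set ↥H)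
  haveI hN : N.Normal := Subgroup.normalClosure_normal
  by_contra hne
  set K := (N ⊔ O').map H.subtype
  have hlt : K < H := lt_of_le_of_ne (Subgroup.map_subtype_le _) fun h => hne (eq_top_iff.mpr fun x _ => by
    obtain ⟨y, hy, e⟩ := h.ge x.2
    rwa [← Subtype.ext (e : (y : G) = x)])
  have hYK := hprop K (fun x hx => ⟨⟨x, hOH hx⟩, Subgroup.mem_sup_right hx, rfl⟩) hlt
  set N' := N.map H.subtype
  have hN'K : N' ≤ K := Subgroup.map_mono le_sup_left
  have hHN : H ≤ Subgroup.normalizer (N' : Set G) := Large.le_normalizer_of fun h hh k hk => by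
    obtain ⟨y, hy, rfl⟩ := hk
    exact ⟨⟨h, hh⟩ * y * ⟨h, hh⟩⁻¹, hN.conj_mem y hy _, rfl⟩
  refine hY (le_trans (b := pCoreOf p K ⊓ N') ?_ (Large.le_pCoreOf_of_normal (Subgroup.map_subtype_le _) hHN inf_le_right
    (Large.le_normalizer_of fun k hk a ha => ⟨Large.conj_mem ((hN'K).trans (Large.le_normalizer_pCoreOf p K)) hk ha.1,
      N'.mul_mem (N'.mul_mem hk ha.2) (N'.inv_mem hk)⟩) (((isPGroup_pCore (G := ↥K) p).map K.subtype).to_le inf_le_left)))
  intro y hy
  exact ⟨hYK hy, ⟨⟨y, hOH (PReducedOf.le_pCoreOf M hy)⟩, Subgroup.subset_normalClosure hy, rfl⟩⟩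

theorem residual_le_ncl_Y (hH : Cfsg.IsInFrakH p M H) :
    Cfsg.pResidual p ↥H ≤ Subgroup.normalClosure ((Y' : Subgroup ↥H) : Set ↥H) :=
  haveI := Subgroup.normalClosure_normal (s := ((Y' : Subgroup ↥H) : Set ↥H))
  PResidual.pResidual_le_of_sup_eq_top (P := O') O'_isPGroup (by rw [sup_comm]; exact ncl_Y_sup_O hH)

theorem sup_Y (hH : Cfsg.IsInFrakH p M H) :
    Cfsg.pResidual p ↥H ⊔ Y' = Subgroup.normalClosure ((Y' : Subgroup ↥H) : Set ↥H) := by
  set R := Cfsg.pResidual p ↥H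
  haveI hR : R.Normal := PResidual.pResidual_normal
  haveI : (R ⊔ Y').Normal := by
    refine Subgroup.normalizer_eq_top_iff.mp (top_le_iff.mp ((sup_O hH).symm.le.trans (sup_le
      (le_sup_left.trans Subgroup.le_normalizer) ?_)))
    refine le_trans (le_inf ?_ O'_le_normalizer) (Subgroup.normalizer_inf_normalizer_le_normalizer_sup _ _)
    rw [Subgroup.normalizer_eq_top]; exact le_top
  exact le_antisymm (sup_le (residual_le_ncl_Y hH) Subgroup.le_normalClosure)
    (Subgroup.normalClosure_le_normal (SetLike.coe_subset_coe.mpr le_sup_right))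

theorem commutator_residual (hH : Cfsg.IsInFrakH p M H) : ⁅Cfsg.pResidual p ↥H, (Y' : Subgroup ↥H)⁆ = Cfsg.pResidual p ↥H := by
  set R := Cfsg.pResidual p ↥H
  haveI hR : R.Normal := PResidual.pResidual_normal
  set C := ⁅R, (Y' : Subgroup ↥H)⁆
  have hRC : R ≤ Subgroup.normalizer (C : Set ↥H) := Subgroup.normalizer_commutator_ge_left R Y'
  have hOC : O' ≤ Subgroup.normalizer (C : Set ↥H) := fun o ho => by
    refine Local.mem_normalizer_of_map_conj_eq ?_
    rw [Subgroup.map_commutator, Local.map_conj_eq_of_mem_normalizer (by rw [Subgroup.normalizer_eq_top]; exact Subgroup.mem_top o),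
      Local.map_conj_eq_of_mem_normalizer (O'_le_normalizer ho)]
  haveI : C.Normal := Subgroup.normalizer_eq_top_iff.mp (top_le_iff.mp ((sup_O hH).symm.le.trans (sup_le hRC hOC)))
  haveI hCY : (C ⊔ Y').Normal := by
    refine Subgroup.normalizer_eq_top_iff.mp (top_le_iff.mp ((sup_O hH).symm.le.trans (sup_le ?_ ?_)))
    · intro r hr
      refine Local.mem_normalizer_of_map_conj_eq (Subgroup.eq_of_le_of_card_ge ?_
        (Subgroup.card_map_of_injective (MulEquiv.injective (MulAut.conj r))).ge)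
      rw [Subgroup.map_sup]
      refine sup_le ((Local.map_conj_eq_of_mem_normalizer (hRC hr)).le.trans le_sup_left) (Local.map_conj_le fun y hy => ?_)
      rw [show r * y * r⁻¹ = ⁅r, y⁆ * y by rw [commutatorElement_def]; group]
      exact Subgroup.mul_mem _ (Subgroup.mem_sup_left (Subgroup.commutator_mem_commutator hr hy)) (Subgroup.mem_sup_right hy)
    · exact le_trans (le_inf hOC O'_le_normalizer) (Subgroup.normalizer_inf_normalizer_le_normalizer_sup _ _)
  refine le_antisymm (Subgroup.commutator_le_left R Y') (PResidual.pResidual_le_of_sup_eq_top (P := O') O'_isPGroup ?_)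
  refine top_le_iff.mp ((ncl_Y_sup_O hH).symm.le.trans (sup_le ?_ le_sup_left))
  exact (Subgroup.normalClosure_le_normal (SetLike.coe_subset_coe.mpr (le_sup_right : Y' ≤ C ⊔ Y'))).trans
    (sup_le le_sup_right (Y'_le.trans le_sup_left))

end CfsgLib.FrakH
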