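import Cfsg.Agent.Lib.ConjProduct
import Cfsg.Agent.Lib.S4Criterion
import Cfsg.Agent.Lib.SylowExtra

/-!
Elements of a Sylow `p`-subgroup `S` central in the normalizer of `J(S)` (abelian version) are
weakly closed, for `p` odd, for `p`-th powers from the centre, or without section `S₄`.
-/

set_option autoImplicit false
set_option linter.unusedSectionVars false
set_option linter.unusedVariables false

namespace CfsgLib.WeakClosureJ

open CfsgLib CfsgLib.Local CfsgLib.AbelianOffender Cfsg
open CfsgLib.ThompsonComplement (J_map normalizer_le_normalizer_J involves_of_subgroup)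
open scoped IsMulCommutative Pointwise

universe u
variable {G : Type u} [Group G]

/-- The case hypothesis. -/
def Hyp (p : ℕ) (T : Subgroup G) (x : G) : Prop :=
  p ≠ 2 ∨ (∃ z ∈ T, (∀ t ∈ T, t * z = z * t) ∧ z ^ p = x) ∨ ¬ Involves (Equiv.Perm (Fin 4)) G

theorem Hyp.sub {p : ℕ} {T X : Subgroup G} {x : X} (h : Hyp p T (x : G)) (hT : T ≤ X) :
    Hyp p (T.subgroupOf X) x := by
  rcases h with h | ⟨z, hz, hc, he⟩ | h
  · exact Or.inl h
  · exact Or.inr (Or.inl ⟨⟨z, hT hz⟩, hz, fun t ht => Subtype.ext (hc t ht), Subtype.ext he⟩)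
  · exact Or.inr (Or.inr fun h4 => h (involves_of_subgroup h4))

theorem map_inf_centralizer {V : Subgroup G} [hV : V.Normal] (g : G) (B : Subgroup G) :
    (V ⊓ Subgroup.centralizer (B : Set G)).map (MulAut.conj g).toMonoidHom =
      V ⊓ Subgroup.centralizer ((B.map (MulAut.conj g).toMonoidHom : Subgroup G) : Set G) := by
  ext y
  rw [mem_map_conj]
  constructor
  · rintro ⟨h1, h2⟩
    refine ⟨by simpa [mul_assoc] using hV.conj_mem _ h1 g, ?_⟩
    rintro _ ⟨b, hb, rfl⟩
    have := congrArg (fun u => g * u * g⁻¹) (h2 b hb)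
    simpa [mul_assoc] using this
  · rintro ⟨h1, h2⟩
    refine ⟨by simpa using hV.conj_mem _ h1 g⁻¹, fun b hb => ?_⟩
    have := congrArg (fun u => g⁻¹ * u * g) (h2 (g * b * g⁻¹) ⟨b, hb, rfl⟩)
    simpa [mul_assoc] using this

theorem min_conj [Finite G] {p : ℕ} [Fact p.Prime] {V C₀ B : Subgroup G} [hVn : V.Normal]
    (h : Min p V C₀ B) (g : G) :
    Min p V (C₀.map (MulAut.conj g).toMonoidHom) (B.map (MulAut.conj g).toMonoidHom) := by
  have hinj := (MulAut.conj g).injective
  have hmm : ∀ (H : Subgroup G) (u : G),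
      (H.map (MulAut.conj u).toMonoidHom).map (MulAut.conj u⁻¹).toMonoidHom = H := fun H u => by
    ext y
    rw [mem_map_conj, mem_map_conj]
    simp [mul_assoc]
  have hcard : ∀ H : Subgroup G, Nat.card (H.map (MulAut.conj g).toMonoidHom) = Nat.card H :=
    fun H => Subgroup.card_map_of_injective hinj
  have hlt : ∀ {H K : Subgroup G}, H < K →
      H.map (MulAut.conj g).toMonoidHom < K.map (MulAut.conj g).toMonoidHom := fun {H K} hHK =>
    lt_of_le_of_ne (Subgroup.map_mono hHK.le) fun e => hHK.ne (Subgroup.map_injective hinj e)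
  refine ⟨hlt h.lt, h.pgrp.map _, ?_, ?_, h.wcomm, h.wp, ?_, ?_, fun B₁ h1 h2 => ?_⟩
  · rintro _ ⟨a, ha, rfl⟩ _ ⟨b, hb, rfl⟩
    rw [← map_mul, ← map_mul, h.comm a ha b hb]
  · rw [Subgroup.normalizer_eq_top_iff.2 hVn]
    exact le_top
  · haveI : (Subgroup.centralizer (V : Set G)).Normal := Subgroup.normal_centralizer
    rw [h.ker, Subgroup.map_inf _ _ _ hinj]
    congr 1
    ext y
    rw [mem_map_conj]
    exact ⟨fun hy => by
      simpa [mul_assoc] using (inferInstance : (Subgroup.centralizer (V : Set G)).Normal).conj_mem _ hy g,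
      fun hy => by
      simpa using (inferInstance : (Subgroup.centralizer (V : Set G)).Normal).conj_mem _ hy g⁻¹⟩
  · rw [hcard, hcard, ← map_inf_centralizer, hcard]
    exact h.big
  · have hi := (MulAut.conj g⁻¹).injective
    have hlt' : ∀ {H K : Subgroup G}, H < K →
        H.map (MulAut.conj g⁻¹).toMonoidHom < K.map (MulAut.conj g⁻¹).toMonoidHom := fun {H K} hHK =>
      lt_of_le_of_ne (Subgroup.map_mono hHK.le) fun e => hHK.ne (Subgroup.map_injective hi e)
    have e1 := hlt' h1
    have e2 := hlt' h2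
    rw [hmm] at e1 e2
    have := h.minimal _ e1 e2
    rwa [Subgroup.card_map_of_injective hi, ← map_inf_centralizer,
      Subgroup.card_map_of_injective hi, ← hcard C₀] at this

/-- An element of `O_p(G)` central in the normalizer of `J(S)` is central. -/
theorem commute_of_normalizer_J {G : Type u} [Group G] [Finite G] {p : ℕ} [Fact p.Prime]
    (S : Sylow p G) {x : G} (hx : x ∈ pCore p G)
    (hxJ : ∀ n ∈ Subgroup.normalizer ((ZJ.thompsonJ 0 (S : Subgroup G)) : Set G), n * x = x * n)
    (h : Hyp p (S : Subgroup G) x) (g : G) : g * x = x * g := by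
  induction hn : Nat.card G using Nat.strong_induction_on generalizing G x with
  | h n ihG =>
  subst hn
  induction hk : orderOf x using Nat.strong_induction_on generalizing g x with
  | h k ihx =>
  subst hk
  classical
  have hp : p.Prime := Fact.out
  rcases eq_or_ne x 1 with rfl | hx1
  · rw [mul_one, one_mul]
  have hSJ : (S : Subgroup G) ≤ Subgroup.normalizer ((ZJ.thompsonJ 0 (S : Subgroup G)) : Set G) :=
    Subgroup.le_normalizer.trans (normalizer_le_normalizer_J _)
  have hxS : ∀ s ∈ (S : Subgroup G), s * x = x * s := fun s hs => hxJ s (hSJ hs)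
  -- the `p`-th power is central
  have hxp : ∀ g : G, g * x ^ p = x ^ p * g := by
    intro g
    refine ihx _ ?_ ((pCore p G).pow_mem hx p) (fun n hn => (Commute.pow_right (hxJ n hn) p).eq) ?_ g rfl
    · obtain ⟨k, hk⟩ := (isPGroup_pCore (G := G) p) ⟨x, hx⟩
      have hk' : orderOf x ∣ p ^ k := orderOf_dvd_of_pow_eq_one (congrArg Subtype.val hk)
      obtain ⟨i, -, hi⟩ := (Nat.dvd_prime_pow hp).1 hk'
      have hi0 : i ≠ 0 := fun e => hx1 (by rw [e, pow_zero, orderOf_eq_one_iff] at hi; exact hi)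
      rw [orderOf_pow, hi, Nat.gcd_eq_right (dvd_pow_self p hi0)]
      exact Nat.div_lt_self (pow_pos hp.pos i) hp.one_lt
    · rcases h with h | ⟨z, hz, hc, rfl⟩ | h
      · exact Or.inl h
      · exact Or.inr (Or.inl ⟨z ^ p, (S : Subgroup G).pow_mem hz p,
          fun t ht => (Commute.pow_right (hc t ht) p).eq, rfl⟩)
      · exact Or.inr (Or.inr h)
  have hxpc : ∀ g : G, g * x ^ p * g⁻¹ = x ^ p := fun g => by rw [hxp g, mul_inv_cancel_right]
  -- overgroups of `S`
  have hstep : ∀ X : Subgroup G, X ≠ ⊤ → (S : Subgroup G) ≤ X → ∀ g ∈ X, g * x = x * g := by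
    intro X hX hSX g hg
    have hOX : pCore p G ≤ X := (pCore_le_sylow S).trans hSX
    have hmap : ((S.subtype hSX : Sylow p X) : Subgroup X).map X.subtype = (S : Subgroup G) := by
      rw [Sylow.coe_subtype, Subgroup.subgroupOf_map_subtype, inf_eq_left.2 hSX]
    have := ihG (Nat.card X) (CfsgLib.card_lt_of_lt_top hX.lt_top) (S.subtype hSX) (x := ⟨x, hOX hx⟩) ?_ ?_ ?_
      ⟨g, hg⟩ rfl
    · exact congrArg Subtype.val this
    · haveI : ((pCore p G).subgroupOf X).Normal := Subgroup.normal_subgroupOf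
      exact CfsgLib.le_pCore (N := (pCore p G).subgroupOf X) (isPGroup_pCore p).comap_subtype
        (Subgroup.mem_subgroupOf.2 hx)
    · intro n hn
      refine Subtype.ext (hxJ _ ?_)
      rw [← hmap, J_map _ _ X.subtype_injective.injOn]
      exact Subgroup.le_normalizer_map _ ⟨n, hn, rfl⟩
    · rw [Sylow.coe_subtype]
      exact Hyp.sub h hSX
  -- choice of the generator
  obtain ⟨m, z, hzS, hzc, hzx, hm⟩ : ∃ (m : ℕ) (z : G), z ∈ (S : Subgroup G) ∧
      (∀ t ∈ (S : Subgroup G), t * z = z * t) ∧ z ^ m = x ∧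
      (m = p ∨ m = 1 ∧ (p ≠ 2 ∨ ¬ Involves (Equiv.Perm (Fin 4)) G)) := by
    rcases h with h | ⟨z, h1, h2, h3⟩ | h
    · exact ⟨1, x, pCore_le_sylow S hx, hxS, pow_one x, Or.inr ⟨rfl, Or.inl h⟩⟩
    · exact ⟨p, z, h1, h2, h3, Or.inl rfl⟩
    · exact ⟨1, x, pCore_le_sylow S hx, hxS, pow_one x, Or.inr ⟨rfl, Or.inr h⟩⟩
  set O := pCore p G with hO
  set ZO := O ⊓ Subgroup.centralizer (O : Set G) with hZO
  have hOS : O ≤ (S : Subgroup G) := pCore_le_sylow S
  haveI : (Subgroup.centralizer (O : Set G)).Normal := Subgroup.normal_centralizer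
  haveI : ZO.Normal := inferInstance
  set V₀ := Subgroup.normalClosure ({x} : Set G) with hV₀
  have hV₀Z : V₀ ≤ ZO := Subgroup.normalClosure_le_normal (by
    rw [Set.singleton_subset_iff]; exact ⟨hx, fun o ho => hxS o (hOS ho)⟩)
  have hxV₀ : x ∈ V₀ := Subgroup.subset_normalClosure rfl
  set C := Subgroup.centralizer (V₀ : Set G) with hC
  haveI : C.Normal := Subgroup.normal_centralizer
  have hzC : z ∈ C := fun v hv => hzc v (hOS (hV₀Z hv).1)
  have hfrattini : ∀ D : Subgroup G, D.Normal →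
      Subgroup.normalizer (((S : Subgroup G) ⊓ D : Subgroup G) : Set G) ⊔ D = ⊤ ∧
      (S : Subgroup G) ≤ Subgroup.normalizer (((S : Subgroup G) ⊓ D : Subgroup G) : Set G) := by
    intro D hD
    constructor
    · have h1 := Sylow.normalizer_sup_eq_top (sylowInfNormal S D)
      rwa [coe_sylowInfNormal, Subgroup.subgroupOf_map_subtype] at h1
    · exact fun s hs =>
        mem_normalizer_of_map_conj_eq (Subgroup.eq_of_le_of_card_ge (map_conj_le fun y hy =>
          ⟨(S : Subgroup G).mul_mem ((S : Subgroup G).mul_mem hs hy.1) ((S : Subgroup G).inv_mem hs),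
            hD.conj_mem y hy.2 s⟩)
          (Subgroup.card_map_of_injective (MulAut.conj s).injective).ge)
  obtain ⟨hfr, hSN'⟩ := hfrattini C inferInstance
  set N' := Subgroup.normalizer (((S : Subgroup G) ⊓ C : Subgroup G) : Set G) with hN'
  by_cases hN : N' = ⊤
  swap
  · obtain ⟨n, hn, c, hc, rfl⟩ := Subgroup.mem_sup_of_normal_right.1 (hfr.ge (Subgroup.mem_top g))
    exact (Commute.mul_left (hstep N' hN hSN' n hn) ((hc x hxV₀).symm : Commute c x)).eq
  have hzO : z ∈ O := by
    haveI : ((S : Subgroup G) ⊓ C).Normal := Subgroup.normalizer_eq_top_iff.1 hN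
    exact CfsgLib.le_pCore (isPGroup_of_le inf_le_left S.2) ⟨hzS, hzC⟩
  -- the normal closure of `z`
  set V := Subgroup.normalClosure ({z} : Set G) with hV
  have hVZ : V ≤ ZO := Subgroup.normalClosure_le_normal (by
    rw [Set.singleton_subset_iff]; exact ⟨hzO, fun o ho => hzc o (hOS ho)⟩)
  have hzV : z ∈ V := Subgroup.subset_normalClosure rfl
  have hxV : x ∈ V := hzx ▸ V.pow_mem hzV m
  have hVS : V ≤ (S : Subgroup G) := fun v hv => hOS (hVZ hv).1
  have hVp : IsPGroup p V := isPGroup_of_le hVS S.2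
  have hVc : ∀ v ∈ V, ∀ w ∈ V, v * w = w * v := fun v hv w hw => (hVZ hw).2 v (hVZ hv).1
  haveI : IsMulCommutative V := IsMulCommutative.of_comm fun a b => Subtype.ext (hVc _ a.2 _ b.2)
  set K := Subgroup.centralizer (V : Set G) with hK
  haveI : K.Normal := Subgroup.normal_centralizer
  have hOK : O ≤ K := fun o ho v hv => ((hVZ hv).2 o ho).symm
  -- some largest abelian subgroup acts non-trivially
  by_cases hall : ∀ A ∈ ZJ.goodMax 0 (S : Subgroup G), A ≤ K
  · have hJ : ZJ.thompsonJ 0 ((S : Subgroup G) ⊓ K) = ZJ.thompsonJ 0 (S : Subgroup G) := by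
      rw [ZJ.thompsonJ, ZJ.thompsonJ]
      congr 1
      obtain ⟨A0, hA0⟩ := ZJ.goodMax_nonempty 0 (S : Subgroup G)
      ext A
      constructor
      · rintro ⟨h1, h2, h3⟩
        exact ⟨h1.trans inf_le_left, h2, fun B hB hBg =>
          (hA0.2.2 B hB hBg).trans (h3 A0 (le_inf hA0.1 (hall A0 hA0)) hA0.2.1)⟩
      · rintro hA
        exact ⟨le_inf hA.1 (hall A hA), hA.2.1, fun B hB hBg => hA.2.2 B (hB.trans inf_le_left) hBg⟩
    obtain ⟨hfrK, -⟩ := hfrattini K inferInstance
    obtain ⟨n, hn, c, hc, rfl⟩ := Subgroup.mem_sup_of_normal_right.1 (hfrK.ge (Subgroup.mem_top g))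
    refine (Commute.mul_left (hxJ n ?_) ((hc x hxV).symm : Commute c x)).eq
    rw [← hJ]
    exact normalizer_le_normalizer_J _ hn
  push Not at hall
  obtain ⟨A, ⟨hAS, hAgood, hAmax⟩, hAK⟩ := hall
  have hVn : ∀ g : G, ∀ v ∈ V, g * v * g⁻¹ ∈ V := fun g v hv =>
    (inferInstance : V.Normal).conj_mem v hv g
  have hbig : Nat.card V * Nat.card ↥(A ⊓ K) ≤
      Nat.card A * Nat.card ↥(V ⊓ Subgroup.centralizer (A : Set G)) := by
    refine (CfsgLib.Products.card_mul_card_le V (A ⊓ K)).trans (Nat.mul_le_mul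
      (hAmax _ (sup_le hVS (inf_le_left.trans hAS)) ⟨?_, fun _ _ => pow_zero _⟩)
      (Subgroup.card_le_of_le (le_inf inf_le_left fun v hv a ha => hAgood.1 a ha v hv.2.1)))
    have hcl : (V ⊔ A ⊓ K : Subgroup G) = Subgroup.closure ((V : Set G) ∪ ((A ⊓ K : Subgroup G) : Set G)) := by
      rw [Subgroup.closure_union, Subgroup.closure_eq, Subgroup.closure_eq]
    rw [hcl]
    refine (ZJ.isGood_closure (e := 0) ?_ fun _ _ => pow_zero _).1
    rintro a (ha | ha) b (hb | hb)
    · exact hVc a ha b hb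
    · exact (hb.2 a ha)
    · exact (ha.2 b hb).symm
    · exact hAgood.1 a ha.1 b hb.1
  obtain ⟨B₁, hB₁A, hB₁⟩ := exists_min (W := V) (isPGroup_of_le hAS S.2) hAgood.1
    (fun a _ => by rw [Subgroup.normalizer_eq_top_iff.2 inferInstance]; exact Subgroup.mem_top a) hVp hVc hAK hbig
  -- the subgroup generated by all minimal offenders in `S`
  set Q₀ : Subgroup G := sSup {B | B ≤ (S : Subgroup G) ∧ ∃ C₀, Min p V C₀ B} with hQ₀
  have hQS : Q₀ ≤ (S : Subgroup G) := sSup_le fun B hB => hB.1
  have hweak : ∀ u : G, Q₀.map (MulAut.conj u).toMonoidHom ≤ (S : Subgroup G) →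
      u ∈ Subgroup.normalizer (Q₀ : Set G) := by
    intro u hu
    refine mem_normalizer_of_map_conj_eq (Subgroup.eq_of_le_of_card_ge ?_
      (Subgroup.card_map_of_injective (MulAut.conj u).injective).ge)
    rw [Subgroup.map_le_iff_le_comap]
    refine sSup_le fun B hB => ?_
    obtain ⟨hBS, C₀, hC₀⟩ := hB
    rw [← Subgroup.map_le_iff_le_comap]
    exact le_sSup ⟨(Subgroup.map_mono (le_sSup (s := {B | B ≤ (S : Subgroup G) ∧ ∃ C₀, Min p V C₀ B})
      ⟨hBS, C₀, hC₀⟩)).trans hu, _, min_conj hC₀ u⟩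
  have hSQ : (S : Subgroup G) ≤ Subgroup.normalizer (Q₀ : Set G) := fun s hs =>
    hweak s (map_conj_le fun y hy =>
      (S : Subgroup G).mul_mem ((S : Subgroup G).mul_mem hs (hQS hy)) ((S : Subgroup G).inv_mem hs))
  have hQtop : Subgroup.normalizer (Q₀ : Set G) ≠ ⊤ := by
    intro e
    haveI : Q₀.Normal := Subgroup.normalizer_eq_top_iff.1 e
    have h1 : Q₀ ≤ K := (CfsgLib.le_pCore (isPGroup_of_le hQS S.2)).trans hOK
    refine hB₁.lt.not_ge fun b hb => ⟨hB₁A hb, h1 ?_⟩
    exact le_sSup (s := {B | B ≤ (S : Subgroup G) ∧ ∃ C₀, Min p V C₀ B}) ⟨hB₁A.trans hAS, _, hB₁⟩ hb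
  have hQx : ∀ u ∈ Subgroup.normalizer (Q₀ : Set G), u * x = x * u := hstep _ hQtop hSQ
  -- the transvection case does not occur
  have hnotrans : m = 1 → p = 2 → ∀ B C₀ : Subgroup G, Min p V C₀ B → Nat.card B ≠ 2 * Nat.card C₀ := by
    rintro rfl rfl B C₀ hB
    have hS4 : ¬ Involves (Equiv.Perm (Fin 4)) G := by
      rcases hm with h1 | ⟨-, h1 | h1⟩
      · norm_num at h1
      · exact absurd rfl h1
      · exact h1
    refine S4Criterion.card_ne_two_mul hVp hVc hS4 (fun _ => ?_) hB
    set π := QuotientGroup.mk' K with hπ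
    have hs : Function.Surjective π := QuotientGroup.mk'_surjective K
    set E := (pCore 2 (G ⧸ K)).comap π with hE
    have hEz : ∀ e ∈ E, e * z = z * e := by
      intro e he
      obtain ⟨s, hs', hse⟩ : π e ∈ (S : Subgroup G).map π := pCore_le_sylow (S.mapSurjective hs) he
      have h1 : s⁻¹ * e ∈ K := QuotientGroup.eq.1 hse
      have e1 : e = s * (s⁻¹ * e) := by group
      rw [e1]
      exact (Commute.mul_left (hzc s hs') ((h1 z hzV).symm : Commute (s⁻¹ * e) z)).eq
    have hEK : E ≤ K := by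
      intro e he
      have hle : V ≤ Subgroup.centralizer ({e} : Set G) := by
        rw [hV, Subgroup.normalClosure, Subgroup.closure_le]
        intro y hy
        obtain ⟨a, ha, hc⟩ := Group.mem_conjugatesOfSet_iff.1 hy
        rw [Set.mem_singleton_iff.1 ha] at hc
        obtain ⟨u, rfl⟩ := isConj_iff.1 hc
        refine Subgroup.mem_centralizer_singleton_iff.2 ?_
        have h1 := hEz (u⁻¹ * e * u) (by
          have := (inferInstance : E.Normal).conj_mem e he u⁻¹
          simpa using this)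
        calc u * z * u⁻¹ * e = u * (z * (u⁻¹ * e * u)) * u⁻¹ := by group
          _ = u * ((u⁻¹ * e * u) * z) * u⁻¹ := by rw [h1]
          _ = _ := by group
      exact fun v hv => Subgroup.mem_centralizer_singleton_iff.1 (hle hv)
    rw [eq_bot_iff]
    intro q hq
    obtain ⟨e, rfl⟩ := hs q
    exact Subgroup.mem_bot.2 ((QuotientGroup.eq_one_iff e).2 (hEK hq))
  -- squares are central when `m = 1`
  have hsq : m = 1 → p = 2 → ∀ v : V, ∀ g : G, MulAut.conjNormal g (v * v) = v * v := by
    rintro rfl rfl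
    rw [pow_one] at hzx
    let V2 : Subgroup G :=
      { carrier := {v | v ∈ V ∧ ∀ g : G, g * (v * v) * g⁻¹ = v * v}
        one_mem' := ⟨V.one_mem, fun g => by group⟩
        mul_mem' := fun {a b} ha hb => ⟨V.mul_mem ha.1 hb.1, fun g => by
          have e : a * b * (a * b) = (a * a) * (b * b) := by
            calc a * b * (a * b) = a * (b * a) * b := by group
              _ = a * (a * b) * b := by rw [hVc b hb.1 a ha.1]
              _ = _ := by group
          rw [e]
          calc g * (a * a * (b * b)) * g⁻¹ = (g * (a * a) * g⁻¹) * (g * (b * b) * g⁻¹) := by group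
            _ = _ := by rw [ha.2, hb.2]⟩
        inv_mem' := fun {a} ha => ⟨V.inv_mem ha.1, fun g => by
          calc g * (a⁻¹ * a⁻¹) * g⁻¹ = (g * (a * a) * g⁻¹)⁻¹ := by group
            _ = _ := by rw [ha.2, mul_inv_rev]⟩ }
    haveI : V2.Normal := ⟨fun v hv u => ⟨hVn u v hv.1, fun g => by
      calc g * (u * v * u⁻¹ * (u * v * u⁻¹)) * g⁻¹ = (g * u) * (v * v) * (g * u)⁻¹ := by group
        _ = u * (v * v) * u⁻¹ := by rw [hv.2 (g * u), hv.2 u]
        _ = _ := by group⟩⟩
    have hle : V ≤ V2 := Subgroup.normalClosure_le_normal (by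
      rw [Set.singleton_subset_iff]
      exact ⟨hzV, fun g => by rw [hzx, ← sq]; exact hxpc g⟩)
    exact fun v g => Subtype.ext ((hle v.2).2 g)
  -- the norm of the conjugates of `z`
  set zV : V := ⟨z, hzV⟩
  set xV : V := ⟨x, hxV⟩
  have hzxV : zV ^ m = xV := Subtype.ext hzx
  have hconjp : ∀ g : G, (MulAut.conjNormal g zV ^ m) ^ p = xV ^ p := fun g => by
    rw [← map_pow, hzxV, ← map_pow]
    exact Subtype.ext (hxpc g)
  have claim : ∀ n : ℕ, ∀ T : Subgroup G, Nat.card T = n → T ≤ (S : Subgroup G) → Q₀ ≤ T →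
      ∀ s : Finset V, (∀ v ∈ s, (∃ g : G, MulAut.conjNormal g zV = v) ∧ v ^ m ≠ xV) →
        (∀ t ∈ T, ∀ v ∈ s, MulAut.conjNormal t v ∈ s) → (∏ v ∈ s, v) ^ m = xV ^ s.card := by
    intro n
    induction n using Nat.strong_induction_on with
    | h n ihn =>
    intro T hTn hTS hQT s hs hst
    induction s using Finset.strongInduction with
    | H s ihs =>
    rcases s.eq_empty_or_nonempty with rfl | ⟨w, hw⟩
    · simp
    have hsub := ConjProduct.orb_subset hw hst
    have hlt : s \ ConjProduct.orb T w ⊂ s :=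
      Finset.sdiff_ssubset hsub ⟨w, ConjProduct.self_mem_orb T w⟩
    rw [← Finset.prod_sdiff hsub, mul_pow, ← Finset.card_sdiff_add_card_eq_card hsub, pow_add,
      ihs _ hlt (fun v hv => hs v (Finset.mem_sdiff.1 hv).1) fun t ht v hv => ConjProduct.stable_sdiff hst ht hv]
    congr 1
    obtain ⟨⟨u, hu⟩, hwx⟩ := hs w hw
    -- `Q₀` does not fix `w`
    have hQw : ∃ t ∈ Q₀, MulAut.conjNormal t w ≠ w := by
      by_contra hcon
      push Not at hcon
      set H := Subgroup.centralizer ({z} : Set G)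
      have hSH : (S : Subgroup G) ≤ H := fun t ht =>
        Subgroup.mem_centralizer_singleton_iff.2 (hzc t ht)
      have hQH : Q₀.map (MulAut.conj u⁻¹).toMonoidHom ≤ H := map_conj_le fun t ht => by
        rw [Subgroup.mem_centralizer_singleton_iff, inv_inv]
        have h1 : t * (u * z * u⁻¹) * t⁻¹ = u * z * u⁻¹ := by
          have h2 := hcon t ht
          rw [← hu] at h2
          simpa [zV] using congrArg Subtype.val h2
        calc u⁻¹ * t * u * z = u⁻¹ * (t * (u * z * u⁻¹) * t⁻¹) * (t * u) := by group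
          _ = u⁻¹ * (u * z * u⁻¹) * (t * u) := by rw [h1]
          _ = _ := by group
      obtain ⟨c, hcH, P, hP, -, hSP, hQP⟩ := exists_conj_isPGroup (C := H) S.2
        ((isPGroup_of_le hQS S.2).map (MulAut.conj u⁻¹).toMonoidHom) hSH hQH
      rw [S.3 hP hSP, map_conj_mul] at hQP
      have h1 : Commute (c * u⁻¹) x := hQx _ (hweak _ hQP)
      have h2 : Commute c x := by
        rw [← hzx]
        exact (show Commute c z from Subgroup.mem_centralizer_singleton_iff.1 hcH).pow_right m
      have h3 : Commute u x := by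
        have := h2.inv_left.mul_left h1
        rwa [inv_mul_cancel_left, Commute.inv_left_iff] at this
      refine hwx ?_
      rw [← hu, ← map_pow, hzxV]
      exact Subtype.ext (by simp [xV, h3.eq])
    obtain ⟨t₀, ht₀, ht₀w⟩ := hQw
    obtain ⟨M, hMT, hMst, hMn, hMidx⟩ := ConjProduct.exists_step (isPGroup_of_le hTS S.2)
      ⟨t₀, hQT ht₀, ht₀w⟩
    haveI := hMn
    have hMlt : Nat.card M < n := by
      have h1 : Nat.card M * (M.subgroupOf T).index = Nat.card T :=
        CfsgLib.Products.card_mul_relIndex_of_le hMT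
      rw [hMidx] at h1
      rw [← hTn, ← h1]
      exact lt_mul_of_one_lt_right Nat.card_pos hp.one_lt
    by_cases hQM : Q₀ ≤ M
    · exact ihn _ hMlt M rfl (hMT.trans hTS) hQM _ (fun v hv => hs v (hsub hv))
        (fun t ht v hv => ConjProduct.conj_mem_orb hv (hMT ht))
    obtain ⟨B, ⟨hBS, C₀, hB⟩, hBM⟩ : ∃ B ∈ {B | B ≤ (S : Subgroup G) ∧ ∃ C₀, Min p V C₀ B}, ¬ B ≤ M := by
      by_contra hcon
      push Not at hcon
      exact hQM (sSup_le hcon)
    obtain ⟨a, haB, haM⟩ := SetLike.not_le_iff_exists.1 hBM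
    have hBT : B ≤ T := (le_sSup (s := {B | B ≤ (S : Subgroup G) ∧ ∃ C₀, Min p V C₀ B})
      ⟨hBS, C₀, hB⟩).trans hQT
    have hquad : ∀ v : V, ∀ b ∈ B, ∀ c ∈ B,
        MulAut.conjNormal c (MulAut.conjNormal b v * v⁻¹) = MulAut.conjNormal b v * v⁻¹ :=
      fun v b hb c hc => Subtype.ext (by simpa [mul_assoc] using hB.quad v.2 hb hc)
    obtain ⟨hcard, hprod⟩ := ConjProduct.prod_orb_step hMT hMst hMidx (hBT haB) haM
    rw [hprod, hcard, ConjProduct.prod_translates (hquad _ a haB a haB)]
    set P := ∏ v ∈ ConjProduct.orb M w, v with hP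
    set e := MulAut.conjNormal a P * P⁻¹ with he
    have hPp : (P ^ p) ^ m = xV ^ (p * (ConjProduct.orb M w).card) := by
      rw [← pow_mul, hP, ← Finset.prod_pow, pow_mul, ← Finset.prod_const (s := ConjProduct.orb M w)]
      refine Finset.prod_congr rfl fun v hv => ?_
      obtain ⟨t, ht, rfl⟩ := ConjProduct.mem_orb.1 hv
      rw [← hu, mul_comm p m, pow_mul, ← MulAut.mul_apply, ← map_mul]
      exact hconjp _
    have hep : e ^ p = 1 := by
      have h1 : a ^ p ∈ M := by
        have := Subgroup.pow_index_mem (M.subgroupOf T) (⟨a, hBT haB⟩ : T)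
        rw [hMidx] at this
        exact this
      have h2 := ConjProduct.fix_prod (s := ConjProduct.orb M w)
        (fun v hv => ConjProduct.conj_mem_orb hv h1)
      rw [← hP] at h2
      have h3 : ∀ i : ℕ, MulAut.conjNormal (a ^ i) P = e ^ i * P := by
        intro i
        induction i with
        | zero => simp
        | succ i ih =>
          rw [pow_succ', map_mul, MulAut.mul_apply, ih, map_mul, map_pow (MulAut.conjNormal a : MulAut V) e i,
            show MulAut.conjNormal a e = e from hquad P a haB a haB,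
            show MulAut.conjNormal a P = e * P from (inv_mul_cancel_right _ _).symm, pow_succ, ← mul_assoc]
      rw [h3, mul_eq_right] at h2
      exact h2
    suffices he1 : (e ^ (∑ i ∈ Finset.range p, i)) ^ m = 1 by rw [mul_pow, he1, one_mul, hPp]
    rcases hm with h1 | ⟨h1, -⟩
    · rw [h1, ← pow_mul, mul_comm, pow_mul, hep, one_pow]
    subst h1
    rw [pow_one, Finset.sum_range_id]
    by_cases hp2 : p = 2
    swap
    · obtain ⟨k, hk⟩ := hp.odd_of_ne_two hp2
      have hdiv : p * (p - 1) / 2 = p * k := by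
        rw [show p - 1 = 2 * k by omega, mul_left_comm, Nat.mul_div_cancel_left _ two_pos]
      rw [hdiv, pow_mul, hep, one_pow]
    subst hp2
    suffices MulAut.conjNormal a P = P by
      rw [he, this, mul_inv_cancel, one_pow]
    -- `B ∩ M` has no fixed point on the orbit
    set Y := B ⊓ M with hY
    have hC₀M : C₀ ≤ M := fun c hc => by
      rw [hB.ker] at hc
      refine hMst c (hBT hc.1) (Subtype.ext ?_)
      simp only [MulAut.conjNormal_apply]
      rw [← hc.2 _ w.2, mul_inv_cancel_right]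
    have hC₀Y : C₀ ≤ Y := le_inf hB.lt.le hC₀M
    have hYB : Y < B := lt_of_le_of_ne inf_le_left fun e' => hBM (e' ▸ inf_le_right)
    have hidx : (Y.subgroupOf B).index = 2 := by
      refine Subgroup.index_eq_two_iff.2 ⟨⟨a, haB⟩, fun b => ?_⟩
      have h1 : ((b : G) * a ∈ M ↔ ¬ (b : G) ∈ M) := by
        have := Subgroup.mul_mem_iff_of_index_two hMidx (a := (⟨b, hBT b.2⟩ : T)) (b := ⟨a, hBT haB⟩)
        simp only [Subgroup.mem_subgroupOf] at this
        rw [show (b : G) * a = ((⟨b, hBT b.2⟩ : T) * ⟨a, hBT haB⟩ : T) from rfl, this]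
        exact ⟨fun h hb => haM (h.1 hb), fun hb => iff_of_false hb haM⟩
      simp only [Subgroup.mem_subgroupOf, Subgroup.coe_mul, hY, Subgroup.mem_inf]
      by_cases hb : (b : G) ∈ M
      · exact Or.inr ⟨⟨b.2, hb⟩, fun h => (h1.1 h.2) hb⟩
      · exact Or.inl ⟨⟨B.mul_mem b.2 haB, h1.2 hb⟩, fun h => hb h.2⟩
    have hcardY : Nat.card B = 2 * Nat.card Y := by
      have h1 : Nat.card Y * (Y.subgroupOf B).index = Nat.card B :=
        CfsgLib.Products.card_mul_relIndex_of_le inf_le_left
      rw [← h1, hidx, mul_comm]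
    have hC₀lt : C₀ < Y := lt_of_le_of_ne hC₀Y fun e' =>
      hnotrans rfl rfl B C₀ hB (e' ▸ hcardY)
    have hfix := hB.fix_eq hC₀lt hYB hcardY
    refine ConjProduct.conj_prod_of_quad hB.pgrp inf_le_left haB hquad (fun v => hsq rfl rfl v a) _
      (fun t ht v hv => ConjProduct.conj_mem_orb hv ht.2) fun v hv => ?_
    by_contra hcon
    push Not at hcon
    have hvF : (v : G) ∈ V ⊓ Subgroup.centralizer (Y : Set G) := by
      refine ⟨v.2, fun y hy => ?_⟩
      have := congrArg Subtype.val (hcon y hy)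
      rw [MulAut.conjNormal_apply] at this
      exact mul_inv_eq_iff_eq_mul.1 this
    rw [hfix] at hvF
    refine ConjProduct.conj_notMem_orb hMT hMst (hBT haB) haM hv ?_
    have : MulAut.conjNormal a v = v := Subtype.ext (by
      rw [MulAut.conjNormal_apply, hvF.2 a haB, mul_inv_cancel_right])
    rw [this]
    exact hv
  -- conclusion
  set Ω := ConjProduct.orb (⊤ : Subgroup G) zV with hΩ
  have hΩmem : ∀ v : V, v ∈ Ω ↔ ∃ g : G, MulAut.conjNormal g zV = v := fun v => by
    rw [hΩ, ConjProduct.mem_orb]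
    simp
  have hN1 : (∏ v ∈ Ω, v) ^ m = xV ^ Ω.card := by
    have h1 := claim _ (S : Subgroup G) rfl le_rfl hQS (Ω.filter fun v => v ^ m ≠ xV)
      (fun v hv => ⟨(hΩmem v).1 (Finset.mem_filter.1 hv).1, (Finset.mem_filter.1 hv).2⟩)
      (fun t ht v hv => by
        rw [Finset.mem_filter] at hv ⊢
        refine ⟨ConjProduct.conj_mem_orb hv.1 (Subgroup.mem_top t), fun e => hv.2 ?_⟩
        rw [← map_pow] at e
        refine (MulAut.conjNormal t : MulAut V).injective (e.trans (Subtype.ext ?_))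
        rw [MulAut.conjNormal_apply]
        show x = t * x * t⁻¹
        rw [hxS t ht, mul_inv_cancel_right])
    rw [← Finset.prod_filter_mul_prod_filter_not Ω (fun v => v ^ m ≠ xV), mul_pow, h1]
    conv_rhs => rw [← Finset.card_filter_add_card_filter_not (s := Ω) (fun v => v ^ m ≠ xV), pow_add]
    congr 1
    rw [← Finset.prod_pow, ← Finset.prod_const]
    exact Finset.prod_congr rfl fun v hv => not_not.1 (Finset.mem_filter.1 hv).2
  have hcent : MulAut.conjNormal g (xV ^ Ω.card) = xV ^ Ω.card := by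
    rw [← hN1, map_pow, ConjProduct.fix_prod fun v hv => ConjProduct.conj_mem_orb hv (Subgroup.mem_top g)]
  -- the number of conjugates is prime to `p`
  set H := Subgroup.centralizer ({z} : Set G) with hH
  have hΩH : Ω.card = H.index := by
    rw [Subgroup.index_eq_card, ← Nat.card_eq_finsetCard]
    refine (Nat.card_congr (Equiv.ofBijective (fun q : G ⧸ H =>
      (⟨MulAut.conjNormal q.out zV, (hΩmem _).2 ⟨_, rfl⟩⟩ : Ω)) ⟨fun q q' e => ?_, fun v => ?_⟩)).symm
    · rw [← q.out_eq, ← q'.out_eq]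
      refine QuotientGroup.eq.2 (Subgroup.mem_centralizer_singleton_iff.2 ?_)
      have e1 : q.out * z * (q.out)⁻¹ = q'.out * z * (q'.out)⁻¹ := by
        simpa [zV] using congrArg (fun r : Ω => (((r : V) : G))) e
      generalize q.out = a at e1
      generalize q'.out = b at e1
      calc a⁻¹ * b * z = a⁻¹ * (b * z * b⁻¹) * b := by group
        _ = a⁻¹ * (a * z * a⁻¹) * b := by rw [e1]
        _ = _ := by group
    · obtain ⟨v, hv⟩ := v
      obtain ⟨u, rfl⟩ := (hΩmem v).1 hv
      obtain ⟨c, hc⟩ := QuotientGroup.mk_out_eq_mul H u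
      refine ⟨QuotientGroup.mk u, Subtype.ext (Subtype.ext ?_)⟩
      simp only [MulAut.conjNormal_apply, hc]
      show u * c * z * (u * c)⁻¹ = u * z * u⁻¹
      have := Subgroup.mem_centralizer_singleton_iff.1 c.2
      calc u * c * z * (u * c)⁻¹ = u * ((c : G) * z) * (c : G)⁻¹ * u⁻¹ := by group
        _ = _ := by rw [this]; group
  have hcop : ¬ p ∣ Ω.card := by
    rw [hΩH]
    exact fun hd => S.not_dvd_index (hd.trans (Subgroup.index_dvd_of_le fun t ht =>
      Subgroup.mem_centralizer_singleton_iff.2 (hzc t ht)))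
  obtain ⟨k, hk⟩ := (isPGroup_pCore (G := G) p) ⟨x, hx⟩
  obtain ⟨j, hj⟩ := exists_pow_eq_self_of_coprime (x := x) (n := Ω.card) (Nat.Coprime.coprime_dvd_right
    (orderOf_dvd_of_pow_eq_one (congrArg Subtype.val hk))
    ((hp.coprime_iff_not_dvd.2 hcop).symm.pow_right k))
  have hgx : Commute g (x ^ Ω.card) := by
    have := congrArg Subtype.val hcent
    simpa [xV, Commute, SemiconjBy, mul_inv_eq_iff_eq_mul] using this
  have := hgx.pow_right j
  rw [hj] at this
  exact this.eq

end CfsgLib.WeakClosureJ
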