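import Cfsg.Agent.Lib.Fusion.PowerCenter

/-!
Elements acting quadratically on an abelian group fix the `p`-th multiples of the fixed points of a
Sylow subgroup; the consequence for central elements of groups of characteristic `p`.
-/

set_option autoImplicit false
set_option linter.unusedSectionVars false

universe u

namespace CfsgLib.QuadFix

open Cfsg

variable {A M : Type*} [Group A] [AddCommGroup M] [DistribMulAction A M]

/-- The element acts quadratically. -/
def Quad (A M : Type*) [Group A] [AddCommGroup M] [DistribMulAction A M] (g : A) : Prop :=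
  (DistribMulAction.toAddMonoidEnd A M g - 1) ^ 2 = 0

theorem Quad.conj {g : A} (h : Quad A M g) (a : A) : Quad A M (a * g * a⁻¹) := by
  unfold Quad at h ⊢
  let ρ := DistribMulAction.toAddMonoidEnd A M
  show (ρ (a * g * a⁻¹) - 1) ^ 2 = 0
  have hinv : ρ a⁻¹ * ρ a = 1 := by rw [← map_mul, inv_mul_cancel, map_one]
  have e : ρ (a * g * a⁻¹) - 1 = ρ a * (ρ g - 1) * ρ a⁻¹ := by
    rw [mul_sub, sub_mul, mul_one, ← map_mul, ← map_mul, ← map_mul, mul_inv_cancel, map_one]
  rw [e, sq, show ρ a * (ρ g - 1) * ρ a⁻¹ * (ρ a * (ρ g - 1) * ρ a⁻¹) =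
      ρ a * ((ρ g - 1) * (ρ a⁻¹ * ρ a) * (ρ g - 1)) * ρ a⁻¹ by simp only [mul_assoc],
    hinv, mul_one, ← sq, h, mul_zero, zero_mul]

theorem Quad.pow {g : A} (h : Quad A M g) (i : ℕ) : Quad A M (g ^ i) := by
  unfold Quad at h ⊢
  set x := DistribMulAction.toAddMonoidEnd A M g with hx
  rw [map_pow, ← hx]
  have hc : Commute (x - 1) (∑ j ∈ Finset.range i, x ^ j) :=
    Commute.sum_right _ _ _ fun j _ => (((Commute.refl x).sub_left (Commute.one_left x))).pow_right j
  rw [← mul_geom_sum x i, hc.mul_pow, h, zero_mul]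

variable [Finite A] {p : ℕ} [Fact p.Prime]

/-- Quadratic `p`-elements fix `p` times the fixed points of a Sylow subgroup. -/
theorem fix_smul (T : Sylow p A) {z : M} (hz : ∀ t ∈ T, t • z = z) {g : A} (hg : Quad A M g)
    (hgp : ∃ k, g ^ p ^ k = 1) : g • (p • z) = p • z := by
  classical
  have hp : p.Prime := Fact.out
  let ρ := DistribMulAction.toAddMonoidEnd A M
  let w := p • z
  let H : Subgroup A := MulAction.stabilizer A w
  let good : Sylow p A → Prop := fun U => ∃ u : M, p • u = w ∧ ∀ t ∈ U, t • u = u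
  obtain ⟨U₁, hgU₁⟩ : ∃ U : Sylow p A, g ∈ U := by
    obtain ⟨k, hk⟩ := hgp
    have hP : IsPGroup p (Subgroup.zpowers g) := by
      obtain ⟨j, -, hj⟩ := (Nat.dvd_prime_pow hp).mp (orderOf_dvd_of_pow_eq_one hk)
      exact IsPGroup.of_card (n := j) (by rw [Nat.card_zpowers, hj])
    obtain ⟨U, hU⟩ := hP.exists_le_sylow
    exact ⟨U, hU (Subgroup.mem_zpowers g)⟩
  by_contra hne
  let Dd : Sylow p A → Sylow p A → Subgroup A := fun U U' =>
    Subgroup.closure {a | Quad A M a ∧ a ∈ (U : Subgroup A) ∧ a ∈ (U' : Subgroup A)}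
  let pairs : Set (Sylow p A × Sylow p A) := {q | good q.1 ∧ ∃ a, Quad A M a ∧ a ∈ (q.2 : Subgroup A) ∧ a ∉ H}
  obtain ⟨⟨U, U'⟩, ⟨⟨u, huw, hu⟩, a₀, ha₀q, ha₀U, ha₀H⟩, hmax⟩ := Set.exists_max_image pairs
    (fun q => Nat.card (Dd q.1 q.2)) (Set.toFinite _)
    ⟨(T, U₁), ⟨z, rfl, hz⟩, g, hg, hgU₁, hne⟩
  let D := Dd U U'
  have hDU : D ≤ (U : Subgroup A) := (Subgroup.closure_le _).mpr fun a ha => ha.2.1
  have hDU' : D ≤ (U' : Subgroup A) := (Subgroup.closure_le _).mpr fun a ha => ha.2.2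
  have hUH : (U : Subgroup A) ≤ H := fun t ht => by
    show t • w = w
    rw [← huw, smul_comm, hu t ht]
  -- a quadratic element normalising `D` outside it
  obtain ⟨g₀, hg₀q, hg₀U, hg₀N, hg₀D⟩ : ∃ g₀, Quad A M g₀ ∧ g₀ ∈ (U' : Subgroup A) ∧
      g₀ ∈ Subgroup.normalizer (D : Set A) ∧ g₀ ∉ D := by
    by_cases hN : (U' : Subgroup A) ≤ Subgroup.normalizer (D : Set A)
    · exact ⟨a₀, ha₀q, ha₀U, hN ha₀U, fun h => ha₀H (hUH (hDU h))⟩
    haveI : Group.IsNilpotent (U' : Subgroup A) := U'.2.isNilpotent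
    let M₁ := (Subgroup.normalizer (D : Set A)).subgroupOf (U' : Subgroup A)
    have hM1 : M₁ < ⊤ := lt_top_iff_ne_top.mpr fun h => hN (Subgroup.subgroupOf_eq_top.mp h)
    obtain ⟨v, hvN, hvM⟩ := SetLike.exists_of_lt (Group.normalizerCondition_of_isNilpotent (G := (U' : Subgroup A)) M₁ hM1)
    by_contra hcon
    push Not at hcon
    refine hvM ?_
    show (v : A) ∈ Subgroup.normalizer (D : Set A)
    have hvD : ∀ d ∈ D, (v : A) * d * (v : A)⁻¹ ∈ D := by
      intro d hd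
      have hle : D ≤ D.comap (MulAut.conj (v : A)).toMonoidHom := by
        refine (Subgroup.closure_le _).mpr ?_
        rintro b ⟨hbq, hbU, hbU'⟩
        have hbN : b ∈ Subgroup.normalizer (D : Set A) :=
          Subgroup.le_normalizer (Subgroup.subset_closure ⟨hbq, hbU, hbU'⟩)
        have h2 : v * ⟨b, hbU'⟩ * v⁻¹ ∈ M₁ := (Subgroup.mem_normalizer_iff.mp hvN _).mp hbN
        exact hcon _ (hbq.conj v) ((U' : Subgroup A).mul_mem ((U' : Subgroup A).mul_mem v.2 hbU') ((U' : Subgroup A).inv_mem v.2)) h2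
      exact hle hd
    refine mem_normalizer_of_conj_le hvD
  -- a power whose `p`-th power lies in `D`
  obtain ⟨e, he⟩ := U'.2 ⟨g₀, hg₀U⟩
  have hex : ∃ k, g₀ ^ p ^ k ∈ D := ⟨e, by
    rw [show g₀ ^ p ^ e = 1 from congrArg (fun w : (U' : Subgroup A) => (w : A)) he]; exact D.one_mem⟩
  have hk0 : Nat.find hex ≠ 0 := fun h => hg₀D (by
    have := Nat.find_spec hex
    rwa [h, pow_zero, pow_one] at this)
  obtain ⟨k, hk⟩ := Nat.exists_eq_succ_of_ne_zero hk0
  let g' := g₀ ^ p ^ k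
  have hgD : g' ∉ D := Nat.find_min hex (by omega)
  have hgp' : g' ^ p ∈ D := by
    rw [← pow_mul, ← pow_succ]
    have := Nat.find_spec hex
    rwa [hk] at this
  have hgq : Quad A M g' := hg₀q.pow _
  have hgU' : g' ∈ (U' : Subgroup A) := Subgroup.pow_mem _ hg₀U _
  have hgnil : (ρ g' - 1) ^ (1 * (p - 1) + 1) = 0 :=
    pow_eq_zero_of_le (by have := hp.two_le; omega) hgq
  have hgz : (1 + (ρ g' - 1)) ^ p • u = u := by
    rw [add_sub_cancel, ← map_pow]
    exact hu _ (hDU hgp')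
  have h0 := pow_smul_smul_eq_zero hp hgnil hgz 1 1 le_rfl (by omega)
  have hgH : g' ∈ H := by
    show g' • w = w
    rw [← huw, smul_comm, ← sub_eq_zero, ← smul_sub]
    rw [pow_one, pow_one, mul_smul, Nat.cast_smul_eq_nsmul] at h0
    exact h0
  -- so `D⟨g'⟩` lies in a good Sylow subgroup
  let X : Subgroup A := D ⊔ Subgroup.zpowers g'
  have hXU' : X ≤ (U' : Subgroup A) := sup_le hDU' (Subgroup.zpowers_le.mpr hgU')
  have hXH : X ≤ H := sup_le (hDU.trans hUH) (Subgroup.zpowers_le.mpr hgH)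
  obtain ⟨b, hb⟩ := exists_conj_mem_sylow (U.subtype hUH)
    ((U'.2.to_le hXU').of_equiv (Subgroup.subgroupOfEquivOfLe hXH).symm)
  let U'' : Sylow p A := (b : A)⁻¹ • U
  have hmem : ∀ t : A, (b : A) * t * (b : A)⁻¹ ∈ (U : Subgroup A) → t ∈ (U'' : Subgroup A) := by
    intro t ht
    rw [Sylow.coe_subgroup_smul, Subgroup.mem_pointwise_smul_iff_inv_smul_mem]
    simpa [mul_assoc] using ht
  have hgood : good U'' := by
    refine ⟨(b : A)⁻¹ • u, ?_, fun t ht => ?_⟩
    · rw [← smul_comm, huw]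
      exact H.inv_mem b.2
    · change t ∈ (U'' : Subgroup A) at ht
      rw [Sylow.coe_subgroup_smul, Subgroup.mem_pointwise_smul_iff_inv_smul_mem] at ht
      have h1 := hu _ ht
      calc t • (b : A)⁻¹ • u = (b : A)⁻¹ • (((MulAut.conj (b : A)⁻¹)⁻¹ • t) • u) := by
            rw [← mul_smul, ← mul_smul]
            congr 1
            simp [mul_assoc]
        _ = (b : A)⁻¹ • u := by rw [h1]
  have hXU'' : X ≤ (U'' : Subgroup A) := fun x hx => hmem x (hb ⟨x, hXH hx⟩ hx)
  have h2 := hmax (U'', U') ⟨hgood, a₀, ha₀q, ha₀U, ha₀H⟩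
  have hsub : D ≤ Dd U'' U' := (Subgroup.closure_le _).mpr fun a ha =>
    Subgroup.subset_closure ⟨ha.1, hXU'' (Subgroup.mem_sup_left (Subgroup.subset_closure ha)), ha.2.2⟩
  have hg'' : g' ∈ Dd U'' U' :=
    Subgroup.subset_closure ⟨hgq, hXU'' (Subgroup.mem_sup_right (Subgroup.mem_zpowers g')), hgU'⟩
  have hlt : D < Dd U'' U' := lt_of_le_of_ne hsub fun e => hgD (e ▸ hg'')
  have h3 : Nat.card D < Nat.card (Dd U'' U') :=
    lt_of_le_of_ne (Subgroup.card_le_of_le hlt.le) fun e => hlt.ne (Subgroup.eq_of_le_of_card_ge hlt.le e.ge)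
  exact absurd h2 (not_le.mpr h3)
where
  /-- An element conjugating a finite subgroup into itself normalises it. -/
  mem_normalizer_of_conj_le {D : Subgroup A} {a : A} (h : ∀ d ∈ D, a * d * a⁻¹ ∈ D) :
      a ∈ Subgroup.normalizer (D : Set A) := by
    refine Subgroup.mem_normalizer_iff.mpr fun x => ⟨h x, fun hx => ?_⟩
    have hbij : Function.Surjective fun d : D => (⟨a * d * a⁻¹, h d d.2⟩ : D) :=
      Finite.surjective_of_injective fun d e he => Subtype.ext (mul_left_cancel (mul_right_cancel (congrArg Subtype.val he)))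
    obtain ⟨d, hd⟩ := hbij ⟨_, hx⟩
    rw [← mul_left_cancel (mul_right_cancel (congrArg Subtype.val hd))]
    exact d.2

end CfsgLib.QuadFix
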