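import Cfsg.Agent.Lib.WeakClosureJ
import Cfsg.Agent.Lib.QuadFix
import Cfsg.Agent.Lib.Fusion.Saturation

/-!
In a group of characteristic `p` conjugation inside a Sylow subgroup is controlled by the centralizer of the
`p`-th powers of its centre together with the normalizer of its Thompson subgroup.
-/

set_option autoImplicit false
set_option linter.unusedSectionVars false

universe u

namespace CfsgLib.JFactor

open Cfsg CfsgLib.AbelianOffender CfsgLib.Local

variable {L : Type u} [Group L]

/-- The element conjugates `P` into `T`. -/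
def Into (T : Subgroup L) (a : L) (P : Subgroup L) : Prop := ∀ x ∈ P, a * x * a⁻¹ ∈ T

/-- A family of conjugations closed under composition. -/
def Closed (T : Subgroup L) (R : L → Subgroup L → Prop) : Prop :=
  ∀ (a b : L) (P : Subgroup L), P ≤ T → Into T a P → R a P → R b (P.map (MulAut.conj a).toMonoidHom) → R (b * a) P

/-- With `L = N K`, conjugations inside `T` are composed of those by `N` and those by `K`. -/
theorem split {p : ℕ} [Fact p.Prime] [Finite L] (T : Sylow p L) {R : L → Subgroup L → Prop}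
    (hcl : Closed (T : Subgroup L) R) {K N : Subgroup L} [K.Normal] (hTN : (T : Subgroup L) ≤ N)
    (htop : N ⊔ K = ⊤)
    (hK : ∀ a ∈ K, ∀ P : Subgroup L, P ≤ T → Into T a P → R a P)
    (hN : ∀ a ∈ N, ∀ P : Subgroup L, P ≤ T → Into T a P → R a P)
    (a : L) (P : Subgroup L) (hP : P ≤ T) (ha : Into T a P) : R a P := by
  obtain ⟨k, hk, n, hn, rfl⟩ : ∃ k ∈ K, ∃ n ∈ N, k * n = a := by
    have h : a ∈ K ⊔ N := by rw [sup_comm, htop]; trivial
    exact Subgroup.mem_sup_of_normal_left.mp h
  set H : Subgroup L := N ⊓ (K ⊔ (T : Subgroup L))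
  have hTH : (T : Subgroup L) ≤ H := le_inf hTN le_sup_right
  set Q : Subgroup L := P.map (MulAut.conj n).toMonoidHom with hQ
  have hQH : Q ≤ H := by
    rintro _ ⟨x, hx, rfl⟩
    refine ⟨N.mul_mem (N.mul_mem hn (hTN (hP hx))) (N.inv_mem hn), ?_⟩
    show n * x * n⁻¹ ∈ K ⊔ (T : Subgroup L)
    have h1 := (K ⊔ (T : Subgroup L)).mul_mem
      ((K ⊔ (T : Subgroup L)).mul_mem (Subgroup.mem_sup_left (K.inv_mem hk)) (Subgroup.mem_sup_right (ha x hx)))
      (Subgroup.mem_sup_left hk)
    simpa [mul_assoc] using h1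
  obtain ⟨c, hc⟩ := exists_conj_mem_sylow (T.subtype hTH)
    (((T.2.to_le hP).map _).of_equiv (Subgroup.subgroupOfEquivOfLe hQH).symm)
  obtain ⟨hcN, hcKT⟩ := c.2
  obtain ⟨k', hk', t, ht, hkt⟩ := Subgroup.mem_sup_of_normal_left.mp hcKT
  set d : L := t⁻¹ * c with hd
  have hdK : d ∈ K := by
    rw [hd, ← hkt]
    have := (inferInstance : K.Normal).conj_mem k' hk' t⁻¹
    simpa [mul_assoc] using this
  have hdN : d ∈ N := N.mul_mem (N.inv_mem (hTN ht)) hcN
  have h1 : Into (T : Subgroup L) (d * n) P := by
    intro x hx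
    have h2 : (c : L) * (n * x * n⁻¹) * (c : L)⁻¹ ∈ (T : Subgroup L) := hc ⟨_, hQH ⟨x, hx, rfl⟩⟩ ⟨x, hx, rfl⟩
    have := (T : Subgroup L).mul_mem ((T : Subgroup L).mul_mem ((T : Subgroup L).inv_mem ht) h2) ht
    rw [hd]
    simpa [mul_assoc] using this
  have hle : P.map (MulAut.conj (d * n)).toMonoidHom ≤ (T : Subgroup L) := by
    rintro _ ⟨x, hx, rfl⟩
    exact h1 x hx
  have h3 := hcl (d * n) (k * d⁻¹) P hP h1 (hN _ (N.mul_mem hdN hn) P hP h1)
    (hK _ (K.mul_mem hk (K.inv_mem hdK)) _ hle (by
      rintro _ ⟨x, hx, rfl⟩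
      show k * d⁻¹ * (d * n * x * (d * n)⁻¹) * (k * d⁻¹)⁻¹ ∈ (T : Subgroup L)
      have := ha x hx
      simpa [mul_assoc] using this))
  rwa [show k * d⁻¹ * (d * n) = k * n by group] at h3

/-- The `p`-th powers of the centre of `T` commute with it. -/
def FixesPowers (p : ℕ) (T : Subgroup L) (a : L) : Prop :=
  ∀ z ∈ T, (∀ t ∈ T, t * z = z * t) → a * z ^ p = z ^ p * a

theorem control {p : ℕ} [Fact p.Prime] :
    ∀ k : ℕ, ∀ (L : Type u) [Group L] [Finite L] (T : Sylow p L) (R : L → Subgroup L → Prop), Nat.card L = k →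
      Subgroup.centralizer (pCore p L : Set L) ≤ pCore p L → Closed (T : Subgroup L) R →
      (∀ a : L, FixesPowers p (T : Subgroup L) a → ∀ P : Subgroup L, P ≤ T → Into T a P → R a P) →
      (∀ a ∈ Subgroup.normalizer ((ZJ.thompsonJ 0 (T : Subgroup L)) : Set L),
        ∀ P : Subgroup L, P ≤ T → Into T a P → R a P) →
      ∀ (a : L) (P : Subgroup L), P ≤ T → Into T a P → R a P := by
  intro k
  induction k using Nat.strong_induction_on with
  | h k ih =>
    intro L _ _ T R hk hC hcl hbC hbN a P hP ha
    classical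
    set O := pCore p L with hO
    set V := O ⊓ Subgroup.centralizer (O : Set L) with hV
    have hOT : O ≤ (T : Subgroup L) := pCore_le_sylow T
    haveI : (Subgroup.centralizer (O : Set L)).Normal := Subgroup.normal_centralizer
    haveI hVn : V.Normal := inferInstance
    have hVT : V ≤ (T : Subgroup L) := inf_le_left.trans hOT
    have hVc : ∀ v ∈ V, ∀ w ∈ V, v * w = w * v := fun v hv w hw =>
      Subgroup.mem_centralizer_iff.mp hw.2 v hv.1
    have hzV : ∀ z ∈ (T : Subgroup L), (∀ t ∈ (T : Subgroup L), t * z = z * t) → z ∈ V := fun z hz hzc => by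
      have h1 : z ∈ Subgroup.centralizer (O : Set L) :=
        Subgroup.mem_centralizer_iff.mpr fun o ho => hzc o (hOT ho)
      exact ⟨hC h1, h1⟩
    have hfrattini : ∀ D : Subgroup L, D.Normal →
        Subgroup.normalizer (((T : Subgroup L) ⊓ D : Subgroup L) : Set L) ⊔ D = ⊤ ∧
        (T : Subgroup L) ≤ Subgroup.normalizer (((T : Subgroup L) ⊓ D : Subgroup L) : Set L) := by
      intro D hD
      constructor
      · have h1 := Sylow.normalizer_sup_eq_top (sylowInfNormal T D)
        rwa [coe_sylowInfNormal, Subgroup.subgroupOf_map_subtype] at h1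
      · exact fun s hs =>
          Local.mem_normalizer_of_map_conj_eq (Subgroup.eq_of_le_of_card_ge (Local.map_conj_le fun y hy =>
            ⟨(T : Subgroup L).mul_mem ((T : Subgroup L).mul_mem hs hy.1) ((T : Subgroup L).inv_mem hs),
              hD.conj_mem y hy.2 s⟩)
            (Subgroup.card_map_of_injective (MulAut.conj s).injective).ge)
    set C := Subgroup.centralizer (V : Set L) with hCdef
    haveI : C.Normal := Subgroup.normal_centralizer
    by_cases hall : ∀ A ∈ ZJ.goodMax 0 (T : Subgroup L), A ≤ C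
    · have hJ : ZJ.thompsonJ 0 ((T : Subgroup L) ⊓ C) = ZJ.thompsonJ 0 (T : Subgroup L) := by
        rw [ZJ.thompsonJ, ZJ.thompsonJ]
        congr 1
        obtain ⟨A0, hA0⟩ := ZJ.goodMax_nonempty 0 (T : Subgroup L)
        ext A
        constructor
        · rintro ⟨h1, h2, h3⟩
          exact ⟨h1.trans inf_le_left, h2, fun B hB hBg =>
            (hA0.2.2 B hB hBg).trans (h3 A0 (le_inf hA0.1 (hall A0 hA0)) hA0.2.1)⟩
        · rintro hA
          exact ⟨le_inf hA.1 (hall A hA), hA.2.1, fun B hB hBg => hA.2.2 B (hB.trans inf_le_left) hBg⟩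
      obtain ⟨hfr, hTN⟩ := hfrattini C inferInstance
      refine split T hcl hTN hfr (fun c hc => hbC c fun z hz hzc => ?_) (fun n hn => hbN n ?_) a P hP ha
      · exact (Subgroup.mem_centralizer_iff.mp hc _ (V.pow_mem (hzV z hz hzc) p)).symm
      · rw [← hJ]
        exact ThompsonComplement.normalizer_le_normalizer_J _ hn
    push Not at hall
    obtain ⟨A, ⟨hAT, hAgood, hAmax⟩, hAC⟩ := hall
    haveI : IsMulCommutative V := IsMulCommutative.of_comm fun x y => Subtype.ext (hVc _ x.2 _ y.2)
    have hbig : Nat.card V * Nat.card ↥(A ⊓ C) ≤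
        Nat.card A * Nat.card ↥(V ⊓ Subgroup.centralizer (A : Set L)) := by
      refine (Products.card_mul_card_le V (A ⊓ C)).trans (Nat.mul_le_mul
        (hAmax _ (sup_le hVT (inf_le_left.trans hAT)) ⟨?_, fun _ _ => pow_zero _⟩)
        (Subgroup.card_le_of_le (le_inf inf_le_left fun v hv b hb => hAgood.1 b hb v hv.2.1)))
      have hclo : (V ⊔ A ⊓ C : Subgroup L) = Subgroup.closure ((V : Set L) ∪ ((A ⊓ C : Subgroup L) : Set L)) := by
        rw [Subgroup.closure_union, Subgroup.closure_eq, Subgroup.closure_eq]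
      rw [hclo]
      refine (ZJ.isGood_closure (e := 0) ?_ fun _ _ => pow_zero _).1
      rintro x (hx | hx) y (hy | hy)
      · exact hVc x hx y hy
      · exact hy.2 x hx
      · exact (hx.2 y hy).symm
      · exact hAgood.1 x hx.1 y hy.1
    obtain ⟨B, hBA, hB⟩ := exists_min (W := V) (isPGroup_of_le hAT T.2) hAgood.1
      (fun b _ => by rw [Subgroup.normalizer_eq_top_iff.2 inferInstance]; exact Subgroup.mem_top b)
      (isPGroup_of_le hVT T.2) hVc hAC hbig
    obtain ⟨g, hgB, hgC₀⟩ := SetLike.exists_of_lt hB.lt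
    have hgT : g ∈ (T : Subgroup L) := hAT (hBA hgB)
    have hgO : g ∉ O := fun h => hgC₀ ⟨hBA hgB, Subgroup.mem_centralizer_iff.mpr fun v hv =>
      (Subgroup.mem_centralizer_iff.mp hv.2 g h).symm⟩
    let _ : AddCommGroup (Additive V) :=
      { (inferInstance : AddGroup (Additive V)) with
        add_comm := fun x y => congrArg Additive.ofMul (Subtype.ext
          (hVc _ (Additive.toMul x).2 _ (Additive.toMul y).2)) }
    let _ : DistribMulAction L (Additive V) :=
      { smul := fun b v => Additive.ofMul (MulAut.conjNormal b (Additive.toMul v))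
        one_smul := fun v => congrArg Additive.ofMul (by rw [map_one]; rfl)
        mul_smul := fun b c v => congrArg Additive.ofMul (by rw [map_mul]; rfl)
        smul_zero := fun b => congrArg Additive.ofMul (map_one _)
        smul_add := fun b x v => congrArg Additive.ofMul (map_mul _ _ _) }
    have hsmul : ∀ (b : L) (v : Additive V), (((Additive.toMul (b • v)) : V) : L) =
        b * ((Additive.toMul v : V) : L) * b⁻¹ := fun b v => MulAut.conjNormal_apply _ _
    have hext : ∀ v w : Additive V, ((Additive.toMul v : V) : L) = ((Additive.toMul w : V) : L) → v = w :=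
      fun v w h => Additive.toMul.injective (Subtype.ext h)
    let K : Subgroup L := Subgroup.closure {c | QuadFix.Quad L (Additive V) c ∧ ∃ j, c ^ p ^ j = 1}
    haveI hKn : K.Normal := by
      refine ⟨fun c hc b => ?_⟩
      have hle : K ≤ K.comap (MulAut.conj b).toMonoidHom := by
        refine (Subgroup.closure_le _).mpr ?_
        rintro d ⟨hd, j, hj⟩
        refine Subgroup.subset_closure ⟨hd.conj b, j, ?_⟩
        show (b * d * b⁻¹) ^ p ^ j = 1
        rw [conj_pow, hj, mul_one, mul_inv_cancel]
      exact hle hc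
    have hgK : g ∈ K := by
      refine Subgroup.subset_closure ⟨?_, ?_⟩
      · refine AddMonoidHom.ext fun v => ?_
        rw [sq]
        show (g • (g • v - v) - (g • v - v)) = 0
        rw [sub_eq_zero]
        refine hext _ _ ?_
        have hq := hB.quad (Additive.toMul v : V).2 hgB hgB
        rw [hsmul]
        show g * ((((Additive.toMul (g • v)) : V) : L) / ((Additive.toMul v : V) : L)) * g⁻¹ =
          (((Additive.toMul (g • v)) : V) : L) / ((Additive.toMul v : V) : L)
        rw [hsmul]
        simpa [div_eq_mul_inv, commutatorElement_def, mul_assoc] using hq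
      · obtain ⟨j, hj⟩ := T.2 ⟨g, hgT⟩
        exact ⟨j, congrArg (fun w : (T : Subgroup L) => (w : L)) hj⟩
    have hKfix : ∀ c ∈ K, FixesPowers p (T : Subgroup L) c := by
      intro c hc z hz hzc
      have hle : K ≤ Subgroup.centralizer {z ^ p} := by
        refine (Subgroup.closure_le _).mpr fun d hd => ?_
        refine Subgroup.mem_centralizer_singleton_iff.mpr ?_
        let zA : Additive V := Additive.ofMul ⟨z, hzV z hz hzc⟩
        have hzA : ∀ t ∈ T, t • zA = zA := fun t ht => hext _ _ (by
          rw [hsmul]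
          show t * z * t⁻¹ = z
          rw [hzc t ht, mul_inv_cancel_right])
        have h1 := congrArg (fun v : Additive V => ((Additive.toMul v : V) : L))
          (QuadFix.fix_smul T hzA hd.1 hd.2)
        simp only [hsmul] at h1
        rw [mul_inv_eq_iff_eq_mul] at h1
        exact h1
      exact Subgroup.mem_centralizer_singleton_iff.mp (hle hc)
    obtain ⟨hfr, hTN⟩ := hfrattini K inferInstance
    set N := Subgroup.normalizer (((T : Subgroup L) ⊓ K : Subgroup L) : Set L) with hNdef
    refine split T hcl hTN hfr (fun c hc => hbC c (hKfix c hc)) (fun n hn Q hQ hnQ => ?_) a P hP ha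
    have hNlt : Nat.card N < k := by
      rw [← hk]
      refine lt_of_le_of_ne (Nat.card_le_card_of_injective _ N.subtype_injective) fun e => hgO ?_
      have hNtop : N = ⊤ := Subgroup.eq_top_of_card_eq N e
      haveI : ((T : Subgroup L) ⊓ K).Normal := Subgroup.normalizer_eq_top_iff.mp hNtop
      exact CfsgLib.le_pCore (isPGroup_of_le inf_le_left T.2) ⟨hgT, hgK⟩
    let T' : Sylow p N := T.subtype hTN
    have hT'map : (T' : Subgroup N).map N.subtype = (T : Subgroup L) := Subgroup.map_subgroupOf_eq_of_le hTN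
    have hPN : O ≤ N := hOT.trans hTN
    have hcoreN : O.subgroupOf N ≤ pCore p N :=
      CfsgLib.le_pCore ((CfsgLib.isPGroup_pCore (G := L) p).of_equiv (Subgroup.subgroupOfEquivOfLe hPN).symm)
    have hCN : Subgroup.centralizer (pCore p N : Set N) ≤ pCore p N := by
      intro c hc
      refine hcoreN (show (c : L) ∈ O from hC (Subgroup.mem_centralizer_iff.mpr fun v hv => ?_))
      exact congrArg (fun w : N => (w : L)) (Subgroup.mem_centralizer_iff.mp hc ⟨v, hPN hv⟩
        (hcoreN (show (⟨v, hPN hv⟩ : N) ∈ O.subgroupOf N from hv)))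
    have hinto : ∀ (b : N) (S : Subgroup N), Into (T' : Subgroup N) b S → Into (T : Subgroup L) b (S.map N.subtype) := by
      rintro b S hb _ ⟨x, hx, rfl⟩
      exact hb x hx
    have hle' : ∀ S : Subgroup N, S ≤ T' → S.map N.subtype ≤ (T : Subgroup L) := fun S hS =>
      (Subgroup.map_mono hS).trans hT'map.le
    have h1 := ih _ hNlt N T' (fun b S => R b (S.map N.subtype)) rfl hCN ?_ ?_ ?_ ⟨n, hn⟩ (Q.subgroupOf N)
      (fun x hx => hQ hx) (fun x hx => hnQ x hx)
    · rwa [Subgroup.map_subgroupOf_eq_of_le (hQ.trans hTN)] at h1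
    · intro b c S hS hb h2 h3
      show R ((c : L) * b) (S.map N.subtype)
      refine hcl b c _ (hle' S hS) (hinto b S hb) h2 ?_
      have e : (S.map N.subtype).map (MulAut.conj (b : L)).toMonoidHom =
          (S.map (MulAut.conj b).toMonoidHom).map N.subtype := by
        rw [Subgroup.map_map, Subgroup.map_map]
        rfl
      rwa [e]
    · intro b hb S hS hbS
      refine hbC b (fun z hz hzc => ?_) _ (hle' S hS) (hinto b S hbS)
      have h2 := congrArg (fun w : N => (w : L)) (hb ⟨z, hTN hz⟩ hz fun t ht => Subtype.ext (hzc t ht))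
      simpa using h2
    · intro b hb S hS hbS
      refine hbN b ?_ _ (hle' S hS) (hinto b S hbS)
      rw [← hT'map, ThompsonComplement.J_map _ _ N.subtype_injective.injOn]
      exact Subgroup.le_normalizer_map _ ⟨b, hb, rfl⟩

end CfsgLib.JFactor
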