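import Cfsg.Prelude.Def_CaseTheorems
import Cfsg.Agent.Lib.Involutions
import Mathlib.GroupTheory.Index
import Mathlib.GroupTheory.OrderOfElement
import Mathlib.Data.ZMod.QuotientGroup
import Mathlib.Tactic.Ring
import Mathlib.Tactic.Group
import Mathlib.Tactic.LinearCombination

/-! Structure of wreathed 2-groups. -/

set_option autoImplicit false
set_option linter.unusedSectionVars false

namespace CfsgLib.Wr

/-- Generators of a wreathed group of order `2 N²`, `N = 2 h`. -/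
structure Data (S : Type*) [Group S] where
  h : ℕ
  x : S
  y : S
  z : S
  h2 : 2 ≤ h
  hx : orderOf x = 2 * h
  hc : x * y = y * x
  hd : Subgroup.zpowers x ⊓ Subgroup.zpowers y = ⊥
  hz : orderOf z = 2
  hzx : z * x * z⁻¹ = y
  hcard : Nat.card S = 2 * (2 * h) * (2 * h)

theorem exists_data {S : Type*} [Group S] (hS : Cfsg.IsWreathed S) :
    ∃ n : ℕ, 2 ≤ n ∧ Nat.card S = 2 ^ (2 * n + 1) ∧ ∃ d : Data S, d.h = 2 ^ (n - 1) := by
  obtain ⟨n, hn, hcard, x, y, z, hx, hc, hd, hz, hzx⟩ := hS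
  have e : (2 : ℕ) ^ n = 2 * 2 ^ (n - 1) := by rw [← pow_succ']; congr 1; omega
  refine ⟨n, hn, hcard, ⟨2 ^ (n - 1), x, y, z, ?_, hx.trans e, hc, hd, hz, hzx, ?_⟩, rfl⟩
  · exact le_trans (by norm_num) (Nat.pow_le_pow_right two_pos (by omega : 1 ≤ n - 1))
  · rw [hcard, ← e, mul_assoc, ← pow_add, ← pow_succ']
    congr 1
    omega

variable {S : Type*} [Group S] [Finite S] (d : Data S)

/-- The element `x ^ i * y ^ j`. -/
def Data.u (i j : ℤ) : S := d.x ^ i * d.y ^ j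

/-- The element `x ^ i * y ^ j * z`. -/
def Data.v (i j : ℤ) : S := d.x ^ i * d.y ^ j * d.z

theorem hzz : d.z * d.z = 1 := CfsgLib.Involutions.mul_self_eq_one_of_orderOf d.hz

theorem zinv : d.z⁻¹ = d.z := CfsgLib.Involutions.inv_eq_self_of_orderOf d.hz

theorem hzy : d.z * d.y * d.z⁻¹ = d.x := by
  rw [← d.hzx, show d.z * (d.z * d.x * d.z⁻¹) * d.z⁻¹ = d.z * d.z * d.x * (d.z * d.z)⁻¹ by group, hzz,
    one_mul, inv_one, mul_one]

theorem hy : orderOf d.y = 2 * d.h := by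
  rw [← d.hzx, ← d.hx]
  exact MulEquiv.orderOf_eq (MulAut.conj d.z) d.x

theorem comm (i j : ℤ) : d.y ^ j * d.x ^ i = d.x ^ i * d.y ^ j :=
  ((show Commute d.x d.y from d.hc).zpow_zpow i j).eq.symm

theorem u_mul_u (i j k l : ℤ) : d.u i j * d.u k l = d.u (i + k) (j + l) := by
  simp only [Data.u, zpow_add]
  rw [mul_assoc, ← mul_assoc (d.y ^ j), comm]
  simp [mul_assoc]

theorem u_zero : d.u 0 0 = 1 := by simp [Data.u]

theorem u_inv (i j : ℤ) : (d.u i j)⁻¹ = d.u (-i) (-j) := by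
  apply inv_eq_of_mul_eq_one_right
  rw [u_mul_u, add_neg_cancel, add_neg_cancel, u_zero]

theorem z_u (i j : ℤ) : d.z * d.u i j = d.u j i * d.z := by
  have h : d.z * d.u i j * d.z⁻¹ = d.u j i := by
    rw [Data.u, ← conj_mul, ← conj_zpow, ← conj_zpow, d.hzx, hzy, Data.u, comm]
  rw [← h, inv_mul_cancel_right]

theorem v_eq (i j : ℤ) : d.v i j = d.u i j * d.z := rfl

theorem u_mul_v (i j k l : ℤ) : d.u i j * d.v k l = d.v (i + k) (j + l) := by
  rw [v_eq, ← mul_assoc, u_mul_u, v_eq]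

theorem v_mul_u (i j k l : ℤ) : d.v i j * d.u k l = d.v (i + l) (j + k) := by
  rw [v_eq, mul_assoc, z_u, ← mul_assoc, u_mul_u, v_eq]

theorem v_mul_v (i j k l : ℤ) : d.v i j * d.v k l = d.u (i + l) (j + k) := by
  rw [v_eq d k l, ← mul_assoc, v_mul_u, v_eq, mul_assoc, hzz, mul_one]

theorem u_eq_one_iff {i j : ℤ} :
    d.u i j = 1 ↔ (2 * (d.h : ℤ) ∣ i ∧ 2 * (d.h : ℤ) ∣ j) := by
  have hx' : ∀ {i : ℤ}, d.x ^ i = 1 ↔ 2 * (d.h : ℤ) ∣ i := fun {i} => by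
    rw [← orderOf_dvd_iff_zpow_eq_one, d.hx]; push_cast; rfl
  have hy' : ∀ {i : ℤ}, d.y ^ i = 1 ↔ 2 * (d.h : ℤ) ∣ i := fun {i} => by
    rw [← orderOf_dvd_iff_zpow_eq_one, hy]; push_cast; rfl
  constructor
  · intro h
    have h1 : d.x ^ i ∈ Subgroup.zpowers d.x ⊓ Subgroup.zpowers d.y := by
      refine Subgroup.mem_inf.mpr ⟨zpow_mem (Subgroup.mem_zpowers _) i, ?_⟩
      rw [show d.x ^ i = (d.y ^ j)⁻¹ from eq_inv_of_mul_eq_one_left h]
      exact inv_mem (zpow_mem (Subgroup.mem_zpowers _) j)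
    rw [d.hd, Subgroup.mem_bot] at h1
    rw [Data.u, h1, one_mul] at h
    exact ⟨hx'.mp h1, hy'.mp h⟩
  · rintro ⟨h1, h2⟩
    rw [Data.u, hx'.mpr h1, hy'.mpr h2, mul_one]

theorem u_eq_iff {i j k l : ℤ} :
    d.u i j = d.u k l ↔ (2 * (d.h : ℤ) ∣ k - i ∧ 2 * (d.h : ℤ) ∣ l - j) := by
  rw [← inv_mul_eq_one, u_inv, u_mul_u, u_eq_one_iff, neg_add_eq_sub, neg_add_eq_sub]

theorem v_eq_iff {i j k l : ℤ} :
    d.v i j = d.v k l ↔ (2 * (d.h : ℤ) ∣ k - i ∧ 2 * (d.h : ℤ) ∣ l - j) := by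
  rw [v_eq, v_eq, mul_left_inj, u_eq_iff]

theorem u_ne_v (i j k l : ℤ) : d.u i j ≠ d.v k l := by
  intro h
  have hz' : d.u (i - k) (j - l) = d.z := by
    rw [sub_eq_neg_add, sub_eq_neg_add, ← u_mul_u, ← u_inv, h, v_eq, inv_mul_cancel_left]
  have h1 : d.u 0 1 = d.u 1 0 := by
    calc d.u 0 1 = d.z * d.x * d.z⁻¹ := by rw [d.hzx]; simp [Data.u]
      _ = d.u (i - k) (j - l) * d.u 1 0 * (d.u (i - k) (j - l))⁻¹ := by rw [hz']; simp [Data.u]
      _ = d.u 1 0 := by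
          rw [u_inv, u_mul_u, u_mul_u]
          congr 1 <;> ring
  obtain ⟨h2, -⟩ := (u_eq_iff d).mp h1
  have := d.h2
  have h3 := Int.le_of_dvd one_pos h2
  omega

/-- The homocyclic subgroup of index two. -/
def Data.U : Subgroup S where
  carrier := {g | ∃ i j : ℤ, g = d.u i j}
  one_mem' := ⟨0, 0, (u_zero d).symm⟩
  mul_mem' := by
    rintro _ _ ⟨i, j, rfl⟩ ⟨k, l, rfl⟩
    exact ⟨_, _, u_mul_u d i j k l⟩
  inv_mem' := by
    rintro _ ⟨i, j, rfl⟩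
    exact ⟨_, _, u_inv d i j⟩

theorem u_mem (i j : ℤ) : d.u i j ∈ d.U := ⟨i, j, rfl⟩

theorem v_not_mem (i j : ℤ) : d.v i j ∉ d.U := fun ⟨k, l, h⟩ => u_ne_v d k l i j h.symm

/-- Coordinates on the homocyclic subgroup. -/
noncomputable def Data.coord : Multiplicative (ZMod (2 * d.h) × ZMod (2 * d.h)) →* S where
  toFun p := d.u ((p.toAdd.1).cast : ℤ) ((p.toAdd.2).cast : ℤ)
  map_one' := by
    rw [u_eq_one_iff]
    constructor <;>
      rw [show (2 * (d.h : ℤ)) = ((2 * d.h : ℕ) : ℤ) by push_cast; rfl, ← ZMod.intCast_zmod_eq_zero_iff_dvd,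
        ZMod.intCast_zmod_cast] <;> rfl
  map_mul' p q := by
    rw [u_mul_u, u_eq_iff]
    constructor <;>
      rw [show (2 * (d.h : ℤ)) = ((2 * d.h : ℕ) : ℤ) by push_cast; rfl, ← ZMod.intCast_eq_intCast_iff_dvd_sub]
    · rw [Int.cast_add, ZMod.intCast_zmod_cast, ZMod.intCast_zmod_cast, ZMod.intCast_zmod_cast]; rfl
    · rw [Int.cast_add, ZMod.intCast_zmod_cast, ZMod.intCast_zmod_cast, ZMod.intCast_zmod_cast]; rfl

theorem coord_apply (i j : ℤ) :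
    d.coord (Multiplicative.ofAdd ((i : ZMod (2 * d.h)), (j : ZMod (2 * d.h)))) = d.u i j := by
  show d.u _ _ = _
  rw [u_eq_iff]
  constructor <;>
    rw [show (2 * (d.h : ℤ)) = ((2 * d.h : ℕ) : ℤ) by push_cast; rfl, ← ZMod.intCast_eq_intCast_iff_dvd_sub,
      ZMod.intCast_zmod_cast] <;> rfl

theorem coord_injective : Function.Injective d.coord := by
  rw [injective_iff_map_eq_one]
  intro p hp
  replace hp : d.u ((p.toAdd.1).cast : ℤ) ((p.toAdd.2).cast : ℤ) = 1 := hp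
  rw [u_eq_one_iff, show (2 * (d.h : ℤ)) = ((2 * d.h : ℕ) : ℤ) by push_cast; rfl,
    ← ZMod.intCast_zmod_eq_zero_iff_dvd, ← ZMod.intCast_zmod_eq_zero_iff_dvd,
    ZMod.intCast_zmod_cast, ZMod.intCast_zmod_cast] at hp
  exact Prod.ext hp.1 hp.2

theorem coord_range : d.coord.range = d.U := by
  apply le_antisymm
  · rintro _ ⟨p, rfl⟩
    exact ⟨_, _, rfl⟩
  · rintro _ ⟨i, j, rfl⟩
    exact ⟨_, coord_apply d i j⟩

theorem U_equiv : Nonempty (↥d.U ≃* Multiplicative (ZMod (2 * d.h) × ZMod (2 * d.h))) :=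
  ⟨(MulEquiv.subgroupCongr (coord_range d)).symm.trans (MonoidHom.ofInjective (coord_injective d)).symm⟩

theorem card_U : Nat.card d.U = (2 * d.h) * (2 * d.h) := by
  obtain ⟨e⟩ := U_equiv d
  rw [Nat.card_congr e.toEquiv, Nat.card_congr Multiplicative.toAdd, Nat.card_prod, Nat.card_zmod]

theorem index_U : d.U.index = 2 := by
  have h := d.U.card_mul_index
  rw [card_U, d.hcard] at h
  have := d.h2
  have hpos : 0 < 2 * d.h * (2 * d.h) := by positivity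
  exact Nat.eq_of_mul_eq_mul_left hpos (by rw [h]; ring)

theorem cases_elem (g : S) : ∃ i j : ℤ, g = d.u i j ∨ g = d.v i j := by
  by_cases hg : g ∈ d.U
  · obtain ⟨i, j, rfl⟩ := hg
    exact ⟨i, j, Or.inl rfl⟩
  · have hzU : d.z ∉ d.U := fun ⟨i, j, h⟩ => u_ne_v d i j 0 0 (by rw [← h]; simp [Data.v])
    obtain ⟨i, j, h⟩ : g * d.z ∈ d.U :=
      (Subgroup.mul_mem_iff_of_index_two (index_U d)).mpr ⟨fun h => absurd h hg, fun h => absurd h hzU⟩
    refine ⟨i, j, Or.inr ?_⟩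
    rw [v_eq, ← h, mul_assoc, hzz, mul_one]

theorem conj_v_by_u (a b i j : ℤ) :
    d.u a b * d.v i j * (d.u a b)⁻¹ = d.v (i + (a - b)) (j - (a - b)) := by
  rw [u_inv, u_mul_v, v_mul_u]
  congr 1 <;> ring

theorem conj_u_by_v (a b i j : ℤ) : d.v a b * d.u i j * (d.v a b)⁻¹ = d.u j i := by
  have h : (d.v a b)⁻¹ = d.v (-b) (-a) := by
    apply inv_eq_of_mul_eq_one_right
    rw [v_mul_v, add_neg_cancel, add_neg_cancel, u_zero]
  rw [h, v_mul_u, v_mul_v]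
  congr 1 <;> ring

theorem isConj_v (i j k : ℤ) : IsConj (d.v i j) (d.v (i + k) (j - k)) := by
  rw [isConj_iff]
  refine ⟨d.u k 0, ?_⟩
  rw [conj_v_by_u, sub_zero]

theorem commute_u_v_iff {i j a b : ℤ} :
    Commute (d.u i j) (d.v a b) ↔ 2 * (d.h : ℤ) ∣ j - i := by
  rw [Commute, SemiconjBy, u_mul_v, v_mul_u, v_eq_iff]
  constructor
  · rintro ⟨h, -⟩
    rwa [show a + j - (i + a) = j - i by ring] at h
  · intro h
    refine ⟨?_, ?_⟩
    · rwa [show a + j - (i + a) = j - i by ring]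
    · rw [show b + i - (j + b) = -(j - i) by ring]
      exact dvd_neg.mpr h

theorem u_central_iff {i j : ℤ} : d.u i j ∈ Subgroup.center S ↔ 2 * (d.h : ℤ) ∣ j - i := by
  rw [Subgroup.mem_center_iff]
  constructor
  · intro h
    exact (commute_u_v_iff d (a := 0) (b := 0)).mp (h (d.v 0 0)).symm
  · intro h g
    obtain ⟨a, b, rfl | rfl⟩ := cases_elem d g
    · rw [u_mul_u, u_mul_u, add_comm a, add_comm b]
    · exact ((commute_u_v_iff d).mpr h).eq.symm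

theorem v_not_central (i j : ℤ) : d.v i j ∉ Subgroup.center S := fun h => by
  have h2 := (commute_u_v_iff d (i := 1) (j := 0) (a := i) (b := j)).mp (Subgroup.mem_center_iff.mp h (d.u 1 0))
  rw [zero_sub, dvd_neg] at h2
  have := Int.le_of_dvd one_pos h2
  have := d.h2
  omega

theorem u_mul_self_eq_one {i j : ℤ} (h : d.u i j * d.u i j = 1) :
    (d.h : ℤ) ∣ i ∧ (d.h : ℤ) ∣ j := by
  rw [u_mul_u, u_eq_one_iff, ← two_mul, ← two_mul, mul_dvd_mul_iff_left two_ne_zero,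
    mul_dvd_mul_iff_left two_ne_zero] at h
  exact h

/-- The central involution. -/
def Data.w : S := d.u d.h d.h

theorem dvd_half_cases {i : ℤ} (h : (d.h : ℤ) ∣ i) :
    2 * (d.h : ℤ) ∣ i ∨ 2 * (d.h : ℤ) ∣ i - d.h := by
  obtain ⟨t, rfl⟩ := h
  obtain ⟨s, rfl | rfl⟩ := Int.even_or_odd' t
  · exact Or.inl ⟨s, by ring⟩
  · exact Or.inr ⟨s, by ring⟩

/-- The elements of order dividing two in `U`. -/
theorem u_involution_cases {i j : ℤ} (h : d.u i j * d.u i j = 1) :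
    d.u i j = 1 ∨ d.u i j = d.u d.h 0 ∨ d.u i j = d.u 0 d.h ∨ d.u i j = d.w := by
  obtain ⟨hi, hj⟩ := u_mul_self_eq_one d h
  rcases dvd_half_cases d hi with a | a <;> rcases dvd_half_cases d hj with b | b
  · exact Or.inl ((u_eq_one_iff d).mpr ⟨a, b⟩)
  · refine Or.inr (Or.inr (Or.inl ?_))
    rw [u_eq_iff, zero_sub, dvd_neg, ← neg_sub, dvd_neg]
    exact ⟨a, b⟩
  · refine Or.inr (Or.inl ?_)
    rw [u_eq_iff, zero_sub, dvd_neg, ← neg_sub, dvd_neg]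
    exact ⟨a, b⟩
  · refine Or.inr (Or.inr (Or.inr ?_))
    rw [Data.w, u_eq_iff, ← neg_sub, dvd_neg, ← neg_sub j, dvd_neg]
    exact ⟨a, b⟩

theorem v_mul_self_eq_one_iff {i j : ℤ} : d.v i j * d.v i j = 1 ↔ 2 * (d.h : ℤ) ∣ i + j := by
  rw [v_mul_v, u_eq_one_iff, add_comm j i, and_self_iff]

theorem orderOf_half_u : orderOf (d.u d.h 0) = 2 ∧ orderOf d.w = 2 := by
  have := d.h2
  constructor <;> rw [CfsgLib.Involutions.orderOf_eq_two_iff']
  · rw [u_mul_u, u_eq_one_iff, Ne, u_eq_one_iff]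
    refine ⟨⟨⟨1, by ring⟩, dvd_zero _⟩, fun ⟨h, _⟩ => ?_⟩
    have := Int.le_of_dvd (by omega) h
    omega
  · rw [Data.w, u_mul_u, u_eq_one_iff, Ne, u_eq_one_iff]
    refine ⟨⟨⟨1, by ring⟩, ⟨1, by ring⟩⟩, fun ⟨h, _⟩ => ?_⟩
    have := Int.le_of_dvd (by omega) h
    omega

theorem w_central : d.w ∈ Subgroup.center S := by
  rw [Data.w, u_central_iff, sub_self]
  exact dvd_zero _

end CfsgLib.Wr
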