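import Cfsg.Agent.Lib.Elementary
import Cfsg.Agent.Lib.Metacyclic
import Cfsg.Agent.Lib.RankFrattini
import Cfsg.Agent.Lib.Involutions
import Cfsg.Prelude.Def_Transfer
import Mathlib.Algebra.Group.TransferInstance

/-!
Generalized extraspecial groups with an elementary abelian centralizer of a noncentral element.
-/

set_option autoImplicit false
set_option linter.unusedSectionVars false

universe u

namespace CfsgLib.GenExtraspecial

open scoped commutatorElement

variable {X : Type u} [Group X] [Finite X] {p : ℕ} [Fact p.Prime]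

theorem comm_mem (a b : X) : ⁅a, b⁆ ∈ commutator X :=
  Subgroup.commutator_mem_commutator (Subgroup.mem_top _) (Subgroup.mem_top _)

theorem le_center (hX : IsPGroup p X) (hc : Nat.card (commutator X) = p) :
    commutator X ≤ Subgroup.center X := by
  haveI : IsCyclic (commutator X) := isCyclic_of_prime_card hc
  intro c hcm
  refine Subgroup.mem_center_iff.mpr fun g => (Metacyclic.commute_of_mem (N := commutator X) hX hcm ?_ g).eq
  have h : (⟨c, hcm⟩ : commutator X) ^ p = 1 := by rw [← hc]; exact pow_card_eq_one'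
  simpa using congrArg Subtype.val h

theorem mem_of_zpow_mem {H : Subgroup X} {a : X} {i : ℤ} (ha : a ^ p = 1) (haH : a ∉ H) (hi : a ^ i ∈ H) :
    a ^ i = 1 := by
  by_contra h
  exact haH (Subgroup.zpowers_le.mpr hi (Metacyclic.mem_zpowers_swap ha ⟨i, rfl⟩ h))

/-- The commutator map with a fixed element. -/
def commHom (hcen : commutator X ≤ Subgroup.center X) (x : X) : X →* X where
  toFun g := ⁅g, x⁆
  map_one' := commutatorElement_one_left x
  map_mul' a b := by
    have h : ⁅a * b, x⁆ = a * ⁅b, x⁆ * a⁻¹ * ⁅a, x⁆ := by simp only [commutatorElement_def]; group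
    rw [h, Subgroup.mem_center_iff.mp (hcen (comm_mem b x)) a, mul_inv_cancel_right]
    exact (Subgroup.mem_center_iff.mp (hcen (comm_mem b x)) _).symm

/-- Every element outside the centralizer of `x` generates `X` over it. -/
theorem exists_decomp (hc : Nat.card (commutator X) = p) (hcen : commutator X ≤ Subgroup.center X)
    {x y : X} (hy : ⁅y, x⁆ ≠ 1) (g : X) : ∃ i : ℤ, Commute ((y ^ i)⁻¹ * g) x := by
  haveI : IsCyclic (commutator X) := isCyclic_of_prime_card hc
  have hp1 : ∀ w : commutator X, w ^ p = 1 := fun w => by rw [← hc]; exact pow_card_eq_one'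
  obtain ⟨i, hi⟩ := Metacyclic.mem_zpowers_of_isCyclic (a := (⟨_, comm_mem y x⟩ : commutator X))
    (b := ⟨_, comm_mem g x⟩) (hp1 _) (fun e => hy (congrArg Subtype.val e)) (hp1 _)
  refine ⟨i, commutatorElement_eq_one_iff_commute.mp ?_⟩
  show commHom hcen x ((y ^ i)⁻¹ * g) = 1
  have h1 : ⁅y, x⁆ ^ i = ⁅g, x⁆ := by simpa using congrArg Subtype.val hi
  rw [map_mul, map_inv, map_zpow]
  show (⁅y, x⁆ ^ i)⁻¹ * ⁅g, x⁆ = 1
  rw [h1, inv_mul_cancel]

theorem pow_eq_one_of_odd (hc : Nat.card (commutator X) = p) (hcen : commutator X ≤ Subgroup.center X)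
    (hp : p ≠ 2) {a b : X} (ha : a ^ p = 1) (hb : b ^ p = 1) : (a * b) ^ p = 1 := by
  have hd : b * a = a * b * ⁅b⁻¹, a⁻¹⁆ := by rw [commutatorElement_def]; group
  have hw : ⁅b⁻¹, a⁻¹⁆ ^ p = 1 := by
    have h : (⟨_, comm_mem b⁻¹ a⁻¹⟩ : commutator X) ^ p = 1 := by rw [← hc]; exact pow_card_eq_one'
    simpa using congrArg Subtype.val h
  have hm := Subgroup.mem_center_iff.mp (hcen (comm_mem b⁻¹ a⁻¹))
  rw [Small.mul_pow_class_two hd (hm a).symm (hm b).symm p, ha, hb, one_mul, one_mul]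
  obtain ⟨k, hk⟩ : p ∣ p.choose 2 := by
    have := (Fact.out : p.Prime).two_le
    exact (Fact.out : p.Prime).dvd_choose_self two_ne_zero (by omega)
  rw [hk, pow_mul, hw, one_pow]

/-- The excluded shapes. -/
def IsExcluded (p : ℕ) (X : Type u) [Group X] : Prop :=
  (p = 2 ∧ ∃ (A : Type) (_ : CommGroup A), (∀ a : A, a ^ 2 = 1) ∧ Nonempty (X ≃* DihedralGroup 4 × A)) ∨
    (p ≠ 2 ∧ ∃ (E : Type) (_ : Group E) (A : Type) (_ : CommGroup A), Cfsg.IsExtraspecial p E ∧
      Nat.card E = p ^ 3 ∧ Monoid.exponent E = p ∧ (∀ a : A, a ^ p = 1) ∧ Nonempty (X ≃* E × A))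

theorem isSpecial_congr {E E' : Type*} [Group E] [Group E'] [Finite E] [Finite E'] (e : E ≃* E')
    (h1 : frattini E = Subgroup.center E) (h2 : commutator E = Subgroup.center E) :
    (commutator E).map e.toMonoidHom = commutator E' ∧
      (Subgroup.center E).map e.toMonoidHom = Subgroup.center E' := by
  constructor
  · rw [commutator_def, commutator_def, Subgroup.map_commutator, Subgroup.map_top_of_surjective _ e.surjective]
  · ext g
    constructor
    · rintro ⟨c, hc, rfl⟩
      refine Subgroup.mem_center_iff.mpr fun d => ?_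
      obtain ⟨d, rfl⟩ := e.surjective d
      show e d * e c = e c * e d
      rw [← map_mul, ← map_mul, Subgroup.mem_center_iff.mp hc d]
    · intro hg
      obtain ⟨c, rfl⟩ := e.surjective g
      exact ⟨c, Subgroup.mem_center_iff.mpr fun d => e.injective (by
        rw [map_mul, map_mul]; exact Subgroup.mem_center_iff.mp hg (e d)), rfl⟩

theorem excluded_of_data (hX : IsPGroup p X) (hc : Nat.card (commutator X) = p) {x y : X} (hxp : x ^ p = 1)
    (hyp : y ^ p = 1) (hxy : ⁅y, x⁆ ≠ 1) (hC2 : ∀ a b : X, Commute a x → Commute b x → Commute a b)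
    (hCp : ∀ a : X, Commute a x → a ^ p = 1) : IsExcluded p X := by
  have hp : p.Prime := Fact.out
  have hcen := le_center hX hc
  haveI : IsCyclic (commutator X) := isCyclic_of_prime_card hc
  have hp1 : ∀ w : commutator X, w ^ p = 1 := fun w => by rw [← hc]; exact pow_card_eq_one'
  have hgenZ : ∀ w ∈ commutator X, ∃ k : ℤ, ⁅y, x⁆ ^ k = w := by
    intro w hw
    obtain ⟨k, hk⟩ := Metacyclic.mem_zpowers_of_isCyclic (a := (⟨_, comm_mem y x⟩ : commutator X))
      (b := ⟨w, hw⟩) (hp1 _) (fun e => hxy (congrArg Subtype.val e)) (hp1 _)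
    exact ⟨k, by simpa using congrArg Subtype.val hk⟩
  have hxy' : ¬ Commute y x := fun h => hxy (commutatorElement_eq_one_iff_commute.mpr h)
  set E := Subgroup.closure ({x, y} : Set X) with hE
  have hxE : x ∈ E := Subgroup.subset_closure (Or.inl rfl)
  have hyE : y ∈ E := Subgroup.subset_closure (Or.inr rfl)
  have hZE : commutator X ≤ E := by
    intro w hw
    obtain ⟨k, rfl⟩ := hgenZ w hw
    rw [commutatorElement_def]
    exact E.zpow_mem (mul_mem (mul_mem (mul_mem hyE hxE) (inv_mem hyE)) (inv_mem hxE)) k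
  have hZc : ∀ w ∈ commutator X, ∀ g : X, Commute g w := fun w hw g => Subgroup.mem_center_iff.mp (hcen hw) g
  have hform : ∀ e ∈ E, ∃ i j : ℤ, ∃ w ∈ commutator X, e = y ^ i * x ^ j * w := by
    intro e he
    induction he using Subgroup.closure_induction with
    | mem t ht =>
      rcases ht with rfl | rfl
      · exact ⟨0, 1, 1, one_mem _, by simp⟩
      · exact ⟨1, 0, 1, one_mem _, by simp⟩
    | one => exact ⟨0, 0, 1, one_mem _, by simp⟩
    | mul a b _ _ iha ihb =>
      obtain ⟨i, j, w, hw, rfl⟩ := iha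
      obtain ⟨k, l, v, hv, rfl⟩ := ihb
      have hd := hZc _ (comm_mem (x ^ j) (y ^ k))
      refine ⟨i + k, j + l, ⁅x ^ j, y ^ k⁆ * w * v, mul_mem (mul_mem (comm_mem _ _) hw) hv, ?_⟩
      calc y ^ i * x ^ j * w * (y ^ k * x ^ l * v) = y ^ i * x ^ j * (w * y ^ k) * x ^ l * v := by group
        _ = y ^ i * (⁅x ^ j, y ^ k⁆ * (y ^ k * x ^ j)) * w * x ^ l * v := by
          rw [← (hZc w hw (y ^ k)).eq, commutatorElement_def]; group
        _ = y ^ i * (⁅x ^ j, y ^ k⁆ * (y ^ k * x ^ j)) * (x ^ l * w) * v := by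
          rw [(hZc w hw (x ^ l)).eq]; group
        _ = y ^ i * ((y ^ k * x ^ j) * ⁅x ^ j, y ^ k⁆) * (x ^ l * w) * v := by rw [(hd _).eq]
        _ = y ^ (i + k) * x ^ j * (⁅x ^ j, y ^ k⁆ * x ^ l) * w * v := by rw [zpow_add]; group
        _ = y ^ (i + k) * x ^ j * (x ^ l * ⁅x ^ j, y ^ k⁆) * w * v := by rw [(hd _).eq]
        _ = y ^ (i + k) * x ^ (j + l) * (⁅x ^ j, y ^ k⁆ * w * v) := by rw [zpow_add x]; group
    | inv a _ iha =>
      obtain ⟨i, j, w, hw, rfl⟩ := iha
      have hd := hZc _ (comm_mem (x ^ (-j)) (y ^ (-i)))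
      refine ⟨-i, -j, w⁻¹ * ⁅x ^ (-j), y ^ (-i)⁆, mul_mem (inv_mem hw) (comm_mem _ _), ?_⟩
      calc (y ^ i * x ^ j * w)⁻¹ = w⁻¹ * (⁅x ^ (-j), y ^ (-i)⁆ * (y ^ (-i) * x ^ (-j))) := by
            rw [commutatorElement_def]; group
        _ = w⁻¹ * ((y ^ (-i) * x ^ (-j)) * ⁅x ^ (-j), y ^ (-i)⁆) := by rw [(hd _).eq]
        _ = (y ^ (-i) * x ^ (-j)) * (w⁻¹ * ⁅x ^ (-j), y ^ (-i)⁆) := by
          rw [← mul_assoc, ← ((hZc w hw _).inv_right).eq]; group
  have hxN : x ∉ Subgroup.centralizer ({y} : Set X) := fun h =>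
    hxy' (Subgroup.mem_centralizer_singleton_iff.mp h).symm
  have hyN : y ∉ Subgroup.centralizer ({x} : Set X) := fun h =>
    hxy' (Subgroup.mem_centralizer_singleton_iff.mp h)
  have hcentral : ∀ i j : ℤ, ∀ w ∈ commutator X, Commute (y ^ i * x ^ j * w) x → Commute (y ^ i * x ^ j * w) y →
      y ^ i = 1 ∧ x ^ j = 1 := by
    intro i j w hw h1 h2
    have e1 : Commute (y ^ i * x ^ j) x := by
      have := h1.mul_left ((hZc w hw x).symm.inv_left)
      rwa [mul_inv_cancel_right] at this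
    have e2 : Commute (y ^ i * x ^ j) y := by
      have := h2.mul_left ((hZc w hw y).symm.inv_left)
      rwa [mul_inv_cancel_right] at this
    have e3 : Commute (y ^ i) x := by
      have := e1.mul_left (((Commute.refl x).zpow_left j).inv_left)
      rwa [mul_inv_cancel_right] at this
    have hy1 : y ^ i = 1 := mem_of_zpow_mem hyp hyN (Subgroup.mem_centralizer_singleton_iff.mpr e3)
    rw [hy1, one_mul] at e2
    exact ⟨hy1, mem_of_zpow_mem hxp hxN (Subgroup.mem_centralizer_singleton_iff.mpr e2)⟩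
  -- a complement in the centre
  obtain ⟨A, ⟨hAle, hAdis⟩, hAmax⟩ := (Set.toFinite
    {A : Subgroup X | A ≤ Subgroup.center X ∧ A ⊓ commutator X = ⊥}).exists_maximal ⟨⊥, bot_le, bot_inf_eq _⟩
  have hAsup : Subgroup.center X ≤ A ⊔ commutator X := by
    intro c hc'
    by_contra hc2
    have hcp : c ^ p = 1 := hCp c (Subgroup.mem_center_iff.mp hc' x).symm
    have hle : A ⊔ Subgroup.zpowers c ≤ Subgroup.center X := sup_le hAle (Subgroup.zpowers_le.mpr hc')
    have hdis : (A ⊔ Subgroup.zpowers c) ⊓ commutator X = ⊥ := by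
      rw [eq_bot_iff]
      rintro w ⟨hw, hwZ⟩
      have hAc : Subgroup.zpowers c ≤ Subgroup.normalizer (A : Set X) := fun g hg =>
        Subgroup.mem_normalizer_iff.mpr fun a => by
          rw [← Subgroup.mem_center_iff.mp (Subgroup.zpowers_le.mpr hc' hg) a, mul_inv_cancel_right]
      replace hw : w ∈ ((A ⊔ Subgroup.zpowers c : Subgroup X) : Set X) := hw
      rw [Subgroup.coe_mul_of_right_le_normalizer_left A _ hAc] at hw
      obtain ⟨a, ha, d, hd, rfl⟩ := hw
      obtain ⟨k, rfl⟩ := hd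
      have hck : c ^ k ∈ A ⊔ commutator X := by
        have := mul_mem (Subgroup.mem_sup_left (T := commutator X) (A.inv_mem ha))
          (Subgroup.mem_sup_right (S := A) hwZ)
        simpa using this
      have h1 : c ^ k = 1 := mem_of_zpow_mem hcp hc2 hck
      simp only [h1, mul_one] at hwZ ⊢
      exact hAdis.le ⟨ha, hwZ⟩
    exact hc2 (Subgroup.mem_sup_left ((hAmax ⟨hle, hdis⟩ le_sup_left) (Subgroup.mem_sup_right (Subgroup.mem_zpowers c))))
  let μ : E × A →* X :=
    { toFun := fun q => (q.1 : X) * q.2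
      map_one' := by simp
      map_mul' := fun q r => by
        have h := Subgroup.mem_center_iff.mp (hAle q.2.2) (r.1 : X)
        show (q.1 : X) * r.1 * ((q.2 : X) * r.2) = q.1 * q.2 * (r.1 * r.2)
        rw [mul_assoc, mul_assoc, ← mul_assoc (r.1 : X), h, mul_assoc] }
  have hinj : Function.Injective μ := by
    rw [injective_iff_map_eq_one]
    rintro ⟨⟨e, he⟩, ⟨a, ha⟩⟩ (h : e * a = 1)
    obtain ⟨i, j, w, hw, rfl⟩ := hform e he
    have hec : y ^ i * x ^ j * w = a⁻¹ := eq_inv_of_mul_eq_one_left h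
    have hcm : ∀ g, Commute (y ^ i * x ^ j * w) g := fun g => by
      rw [hec]; exact (Subgroup.mem_center_iff.mp (hAle (A.inv_mem (show a ∈ A from ha))) g).symm
    obtain ⟨h1, h2⟩ := hcentral i j w hw (hcm x) (hcm y)
    rw [h1, h2, one_mul, one_mul] at hec
    have ha1 : a = 1 := by
      have haz : a ∈ commutator X := by rw [← inv_inv a, ← hec]; exact inv_mem hw
      have hmem : a ∈ A ⊓ commutator X := ⟨ha, haz⟩
      rwa [hAdis, Subgroup.mem_bot] at hmem
    subst ha1
    simp only [mul_one] at h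
    exact Prod.ext (Subtype.ext h) rfl
  have hsurj : Function.Surjective μ := by
    intro g
    obtain ⟨i, hi⟩ := exists_decomp hc hcen hxy g
    set c := (y ^ i)⁻¹ * g with hcdef
    obtain ⟨j, hj⟩ := exists_decomp hc hcen (x := y) (y := x)
      (fun h => hxy' (commutatorElement_eq_one_iff_commute.mp h).symm) c
    have hd : (x ^ j)⁻¹ * c ∈ Subgroup.center X := by
      refine Subgroup.mem_center_iff.mpr fun t => ?_
      have hdx : Commute ((x ^ j)⁻¹ * c) x := ((Commute.refl x).zpow_left j).inv_left.mul_left hi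
      obtain ⟨k, hk⟩ := exists_decomp hc hcen hxy t
      have h1 : Commute ((x ^ j)⁻¹ * c) ((y ^ k)⁻¹ * t) := hC2 _ _ hdx hk
      have h2 := (hj.zpow_right k).mul_right h1
      rw [mul_inv_cancel_left] at h2
      exact h2.symm.eq
    obtain ⟨a, ha, w, hw, haw⟩ := Subgroup.mem_sup_of_normal_right.mp (hAsup hd)
    refine ⟨(⟨y ^ i * x ^ j * w, mul_mem (mul_mem (E.zpow_mem hyE i) (E.zpow_mem hxE j)) (hZE hw)⟩, ⟨a, ha⟩), ?_⟩
    show y ^ i * x ^ j * w * a = g
    rw [mul_assoc, (hZc w hw a).symm.eq, haw, hcdef]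
    group
  let e0 : X ≃* E × A := (MulEquiv.ofBijective μ ⟨hinj, hsurj⟩).symm
  haveI : IsMulCommutative A := ⟨⟨fun a b => Subtype.ext (Subgroup.mem_center_iff.mp (hAle b.2) a)⟩⟩
  obtain ⟨A', _, _, ⟨eA⟩⟩ := Finite.exists_type_univ_nonempty_mulEquiv.{u, 0} A
  let instA : CommGroup A' := { ‹Group A'› with
    mul_comm := fun a b => eA.symm.injective (by rw [map_mul, map_mul]; exact mul_comm' _ _) }
  have hA'p : ∀ a : A', a ^ p = 1 := fun a => eA.symm.injective (by
    rw [map_pow, map_one]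
    exact Subtype.ext (by
      simpa using hCp _ (Subgroup.mem_center_iff.mp (hAle (eA.symm a).2) x).symm))
  by_cases hp2 : p = 2
  · subst hp2
    left
    refine ⟨rfl, A', instA, hA'p, ⟨e0.trans (MulEquiv.prodCongr ?_ eA)⟩⟩
    have hx1 : x ≠ 1 := fun e => hxy' (e ▸ Commute.one_right y)
    have hy1 : y ≠ 1 := fun e => hxy' (e ▸ Commute.one_left x)
    have hne : x ≠ y := fun e => hxy' (e ▸ Commute.refl x)
    have hox : orderOf x = 2 := orderOf_eq_prime hxp hx1
    have hoy : orderOf y = 2 := orderOf_eq_prime hyp hy1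
    have hxi : x⁻¹ = x := Involutions.inv_eq_self_of_orderOf hox
    have hyi : y⁻¹ = y := Involutions.inv_eq_self_of_orderOf hoy
    have hsq : (x * y) ^ 2 = ⁅x, y⁆ := by rw [commutatorElement_def, hxi, hyi, pow_two]; group
    have ho : orderOf (x * y) = 4 := by
      refine orderOf_eq_prime_pow (p := 2) (n := 1) ?_ ?_
      · rw [pow_one, hsq]
        exact fun h => hxy' (commutatorElement_eq_one_iff_commute.mp h).symm
      · have h : (⟨_, comm_mem x y⟩ : commutator X) ^ 2 = 1 := hp1 _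
        rw [show (2 : ℕ) ^ (1 + 1) = 2 * 2 by norm_num, pow_mul, hsq]
        simpa using congrArg Subtype.val h
    exact ho ▸ ((MulEquiv.subgroupCongr (Involutions.toClosure_range
        (Involutions.mul_self_eq_one_of_orderOf hox) (Involutions.mul_self_eq_one_of_orderOf hoy))).symm.trans
      (MonoidHom.ofInjective (Involutions.toClosure_injective hox hoy hne)).symm)
  right
  have hXexp : ∀ g : X, g ^ p = 1 := by
    intro g
    obtain ⟨i, hi⟩ := exists_decomp hc hcen hxy g
    have h := pow_eq_one_of_odd hc hcen hp2 (a := y ^ i) (b := (y ^ i)⁻¹ * g)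
      (by rw [← zpow_natCast, zpow_comm, zpow_natCast, hyp, one_zpow]) (hCp _ hi)
    rwa [mul_inv_cancel_left] at h
  have hEp : IsPGroup p E := hX.to_subgroup E
  have hcE : Subgroup.center E = (commutator X).subgroupOf E := by
    ext ⟨e, he⟩
    rw [Subgroup.mem_center_iff, Subgroup.mem_subgroupOf]
    constructor
    · intro h
      obtain ⟨i, j, w, hw, rfl⟩ := hform e he
      obtain ⟨h1, h2⟩ := hcentral i j w hw (congrArg Subtype.val (h ⟨x, hxE⟩)).symm
        (congrArg Subtype.val (h ⟨y, hyE⟩)).symm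
      show y ^ i * x ^ j * w ∈ commutator X
      rw [h1, h2, one_mul, one_mul]
      exact hw
    · exact fun h g => Subtype.ext (hZc e h g).eq
  have hcomm : commutator E = (commutator X).subgroupOf E := by
    refine le_antisymm ?_ fun e he => ?_
    · rw [commutator_def, Subgroup.commutator_le]
      exact fun a _ b _ => comm_mem (a : X) b
    · obtain ⟨k, hk⟩ := hgenZ _ he
      have : e = ⁅(⟨y, hyE⟩ : E), ⟨x, hxE⟩⁆ ^ k :=
        E.subtype_injective ((hk.symm.trans (by rw [commutatorElement_def]; rfl)).trans (map_zpow E.subtype _ k).symm)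
      rw [this]
      exact zpow_mem (comm_mem _ _) k
  have hfr : frattini E = commutator E := le_antisymm
    (RankFrattini.frattini_le_of_elementary hEp _ comm_mem fun a => by
      rw [show a ^ p = 1 from Subtype.ext (by simpa using hXexp a)]; exact one_mem _)
    (commutator_le_frattini_pGroup hEp)
  have hcardZ : Nat.card (Subgroup.center E) = p := by
    rw [hcE, Nat.card_congr (Subgroup.subgroupOfEquivOfLe hZE).toEquiv, hc]
  have hcard : Nat.card E = p ^ 3 := by
    have hox : orderOf x = p := orderOf_eq_prime hxp fun e => hxy' (e ▸ Commute.one_right y)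
    have hoy : orderOf y = p := orderOf_eq_prime hyp fun e => hxy' (e ▸ Commute.one_left x)
    let f : (Subgroup.zpowers y × Subgroup.zpowers x) × commutator X → E := fun q =>
      ⟨(q.1.1 : X) * q.1.2 * q.2,
        mul_mem (mul_mem (Subgroup.zpowers_le.mpr hyE q.1.1.2) (Subgroup.zpowers_le.mpr hxE q.1.2.2)) (hZE q.2.2)⟩
    have hf : Function.Bijective f := by
      refine ⟨?_, fun ⟨e, he⟩ => ?_⟩
      · rintro ⟨⟨⟨_, i, rfl⟩, ⟨_, j, rfl⟩⟩, ⟨w, hw⟩⟩ ⟨⟨⟨_, k, rfl⟩, ⟨_, l, rfl⟩⟩, ⟨v, hv⟩⟩ he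
        have he' : y ^ i * x ^ j * w = y ^ k * x ^ l * v := congrArg Subtype.val he
        have h1 : y ^ (i - k) * x ^ (j - l) * (w * v⁻¹) ∈ commutator X := by
          have hd := hZc _ (comm_mem (x ^ (-l)) (y ^ (i - k)))
          have : y ^ (i - k) * x ^ (j - l) * (w * v⁻¹) = ⁅x ^ (-l), y ^ (i - k)⁆⁻¹ := by
            have e1 : (y ^ k * x ^ l * v)⁻¹ * (y ^ i * x ^ j * w) = 1 := by rw [he', inv_mul_cancel]
            have e2 : (y ^ k * x ^ l * v)⁻¹ * (y ^ i * x ^ j * w) =
                v⁻¹ * (⁅x ^ (-l), y ^ (i - k)⁆ * (y ^ (i - k) * x ^ (j - l))) * w := by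
              rw [commutatorElement_def]; group
            rw [e2] at e1
            calc y ^ (i - k) * x ^ (j - l) * (w * v⁻¹)
                = ⁅x ^ (-l), y ^ (i - k)⁆⁻¹ * v *
                    (v⁻¹ * (⁅x ^ (-l), y ^ (i - k)⁆ * (y ^ (i - k) * x ^ (j - l))) * w) * v⁻¹ := by group
              _ = ⁅x ^ (-l), y ^ (i - k)⁆⁻¹ := by rw [e1, mul_one, mul_inv_cancel_right]
          rw [this]
          exact inv_mem (comm_mem _ _)
        obtain ⟨h2, h3⟩ := hcentral (i - k) (j - l) (w * v⁻¹) (mul_mem hw (inv_mem hv))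
          (hZc _ h1 x).symm (hZc _ h1 y).symm
        have h2' : y ^ i = y ^ k := by rwa [zpow_sub, mul_inv_eq_one] at h2
        have h3' : x ^ j = x ^ l := by rwa [zpow_sub, mul_inv_eq_one] at h3
        rw [h2', h3'] at he'
        simp [h2', h3', mul_left_cancel he']
      · obtain ⟨i, j, w, hw, rfl⟩ := hform e he
        exact ⟨((⟨_, i, rfl⟩, ⟨_, j, rfl⟩), ⟨w, hw⟩), rfl⟩
    rw [← Nat.card_eq_of_bijective f hf, Nat.card_prod, Nat.card_prod, Nat.card_zpowers, Nat.card_zpowers, hox, hoy, hc]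
    ring
  obtain ⟨E', _, _, ⟨eE⟩⟩ := Finite.exists_type_univ_nonempty_mulEquiv.{u, 0} E
  refine ⟨hp2, E', ‹Group E'›, A', instA, ⟨⟨hEp.of_equiv eE, ?_, ?_⟩, ?_⟩, ?_, ?_, hA'p,
    ⟨e0.trans (MulEquiv.prodCongr eE eA)⟩⟩
  · obtain ⟨h1, h2⟩ := isSpecial_congr eE (hfr.trans (hcomm.trans hcE.symm)) (hcomm.trans hcE.symm)
    have h3 : frattini E' = commutator E' := le_antisymm
      (RankFrattini.frattini_le_of_elementary (hEp.of_equiv eE) _ comm_mem fun a => by
        have : a ^ p = 1 := eE.symm.injective (Subtype.ext (by simpa using hXexp _))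
        rw [this]; exact one_mem _)
      (commutator_le_frattini_pGroup (hEp.of_equiv eE))
    rw [h3, ← h1, ← h2, hcomm, hcE]
  · obtain ⟨h1, h2⟩ := isSpecial_congr eE (hfr.trans (hcomm.trans hcE.symm)) (hcomm.trans hcE.symm)
    rw [← h1, ← h2, hcomm, hcE]
  · rw [← Nat.card_congr (Subgroup.centerCongr eE).toEquiv, hcardZ]
  · rw [← Nat.card_congr eE.toEquiv, hcard]
  · haveI : Nontrivial E' := Finite.one_lt_card_iff_nontrivial.mp (by
      rw [← Nat.card_congr eE.toEquiv, hcard]; exact Nat.one_lt_pow three_ne_zero hp.one_lt)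
    exact (Monoid.exponent_eq_prime_iff hp).mpr fun g hg =>
      orderOf_eq_prime (eE.symm.injective (Subtype.ext (by simpa using hXexp _))) hg

end CfsgLib.GenExtraspecial
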