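import Cfsg.Agent.Lib.QuasiDihedralSubgroups
import Cfsg.Agent.Lib.WreathedAut
import Cfsg.Agent.Lib.LocalFusion
import Cfsg.Agent.Lib.QuatAut
import Cfsg.Agent.S1190
import Cfsg.Agent.S1191

/-! Fusion in a quasi-dihedral Sylow subgroup. -/

set_option autoImplicit false
set_option linter.unusedSectionVars false

namespace CfsgLib.QD

variable {S : Type*} [Group S] [Finite S] (d : Data S)

include d in
/-- Self-centralizing subgroups with automorphisms of odd order are four groups or quaternion of order 8. -/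
theorem aut_cases (hS : IsPGroup 2 S) {P : Subgroup S} (hC : Subgroup.centralizer (P : Set S) ≤ P)
    (hA : ¬ IsPGroup 2 (MulAut P)) : IsKleinFour P ∨ Nonempty (P ≃* QuaternionGroup 2) := by
  classical
  haveI : Fact (Nat.Prime 2) := ⟨Nat.prime_two⟩
  have hz : d.z ∈ P := hC (Subgroup.center_le_centralizer _ (z_central d))
  haveI hXc : IsCyclic d.X := ⟨⟨d.x, Subgroup.mem_zpowers _⟩, fun g => by
    obtain ⟨i, hi⟩ := g.2
    exact ⟨i, Subtype.ext (by simpa using hi)⟩⟩
  obtain ⟨⟨⟨c, hcX⟩, hc⟩, hgen⟩ := IsCyclic.exists_generator (α := P.subgroupOf d.X)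
  replace hc : c ∈ P := hc
  have hA' : ∀ g ∈ P, g ∈ d.X → ∃ k : ℤ, c ^ k = g := fun g hg hgX => by
    obtain ⟨k, hk⟩ := hgen ⟨⟨g, hgX⟩, hg⟩
    exact ⟨k, congrArg (fun t : P.subgroupOf d.X => ((t : d.X) : S)) hk⟩
  have hcne : c ≠ 1 := fun e => by
    obtain ⟨k, hk⟩ := hA' d.z hz (z_mem_X d)
    rw [e, one_zpow] at hk
    exact z_ne_one d hk.symm
  have hP : IsPGroup 2 P := hS.to_subgroup P
  by_cases hle : P ≤ d.X
  · refine absurd (CfsgLib.Wr.isPGroup_mulAut_of fun α hα => ?_) hA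
    have h1 : α ⟨c, hc⟩ = ⟨c, hc⟩ := by
      refine CfsgLib.Wr.fix_of_mem_zpowers hP hα _ ?_
      obtain ⟨k, hk⟩ := hA' _ (α ⟨c, hc⟩).2 (hle (α ⟨c, hc⟩).2)
      exact ⟨k, Subtype.ext (by rw [SubgroupClass.coe_zpow]; exact hk)⟩
    refine MulEquiv.ext fun g => ?_
    obtain ⟨k, hk⟩ := hA' g g.2 (hle g.2)
    have e : g = ⟨c, hc⟩ ^ k := Subtype.ext (by rw [SubgroupClass.coe_zpow]; exact hk.symm)
    rw [MulAut.one_apply, e, map_zpow, h1]
  obtain ⟨v, hv, hvX⟩ := SetLike.not_le_iff_exists.mp hle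
  obtain ⟨i, rfl | rfl⟩ := cases_elem d v
  · exact absurd (zpow_mem_X d i) hvX
  have hout : ∀ g ∈ P, g ∉ d.X → ∃ k : ℤ, g = c ^ k * (d.x ^ i * d.y) := fun g hg hgX => by
    obtain ⟨j, rfl | rfl⟩ := cases_elem d g
    · exact absurd (zpow_mem_X d j) hgX
    have h1 : d.x ^ (j - i) ∈ P := by
      have := mul_mem hg (inv_mem hv)
      rwa [show d.x ^ j * d.y * (d.x ^ i * d.y)⁻¹ = d.x ^ (j - i) by
        rw [mul_inv_eq_iff_eq_mul, ← mul_assoc, ← zpow_add, sub_add_cancel]] at this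
    obtain ⟨k, hk⟩ := hA' _ h1 (zpow_mem_X d _)
    exact ⟨k, by rw [hk, ← mul_assoc, ← zpow_add, sub_add_cancel]⟩
  -- if automorphisms stabilize `P ∩ X`, they are trivial
  have stab : (∀ α : MulAut P, ((α ⟨c, hc⟩ : P) : S) ∈ d.X) → False := by
    intro hst
    refine hA (CfsgLib.Wr.isPGroup_mulAut_of fun α hα => ?_)
    have h1 : α ⟨c, hc⟩ = ⟨c, hc⟩ := by
      refine CfsgLib.Wr.fix_of_mem_zpowers hP hα _ ?_
      obtain ⟨k, hk⟩ := hA' _ (α ⟨c, hc⟩).2 (hst α)
      exact ⟨k, Subtype.ext (by rw [SubgroupClass.coe_zpow]; exact hk)⟩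
    have hfix : ∀ g : P, (g : S) ∈ d.X → α g = g := fun g hg => by
      obtain ⟨k, hk⟩ := hA' g g.2 hg
      have e : g = ⟨c, hc⟩ ^ k := Subtype.ext (by rw [SubgroupClass.coe_zpow]; exact hk.symm)
      rw [e, map_zpow, h1]
    refine MulEquiv.ext fun g => ?_
    show α g = g
    by_cases hg : (g : S) ∈ d.X
    · exact hfix g hg
    · refine CfsgLib.Small.apply_eq_self_of_step hP hα (hfix _ ?_)
      have h2 : ((α g : P) : S) ∉ d.X := fun h => by
        have h3 : α (α g) = α g := hfix _ h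
        rw [α.injective h3] at h
        exact hg h
      rw [Subgroup.coe_mul, Subgroup.coe_inv]
      exact (Subgroup.mul_mem_iff_of_index_two (index_X d)).mpr
        ⟨fun h => absurd ((inv_mem_iff (x := (g : S))).mp h) hg, fun h => absurd h h2⟩
  have hc24 : orderOf c = 2 ∨ orderOf c = 4 := by
    by_contra hcon
    refine stab fun α => ?_
    by_contra hαX
    obtain ⟨j, e | e⟩ := cases_elem d ((α ⟨c, hc⟩ : P) : S)
    · exact hαX (e ▸ zpow_mem_X d j)
    have h1 : orderOf c = orderOf (d.x ^ j * d.y) := by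
      rw [← e, Subgroup.orderOf_coe, MulEquiv.orderOf_eq, Subgroup.orderOf_mk]
    obtain ⟨s, rfl | rfl⟩ := Int.even_or_odd' j
    · rw [orderOf_xy_even] at h1; exact hcon (Or.inl h1)
    · rw [orderOf_xy_odd] at h1; exact hcon (Or.inr h1)
  rcases hc24 with h2 | h4
  · -- order four
    have hcz : c = d.z := (involution_cases d h2).resolve_right fun ⟨j, hj⟩ => xy_not_mem d (2 * j) (hj ▸ hcX)
    obtain ⟨s, rfl | rfl⟩ := Int.even_or_odd' i
    · left
      have hTeq : P = Subgroup.centralizer ({d.x ^ (2 * s) * d.y} : Set S) := by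
        refine le_antisymm (fun g hg => ?_) fun g hg => ?_
        · rw [Subgroup.mem_centralizer_singleton_iff]
          have hzc : Commute d.z (d.x ^ (2 * s) * d.y) :=
            (Subgroup.mem_center_iff.mp (z_central d) _).symm
          by_cases hgX : g ∈ d.X
          · obtain ⟨k, rfl⟩ := hA' g hg hgX
            rw [hcz]
            exact (hzc.zpow_left k).eq
          · obtain ⟨k, rfl⟩ := hout g hg hgX
            rw [hcz]
            exact ((hzc.zpow_left k).mul_left (Commute.refl _)).eq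
        · rcases mem_centralizer_cases d _ hg with e | e | e | e <;> rw [e]
          · exact one_mem P
          · exact hz
          · exact hv
          · exact mul_mem hz hv
      have hsq : ∀ g ∈ P, g * g = 1 := fun g hg => by
        have hzz := CfsgLib.Involutions.mul_self_eq_one_of_orderOf (orderOf_z d)
        have hvv := CfsgLib.Involutions.mul_self_eq_one_of_orderOf (orderOf_xy_even d s)
        rcases mem_centralizer_cases d _ (hTeq.le hg) with e | e | e | e <;> rw [e]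
        · exact one_mul 1
        · exact hzz
        · exact hvv
        · rw [show d.z * (d.x ^ (2 * s) * d.y) * (d.z * (d.x ^ (2 * s) * d.y))
            = d.z * ((d.x ^ (2 * s) * d.y) * d.z) * (d.x ^ (2 * s) * d.y) by simp [mul_assoc],
            Subgroup.mem_center_iff.mp (z_central d), ← mul_assoc d.z d.z, hzz, one_mul, hvv]
      refine ⟨le_antisymm (hTeq ▸ card_centralizer_xy_le d _) ?_, ?_⟩
      · have hsub : (({1, d.z, d.x ^ (2 * s) * d.y, d.z * (d.x ^ (2 * s) * d.y)} : Finset S) : Set S) ⊆ (P : Set S) := by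
          intro g hg
          simp only [Finset.coe_insert, Finset.coe_singleton, Set.mem_insert_iff, Set.mem_singleton_iff] at hg
          rcases hg with rfl | rfl | rfl | rfl
          exacts [one_mem P, hz, hv, mul_mem hz hv]
        have h3 := Set.ncard_le_ncard hsub (Set.toFinite _)
        rw [Set.ncard_coe_finset, ← Nat.card_coe_set_eq] at h3
        refine le_trans (le_of_eq ?_) h3
        have n1 : (1 : S) ≠ d.z := (z_ne_one d).symm
        have n2 : (1 : S) ≠ d.x ^ (2 * s) * d.y := fun e => xy_ne_zpow d (2 * s) 0 (by rw [zpow_zero]; exact e.symm)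
        have n3 : d.z ≠ d.x ^ (2 * s) * d.y := fun e => xy_not_mem d (2 * s) (e ▸ z_mem_X d)
        have n4 : (1 : S) ≠ d.z * (d.x ^ (2 * s) * d.y) := fun e => n3
          ((inv_eq_of_mul_eq_one_right (CfsgLib.Involutions.mul_self_eq_one_of_orderOf (orderOf_z d))).symm.trans
            (inv_eq_of_mul_eq_one_right e.symm))
        have n5 : d.z ≠ d.z * (d.x ^ (2 * s) * d.y) := fun e => n2 (mul_eq_left.mp e.symm).symm
        have n6 : d.x ^ (2 * s) * d.y ≠ d.z * (d.x ^ (2 * s) * d.y) := fun e => n1 (mul_eq_right.mp e.symm).symm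
        rw [Finset.card_eq_four.mpr ⟨_, _, _, _, n1, n2, n4, n3, n5, n6, rfl⟩]
      · haveI : Nontrivial P := ⟨⟨⟨d.z, hz⟩, 1, fun e => z_ne_one d (congrArg Subtype.val e)⟩⟩
        rw [Monoid.exponent_eq_prime_iff Nat.prime_two]
        exact fun g hg => orderOf_eq_prime (by rw [sq]; exact Subtype.ext (hsq g g.2)) hg
    · -- cyclic of order four
      exfalso
      refine hA (CfsgLib.Wr.isPGroup_mulAut_of fun α hα => ?_)
      set w := d.x ^ (2 * s + 1) * d.y
      have hall : ∀ g ∈ P, g ∈ Subgroup.zpowers w := by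
        intro g hg
        have hw : d.z ∈ Subgroup.zpowers w := ⟨2, by
          show w ^ (2 : ℤ) = d.z
          rw [zpow_two, xy_mul_self_odd]⟩
        by_cases hgX : g ∈ d.X
        · obtain ⟨k, rfl⟩ := hA' g hg hgX
          rw [hcz]; exact zpow_mem hw k
        · obtain ⟨k, rfl⟩ := hout g hg hgX
          rw [hcz]; exact mul_mem (zpow_mem hw k) (Subgroup.mem_zpowers w)
      have h1 : α ⟨w, hv⟩ = ⟨w, hv⟩ := by
        refine CfsgLib.Wr.fix_of_mem_zpowers hP hα _ ?_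
        obtain ⟨k, hk⟩ := hall _ (α ⟨w, hv⟩).2
        exact ⟨k, Subtype.ext (by rw [SubgroupClass.coe_zpow]; exact hk)⟩
      refine MulEquiv.ext fun g => ?_
      obtain ⟨k, hk⟩ := hall g g.2
      have e : g = ⟨w, hv⟩ ^ k := Subtype.ext (by rw [SubgroupClass.coe_zpow]; exact hk.symm)
      rw [MulAut.one_apply, e, map_zpow, h1]
  · -- order eight
    obtain ⟨t, ht⟩ : ∃ t : ℤ, c = d.x ^ (2 * (d.M : ℤ) * (2 * t + 1)) := by
      rcases order_four_cases d h4 with e | e | ⟨j, e⟩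
      · exact ⟨0, by rw [e]; ring_nf⟩
      · exact ⟨-1, by rw [e]; ring_nf⟩
      · exact absurd (e ▸ hcX) (xy_not_mem d _)
    obtain ⟨s, rfl | rfl⟩ := Int.even_or_odd' i
    · exfalso
      refine stab fun α => ?_
      by_contra hαX
      obtain ⟨k, hk⟩ := hout _ (α ⟨c, hc⟩).2 hαX
      have hck : c ^ k = d.x ^ (2 * (d.M : ℤ) * (2 * t + 1) * k) := by rw [ht, ← zpow_mul]
      rw [hck, ← mul_assoc, ← zpow_add,
        show 2 * (d.M : ℤ) * (2 * t + 1) * k + 2 * s = 2 * ((d.M : ℤ) * (2 * t + 1) * k + s) by ring] at hk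
      have h5 := orderOf_xy_even d ((d.M : ℤ) * (2 * t + 1) * k + s)
      rw [← hk, Subgroup.orderOf_coe, MulEquiv.orderOf_eq, Subgroup.orderOf_mk, h4] at h5
      omega
    · right
      obtain ⟨e⟩ := CfsgLib.Quat.nonempty_equiv (n := 2) (a := c) (b := d.x ^ (2 * s + 1) * d.y)
        (by rw [show 2 * 2 = orderOf c by omega, pow_orderOf_eq_one])
        (by rw [xy_mul_self_odd, ← zpow_natCast, ht, ← zpow_mul, Data.z, zpow_eq_iff]; exact ⟨t, by push_cast; ring⟩)
        (by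
          rw [ht, mul_inv_rev, show d.x ^ (2 * s + 1) * d.y * d.x ^ (2 * (d.M : ℤ) * (2 * t + 1))
              * (d.y⁻¹ * (d.x ^ (2 * s + 1))⁻¹)
            = d.x ^ (2 * s + 1) * (d.y * d.x ^ (2 * (d.M : ℤ) * (2 * t + 1)) * d.y⁻¹) * (d.x ^ (2 * s + 1))⁻¹ by
              simp [mul_assoc],
            conj_y, ← zpow_neg, ← zpow_neg, ← zpow_add, ← zpow_add, zpow_eq_iff]
          exact ⟨-((d.M : ℤ) * (2 * t + 1)), by ring⟩)
        (by omega)
        (fun ⟨k, hk⟩ => xy_ne_zpow d (2 * s + 1) (2 * (d.M : ℤ) * (2 * t + 1) * k) (by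
          rw [zpow_mul, ← ht]; exact hk.symm))
      refine ⟨(MulEquiv.subgroupCongr ?_).trans e⟩
      refine le_antisymm (fun g hg => ?_) ((Subgroup.closure_le _).mpr ?_)
      · by_cases hgX : g ∈ d.X
        · obtain ⟨k, rfl⟩ := hA' g hg hgX
          exact zpow_mem (show c ∈ Subgroup.closure ({c, d.x ^ (2 * s + 1) * d.y} : Set S) from Subgroup.subset_closure (Or.inl rfl)) k
        · obtain ⟨k, rfl⟩ := hout g hg hgX
          exact mul_mem (zpow_mem (show c ∈ Subgroup.closure ({c, d.x ^ (2 * s + 1) * d.y} : Set S) from Subgroup.subset_closure (Or.inl rfl)) k) (Subgroup.subset_closure (Or.inr rfl))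
      · rintro g (rfl | rfl) <;> assumption

end CfsgLib.QD

namespace CfsgLib.QD

open CfsgLib.LocalFusion

variable {S : Type*} [Group S] [Finite S] (d : Data S)

theorem zpow_even_mem_D (j : ℤ) : d.x ^ (2 * j) ∈ d.D := by
  rw [zpow_mul, ← two_involutions_mul d]
  exact zpow_mem (mul_mem (Subgroup.subset_closure (Or.inl rfl) : d.x ^ (2 : ℤ) * d.y ∈ d.D) (Subgroup.subset_closure (Or.inr rfl) : d.y ∈ d.D)) j

theorem xy_even_mem_D (j : ℤ) : d.x ^ (2 * j) * d.y ∈ d.D :=
  mul_mem (zpow_even_mem_D d j) (Subgroup.subset_closure (Or.inr rfl))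

theorem zpow_even_mem_Q (j : ℤ) : d.x ^ (2 * j) ∈ d.Q := by
  rw [zpow_mul]
  exact zpow_mem (Subgroup.subset_closure (Or.inl rfl) : d.x ^ (2 : ℤ) ∈ d.Q) j

theorem xy_odd_mem_Q (j : ℤ) : d.x ^ (2 * j + 1) * d.y ∈ d.Q := by
  rw [zpow_add, mul_assoc]
  exact mul_mem (zpow_even_mem_Q d j) (Subgroup.subset_closure (Or.inr rfl))

theorem y_not_mem_Q : d.y ∉ d.Q := fun h => by
  have h1 := mul_mem (xy_odd_mem_Q d 0) h
  rw [mul_assoc, hyy, mul_one, mul_zero, zero_add, zpow_one] at h1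
  have h2 := eq_of_le_of_index (Subgroup.zpowers_le.mpr h1) (index_X d) (index_of_card d (card_Q d))
  exact y_not_mem d (h2.ge h)

theorem xy_not_mem_D : d.x ^ (1 : ℤ) * d.y ∉ d.D := fun h => by
  have h1 := mul_mem h (Subgroup.subset_closure (Or.inr rfl) : d.y ∈ d.D)
  rw [mul_assoc, hyy, mul_one, zpow_one] at h1
  have h2 := eq_of_le_of_index (Subgroup.zpowers_le.mpr h1) (index_X d) (index_of_card d (card_D d))
  exact xy_not_mem d 1 (h2.ge h)

theorem klein_le_D {T : Subgroup S} (hT : IsKleinFour T) : T ≤ d.D := by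
  obtain ⟨j, -, e, -⟩ := klein_eq d hT
  have hz : d.z ∈ d.D := by
    rw [Data.z, show 4 * (d.M : ℤ) = 2 * (2 * d.M) by ring]
    exact zpow_even_mem_D d _
  intro g hg
  rcases mem_centralizer_cases d _ (e.le hg) with h | h | h | h <;> rw [h]
  exacts [one_mem _, hz, xy_even_mem_D d j, mul_mem hz (xy_even_mem_D d j)]

theorem q8_le_Q {P : Subgroup S} (e : P ≃* QuaternionGroup 2) : P ≤ d.Q := by
  obtain ⟨i, hi⟩ := q8_mem d e
  intro g hg
  obtain ⟨k, rfl | rfl⟩ := (hi g).mp hg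
  · rw [show 2 * (d.M : ℤ) * k = 2 * ((d.M : ℤ) * k) by ring]
    exact zpow_even_mem_Q d _
  · rw [show 2 * i + 1 + 2 * (d.M : ℤ) * k = 2 * (i + (d.M : ℤ) * k) + 1 by ring]
    exact xy_odd_mem_Q d _

theorem D_le_of_normal {H : Subgroup S} [H.Normal] {j : ℤ} (h : d.x ^ (2 * j) * d.y ∈ H) : d.D ≤ H := by
  have hj : ∀ k : ℤ, d.x ^ (2 * k) * d.y ∈ H := fun k => by
    obtain ⟨c, hc⟩ := isConj_iff.mp (isConj_shift d (2 * j) (k - j))
    rw [show 2 * j + 2 * (k - j) = 2 * k by ring] at hc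
    exact hc ▸ Subgroup.Normal.conj_mem inferInstance _ h c
  rw [Data.D, Subgroup.closure_le]
  rintro g (rfl | rfl)
  · simpa using hj 1
  · simpa using hj 0

theorem Q_le_of_normal {H : Subgroup S} [H.Normal] {i : ℤ} (h : d.x ^ (2 * i + 1) * d.y ∈ H) : d.Q ≤ H := by
  have hi : ∀ k : ℤ, d.x ^ (2 * k + 1) * d.y ∈ H := fun k => by
    obtain ⟨c, hc⟩ := isConj_iff.mp (isConj_shift d (2 * i + 1) (k - i))
    rw [show 2 * i + 1 + 2 * (k - i) = 2 * k + 1 by ring] at hc
    exact hc ▸ Subgroup.Normal.conj_mem inferInstance _ h c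
  rw [Data.Q, Subgroup.closure_le]
  rintro g (rfl | rfl)
  · have h2 := mul_mem (hi 1) (inv_mem (hi 0))
    rwa [mul_inv_rev, ← mul_assoc, mul_assoc (d.x ^ (2 * (1 : ℤ) + 1)), mul_inv_cancel, mul_one, ← zpow_neg,
      ← zpow_add, show 2 * (1 : ℤ) + 1 + -(2 * 0 + 1) = 2 by norm_num] at h2
  · simpa using hi 0

/-! ### Transport to the ambient group -/

variable {G : Type*} [Group G] [Finite G] (P : Sylow 2 G)

theorem exists_conj_subgroup {A B : Subgroup G} (hA : A ≤ (P : Subgroup G)) (hB : B ≤ (P : Subgroup G))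
    (h : ∃ s : (P : Subgroup G), (A.subgroupOf (P : Subgroup G)).map (MulAut.conj s).toMonoidHom = B.subgroupOf (P : Subgroup G)) :
    ∃ s ∈ (P : Subgroup G), A.map (MulAut.conj s).toMonoidHom = B := by
  obtain ⟨s, hs⟩ := h
  refine ⟨s, s.2, le_antisymm ?_ ?_⟩
  · rintro _ ⟨a, ha, rfl⟩
    exact hs.le ⟨⟨a, hA ha⟩, ha, rfl⟩
  · intro b hb
    obtain ⟨a, ha, hab⟩ := hs.ge (show (⟨b, hB hb⟩ : (P : Subgroup G)) ∈ B.subgroupOf (P : Subgroup G) from hb)
    exact ⟨a, ha, congrArg Subtype.val hab⟩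

theorem klein_subgroupOf {T : Subgroup G} (hT : IsKleinFour T) (hTP : T ≤ (P : Subgroup G)) :
    IsKleinFour (T.subgroupOf (P : Subgroup G)) := by
  haveI := hT
  exact ⟨by rw [Nat.card_congr (Subgroup.subgroupOfEquivOfLe hTP).toEquiv, IsKleinFour.card_four],
    by rw [Monoid.exponent_eq_of_mulEquiv (Subgroup.subgroupOfEquivOfLe hTP), IsKleinFour.exponent_two]⟩

/-- The automizer of `A` is induced from the Sylow subgroup. -/
def AutFromSylow (A : Subgroup G) : Prop :=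
  ∀ g ∈ Subgroup.normalizer (A : Set G), ∃ t ∈ (P : Subgroup G), ∀ x ∈ A, g * x * g⁻¹ = t * x * t⁻¹

theorem autFromSylow_conj {A B : Subgroup G} {s : G} (hs : s ∈ (P : Subgroup G))
    (hAB : A.map (MulAut.conj s).toMonoidHom = B) (h : AutFromSylow P B) : AutFromSylow P A := by
  subst hAB
  intro g hg
  have hg' : s * g * s⁻¹ ∈ Subgroup.normalizer ((A.map (MulAut.conj s).toMonoidHom : Subgroup G) : Set G) :=
    Subgroup.le_normalizer_map _ ⟨g, hg, rfl⟩
  obtain ⟨t, ht, htx⟩ := h _ hg'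
  refine ⟨s⁻¹ * t * s, mul_mem (mul_mem (inv_mem hs) ht) hs, fun x hx => ?_⟩
  have h1 := htx (s * x * s⁻¹) ⟨x, hx, rfl⟩
  calc g * x * g⁻¹ = s⁻¹ * (s * g * s⁻¹ * (s * x * s⁻¹) * (s * g * s⁻¹)⁻¹) * s := by group
    _ = s⁻¹ * t * s * x * (s⁻¹ * t * s)⁻¹ := by rw [h1]; group

theorem klein_autFromSylow (hQD : Cfsg.IsQuasiDihedral (P : Subgroup G)) {T : Subgroup G}
    (hT : IsKleinFour T) (hTP : T ≤ (P : Subgroup G))
    (h : (Subgroup.centralizer (T : Set G)).relIndex (Subgroup.normalizer (T : Set G)) = 2)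
    {A : Subgroup G} (hA : IsKleinFour A) (hAP : A ≤ (P : Subgroup G)) : AutFromSylow P A := by
  obtain ⟨s, hs, hAT⟩ := exists_conj_subgroup P hAP hTP
    ((Cfsg.Agent.S1190.result hQD).1 _ _ (klein_subgroupOf P hA hAP) (klein_subgroupOf P hT hTP))
  refine autFromSylow_conj P hs hAT ?_
  obtain ⟨hC, hN⟩ := (Cfsg.Agent.S1190.result hQD).2 _ (klein_subgroupOf P hT hTP)
  obtain ⟨k, hkN, hkT⟩ : ∃ k : (P : Subgroup G), (k : G) ∈ Subgroup.normalizer (T : Set G) ∧
      k ∉ T.subgroupOf (P : Subgroup G) := by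
    obtain ⟨k, hkN, hkT⟩ := SetLike.not_le_iff_exists.mp
      (fun hle => absurd (Subgroup.relIndex_eq_one.mpr hle) (by omega) :
        ¬ Subgroup.normalizer ((T.subgroupOf (P : Subgroup G)) : Set (P : Subgroup G)) ≤ T.subgroupOf (P : Subgroup G))
    refine ⟨k, Subgroup.mem_normalizer_iff.mpr fun x => ⟨fun hx => ?_, fun hx => ?_⟩, hkT⟩
    · exact (Subgroup.mem_normalizer_iff.mp hkN ⟨x, hTP hx⟩).mp hx
    · have h2 : x ∈ (P : Subgroup G) := by
        have := mul_mem (mul_mem (inv_mem k.2) (hTP hx)) k.2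
        simpa [mul_assoc] using this
      exact (Subgroup.mem_normalizer_iff.mp hkN ⟨x, h2⟩).mpr hx
  have hle : T ≤ Subgroup.centralizer (T : Set G) := fun a ha =>
    Subgroup.mem_centralizer_iff.mpr fun b hb => klein_comm hT hb ha
  intro g hg
  obtain ⟨t, ht, htx⟩ := exists_of_index_two (P := T) (k := (k : G)) rfl (by rw [sup_eq_right.mpr hle]; exact h)
    hkN (by
      rw [sup_eq_right.mpr hle]
      intro hkC
      refine hkT ?_
      rw [← hC, Subgroup.mem_centralizer_iff]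
      exact fun y hy => Subtype.ext (Subgroup.mem_centralizer_iff.mp hkC y.1 hy)) hg
  refine ⟨t, ?_, htx⟩
  rcases ht with ht | ⟨q, hq, rfl⟩
  · exact hTP ht
  · exact mul_mem (hTP hq) (inv_mem k.2)

theorem q8_autFromSylow (hQD : Cfsg.IsQuasiDihedral (P : Subgroup G)) {Q : Subgroup G}
    (eQ : Q ≃* QuaternionGroup 2) (hQP : Q ≤ (P : Subgroup G))
    (h : (Q ⊔ Subgroup.centralizer (Q : Set G)).relIndex (Subgroup.normalizer (Q : Set G)) = 2)
    {A : Subgroup G} (eA : A ≃* QuaternionGroup 2) (hAP : A ≤ (P : Subgroup G)) : AutFromSylow P A := by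
  have eQS := (Subgroup.subgroupOfEquivOfLe hQP).trans eQ
  obtain ⟨s, hs, hAQ⟩ := exists_conj_subgroup P hAP hQP
    ((Cfsg.Agent.S1191.result hQD).1 _ _ ⟨(Subgroup.subgroupOfEquivOfLe hAP).trans eA⟩ ⟨eQS⟩)
  refine autFromSylow_conj P hs hAQ ?_
  obtain ⟨hC, hN⟩ := (Cfsg.Agent.S1191.result hQD).2 _ ⟨eQS⟩
  obtain ⟨k, hkN, hkQ⟩ : ∃ k : (P : Subgroup G), (k : G) ∈ Subgroup.normalizer (Q : Set G) ∧
      k ∉ Q.subgroupOf (P : Subgroup G) := by
    obtain ⟨k, hkN, hkT⟩ := SetLike.not_le_iff_exists.mp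
      (fun hle => absurd (Subgroup.relIndex_eq_one.mpr hle) (by omega) :
        ¬ Subgroup.normalizer ((Q.subgroupOf (P : Subgroup G)) : Set (P : Subgroup G)) ≤ Q.subgroupOf (P : Subgroup G))
    refine ⟨k, Subgroup.mem_normalizer_iff.mpr fun x => ⟨fun hx => ?_, fun hx => ?_⟩, hkT⟩
    · exact (Subgroup.mem_normalizer_iff.mp hkN ⟨x, hQP hx⟩).mp hx
    · have h2 : x ∈ (P : Subgroup G) := by
        have := mul_mem (mul_mem (inv_mem k.2) (hQP hx)) k.2
        simpa [mul_assoc] using this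
      exact (Subgroup.mem_normalizer_iff.mp hkN ⟨x, h2⟩).mpr hx
  intro g hg
  obtain ⟨t, ht, htx⟩ := exists_of_index_two (P := Q) (k := (k : G)) rfl h hkN (fun hk => by
    refine hkQ ?_
    rw [← SetLike.mem_coe, Subgroup.coe_mul_of_left_le_normalizer_right Q _ (by
      refine Subgroup.le_normalizer.trans fun t ht => Subgroup.mem_normalizer_iff.mpr fun c => ?_
      constructor
      · intro hc
        refine Subgroup.mem_centralizer_iff.mpr fun y hy => ?_
        have h1 := Subgroup.mem_centralizer_iff.mp hc _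
          (show t⁻¹ * y * t ∈ Q by simpa using (Subgroup.mem_normalizer_iff.mp (inv_mem ht) y).mp hy)
        calc y * (t * c * t⁻¹) = t * (t⁻¹ * y * t * c) * t⁻¹ := by group
          _ = t * c * t⁻¹ * y := by rw [h1]; group
      · intro hc
        refine Subgroup.mem_centralizer_iff.mpr fun y hy => ?_
        have h1 := Subgroup.mem_centralizer_iff.mp hc _ ((Subgroup.mem_normalizer_iff.mp ht y).mp hy)
        calc y * c = t⁻¹ * (t * y * t⁻¹ * (t * c * t⁻¹)) * t := by group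
          _ = c * y := by rw [h1]; group)] at hk
    obtain ⟨q, hq, c, hc, hk⟩ := hk
    replace hk : q * c = (k : G) := hk
    have hcP : c ∈ (P : Subgroup G) := by
      have := mul_mem (inv_mem (hQP hq)) k.2
      rwa [← hk, inv_mul_cancel_left] at this
    have hcQ : (⟨c, hcP⟩ : (P : Subgroup G)) ∈ Subgroup.centralizer ((Q.subgroupOf (P : Subgroup G)) : Set (P : Subgroup G)) :=
      Subgroup.mem_centralizer_iff.mpr fun y hy => Subtype.ext (Subgroup.mem_centralizer_iff.mp hc y.1 hy)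
    rw [hC] at hcQ
    obtain ⟨w, -, hw⟩ := hcQ
    show (k : G) ∈ Q
    rw [← hk, show c = ((w : (P : Subgroup G)) : G) from (congrArg Subtype.val hw).symm]
    exact mul_mem hq w.2) hg
  refine ⟨t, ?_, htx⟩
  rcases ht with ht | ⟨q, hq, rfl⟩
  · exact hQP ht
  · exact mul_mem (hQP hq) (inv_mem k.2)

/-- Relations preserved by fusion in a quasi-dihedral Sylow subgroup. -/
theorem fusion_rel (hQD : Cfsg.IsQuasiDihedral (P : Subgroup G)) (r : G → G → Prop) (hr : Equivalence r)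
    (hconj : ∀ s ∈ (P : Subgroup G), ∀ x ∈ (P : Subgroup G), r x (s * x * s⁻¹))
    (hT : ∀ A : Subgroup G, A ≤ (P : Subgroup G) → IsKleinFour A →
      ∀ g ∈ Subgroup.normalizer (A : Set G), ∀ x ∈ A, r x (g * x * g⁻¹))
    (hQ : ∀ A : Subgroup G, A ≤ (P : Subgroup G) → (A ≃* QuaternionGroup 2) →
      ∀ g ∈ Subgroup.normalizer (A : Set G), ∀ x ∈ A, r x (g * x * g⁻¹))
    {x : G} (hx : x ∈ (P : Subgroup G)) {g : G} (hg : g * x * g⁻¹ ∈ (P : Subgroup G)) : r x (g * x * g⁻¹) := by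
  haveI : Fact (Nat.Prime 2) := ⟨Nat.prime_two⟩
  obtain ⟨n, -, hcard, d, -⟩ := exists_data hQD
  refine CfsgLib.LocalFusion.fusion_rel P r hr hconj (fun A hAP hcen hp => ?_) hx hg
  have eA := Subgroup.subgroupOfEquivOfLe hAP
  have hC : Subgroup.centralizer ((A.subgroupOf (P : Subgroup G)) : Set (P : Subgroup G)) ≤ A.subgroupOf (P : Subgroup G) := by
    intro c hc
    refine hcen ⟨c.2, Subgroup.mem_centralizer_iff.mpr fun y hy => ?_⟩
    exact congrArg Subtype.val (Subgroup.mem_centralizer_iff.mp hc ⟨y, hAP hy⟩ hy)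
  rcases aut_cases d P.2 hC (fun h => hp (h.of_equiv (MulAut.congr eA))) with h | ⟨⟨e⟩⟩
  · haveI := h
    exact hT A hAP ⟨by rw [← Nat.card_congr eA.toEquiv, IsKleinFour.card_four],
      by rw [← Monoid.exponent_eq_of_mulEquiv eA, IsKleinFour.exponent_two]⟩
  · exact hQ A hAP (eA.symm.trans e)

end CfsgLib.QD
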