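import Cfsg.Agent.Lib.WreathedAut
import Cfsg.Agent.Lib.LocalFusionExtra

/-! The subgroups `Q ⊔ Z` of a wreathed group in coordinates. -/

set_option autoImplicit false
set_option linter.unusedSectionVars false

namespace CfsgLib.Wr

variable {S : Type*} [Group S] [Finite S] (d : Data S)

/-- The quaternion subgroups of order eight. -/
def Data.Qs (m : ℕ) (a b : ℤ) : Subgroup S := Subgroup.closure {d.u m (-m), d.v a b}

/-- The self-centralizing subgroups `Q ⊔ Z`. -/
def Data.Xs (m : ℕ) (a b : ℤ) : Subgroup S := d.Qs m a b ⊔ Subgroup.center S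

theorem diag_central (t : ℤ) : d.u t t ∈ Subgroup.center S := by
  rw [u_central_iff, sub_self]
  exact dvd_zero _

theorem u_mem_Qs (m : ℕ) (a b : ℤ) : d.u m (-m) ∈ d.Qs m a b := Subgroup.subset_closure (Or.inl rfl)

theorem v_mem_Qs (m : ℕ) (a b : ℤ) : d.v a b ∈ d.Qs m a b := Subgroup.subset_closure (Or.inr rfl)

theorem Qs_le_Xs (m : ℕ) (a b : ℤ) : d.Qs m a b ≤ d.Xs m a b := le_sup_left

theorem center_le_Xs (m : ℕ) (a b : ℤ) : Subgroup.center S ≤ d.Xs m a b := le_sup_right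

variable {m : ℕ} (hm : d.h = 2 * m)
include hm

theorem hmZ : (d.h : ℤ) = 2 * m := by exact_mod_cast hm

theorem m_pos : 1 ≤ m := by
  have := d.h2
  omega

theorem Qs_equiv {a b : ℤ} (hab : a + b = d.h) : Nonempty (↥(d.Qs m a b) ≃* QuaternionGroup 2) := by
  haveI : Fact (Nat.Prime 2) := ⟨Nat.prime_two⟩
  have hh := d.h2
  have hmh := hmZ d hm
  refine CfsgLib.Quat.nonempty_equiv ?_ ?_ ?_ ?_ ?_
  · rw [← zpow_natCast, u_zpow, u_eq_one_iff, hmh]
    exact ⟨⟨1, by push_cast; ring⟩, ⟨-1, by push_cast; ring⟩⟩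
  · rw [← zpow_natCast, u_zpow, v_mul_v, u_eq_iff]
    refine ⟨⟨0, ?_⟩, ⟨-1, ?_⟩⟩ <;> · rw [hmh]; push_cast; linarith
  · rw [conj_u_by_v, u_inv, neg_neg]
  · show orderOf (d.u m (-m)) = 2 ^ (1 + 1)
    refine orderOf_eq_prime_pow ?_ ?_
    · rw [← zpow_natCast, u_zpow, u_eq_one_iff]
      rintro ⟨h1, -⟩
      push_cast at h1
      have := Int.le_of_dvd (by omega) h1
      omega
    · rw [← zpow_natCast, u_zpow, u_eq_one_iff, hmh]
      exact ⟨⟨1, by push_cast; ring⟩, ⟨-1, by push_cast; ring⟩⟩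
  · rintro ⟨t, ht⟩
    replace ht : (d.u m (-m)) ^ t = d.v a b := ht
    rw [u_zpow] at ht
    exact u_ne_v d _ _ _ _ ht

theorem card_Qs {a b : ℤ} (hab : a + b = d.h) : Nat.card (d.Qs m a b) = 8 := by
  obtain ⟨e⟩ := Qs_equiv d hm hab
  rw [Nat.card_congr e.toEquiv, CfsgLib.Quat.nat_card]

theorem u_mem_Xs {a b : ℤ} (hab : a + b = d.h) (k l : ℤ) :
    d.u k l ∈ d.Xs m a b ↔ (d.h : ℤ) ∣ k - l := by
  have hmh := hmZ d hm
  constructor
  · intro hkl
    let N0 : Subgroup S :=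
      { carrier := {g | ∃ i j : ℤ, (d.h : ℤ) ∣ i - j ∧ (g = d.u i j ∨ g = d.v (i + a) (j + b))}
        one_mem' := ⟨0, 0, by simp, Or.inl (u_zero d).symm⟩
        mul_mem' := by
          rintro _ _ ⟨i, j, h1, rfl | rfl⟩ ⟨k, l, h2, rfl | rfl⟩
          · exact ⟨i + k, j + l, by rw [add_sub_add_comm]; exact dvd_add h1 h2, Or.inl (u_mul_u d i j k l)⟩
          · refine ⟨i + k, j + l, by rw [add_sub_add_comm]; exact dvd_add h1 h2, Or.inr ?_⟩
            rw [u_mul_v, add_assoc, add_assoc]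
          · refine ⟨i + l, j + k, ?_, Or.inr ?_⟩
            · rw [show i + l - (j + k) = (i - j) - (k - l) by ring]; exact dvd_sub h1 h2
            · rw [v_mul_u]; congr 1 <;> ring
          · refine ⟨i + a + (l + b), j + b + (k + a), ?_, Or.inl (v_mul_v d _ _ _ _)⟩
            rw [show i + a + (l + b) - (j + b + (k + a)) = (i - j) - (k - l) by ring]; exact dvd_sub h1 h2
        inv_mem' := by
          rintro _ ⟨i, j, h1, rfl | rfl⟩
          · exact ⟨-i, -j, by rw [show -i - -j = -(i - j) by ring, dvd_neg]; exact h1, Or.inl (u_inv d i j)⟩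
          · refine ⟨-(j + b) - a, -(i + a) - b, ?_, Or.inr ?_⟩
            · rw [show -(j + b) - a - (-(i + a) - b) = i - j by ring]; exact h1
            · apply inv_eq_of_mul_eq_one_right
              rw [v_mul_v, u_eq_one_iff]
              exact ⟨⟨0, by ring⟩, ⟨0, by ring⟩⟩ }
    have hle : d.Xs m a b ≤ N0 := by
      refine sup_le ((Subgroup.closure_le _).mpr ?_) ?_
      · rintro g (rfl | rfl)
        · exact ⟨m, -m, by rw [hmh]; exact ⟨1, by ring⟩, Or.inl rfl⟩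
        · exact ⟨0, 0, by simp, Or.inr (by rw [zero_add, zero_add])⟩
      · intro g hg
        obtain ⟨i, j, rfl | rfl⟩ := cases_elem d g
        · refine ⟨i, j, ?_, Or.inl rfl⟩
          have := dvd_trans (Dvd.intro_left 2 rfl) ((u_central_iff d).mp hg)
          rw [show i - j = -(j - i) by ring, dvd_neg]
          exact this
        · exact absurd hg (v_not_central d i j)
    obtain ⟨i, j, h1, e | e⟩ := hle hkl
    · rw [u_eq_iff] at e
      have h2 := dvd_trans (Dvd.intro_left 2 rfl) (dvd_sub e.1 e.2)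
      rw [show k - l = (i - j) - (i - k - (j - l)) by ring]
      exact dvd_sub h1 h2
    · exact absurd e (u_ne_v d _ _ _ _)
  · rintro ⟨t, ht⟩
    have e : d.u k l = (d.u m (-m)) ^ t * (d.u 1 1) ^ (k - (m : ℤ) * t) := by
      rw [u_zpow, u_zpow, u_mul_u, u_eq_iff, one_mul]
      exact ⟨⟨0, by ring⟩, ⟨0, by rw [hmh] at ht; linarith⟩⟩
    rw [e]
    exact mul_mem (zpow_mem (Qs_le_Xs d m a b (u_mem_Qs d m a b)) t)
      (zpow_mem (center_le_Xs d m a b (diag_central d 1)) _)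

theorem v_mem_Xs {a b : ℤ} (hab : a + b = d.h) (k l : ℤ) :
    d.v k l ∈ d.Xs m a b ↔ (d.h : ℤ) ∣ k - a - (l - b) := by
  rw [show d.v k l = d.u (k - a) (l - b) * d.v a b by rw [u_mul_v, sub_add_cancel, sub_add_cancel],
    Subgroup.mul_mem_cancel_right _ (Qs_le_Xs d m a b (v_mem_Qs d m a b)), u_mem_Xs d hm hab]

theorem centralizer_Xs (a b : ℤ) :
    Subgroup.centralizer (d.Xs m a b : Set S) = Subgroup.center S := by
  refine le_antisymm (fun g hg => ?_) (Subgroup.center_le_centralizer _)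
  rw [Subgroup.mem_centralizer_iff] at hg
  obtain ⟨i, j, rfl | rfl⟩ := cases_elem d g
  · exact (u_central_iff d).mpr ((commute_u_v_iff d).mp (hg _ (Qs_le_Xs d m a b (v_mem_Qs d m a b))).symm)
  · exfalso
    have h1 := (commute_u_v_iff d).mp (hg _ (Qs_le_Xs d m a b (u_mem_Qs d m a b)))
    rw [show -(m : ℤ) - m = -(2 * m) by ring, dvd_neg] at h1
    have := Int.le_of_dvd (by have := m_pos d hm; omega) h1
    have := d.h2
    omega

theorem Xs_not_comm (a b : ℤ) : ¬ IsMulCommutative (d.Xs m a b) := by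
  intro h
  haveI := h
  have h1 := (commute_u_v_iff d).mp
    (setLike_mul_comm (Qs_le_Xs d m a b (u_mem_Qs d m a b)) (Qs_le_Xs d m a b (v_mem_Qs d m a b)))
  rw [show -(m : ℤ) - m = -(2 * m) by ring, dvd_neg] at h1
  have := Int.le_of_dvd (by have := m_pos d hm; omega) h1
  have := d.h2
  omega

theorem Qs_not_comm (a b : ℤ) : ¬ IsMulCommutative (d.Qs m a b) := by
  intro h
  haveI := h
  have h1 := (commute_u_v_iff d).mp (setLike_mul_comm (u_mem_Qs d m a b) (v_mem_Qs d m a b))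
  rw [show -(m : ℤ) - m = -(2 * m) by ring, dvd_neg] at h1
  have := Int.le_of_dvd (by have := m_pos d hm; omega) h1
  have := d.h2
  omega

/-- Every quaternion subgroup of order eight has this form. -/
theorem q8_shape {Q : Subgroup S} (e : Q ≃* QuaternionGroup 2) :
    ∃ a b : ℤ, a + b = d.h ∧ Q = d.Qs m a b := by
  have hh := d.h2
  have hmh := hmZ d hm
  obtain ⟨c, hc, g, hg, hcU, hne⟩ : ∃ c ∈ Q, ∃ g ∈ Q, c ∈ d.U ∧ g * c ≠ c * g := by
    obtain ⟨x, hx, y, hy, hxy⟩ : ∃ x ∈ Q, ∃ y ∈ Q, y * x ≠ x * y := by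
      refine ⟨_, (e.symm (QuaternionGroup.a 1)).2, _, (e.symm (QuaternionGroup.xa 0)).2, fun h => ?_⟩
      have h' := congrArg e (Subtype.ext h :
        e.symm (QuaternionGroup.xa 0) * e.symm (QuaternionGroup.a 1)
          = e.symm (QuaternionGroup.a 1) * e.symm (QuaternionGroup.xa 0))
      simp only [map_mul, e.apply_symm_apply] at h'
      exact absurd h' (by decide)
    by_cases hxU : x ∈ d.U
    · exact ⟨x, hx, y, hy, hxU, hxy⟩
    by_cases hyU : y ∈ d.U
    · exact ⟨y, hy, x, hx, hyU, hxy.symm⟩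
    refine ⟨x * y, mul_mem hx hy, y, hy,
      (Subgroup.mul_mem_iff_of_index_two (index_U d)).mpr ⟨fun h => absurd h hxU, fun h => absurd h hyU⟩,
      fun h => hxy ?_⟩
    rw [← mul_assoc] at h
    exact mul_right_cancel h
  have hgU : g ∉ d.U := fun h => hne (U_comm d h hcU)
  have F : ∀ c g : QuaternionGroup 2, g * c ≠ c * g → c * c = g * g ∧ g * c * g⁻¹ = c⁻¹ ∧ c * c ≠ 1 ∧
      c * c * (c * c) = 1 ∧ ∀ x, x = 1 ∨ x = c ∨ x = c * c ∨ x = c * (c * c) ∨
        x = g ∨ x = c * g ∨ x = c * c * g ∨ x = c * (c * c) * g := by decide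
  obtain ⟨f1, f2, f3, f4, f5⟩ := F (e ⟨c, hc⟩) (e ⟨g, hg⟩) (fun h => hne (by
    rw [← map_mul, ← map_mul, e.injective.eq_iff] at h
    exact congrArg Subtype.val h))
  have hcc : c * c = g * g := by
    rw [← map_mul, ← map_mul, e.injective.eq_iff] at f1
    exact congrArg Subtype.val f1
  have hinv : g * c * g⁻¹ = c⁻¹ := by
    rw [← map_inv, ← map_mul, ← map_mul, ← map_inv, e.injective.eq_iff] at f2
    exact congrArg Subtype.val f2
  have hc2 : c * c ≠ 1 := fun h => f3 (by rw [← map_mul, ← map_one e]; exact congrArg e (Subtype.ext h))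
  have hc4 : c * c * (c * c) = 1 := by
    rw [← map_mul, ← map_mul, ← map_one e, e.injective.eq_iff] at f4
    exact congrArg Subtype.val f4
  have hgen : Q ≤ Subgroup.closure ({c, g} : Set S) := by
    intro x hx
    have hcm : c ∈ Subgroup.closure ({c, g} : Set S) := Subgroup.subset_closure (Or.inl rfl)
    have hgm : g ∈ Subgroup.closure ({c, g} : Set S) := Subgroup.subset_closure (Or.inr rfl)
    have f6 := f5 (e ⟨x, hx⟩)
    simp only [← map_mul, ← map_one e, e.injective.eq_iff, Subtype.ext_iff, Subgroup.coe_mul, OneMemClass.coe_one] at f6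
    rcases f6 with h | h | h | h | h | h | h | h <;> rw [h]
    exacts [one_mem _, hcm, mul_mem hcm hcm, mul_mem hcm (mul_mem hcm hcm), hgm, mul_mem hcm hgm,
      mul_mem (mul_mem hcm hcm) hgm, mul_mem (mul_mem hcm (mul_mem hcm hcm)) hgm]
  obtain ⟨p, q, rfl⟩ := hcU
  obtain ⟨a, b', rfl | rfl⟩ := cases_elem d g
  · exact absurd (u_mem d a b') hgU
  rw [conj_u_by_v, u_inv, u_eq_iff] at hinv
  rw [u_mul_u, v_mul_v, u_eq_iff] at hcc
  rw [u_mul_u, u_mul_u, u_eq_one_iff] at hc4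
  rw [u_mul_u, ne_eq, u_eq_one_iff] at hc2
  obtain ⟨w, hw⟩ := hinv.1
  obtain ⟨s, hs⟩ := hc4.1
  rw [hmh] at hw hs
  have hpt : p = m * s := by linarith
  obtain ⟨r, rfl | rfl⟩ := Int.even_or_odd' s
  · refine absurd ⟨⟨r, ?_⟩, ⟨-r - 2 * w, ?_⟩⟩ hc2
    · rw [hmh, hpt]; ring
    · rw [hmh]; linear_combination -2 * hw - 2 * hpt
  have hq : 2 * (d.h : ℤ) ∣ -p - q := hinv.1
  have eu : d.u m (-m) = (d.u p q) ^ (1 - 2 * r) := by
    rw [u_zpow, u_eq_iff, hmh, hpt]
    refine ⟨⟨-r * r, by ring⟩, ⟨r * r - (1 - 2 * r) * w, ?_⟩⟩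
    have : q = -p - 4 * m * w := by linarith
    rw [this, hpt]
    ring
  have ev : d.v a b' = d.v a (d.h - a) := by
    rw [v_eq_iff]
    refine ⟨⟨0, by ring⟩, ?_⟩
    obtain ⟨x, hx⟩ := hcc.1
    exact ⟨-x - r, by rw [hmh] at hx ⊢; linear_combination -hx - 2 * hpt⟩
  refine ⟨a, d.h - a, by ring, le_antisymm (hgen.trans ((Subgroup.closure_le _).mpr ?_)) ?_⟩
  · have ec : d.u p q = (d.u m (-m)) ^ (2 * r + 1) := by
      rw [u_zpow, u_eq_iff, hpt]
      refine ⟨⟨0, by ring⟩, ⟨w, ?_⟩⟩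
      rw [hmh]
      linear_combination hw + hpt
    rintro x (rfl | rfl)
    · rw [ec]; exact zpow_mem (u_mem_Qs d m _ _) _
    · rw [ev]; exact v_mem_Qs d m _ _
  · refine (Subgroup.closure_le _).mpr ?_
    rintro x (rfl | rfl)
    · rw [eu]; exact zpow_mem hc _
    · rw [← ev]; exact hg

/-- `Qs` is the only quaternion subgroup of order eight of `Xs`. -/
theorem q8_unique {a b : ℤ} (hab : a + b = d.h) {Q : Subgroup S} (e : Q ≃* QuaternionGroup 2)
    (hQ : Q ≤ d.Xs m a b) : Q = d.Qs m a b := by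
  have hh := d.h2
  have hmh := hmZ d hm
  obtain ⟨a', b', hab', rfl⟩ := q8_shape d hm e
  obtain ⟨t, ht⟩ := (v_mem_Xs d hm hab a' b').mp (hQ (v_mem_Qs d m a' b'))
  have h1 : a' - a = m * t := by rw [hmh] at ht; linarith
  refine Subgroup.eq_of_le_of_card_ge ((Subgroup.closure_le _).mpr ?_) (by rw [card_Qs d hm hab, card_Qs d hm hab'])
  rintro x (rfl | rfl)
  · exact u_mem_Qs d m a b
  · have e' : d.v a' b' = (d.u m (-m)) ^ t * d.v a b := by
      rw [u_zpow, u_mul_v, v_eq_iff]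
      exact ⟨⟨0, by linarith⟩, ⟨0, by linarith⟩⟩
    rw [e']
    exact mul_mem (zpow_mem (u_mem_Qs d m a b) t) (v_mem_Qs d m a b)

theorem center_relIndex_Xs {a b : ℤ} (hab : a + b = d.h) :
    (Subgroup.center S).relIndex (d.Xs m a b) = 4 := by
  obtain ⟨e⟩ := Qs_equiv d hm hab
  rw [Data.Xs, Subgroup.relIndex_sup_right, Subgroup.relIndex, ← CfsgLib.LocalFusion.q8_center_index e]
  congr 1
  refine le_antisymm ?_ ?_
  · intro x hx
    exact Subgroup.mem_center_iff.mpr fun y => Subtype.ext (Subgroup.mem_center_iff.mp hx y)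
  intro x hx
  exact central_of_commute d (Qs_not_comm d hm a b) x.2 fun y hy =>
    (congrArg Subtype.val (Subgroup.mem_center_iff.mp hx ⟨y, hy⟩)).symm

theorem relIndex_normalizer_Xs {a b : ℤ} (hab : a + b = d.h) :
    (d.Xs m a b).relIndex (Subgroup.normalizer (d.Xs m a b : Set S)) = 2 :=
  shape_relIndex d hm (u_mem_Xs d hm hab) hab rfl

omit hm in
theorem map_Qs {a b a' b' : ℤ} (hab : a + b = d.h) (hab' : a' + b' = d.h) (m : ℕ) :
    (d.Qs m a b).map (MulAut.conj (d.u (a' - a) 0)).toMonoidHom = d.Qs m a' b' := by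
  rw [Data.Qs, Data.Qs, MonoidHom.map_closure, Set.image_pair]
  simp only [MulEquiv.coe_toMonoidHom, MulAut.conj_apply]
  rw [U_comm d (u_mem d _ _) (u_mem d _ _), mul_inv_cancel_right, conj_v_by_u, sub_zero, add_sub_cancel,
    show b - (a' - a) = b' by linarith]

omit hm in
theorem map_Xs {a b a' b' : ℤ} (hab : a + b = d.h) (hab' : a' + b' = d.h) (m : ℕ) :
    (d.Xs m a b).map (MulAut.conj (d.u (a' - a) 0)).toMonoidHom = d.Xs m a' b' := by
  rw [Data.Xs, Data.Xs, Subgroup.map_sup, map_Qs d hab hab' m]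
  congr 1
  apply le_antisymm
  · rintro _ ⟨c, hc, rfl⟩
    rw [MulEquiv.coe_toMonoidHom, MulAut.conj_apply, Subgroup.mem_center_iff.mp hc, mul_inv_cancel_right]
    exact hc
  · intro c hc
    exact ⟨c, hc, by rw [MulEquiv.coe_toMonoidHom, MulAut.conj_apply, Subgroup.mem_center_iff.mp hc, mul_inv_cancel_right]⟩

end CfsgLib.Wr
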