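import Cfsg.Agent.Lib.CharTheory.Schur
import Cfsg.Agent.Lib.CharTheory.Irr

/-!
A positivity bound for structure constants: for classes `a i` and a subgroup `D`, the sum over irreducible
characters of `|∑ c i χ (a i)|²` times the multiplicity of the trivial character on `D`, divided by the degree,
is at least the contribution of the principal character.
-/

set_option autoImplicit false

namespace CfsgLib.PositiveBound

open Cfsg CfsgLib.CharTheory
open scoped ComplexConjugate

universe u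

variable {G : Type u} [Group G] [Finite G]

/-- The number of pairs in the two classes with product `y`. -/
noncomputable def pairs (a b y : G) : ℕ :=
  Nat.card {p : G × G // IsConj a p.1 ∧ IsConj b p.2 ∧ p.1 * p.2 = y}

/-- The structure constant of the classes of `a` and `b`. -/
theorem pairs_eq [Fintype G] (a b y : G) :
    (Nat.card G : ℂ) * (pairs a b y : ℂ) =
      (Nat.card {x : G // IsConj a x} : ℂ) * (Nat.card {x : G // IsConj b x} : ℂ) *
        ∑ χ : IrrCharacter G, (χ : G → ℂ) a * (χ : G → ℂ) b * (χ : G → ℂ) y⁻¹ / (χ : G → ℂ) 1 := by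
  classical
  have hN : (pairs a b y : ℂ) = ∑ p ∈ Finset.univ.filter (fun x : G => IsConj a x),
      ∑ q ∈ Finset.univ.filter (fun x : G => IsConj b x), if p * q * y⁻¹ = 1 then (1 : ℂ) else 0 := by
    rw [pairs, Nat.card_eq_fintype_card, Fintype.card_subtype, ← Finset.sum_product', Finset.sum_boole]
    congr 2
    ext p
    simp [mul_inv_eq_one, and_assoc]
  have key : ∀ z : G, (Nat.card G : ℂ) * (if z = 1 then (1 : ℂ) else 0) =
      ∑ χ : IrrCharacter G, (χ : G → ℂ) z * (χ : G → ℂ) 1 := fun z => by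
    rw [sum_irr_apply_mul_degree, mul_ite, mul_one, mul_zero]
  rw [hN]
  simp only [Finset.mul_sum, key]
  rw [Finset.sum_congr rfl fun x _ => Finset.sum_comm, Finset.sum_comm]
  refine Finset.sum_congr rfl fun χ _ => ?_
  simp only [← Finset.sum_mul]
  rw [sum_class_class_char χ.2]
  have hne : (χ : G → ℂ) 1 ≠ 0 := irr_ne_zero χ.2
  field_simp

/-- The order of the centraliser. -/
noncomputable def cc (a : G) : ℕ := Nat.card (Subgroup.centralizer ({a} : Set G))

theorem class_mul_cc (a : G) : Nat.card {x : G // IsConj a x} * cc a = Nat.card G :=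
  card_isConj_mul_card_centralizer a

theorem cc_inv (a : G) : cc a⁻¹ = cc a := by
  have e : Subgroup.centralizer ({a⁻¹} : Set G) = Subgroup.centralizer ({a} : Set G) := by
    ext g
    simp only [Subgroup.mem_centralizer_singleton_iff]
    exact Commute.inv_right_iff
  rw [cc, e]; rfl

/-- The sum of the characters in terms of the pairs. -/
theorem sum_eq [Fintype G] (a b y : G) :
    ∑ χ : IrrCharacter G, (χ : G → ℂ) a * conj ((χ : G → ℂ) b) * (χ : G → ℂ) y⁻¹ / (χ : G → ℂ) 1 =
      (pairs a b⁻¹ y : ℂ) * cc a * cc b / Nat.card G := by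
  have h := pairs_eq a b⁻¹ y
  have h' : ∀ χ : IrrCharacter G, (χ : G → ℂ) b⁻¹ = conj ((χ : G → ℂ) b) := fun χ =>
    char_apply_inv (isCharacter_of_irr χ.2) b
  simp only [h'] at h
  have e1 : (Nat.card {x : G // IsConj a x} : ℂ) * cc a = Nat.card G := by exact_mod_cast class_mul_cc a
  have e2 : (Nat.card {x : G // IsConj b⁻¹ x} : ℂ) * cc b = Nat.card G := by
    rw [← cc_inv b]; exact_mod_cast class_mul_cc b⁻¹
  have hne : (Nat.card G : ℂ) ≠ 0 := Nat.cast_ne_zero.mpr Nat.card_pos.ne'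
  rw [eq_div_iff hne]
  apply mul_left_cancel₀ hne
  linear_combination (-(cc a : ℂ) * cc b) * h - (∑ χ : IrrCharacter G,
      (χ : G → ℂ) a * conj ((χ : G → ℂ) b) * (χ : G → ℂ) y⁻¹ / (χ : G → ℂ) 1) *
    ((Nat.card {x : G // IsConj b⁻¹ x} : ℂ) * cc b) * e1 -
    (∑ χ : IrrCharacter G, (χ : G → ℂ) a * conj ((χ : G → ℂ) b) * (χ : G → ℂ) y⁻¹ / (χ : G → ℂ) 1) *
    (Nat.card G : ℂ) * e2

/-- The positivity bound. -/
theorem bound {ι : Type*} [Fintype ι] [DecidableEq ι] (D : Subgroup G) [Fintype D] [DecidableEq D]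
    (a : ι → G) (c : ι → ℕ) (hnc : ∀ i j, i ≠ j → ¬ IsConj (a i) (a j)) :
    Nat.card D * (∑ i, c i) ^ 2 * Nat.card G ≤ Nat.card G * (∑ i, c i ^ 2 * cc (a i)) +
      ∑ y ∈ Finset.univ.filter (fun y : D => y ≠ 1), ∑ i, ∑ j,
        c i * c j * cc (a i) * cc (a j) * pairs (a i) (a j)⁻¹ (y : G) := by
  classical
  haveI := Fintype.ofFinite G
  set R : ℕ := Nat.card G * (∑ i, c i ^ 2 * cc (a i)) +
      ∑ y ∈ Finset.univ.filter (fun y : D => y ≠ 1), ∑ i, ∑ j,
        c i * c j * cc (a i) * cc (a j) * pairs (a i) (a j)⁻¹ (y : G) with hR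
  set L : ℕ := Nat.card D * (∑ i, c i) ^ 2 * Nat.card G with hL
  let f : IrrCharacter G → ℂ := fun χ => ∑ i, (c i : ℂ) * (χ : G → ℂ) (a i)
  have hne : (Nat.card G : ℂ) ≠ 0 := Nat.cast_ne_zero.mpr Nat.card_pos.ne'
  -- the sum, computed by the pairs
  have key : (Nat.card G : ℂ) * ∑ χ : IrrCharacter G,
      f χ * conj (f χ) * (∑ y : D, (χ : G → ℂ) ((y : G)⁻¹)) / (χ : G → ℂ) 1 = (R : ℂ) := by
    have e : ∀ y : D, (Nat.card G : ℂ) * ∑ χ : IrrCharacter G,
        f χ * conj (f χ) * (χ : G → ℂ) ((y : G)⁻¹) / (χ : G → ℂ) 1 =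
        if y = 1 then (Nat.card G : ℂ) * ((∑ i, c i ^ 2 * cc (a i) : ℕ) : ℂ)
        else ((∑ i, ∑ j, c i * c j * cc (a i) * cc (a j) * pairs (a i) (a j)⁻¹ (y : G) : ℕ) : ℂ) := by
      intro y
      have e0 : ∑ χ : IrrCharacter G, f χ * conj (f χ) * (χ : G → ℂ) ((y : G)⁻¹) / (χ : G → ℂ) 1 =
          ∑ i, ∑ j, (c i : ℂ) * c j * ∑ χ : IrrCharacter G,
            (χ : G → ℂ) (a i) * conj ((χ : G → ℂ) (a j)) * (χ : G → ℂ) ((y : G)⁻¹) / (χ : G → ℂ) 1 := by
        simp only [f, map_sum, map_mul, map_natCast, Finset.sum_mul, Finset.mul_sum, Finset.sum_div]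
        rw [Finset.sum_comm]
        conv_rhs => rw [Finset.sum_comm]
        refine Finset.sum_congr rfl fun i _ => ?_
        rw [Finset.sum_comm]
        exact Finset.sum_congr rfl fun j _ => Finset.sum_congr rfl fun χ _ => by ring
      rw [e0]
      split_ifs with hy
      · subst hy
        have e1 : ∀ i j, ∑ χ : IrrCharacter G, (χ : G → ℂ) (a i) * conj ((χ : G → ℂ) (a j)) *
            (χ : G → ℂ) (((1 : D) : G)⁻¹) / (χ : G → ℂ) 1 = if i = j then (cc (a i) : ℂ) else 0 := by
          intro i j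
          have h := sum_irr_mul_conj (a i) (a j)
          have : ∀ χ : IrrCharacter G, (χ : G → ℂ) (a i) * conj ((χ : G → ℂ) (a j)) *
              (χ : G → ℂ) (((1 : D) : G)⁻¹) / (χ : G → ℂ) 1 = (χ : G → ℂ) (a i) * conj ((χ : G → ℂ) (a j)) :=
            fun χ => by rw [OneMemClass.coe_one, inv_one, mul_div_assoc, div_self (irr_ne_zero χ.2), mul_one]
          simp only [this]
          rw [h]
          by_cases hij : i = j
          · subst hij; rw [if_pos (IsConj.refl _), if_pos rfl]; rfl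
          · rw [if_neg (hnc i j hij), if_neg hij]
        simp only [e1, mul_ite, mul_zero, Finset.sum_ite_eq, Finset.mem_univ, if_true]
        push_cast
        congr 1
        exact Finset.sum_congr rfl fun i _ => by ring
      · simp only [sum_eq]
        push_cast
        rw [Finset.mul_sum]
        refine Finset.sum_congr rfl fun i _ => ?_
        rw [Finset.mul_sum]
        refine Finset.sum_congr rfl fun j _ => ?_
        field_simp
    have e' : ∑ χ : IrrCharacter G, f χ * conj (f χ) * (∑ y : D, (χ : G → ℂ) ((y : G)⁻¹)) / (χ : G → ℂ) 1 =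
        ∑ y : D, ∑ χ : IrrCharacter G, f χ * conj (f χ) * (χ : G → ℂ) ((y : G)⁻¹) / (χ : G → ℂ) 1 := by
      simp only [Finset.mul_sum, Finset.sum_div]
      exact Finset.sum_comm
    rw [e', Finset.mul_sum, Finset.sum_congr rfl fun y _ => e y, Finset.sum_ite, Finset.filter_eq' Finset.univ (1 : D),
      if_pos (Finset.mem_univ _), Finset.sum_singleton, hR]
    push_cast
    rfl
  -- every summand is nonnegative
  have hterm : ∀ χ : IrrCharacter G, ∃ r : ℝ, 0 ≤ r ∧
      f χ * conj (f χ) * (∑ y : D, (χ : G → ℂ) ((y : G)⁻¹)) / (χ : G → ℂ) 1 = (r : ℂ) := by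
    intro χ
    obtain ⟨m, hm⟩ := classInner_char_nat (isCharacter_restrict (isCharacter_of_irr χ.2) D) (isCharacter_one (G := D))
    simp only [classInner, map_one, mul_one] at hm
    have hD : (Nat.card D : ℂ) ≠ 0 := Nat.cast_ne_zero.mpr Nat.card_pos.ne'
    rw [inv_mul_eq_iff_eq_mul₀ hD] at hm
    obtain ⟨d, hd, hd'⟩ := irr_degree_pos χ.2
    have hinv : ∑ y : D, (χ : G → ℂ) ((y : G)⁻¹) = (Nat.card D : ℂ) * m := by
      rw [← hm]
      exact Fintype.sum_equiv (Equiv.inv D) _ _ fun y => rfl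
    refine ⟨Complex.normSq (f χ) * (Nat.card D * m) / d, by
      have := Complex.normSq_nonneg (f χ); positivity, ?_⟩
    rw [hinv, hd', Complex.mul_conj]
    push_cast
    ring
  choose r hr0 hr using hterm
  let one : IrrCharacter G := ⟨fun _ => 1, isIrrCharacter_one⟩
  have h1 : (r one : ℂ) = (Nat.card D : ℂ) * ((∑ i, c i : ℕ) : ℂ) ^ 2 := by
    rw [← hr one]
    simp only [f, one, mul_one, map_sum, map_natCast, div_one, Finset.sum_const, Finset.card_univ, nsmul_eq_mul]
    rw [Nat.card_eq_fintype_card]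
    push_cast
    ring
  have h1' : r one = (Nat.card D : ℝ) * ((∑ i, c i : ℕ) : ℝ) ^ 2 := by exact_mod_cast h1
  have h2 : (Nat.card G : ℝ) * ∑ χ, r χ = (R : ℝ) := by
    rw [Finset.sum_congr rfl fun χ _ => hr χ] at key
    exact_mod_cast key
  have h3 : r one ≤ ∑ χ, r χ := Finset.single_le_sum (fun χ _ => hr0 χ) (Finset.mem_univ one)
  have h4 : (L : ℝ) ≤ (R : ℝ) := by
    rw [hL, ← h2]
    push_cast
    have hG : (0 : ℝ) ≤ Nat.card G := Nat.cast_nonneg _
    calc (Nat.card D : ℝ) * (∑ i, (c i : ℝ)) ^ 2 * Nat.card G = (Nat.card G : ℝ) * r one := by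
          rw [h1']; push_cast; ring
      _ ≤ _ := mul_le_mul_of_nonneg_left h3 hG
  exact_mod_cast h4

end CfsgLib.PositiveBound
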