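import Mathlib.Algebra.Module.PID
import Mathlib.Algebra.Polynomial.Module.AEval
import Mathlib.LinearAlgebra.Matrix.Charpoly.Coeff
import Mathlib.LinearAlgebra.Matrix.BilinearForm
import Mathlib.LinearAlgebra.Charpoly.Basic
import Mathlib.RingTheory.Polynomial.Basic

/-!
Over a field every square matrix has a non-singular form making it self-adjoint, so it is
similar to its transpose.
-/

set_option autoImplicit false

namespace CfsgLib.TransposeForm

open Polynomial Matrix
open scoped DirectSum

variable {F : Type*} [Field F]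

/-- `F[X]/(g)` has a functional whose kernel contains no non-zero ideal. -/
theorem exists_functional {g : F[X]} (hg : g ≠ 0) :
    ∃ φ : (F[X] ⧸ Submodule.span F[X] {g}) → F,
      (∀ a b, φ (a + b) = φ a + φ b) ∧ (∀ (c : F) a, φ (C c • a) = c * φ a) ∧
        ∀ a, a ≠ 0 → ∃ r : F[X], φ (r • a) ≠ 0 := by
  classical
  set g' := normalize g with hg'
  have hmon : g'.Monic := monic_normalize hg
  have hspan : ∀ p, p ∈ Submodule.span F[X] {g} ↔ g' ∣ p := fun p => by
    rw [show Submodule.span F[X] {g} = Ideal.span {g} from rfl, Ideal.mem_span_singleton, hg',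
      normalize_dvd_iff]
  let L : F[X] →ₗ[F] F := (lcoeff F (g'.natDegree - 1)).comp (modByMonicHom g')
  have hL : ∀ p q : F[X], Submodule.Quotient.mk (p := Submodule.span F[X] {g}) p =
      Submodule.Quotient.mk q → L p = L q := by
    intro p q h
    rw [Submodule.Quotient.eq, hspan, ← modByMonic_eq_zero_iff_dvd hmon] at h
    have h' : L (p - q) = 0 := by
      show (lcoeff F (g'.natDegree - 1)) ((p - q) %ₘ g') = 0
      rw [h, map_zero]
    rwa [map_sub, sub_eq_zero] at h'
  let φ : (F[X] ⧸ Submodule.span F[X] {g}) → F :=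
    fun a => Quotient.liftOn' a L fun p q h => hL p q (Quotient.sound' h)
  have hφ : ∀ p : F[X], φ (Submodule.Quotient.mk p) = L p := fun p => rfl
  refine ⟨φ, fun a b => ?_, fun c a => ?_, fun a ha => ?_⟩
  · induction a using Submodule.Quotient.induction_on with | _ p => ?_
    induction b using Submodule.Quotient.induction_on with | _ q => ?_
    rw [← Submodule.Quotient.mk_add, hφ, hφ, hφ, map_add]
  · induction a using Submodule.Quotient.induction_on with | _ p => ?_
    rw [← Submodule.Quotient.mk_smul, hφ, hφ, smul_eq_mul, ← smul_eq_C_mul, map_smul, smul_eq_mul]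
  · induction a using Submodule.Quotient.induction_on with | _ p => ?_
    have hr : p %ₘ g' ≠ 0 := by
      rw [Ne, modByMonic_eq_zero_iff_dvd hmon, ← hspan]
      exact fun h => ha ((Submodule.Quotient.mk_eq_zero _).mpr h)
    have hd : (p %ₘ g').degree < g'.degree := degree_modByMonic_lt p hmon
    have hj : (p %ₘ g').natDegree < g'.natDegree := natDegree_lt_natDegree hr hd
    refine ⟨X ^ (g'.natDegree - 1 - (p %ₘ g').natDegree), ?_⟩
    rw [← Submodule.Quotient.mk_smul, hφ]
    show (((X : F[X]) ^ (g'.natDegree - 1 - (p %ₘ g').natDegree) • p) %ₘ g').coeff _ ≠ 0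
    have e : ((X : F[X]) ^ (g'.natDegree - 1 - (p %ₘ g').natDegree) • p) %ₘ g' =
        ((X : F[X]) ^ (g'.natDegree - 1 - (p %ₘ g').natDegree) * (p %ₘ g')) %ₘ g' := by
      refine modByMonic_eq_of_dvd_sub hmon ?_
      rw [smul_eq_mul, ← mul_sub]
      refine Dvd.dvd.mul_left ⟨p /ₘ g', ?_⟩ _
      rw [sub_eq_iff_eq_add']
      exact (modByMonic_add_div p g').symm
    rw [e, (modByMonic_eq_self_iff hmon).mpr, coeff_X_pow_mul', if_pos (Nat.sub_le _ _),
      Nat.sub_sub_self (by omega), coeff_natDegree]
    · exact leadingCoeff_ne_zero.mpr hr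
    · refine degree_lt_degree ?_
      rw [natDegree_mul (pow_ne_zero _ X_ne_zero) hr, natDegree_X_pow]
      omega

/-- An endomorphism of a finite-dimensional space is self-adjoint for some non-singular form. -/
theorem exists_form {V : Type*} [AddCommGroup V] [Module F V] [FiniteDimensional F V]
    (f : V →ₗ[F] V) :
    ∃ B : V → V → F, (∀ v v' w, B (v + v') w = B v w + B v' w) ∧
      (∀ v w w', B v (w + w') = B v w + B v w') ∧ (∀ (c : F) v w, B (c • v) w = c * B v w) ∧
      (∀ (c : F) v w, B v (c • w) = c * B v w) ∧ (∀ v w, B (f v) w = B v (f w)) ∧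
      ∀ v, (∀ w, B v w = 0) → v = 0 := by
  classical
  have htors : Module.IsTorsion F[X] (Module.AEval' f) := by
    intro x
    refine ⟨⟨f.charpoly, mem_nonZeroDivisors_of_ne_zero f.charpoly_monic.ne_zero⟩, ?_⟩
    apply (Module.AEval'.of f).symm.injective
    show (Module.AEval'.of f).symm (f.charpoly • x) = _
    rw [map_zero, Module.AEval.of_symm_smul, LinearMap.aeval_self_charpoly]
    rfl
  obtain ⟨ι, _, p, hp, e, ⟨E₀⟩⟩ := Module.equiv_directSum_of_isTorsion htors
  let E := E₀.trans (DirectSum.linearEquivFunOnFintype F[X] ι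
    (fun i => F[X] ⧸ Submodule.span F[X] {p i ^ e i}))
  choose φ hadd hC hnd using fun i => exists_functional (pow_ne_zero (e i) (hp i).ne_zero)
  let o : V → Module.AEval' f := Module.AEval'.of f
  have ho : ∀ v w, o (v + w) = o v + o w := map_add _
  have hosmul : ∀ (c : F) v, o (c • v) = C c • o v := fun c v => by
    show Module.AEval'.of f (c • v) = C c • Module.AEval'.of f v
    rw [map_smul, Module.AEval.C_smul]
  have hoX : ∀ v, o (f v) = X • o v := fun v => (Module.AEval'.X_smul_of f v).symm
  -- the product on each cyclic summand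
  let m : ∀ i, (F[X] ⧸ Submodule.span F[X] {p i ^ e i}) → (F[X] ⧸ Submodule.span F[X] {p i ^ e i}) →
      (F[X] ⧸ Submodule.span F[X] {p i ^ e i}) := fun i a b =>
    show F[X] ⧸ Ideal.span {p i ^ e i} from
      (show F[X] ⧸ Ideal.span {p i ^ e i} from a) * (show F[X] ⧸ Ideal.span {p i ^ e i} from b)
  have mladd : ∀ i a a' b, m i (a + a') b = m i a b + m i a' b := fun i => add_mul
  have mradd : ∀ i a b b', m i a (b + b') = m i a b + m i a b' := fun i => mul_add
  have mlsmul : ∀ i (r : F[X]) a b, m i (r • a) b = r • m i a b := fun i r a b =>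
    smul_mul_assoc r (show F[X] ⧸ Ideal.span {p i ^ e i} from a) b
  have mrsmul : ∀ i (r : F[X]) a b, m i a (r • b) = r • m i a b := fun i r a b =>
    mul_smul_comm r (show F[X] ⧸ Ideal.span {p i ^ e i} from a) b
  refine ⟨fun v w => ∑ i, φ i (m i (E (o v) i) (E (o w) i)), fun v v' w => ?_, fun v w w' => ?_,
    fun c v w => ?_, fun c v w => ?_, fun v w => ?_, fun v hv => ?_⟩
  · simp only [ho, map_add, Pi.add_apply, mladd, hadd, Finset.sum_add_distrib]
  · simp only [ho, map_add, Pi.add_apply, mradd, hadd, Finset.sum_add_distrib]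
  · simp only [hosmul, map_smul, Pi.smul_apply, mlsmul, hC, Finset.mul_sum]
  · simp only [hosmul, map_smul, Pi.smul_apply, mrsmul, hC, Finset.mul_sum]
  · simp only [hoX, map_smul, Pi.smul_apply, mlsmul, mrsmul]
  · by_contra hne
    obtain ⟨i, hi⟩ : ∃ i, E (o v) i ≠ 0 := by
      by_contra hh
      push Not at hh
      refine hne ((Module.AEval'.of f).map_eq_zero_iff.mp (E.map_eq_zero_iff.mp (funext hh)))
    obtain ⟨r, hr⟩ := hnd i _ hi
    let one' : F[X] ⧸ Submodule.span F[X] {p i ^ e i} := (1 : F[X] ⧸ Ideal.span {p i ^ e i})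
    let w := (Module.AEval'.of f).symm (E.symm (Pi.single i (r • one')))
    have hw : E (o w) = Pi.single i (r • one') := by simp [w, o]
    have := hv w
    simp only [hw] at this
    rw [Finset.sum_eq_single i, Pi.single_eq_same, mrsmul,
      show m i (E (o v) i) one' = E (o v) i from mul_one (show F[X] ⧸ Ideal.span {p i ^ e i} from _)]
      at this
    · exact hr this
    · intro j _ hj
      rw [Pi.single_eq_of_ne hj]
      show φ j (m j _ 0) = 0
      rw [show m j (E (o v) j) 0 = 0 from mul_zero (show F[X] ⧸ Ideal.span {p j ^ e j} from _)]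
      have h0 := hadd j 0 0
      rw [add_zero] at h0
      simpa using h0
    · simp

/-- A matrix is similar to its transpose. -/
theorem isConj_transpose {n : ℕ} (A : Matrix (Fin n) (Fin n) F) : IsConj A A.transpose := by
  obtain ⟨B, hla, hra, hls, hrs, hadj, hnd⟩ := exists_form A.mulVecLin
  let Bl : LinearMap.BilinForm F (Fin n → F) :=
    LinearMap.mk₂ F B hla (fun c v w => hls c v w) hra (fun c v w => hrs c v w)
  let S := LinearMap.BilinForm.toMatrix' Bl
  have hB : ∀ v w, B v w = v ⬝ᵥ (S *ᵥ w) := fun v w => by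
    show Bl v w = _
    conv_lhs => rw [← Matrix.toBilin'_toMatrix' Bl, Matrix.toBilin'_apply']
  have hS : IsUnit S := by
    rw [← Matrix.vecMul_injective_iff_isUnit]
    rw [show (S.vecMul : (Fin n → F) → Fin n → F) = ⇑S.vecMulLinear from rfl, ← LinearMap.ker_eq_bot,
      Submodule.eq_bot_iff]
    intro v hv
    refine hnd v fun w => ?_
    have hv' : v ᵥ* S = 0 := hv
    rw [hB, Matrix.dotProduct_mulVec, hv', zero_dotProduct]
  refine ⟨hS.unit, ?_⟩
  show S * A = A.transpose * S
  refine Matrix.ext_of_mulVec_single fun j => funext fun i => ?_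
  have h := hadj (Pi.single i 1) (Pi.single j 1)
  rw [hB, hB, Matrix.mulVecLin_apply, Matrix.mulVecLin_apply, single_one_dotProduct,
    Matrix.mulVec_mulVec, Matrix.dotProduct_mulVec, ← Matrix.vecMul_transpose,
    Matrix.vecMul_vecMul, ← Matrix.dotProduct_mulVec, single_one_dotProduct] at h
  exact h.symm

end CfsgLib.TransposeForm
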