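import Mathlib

/-!
`GL(5,2)` has no element of order `9`.
-/

set_option autoImplicit false

namespace CfsgLib.GLFiveTwo

open Matrix

/-- A block of order three in the first two coordinates. -/
def A : Matrix (Fin 5) (Fin 5) (ZMod 2) :=
  !![0, 1, 0, 0, 0; 1, 1, 0, 0, 0; 0, 0, 1, 0, 0; 0, 0, 0, 1, 0; 0, 0, 0, 0, 1]

/-- A block of order three in the next two coordinates. -/
def B : Matrix (Fin 5) (Fin 5) (ZMod 2) :=
  !![1, 0, 0, 0, 0; 0, 1, 0, 0, 0; 0, 0, 0, 1, 0; 0, 0, 1, 1, 0; 0, 0, 0, 0, 1]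

theorem facts : A * (A * A) = 1 ∧ B * (B * B) = 1 ∧ A * B = B * A ∧ A ≠ 1 ∧ B ≠ 1 ∧ B ≠ A ∧ B ≠ A * A := by
  decide +kernel

theorem card : Nat.card (GL (Fin 5) (ZMod 2)) = 9999360 := by
  rw [Matrix.card_GL_field]
  simp [Fin.prod_univ_five]

theorem no_order_nine (g : GL (Fin 5) (ZMod 2)) : orderOf g ≠ 9 := by
  intro hg
  haveI : Fact (Nat.Prime 3) := ⟨by norm_num⟩
  obtain ⟨hA, hB, hAB, hA1, hB1, hBA, hBAA⟩ := facts
  let a : GL (Fin 5) (ZMod 2) := ⟨A, A * A, hA, by rw [mul_assoc]; exact hA⟩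
  let b : GL (Fin 5) (ZMod 2) := ⟨B, B * B, hB, by rw [mul_assoc]; exact hB⟩
  have hab : Commute a b := Units.ext hAB
  have ha : orderOf a = 3 := orderOf_eq_prime (Units.ext (by
    show ((a ^ 3 : GL (Fin 5) (ZMod 2)) : Matrix (Fin 5) (Fin 5) (ZMod 2)) = 1
    rw [Units.val_pow_eq_pow_val, pow_succ', pow_two]; exact hA))
    (fun h => hA1 (congrArg Units.val h))
  have hb : orderOf b = 3 := orderOf_eq_prime (Units.ext (by
    show ((b ^ 3 : GL (Fin 5) (ZMod 2)) : Matrix (Fin 5) (Fin 5) (ZMod 2)) = 1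
    rw [Units.val_pow_eq_pow_val, pow_succ', pow_two]; exact hB))
    (fun h => hB1 (congrArg Units.val h))
  have hfac : (Nat.card (GL (Fin 5) (ZMod 2))).factorization 3 = 2 := by
    have : Fact (Nat.Prime 3) := ⟨by norm_num⟩
    rw [card, Nat.factorization_def _ (by norm_num : Nat.Prime 3)]
    rw [show (9999360 : ℕ) = 3 ^ 2 * 1111040 by norm_num, padicValNat.mul (by norm_num) (by norm_num),
      padicValNat.prime_pow, padicValNat.eq_zero_of_not_dvd (by norm_num)]
  set K : Subgroup (GL (Fin 5) (ZMod 2)) := Subgroup.zpowers a ⊔ Subgroup.zpowers b with hK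
  have hKp : IsPGroup 3 K := by
    refine IsPGroup.to_sup_of_normal_left' ?_ ?_ ?_
    · exact IsPGroup.of_card (n := 1) (by rw [Nat.card_zpowers, ha, pow_one])
    · exact IsPGroup.of_card (n := 1) (by rw [Nat.card_zpowers, hb, pow_one])
    · rw [Subgroup.zpowers_le, Subgroup.mem_normalizer_iff]
      intro x
      have hx : ∀ x ∈ Subgroup.zpowers a, b * x * b⁻¹ = x := by
        rintro _ ⟨i, rfl⟩
        rw [← (hab.zpow_left i).eq, mul_inv_cancel_right]
      constructor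
      · intro h; rw [hx x h]; exact h
      · intro h
        have h2 := hx _ h
        rwa [mul_left_cancel (mul_right_cancel h2)] at h
  obtain ⟨P, hP⟩ := hKp.exists_le_sylow
  obtain ⟨P', hP'⟩ := (IsPGroup.of_card (n := 2) (G := Subgroup.zpowers g)
    (by rw [Nat.card_zpowers, hg]; norm_num) : IsPGroup 3 (Subgroup.zpowers g)).exists_le_sylow
  have hP'eq : Subgroup.zpowers g = (P' : Subgroup (GL (Fin 5) (ZMod 2))) := by
    refine Subgroup.eq_of_le_of_card_ge hP' ?_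
    rw [Sylow.card_eq_multiplicity, hfac, Nat.card_zpowers, hg]; norm_num
  haveI : IsCyclic (P : Subgroup (GL (Fin 5) (ZMod 2))) :=
    ((P.equiv P').trans (MulEquiv.subgroupCongr hP'eq.symm)).isCyclic.mpr inferInstance
  have haP : a ∈ (P : Subgroup (GL (Fin 5) (ZMod 2))) := hP (Subgroup.mem_sup_left (Subgroup.mem_zpowers a))
  have hbP : b ∈ (P : Subgroup (GL (Fin 5) (ZMod 2))) := hP (Subgroup.mem_sup_right (Subgroup.mem_zpowers b))
  classical
  obtain ⟨u, hu⟩ := IsCyclic.exists_generator (α := (P : Subgroup (GL (Fin 5) (ZMod 2))))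
  have h9 : orderOf u = 9 := by
    rw [orderOf_eq_card_of_forall_mem_zpowers hu, Sylow.card_eq_multiplicity, hfac]; norm_num
  have key : ∀ x : (P : Subgroup (GL (Fin 5) (ZMod 2))), orderOf x = 3 → x = u ^ 3 ∨ x = u ^ 6 := by
    intro x hx
    obtain ⟨k, hk, rfl⟩ : ∃ k < 9, u ^ k = x := by
      have := hu x
      rw [mem_zpowers_iff_mem_range_orderOf, Finset.mem_image, h9] at this
      obtain ⟨k, hk, hk'⟩ := this
      exact ⟨k, Finset.mem_range.mp hk, hk'⟩
    rw [orderOf_pow, h9] at hx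
    interval_cases k <;> simp_all
  rcases key ⟨a, haP⟩ (by rw [Subgroup.orderOf_mk, ha]) with e1 | e1 <;>
    rcases key ⟨b, hbP⟩ (by rw [Subgroup.orderOf_mk, hb]) with e2 | e2
  · exact hBA (congrArg Units.val (congrArg Subtype.val (e2.trans e1.symm)))
  · refine hBAA ?_
    have h : (⟨b, hbP⟩ : (P : Subgroup (GL (Fin 5) (ZMod 2)))) = ⟨a, haP⟩ * ⟨a, haP⟩ := by
      rw [e2, e1, ← pow_add]
    exact congrArg Units.val (congrArg Subtype.val h)
  · refine hBAA ?_
    have h : (⟨b, hbP⟩ : (P : Subgroup (GL (Fin 5) (ZMod 2)))) = ⟨a, haP⟩ * ⟨a, haP⟩ := by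
      rw [e2, e1, ← pow_add, show 6 + 6 = 3 + 9 from rfl, pow_add, ← h9, pow_orderOf_eq_one, mul_one]
    exact congrArg Units.val (congrArg Subtype.val h)
  · exact hBA (congrArg Units.val (congrArg Subtype.val (e2.trans e1.symm)))

end CfsgLib.GLFiveTwo
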