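import Mathlib
import Cfsg.Prelude.Def_ClassicalGeometry
import Cfsg.Agent.Lib.GLFlags.DoubleCoset

/-! Maximal parabolic subgroups of `GL_n(q)`. -/

set_option autoImplicit false

namespace CfsgLib.GLParabolic

open Matrix

variable {F : Type*} [Field F] [Finite F] {n k : ℕ}

local notation "GLn" => Matrix.GeneralLinearGroup (Fin n) F

/-- The coordinate subspace. -/
def S (F : Type*) [Field F] (n k : ℕ) : Set (Fin n → F) := {v | ∀ i : Fin n, k ≤ (i : ℕ) → v i = 0}

/-- Its stabiliser. -/
def P (F : Type*) [Field F] (n k : ℕ) : Subgroup (Matrix.GeneralLinearGroup (Fin n) F) :=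
  Cfsg.stabilizing (Cfsg.glToMat (Fin n) F) (S F n k)

theorem mem_P {g : GLn} : g ∈ P F n k ↔ ∀ i j : Fin n, k ≤ (i : ℕ) → (j : ℕ) < k → g.1 i j = 0 := by
  constructor
  · intro hg i j hi hj
    have hmem : (Pi.single j 1 : Fin n → F) ∈ S F n k := fun l hl => by
      rw [Pi.single_eq_of_ne]; intro h; subst h; omega
    have := (hg _).mp hmem i hi
    rw [show Cfsg.glToMat (Fin n) F g = g.1 from rfl, Matrix.mulVec_single_one] at this
    exact this
  · intro hg
    have fwd : ∀ v ∈ S F n k, g.1 *ᵥ v ∈ S F n k := fun v hv i hi => by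
      show ∑ j, g.1 i j * v j = 0
      refine Finset.sum_eq_zero fun j _ => ?_
      rcases lt_or_ge (j : ℕ) k with h | h
      · rw [hg i j hi h, zero_mul]
      · rw [hv j h, mul_zero]
    have hinj : Function.Injective (fun v : S F n k => (⟨g.1 *ᵥ v.1, fwd v.1 v.2⟩ : S F n k)) := fun v w h =>
      Subtype.ext (Matrix.mulVec_injective_iff_isUnit.mpr g.isUnit (congrArg Subtype.val h))
    intro v
    refine ⟨fwd v, fun h => ?_⟩
    obtain ⟨w, hw⟩ := (Finite.injective_iff_surjective.mp hinj) ⟨_, h⟩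
    have := Matrix.mulVec_injective_iff_isUnit.mpr g.isUnit (congrArg Subtype.val hw : g.1 *ᵥ w.1 = g.1 *ᵥ v)
    exact this ▸ w.2

/-- Root elements. -/
def xg {i j : Fin n} (h : i ≠ j) (c : F) : GLn :=
  SpecialLinearGroup.toGL (SpecialLinearGroup.transvection h c)

theorem xg_coe {i j : Fin n} (h : i ≠ j) (c : F) : (xg h c).1 = 1 + single i j c := rfl

theorem xg_mem {i j : Fin n} (h : i ≠ j) (c : F) (hb : (i : ℕ) < k ∨ k ≤ (j : ℕ)) : xg h c ∈ P F n k := by
  rw [mem_P]
  intro a b ha hb'
  rw [xg_coe, Matrix.add_apply, Matrix.one_apply_ne (by intro e; subst e; omega), Matrix.single_apply, if_neg, add_zero]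
  rintro ⟨rfl, rfl⟩
  omega

theorem perm_xg (σ : Equiv.Perm (Fin n)) {i j : Fin n} (h : i ≠ j) (c : F) :
    (GLFlags.permGL σ : GLn) * xg h c * (GLFlags.permGL σ)⁻¹ = xg (σ.injective.ne h) c := by
  rw [mul_inv_eq_iff_eq_mul]
  apply Units.ext
  ext a b
  show ((GLFlags.permGL σ : GLn).1 * (xg h c).1) a b = ((xg (σ.injective.ne h) c).1 * (GLFlags.permGL σ : GLn).1) a b
  rw [GLFlags.permGL_mul_apply, xg_coe, xg_coe, Matrix.add_mul, Matrix.one_mul, Matrix.add_apply, Matrix.add_apply,
    GLFlags.permGL_apply, Matrix.one_apply]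
  congr 1
  by_cases ha : a = σ i
  · subst ha
    rw [Matrix.single_mul_apply_same, GLFlags.permGL_apply]
    simp [Matrix.single_apply]
  · rw [Matrix.single_mul_apply_of_ne (h := ha), Matrix.single_apply, if_neg]
    rintro ⟨h1, -⟩
    apply ha
    rw [h1]
    simp

theorem perm_mem {σ : Equiv.Perm (Fin n)} (hσ : ∀ j : Fin n, (j : ℕ) < k ↔ (σ j : ℕ) < k) :
    (GLFlags.permGL σ : GLn) ∈ P F n k := by
  rw [mem_P]
  intro i j hi hj
  rw [GLFlags.permGL_apply, if_neg]
  rintro rfl
  have := (hσ (σ⁻¹ i)).mp hj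
  simp at this
  omega

theorem upper_le : Cfsg.upperTriangularGL n F ≤ P F n k := by
  intro g hg
  rw [mem_P]
  intro i j hi hj
  exact hg (show (id j : Fin n) < id i by simp only [id, Fin.lt_def]; omega)

theorem isCoatom (hk0 : 0 < k) (hkn : k < n) : IsCoatom (P F n k) := by
  classical
  have hne : (⟨k, hkn⟩ : Fin n) ≠ ⟨0, by omega⟩ := by simp; omega
  constructor
  · intro htop
    have : xg hne (1 : F) ∈ P F n k := htop ▸ Subgroup.mem_top _
    have := mem_P.mp this ⟨k, hkn⟩ ⟨0, by omega⟩ le_rfl hk0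
    simp [xg_coe, Matrix.one_apply_ne hne] at this
  · intro H hH
    obtain ⟨g, hgH, hgP⟩ := SetLike.exists_of_lt hH
    have hle : P F n k ≤ H := hH.le
    obtain ⟨b, hb, σ, u, hu, rfl⟩ := GLFlags.exists_bruhat g
    have hσH : (GLFlags.permGL σ : GLn) ∈ H := by
      have := H.mul_mem (H.mul_mem (H.inv_mem (hle (upper_le hb))) hgH) (H.inv_mem (hle (upper_le hu)))
      rwa [← mul_assoc, inv_mul_cancel_left, mul_inv_cancel_right] at this
    obtain ⟨j, hj, hσj⟩ : ∃ j : Fin n, (j : ℕ) < k ∧ k ≤ (σ j : ℕ) := by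
      by_contra h
      push Not at h
      apply hgP
      refine mul_mem (mul_mem (upper_le hb) (perm_mem fun a => ⟨h a, fun ha => ?_⟩)) (upper_le hu)
      have hinj : Function.Injective (fun x : {a : Fin n // (a : ℕ) < k} => (⟨σ x.1, h _ x.2⟩ : {a : Fin n // (a : ℕ) < k})) :=
        fun x y e => Subtype.ext (σ.injective (congrArg Subtype.val e))
      obtain ⟨x, hx⟩ := (Finite.injective_iff_surjective.mp hinj) ⟨σ a, ha⟩
      rw [← σ.injective (congrArg Subtype.val hx)]
      exact x.2
    obtain ⟨i, hi, hσi⟩ : ∃ i : Fin n, k ≤ (i : ℕ) ∧ (σ i : ℕ) < k := by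
      by_contra h
      push Not at h
      have hinj : Function.Injective (fun x : {a : Fin n // k ≤ (a : ℕ)} => (⟨σ x.1, h _ x.2⟩ : {a : Fin n // k ≤ (a : ℕ)})) :=
        fun x y e => Subtype.ext (σ.injective (congrArg Subtype.val e))
      obtain ⟨x, hx⟩ := (Finite.injective_iff_surjective.mp hinj) ⟨σ j, hσj⟩
      have := σ.injective (congrArg Subtype.val hx)
      have := x.2
      rw [‹(x : Fin n) = j›] at this
      omega
    have hji : j ≠ i := by intro e; subst e; omega
    have hroot : ∀ (a b : Fin n) (hab : a ≠ b) (c : F), xg hab c ∈ H := by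
      intro a b hab c
      by_cases hup : (a : ℕ) < k ∨ k ≤ (b : ℕ)
      · exact hle (xg_mem hab c hup)
      push Not at hup
      let ρ : Equiv.Perm (Fin n) := Equiv.swap (σ j) a * Equiv.swap (σ i) b
      have hρ1 : ρ (σ j) = a := by
        have h1 : σ j ≠ σ i := σ.injective.ne hji
        have h2 : σ j ≠ b := by intro e; rw [e] at hσj; omega
        rw [Equiv.Perm.mul_apply, Equiv.swap_apply_of_ne_of_ne h1 h2, Equiv.swap_apply_left]
      have hρ2 : ρ (σ i) = b := by
        have h1 : b ≠ σ j := by intro e; rw [← e] at hσj; omega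
        rw [Equiv.Perm.mul_apply, Equiv.swap_apply_left, Equiv.swap_apply_of_ne_of_ne h1 hab.symm]
      have hρP : (GLFlags.permGL ρ : GLn) ∈ P F n k := by
        apply perm_mem
        intro x
        simp only [ρ, Equiv.Perm.mul_apply, Equiv.swap_apply_def]
        split_ifs <;> simp_all <;> omega
      have h1 : xg (σ.injective.ne hji) c ∈ H := by
        rw [← perm_xg σ hji c]
        exact H.mul_mem (H.mul_mem hσH (hle (xg_mem hji c (Or.inl hj)))) (H.inv_mem hσH)
      have h2 := H.mul_mem (H.mul_mem (hle hρP) h1) (H.inv_mem (hle hρP))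
      rw [perm_xg] at h2
      simp only [hρ1, hρ2] at h2
      exact h2
    haveI : Nontrivial (Fin n) := Fin.nontrivial_iff_two_le.mpr (by omega)
    have hSL : ∀ A : SpecialLinearGroup (Fin n) F, SpecialLinearGroup.toGL A ∈ H := fun A => by
      refine SpecialLinearGroup.diagonal_transvection_induction'
        (fun A => SpecialLinearGroup.toGL A ∈ H) A (fun a b hab c hc => ?_) (fun a b hab c => hroot a b hab c)
        (fun A B hA hB => by rw [map_mul]; exact H.mul_mem hA hB)
      refine hle (upper_le ?_)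
      exact Matrix.blockTriangular_diagonal _
    rw [eq_top_iff]
    intro g _
    let d : Fin n → F := Function.update (fun _ => 1) ⟨0, by omega⟩ g.1.det
    have hd : (diagonal d).det = g.1.det := by
      rw [det_diagonal, Finset.prod_update_of_mem (Finset.mem_univ _), Finset.prod_const_one, mul_one]
    let D : GLn := GeneralLinearGroup.mkOfDetNeZero (diagonal d) (by rw [hd]; exact g.det_ne_zero)
    have hD : D ∈ H := hle (upper_le (Matrix.blockTriangular_diagonal _ : (diagonal d).BlockTriangular id))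
    have hdet : ((D⁻¹ * g : GLn) : Matrix (Fin n) (Fin n) F).det = 1 := by
      have h1 : GeneralLinearGroup.det (D⁻¹ * g) = 1 := by
        rw [map_mul, map_inv, inv_mul_eq_one]
        exact Units.ext hd
      exact congrArg Units.val h1
    have := H.mul_mem hD (hSL ⟨_, hdet⟩)
    rwa [show SpecialLinearGroup.toGL ⟨((D⁻¹ * g : GLn) : Matrix (Fin n) (Fin n) F), hdet⟩ = D⁻¹ * g from Units.ext rfl,
      mul_inv_cancel_left] at this

theorem card_P [Fintype F] (k l : ℕ) : Nat.card (P F (k + l) k) =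
    Fintype.card F ^ (k * l) * Nat.card (GL (Fin k) F) * Nat.card (GL (Fin l) F) := by
  classical
  let e : Fin k ⊕ Fin l ≃ Fin (k + l) := finSumFinEquiv
  have hzero : ∀ g : P F (k + l) k, (g.1.1.submatrix e e).toBlocks₂₁ = 0 := fun g => by
    ext i j
    exact mem_P.mp g.2 _ _ (by simp [e]) (by simp [e])
  have hform : ∀ g : P F (k + l) k, g.1.1.submatrix e e = fromBlocks (g.1.1.submatrix e e).toBlocks₁₁
      (g.1.1.submatrix e e).toBlocks₁₂ 0 (g.1.1.submatrix e e).toBlocks₂₂ := fun g => by
    conv_lhs => rw [← fromBlocks_toBlocks (g.1.1.submatrix e e), hzero g]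
  have hdets : ∀ g : P F (k + l) k, (g.1.1.submatrix e e).toBlocks₁₁.det ≠ 0 ∧
      (g.1.1.submatrix e e).toBlocks₂₂.det ≠ 0 := fun g => by
    have h := g.1.det_ne_zero
    rw [← det_submatrix_equiv_self e, hform g, det_fromBlocks_zero₂₁] at h
    exact mul_ne_zero_iff.mp h
  let φ : P F (k + l) k ≃ Matrix (Fin k) (Fin l) F × GL (Fin k) F × GL (Fin l) F :=
    { toFun := fun g => ((g.1.1.submatrix e e).toBlocks₁₂, GeneralLinearGroup.mkOfDetNeZero _ (hdets g).1,
        GeneralLinearGroup.mkOfDetNeZero _ (hdets g).2)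
      invFun := fun p => ⟨GeneralLinearGroup.mkOfDetNeZero ((fromBlocks p.2.1.1 p.1 0 p.2.2.1).submatrix e.symm e.symm)
        (by rw [det_submatrix_equiv_self, det_fromBlocks_zero₂₁]; exact mul_ne_zero p.2.1.det_ne_zero p.2.2.det_ne_zero),
        mem_P.mpr fun i j hi hj => by
          show fromBlocks p.2.1.1 p.1 0 p.2.2.1 (e.symm i) (e.symm j) = 0
          obtain ⟨a, rfl⟩ := e.surjective i
          obtain ⟨b, rfl⟩ := e.surjective j
          rcases a with a | a <;> rcases b with b | b
          · simp [e] at hi; omega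
          · simp [e] at hj
          · simp
          · simp [e] at hj⟩
      left_inv := fun g => by
        apply Subtype.ext; apply Units.ext
        show (fromBlocks (g.1.1.submatrix e e).toBlocks₁₁ (g.1.1.submatrix e e).toBlocks₁₂ 0
          (g.1.1.submatrix e e).toBlocks₂₂).submatrix e.symm e.symm = g.1.1
        rw [← hform g]; simp
      right_inv := fun p => by
        obtain ⟨M, A, D⟩ := p
        refine Prod.ext ?_ (Prod.ext (Units.ext ?_) (Units.ext ?_)) <;> ext i j <;>
          simp [GeneralLinearGroup.mkOfDetNeZero, Matrix.toBlocks₁₁, Matrix.toBlocks₁₂, Matrix.toBlocks₂₂] }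
  rw [Nat.card_congr φ, Nat.card_prod, Nat.card_prod, ← mul_assoc]
  congr 2
  show Nat.card (Fin k → Fin l → F) = _
  rw [Nat.card_fun, Nat.card_fun, Nat.card_eq_fintype_card, Nat.card_fin, Nat.card_fin, ← pow_mul, mul_comm l k]

/-- The graph automorphism. -/
def theta : MulAut GLn where
  toFun g := ⟨((g⁻¹).1)ᵀ.submatrix Fin.revPerm Fin.revPerm, (g.1)ᵀ.submatrix Fin.revPerm Fin.revPerm,
    by rw [submatrix_mul_equiv, ← transpose_mul, Units.mul_inv, transpose_one, submatrix_one_equiv],
    by rw [submatrix_mul_equiv, ← transpose_mul, Units.inv_mul, transpose_one, submatrix_one_equiv]⟩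
  invFun g := ⟨((g⁻¹).1)ᵀ.submatrix Fin.revPerm Fin.revPerm, (g.1)ᵀ.submatrix Fin.revPerm Fin.revPerm,
    by rw [submatrix_mul_equiv, ← transpose_mul, Units.mul_inv, transpose_one, submatrix_one_equiv],
    by rw [submatrix_mul_equiv, ← transpose_mul, Units.inv_mul, transpose_one, submatrix_one_equiv]⟩
  left_inv g := by
    apply Units.ext
    show ((g.1)ᵀ.submatrix Fin.revPerm Fin.revPerm)ᵀ.submatrix Fin.revPerm Fin.revPerm = g.1
    ext i j; simp
  right_inv g := by
    apply Units.ext
    show ((g.1)ᵀ.submatrix Fin.revPerm Fin.revPerm)ᵀ.submatrix Fin.revPerm Fin.revPerm = g.1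
    ext i j; simp
  map_mul' g h := by
    apply Units.ext
    show (((g * h)⁻¹).1)ᵀ.submatrix Fin.revPerm Fin.revPerm = ((g⁻¹).1)ᵀ.submatrix Fin.revPerm Fin.revPerm * ((h⁻¹).1)ᵀ.submatrix Fin.revPerm Fin.revPerm
    rw [submatrix_mul_equiv, ← transpose_mul, ← Units.val_mul, ← _root_.mul_inv_rev]

theorem theta_mem (hk : k ≤ n) (g : GLn) : g ∈ P F n k ↔ theta g ∈ P F n (n - k) := by
  rw [← Subgroup.inv_mem_iff, mem_P, mem_P]
  constructor
  · intro h i j hi hj
    show (g⁻¹).1 (Fin.rev j) (Fin.rev i) = 0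
    exact h _ _ (by simp [Fin.val_rev]; omega) (by simp [Fin.val_rev]; omega)
  · intro h a b ha hb
    have := h (Fin.rev b) (Fin.rev a) (by simp [Fin.val_rev]; omega) (by simp [Fin.val_rev]; omega)
    change (g⁻¹).1 (Fin.rev (Fin.rev a)) (Fin.rev (Fin.rev b)) = 0 at this
    simpa using this

theorem iso (hk : k ≤ n) : Nonempty (P F n k ≃* P F n (n - k)) := by
  have h : (P F n k).map (theta : MulAut GLn).toMonoidHom = P F n (n - k) := by
    ext x
    rw [Subgroup.mem_map]
    constructor
    · rintro ⟨g, hg, rfl⟩; exact (theta_mem hk g).mp hg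
    · intro hx
      refine ⟨(theta : MulAut GLn).symm x, (theta_mem hk _).mpr ?_, MulEquiv.apply_symm_apply _ _⟩
      rwa [MulEquiv.apply_symm_apply]
  exact ⟨((P F n k).equivMapOfInjective _ (theta : MulAut GLn).injective).trans (MulEquiv.subgroupCongr h)⟩

theorem card_S [Fintype F] (hk : k ≤ n) : Nat.card (S F n k) = Fintype.card F ^ k := by
  let φ : S F n k ≃ (Fin k → F) :=
    { toFun := fun v i => v.1 ⟨i, by omega⟩
      invFun := fun w => ⟨fun i => if h : (i : ℕ) < k then w ⟨i, h⟩ else 0, fun i hi => dif_neg (by omega)⟩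
      left_inv := fun v => by
        apply Subtype.ext; funext i
        show (if h : (i : ℕ) < k then v.1 ⟨i, _⟩ else 0) = v.1 i
        split_ifs with h
        · rfl
        · exact (v.2 i (by omega)).symm
      right_inv := fun w => by funext i; simp }
  rw [Nat.card_congr φ, Nat.card_fun, Nat.card_eq_fintype_card, Nat.card_fin]

theorem not_conj [Fintype F] (hk0 : 0 < k) (hkn : k < n) (h2 : 2 * k ≠ n) (g : GLn) :
    (P F n k).map (MulAut.conj g).toMonoidHom ≠ P F n (n - k) := by
  classical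
  intro he
  let W : Submodule F (Fin n → F) :=
    { carrier := {v | g.1 *ᵥ v ∈ S F n (n - k)}
      add_mem' := fun {v w} hv hw i hi => by rw [mulVec_add, Pi.add_apply, hv i hi, hw i hi, add_zero]
      zero_mem' := fun i _ => by simp
      smul_mem' := fun c v hv i hi => by rw [mulVec_smul, Pi.smul_apply, hv i hi, smul_zero] }
  have hinv : ∀ p ∈ P F n k, ∀ v ∈ W, p.1 *ᵥ v ∈ W := by
    intro p hp v hv
    have hmem : MulAut.conj g p ∈ P F n (n - k) := he ▸ Subgroup.mem_map_of_mem _ hp
    have := (hmem (g.1 *ᵥ v)).mp hv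
    change (g * p * g⁻¹ : GLn).1 *ᵥ (g.1 *ᵥ v) ∈ S F n (n - k) at this
    rwa [mulVec_mulVec, ← Units.val_mul, inv_mul_cancel_right, Units.val_mul, ← mulVec_mulVec] at this
  have hroot : ∀ (i j : Fin n), i ≠ j → ((i : ℕ) < k ∨ k ≤ (j : ℕ)) → ∀ v ∈ W, v j • (Pi.single i 1 : Fin n → F) ∈ W := by
    intro i j hij hb v hv
    have := W.sub_mem (hinv _ (xg_mem hij (1 : F) hb) v hv) hv
    rw [xg_coe, add_mulVec, one_mulVec, add_sub_cancel_left] at this
    convert this using 1
    ext a
    rcases eq_or_ne a i with rfl | ha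
    · simp [mulVec, dotProduct, Matrix.single_apply]
    · simp [mulVec, dotProduct, Matrix.single_apply, ha, Ne.symm ha]
  have hbasis : ∀ (i j : Fin n), i ≠ j → ((i : ℕ) < k ∨ k ≤ (j : ℕ)) → ∀ v ∈ W, v j ≠ 0 →
      (Pi.single i 1 : Fin n → F) ∈ W := fun i j hij hb v hv hj => by
    have := W.smul_mem (v j)⁻¹ (hroot i j hij hb v hv)
    rwa [smul_smul, inv_mul_cancel₀ hj, one_smul] at this
  have hgi : Function.Injective (fun v : Fin n → F => g.1 *ᵥ v) := Matrix.mulVec_injective_iff_isUnit.mpr g.isUnit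
  have hsurj : Function.Surjective (fun v : Fin n → F => g.1 *ᵥ v) := Finite.injective_iff_surjective.mp hgi
  let φ : W ≃ S F n (n - k) := Equiv.ofBijective (fun v => ⟨g.1 *ᵥ v.1, v.2⟩)
    ⟨fun v w h => Subtype.ext (hgi (congrArg Subtype.val h)), fun y => by
      obtain ⟨v, hv⟩ := hsurj y.1
      have hv' : g.1 *ᵥ v = y.1 := hv
      exact ⟨⟨v, show g.1 *ᵥ v ∈ _ by rw [hv']; exact y.2⟩, Subtype.ext hv'⟩⟩
  have hWcard : Nat.card W = Fintype.card F ^ (n - k) := by rw [Nat.card_congr φ, card_S (by omega)]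
  have hS : (W : Set (Fin n → F)) = S F n k := by
    have hsub : ∀ v ∈ W, v ∈ S F n k := by
      intro v hv j hj
      by_contra hne
      have hall : ∀ i, i ≠ j → (Pi.single i 1 : Fin n → F) ∈ W := fun i hij => hbasis i j hij (Or.inr hj) v hv hne
      have hj' : (Pi.single j 1 : Fin n → F) ∈ W := by
        have hrest : v - v j • Pi.single j 1 ∈ W := by
          have : v - v j • Pi.single j 1 = ∑ i ∈ Finset.univ.erase j, v i • (Pi.single i 1 : Fin n → F) := by
            rw [Finset.sum_erase_eq_sub (Finset.mem_univ j), ← pi_eq_sum_univ' v]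
          rw [this]
          exact W.sum_mem fun i hi => W.smul_mem _ (hall i (Finset.ne_of_mem_erase hi))
        have := W.smul_mem (v j)⁻¹ (W.sub_mem hv hrest)
        rwa [sub_sub_cancel, smul_smul, inv_mul_cancel₀ hne, one_smul] at this
      have htop : ∀ w, w ∈ W := fun w => by
        rw [pi_eq_sum_univ' w]
        refine W.sum_mem fun i _ => W.smul_mem _ ?_
        by_cases h : i = j
        · exact h ▸ hj'
        · exact hall i h
      have : Nat.card W = Fintype.card F ^ n := by
        rw [Nat.card_congr (Equiv.subtypeUnivEquiv htop), Nat.card_fun, Nat.card_eq_fintype_card, Nat.card_fin]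
      rw [hWcard] at this
      have := Nat.pow_right_injective Fintype.one_lt_card this
      omega
    apply Set.Subset.antisymm hsub
    obtain ⟨v, hv, hv0⟩ : ∃ v ∈ W, v ≠ 0 := by
      by_contra h
      push Not at h
      have hbot : W = ⊥ := (Submodule.eq_bot_iff W).mpr h
      rw [hbot, Nat.card_unique] at hWcard
      have h1 : (1 : ℕ) = Fintype.card F ^ 0 := (pow_zero _).symm
      have := Nat.pow_right_injective (Fintype.one_lt_card (α := F)) (h1.symm.trans hWcard)
      omega
    obtain ⟨j, hj⟩ := Function.ne_iff.mp hv0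
    have hjk : (j : ℕ) < k := by by_contra h; exact hj (hsub v hv j (by omega))
    have hall : ∀ i : Fin n, (i : ℕ) < k → i ≠ j → (Pi.single i 1 : Fin n → F) ∈ W := fun i hi hij =>
      hbasis i j hij (Or.inl hi) v hv hj
    have hj' : (Pi.single j 1 : Fin n → F) ∈ W := by
      have hrest : v - v j • Pi.single j 1 ∈ W := by
        have : v - v j • Pi.single j 1 = ∑ i ∈ Finset.univ.erase j, v i • (Pi.single i 1 : Fin n → F) := by
          rw [Finset.sum_erase_eq_sub (Finset.mem_univ j), ← pi_eq_sum_univ' v]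
        rw [this]
        refine W.sum_mem fun i hi => ?_
        by_cases h : (i : ℕ) < k
        · exact W.smul_mem _ (hall i h (Finset.ne_of_mem_erase hi))
        · rw [hsub v hv i (by omega), zero_smul]; exact W.zero_mem
      have := W.smul_mem (v j)⁻¹ (W.sub_mem hv hrest)
      rwa [sub_sub_cancel, smul_smul, inv_mul_cancel₀ hj, one_smul] at this
    intro w hw
    rw [SetLike.mem_coe, pi_eq_sum_univ' w]
    refine W.sum_mem fun i _ => ?_
    by_cases h : (i : ℕ) < k
    · by_cases hij : i = j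
      · exact W.smul_mem _ (hij ▸ hj')
      · exact W.smul_mem _ (hall i h hij)
    · rw [hw i (by omega), zero_smul]; exact W.zero_mem
  have h3 : Nat.card W = Fintype.card F ^ k := by
    rw [← card_S (F := F) hkn.le]
    exact Nat.card_congr (Equiv.setCongr hS)
  rw [hWcard] at h3
  have := Nat.pow_right_injective Fintype.one_lt_card h3
  omega

end CfsgLib.GLParabolic
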