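/-
Scott's inequality for a pair of permutations generating a transitive group, and the rank of
`1 - g` for a permutation of prime order.
-/
import Mathlib

set_option autoImplicit false

namespace CfsgLib.ScottBound

open Module

variable {α : Type*} [Fintype α] [DecidableEq α]

/-- The permutation representation on rational functions. -/
def permMap : Equiv.Perm α →* ((α → ℚ) →ₗ[ℚ] (α → ℚ)) where
  toFun g := LinearMap.funLeft ℚ ℚ g.symm
  map_one' := rfl
  map_mul' _ _ := rfl

omit [Fintype α] [DecidableEq α] in
theorem permMap_apply (g : Equiv.Perm α) (f : α → ℚ) (i : α) : permMap g f i = f (g.symm i) := rfl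

/-- The rank of `1 - g`. -/
noncomputable def drop (g : Equiv.Perm α) : ℕ := finrank ℚ (LinearMap.range (1 - permMap g))

theorem scott {x y : Equiv.Perm α}
    (htr : ∀ a b : α, ∃ g ∈ Subgroup.closure {x, y}, g a = b) :
    2 * (Fintype.card α - 1) ≤ drop x + drop y + drop (x * y)⁻¹ := by
  classical
  rcases isEmpty_or_nonempty α with h | h
  · simp
  obtain ⟨a0⟩ := h
  set X := permMap x with hX
  set Y := permMap y with hY
  set Z := permMap ((x * y)⁻¹) with hZ
  have hXYZ : ∀ v, X (Y (Z v)) = v := fun v => by
    show (X * Y * Z) v = v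
    rw [hX, hY, hZ, ← map_mul, ← map_mul, mul_inv_cancel, map_one]
    rfl
  set A := (1 - X : (α → ℚ) →ₗ[ℚ] (α → ℚ))
  set B := (1 - Y : (α → ℚ) →ₗ[ℚ] (α → ℚ))
  set C := (1 - Z : (α → ℚ) →ₗ[ℚ] (α → ℚ))
  have hA : ∀ v, A v = v - X v := fun v => rfl
  have hB : ∀ v, B v = v - Y v := fun v => rfl
  have hC : ∀ v, C v = v - Z v := fun v => rfl
  let δ : (LinearMap.range A × LinearMap.range B × LinearMap.range C) →ₗ[ℚ] (α → ℚ) :=
    LinearMap.coprod (LinearMap.range A).subtype
      (LinearMap.coprod (X ∘ₗ (LinearMap.range B).subtype)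
        (X ∘ₗ Y ∘ₗ (LinearMap.range C).subtype))
  let β : (α → ℚ) →ₗ[ℚ] (LinearMap.range A × LinearMap.range B × LinearMap.range C) :=
    LinearMap.prod A.rangeRestrict (LinearMap.prod B.rangeRestrict C.rangeRestrict)
  have hδ : ∀ a b c, δ (a, b, c) = a.1 + (X b.1 + X (Y c.1)) := fun a b c => rfl
  have hcomp : ∀ v, δ (β v) = 0 := fun v => by
    show A v + (X (B v) + X (Y (C v))) = 0
    rw [hA, hB, hC, map_sub, map_sub, map_sub, hXYZ]
    abel
  -- the image of `δ` contains every `(1 - g) v`
  have himg : ∀ g ∈ Subgroup.closure {x, y}, ∀ v, v - permMap g v ∈ LinearMap.range δ := by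
    intro g hg
    induction hg using Subgroup.closure_induction with
    | mem g hg =>
      intro v
      have h1 : ∀ v, v - X v ∈ LinearMap.range δ := fun v =>
        ⟨(⟨A v, v, rfl⟩, 0, 0), by rw [hδ]; simp [hA]⟩
      rcases hg with rfl | rfl
      · exact h1 v
      · have h2 : X (v - Y v) ∈ LinearMap.range δ :=
          ⟨(0, ⟨B v, v, rfl⟩, 0), by rw [hδ]; simp [hB]⟩
        have := add_mem h2 (h1 (v - Y v))
        simpa using this
    | one => intro v; simp
    | mul g h _ _ hg hh =>
      intro v
      have := add_mem (hh v) (hg (permMap h v))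
      rw [map_mul]
      simpa using this
    | inv g _ hg =>
      intro v
      have := neg_mem (hg (permMap g⁻¹ v))
      have e : permMap g (permMap g⁻¹ v) = v := by
        show (permMap g * permMap g⁻¹) v = v
        rw [← map_mul, mul_inv_cancel, map_one]; rfl
      rw [e, neg_sub] at this
      exact this
  have hsingle : ∀ b, (Pi.single a0 (1 : ℚ) : α → ℚ) - Pi.single b 1 ∈ LinearMap.range δ := fun b => by
    obtain ⟨g, hg, rfl⟩ := htr a0 b
    convert himg g hg (Pi.single a0 1) using 2
    funext i
    rw [permMap_apply]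
    by_cases hi : i = g a0
    · subst hi; simp
    · have : g.symm i ≠ a0 := fun e => hi (by rw [← e, Equiv.apply_symm_apply])
      simp [Pi.single_apply, hi, this]
  have hrange : Fintype.card α ≤ finrank ℚ (LinearMap.range δ) + 1 := by
    have htop : LinearMap.range δ ⊔ Submodule.span ℚ {(Pi.single a0 (1 : ℚ) : α → ℚ)} = ⊤ := by
      rw [eq_top_iff, ← (Pi.basisFun ℚ α).span_eq, Submodule.span_le]
      rintro _ ⟨b, rfl⟩
      rw [Pi.basisFun_apply]
      exact Submodule.mem_sup.mpr ⟨-((Pi.single a0 (1 : ℚ) : α → ℚ) - Pi.single b 1), neg_mem (hsingle b),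
        (Pi.single a0 (1 : ℚ) : α → ℚ), Submodule.mem_span_singleton_self _, by abel⟩
    have h := Submodule.finrank_add_le_finrank_add_finrank (LinearMap.range δ)
      (Submodule.span ℚ {(Pi.single a0 (1 : ℚ) : α → ℚ)})
    rw [htop, finrank_top, finrank_pi] at h
    have h1 : finrank ℚ (Submodule.span ℚ {(Pi.single a0 (1 : ℚ) : α → ℚ)}) ≤ 1 := by
      refine (finrank_span_le_card _).trans ?_
      simp
    omega
  have hker : finrank ℚ (LinearMap.ker β) ≤ 1 := by
    have hle : LinearMap.ker β ≤ Submodule.span ℚ {fun _ : α => (1 : ℚ)} := by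
      intro v hv
      rw [LinearMap.mem_ker] at hv
      have hAv : v - X v = 0 := congrArg (fun t => (t.1 : α → ℚ)) hv
      have hBv : v - Y v = 0 := congrArg (fun t => (t.2.1 : α → ℚ)) hv
      have hfix : ∀ g ∈ Subgroup.closure {x, y}, permMap g v = v := by
        intro g hg
        induction hg using Subgroup.closure_induction with
        | mem g hg =>
          rcases hg with rfl | rfl
          · exact (sub_eq_zero.mp hAv).symm
          · exact (sub_eq_zero.mp hBv).symm
        | one => rfl
        | mul g h _ _ hg hh =>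
          rw [map_mul]
          show permMap g (permMap h v) = v
          rw [hh, hg]
        | inv g _ hg =>
          conv_lhs => rw [← hg]
          show (permMap g⁻¹ * permMap g) v = v
          rw [← map_mul, inv_mul_cancel, map_one]; rfl
      refine Submodule.mem_span_singleton.mpr ⟨v a0, funext fun b => ?_⟩
      obtain ⟨g, hg, rfl⟩ := htr a0 b
      have := congrFun (hfix g hg) (g a0)
      rw [permMap_apply, Equiv.symm_apply_apply] at this
      simp [this]
    refine (Submodule.finrank_mono hle).trans ((finrank_span_le_card _).trans ?_)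
    simp
  have h1 := LinearMap.finrank_range_add_finrank_ker β
  have h2 := LinearMap.finrank_range_add_finrank_ker δ
  have h3 : finrank ℚ (LinearMap.range β) ≤ finrank ℚ (LinearMap.ker δ) :=
    Submodule.finrank_mono (by rintro _ ⟨v, rfl⟩; exact hcomp v)
  rw [finrank_prod, finrank_prod] at h2
  rw [finrank_pi] at h1
  show _ ≤ finrank ℚ (LinearMap.range A) + finrank ℚ (LinearMap.range B) + finrank ℚ (LinearMap.range C)
  omega

theorem drop_le (g : Equiv.Perm α) [Nonempty α] : drop g + 1 ≤ Fintype.card α := by
  have h := LinearMap.finrank_range_add_finrank_ker (1 - permMap g)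
  rw [finrank_pi] at h
  have hk : 0 < finrank ℚ (LinearMap.ker (1 - permMap g)) := by
    haveI : Nontrivial (LinearMap.ker (1 - permMap g)) :=
      ⟨⟨⟨fun _ => 1, by
          rw [LinearMap.mem_ker]
          funext i
          show (1 : ℚ) - 1 = 0
          ring⟩, 0, fun e => by
        have := congrFun (congrArg Subtype.val e) (Classical.arbitrary α)
        simp at this⟩⟩
    exact Module.finrank_pos
  simp only [drop]
  omega

/-- `p` times the dimension of the fixed functions of an element of order `p` with `f` fixed points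
is `n + (p - 1) f`. -/
theorem drop_prime {p : ℕ} (hp : p.Prime) {g : Equiv.Perm α} (hg : g ^ p = 1) :
    ∃ k, drop g + k = Fintype.card α ∧
      p * k = Fintype.card α + (p - 1) * (Finset.univ.filter fun i => g i = i).card := by
  classical
  haveI : Fact p.Prime := ⟨hp⟩
  set T : (α → ℚ) →ₗ[ℚ] (α → ℚ) := (p : ℚ)⁻¹ • ∑ k ∈ Finset.range p, permMap (g ^ k) with hT
  have hp0 : (p : ℚ) ≠ 0 := Nat.cast_ne_zero.mpr hp.ne_zero
  have hshift : ∀ f : ℕ → (α → ℚ), f p = f 0 →
      ∑ k ∈ Finset.range p, f (k + 1) = ∑ k ∈ Finset.range p, f k := fun f hf => by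
    have h1 := Finset.sum_range_succ' f p
    have h2 := Finset.sum_range_succ f p
    rw [h2, hf] at h1
    exact add_right_cancel h1.symm
  have hproj : LinearMap.IsProj (LinearMap.ker (1 - permMap g)) T := by
    constructor
    · intro v
      rw [LinearMap.mem_ker, LinearMap.sub_apply, Module.End.one_apply, sub_eq_zero, hT,
        LinearMap.smul_apply, LinearMap.sum_apply, map_smul, map_sum]
      congr 1
      rw [← hshift (fun k => permMap (g ^ k) v) (by simp [hg])]
      refine Finset.sum_congr rfl fun k _ => ?_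
      show permMap (g ^ (k + 1)) v = (permMap g * permMap (g ^ k)) v
      rw [← map_mul, pow_succ']
    · intro v hv
      rw [LinearMap.mem_ker, LinearMap.sub_apply, Module.End.one_apply, sub_eq_zero] at hv
      have : ∀ k, permMap (g ^ k) v = v := fun k => by
        induction k with
        | zero => simp
        | succ k ih =>
          show permMap (g ^ (k + 1)) v = v
          rw [pow_succ', map_mul]
          show permMap g (permMap (g ^ k) v) = v
          rw [ih, ← hv]
      rw [hT, LinearMap.smul_apply, LinearMap.sum_apply, Finset.sum_congr rfl fun k _ => this k,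
        Finset.sum_const, Finset.card_range, ← Nat.cast_smul_eq_nsmul ℚ, smul_smul,
        inv_mul_cancel₀ hp0, one_smul]
  have htr := hproj.trace
  have hperm : ∀ h : Equiv.Perm α, LinearMap.trace ℚ (α → ℚ) (permMap h) =
      ((Finset.univ.filter fun i => h i = i).card : ℚ) := fun h => by
    rw [LinearMap.trace_eq_matrix_trace ℚ (Pi.basisFun ℚ α), Matrix.trace,
      Finset.card_filter, Nat.cast_sum]
    refine Finset.sum_congr rfl fun i _ => ?_
    simp only [Matrix.diag_apply, LinearMap.toMatrix_apply, Pi.basisFun_apply, Pi.basisFun_repr,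
      permMap_apply, Pi.single_apply, Equiv.symm_apply_eq]
    by_cases hi : h i = i
    · rw [if_pos hi.symm, if_pos hi]; simp
    · rw [if_neg (Ne.symm hi), if_neg hi]; simp
  have hfix : ∀ k ∈ Finset.range p, k ≠ 0 → (Finset.univ.filter fun i => (g ^ k) i = i) =
      Finset.univ.filter fun i => g i = i := by
    intro k hk hk0
    ext i
    simp only [Finset.mem_filter, Finset.mem_univ, true_and]
    refine ⟨fun hi => ?_, fun hi => Equiv.Perm.pow_apply_eq_self_of_apply_eq_self hi k⟩
    have hcop : Nat.Coprime k p := (hp.coprime_iff_not_dvd.mpr fun hd =>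
      absurd (Nat.le_of_dvd (Nat.pos_of_ne_zero hk0) hd) (not_le.mpr (Finset.mem_range.mp hk))).symm
    obtain ⟨m, hm⟩ := Nat.exists_mul_mod_eq_one_of_coprime hcop hp.one_lt
    have hgm : (g ^ k) ^ m = g := by
      rw [← pow_mul, ← Nat.div_add_mod (k * m) p, pow_add, pow_mul, hg, one_pow, one_mul, hm.2, pow_one]
    rw [← hgm]
    exact Equiv.Perm.pow_apply_eq_self_of_apply_eq_self hi m
  set f := (Finset.univ.filter fun i => g i = i).card
  refine ⟨finrank ℚ (LinearMap.ker (1 - permMap g)), ?_, ?_⟩
  · have h := LinearMap.finrank_range_add_finrank_ker (1 - permMap g)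
    rw [finrank_pi] at h
    exact h
  · have hs : ∑ k ∈ Finset.range p, ((Finset.univ.filter fun i => (g ^ k) i = i).card : ℚ) =
        (Fintype.card α : ℚ) + ((p - 1 : ℕ) : ℚ) * f := by
      obtain ⟨m, hm⟩ := Nat.exists_eq_succ_of_ne_zero hp.ne_zero
      subst hm
      rw [Finset.sum_range_succ', Finset.sum_congr rfl fun k hk => by
        rw [hfix (k + 1) (by rw [Finset.mem_range] at hk ⊢; omega) (Nat.succ_ne_zero k)]]
      simp [f, add_comm]
    rw [hT, map_smul, map_sum, Finset.sum_congr rfl fun k _ => hperm (g ^ k), hs, smul_eq_mul,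
      inv_mul_eq_div, div_eq_iff hp0] at htr
    have : ((p * finrank ℚ (LinearMap.ker (1 - permMap g)) : ℕ) : ℚ) =
        ((Fintype.card α + (p - 1) * f : ℕ) : ℚ) := by
      push_cast
      rw [htr]; ring
    exact_mod_cast this

end CfsgLib.ScottBound
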