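import Mathlib
import Cfsg.Agent.Lib.OmegaList
import Cfsg.Agent.Lib.Lagrangian

/-!
The Levi subgroup and the interchange of the two standard Lagrangians in the plus-type orthogonal group.
-/

set_option autoImplicit false

namespace CfsgLib.OmegaPlus

open QuadraticMap CfsgLib.OmegaList CfsgLib.SpinorNorm Matrix
open CfsgLib.Lagrangian (Qp Qp_apply Qp_nondeg)
open scoped commutatorElement

variable {F : Type*} [Field F] [Fintype F] {m : ℕ}

/-- The matrix `diag(M, M⁻ᵀ)`. -/
noncomputable def T (M : Matrix (Fin m) (Fin m) F) : Matrix (Fin m ⊕ Fin m) (Fin m ⊕ Fin m) F :=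
  fromBlocks M 0 0 M⁻¹.transpose

omit [Fintype F] in
theorem T_mul (A B : Matrix (Fin m) (Fin m) F) : T (A * B) = T A * T B := by
  simp [T, fromBlocks_multiply, Matrix.mul_inv_rev]

omit [Fintype F] in
theorem T_one : T (1 : Matrix (Fin m) (Fin m) F) = 1 := by simp [T, fromBlocks_one]

omit [Fintype F] in
theorem Qp_dot (v : Fin m ⊕ Fin m → F) : Qp m F v = (v ∘ Sum.inl) ⬝ᵥ (v ∘ Sum.inr) := by
  simp [Qp_apply, Cfsg.quadFormPlus, dotProduct]

omit [Fintype F] in
theorem T_preserves {M : Matrix (Fin m) (Fin m) F} (h : M.det ≠ 0) (v : Fin m ⊕ Fin m → F) :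
    Qp m F (T M *ᵥ v) = Qp m F v := by
  rw [Qp_dot, Qp_dot, T, fromBlocks_mulVec]
  simp only [zero_mulVec, add_zero, zero_add, Sum.elim_comp_inl, Sum.elim_comp_inr]
  rw [dotProduct_mulVec, ← Matrix.vecMul_transpose, vecMul_vecMul, ← transpose_mul,
    Matrix.nonsing_inv_mul _ (Ne.isUnit h), transpose_one, vecMul_one]

omit [Fintype F] in
theorem exists_hom : ∃ ψ : GL (Fin m) F →* Cfsg.isometryGroup F ⇑(Qp m F),
    ∀ A, (ψ A).1.1 = T A.1 := by
  let u : GL (Fin m) F → Cfsg.isometryGroup F ⇑(Qp m F) := fun A =>
    ⟨⟨T A.1, T (A⁻¹).1, by rw [← T_mul, ← Units.val_mul, mul_inv_cancel, Units.val_one, T_one],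
      by rw [← T_mul, ← Units.val_mul, inv_mul_cancel, Units.val_one, T_one]⟩,
      fun v _ => T_preserves (Matrix.GeneralLinearGroup.det_ne_zero A) v⟩
  exact ⟨MonoidHom.mk' u fun A B => Subtype.ext (Units.ext (T_mul A.1 B.1)), fun A => rfl⟩

omit [Fintype F] in
theorem pol_inl (j : Fin m) (x : Fin m ⊕ Fin m → F) :
    polar (Qp m F) (Pi.single (Sum.inl j) 1) x = x (Sum.inr j) := by
  simp only [polar, Qp_apply, Cfsg.quadFormPlus]
  simp [Pi.single_apply, add_mul, Finset.sum_add_distrib]

omit [Fintype F] in
theorem pol_inr (j : Fin m) (x : Fin m ⊕ Fin m → F) :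
    polar (Qp m F) (Pi.single (Sum.inr j) 1) x = x (Sum.inl j) := by
  simp only [polar, Qp_apply, Cfsg.quadFormPlus]
  simp [Pi.single_apply, mul_add, Finset.sum_add_distrib]

/-- The vector `e_j + b f_j`. -/
def w (j : Fin m) (b : F) : Fin m ⊕ Fin m → F := Pi.single (Sum.inl j) 1 + b • Pi.single (Sum.inr j) 1

omit [Fintype F] in
theorem Qp_w (j : Fin m) (b : F) : Qp m F (w j b) = b := by
  simp [Qp_apply, Cfsg.quadFormPlus, w, Pi.single_apply]

omit [Fintype F] in
theorem refl_w (j : Fin m) {b : F} (hb : b ≠ 0) (x : Fin m ⊕ Fin m → F) :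
    Cfsg.reflectionMatrix (⇑(Qp m F)) (w j b) *ᵥ x =
      x + (-(b⁻¹ * (x (Sum.inr j) + b * x (Sum.inl j)))) • w j b := by
  rw [CfsgLib.PolarVec.reflection_mulVec, Qp_w]
  congr 3
  rw [w, polar_add_left, polar_smul_left, pol_inl, pol_inr, smul_eq_mul]

omit [Fintype F] in
theorem T_diag_eq (j : Fin m) {a : F} (ha : a ≠ 0) :
    T (Matrix.diagonal (Function.update (fun _ : Fin m => (1 : F)) j a)) =
      RP (Qp m F) [w j a⁻¹, w j 1] := by
  have hinv : (Matrix.diagonal (Function.update (fun _ : Fin m => (1 : F)) j a))⁻¹ =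
      Matrix.diagonal (Function.update (fun _ : Fin m => (1 : F)) j a⁻¹) := by
    refine Matrix.inv_eq_right_inv ?_
    rw [Matrix.diagonal_mul_diagonal, ← Matrix.diagonal_one]
    congr 1
    funext k
    by_cases hk : k = j
    · subst hk; simp [ha]
    · simp [hk]
  have e : RP (Qp m F) [w j a⁻¹, w j 1] = Cfsg.reflectionMatrix (⇑(Qp m F)) (w j a⁻¹) *
      Cfsg.reflectionMatrix (⇑(Qp m F)) (w j 1) := by simp [RP]
  rw [e]
  refine Matrix.ext_of_mulVec_single fun s => ?_
  rw [← Matrix.mulVec_mulVec, refl_w j one_ne_zero, refl_w j (inv_ne_zero ha), T, hinv, fromBlocks_mulVec,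
    Matrix.diagonal_transpose]
  funext t
  rcases s with k | k <;> rcases t with l | l <;>
    simp [Matrix.mulVec_diagonal, w, Function.update_apply, Pi.single_apply] <;>
    by_cases hk : k = j <;> by_cases hl : l = j <;>
    simp_all [eq_comm] <;> field_simp <;> ring

theorem isSquare_mul_iff' {a b : F} (ha : a ≠ 0) (hb : b ≠ 0) :
    IsSquare (a * b) ↔ (IsSquare a ↔ IsSquare b) := by
  classical
  by_cases h2 : (2 : F) = 0
  · haveI : CharP F 2 := CharTwo.of_one_ne_zero_of_two_eq_zero one_ne_zero h2
    have h : ∀ x : F, IsSquare x := fun x => FiniteField.isSquare_of_char_two (ringChar.eq F 2) x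
    simp [h]
  · exact CfsgLib.OmegaMem.isSquare_mul_iff h2 ha hb

/-- `M` is realised by a word of even length with the square class of its determinant. -/
def Good (M : Matrix (Fin m) (Fin m) F) : Prop :=
  ∃ vs : List (Fin m ⊕ Fin m → F), (∀ v ∈ vs, Qp m F v ≠ 0) ∧ RP (Qp m F) vs = T M ∧ Even vs.length ∧
    (IsSquare (QP (Qp m F) vs) ↔ IsSquare M.det)

theorem good_mul {A B : Matrix (Fin m) (Fin m) F} (hA : A.det ≠ 0) (hB : B.det ≠ 0)
    (ha : Good A) (hb : Good B) : Good (A * B) := by
  obtain ⟨u, hu, hu1, hu2, hu3⟩ := ha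
  obtain ⟨v, hv, hv1, hv2, hv3⟩ := hb
  refine ⟨u ++ v, ?_, ?_, ?_, ?_⟩
  · intro x hx
    rcases List.mem_append.mp hx with h | h
    · exact hu x h
    · exact hv x h
  · rw [RP_append, hu1, hv1, T_mul]
  · rw [List.length_append]; exact hu2.add hv2
  · rw [QP_append, Matrix.det_mul, isSquare_mul_iff' (QP_ne_zero _ hu) (QP_ne_zero _ hv),
      isSquare_mul_iff' hA hB, hu3, hv3]

theorem good_one : Good (1 : Matrix (Fin m) (Fin m) F) :=
  ⟨[], by simp, by simp [RP, T_one], by simp, by simp [QP]⟩

theorem good_all (hm : Fintype.card F ≠ 2 ∨ m ≠ 2) (hc : Subgroup.closure (Refl (Qp m F)) = ⊤)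
    (M : Matrix (Fin m) (Fin m) F) (hM : M.det ≠ 0) : Good M := by
  classical
  refine Matrix.diagonal_transvection_induction_of_det_ne_zero (Good) M hM ?_ ?_
    (fun A B hA hB ha hb => good_mul hA hB ha hb)
  · intro D hD
    rw [Matrix.det_diagonal] at hD
    have hD' : ∀ i, D i ≠ 0 := fun i => (Finset.prod_ne_zero_iff.mp hD) i (Finset.mem_univ i)
    have key : ∀ s : Finset (Fin m), Good (Matrix.diagonal (fun i => if i ∈ s then D i else 1)) := by
      intro s
      induction s using Finset.induction_on with
      | empty => simpa using good_one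
      | @insert j s hj ih =>
        have hs : (fun i => if i ∈ insert j s then D i else 1) =
            fun i => Function.update (fun _ : Fin m => (1 : F)) j (D j) i * (if i ∈ s then D i else 1) := by
          funext i
          by_cases hij : i = j
          · subst hij; simp [hj]
          · simp [hij]
        rw [hs, ← Matrix.diagonal_mul_diagonal]
        refine good_mul ?_ ?_ ?_ ih
        · rw [Matrix.det_diagonal, Finset.prod_ne_zero_iff]
          intro i _
          rw [Function.update_apply]; split_ifs
          · exact hD' j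
          · exact one_ne_zero
        · rw [Matrix.det_diagonal, Finset.prod_ne_zero_iff]
          intro i _
          split_ifs
          · exact hD' i
          · exact one_ne_zero
        · refine ⟨[w j (D j)⁻¹, w j 1], ?_, (T_diag_eq j (hD' j)).symm, ⟨1, rfl⟩, ?_⟩
          · intro v hv
            rcases List.mem_pair.mp hv with rfl | rfl <;> rw [Qp_w]
            · exact inv_ne_zero (hD' j)
            · exact one_ne_zero
          · rw [Matrix.det_diagonal, Finset.prod_update_of_mem (Finset.mem_univ j)]
            simp [QP, Qp_w]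
    simpa using key Finset.univ
  · intro t
    obtain ⟨i, k, hik, c⟩ := t
    obtain ⟨ψ, hψ⟩ := exists_hom (F := F) (m := m)
    obtain ⟨A, B, hAB⟩ : ∃ A B : GL (Fin m) F, A.1 * B.1 = Matrix.transvection i k c * (B.1 * A.1) := by
      by_cases hF : ∃ a : F, a ≠ 0 ∧ a ≠ 1
      · obtain ⟨a, ha0, ha1⟩ := hF
        refine ⟨Matrix.GeneralLinearGroup.mkOfDetNeZero
            (Matrix.diagonal (Function.update (fun _ : Fin m => (1 : F)) i a)) ?_,
          Matrix.GeneralLinearGroup.mkOfDetNeZero (Matrix.transvection i k (c / (a - 1))) ?_, ?_⟩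
        · rw [Matrix.det_diagonal, Finset.prod_ne_zero_iff]
          intro l _
          rw [Function.update_apply]; split_ifs
          · exact ha0
          · exact one_ne_zero
        · rw [Matrix.det_transvection_of_ne i k hik]; exact one_ne_zero
        · show Matrix.diagonal _ * Matrix.transvection i k _ =
            Matrix.transvection i k c * (Matrix.transvection i k (c / (a - 1)) * Matrix.diagonal _)
          rw [← mul_assoc, Matrix.transvection_mul_transvection_same i k hik]
          have := sub_ne_zero.mpr ha1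
          ext r s
          rw [Matrix.diagonal_mul, Matrix.mul_diagonal]
          simp only [Matrix.transvection, Matrix.add_apply, Matrix.one_apply, Matrix.single_apply, Function.update_apply]
          by_cases hr : r = i <;> by_cases hs : s = i <;> by_cases hs' : s = k <;>
            simp_all [eq_comm] <;> (try field_simp) <;> (try ring)
      · have hm2 : m ≠ 2 := by
          rcases hm with h | h
          · exfalso
            exact hF ((CfsgLib.SpinorMatrix.field_cond (P := False) (Or.inl h)).resolve_right id)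
          · exact h
        obtain ⟨l, hl1, hl2⟩ : ∃ l, l ≠ i ∧ l ≠ k := by
          by_contra hno
          push Not at hno
          have hsub : (Finset.univ : Finset (Fin m)) ⊆ {i, k} := fun l _ => by
            rcases eq_or_ne l i with rfl | hl
            · simp
            · simp [hno l hl]
          have := Finset.card_le_card hsub
          rw [Finset.card_univ, Fintype.card_fin, Finset.card_pair hik] at this
          have : i.val ≠ k.val := fun h => hik (Fin.ext h)
          omega
        refine ⟨Matrix.GeneralLinearGroup.mkOfDetNeZero (Matrix.transvection i l 1) (by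
            rw [Matrix.det_transvection_of_ne i l hl1.symm]; exact one_ne_zero),
          Matrix.GeneralLinearGroup.mkOfDetNeZero (Matrix.transvection l k c) (by
            rw [Matrix.det_transvection_of_ne l k hl2]; exact one_ne_zero), ?_⟩
        show Matrix.transvection i l 1 * Matrix.transvection l k c =
          Matrix.transvection i k c * (Matrix.transvection l k c * Matrix.transvection i l 1)
        simp [Matrix.transvection, add_mul, mul_add, Matrix.single_mul_single_of_ne, hik, hik.symm,
          hl1, hl1.symm, hl2, hl2.symm]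
        abel
    obtain ⟨τ, hτ⟩ : ∃ τ : GL (Fin m) F, τ.1 = Matrix.transvection i k c :=
      ⟨Matrix.GeneralLinearGroup.mkOfDetNeZero (Matrix.transvection i k c) (by
        rw [Matrix.det_transvection_of_ne i k hik]; exact one_ne_zero), rfl⟩
    have hcomm : τ = ⁅A, B⁆ := by
      have : A * B = τ * (B * A) := Units.ext (by rw [Units.val_mul, Units.val_mul, Units.val_mul, hτ]; exact hAB)
      rw [commutatorElement_def, this]; group
    have hmem : ψ τ ∈ Cfsg.Omega F ⇑(Qp m F) := by
      rw [hcomm, map_commutatorElement]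
      exact Subgroup.commutator_mem_commutator (Subgroup.mem_top _) (Subgroup.mem_top _)
    obtain ⟨vs, h1, h2, h3, h4⟩ := list_of_mem (Qp m F) hc Qp_nondeg (ψ τ) hmem
    refine ⟨vs, h1, ?_, h3, ?_⟩
    · rw [← h2, hψ, hτ]; rfl
    · rw [show (Matrix.TransvectionStruct.mk i k hik c).toMatrix.det = 1 from
        Matrix.det_transvection_of_ne i k hik c]
      exact iff_of_true h4 IsSquare.one

omit [Fintype F] in
/-- The interchange of the two standard Lagrangians as a word in reflections. -/
theorem sigma_word : RP (Qp m F) ((List.finRange m).map fun j => w j (-1)) =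
    (fromBlocks 0 1 1 0 : Matrix (Fin m ⊕ Fin m) (Fin m ⊕ Fin m) F) := by
  have key : ∀ l : List (Fin m), l.Nodup → ∀ x : Fin m ⊕ Fin m → F,
      RP (Qp m F) (l.map fun j => w j (-1)) *ᵥ x =
        Sum.elim (fun k => if k ∈ l then x (Sum.inr k) else x (Sum.inl k))
          (fun k => if k ∈ l then x (Sum.inl k) else x (Sum.inr k)) := by
    intro l
    induction l with
    | nil =>
      intro _ x
      funext s
      rcases s with s | s <;> simp [RP]
    | cons j t ih =>
      intro hl x
      rw [List.nodup_cons] at hl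
      have e : RP (Qp m F) ((j :: t).map fun j => w j (-1)) =
          Cfsg.reflectionMatrix (⇑(Qp m F)) (w j (-1)) * RP (Qp m F) (t.map fun j => w j (-1)) := by simp [RP]
      rw [e, ← Matrix.mulVec_mulVec, ih hl.2, refl_w j (neg_ne_zero.mpr one_ne_zero)]
      funext s
      rcases s with k | k <;> by_cases hk : k = j <;> by_cases hkt : k ∈ t <;>
        simp_all [w, Pi.single_apply] <;> ring
  refine Matrix.ext_of_mulVec_single fun s => ?_
  rw [key _ (List.nodup_finRange m), fromBlocks_mulVec]
  funext t
  rcases t with t | t <;> simp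

end CfsgLib.OmegaPlus
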