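import Cfsg.Agent.Lib.MaximalClass
import Cfsg.Agent.Lib.PolynomialSequence

/-! Power structure and sectional rank of `p`-groups of maximal class having an element whose
centralizer has order `p ^ 2`. The sign in the power formula is calibrated in `C_p ≀ C_p`. -/

set_option autoImplicit false

namespace CfsgLib.MaxClassRank

open scoped commutatorElement
open Subgroup
open CfsgLib.PolySeq (fil)

section Central

variable {K : Type*} [Group K]

/-- Elements central modulo a normal subgroup. -/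
def centralMod (N : Subgroup K) [N.Normal] : Subgroup K := (center (K ⧸ N)).comap (QuotientGroup.mk' N)

theorem mk_comm_iff {N : Subgroup K} [N.Normal] {g h : K} :
    QuotientGroup.mk' N g * QuotientGroup.mk' N h = QuotientGroup.mk' N h * QuotientGroup.mk' N g ↔ ⁅g, h⁆ ∈ N := by
  rw [← commutatorElement_eq_one_iff_mul_comm, ← map_commutatorElement]
  exact QuotientGroup.eq_one_iff _

theorem mem_centralMod {N : Subgroup K} [N.Normal] {g : K} : g ∈ centralMod N ↔ ∀ h, ⁅g, h⁆ ∈ N := by
  rw [centralMod, mem_comap, mem_center_iff]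
  constructor
  · exact fun h x => mk_comm_iff.mp (h _).symm
  · intro h q
    obtain ⟨x, rfl⟩ := QuotientGroup.mk'_surjective N q
    exact (mk_comm_iff.mpr (h x)).symm

theorem mem_centralMod_gens {X Y : K} (hgen : closure ({X, Y} : Set K) = ⊤) {N : Subgroup K} [N.Normal] {g : K}
    (hX : ⁅g, X⁆ ∈ N) (hY : ⁅g, Y⁆ ∈ N) : g ∈ centralMod N := by
  rw [mem_centralMod]
  intro h
  have hle : closure ({X, Y} : Set K) ≤
      (centralizer ({QuotientGroup.mk' N g} : Set (K ⧸ N))).comap (QuotientGroup.mk' N) := by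
    rw [closure_le]
    rintro x (rfl | rfl)
    · exact mem_centralizer_singleton_iff.mpr (mk_comm_iff.mpr hX).symm
    · exact mem_centralizer_singleton_iff.mpr (mk_comm_iff.mpr hY).symm
  exact mk_comm_iff.mp (mem_centralizer_singleton_iff.mp (hle (hgen.ge (mem_top h)))).symm

theorem normal_of_le_centralMod {M N : Subgroup K} [N.Normal] (h1 : N ≤ M) (h2 : M ≤ centralMod N) : M.Normal :=
  ⟨fun m hm g => by
    have h : ⁅g, m⁆ ∈ N := by
      rw [← commutatorElement_inv]
      exact inv_mem (mem_centralMod.mp (h2 hm) g)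
    rw [show g * m * g⁻¹ = ⁅g, m⁆ * m by rw [commutatorElement_def]; group]
    exact mul_mem (h1 h) hm⟩

theorem normal_of_gens [Finite K] {X Y : K} (hgen : closure ({X, Y} : Set K) = ⊤) {D : Subgroup K}
    (h : ∀ d ∈ D, ⁅d, X⁆ ∈ D ∧ ⁅d, Y⁆ ∈ D) : D.Normal := by
  have hg : ∀ z, (∀ d ∈ D, ⁅d, z⁆ ∈ D) → z ∈ normalizer (D : Set K) := fun z hz => by
    have hsub : ∀ d ∈ D, z * d * z⁻¹ ∈ D := fun d hd => by
      rw [show z * d * z⁻¹ = ⁅d, z⁆⁻¹ * d by rw [commutatorElement_def]; group]
      exact mul_mem (inv_mem (hz d hd)) hd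
    exact mem_normalizer_iff.mpr fun d => ⟨hsub d, fun hd => by
      have hmap : D.map (MulAut.conj z).toMonoidHom = D := by
        refine eq_of_le_of_card_ge ?_ (by rw [card_map_of_injective (MulAut.conj z).injective])
        rintro _ ⟨e, he, rfl⟩
        exact hsub e he
      obtain ⟨e, he, he'⟩ := hmap.ge hd
      have : e = d := (MulAut.conj z).injective he'
      exact this ▸ he⟩
  rw [← normalizer_eq_top_iff, eq_top_iff, ← hgen, closure_le]
  rintro z (rfl | rfl)
  · exact hg _ fun d hd => (h d hd).1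
  · exact hg _ fun d hd => (h d hd).2

theorem fil_succ {k : ℕ} (hk : 1 ≤ k) : fil K (k + 1) = ⁅fil K k, ⊤⁆ := by
  unfold CfsgLib.PolySeq.fil
  obtain ⟨j, rfl⟩ : ∃ j, k = j + 1 := ⟨k - 1, by omega⟩
  rfl

/-- The lower central series of a two-generated group, modulo a filtration in which the iterated
commutators are one step deeper. -/
theorem fil_le [Finite K] {X Y : K} (hgen : closure ({X, Y} : Set K) = ⊤) (E : ℕ → K) (D : ℕ → Subgroup K)
    (hE1 : E 1 = Y) (hE : ∀ k, 1 ≤ k → E (k + 1) = ⁅E k, X⁆) (hDle : ∀ k, 1 ≤ k → D (k + 1) ≤ D k)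
    (hED : ∀ k, 1 ≤ k → E (k + 1) ∈ D k) (hD : ∀ k, 1 ≤ k → ∀ d ∈ D k, ⁅d, X⁆ ∈ D (k + 1) ∧ ⁅d, Y⁆ ∈ D (k + 1))
    (hEY : ∀ k, 1 ≤ k → ⁅E k, Y⁆ ∈ D (k + 1)) :
    ∀ k, 2 ≤ k → fil K k ≤ zpowers (E k) ⊔ D k ∧ (zpowers (E k) ⊔ D k).Normal := by
  have hDn : ∀ k, 1 ≤ k → (D k).Normal := fun k hk =>
    normal_of_gens hgen fun d hd => ⟨hDle k hk (hD k hk d hd).1, hDle k hk (hD k hk d hd).2⟩
  have hZ : ∀ k, 1 ≤ k → ∀ d ∈ D k, ∀ h, ⁅d, h⁆ ∈ D (k + 1) := fun k hk d hd => by
    have := hDn (k + 1) (by omega)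
    exact mem_centralMod.mp (mem_centralMod_gens hgen (hD k hk d hd).1 (hD k hk d hd).2)
  have hRn : ∀ k, 1 ≤ k → (zpowers (E (k + 1)) ⊔ D (k + 1)).Normal := fun k hk => by
    have := hDn (k + 1) (by omega)
    refine normal_of_le_centralMod (N := D (k + 1)) le_sup_right (sup_le (zpowers_le.mpr ?_) fun d hd => ?_)
    · exact mem_centralMod.mpr (hZ k hk _ (hED k hk))
    · exact mem_centralMod.mpr (hZ k hk d (hDle k hk hd))
  intro k hk
  obtain ⟨k, rfl⟩ : ∃ j, k = j + 1 := ⟨k - 1, by omega⟩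
  refine ⟨?_, hRn k (by omega)⟩
  induction k, (show 1 ≤ k by omega) using Nat.le_induction with
  | base =>
    have := hRn 1 le_rfl
    rw [fil_succ le_rfl, commutator_le]
    intro g _ h _
    revert h
    suffices H : g ∈ centralMod (zpowers (E 2) ⊔ D 2) from fun h _ => mem_centralMod.mp H h
    have hE2 : E 2 ∈ zpowers (E 2) ⊔ D 2 := mem_sup_left (mem_zpowers _)
    have hYX : ⁅Y, X⁆ ∈ zpowers (E 2) ⊔ D 2 := by rwa [← hE1, ← hE 1 le_rfl]
    have hle : closure ({X, Y} : Set K) ≤ centralMod (zpowers (E 2) ⊔ D 2) := by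
      rw [closure_le]
      rintro x (rfl | rfl)
      · refine mem_centralMod_gens hgen (by rw [commutatorElement_self]; exact one_mem _) ?_
        rw [← commutatorElement_inv]
        exact inv_mem hYX
      · exact mem_centralMod_gens hgen hYX (by rw [commutatorElement_self]; exact one_mem _)
    exact hle (hgen.ge (mem_top g))
  | succ k hk' ih =>
    have := hRn (k + 1) (by omega)
    rw [fil_succ (show 1 ≤ k + 1 by omega), commutator_le]
    intro g hg h _
    refine mem_centralMod.mp ((?_ : _ ≤ centralMod _) (ih (by omega) hg)) h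
    refine sup_le (zpowers_le.mpr (mem_centralMod_gens hgen ?_ ?_)) fun d hd => mem_centralMod.mpr fun x => ?_
    · rw [← hE (k + 1) (by omega)]
      exact mem_sup_left (mem_zpowers _)
    · exact mem_sup_right (hEY (k + 1) (by omega))
    · exact mem_sup_right (hZ (k + 1) (by omega) d hd x)

end Central

section Model

variable (p : ℕ)

/-- The coefficients. -/
abbrev C : Type := Multiplicative (ZMod p)

/-- The difference operator on the base of `C_p ≀ C_p`. -/
def dl : (C p → C p) →* (C p → C p) where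
  toFun u := fun q => u q / u ((Multiplicative.ofAdd (1 : ZMod p))⁻¹ * q)
  map_one' := by ext q; simp
  map_mul' u v := by ext q; simp [mul_div_mul_comm]

/-- The base of `C_p ≀ C_p`. -/
def base : (C p → C p) →* RegularWreathProduct (C p) (C p) where
  toFun u := ⟨u, 1⟩
  map_one' := rfl
  map_mul' u v := by ext <;> simp

theorem base_injective : Function.Injective (base p) := fun _ _ h => congrArg RegularWreathProduct.left h

/-- The shift. -/
def sh : RegularWreathProduct (C p) (C p) := RegularWreathProduct.inl (Multiplicative.ofAdd (1 : ZMod p))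

/-- The base generator. -/
def e0 : C p → C p := Pi.mulSingle 1 (Multiplicative.ofAdd 1)

/-- The kernels of the iterated difference. -/
def ker' (k : ℕ) : Subgroup (RegularWreathProduct (C p) (C p)) :=
  Subgroup.map (base p)
    { carrier := {u | (dl p)^[p - k] u = 1}
      one_mem' := iterate_map_one (dl p) _
      mul_mem' := fun {u v} hu hv => by
        rw [Set.mem_ofPred_eq] at hu hv ⊢
        rw [iterate_map_mul, hu, hv, one_mul]
      inv_mem' := fun {u} hu => by
        rw [Set.mem_ofPred_eq] at hu ⊢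
        rw [iterate_map_inv, hu, inv_one] }

theorem comm_sh (u : C p → C p) : ⁅base p u, sh p⁆ = base p (dl p u) := by
  ext q <;> simp [commutatorElement_def, base, sh, dl, div_eq_mul_inv]

theorem comm_base (u v : C p → C p) : ⁅base p u, base p v⁆ = 1 := by
  rw [commutatorElement_eq_one_iff_mul_comm, ← map_mul, ← map_mul, mul_comm]

theorem mem_ker' {k : ℕ} {w : RegularWreathProduct (C p) (C p)} :
    w ∈ ker' p k ↔ ∃ u, (dl p)^[p - k] u = 1 ∧ base p u = w :=
  Iff.rfl

variable [hp : Fact p.Prime]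

theorem choose_pred_cast : ∀ j : ℕ, j < p → (((p - 1).choose j : ℕ) : ZMod p) = (-1) ^ j
  | 0, _ => by simp
  | j + 1, hj => by
    have h1 := choose_pred_cast j (by omega)
    have h2 : ((p.choose (j + 1) : ℕ) : ZMod p) = 0 :=
      (ZMod.natCast_eq_zero_iff _ _).mpr (hp.out.dvd_choose_self (by omega) hj)
    have h3 : p.choose (j + 1) = (p - 1).choose j + (p - 1).choose (j + 1) := by
      conv_lhs => rw [show p = p - 1 + 1 by have := hp.out.pos; omega, Nat.choose_succ_succ]
    rw [h3, Nat.cast_add, h1] at h2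
    rw [pow_succ]
    linear_combination h2

theorem iterate_e0 : ∀ k, k < p → ∀ j, j < p →
    (((dl p)^[k] (e0 p)) (Multiplicative.ofAdd (j : ZMod p))).toAdd = (-1) ^ j * (k.choose j : ZMod p)
  | 0, _, 0, _ => by simp [e0]
  | 0, _, j + 1, hj => by
    have h : Multiplicative.ofAdd ((j + 1 : ℕ) : ZMod p) ≠ (1 : C p) := fun e => by
      have e' : ((j + 1 : ℕ) : ZMod p) = 0 := congrArg Multiplicative.toAdd e
      rw [ZMod.natCast_eq_zero_iff] at e'
      exact absurd (Nat.le_of_dvd (by omega) e') (by omega)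
    simp [e0, Pi.mulSingle_eq_of_ne h, -Nat.cast_add, -Nat.cast_ofNat, Nat.choose_zero_succ]
  | k + 1, hk, 0, _ => by
    rw [Function.iterate_succ_apply']
    show (_ / _ : C p).toAdd = _
    have h : (Multiplicative.ofAdd (1 : ZMod p))⁻¹ * Multiplicative.ofAdd ((0 : ℕ) : ZMod p) =
        Multiplicative.ofAdd ((p - 1 : ℕ) : ZMod p) := by
      apply Multiplicative.toAdd.injective
      simp [Nat.cast_sub hp.out.one_le]
    rw [toAdd_div, h, iterate_e0 k (by omega) 0 hp.out.pos, iterate_e0 k (by omega) (p - 1) (by have := hp.out.pos; omega),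
      Nat.choose_eq_zero_of_lt (show k < p - 1 by omega)]
    simp
  | k + 1, hk, j + 1, hj => by
    rw [Function.iterate_succ_apply']
    show (_ / _ : C p).toAdd = _
    have h : (Multiplicative.ofAdd (1 : ZMod p))⁻¹ * Multiplicative.ofAdd ((j + 1 : ℕ) : ZMod p) =
        Multiplicative.ofAdd (j : ZMod p) := by
      apply Multiplicative.toAdd.injective
      simp
    rw [toAdd_div, h, iterate_e0 k (by omega) (j + 1) hj, iterate_e0 k (by omega) j (by omega),
      Nat.choose_succ_succ, Nat.cast_add, pow_succ]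
    ring

theorem iterate_top : (dl p)^[p - 1] (e0 p) = fun _ => Multiplicative.ofAdd (1 : ZMod p) := by
  funext q
  apply Multiplicative.toAdd.injective
  have h := iterate_e0 p (p - 1) (by have := hp.out.pos; omega) q.toAdd.val (ZMod.val_lt _)
  rw [ZMod.natCast_zmod_val, ofAdd_toAdd, choose_pred_cast p _ (ZMod.val_lt _)] at h
  rw [h, ← mul_pow]
  simp

theorem iterate_zero {m : ℕ} (hm : p ≤ m) : (dl p)^[m] (e0 p) = 1 := by
  obtain ⟨d, rfl⟩ : ∃ d, m = d + (1 + (p - 1)) := ⟨m - p, by have := hp.out.pos; omega⟩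
  rw [Function.iterate_add_apply, Function.iterate_add_apply, iterate_top, Function.iterate_one]
  have : dl p (fun _ => Multiplicative.ofAdd (1 : ZMod p)) = 1 := by funext q; simp [dl]
  rw [this, iterate_map_one]

theorem sh_pow_p : sh p ^ p = 1 := by
  rw [sh, ← map_pow, ← ofAdd_nsmul, nsmul_one, ZMod.natCast_self, ofAdd_zero, map_one]

theorem base_pow_p (u : C p → C p) : base p u ^ p = 1 := by
  rw [← map_pow]
  have : u ^ p = 1 := by
    funext q
    apply Multiplicative.toAdd.injective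
    rw [Pi.pow_apply, toAdd_pow, nsmul_eq_mul, ZMod.natCast_self, zero_mul]
    rfl
  rw [this, map_one]

theorem mul_pow_eq (j : ℕ) : (sh p * base p (e0 p)) ^ j =
    ⟨∏ i ∈ Finset.range j, Pi.mulSingle (Multiplicative.ofAdd ((i + 1 : ℕ) : ZMod p)) (Multiplicative.ofAdd (1 : ZMod p)),
      Multiplicative.ofAdd (j : ZMod p)⟩ := by
  induction j with
  | zero =>
    rw [pow_zero]
    ext q <;> simp
  | succ j ih =>
    rw [pow_succ, ih]
    refine RegularWreathProduct.ext ?_ ?_
    · funext q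
      rw [Finset.prod_range_succ]
      simp only [RegularWreathProduct.mul_left, sh, base, RegularWreathProduct.left_inl, RegularWreathProduct.right_inl,
        MonoidHom.coe_mk, OneHom.coe_mk, Pi.mul_apply, Pi.one_apply, one_mul, e0, Pi.mulSingle_apply, inv_mul_eq_one,
        inv_mul_eq_iff_eq_mul, mul_one, ← ofAdd_add, Nat.cast_add, Nat.cast_one]
    · simp [sh, base, ofAdd_add]

theorem mul_pow_top : (sh p * base p (e0 p)) ^ p = base p ((dl p)^[p - 1] (e0 p)) := by
  rw [mul_pow_eq, iterate_top]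
  refine RegularWreathProduct.ext ?_ (by simp [base])
  funext q
  show (∏ i ∈ Finset.range p, (Pi.mulSingle (Multiplicative.ofAdd ((i + 1 : ℕ) : ZMod p)) (Multiplicative.ofAdd (1 : ZMod p)) : C p → C p)) q = Multiplicative.ofAdd (1 : ZMod p)
  rw [Finset.prod_apply]
  have hv : q = Multiplicative.ofAdd (((q.toAdd - 1).val + 1 : ℕ) : ZMod p) := by
    rw [Nat.cast_add, ZMod.natCast_zmod_val, Nat.cast_one, sub_add_cancel, ofAdd_toAdd]
  rw [Finset.prod_eq_single (q.toAdd - 1).val]
  · conv_lhs => rw [hv, toAdd_ofAdd, Nat.cast_add, ZMod.natCast_zmod_val, Nat.cast_one, sub_add_cancel]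
    simp
  · intro i hi hne
    rw [Pi.mulSingle_eq_of_ne]
    intro e
    refine hne ?_
    have e' : q.toAdd = ((i + 1 : ℕ) : ZMod p) := congrArg Multiplicative.toAdd e
    rw [e', Nat.cast_add, Nat.cast_one, add_sub_cancel_right, ZMod.val_natCast,
      Nat.mod_eq_of_lt (Finset.mem_range.mp hi)]
  · exact fun h => absurd (Finset.mem_range.mpr (ZMod.val_lt _)) h

end Model

section Structure

variable {S : Type*} [Group S] [Finite S] {p : ℕ} [hp : Fact p.Prime] {n : ℕ} (hn : 3 ≤ n)
  (hG : Nat.card S = p ^ n) (hc : Group.nilpotencyClass S = n - 1) {x : S}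
  (hx : Nat.card (centralizer ({x} : Set S)) = p ^ 2)

include hn hG hc

theorem card_fil {j : ℕ} (h2 : 2 ≤ j) (hj : j ≤ n) : Nat.card (fil S j) = p ^ (n - j) := by
  have h := CfsgLib.MaximalClass.index_lcs hn hG hc (j - 1) (by omega) (by omega)
  have h1 := (fil S j).card_mul_index
  rw [show (fil S j).index = p ^ (j - 1 + 1) from h, hG, show j - 1 + 1 = j by omega,
    show p ^ n = p ^ (n - j) * p ^ j by rw [← pow_add, Nat.sub_add_cancel hj]] at h1
  exact Nat.eq_of_mul_eq_mul_right (pow_pos hp.out.pos j) h1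

theorem fil_eq_bot {j : ℕ} (hj : n ≤ j) : fil S j = ⊥ := by
  have h : fil S n = ⊥ := card_eq_one.mp (by rw [card_fil hn hG hc (by omega) le_rfl, Nat.sub_self, pow_zero])
  exact eq_bot_iff.mpr ((CfsgLib.PolySeq.fil_antitone hj).trans h.le)

theorem pow_mem_fil_succ {j : ℕ} (h2 : 2 ≤ j) {w : S} (hw : w ∈ fil S j) : w ^ p ∈ fil S (j + 1) := by
  rcases le_or_gt n j with hj | hj
  · rw [fil_eq_bot hn hG hc hj, mem_bot] at hw
    rw [hw, one_pow]
    exact one_mem _
  have hle : fil S (j + 1) ≤ fil S j := CfsgLib.PolySeq.fil_antitone (Nat.le_succ j)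
  have hidx : ((fil S (j + 1)).subgroupOf (fil S j)).index = p := by
    have h := ((fil S (j + 1)).subgroupOf (fil S j)).card_mul_index
    rw [Nat.card_congr (subgroupOfEquivOfLe hle).toEquiv, card_fil hn hG hc h2 hj.le,
      card_fil hn hG hc (by omega) hj, show n - j = n - (j + 1) + 1 by omega, pow_succ] at h
    exact Nat.eq_of_mul_eq_mul_left (pow_pos hp.out.pos _) h
  have h := Subgroup.pow_index_mem ((fil S (j + 1)).subgroupOf (fil S j)) ⟨w, hw⟩
  rw [hidx] at h
  exact mem_subgroupOf.mp h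

theorem fil_layer {j : ℕ} (h2 : 2 ≤ j) {z : S} (hz : z ∈ fil S j) (hz' : z ∉ fil S (j + 1)) :
    zpowers z ⊔ fil S (j + 1) = fil S j := by
  have hj : j < n := by
    by_contra h
    rw [fil_eq_bot hn hG hc (not_lt.mp h), mem_bot] at hz
    exact hz' (hz ▸ one_mem _)
  have hle : zpowers z ⊔ fil S (j + 1) ≤ fil S j :=
    sup_le (zpowers_le.mpr hz) (CfsgLib.PolySeq.fil_antitone (Nat.le_succ j))
  refine eq_of_le_of_card_ge hle ?_
  obtain ⟨k, -, hk⟩ := (Nat.dvd_prime_pow hp.out).mp (hG ▸ card_subgroup_dvd_card (zpowers z ⊔ fil S (j + 1)))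
  have hlt : Nat.card (fil S (j + 1)) < Nat.card ↥(zpowers z ⊔ fil S (j + 1)) :=
    lt_of_le_of_ne (card_le_of_le le_sup_right) fun e =>
      hz' ((eq_of_le_of_card_ge le_sup_right e.ge).ge (mem_sup_left (mem_zpowers z)))
  rw [hk, card_fil hn hG hc (by omega) hj, Nat.pow_lt_pow_iff_right hp.out.one_lt] at hlt
  rw [hk, card_fil hn hG hc h2 hj.le]
  exact Nat.pow_le_pow_right hp.out.pos (by omega)

omit hn hG hc in
theorem comm_eq_iff {g h : S} : ⁅g, x⁆ = ⁅h, x⁆ ↔ g⁻¹ * h ∈ centralizer ({x} : Set S) := by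
  rw [mem_centralizer_singleton_iff, commutatorElement_def, commutatorElement_def]
  constructor
  · intro e
    have e' : g * x * g⁻¹ = h * x * h⁻¹ := mul_right_cancel e
    calc g⁻¹ * h * x = g⁻¹ * (h * x * h⁻¹) * h := by group
      _ = g⁻¹ * (g * x * g⁻¹) * h := by rw [e']
      _ = x * (g⁻¹ * h) := by group
  · intro e
    congr 1
    calc g * x * g⁻¹ = g * (x * (g⁻¹ * h)) * h⁻¹ := by group
      _ = g * (g⁻¹ * h * x) * h⁻¹ := by rw [e]
      _ = h * x * h⁻¹ := by group

omit hn hG hc in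
theorem card_le_of_comm {H N : Subgroup S} (h : ∀ g ∈ H, ⁅g, x⁆ ∈ N) :
    Nat.card H ≤ Nat.card N * Nat.card ↥(H ⊓ centralizer ({x} : Set S)) := by
  have e : Nat.card ↥(H ⊓ centralizer ({x} : Set S)) = Nat.card ((centralizer ({x} : Set S)).subgroupOf H) := by
    rw [← inf_subgroupOf_left, Nat.card_congr (subgroupOfEquivOfLe inf_le_left).toEquiv]
  rw [e, card_eq_card_quotient_mul_card_subgroup ((centralizer ({x} : Set S)).subgroupOf H)]
  refine Nat.mul_le_mul_right _ (Nat.card_le_card_of_injective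
    (fun q => (⟨⁅((q.out : H) : S), x⁆, h _ q.out.2⟩ : N)) fun q r e => ?_)
  rw [← QuotientGroup.out_eq' q, ← QuotientGroup.out_eq' r]
  exact QuotientGroup.eq.mpr (mem_subgroupOf.mpr (comm_eq_iff.mp (congrArg Subtype.val e)))

include hx

theorem comm_surj {w : S} (hw : w ∈ fil S 2) : ∃ g : S, ⁅g, x⁆ = w := by
  let φ : S ⧸ centralizer ({x} : Set S) → fil S 2 := fun q =>
    ⟨⁅(q.out : S), x⁆, by
      show _ ∈ (⊤ : Subgroup S).lowerCentralSeries 1
      rw [Subgroup.top_lowerCentralSeries_one]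
      exact commutator_mem_commutator (mem_top _) (mem_top _)⟩
  have hinj : Function.Injective φ := fun q r e => by
    rw [← QuotientGroup.out_eq' q, ← QuotientGroup.out_eq' r]
    exact QuotientGroup.eq.mpr (comm_eq_iff.mp (congrArg Subtype.val e))
  have hcard : Nat.card (S ⧸ centralizer ({x} : Set S)) = Nat.card (fil S 2) := by
    rw [card_fil hn hG hc le_rfl (by omega)]
    have h := card_eq_card_quotient_mul_card_subgroup (centralizer ({x} : Set S))
    rw [hG, hx, show p ^ n = p ^ (n - 2) * p ^ 2 by rw [← pow_add, Nat.sub_add_cancel (by omega)]] at h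
    exact (Nat.eq_of_mul_eq_mul_right (pow_pos hp.out.pos 2) h).symm
  obtain ⟨q, hq⟩ := ((Nat.bijective_iff_injective_and_card φ).mpr ⟨hinj, hcard⟩).2 ⟨w, hw⟩
  exact ⟨q.out, congrArg Subtype.val hq⟩

theorem not_mem_fil_two : x ∉ fil S 2 := by
  intro hx2
  obtain ⟨g, hg⟩ := comm_surj hn hG hc hx (inv_mem hx2)
  have h1 : g * x * g⁻¹ = 1 := by
    rw [commutatorElement_def] at hg
    calc g * x * g⁻¹ = g * x * g⁻¹ * x⁻¹ * x := by group
      _ = 1 := by rw [hg, inv_mul_cancel]
  obtain rfl : x = 1 := conj_eq_one_iff.mp h1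
  have h : centralizer ({(1 : S)} : Set S) = ⊤ := eq_top_iff.mpr fun g _ => mem_centralizer_singleton_iff.mpr (by simp)
  rw [h, card_top, hG] at hx
  have := Nat.pow_right_injective hp.out.two_le hx
  omega

theorem card_inf_le : Nat.card ↥(fil S 2 ⊓ centralizer ({x} : Set S)) ≤ p := by
  obtain ⟨k, hk, hk'⟩ := (Nat.dvd_prime_pow hp.out).mp
    (hx ▸ card_dvd_of_le (inf_le_right : fil S 2 ⊓ centralizer ({x} : Set S) ≤ _))
  have hk2 : k ≠ 2 := by
    rintro rfl
    refine not_mem_fil_two hn hG hc hx ?_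
    have h := eq_of_le_of_card_ge (inf_le_right : fil S 2 ⊓ centralizer ({x} : Set S) ≤ _) (by rw [hk', hx])
    exact (h.ge (mem_centralizer_singleton_iff.mpr rfl)).1
  rw [hk']
  exact (Nat.pow_le_pow_right hp.out.pos (show k ≤ 1 by omega)).trans (pow_one p).le

/-- Commutation with `x` moves exactly one layer down. -/
theorem comm_layer {j : ℕ} (h2 : 2 ≤ j) (hj : j + 2 ≤ n) {z : S} (hz : z ∈ fil S j) (hz' : z ∉ fil S (j + 1)) :
    ⁅z, x⁆ ∉ fil S (j + 2) := by
  intro hcm
  set N := fil S (j + 2) with hN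
  let M : Subgroup S := (centralizer ({QuotientGroup.mk' N x} : Set (S ⧸ N))).comap (QuotientGroup.mk' N)
  have hM : ∀ g, g ∈ M ↔ ⁅g, x⁆ ∈ N := fun g => by
    rw [mem_comap, mem_centralizer_singleton_iff, mk_comm_iff]
  have hle : fil S j ≤ M := by
    rw [← fil_layer hn hG hc h2 hz hz', sup_le_iff, zpowers_le, hM]
    refine ⟨hcm, fun w hw => (hM w).mpr ?_⟩
    exact CfsgLib.PolySeq.fil_commutator_mem (i := j + 1) (j := 1) hw (mem_top _)
  have h := (card_le_of_comm (x := x) fun g hg => (hM g).mp (hle hg)).trans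
    (Nat.mul_le_mul_left _ ((card_le_of_le (inf_le_inf_right _ (CfsgLib.PolySeq.fil_antitone h2))).trans
      (card_inf_le hn hG hc hx)))
  rw [card_fil hn hG hc h2 (by omega), hN, card_fil hn hG hc (by omega) (by omega), ← pow_succ,
    Nat.pow_le_pow_iff_right hp.out.one_lt] at h
  omega

theorem conj_pow_eq {z : S} (hz : z ∈ fil S 2) : (x * z) ^ p = x ^ p := by
  obtain ⟨g, hg⟩ := comm_surj hn hG hc hx (((CfsgLib.PolySeq.fil_normal 2).conj_mem z hz x : _))
  have h : x * z = g * x * g⁻¹ := by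
    rw [commutatorElement_def] at hg
    calc x * z = x * z * x⁻¹ * x := by group
      _ = g * x * g⁻¹ := by rw [← hg]; group
  have hm : x ^ p ∈ fil S 2 ⊓ centralizer ({x} : Set S) := by
    refine ⟨?_, mem_centralizer_singleton_iff.mpr (Commute.pow_self x p).eq⟩
    show _ ∈ (⊤ : Subgroup S).lowerCentralSeries 1
    rw [Subgroup.top_lowerCentralSeries_one]
    exact CfsgLib.MaximalClass.pow_mem_commutator hn hG hc x
  have hle : fil S (n - 1) ≤ fil S 2 ⊓ centralizer ({x} : Set S) := fun w hw => by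
    refine ⟨CfsgLib.PolySeq.fil_antitone (by omega) hw, mem_centralizer_singleton_iff.mpr ?_⟩
    have h := CfsgLib.PolySeq.fil_commutator_mem hw (show x ∈ fil S 1 from mem_top _)
    rw [fil_eq_bot hn hG hc (by omega), mem_bot] at h
    exact commutatorElement_eq_one_iff_mul_comm.mp h
  have heq := eq_of_le_of_card_ge hle (by
    rw [card_fil hn hG hc (by omega) (by omega), show n - (n - 1) = 1 by omega, pow_one]
    exact card_inf_le hn hG hc hx)
  have hc' := CfsgLib.PolySeq.fil_commutator_mem (show g ∈ fil S 1 from mem_top _) (heq.ge hm)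
  rw [fil_eq_bot hn hG hc (by omega), mem_bot] at hc'
  rw [h, conj_pow, commutatorElement_eq_one_iff_mul_comm.mp hc', mul_inv_cancel_right]

omit [Finite S] hp hn hG hc hx in
/-- The iterated commutators of `z` with `x`. -/
theorem iterate_mem {i : ℕ} {z : S} (hz : z ∈ fil S i) :
    ∀ k, (fun g => ⁅g, x⁆)^[k] z ∈ fil S (i + k)
  | 0 => hz
  | k + 1 => by
    rw [Function.iterate_succ_apply']
    exact CfsgLib.PolySeq.fil_commutator_mem (i := i + k) (j := 1) (iterate_mem hz k) (mem_top _)

theorem iterate_not_mem {i : ℕ} (h2 : 2 ≤ i) {z : S} (hz : z ∈ fil S i) (hz' : z ∉ fil S (i + 1)) :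
    ∀ k, i + k + 1 ≤ n → (fun g => ⁅g, x⁆)^[k] z ∉ fil S (i + k + 1)
  | 0, _ => hz'
  | k + 1, hk => by
    rw [Function.iterate_succ_apply']
    exact comm_layer hn hG hc hx (j := i + k) (by omega) (by omega) (iterate_mem hz k)
      (iterate_not_mem h2 hz hz' k (by omega))

/-- The `p`-th power map shifts the series by exactly `p - 1`. -/
theorem pow_layer : ∀ d i, n ≤ i + d → 2 ≤ i → ∀ z ∈ fil S i, z ^ p ∈ fil S (i + (p - 1)) ∧
    (i + p ≤ n → z ∉ fil S (i + 1) → z ^ p ∉ fil S (i + p)) := by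
  intro d
  induction d with
  | zero =>
    intro i hi h2 z hz
    rw [fil_eq_bot hn hG hc (by omega), mem_bot] at hz
    exact ⟨by rw [hz, one_pow]; exact one_mem _, fun h => by have := hp.out.pos; omega⟩
  | succ d ih =>
    intro i hi h2 z hz
    have hp2 := hp.out.two_le
    have : Finite (RegularWreathProduct (C p) (C p)) :=
      Finite.of_injective (fun w => (w.left, w.right)) fun a b e =>
        RegularWreathProduct.ext (congrArg Prod.fst e) (congrArg Prod.snd e)
    set K : Subgroup (S × RegularWreathProduct (C p) (C p)) := closure {(x, sh p), (z, base p (e0 p))} with hK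
    set X : K := ⟨(x, sh p), subset_closure (by simp)⟩ with hX
    set Y : K := ⟨(z, base p (e0 p)), subset_closure (by simp)⟩ with hY
    have hgen : closure ({X, Y} : Set K) = ⊤ := by
      refine map_injective K.subtype_injective ?_
      rw [MonoidHom.map_closure, Set.image_pair, ← MonoidHom.range_eq_map, range_subtype]
      exact hK.symm
    let E : ℕ → K := fun k => (fun g => ⁅g, X⁆)^[k - 1] Y
    let D : ℕ → Subgroup K := fun k => ((fil S (i + k)).prod (ker' p k)).comap K.subtype
    have hEc : ∀ k, ((E k : K) : S × RegularWreathProduct (C p) (C p)) =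
        ((fun g => ⁅g, x⁆)^[k - 1] z, base p ((dl p)^[k - 1] (e0 p))) := by
      intro k
      show (((fun g => ⁅g, X⁆)^[k - 1] Y : K) : S × RegularWreathProduct (C p) (C p)) = _
      generalize k - 1 = m
      induction m with
      | zero => rfl
      | succ m ihm =>
        rw [Function.iterate_succ_apply', Function.iterate_succ_apply', Function.iterate_succ_apply', ← comm_sh]
        calc _ = ⁅(((fun g => ⁅g, X⁆)^[m] Y : K) : S × RegularWreathProduct (C p) (C p)), (x, sh p)⁆ := rfl
          _ = _ := by rw [ihm]; rfl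
    have hkm : ∀ k u, base p u ∈ ker' p k ↔ (dl p)^[p - k] u = 1 := fun k u =>
      mem_map_iff_mem (base_injective p)
    have hDle : ∀ k, 1 ≤ k → D (k + 1) ≤ D k := by
      intro k _ a ha
      obtain ⟨h1, h1'⟩ := ha
      obtain ⟨u, hu, hu'⟩ := (mem_ker' p).mp h1'
      refine ⟨CfsgLib.PolySeq.fil_antitone (by omega) h1, ?_⟩
      rw [← hu']
      refine (hkm k u).mpr ?_
      rcases lt_or_ge k p with hkp | hkp
      · rw [show p - k = p - (k + 1) + 1 by omega, Function.iterate_succ_apply']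
        exact (congrArg (dl p) hu).trans (map_one _)
      · rwa [show p - k = p - (k + 1) by omega]
    have hED : ∀ k, 1 ≤ k → E (k + 1) ∈ D k := fun k hk => by
      show _ ∈ (fil S (i + k)).prod (ker' p k)
      rw [coe_subtype, hEc, show k + 1 - 1 = k by omega]
      refine ⟨iterate_mem hz k, (hkm k _).mpr ?_⟩
      rw [← Function.iterate_add_apply]
      exact iterate_zero p (by omega)
    have hD : ∀ k, 1 ≤ k → ∀ a ∈ D k, ⁅a, X⁆ ∈ D (k + 1) ∧ ⁅a, Y⁆ ∈ D (k + 1) := by
      intro k hk a ha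
      obtain ⟨h1, h1'⟩ := ha
      obtain ⟨u, hu, hu'⟩ := (mem_ker' p).mp h1'
      refine ⟨⟨CfsgLib.PolySeq.fil_commutator_mem (i := i + k) (j := 1) h1 (mem_top _), ?_⟩,
        CfsgLib.PolySeq.fil_antitone (by omega) (CfsgLib.PolySeq.fil_commutator_mem h1 hz), ?_⟩
      · show ⁅(a.1).2, sh p⁆ ∈ _
        rw [show (a.1).2 = base p u from hu'.symm, comm_sh]
        refine (hkm _ _).mpr ?_
        rcases lt_or_ge k p with hkp | hkp
        · rw [← Function.iterate_succ_apply, show (p - (k + 1)).succ = p - k by omega]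
          exact hu
        · have hu1 : u = 1 := by rw [show p - k = 0 by omega] at hu; exact hu
          rw [hu1, map_one, iterate_map_one]
      · show ⁅(a.1).2, base p (e0 p)⁆ ∈ _
        rw [show (a.1).2 = base p u from hu'.symm, comm_base]
        exact one_mem _
    have hEY : ∀ k, 1 ≤ k → ⁅E k, Y⁆ ∈ D (k + 1) := fun k hk => by
      show ⁅(E k : S × RegularWreathProduct (C p) (C p)), (Y : S × RegularWreathProduct (C p) (C p))⁆ ∈
        (fil S (i + (k + 1))).prod (ker' p (k + 1))
      rw [hEc]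
      refine ⟨CfsgLib.PolySeq.fil_antitone (by omega)
        (CfsgLib.PolySeq.fil_commutator_mem (iterate_mem hz (k - 1)) hz), ?_⟩
      show ⁅base p _, base p (e0 p)⁆ ∈ _
      rw [comm_base]
      exact one_mem _
    have hR := fil_le hgen E D rfl (fun k hk => by
      show (fun g => ⁅g, X⁆)^[k + 1 - 1] Y = ⁅(fun g => ⁅g, X⁆)^[k - 1] Y, X⁆
      rw [show k + 1 - 1 = k - 1 + 1 by omega, Function.iterate_succ_apply']) hDle hED hD hEY
    have hcomm : commutator K ≤ D 1 := by
      refine le_trans ?_ (((hR 2 le_rfl).1).trans (sup_le (zpowers_le.mpr (hED 1 le_rfl)) (hDle 1 le_rfl)))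
      exact (Subgroup.top_lowerCentralSeries_one (G := K)).ge
    have hpow : ∀ a ∈ commutator K, a ^ p ∈ D p := fun a ha => by
      obtain ⟨h1, h1'⟩ := hcomm ha
      obtain ⟨u, -, hu'⟩ := (mem_ker' p).mp h1'
      refine ⟨?_, ?_⟩
      · show (a.1).1 ^ p ∈ _
        have := (ih (i + 1) (by omega) (by omega) _ h1).1
        rwa [show i + 1 + (p - 1) = i + p by omega] at this
      · show (a.1).2 ^ p ∈ _
        rw [show (a.1).2 = base p u from hu'.symm, base_pow_p]
        exact one_mem _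
    have : (fil K p).Normal := CfsgLib.PolySeq.fil_normal p
    set q := QuotientGroup.mk' (fil K p) with hq
    have hcl : (⊤ : Subgroup (K ⧸ fil K p)).lowerCentralSeries (p - 1) = ⊥ := by
      rw [← map_top_of_surjective q (QuotientGroup.mk'_surjective _), ← Subgroup.map_lowerCentralSeries, eq_bot_iff]
      rintro _ ⟨a, ha, rfl⟩
      exact mem_bot.mpr ((QuotientGroup.eq_one_iff a).mpr ha)
    obtain ⟨c, hc1, hc2⟩ := CfsgLib.PolySeq.mul_pow_prime hcl (q X) (q Y)
    have hcD : c ∈ (D p).map q := by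
      refine ((closure_le _).mpr ?_) hc1
      rintro _ ⟨w, hw, rfl⟩
      rw [_root_.commutator_def, ← map_top_of_surjective q (QuotientGroup.mk'_surjective _), ← map_commutator] at hw
      obtain ⟨a, ha, rfl⟩ := hw
      exact ⟨a ^ p, hpow a ha, map_pow _ _ _⟩
    obtain ⟨dd, hdd, rfl⟩ := hcD
    rw [← map_mul, ← map_pow, ← map_pow, ← map_pow, ← map_mul, ← map_mul] at hc2
    have hT : (X ^ p * Y ^ p)⁻¹ * (X * Y) ^ p ∈ zpowers (E p) ⊔ D p := by
      have h := (hR p hp2).1 (QuotientGroup.eq.mp hc2.symm)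
      rw [show (X ^ p * Y ^ p * dd)⁻¹ * (X * Y) ^ p = dd⁻¹ * ((X ^ p * Y ^ p)⁻¹ * (X * Y) ^ p) by group] at h
      simpa using mul_mem (mem_sup_right hdd : dd ∈ zpowers (E p) ⊔ D p) h
    have hDn : (D p).Normal :=
      normal_of_gens hgen fun a ha => ⟨hDle p (by omega) (hD p (by omega) a ha).1, hDle p (by omega) (hD p (by omega) a ha).2⟩
    obtain ⟨_, ha', dd', hdd', heq⟩ := mem_sup_of_normal_right.mp hT
    obtain ⟨a, rfl⟩ := mem_zpowers_iff.mp ha'
    have heq' := congrArg Subtype.val heq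
    simp only [Subgroup.coe_mul, Subgroup.coe_inv, SubmonoidClass.coe_pow, SubgroupClass.coe_zpow, hEc, hX, hY,
      Prod.mk_mul_mk, Prod.pow_mk] at heq'
    obtain ⟨hd1, hd1'⟩ := hdd'
    obtain ⟨u, hu, hu'⟩ := (mem_ker' p).mp hd1'
    have hu1 : u = 1 := by rw [Nat.sub_self] at hu; exact hu
    have hd2 : (dd'.1).2 = 1 := by rw [show (dd'.1).2 = base p u from hu'.symm, hu1, map_one]
    have hW := congrArg Prod.snd heq'
    simp only [Prod.snd_mul, Prod.snd_inv, hd2, mul_one, sh_pow_p, base_pow_p, inv_one, one_mul,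
      mul_pow_top] at hW
    have hF : base p ((dl p)^[p - 1] (e0 p)) ^ (a - 1) = 1 := by rw [zpow_sub_one, hW, mul_inv_cancel]
    have hord : orderOf (base p ((dl p)^[p - 1] (e0 p))) = p := by
      refine orderOf_eq_prime (base_pow_p p _) fun e => ?_
      rw [← map_one (base p)] at e
      have e' := congrFun (base_injective p e) 1
      rw [iterate_top] at e'
      exact one_ne_zero (α := ZMod p) (congrArg Multiplicative.toAdd e')
    obtain ⟨m, hm⟩ := orderOf_dvd_iff_zpow_eq_one.mpr hF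
    rw [hord] at hm
    have hL := congrArg Prod.fst heq'
    simp only [Prod.fst_mul, Prod.fst_inv, conj_pow_eq hn hG hc hx (CfsgLib.PolySeq.fil_antitone h2 hz)] at hL
    rw [show (x ^ p * z ^ p)⁻¹ * x ^ p = (z ^ p)⁻¹ by group] at hL
    set e := (fun g => ⁅g, x⁆)^[p - 1] z with he
    have hmem : e ∈ fil S (i + (p - 1)) := iterate_mem hz _
    have hep : e ^ p ∈ fil S (i + p) := by
      have := pow_mem_fil_succ hn hG hc (by omega : 2 ≤ i + (p - 1)) hmem
      rwa [show i + (p - 1) + 1 = i + p by omega] at this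
    have hea : e⁻¹ * (z ^ p)⁻¹ ∈ fil S (i + p) := by
      rw [← hL, show a = 1 + (p : ℤ) * m by omega, zpow_add, zpow_one, zpow_mul, zpow_natCast, ← mul_assoc, ← mul_assoc,
        inv_mul_cancel, one_mul]
      exact mul_mem (zpow_mem hep m) hd1
    have hle : fil S (i + p) ≤ fil S (i + (p - 1)) := CfsgLib.PolySeq.fil_antitone (by omega)
    refine ⟨?_, fun hip hz' hzp => ?_⟩
    · have h := inv_mem (mul_mem hmem (hle hea))
      rwa [mul_inv_cancel_left, inv_inv] at h
    · have h := iterate_not_mem hn hG hc hx h2 hz hz' (p - 1) (by omega)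
      rw [show i + (p - 1) + 1 = i + p by omega] at h
      refine h ?_
      have := inv_mem (mul_mem hea hzp)
      rwa [inv_mul_cancel_right, inv_inv] at this

/-- A subgroup of the derived subgroup needs at most `p - 1` generators. -/
theorem gen_of_le_two {H : Subgroup S} (hH : H ≤ fil S 2) :
    ∃ T : Finset S, T.card ≤ p - 1 ∧ closure (T : Set S) = H := by
  classical
  have hp2 := hp.out.two_le
  let I : ℕ → Prop := fun j => 2 ≤ j ∧ j < n ∧ ∃ h ∈ H, h ∈ fil S j ∧ h ∉ fil S (j + 1)
  have hup : ∀ j, I j → j + (p - 1) < n → I (j + (p - 1)) := by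
    rintro j ⟨hj2, hjn, h, hh, h1, h2⟩ hlt
    obtain ⟨ha, hb⟩ := pow_layer hn hG hc hx n j (by omega) hj2 h h1
    refine ⟨by omega, hlt, h ^ p, pow_mem hh p, ha, ?_⟩
    rw [show j + (p - 1) + 1 = j + p by omega]
    exact hb (by omega) h2
  have hsel : ∀ j, ∃ h : S, I j → h ∈ H ∧ h ∈ fil S j ∧ h ∉ fil S (j + 1) := fun j => by
    by_cases hj : I j
    · obtain ⟨-, -, h, hh⟩ := hj
      exact ⟨h, fun _ => hh⟩
    · exact ⟨1, fun h => absurd h hj⟩
  choose sel hsel using hsel
  let J : Finset ℕ := (Finset.range n).filter fun j => I j ∧ ¬ (2 + (p - 1) ≤ j ∧ I (j - (p - 1)))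
  have hchain : ∀ m j, I j → j + m * (p - 1) < n → I (j + m * (p - 1)) := by
    intro m
    induction m with
    | zero => intro j hj _; simpa using hj
    | succ m ih =>
      intro j hj hlt
      rw [Nat.succ_mul] at hlt ⊢
      rw [← add_assoc]
      exact hup _ (ih j hj (by omega)) (by omega)
  have hJ : J.card ≤ p - 1 := by
    refine (Finset.card_le_card_of_injOn (fun j => j % (p - 1)) (t := Finset.range (p - 1))
      (fun j _ => Finset.mem_coe.mpr (Finset.mem_range.mpr (Nat.mod_lt _ (by omega)))) ?_).trans (Finset.card_range _).le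
    have key : ∀ j ∈ J, ∀ j' ∈ J, j < j' → j % (p - 1) ≠ j' % (p - 1) := by
      intro j hj j' hj' hlt he
      obtain ⟨m, hm⟩ : (p - 1) ∣ j' - j := (Nat.modEq_iff_dvd' hlt.le).mp he
      obtain ⟨-, hjI, -⟩ := Finset.mem_filter.mp hj
      obtain ⟨hj'n, -, hnot⟩ := Finset.mem_filter.mp hj'
      rw [Finset.mem_range] at hj'n
      rcases m with _ | m
      · omega
      rw [Nat.mul_succ, Nat.mul_comm] at hm
      have := hjI.1
      refine hnot ⟨by omega, ?_⟩
      rw [show j' - (p - 1) = j + m * (p - 1) by omega]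
      exact hchain m j hjI (by omega)
    intro j hj j' hj' he
    rcases lt_trichotomy j j' with h | h | h
    · exact absurd he (key j hj j' hj' h)
    · exact h
    · exact absurd he.symm (key j' hj' j hj h)
  refine ⟨J.image sel, Finset.card_image_le.trans hJ, le_antisymm ?_ ?_⟩
  · rw [closure_le]
    intro y hy
    obtain ⟨j, hj, rfl⟩ := Finset.mem_image.mp (Finset.mem_coe.mp hy)
    exact (hsel j (Finset.mem_filter.mp hj).2.1).1
  set K := closure ((J.image sel : Finset S) : Set S) with hK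
  have hKH : K ≤ H := by
    rw [hK, closure_le]
    intro y hy
    obtain ⟨j, hj, rfl⟩ := Finset.mem_image.mp (Finset.mem_coe.mp hy)
    exact (hsel j (Finset.mem_filter.mp hj).2.1).1
  have hrep : ∀ j, I j → ∃ k ∈ K, k ∈ fil S j ∧ k ∉ fil S (j + 1) := by
    intro j
    induction j using Nat.strong_induction_on with
    | _ j ih =>
      intro hj
      by_cases hjJ : 2 + (p - 1) ≤ j ∧ I (j - (p - 1))
      · obtain ⟨k, hk, hk1, hk2⟩ := ih (j - (p - 1)) (by omega) hjJ.2
        obtain ⟨ha, hb⟩ := pow_layer hn hG hc hx n (j - (p - 1)) (by omega) (by omega) k hk1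
        rw [show j - (p - 1) + (p - 1) = j by omega] at ha
        refine ⟨k ^ p, pow_mem hk p, ha, ?_⟩
        have := hj.2.1
        rw [show j + 1 = j - (p - 1) + p by omega]
        exact hb (by omega) hk2
      · have hjm : j ∈ J := Finset.mem_filter.mpr ⟨Finset.mem_range.mpr hj.2.1, hj, hjJ⟩
        exact ⟨sel j, subset_closure (Finset.mem_coe.mpr (Finset.mem_image_of_mem sel hjm)), (hsel j hj).2⟩
  have hdown : ∀ d j, n ≤ j + d → 2 ≤ j → H ⊓ fil S j ≤ K := by
    intro d
    induction d with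
    | zero =>
      intro j hj _
      rw [fil_eq_bot hn hG hc (by omega), inf_bot_eq]
      exact bot_le
    | succ d ih =>
      intro j hj h2 h hh
      by_cases hh' : h ∈ fil S (j + 1)
      · exact ih (j + 1) (by omega) (by omega) ⟨hh.1, hh'⟩
      have hjn : j < n := by
        by_contra hc'
        have h1 : h ∈ fil S j := hh.2
        rw [fil_eq_bot hn hG hc (not_lt.mp hc'), mem_bot] at h1
        exact hh' (h1 ▸ one_mem _)
      obtain ⟨k, hk, hk1, hk2⟩ := hrep j ⟨h2, hjn, h, hh.1, hh.2, hh'⟩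
      have hmem : h ∈ zpowers k ⊔ fil S (j + 1) := (fil_layer hn hG hc h2 hk1 hk2).ge hh.2
      obtain ⟨a, ha, b, hb, rfl⟩ := mem_sup_of_normal_right.mp hmem
      obtain ⟨m, rfl⟩ := mem_zpowers_iff.mp ha
      have hkm : k ^ m ∈ K := zpow_mem hk m
      have hbH : b ∈ H := by simpa using mul_mem (inv_mem (hKH hkm)) hh.1
      exact mul_mem hkm (ih (j + 1) (by omega) (by omega) ⟨hbH, hb⟩)
  exact fun h hh => hdown n 2 (by omega) le_rfl ⟨hh, hH hh⟩

/-- Every subgroup of such a group needs at most `p` generators. -/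
theorem gen_le (H : Subgroup S) : ∃ T : Finset S, T.card ≤ p ∧ closure (T : Set S) = H := by
  classical
  have hp2 := hp.out.two_le
  have hfil : fil S 2 = commutator S := Subgroup.top_lowerCentralSeries_one
  by_cases hle : H ≤ fil S 2
  · obtain ⟨T, hT, hT'⟩ := gen_of_le_two hn hG hc hx hle
    exact ⟨T, by omega, hT'⟩
  obtain ⟨h, hh, hh'⟩ := SetLike.not_le_iff_exists.mp hle
  have hgrow : ∀ A B : Subgroup S, A < B → Nat.card A * p ≤ Nat.card B := by
    intro A B hAB
    obtain ⟨a, -, ha⟩ := (Nat.dvd_prime_pow hp.out).mp (hG ▸ card_subgroup_dvd_card A)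
    obtain ⟨b, -, hb⟩ := (Nat.dvd_prime_pow hp.out).mp (hG ▸ card_subgroup_dvd_card B)
    have h1 : Nat.card A < Nat.card B :=
      lt_of_le_of_ne (card_le_of_le hAB.le) fun e => hAB.ne (eq_of_le_of_card_ge hAB.le e.ge)
    rw [ha, hb, Nat.pow_lt_pow_iff_right hp.out.one_lt] at h1
    rw [ha, hb, ← pow_succ]
    exact Nat.pow_le_pow_right hp.out.pos h1
  have hA : fil S 2 < zpowers h ⊔ fil S 2 :=
    lt_of_le_of_ne le_sup_right fun e => hh' (e.ge (mem_sup_left (mem_zpowers h)))
  have htop : ∀ B : Subgroup S, zpowers h ⊔ fil S 2 < B → B = ⊤ := fun B hB => by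
    refine eq_top_of_le_card _ ?_
    rw [hG]
    have h1 := (Nat.mul_le_mul_right p (hgrow _ _ hA)).trans (hgrow _ _ hB)
    rw [card_fil hn hG hc le_rfl (by omega), mul_assoc, ← pow_two, ← pow_add, Nat.sub_add_cancel (by omega)] at h1
    exact h1
  by_cases hH : H ≤ zpowers h ⊔ fil S 2
  · obtain ⟨T, hT, hT'⟩ := gen_of_le_two hn hG hc hx (inf_le_right : H ⊓ fil S 2 ≤ _)
    refine ⟨insert h T, (Finset.card_insert_le _ _).trans (by omega), ?_⟩
    rw [Finset.coe_insert, Set.insert_eq, Subgroup.closure_union, hT', ← zpowers_eq_closure]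
    refine le_antisymm (sup_le (zpowers_le.mpr hh) inf_le_left) fun y hy => ?_
    obtain ⟨a, ha, b, hb, rfl⟩ := mem_sup_of_normal_right.mp (hH hy)
    refine mul_mem_sup ha ⟨?_, hb⟩
    simpa using mul_mem (inv_mem ((zpowers_le.mpr hh) ha)) hy
  · obtain ⟨y, hy, hy'⟩ := SetLike.not_le_iff_exists.mp hH
    refine ⟨{h, y}, (Finset.card_insert_le _ _).trans (by simp; omega), le_antisymm ?_ ?_⟩
    · rw [closure_le]
      intro w hw
      rw [Finset.coe_insert, Finset.coe_singleton] at hw
      rcases hw with rfl | rfl <;> assumption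
    · have hlt : zpowers h ⊔ fil S 2 < closure (({h, y} : Finset S) : Set S) ⊔ fil S 2 := by
        refine lt_of_le_of_ne (sup_le_sup_right (zpowers_le.mpr (subset_closure (by simp))) _) fun e => hy' ?_
        exact e.ge (mem_sup_left (subset_closure (by simp)))
      have h1 := htop _ hlt
      rw [hfil] at h1
      rw [CfsgLib.Regular.eq_top_of_sup_commutator (IsPGroup.of_card hG) h1]
      exact le_top

end Structure

end CfsgLib.MaxClassRank
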