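import Cfsg.Agent.Lib.PositiveBound
import Cfsg.Agent.Lib.NineCC.Local
import Mathlib.GroupTheory.GroupAction.Quotient

/-!
Bounding the index of a subgroup containing the centralizers of enough elements of order three.
-/

set_option autoImplicit false

namespace CfsgLib.GoodPairs

open Subgroup CfsgLib.PositiveBound

universe u

variable {K : Type u} [Group K]

/-- An element of a subgroup fixing a single coset. -/
def GoodIn (M : Subgroup K) (e : K) : Prop := e ∈ M ∧ ∀ g : K, g⁻¹ * e * g ∈ M → g ∈ M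

theorem GoodIn.cent {M : Subgroup K} {e : K} (he : GoodIn M e) {g : K} (hg : g * e = e * g) : g ∈ M :=
  he.2 g (by rw [mul_assoc, ← hg, inv_mul_cancel_left]; exact he.1)

theorem GoodIn.conj {M : Subgroup K} {e : K} (he : GoodIn M e) {m : K} (hm : m ∈ M) : GoodIn M (m * e * m⁻¹) :=
  ⟨mul_mem (mul_mem hm he.1) (inv_mem hm), fun g hg => by
    have := he.2 (m⁻¹ * g) (by
      rw [show (m⁻¹ * g)⁻¹ * e * (m⁻¹ * g) = g⁻¹ * (m * e * m⁻¹) * g by group]; exact hg)
    have := mul_mem hm this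
    rwa [mul_inv_cancel_left] at this⟩

theorem GoodIn.inv {M : Subgroup K} {e : K} (he : GoodIn M e) : GoodIn M e⁻¹ :=
  ⟨inv_mem he.1, fun g hg => he.2 g (by
    have := inv_mem hg
    rwa [show (g⁻¹ * e⁻¹ * g)⁻¹ = g⁻¹ * e * g by group] at this)⟩

/-- Being conjugate by an element of `M`. -/
def MConj (M : Subgroup K) (a g : K) : Prop := ∃ m ∈ M, m * a * m⁻¹ = g

theorem GoodIn.mconj {M : Subgroup K} {a g : K} (ha : GoodIn M a) (hg : g ∈ M) (h : IsConj a g) : MConj M a g := by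
  obtain ⟨k, hk⟩ := isConj_iff.1 h
  exact ⟨k, inv_mem_iff.1 (ha.2 k⁻¹ (by rwa [inv_inv, hk])), hk⟩

/-- The pairs with product in `D` lie in `M`. -/
theorem pair_mem [Finite K] {M : Subgroup K} {a b : K} (ha : GoodIn M a) (hb : GoodIn M b)
    (ha3 : a ^ 3 = 1) (hb3 : b ^ 3 = 1)
    (hC : ∀ e : K, e ≠ 1 → e * a = a * e → ∀ g : K, g * e = e * g → g ∈ M)
    {y : K} (hy3 : y ^ 3 = 1) (hsq : ¬ IsConj (a * a) y)
    (hy : GoodIn M y ∨ ∀ g' h' : K, MConj M a g' → MConj M b h' → ¬ IsConj y (g' * h'⁻¹))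
    {g h : K} (hg : IsConj a g) (hh : IsConj b h) (hgy : g * h⁻¹ = y) : MConj M a g ∧ MConj M b h := by
  have pow3 : ∀ {u v : K}, IsConj u v → u ^ 3 = 1 → v ^ 3 = 1 := fun {u v} huv hu => by
    obtain ⟨k, rfl⟩ := isConj_iff.1 huv
    rw [conj_pow, hu]; group
  rcases CfsgLib.NineCC.conj_or_common (pow3 hg ha3) (show h⁻¹ ^ 3 = 1 by rw [inv_pow, pow3 hh hb3, inv_one])
      (show (g * h⁻¹) ^ 3 = 1 by rw [hgy, hy3]) with ⟨-, h2⟩ | ⟨x, hx1, hxg, hxh⟩
  · exfalso
    refine hsq (IsConj.trans ?_ (hgy ▸ h2))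
    obtain ⟨k, rfl⟩ := isConj_iff.1 hg
    exact isConj_iff.2 ⟨k, by group⟩
  obtain ⟨k, hk⟩ := isConj_iff.1 hg.symm
  have hcx : ∀ u : K, u * x = x * u → k * u * k⁻¹ ∈ M := fun u hu => by
    refine hC (k * x * k⁻¹) (fun e => hx1 (conj_eq_one_iff.1 e)) ?_ _ ?_
    · rw [← hk]; exact ((show Commute x g from hxg).map (MulAut.conj k).toMonoidHom).eq
    · exact ((show Commute u x from hu).map (MulAut.conj k).toMonoidHom).eq
  have hxh' : h * x = x * h := (Commute.inv_right_iff.1 (show Commute x h⁻¹ from hxh)).symm.eq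
  have h1 : k * h * k⁻¹ ∈ M := hcx h hxh'
  have h2 : k * y * k⁻¹ ∈ M := hcx y (by rw [← hgy]; exact ((show Commute g x from hxg.symm).mul_left (show Commute h⁻¹ x from hxh.symm)).eq)
  rcases hy with hy | hy
  · have hkM : k ∈ M := inv_mem_iff.1 (hy.2 k⁻¹ (by rwa [inv_inv]))
    refine ⟨ha.mconj ?_ hg, hb.mconj ?_ hh⟩
    · have := mul_mem (mul_mem (inv_mem hkM) ha.1) hkM
      rwa [← hk, show k⁻¹ * (k * g * k⁻¹) * k = g by group] at this
    · have := mul_mem (mul_mem (inv_mem hkM) h1) hkM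
      rwa [show k⁻¹ * (k * h * k⁻¹) * k = h by group] at this
  · refine absurd ?_ (hy (k * g * k⁻¹) (k * h * k⁻¹) ⟨1, one_mem _, by rw [hk]; group⟩
      (hb.mconj h1 (hh.trans (isConj_iff.2 ⟨k, rfl⟩))))
    refine isConj_iff.2 ⟨k, ?_⟩
    rw [← hgy]; group

/-- The bound. -/
theorem index_bound [Finite K] {ι : Type*} [Fintype ι] [DecidableEq ι] (M D : Subgroup K) (a : ι → K) (c : ι → ℕ)
    (hnc : ∀ i j, i ≠ j → ¬ IsConj (a i) (a j)) (hC : ∀ i, centralizer ({a i} : Set K) ≤ M) (haM : ∀ i, a i ∈ M)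
    (P : ι → ι → Bool)
    (hpair : ∀ i j, ∀ y ∈ D, y ≠ 1 → ∀ g h : K, IsConj (a i) g → IsConj (a j) h → g * h⁻¹ = y →
      P i j = true ∧ MConj M (a i) g) :
    Nat.card D * (∑ i, c i) ^ 2 * M.index ≤
      M.index * (∑ i, c i ^ 2 * cc (a i)) + (Nat.card D - 1) * ∑ i, ∑ j, (if P i j then c i * c j * cc (a j) else 0) := by
  classical
  haveI := Fintype.ofFinite D
  have hb := PositiveBound.bound D a c hnc
  have hM : ∀ i, Nat.card {g : K // MConj M (a i) g} * cc (a i) = Nat.card M := by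
    intro i
    let f : M → {g : K // MConj M (a i) g} := fun m => ⟨(m : K) * a i * (m : K)⁻¹, m, m.2, rfl⟩
    letI : MulAction M {g : K // MConj M (a i) g} :=
      { smul := fun m g => ⟨(m : K) * g * (m : K)⁻¹, by
          obtain ⟨g, n, hn, rfl⟩ := g
          exact ⟨m * n, mul_mem m.2 hn, by group⟩⟩
        one_smul := fun g => Subtype.ext (by show ((1 : M) : K) * _ * _ = _; simp)
        mul_smul := fun m n g => Subtype.ext (by
          show ((m * n : M) : K) * _ * _ = (m : K) * ((n : K) * _ * _) * _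
          rw [Subgroup.coe_mul]; group) }
    set b : {g : K // MConj M (a i) g} := ⟨a i, 1, one_mem _, by group⟩
    haveI : MulAction.IsPretransitive M {g : K // MConj M (a i) g} := MulAction.isPretransitive_iff_base b |>.2 (by
      rintro ⟨g, n, hn, rfl⟩
      exact ⟨⟨n, hn⟩, Subtype.ext rfl⟩)
    rw [← MulAction.index_stabilizer_of_transitive M b]
    show _ * Nat.card (centralizer ({a i} : Set K)) = _
    rw [← Nat.card_congr (subgroupOfEquivOfLe (hC i)).toEquiv]
    have e : MulAction.stabilizer M b = (centralizer ({a i} : Set K)).subgroupOf M := by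
      ext m
      rw [MulAction.mem_stabilizer_iff, mem_subgroupOf, mem_centralizer_singleton_iff]
      exact ⟨fun h => mul_inv_eq_iff_eq_mul.1 (congrArg Subtype.val h), fun h =>
        Subtype.ext (mul_inv_eq_iff_eq_mul.2 h)⟩
    rw [e, mul_comm]
    exact card_mul_index _
  have hN : ∀ i j, ∀ y ∈ D, y ≠ 1 →
      cc (a i) * pairs (a i) (a j)⁻¹ y ≤ if P i j then Nat.card M else 0 := by
    intro i j y hy hy1
    have hp : ∀ p : {p : K × K // IsConj (a i) p.1 ∧ IsConj (a j)⁻¹ p.2 ∧ p.1 * p.2 = y},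
        P i j = true ∧ MConj M (a i) p.1.1 := fun p => hpair i j y hy hy1 p.1.1 p.1.2⁻¹ p.2.1 (by
      obtain ⟨k, hk⟩ := isConj_iff.1 p.2.2.1
      exact isConj_iff.2 ⟨k, by rw [← hk]; group⟩) (by rw [inv_inv]; exact p.2.2.2)
    split_ifs with hP
    · rw [← hM i, mul_comm _ (cc (a i))]
      refine Nat.mul_le_mul_left _ ?_
      refine Nat.card_le_card_of_injective
        (fun p : {p : K × K // IsConj (a i) p.1 ∧ IsConj (a j)⁻¹ p.2 ∧ p.1 * p.2 = y} =>
          (⟨p.1.1, (hp p).2⟩ : {g : K // MConj M (a i) g})) ?_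
      intro p q hpq
      have h1 : p.1.1 = q.1.1 := congrArg Subtype.val hpq
      refine Subtype.ext (Prod.ext h1 (mul_left_cancel (a := p.1.1) ?_))
      rw [p.2.2.2, h1, q.2.2.2]
    · haveI : IsEmpty {p : K × K // IsConj (a i) p.1 ∧ IsConj (a j)⁻¹ p.2 ∧ p.1 * p.2 = y} :=
        ⟨fun p => hP (hp p).1⟩
      rw [pairs, Nat.card_of_isEmpty, mul_zero]
  have hS : ∀ y ∈ Finset.univ.filter (fun y : D => y ≠ 1),
      ∑ i, ∑ j, c i * c j * cc (a i) * cc (a j) * pairs (a i) (a j)⁻¹ (y : K) ≤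
        Nat.card M * ∑ i, ∑ j, (if P i j then c i * c j * cc (a j) else 0) := by
    intro y hy
    rw [Finset.mul_sum]
    refine Finset.sum_le_sum fun i _ => ?_
    rw [Finset.mul_sum]
    refine Finset.sum_le_sum fun j _ => ?_
    have h := hN i j y y.2 fun e => (Finset.mem_filter.1 hy).2 (Subtype.ext e)
    calc c i * c j * cc (a i) * cc (a j) * pairs (a i) (a j)⁻¹ (y : K)
        = c i * c j * cc (a j) * (cc (a i) * pairs (a i) (a j)⁻¹ (y : K)) := by ring
      _ ≤ c i * c j * cc (a j) * (if P i j then Nat.card M else 0) := Nat.mul_le_mul_left _ h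
      _ = _ := by split_ifs <;> ring
  have hcardD : (Finset.univ.filter (fun y : D => y ≠ 1)).card = Nat.card D - 1 := by
    rw [Finset.filter_ne', Finset.card_erase_of_mem (Finset.mem_univ _), Finset.card_univ, Nat.card_eq_fintype_card]
  have hsum := (Finset.sum_le_sum hS)
  rw [Finset.sum_const, hcardD, smul_eq_mul] at hsum
  have h2 := hb.trans (Nat.add_le_add_left hsum _)
  rw [← card_mul_index M] at h2
  refine Nat.le_of_mul_le_mul_left ?_ (Nat.card_pos (α := M))
  calc Nat.card M * (Nat.card D * (∑ i, c i) ^ 2 * M.index)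
      = Nat.card D * (∑ i, c i) ^ 2 * (Nat.card M * M.index) := by ring
    _ ≤ _ := h2
    _ = _ := by ring

/-- The congruence for the index. -/
theorem index_mod [Finite K] {p : ℕ} [Fact p.Prime] (M S : Subgroup K) (hSM : S ≤ M) {s j : ℕ}
    (hS : Nat.card S = p ^ s) (hsub : ∀ T : Subgroup K, T ≤ S → p ^ (j + 1) ≤ Nat.card T → ∃ e ∈ T, GoodIn M e) :
    p ^ (s - j) ∣ M.index - 1 := by
  classical
  haveI := Fintype.ofFinite (K ⧸ M)
  haveI := Fintype.ofFinite S
  haveI := Fintype.ofFinite (Quotient (MulAction.orbitRel S (K ⧸ M)))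
  have horb : ∀ q : K ⧸ M, q ≠ ((1 : K) : K ⧸ M) → p ^ (s - j) ∣ Nat.card (MulAction.orbit S q) := by
    intro q hq
    set T := (MulAction.stabilizer S q).map S.subtype with hT
    have hTS : T ≤ S := map_subtype_le _
    have hno : ∀ e ∈ T, ¬ GoodIn M e := by
      rintro e ⟨e', he', rfl⟩ hg
      refine hq ?_
      obtain ⟨g, rfl⟩ := QuotientGroup.mk_surjective q
      have h : ((e' : K) • (g : K ⧸ M)) = g := he'
      rw [MulAction.Quotient.smul_coe, smul_eq_mul, QuotientGroup.eq] at h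
      rw [QuotientGroup.eq, mul_one]
      refine inv_mem (hg.2 g ?_)
      have := inv_mem h
      rwa [show (((e' : K) * g)⁻¹ * g)⁻¹ = g⁻¹ * (e' : K) * g by group] at this
    have hle : Nat.card T ≤ p ^ j := by
      by_contra hlt
      obtain ⟨k, hk, hk'⟩ := (Nat.dvd_prime_pow Fact.out).1 (hS ▸ card_dvd_of_le hTS)
      have hjk : j + 1 ≤ k := by
        by_contra hc
        exact hlt (hk' ▸ Nat.pow_le_pow_right (Nat.Prime.pos Fact.out) (by omega))
      obtain ⟨e, he, hg⟩ := hsub T hTS (hk' ▸ Nat.pow_le_pow_right (Nat.Prime.pos Fact.out) hjk)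
      exact hno e he hg
    have hc : Nat.card T = Nat.card (MulAction.stabilizer S q) := card_map_of_injective S.subtype_injective
    obtain ⟨k, hk, hk'⟩ := (Nat.dvd_prime_pow Fact.out).1 (hS ▸ card_dvd_of_le hTS)
    have h2 := MulAction.card_orbit_mul_card_stabilizer_eq_card_group S q
    rw [← Nat.card_eq_fintype_card, ← Nat.card_eq_fintype_card, ← Nat.card_eq_fintype_card, ← hc, hk', hS] at h2
    have hkj : k ≤ j := by
      rw [hk'] at hle
      exact (Nat.pow_le_pow_iff_right (Nat.Prime.one_lt Fact.out)).1 hle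
    have e : Nat.card (MulAction.orbit S q) = p ^ (s - k) := by
      apply Nat.eq_of_mul_eq_mul_right (pow_pos (Nat.Prime.pos (Fact.out : p.Prime)) k)
      rw [h2, ← pow_add, Nat.sub_add_cancel hk]
    rw [e]; exact pow_dvd_pow p (by omega)
  have h1 : ∀ r : Quotient (MulAction.orbitRel S (K ⧸ M)), r.out = ((1 : K) : K ⧸ M) ↔
      r = Quotient.mk'' ((1 : K) : K ⧸ M) := by
    intro r
    constructor
    · intro h; rw [← Quotient.out_eq' r, h]
    · rintro rfl
      obtain ⟨⟨g, hg⟩, hgq⟩ := Quotient.mk_out (s := MulAction.orbitRel S (K ⧸ M)) ((1 : K) : K ⧸ M)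
      refine Eq.trans hgq.symm ?_
      show g • ((1 : K) : K ⧸ M) = _
      rw [MulAction.Quotient.smul_coe, smul_eq_mul, mul_one, QuotientGroup.eq, mul_one]
      exact inv_mem (hSM hg)
  have hsum : M.index = ∑ r : Quotient (MulAction.orbitRel S (K ⧸ M)), Nat.card (MulAction.orbit S r.out) := by
    rw [index, Nat.card_congr (MulAction.selfEquivSigmaOrbits S (K ⧸ M)), Nat.card_sigma]
  have hone : Nat.card (MulAction.orbit S ((1 : K) : K ⧸ M)) = 1 := by
    rw [Nat.card_eq_one_iff_unique]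
    refine ⟨⟨?_⟩, ⟨⟨_, MulAction.mem_orbit_self _⟩⟩⟩
    rintro ⟨_, g, rfl⟩ ⟨_, g', rfl⟩
    refine Subtype.ext ?_
    have hfix : ∀ g : S, g • ((1 : K) : K ⧸ M) = ((1 : K) : K ⧸ M) := fun g => by
      show (g : K) • ((1 : K) : K ⧸ M) = _
      rw [MulAction.Quotient.smul_coe, smul_eq_mul, mul_one, QuotientGroup.eq, mul_one]
      exact inv_mem (hSM g.2)
    show g • ((1 : K) : K ⧸ M) = g' • ((1 : K) : K ⧸ M)
    rw [hfix, hfix]
  rw [hsum, ← Finset.add_sum_erase _ _ (Finset.mem_univ (Quotient.mk'' ((1 : K) : K ⧸ M))), (h1 _).2 rfl, hone,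
    Nat.add_sub_cancel_left]
  exact Finset.dvd_sum fun r hr => horb _ fun e => (Finset.mem_erase.1 hr).1 ((h1 r).1 e)

end CfsgLib.GoodPairs
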