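import Cfsg.Agent.Lib.CoprimeGen
import Mathlib.GroupTheory.Transfer
import Mathlib.GroupTheory.Abelianization.Defs

/-!
A subgroup generated by elements fixing a single coset, and by central elements, with small derived subgroup and
enough such elements, is the whole group.
-/

set_option autoImplicit false

namespace CfsgLib.GoodTransfer

open Subgroup

universe u

variable {H : Type u} [Group H] [Finite H] {p : ℕ} [hp : Fact p.Prime]

/-- An element of order dividing `p` fixing only the trivial coset. -/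
def Good (p : ℕ) (P : Subgroup H) (a : H) : Prop := a ∈ P ∧ a ^ p = 1 ∧ ∀ h : H, h⁻¹ * a * h ∈ P → h ∈ P

theorem fixed_coset {P : Subgroup H} {a : H} (ha : Good p P a) {q : H ⧸ P} (hq : a • q = q) :
    q = ((1 : H) : H ⧸ P) := by
  revert hq
  refine Quotient.inductionOn' q fun g hg => ?_
  have h : a • (g : H ⧸ P) = (g : H ⧸ P) := hg
  rw [MulAction.Quotient.smul_coe, smul_eq_mul, QuotientGroup.eq] at h
  show (g : H ⧸ P) = _
  rw [QuotientGroup.eq, mul_one]
  refine inv_mem (ha.2.2 g ?_)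
  have := inv_mem h
  rwa [show ((a * g)⁻¹ * g)⁻¹ = g⁻¹ * a * g by group] at this

theorem period_eq {P : Subgroup H} {a : H} (ha : Good p P a) {q : H ⧸ P} (hq : q ≠ ((1 : H) : H ⧸ P)) :
    Function.minimalPeriod (a • ·) q = p := by
  refine Function.minimalPeriod_eq_prime ?_ (fun h => hq (fixed_coset ha (Function.IsFixedPt.eq h)))
  show (fun x => a • x)^[p] q = q
  rw [smul_iterate]
  show a ^ p • q = q
  rw [ha.2.1, one_smul]

theorem period_one {P : Subgroup H} {a : H} (ha : Good p P a) :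
    Function.minimalPeriod (a • ·) ((1 : H) : H ⧸ P) = 1 := by
  refine Function.minimalPeriod_eq_one_iff_isFixedPt.2 ?_
  show a • ((1 : H) : H ⧸ P) = _
  rw [MulAction.Quotient.smul_coe, smul_eq_mul, mul_one, QuotientGroup.eq, mul_one]
  exact inv_mem ha.1

theorem orbit_out {P : Subgroup H} {a : H} (ha : Good p P a)
    (q : Quotient (MulAction.orbitRel (zpowers a) (H ⧸ P))) :
    q = Quotient.mk'' ((1 : H) : H ⧸ P) ↔ q.out = ((1 : H) : H ⧸ P) := by
  constructor
  · rintro rfl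
    obtain ⟨⟨g, hg⟩, hgq⟩ := Quotient.mk_out (s := MulAction.orbitRel (zpowers a) (H ⧸ P)) ((1 : H) : H ⧸ P)
    refine Eq.trans hgq.symm ?_
    obtain ⟨n, rfl⟩ := mem_zpowers_iff.1 hg
    show a ^ n • ((1 : H) : H ⧸ P) = _
    rw [MulAction.Quotient.smul_coe, smul_eq_mul, mul_one, QuotientGroup.eq, mul_one]
    exact inv_mem (zpow_mem ha.1 n)
  · intro h
    conv_lhs => rw [← Quotient.out_eq' q, h]

theorem index_mod {P : Subgroup H} {a : H} (ha : Good p P a) : P.index % p = 1 := by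
  classical
  haveI := Fintype.ofFinite (Quotient (MulAction.orbitRel (zpowers a) (H ⧸ P)))
  rw [index_eq_sum_minimalPeriod P a,
    ← Finset.add_sum_erase _ _ (Finset.mem_univ (Quotient.mk'' ((1 : H) : H ⧸ P))),
    (orbit_out ha _).1 rfl, period_one ha, Finset.sum_congr rfl fun q hq => period_eq ha (fun e =>
      (Finset.mem_erase.1 hq).1 ((orbit_out ha q).2 e)), Finset.sum_const, smul_eq_mul, Nat.add_mul_mod_self_right,
    Nat.one_mod_eq_one.2 hp.out.ne_one]

theorem transfer_good {A : Type*} [CommGroup A] {P : Subgroup H} (ϕ : P →* A) {a : H} (ha : Good p P a) :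
    MonoidHom.transfer ϕ a = ϕ ⟨a, ha.1⟩ := by
  classical
  haveI := Fintype.ofFinite (Quotient (MulAction.orbitRel (zpowers a) (H ⧸ P)))
  rw [MonoidHom.transfer_eq_prod_quotient_orbitRel_zpowers_quot ϕ a,
    Fintype.prod_eq_single (Quotient.mk'' ((1 : H) : H ⧸ P))]
  · have h1 := (orbit_out ha _).1 (rfl : (Quotient.mk'' ((1 : H) : H ⧸ P) : Quotient (MulAction.orbitRel (zpowers a) (H ⧸ P))) = _)
    set r := (Quotient.mk'' ((1 : H) : H ⧸ P) : Quotient (MulAction.orbitRel (zpowers a) (H ⧸ P))).out with hr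
    set g := r.out
    have hg : g ∈ P := by
      have : (g : H ⧸ P) = ((1 : H) : H ⧸ P) := (QuotientGroup.out_eq' r).trans h1
      rw [QuotientGroup.eq, mul_one] at this
      exact inv_mem_iff.1 this
    have e : ∀ (x : H) (hx : x ∈ P), x = g⁻¹ * a * g → ϕ ⟨x, hx⟩ = ϕ ⟨a, ha.1⟩ := by
      intro x hx e
      subst e
      rw [show (⟨_, hx⟩ : P) = (⟨g, hg⟩ : P)⁻¹ * ⟨a, ha.1⟩ * ⟨g, hg⟩ from rfl, map_mul, map_mul, map_inv,
        mul_comm (ϕ ⟨g, hg⟩)⁻¹, inv_mul_cancel_right]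
    refine e _ _ ?_
    rw [h1, period_one ha, pow_one, show g = Quotient.out ((1 : H) : H ⧸ P) from congrArg Quotient.out h1]
  · intro q hq
    have hne : q.out ≠ ((1 : H) : H ⧸ P) := fun e => hq ((orbit_out ha q).2 e)
    have e : ∀ (x : H) (hx : x ∈ P), x = 1 → ϕ ⟨x, hx⟩ = 1 := by
      rintro _ hx rfl; exact map_one ϕ
    refine e _ _ ?_
    rw [period_eq ha hne, ha.2.1]; group

theorem transfer_central {A : Type*} [CommGroup A] {P : Subgroup H} (ϕ : P →* A) {e : H} (heP : e ∈ P)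
    (hc : ∀ h : H, h * e = e * h) : MonoidHom.transfer ϕ e = ϕ ⟨e, heP⟩ ^ P.index := by
  classical
  haveI := Fintype.ofFinite (Quotient (MulAction.orbitRel (zpowers e) (H ⧸ P)))
  rw [MonoidHom.transfer_eq_prod_quotient_orbitRel_zpowers_quot ϕ e, index_eq_sum_minimalPeriod P e,
    ← Finset.prod_pow_eq_pow_sum]
  refine Finset.prod_congr rfl fun q _ => ?_
  rw [← map_pow]
  congr 1
  apply Subtype.ext
  show q.out.out⁻¹ * e ^ Function.minimalPeriod (e • ·) q.out * q.out.out = (⟨e, heP⟩ ^ _ : P).1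
  rw [SubgroupClass.coe_pow, mul_assoc, ← ((show Commute q.out.out e from hc _).pow_right _).eq, inv_mul_cancel_left]

/-- The criterion. -/
theorem eq_top {P : Subgroup H} {z : H} (hz : Good p P z) (P1 : Subgroup H) (hP1 : P1 ≤ P)
    (hgen : P1 ≤ closure {a : H | Good p P a ∨ (a ∈ P ∧ a ^ p = 1 ∧ ∀ h : H, h * a = a * h)})
    (hab : ∀ T : Subgroup H, T ≤ P → (∀ t ∈ T, t ∈ P1 → t ∈ ⁅P, P⁆) → ∀ a ∈ T, ∀ b ∈ T, a * b = b * a)
    (hzd : z ∈ ⁅P, P⁆ ∨ ∀ t ∈ P, t ∈ P1 ∧ (t ∈ ⁅P, P⁆ → t = 1))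
    (hPp : IsPGroup p P)
    (W : Subgroup H) (hWP : W ≤ P) [IsMulCommutative W] (hWcyc : ¬ IsCyclic W)
    (hWgood : ∀ a ∈ W, a ≠ 1 → Good p P a) : P = ⊤ := by
  classical
  have hidx := index_mod hz
  let V : H →* Abelianization P := MonoidHom.transfer (Abelianization.of : P →* Abelianization P)
  have hV : ∀ a (_ : a ∈ P1) (ha : a ∈ P), V a = Abelianization.of (⟨a, ha⟩ : P) := by
    have key : ∀ a ∈ closure {a : H | Good p P a ∨ (a ∈ P ∧ a ^ p = 1 ∧ ∀ h : H, h * a = a * h)},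
        ∃ ha : a ∈ P, V a = Abelianization.of (⟨a, ha⟩ : P) := by
      intro a ha
      induction ha using closure_induction with
      | mem a h =>
        rcases h with h | ⟨h1, h2, h3⟩
        · exact ⟨h.1, transfer_good _ h⟩
        · refine ⟨h1, (transfer_central _ h1 h3).trans ?_⟩
          rw [pow_eq_pow_mod P.index (by rw [← map_pow, show (⟨a, h1⟩ : P) ^ p = 1 from Subtype.ext h2, map_one] :
            Abelianization.of (⟨a, h1⟩ : P) ^ p = 1), hidx, pow_one]
      | one => exact ⟨one_mem _, by rw [map_one]; exact (map_one _).symm⟩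
      | mul a b _ _ iha ihb =>
        obtain ⟨ha, ea⟩ := iha; obtain ⟨hb, eb⟩ := ihb
        exact ⟨mul_mem ha hb, by rw [map_mul, ea, eb, ← map_mul]; rfl⟩
      | inv a _ iha =>
        obtain ⟨ha, ea⟩ := iha
        exact ⟨inv_mem ha, by rw [map_inv, ea, ← map_inv]; rfl⟩
    exact fun a ha1 ha => (key a (hgen ha1)).2
  set H0 := V.ker with hH0
  have hof : ∀ t (ht : t ∈ P), (Abelianization.of (⟨t, ht⟩ : P) = 1 ↔ t ∈ ⁅P, P⁆) := fun t ht => by
    rw [← MonoidHom.mem_ker, Abelianization.ker_of P, ← map_subtype_commutator P]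
    exact ⟨fun h => ⟨_, h, rfl⟩, fun ⟨u, hu, e⟩ => (Subtype.ext e : u = ⟨t, ht⟩) ▸ hu⟩
  have hco : ¬ p ∣ P.index := fun hd => by
    rw [Nat.mod_eq_zero_of_dvd hd] at hidx; omega
  set T : Subgroup H := H0 ⊓ P with hT
  have hTd : ∀ t ∈ T, t ∈ P1 → t ∈ ⁅P, P⁆ := fun t ht ht1 =>
    (hof t ht.2).1 ((hV t ht1 ht.2).symm.trans ht.1)
  have hTab := hab T inf_le_right hTd
  have hsup : P ⊔ H0 = ⊤ := by
    rw [← index_eq_one]
    by_contra hne
    obtain ⟨q, hq, hqd⟩ := Nat.exists_prime_and_dvd hne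
    have hAb : IsPGroup p (Abelianization P) :=
      hPp.of_surjective Abelianization.of QuotientGroup.mk_surjective
    obtain ⟨m, hm⟩ := IsPGroup.iff_card.1 (hAb.to_subgroup V.range)
    have h1 : q ∣ p ^ m := hm ▸ index_ker V ▸ hqd.trans (index_dvd_of_le le_sup_right)
    have h2 : q ∣ P.index := hqd.trans (index_dvd_of_le le_sup_left)
    rw [(Nat.prime_dvd_prime_iff_eq hq hp.out).1 (hq.dvd_of_dvd_pow h1)] at h2
    exact hco h2
  have hTidx : ¬ p ∣ (T.subgroupOf H0).index := by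
    have e1 : T.relIndex H0 * H0.index = T.index := relIndex_mul_index inf_le_left
    have e2 : T.relIndex P * P.index = T.index := relIndex_mul_index inf_le_right
    have e3 : T.relIndex P = H0.index := by
      rw [hT, inf_relIndex_right, ← relIndex_sup_right P H0, hsup, relIndex_top_right]
    have hr : T.relIndex H0 = P.index := by
      rw [e3] at e2
      exact Nat.eq_of_mul_eq_mul_right (Nat.pos_of_ne_zero index_ne_zero_of_finite) (e1.trans (e2.symm.trans (mul_comm _ _)))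
    intro hd
    exact hco (hr ▸ hd)
  let P0 : Sylow p H0 := IsPGroup.toSylow
    (hPp.of_injective ((inclusion (inf_le_right : T ≤ P)).comp (subgroupOfEquivOfLe (inf_le_left : T ≤ H0)).toMonoidHom)
      ((inclusion_injective (inf_le_right : T ≤ P)).comp (MulEquiv.injective (subgroupOfEquivOfLe (inf_le_left : T ≤ H0))))) hTidx
  have hP0 : (P0 : Subgroup H0) = T.subgroupOf H0 := rfl
  have hNC : normalizer ((P0 : Subgroup H0) : Set H0) ≤ centralizer ((P0 : Subgroup H0) : Set H0) := by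
    intro n hn
    rw [mem_centralizer_iff]
    intro t ht
    rcases hzd with hzd | hzd
    · have hzT : z ∈ T := by
        refine ⟨?_, hz.1⟩
        show V z = 1
        exact (transfer_good _ hz).trans ((hof z hz.1).2 hzd)
      have hnP : (n : H) ∈ P := by
        have h : (n : H) * z * (n : H)⁻¹ ∈ P :=
          ((mem_normalizer_iff.1 hn ⟨z, hzT.1⟩).1 hzT).2
        exact inv_mem_iff.1 (hz.2.2 (n : H)⁻¹ (by rwa [inv_inv]))
      exact Subtype.ext (hTab _ ht _ ⟨n.2, hnP⟩)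
    · have ht' : (t : H) ∈ T := ht
      have h1 : (t : H) = 1 := (hzd _ ht'.2).2 (hTd _ ht' (hzd _ ht'.2).1)
      rw [show t = 1 from Subtype.ext h1, one_mul, mul_one]
  set K0 := (MonoidHom.transferSylow P0 hNC).ker with hK0
  have hK0cop : ¬ p ∣ Nat.card K0 := MonoidHom.not_dvd_card_ker_transferSylow P0 hNC
  have hchar : ∀ k : H0, (orderOf k).Coprime p → k ∈ K0 := by
    intro k hk
    rw [hK0, MonoidHom.mem_ker]
    have h1 : orderOf (MonoidHom.transferSylow P0 hNC k) ∣ orderOf k := orderOf_map_dvd _ k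
    obtain ⟨j, hj⟩ := P0.isPGroup' (MonoidHom.transferSylow P0 hNC k)
    exact orderOf_eq_one_iff.1 (Nat.eq_one_of_dvd_coprimes (hk.pow_right j) h1
      (orderOf_dvd_of_pow_eq_one hj))
  set K1 := K0.map H0.subtype with hK1
  have hWK : W ≤ normalizer (K1 : Set H) := by
    intro w hw
    have hcl : ∀ g : H, ∀ k ∈ K1, g * k * g⁻¹ ∈ K1 := by
      rintro g _ ⟨k, hk, rfl⟩
      have hkH : g * (k : H) * g⁻¹ ∈ H0 := (inferInstance : H0.Normal).conj_mem _ k.2 g
      refine ⟨⟨_, hkH⟩, hchar _ ?_, rfl⟩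
      rw [← orderOf_submonoid]
      show (orderOf (g * (k : H) * g⁻¹)).Coprime p
      rw [← MulAut.conj_apply, MulEquiv.orderOf_eq, orderOf_coe]
      exact Nat.Coprime.coprime_dvd_left (dvd_trans (dvd_of_eq (orderOf_coe (⟨k, hk⟩ : K0)))
        (orderOf_dvd_natCard (⟨k, hk⟩ : K0))) ((hp.out.coprime_iff_not_dvd.2 hK0cop).symm)
    refine mem_normalizer_iff.2 fun k => ⟨fun hk => hcl w k hk, fun hk => ?_⟩
    have := hcl w⁻¹ _ hk
    rwa [show w⁻¹ * (w * k * w⁻¹) * w⁻¹⁻¹ = k by group] at this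
  have hK1card : Nat.card K1 = Nat.card K0 := card_map_of_injective H0.subtype_injective
  have hbot : K1 = ⊥ := by
    have hgenK := coprime_generated_by_centralizers (K := K1) hWcyc hWK (by
      rw [hK1card]
      obtain ⟨m, hm⟩ := IsPGroup.iff_card.1 (hPp.to_le hWP)
      rw [hm]
      exact (hp.out.coprime_iff_not_dvd.2 hK0cop).pow_left m)
    rw [← hgenK, eq_bot_iff]
    refine iSup₂_le fun a ha k hk => ?_
    obtain ⟨hkK, hka⟩ := hk
    have hkP : k ∈ P := (hWgood a ha.1 ha.2).2.2 k (by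
      rw [mul_assoc, ← mem_centralizer_singleton_iff.1 hka, inv_mul_cancel_left]; exact hWP ha.1)
    have h1 : orderOf k ∣ Nat.card K0 := hK1card ▸ dvd_trans (dvd_of_eq (orderOf_coe (⟨k, hkK⟩ : K1)))
      (orderOf_dvd_natCard (⟨k, hkK⟩ : K1))
    obtain ⟨j, hj⟩ := hPp ⟨k, hkP⟩
    exact mem_bot.2 (orderOf_eq_one_iff.1 (Nat.eq_one_of_dvd_coprimes
      (((hp.out.coprime_iff_not_dvd.2 hK0cop).pow_left j).symm) h1
      (orderOf_dvd_of_pow_eq_one (congrArg Subtype.val hj))))
  rw [hK1, map_eq_bot_iff_of_injective _ H0.subtype_injective] at hbot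
  have hH0T : H0 ≤ P := fun h hh => by
    have hc := (MonoidHom.ker_transferSylow_isComplement' P0 hNC)
    have htop : (P0 : Subgroup H0) = ⊤ := by
      have := hc.sup_eq_top
      rwa [show (MonoidHom.transferSylow P0 hNC).ker = ⊥ from hbot, bot_sup_eq] at this
    have : (⟨h, hh⟩ : H0) ∈ (P0 : Subgroup H0) := htop.ge (mem_top _)
    exact this.2
  rwa [sup_of_le_left hH0T] at hsup

end CfsgLib.GoodTransfer
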