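import Cfsg.Agent.Lib.SmallElements
import Cfsg.Agent.Lib.PComplement

/-!
`p`-nilpotency from the fusion of the small elements.
-/

set_option autoImplicit false

namespace CfsgLib.SmallFusion

open CfsgLib

variable {G : Type*} [Group G] [Finite G] {p : ℕ} [Fact p.Prime]

/-- A `p'`-element stabilising a series on the small elements of a `p`-subgroup centralises it. -/
theorem centralizes_of_filtration {Q : Subgroup G} (hQ : IsPGroup p Q) {g : G}
    (hg : g ∈ Subgroup.normalizer (Q : Set G)) (hgp : (orderOf g).Coprime p) (F : ℕ → Subgroup G)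
    (h0 : ∀ x ∈ Q, x ^ Small.smallExp p = 1 → x ∈ F 0) {n : ℕ} (hn : F n = ⊥)
    (hstep : ∀ i, ∀ x ∈ Q, x ∈ F i → x ^ Small.smallExp p = 1 → g * x * g⁻¹ * x⁻¹ ∈ F (i + 1)) :
    g ∈ Subgroup.centralizer (Q : Set G) := by
  set α : MulAut Q := Subgroup.normalizerMonoidHom Q ⟨g, hg⟩ with hα
  have hαv : ∀ x : Q, ((α x : Q) : G) = g * x * g⁻¹ := fun _ => rfl
  have hαp : (orderOf α).Coprime p := by
    refine Nat.Coprime.coprime_dvd_left ?_ hgp
    rw [← Subgroup.orderOf_mk g hg]
    exact orderOf_map_dvd _ _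
  obtain ⟨D, hD, hsmall, hdet⟩ := Small.exists_small_detecting (X := Q) hQ
  have hfix : ∀ i, i ≤ n → ∀ d ∈ D, ((d : Q) : G) ∈ F (n - i) → α d = d := by
    intro i
    induction i with
    | zero =>
      intro _ d _ hd
      rw [Nat.sub_zero, hn, Subgroup.mem_bot] at hd
      rw [show d = 1 from Subtype.ext hd, map_one]
    | succ i ih =>
      intro hi d hd hdF
      have hc : α d * d⁻¹ ∈ D := D.mul_mem (Small.apply_mem_of_char α hd) (D.inv_mem hd)
      have hcF : ((α d * d⁻¹ : Q) : G) ∈ F (n - i) := by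
        rw [show n - i = n - (i + 1) + 1 by omega, Subgroup.coe_mul, hαv, Subgroup.coe_inv]
        refine hstep _ _ d.2 hdF ?_
        rw [← SubmonoidClass.coe_pow, hsmall d hd, OneMemClass.coe_one]
      have hcfix := ih (by omega) _ hc hcF
      -- the displacement is fixed
      have h1 : α d⁻¹ = d⁻¹ := by
        refine Small.apply_eq_self_of_step hQ hαp ?_
        have e : (d⁻¹)⁻¹ * α d⁻¹ = (α d * d⁻¹)⁻¹ := by
          rw [inv_inv, map_inv, mul_inv_rev, inv_inv]
        rw [e, map_inv, hcfix]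
      rwa [map_inv, inv_inj] at h1
  have hD1 : ∀ d ∈ D, α d = d := fun d hd => hfix n le_rfl d hd (by
    rw [Nat.sub_self]
    exact h0 _ d.2 (by rw [← SubmonoidClass.coe_pow, hsmall d hd, OneMemClass.coe_one]))
  have h1 := hdet α hαp hD1
  intro x hx
  have h2 := hαv ⟨x, hx⟩
  rw [h1, MulAut.one_apply] at h2
  exact (mul_inv_eq_iff_eq_mul.1 h2.symm).symm

/-- If small elements are displaced into later terms of a series, then `G` is `p`-nilpotent. -/
theorem hasNormalPComplement_of_filtration (P : Sylow p G) (F : ℕ → Subgroup G)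
    (h0 : ∀ x ∈ (P : Subgroup G), x ^ Small.smallExp p = 1 → x ∈ F 0) {n : ℕ} (hn : F n = ⊥)
    (hstep : ∀ g : G, ∀ i, ∀ x ∈ (P : Subgroup G), x ∈ F i → x ^ Small.smallExp p = 1 →
      g * x * g⁻¹ ∈ (P : Subgroup G) → g * x * g⁻¹ * x⁻¹ ∈ F (i + 1)) :
    Cfsg.HasNormalPComplement p G := by
  have hcond : FrobeniusCond p G := frobeniusCond_of_sylow P fun Q hQP g hg hgp =>
    centralizes_of_filtration (P.2.to_le hQP) hg hgp F (fun x hx => h0 x (hQP hx)) hn
      fun i x hx hxF hxs => hstep g i x (hQP hx) hxF hxs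
        (hQP ((Subgroup.mem_normalizer_iff.1 hg x).1 hx))
  exact hasNormalPComplement_of_frobeniusCond hcond

end CfsgLib.SmallFusion
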