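import Mathlib.LinearAlgebra.Dimension.Finite
import Mathlib.LinearAlgebra.FiniteDimensional.Lemmas
import Mathlib.LinearAlgebra.Dimension.Constructions
import Mathlib.LinearAlgebra.Matrix.NonsingularInverse
import Mathlib.LinearAlgebra.Matrix.ToLin
import Mathlib.LinearAlgebra.Matrix.GeneralLinearGroup.Defs
import Mathlib.Tactic.LinearCombination

/-!
Simultaneous diagonalisation of commuting involutory matrices in characteristic `≠ 2`.
-/

set_option autoImplicit false

namespace CfsgLib.InvolutionDiag

open Matrix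

variable {F : Type*} [Field F] {n : ℕ}

/-- Joint eigenvectors of commuting involutions span everything. -/
theorem span_joint_eigen {ι : Type*} (h2 : (2 : F) ≠ 0) (A : ι → Matrix (Fin n) (Fin n) F)
    (hsq : ∀ i, A i * A i = 1) (hcomm : ∀ i j, A i * A j = A j * A i) (s : Finset ι) :
    Submodule.span F {v : Fin n → F | ∀ i ∈ s, A i *ᵥ v = v ∨ A i *ᵥ v = -v} = ⊤ := by
  classical
  induction s using Finset.induction_on with
  | empty => simp
  | @insert a s ha ih =>
    rw [eq_top_iff, ← ih, Submodule.span_le]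
    intro v hv
    have key : ∀ c : F, c = 1 ∨ c = -1 →
        v + c • (A a *ᵥ v) ∈ {w : Fin n → F | ∀ i ∈ insert a s, A i *ᵥ w = w ∨ A i *ᵥ w = -w} := by
      intro c hc i hi
      rcases Finset.mem_insert.mp hi with rfl | hi
      · rw [mulVec_add, mulVec_smul, mulVec_mulVec, hsq, one_mulVec]
        rcases hc with rfl | rfl
        · left; rw [one_smul, one_smul, add_comm]
        · right; simp [add_comm]
      · rcases hv i hi with e | e
        · left; rw [mulVec_add, mulVec_smul, mulVec_mulVec, hcomm, ← mulVec_mulVec, e]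
        · right; rw [mulVec_add, mulVec_smul, mulVec_mulVec, hcomm, ← mulVec_mulVec, e, mulVec_neg,
            smul_neg]; abel
    have e : v = (2 : F)⁻¹ • ((v + (1 : F) • (A a *ᵥ v)) + (v + (-1 : F) • (A a *ᵥ v))) := by
      funext j
      simp only [Pi.smul_apply, Pi.add_apply, smul_eq_mul]
      field_simp
      ring
    rw [SetLike.mem_coe, e]
    exact Submodule.smul_mem _ _ (Submodule.add_mem _ (Submodule.subset_span (key 1 (Or.inl rfl)))
      (Submodule.subset_span (key (-1) (Or.inr rfl))))

/-- Commuting involutory matrices are simultaneously diagonalisable with entries `± 1`. -/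
theorem exists_diag {ι : Type*} [Fintype ι] (h2 : (2 : F) ≠ 0) (A : ι → Matrix (Fin n) (Fin n) F)
    (hsq : ∀ i, A i * A i = 1) (hcomm : ∀ i j, A i * A j = A j * A i) :
    ∃ (P : GL (Fin n) F) (s : ι → Fin n → F), (∀ i j, s i j = 1 ∨ s i j = -1) ∧
      ∀ i, A i = P.1 * Matrix.diagonal (s i) * (P⁻¹).1 := by
  classical
  set S := {v : Fin n → F | ∀ i ∈ (Finset.univ : Finset ι), A i *ᵥ v = v ∨ A i *ᵥ v = -v}
  obtain ⟨b, hbS, hspan, hind⟩ := exists_linearIndependent F S
  rw [span_joint_eigen h2 A hsq hcomm] at hspan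
  let B := Module.Basis.mk hind (by rw [Subtype.range_coe_subtype]; exact hspan.ge)
  have : Fintype b := FiniteDimensional.fintypeBasisIndex B
  have hcard : Fintype.card b = n := by
    rw [← Module.finrank_eq_card_basis B, Module.finrank_fin_fun]
  let e : Fin n ≃ b := (Fintype.equivFinOfCardEq hcard).symm
  let P : Matrix (Fin n) (Fin n) F := Matrix.of fun i j => (e j : Fin n → F) i
  have hPu : IsUnit P := by
    rw [← Matrix.linearIndependent_cols_iff_isUnit]
    exact (linearIndependent_equiv e).mpr hind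
  have hval : ∀ i (j : Fin n), ∃ c : F, (c = 1 ∨ c = -1) ∧ A i *ᵥ (e j : Fin n → F) = c • (e j : Fin n → F) :=
    fun i j => by
      rcases hbS (e j).2 i (Finset.mem_univ i) with h | h
      · exact ⟨1, Or.inl rfl, by rw [h, one_smul]⟩
      · exact ⟨-1, Or.inr rfl, by rw [h, neg_one_smul]⟩
  choose s hs hAs using hval
  refine ⟨hPu.unit, s, hs, fun i => ?_⟩
  have hAP : A i * P = P * Matrix.diagonal (s i) := by
    ext k j
    rw [Matrix.mul_diagonal]
    have := congrFun (hAs i j) k
    simp only [Pi.smul_apply, smul_eq_mul] at this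
    rw [show (A i * P) k j = (A i *ᵥ (e j : Fin n → F)) k from rfl, this, mul_comm]
    rfl
  rw [IsUnit.unit_spec, ← hAP, Matrix.mul_assoc]
  have : P * ((hPu.unit⁻¹ : GL (Fin n) F)).1 = 1 := hPu.mul_val_inv
  rw [this, Matrix.mul_one]

end CfsgLib.InvolutionDiag
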