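import Mathlib
import Cfsg.Agent.Lib.Subnormal
import Cfsg.Agent.Lib.SylowExtra
import Cfsg.Agent.Lib.Fusion.ConstrainedGroups

/-!
The Sylow subgroup of the join of two subnormal subgroups is the join of their Sylow subgroups.
-/

set_option autoImplicit false
set_option linter.unusedVariables false

namespace CfsgLib.SubnormalSylow

open Cfsg CfsgLib
open scoped commutatorElement

universe u

variable {G : Type u} [Group G] [Finite G] {p : ℕ} [Fact p.Prime]

theorem map_inf_sylow {G' : Type*} [Group G'] (f : G →* G') (S : Sylow p G) {A : Subgroup G} (hA : A.IsSubnormal) :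
    A.map f ⊓ (S : Subgroup G).map f = (A ⊓ (S : Subgroup G)).map f := by
  obtain ⟨hle, hp, hidx⟩ := Cfsg.FusionSystem.isSylowIn_inf_of_isSubnormal S hA
  rw [inf_comm (S : Subgroup G) A] at hle hp hidx
  haveI : Finite ↥(A.map f) := Finite.of_surjective _ (f.subgroupMap_surjective A)
  refine le_antisymm ?_ (le_inf (Subgroup.map_mono inf_le_left) (Subgroup.map_mono inf_le_right))
  set P := (A ⊓ (S : Subgroup G)).map f with hP
  set Q := A.map f ⊓ (S : Subgroup G).map f
  have hPQ : P ≤ Q := le_inf (Subgroup.map_mono inf_le_left) (Subgroup.map_mono inf_le_right)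
  have hdvd : P.relIndex (A.map f) ∣ (A ⊓ (S : Subgroup G)).relIndex A := by
    have e : ((A ⊓ (S : Subgroup G)).subgroupOf A).map (f.subgroupMap A) = P.subgroupOf (A.map f) := by
      ext y
      constructor
      · rintro ⟨x, hx, rfl⟩
        exact ⟨(x : G), hx, rfl⟩
      · rintro ⟨x, hx, e⟩
        exact ⟨⟨x, hx.1⟩, hx, Subtype.ext e⟩
    rw [Subgroup.relIndex, Subgroup.relIndex, ← e]
    exact Subgroup.index_map_dvd _ (f.subgroupMap_surjective A)
  haveI : Finite ↥Q := Finite.of_injective _ (Subgroup.inclusion_injective (inf_le_left : Q ≤ A.map f))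
  have h1 : P.relIndex Q ∣ P.relIndex (A.map f) := Dvd.intro _ (Subgroup.relIndex_mul_relIndex P Q (A.map f) hPQ inf_le_left)
  have hQp : IsPGroup p ↥Q := (S.2.map f).to_le inf_le_right
  obtain ⟨k, hk⟩ := hQp.index (P.subgroupOf Q)
  rcases Nat.eq_zero_or_pos k with rfl | hk0
  · rw [pow_zero, Subgroup.index_eq_one] at hk
    exact Subgroup.subgroupOf_eq_top.mp hk
  · refine absurd (((dvd_pow_self p hk0.ne').trans (hk.symm.dvd.trans h1)).trans hdvd) hidx

theorem le_sup_of_normal (S : Sylow p G) (X Y : Subgroup G) [X.Normal] (hY : Y.IsSubnormal) (hXY : X ⊔ Y = ⊤) :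
    (S : Subgroup G) ≤ (X ⊓ (S : Subgroup G)) ⊔ (Y ⊓ (S : Subgroup G)) := by
  intro s hs
  have hYtop : Y.map (QuotientGroup.mk' X) = ⊤ := by
    rw [← Subgroup.map_top_of_surjective (QuotientGroup.mk' X) (QuotientGroup.mk'_surjective X), ← hXY,
      Subgroup.map_sup, QuotientGroup.map_mk'_self, bot_sup_eq]
  have h : QuotientGroup.mk' X s ∈ (Y ⊓ (S : Subgroup G)).map (QuotientGroup.mk' X) := by
    rw [← map_inf_sylow _ S hY, hYtop, top_inf_eq]
    exact ⟨s, hs, rfl⟩
  obtain ⟨y, hy, e⟩ := h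
  obtain ⟨z, hz, e'⟩ := (QuotientGroup.mk'_eq_mk' X).mp e
  rw [← e']
  exact Subgroup.mul_mem _ (Subgroup.mem_sup_right hy) (Subgroup.mem_sup_left
    ⟨hz, by have : z = y⁻¹ * s := by rw [← e', inv_mul_cancel_left]
            exact this ▸ Subgroup.mul_mem _ (Subgroup.inv_mem _ hy.2) hs⟩)

omit [Finite G] [Fact p.Prime] in
theorem sup_inf_normal {M A B : Subgroup G} [hM : M.Normal] (hA : M ≤ Subgroup.normalizer (A : Set G)) :
    A ≤ Subgroup.normalizer (((M ⊓ A) ⊔ (M ⊓ B) : Subgroup G) : Set G) := by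
  set W := (M ⊓ A) ⊔ (M ⊓ B)
  have h : ∀ a ∈ A, ∀ w ∈ W, a * w * a⁻¹ ∈ W := by
    intro a ha w hw
    have key : W ≤ W.comap (MulAut.conj a).toMonoidHom := by
      refine sup_le (fun x hx => Subgroup.mem_sup_left ⟨hM.conj_mem x hx.1 a, ?_⟩) fun x hx => ?_
      · exact A.mul_mem (A.mul_mem ha hx.2) (A.inv_mem ha)
      · show a * x * a⁻¹ ∈ W
        have h1 : a * x * a⁻¹ * x⁻¹ ∈ M ⊓ A := by
          refine ⟨M.mul_mem (hM.conj_mem x hx.1 a) (M.inv_mem hx.1), ?_⟩
          have := A.mul_mem ha ((Subgroup.mem_normalizer_iff.mp (hA hx.1) a⁻¹).mp (A.inv_mem ha))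
          simpa [mul_assoc] using this
        have := W.mul_mem (Subgroup.mem_sup_left h1 : _ ∈ W) (Subgroup.mem_sup_right hx : x ∈ W)
        simpa [mul_assoc] using this
    exact key hw
  intro a ha
  rw [Subgroup.mem_normalizer_iff]
  refine fun w => ⟨h a ha w, fun hw => ?_⟩
  simpa [mul_assoc] using h a⁻¹ (A.inv_mem ha) _ hw

theorem sylow_le_sup (S : Sylow p G) {A B : Subgroup G} (hA : A.IsSubnormal) (hB : B.IsSubnormal) (hAB : A ⊔ B = ⊤) :
    (S : Subgroup G) ≤ (A ⊓ (S : Subgroup G)) ⊔ (B ⊓ (S : Subgroup G)) := by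
  induction hn : Nat.card G using Nat.strong_induction_on generalizing G with
  | h n ih =>
    subst hn
    set T0 := (A ⊓ (S : Subgroup G)) ⊔ (B ⊓ (S : Subgroup G)) with hT0
    have hT0S : T0 ≤ (S : Subgroup G) := sup_le inf_le_right inf_le_right
    rcases subsingleton_or_nontrivial G with hG | hG
    · intro x _
      rw [Subsingleton.elim x 1]
      exact T0.one_mem
    by_contra hcon
    have hdec : ∀ M : Subgroup G, M.Normal → M ≠ ⊥ → ∀ s ∈ (S : Subgroup G), ∃ t ∈ T0, t⁻¹ * s ∈ M ⊓ (S : Subgroup G) := by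
      intro M hM hM0 s hs
      have hlt : Nat.card (G ⧸ M) < Nat.card G := by
        rw [Subgroup.card_eq_card_quotient_mul_card_subgroup M]
        haveI : Nontrivial M := (Subgroup.nontrivial_iff_ne_bot M).mpr hM0
        exact lt_mul_of_one_lt_right Nat.card_pos Finite.one_lt_card
      have h1 := ih _ hlt (S.mapSurjective (QuotientGroup.mk'_surjective M)) (hA.quotient (K := M)) (hB.quotient (K := M))
        (by rw [← Subgroup.map_sup, hAB, Subgroup.map_top_of_surjective _ (QuotientGroup.mk'_surjective M)]) rfl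
      rw [Sylow.coe_mapSurjective, map_inf_sylow _ S hA, map_inf_sylow _ S hB, ← Subgroup.map_sup] at h1
      obtain ⟨t, ht, e⟩ := h1 ⟨s, hs, rfl⟩
      obtain ⟨z, hz, e'⟩ := (QuotientGroup.mk'_eq_mk' M).mp e
      refine ⟨t, ht, ?_⟩
      rw [show t⁻¹ * s = z by rw [← e', inv_mul_cancel_left]]
      refine ⟨hz, ?_⟩
      have : z = t⁻¹ * s := by rw [← e', inv_mul_cancel_left]
      exact this ▸ Subgroup.mul_mem _ (Subgroup.inv_mem _ (hT0S ht)) hs
    have hmain : ∀ M : Subgroup G, M.Normal → M ≠ ⊥ →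
        (∀ K : Subgroup G, K.Normal → K ≤ M → K = ⊥ ∨ K = M) →
        ¬ M ⊓ (S : Subgroup G) ≤ T0 ∧ M ≤ Subgroup.center G ∧ Nat.card M = p := by
      intro M hM hM0 hmin
      have hnot : ¬ M ⊓ (S : Subgroup G) ≤ T0 := fun h => hcon fun s hs => by
        obtain ⟨t, ht, hts⟩ := hdec M hM hM0 s hs
        simpa using T0.mul_mem ht (h hts)
      have hMA := minimal_normal_le_normalizer hmin hA
      have hMB := minimal_normal_le_normalizer hmin hB
      set W := (M ⊓ A) ⊔ (M ⊓ B) with hW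
      haveI hWn : W.Normal := Subgroup.normalizer_eq_top_iff.mp (top_le_iff.mp (hAB.ge.trans (sup_le
        (sup_inf_normal hMA) (by rw [hW, sup_comm]; exact sup_inf_normal hMB))))
      rcases hmin W hWn (sup_le inf_le_left inf_le_left) with hW0 | hWM
      · have hc : ∀ m ∈ M, ∀ C : Subgroup G, M ≤ Subgroup.normalizer (C : Set G) → M ⊓ C ≤ W →
            C ≤ Subgroup.centralizer ({m} : Set G) := fun m hm C hMC hCW c hc => by
          have h1 : m * c * m⁻¹ * c⁻¹ ∈ M ⊓ C := by
            refine ⟨?_, C.mul_mem ((Subgroup.mem_normalizer_iff.mp (hMC hm) c).mp hc) (C.inv_mem hc)⟩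
            have := M.mul_mem hm (hM.conj_mem _ (M.inv_mem hm) c)
            simpa [mul_assoc] using this
          have h2 : m * c * m⁻¹ * c⁻¹ = 1 := Subgroup.mem_bot.mp (hW0 ▸ hCW h1)
          rw [Subgroup.mem_centralizer_singleton_iff]
          calc c * m = (m * c * m⁻¹ * c⁻¹)⁻¹ * (m * c) := by group
            _ = m * c := by rw [h2, inv_one, one_mul]
        have hcen : M ≤ Subgroup.center G := fun m hm => by
          rw [Subgroup.mem_center_iff]
          intro g
          exact Subgroup.mem_centralizer_singleton_iff.mp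
            ((hAB.ge.trans (sup_le (hc m hm A hMA le_sup_left) (hc m hm B hMB le_sup_right))) (Subgroup.mem_top g))
        refine ⟨hnot, hcen, ?_⟩
        obtain ⟨x, hx, hxT⟩ := SetLike.not_le_iff_exists.mp hnot
        have hx1 : x ≠ 1 := fun e => hxT (e ▸ T0.one_mem)
        obtain ⟨k, hk⟩ := S.2 ⟨x, hx.2⟩
        have hd : p ∣ orderOf x := by
          obtain ⟨i, -, e⟩ := (Nat.dvd_prime_pow Fact.out).mp (orderOf_dvd_of_pow_eq_one (congrArg Subtype.val hk : x ^ p ^ k = 1))
          rw [e]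
          refine dvd_pow_self p fun h0 => hx1 (orderOf_eq_one_iff.mp ?_)
          rw [e, h0, pow_zero]
        set y := x ^ (orderOf x / p)
        have hyo : orderOf y = p := orderOf_pow_orderOf_div (orderOf_pos x).ne' hd
        have hyM : Subgroup.zpowers y ≤ M := Subgroup.zpowers_le.mpr (M.pow_mem hx.1 _)
        haveI hyn : (Subgroup.zpowers y).Normal := ⟨fun n hn g => by
          rwa [Subgroup.mem_center_iff.mp (hcen (hyM hn)) g, mul_inv_cancel_right]⟩
        rcases hmin _ hyn hyM with h | h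
        · rw [Subgroup.zpowers_eq_bot] at h
          rw [h, orderOf_one] at hyo
          exact absurd hyo.symm (Fact.out : p.Prime).ne_one
        · rw [← h, Nat.card_zpowers, hyo]
      · exfalso
        refine hnot ?_
        haveI : ((M ⊓ A).subgroupOf M).Normal := ⟨fun n hn g =>
          ⟨M.mul_mem (M.mul_mem g.2 n.2) (M.inv_mem g.2), (Subgroup.mem_normalizer_iff.mp (hMA g.2) _).mp hn.2⟩⟩
        have htop : (M ⊓ A).subgroupOf M ⊔ (M ⊓ B).subgroupOf M = ⊤ := by
          rw [← Subgroup.subgroupOf_sup inf_le_left inf_le_left, ← hW, hWM, Subgroup.subgroupOf_self]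
        have h1 := le_sup_of_normal (sylowInfNormal S M) ((M ⊓ A).subgroupOf M) ((M ⊓ B).subgroupOf M)
          (hM.isSubnormal.inf hB).subgroupOf htop
        rw [coe_sylowInfNormal] at h1
        intro x hx
        have h2 := Subgroup.mem_map_of_mem M.subtype (h1 (show (⟨x, hx.1⟩ : M) ∈ _ from hx.2))
        rw [Subgroup.map_sup] at h2
        refine (sup_le ?_ ?_ : _ ≤ T0) h2
        · rintro _ ⟨y, hy, rfl⟩
          exact Subgroup.mem_sup_left ⟨hy.1.2, hy.2⟩
        · rintro _ ⟨y, hy, rfl⟩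
          exact Subgroup.mem_sup_right ⟨hy.1.2, hy.2⟩
    obtain ⟨M, hMn, -, hM0, hmin⟩ := exists_minimal_normal (N := (⊤ : Subgroup G)) top_ne_bot
    haveI := hMn
    obtain ⟨hMT, hMc, hMp⟩ := hmain M hMn hM0 hmin
    have hsmall : ∀ K : Subgroup G, K ≤ Subgroup.center G → Nat.card K = p → ¬ K ⊓ (S : Subgroup G) ≤ T0 := by
      intro K hKc hKp
      haveI hKn : K.Normal := ⟨fun n hn g => by rwa [Subgroup.mem_center_iff.mp (hKc hn) g, mul_inv_cancel_right]⟩
      have hK0 : K ≠ ⊥ := fun e => by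
        rw [e, Subgroup.card_bot] at hKp
        exact (Fact.out : p.Prime).ne_one hKp.symm
      refine (hmain K hKn hK0 fun L _ hL => ?_).1
      rcases (Nat.dvd_prime (Fact.out : p.Prime)).mp ((Subgroup.card_dvd_of_le hL).trans hKp.dvd) with h | h
      · exact Or.inl (Subgroup.eq_bot_of_card_eq L h)
      · exact Or.inr (Subgroup.eq_of_le_of_card_ge hL (by rw [h, hKp]))
    have hMS : M ≤ (S : Subgroup G) := pCore_le_sylow S |> (le_pCore (IsPGroup.of_card (n := 1) (by rw [hMp, pow_one]))).trans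
    have hMT0 : ∀ x ∈ M, x ∈ T0 → x = 1 := by
      intro x hx hxT
      haveI : Fact (Nat.card M).Prime := ⟨by rw [hMp]; exact Fact.out⟩
      rcases ((Subgroup.comap M.subtype T0).eq_bot_or_eq_top_of_prime_card) with h | h
      · have : (⟨x, hx⟩ : M) ∈ Subgroup.comap M.subtype T0 := hxT
        rw [h, Subgroup.mem_bot] at this
        exact congrArg Subtype.val this
      · exact absurd (fun y hy => (h.ge (Subgroup.mem_top (⟨y, hy.1⟩ : M)) : y ∈ T0)) hMT
    have huniq : ∀ K : Subgroup G, K.Normal → K ≠ ⊥ → M ≤ K := by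
      intro K hK hK0
      obtain ⟨L, hLn, hLK, hL0, hLmin⟩ := exists_minimal_normal hK0
      obtain ⟨hLT, hLc, hLp⟩ := hmain L hLn hL0 hLmin
      obtain ⟨x, hx, hxT⟩ := SetLike.not_le_iff_exists.mp hLT
      obtain ⟨t, ht, htM⟩ := hdec M hMn hM0 x hx.2
      rcases eq_or_ne t 1 with rfl | ht1
      · rw [inv_one, one_mul] at htM
        have hx1 : x ≠ 1 := fun e => hxT (e ▸ T0.one_mem)
        rcases hmin (L ⊓ M) inferInstance inf_le_right with h | h
        · exact absurd (Subgroup.mem_bot.mp (h ▸ ⟨hx.1, htM.1⟩ : x ∈ (⊥ : Subgroup G))) hx1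
        · exact (h.ge.trans inf_le_left).trans hLK
      · exfalso
        have htc : t ∈ Subgroup.center G := by
          have := Subgroup.mul_mem _ (hLc hx.1) (Subgroup.inv_mem _ (hMc htM.1))
          simpa [mul_assoc] using this
        have htp : t ^ p = 1 := by
          have e : t = x * (t⁻¹ * x)⁻¹ := by group
          rw [e, Commute.mul_pow ((Subgroup.mem_center_iff.mp (hLc hx.1) _).symm), inv_pow]
          have h1 : (⟨x, hx.1⟩ : L) ^ p = 1 := (congrArg (fun n => (⟨x, hx.1⟩ : L) ^ n) hLp).symm.trans pow_card_eq_one'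
          have h2 : (⟨t⁻¹ * x, htM.1⟩ : M) ^ p = 1 := (congrArg (fun n => (⟨t⁻¹ * x, htM.1⟩ : M) ^ n) hMp).symm.trans pow_card_eq_one'
          rw [show x ^ p = 1 from congrArg Subtype.val h1, show (t⁻¹ * x) ^ p = 1 from congrArg Subtype.val h2, inv_one, mul_one]
        exact hsmall (Subgroup.zpowers t) (Subgroup.zpowers_le.mpr htc)
          (by rw [Nat.card_zpowers, orderOf_eq_prime htp ht1]) (inf_le_left.trans (Subgroup.zpowers_le.mpr ht))
    haveI hT0n : (T0.subgroupOf (S : Subgroup G)).Normal := ⟨fun n hn g => by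
      obtain ⟨t, ht, htM⟩ := hdec M hMn hM0 g g.2
      show (g : G) * n * (g : G)⁻¹ ∈ T0
      have hc := Subgroup.mem_center_iff.mp (hMc htM.1) (n : G)
      rw [show (g : G) * n * (g : G)⁻¹ = t * ((t⁻¹ * g) * n * (t⁻¹ * g)⁻¹) * t⁻¹ by group, ← hc, mul_inv_cancel_right]
      exact T0.mul_mem (T0.mul_mem ht hn) (T0.inv_mem ht)⟩
    haveI : IsMulCommutative (↥(S : Subgroup G) ⧸ T0.subgroupOf (S : Subgroup G)) := ⟨⟨by
      have key : ∀ g : ↥(S : Subgroup G), ∃ m : ↥(S : Subgroup G), (m : G) ∈ M ∧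
          (g : ↥(S : Subgroup G) ⧸ T0.subgroupOf (S : Subgroup G)) = m := fun g => by
        obtain ⟨t, ht, htM⟩ := hdec M hMn hM0 g g.2
        refine ⟨⟨_, htM.2⟩, htM.1, ?_⟩
        rw [QuotientGroup.eq]
        show (g : G)⁻¹ * (t⁻¹ * g) ∈ T0
        rw [Subgroup.mem_center_iff.mp (hMc htM.1) (g : G)⁻¹, mul_inv_cancel_right]
        exact T0.inv_mem ht
      intro a b
      induction a using QuotientGroup.induction_on with | _ a => ?_
      induction b using QuotientGroup.induction_on with | _ b => ?_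
      obtain ⟨m, hm, ea⟩ := key a
      rw [ea, ← QuotientGroup.mk_mul, ← QuotientGroup.mk_mul]
      exact congrArg _ (Subtype.ext (Subgroup.mem_center_iff.mp (hMc hm) (b : G)).symm)⟩⟩
    letI : CommGroup (↥(S : Subgroup G) ⧸ T0.subgroupOf (S : Subgroup G)) :=
      { (inferInstance : Group (↥(S : Subgroup G) ⧸ T0.subgroupOf (S : Subgroup G))) with
        mul_comm := ‹IsMulCommutative (↥(S : Subgroup G) ⧸ T0.subgroupOf (S : Subgroup G))›.is_comm.comm }
    set f := MonoidHom.transfer (QuotientGroup.mk' (T0.subgroupOf (S : Subgroup G))) with hf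
    have hker : f.ker ⊓ M = ⊥ := by
      rw [Subgroup.eq_bot_iff_forall]
      rintro m ⟨hm, hmM⟩
      have key : ∀ (k : ℕ) (g₀ : G), g₀⁻¹ * m ^ k * g₀ ∈ (S : Subgroup G) → g₀⁻¹ * m ^ k * g₀ = m ^ k := fun k g₀ _ => by
        rw [mul_assoc, ← Subgroup.mem_center_iff.mp (hMc (M.pow_mem hmM k)) g₀, inv_mul_cancel_left]
      have hm : f m = 1 := hm
      rw [hf, MonoidHom.transfer_eq_pow _ m key, QuotientGroup.mk'_apply, QuotientGroup.eq_one_iff] at hm
      have h1 : m ^ (S : Subgroup G).index = 1 := hMT0 _ (M.pow_mem hmM _) hm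
      have h2 : (⟨m, hmM⟩ : M) ^ Nat.card M = 1 := pow_card_eq_one'
      rw [hMp] at h2
      have h2' : m ^ p = 1 := congrArg Subtype.val h2
      have := pow_gcd_eq_one.mpr ⟨h1, h2'⟩
      rwa [Nat.Coprime.gcd_eq_one (((Fact.out : p.Prime).coprime_iff_not_dvd.mpr S.not_dvd_index).symm), pow_one] at this
    have hker' : f.ker = ⊥ := by
      by_contra h
      exact hM0 (le_bot_iff.mp (hker ▸ le_inf (huniq _ inferInstance h) le_rfl))
    have hcomm : ∀ a b : G, a * b = b * a := fun a b => (MonoidHom.ker_eq_bot_iff _).mp hker' (by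
      rw [map_mul, map_mul]; exact ‹IsMulCommutative (↥(S : Subgroup G) ⧸ T0.subgroupOf (S : Subgroup G))›.is_comm.comm _ _)
    have hle : ∀ C : Subgroup G, C = ⊥ ∨ M ≤ C := fun C => by
      rcases eq_or_ne C ⊥ with h | h
      · exact Or.inl h
      · haveI : C.Normal := ⟨fun n hn g => by rwa [hcomm g n, mul_inv_cancel_right]⟩
        exact Or.inr (huniq C inferInstance h)
    rcases hle A with h | h
    · rcases hle B with h' | h'
      · rw [h, h', sup_bot_eq] at hAB
        exact bot_ne_top hAB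
      · exact hMT fun x hx => Subgroup.mem_sup_right ⟨h' hx.1, hx.2⟩
    · exact hMT fun x hx => Subgroup.mem_sup_left ⟨h hx.1, hx.2⟩

/-- `⟨A, B⟩ ∩ S = ⟨A ∩ S, B ∩ S⟩` for subnormal `A`, `B` and a Sylow subgroup `S`. -/
theorem sup_inf_sylow (S : Sylow p G) {A B : Subgroup G} (hA : A.IsSubnormal) (hB : B.IsSubnormal) :
    (A ⊔ B) ⊓ (S : Subgroup G) = (A ⊓ (S : Subgroup G)) ⊔ (B ⊓ (S : Subgroup G)) := by
  refine le_antisymm ?_ (sup_le (inf_le_inf_right _ le_sup_left) (inf_le_inf_right _ le_sup_right))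
  set X := A ⊔ B
  obtain ⟨P, hP⟩ : ∃ P : Sylow p ↥X, (P : Subgroup ↥X) = (S : Subgroup G).subgroupOf X := by
    obtain ⟨hle, hp, hidx⟩ := Cfsg.FusionSystem.isSylowIn_inf_of_isSubnormal S (isSubnormal_sup hA hB)
    refine ⟨IsPGroup.toSylow (P := (S : Subgroup G).subgroupOf X) (S.2.comap_of_injective X.subtype X.subtype_injective) ?_, rfl⟩
    rwa [Subgroup.relIndex, Subgroup.inf_subgroupOf_right] at hidx
  have h := sylow_le_sup P (hA.subgroupOf (K := X)) (hB.subgroupOf (K := X))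
    (by rw [← Subgroup.subgroupOf_sup le_sup_left le_sup_right, Subgroup.subgroupOf_self])
  rw [hP] at h
  intro x hx
  have h2 := Subgroup.mem_map_of_mem X.subtype (h (show (⟨x, hx.1⟩ : X) ∈ _ from hx.2))
  rw [Subgroup.map_sup] at h2
  refine (sup_le ?_ ?_ : _ ≤ (A ⊓ (S : Subgroup G)) ⊔ (B ⊓ (S : Subgroup G))) h2
  · rintro _ ⟨y, hy, rfl⟩
    exact Subgroup.mem_sup_left hy
  · rintro _ ⟨y, hy, rfl⟩
    exact Subgroup.mem_sup_right hy

end CfsgLib.SubnormalSylow
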