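import Cfsg.Prelude.Def_PLocal
import Mathlib.Data.ZMod.Basic
import Mathlib.Tactic.FinCases
import Mathlib.Tactic.LinearCombination
import Mathlib.Algebra.Field.ZMod
import Mathlib.GroupTheory.Commutator.Basic

/-! The group `Qd(p)`: elements, translations, generation, perfectness. -/

set_option autoImplicit false
set_option linter.unusedSectionVars false

namespace CfsgLib.Qd

open scoped commutatorElement

variable {p : ℕ} [hp : Fact p.Prime]

local notation "F" => ZMod p

/-- The matrix with linear part `(a b; c d)` and translation part `(x, y)`. -/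
def mat (a b c d x y : F) : Matrix (Fin 3) (Fin 3) F := !![a, b, x; c, d, y; 0, 0, 1]

/-- The carrier of `Qd(p)`. -/
def affine (p : ℕ) [Fact p.Prime] : Subgroup (Matrix.SpecialLinearGroup (Fin 3) (ZMod p)) where
  carrier := {M | (M : Matrix (Fin 3) (Fin 3) (ZMod p)) 2 0 = 0 ∧
    (M : Matrix (Fin 3) (Fin 3) (ZMod p)) 2 1 = 0 ∧ (M : Matrix (Fin 3) (Fin 3) (ZMod p)) 2 2 = 1}
  one_mem' := by simp
  mul_mem' := fun {A B} hA hB => by
    obtain ⟨a0, a1, a2⟩ := hA
    obtain ⟨b0, b1, b2⟩ := hB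
    simp [Matrix.mul_apply, Fin.sum_univ_three, a0, a1, a2, b0, b1, b2]
  inv_mem' := fun {A} hA => by
    obtain ⟨a0, a1, a2⟩ := hA
    have hdet := A.det_coe
    rw [Matrix.det_fin_three] at hdet
    simp only [a0, a1, a2] at hdet
    refine ⟨?_, ?_, ?_⟩ <;>
      simp [Matrix.SpecialLinearGroup.coe_inv, Matrix.adjugate_fin_three, a0, a1, a2]
    linear_combination hdet

theorem qd_eq : Cfsg.qd p = affine p := Subgroup.closure_eq (affine p)

theorem mem_qd {M : Matrix.SpecialLinearGroup (Fin 3) F} :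
    M ∈ Cfsg.qd p ↔ (M : Matrix (Fin 3) (Fin 3) F) 2 0 = 0 ∧
      (M : Matrix (Fin 3) (Fin 3) F) 2 1 = 0 ∧ (M : Matrix (Fin 3) (Fin 3) F) 2 2 = 1 := by
  rw [qd_eq]; rfl

/-- An element of `Qd(p)`. -/
def el (a b c d x y : F) (h : a * d - b * c = 1) : Cfsg.qd p :=
  ⟨⟨mat a b c d x y, by simp [mat, Matrix.det_fin_three]; linear_combination h⟩,
    mem_qd.2 (by simp [mat])⟩

theorem exists_el (g : Cfsg.qd p) : ∃ a b c d x y h, g = el a b c d x y h := by
  obtain ⟨⟨M, hM⟩, hg⟩ := g
  obtain ⟨h0, h1, h2⟩ := mem_qd.1 hg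
  simp only at h0 h1 h2
  refine ⟨M 0 0, M 0 1, M 1 0, M 1 1, M 0 2, M 1 2, ?_, ?_⟩
  · rw [Matrix.det_fin_three] at hM
    simp only [h0, h1, h2] at hM
    linear_combination hM
  · refine Subtype.ext (Subtype.ext ?_)
    ext i j
    fin_cases i <;> fin_cases j <;> simp [el, mat, h0, h1, h2]

theorem el_mul {a b c d x y a' b' c' d' x' y' : F} (h : a * d - b * c = 1)
    (h' : a' * d' - b' * c' = 1) :
    el a b c d x y h * el a' b' c' d' x' y' h' =
      el (a * a' + b * c') (a * b' + b * d') (c * a' + d * c') (c * b' + d * d')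
        (a * x' + b * y' + x) (c * x' + d * y' + y)
        (by linear_combination (a' * d' - b' * c') * h + h') := by
  refine Subtype.ext (Subtype.ext ?_)
  ext i j
  show (mat a b c d x y * mat a' b' c' d' x' y') i j = _
  fin_cases i <;> fin_cases j <;> simp [el, mat, Matrix.mul_apply, Fin.sum_univ_three]

theorem el_congr {a b c d x y a' b' c' d' x' y' : F} {h h'} (e1 : a = a') (e2 : b = b') (e3 : c = c')
    (e4 : d = d') (e5 : x = x') (e6 : y = y') : el a b c d x y h = el a' b' c' d' x' y' h' := by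
  subst e1 e2 e3 e4 e5 e6; rfl

theorem el_one : (1 : Cfsg.qd p) = el 1 0 0 1 0 0 (by ring) := by
  refine Subtype.ext (Subtype.ext ?_)
  ext i j
  fin_cases i <;> fin_cases j <;> simp [el, mat]

/-- Translations. -/
def tr (x y : F) : Cfsg.qd p := el 1 0 0 1 x y (by ring)

theorem tr_mul (x y x' y' : F) : tr x y * tr x' y' = tr (x + x') (y + y') := by
  rw [tr, tr, el_mul]; exact el_congr (by ring) (by ring) (by ring) (by ring) (by ring) (by ring)

theorem tr_zero : tr 0 0 = (1 : Cfsg.qd p) := el_one.symm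

theorem tr_inv (x y : F) : (tr x y)⁻¹ = tr (-x) (-y) := by
  rw [inv_eq_iff_mul_eq_one, tr_mul, ← tr_zero, add_neg_cancel, add_neg_cancel]

theorem tr_injective {x y x' y' : F} (h : tr x y = tr x' y') : x = x' ∧ y = y' := by
  have h' := congrArg (fun g : Cfsg.qd p => ((g : Matrix.SpecialLinearGroup (Fin 3) F) : Matrix (Fin 3) (Fin 3) F)) h
  exact ⟨by simpa [tr, el, mat] using congrFun₂ h' 0 2, by simpa [tr, el, mat] using congrFun₂ h' 1 2⟩

/-- The translation subgroup. -/
def W (p : ℕ) [Fact p.Prime] : Subgroup (Cfsg.qd p) where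
  carrier := {g | ∃ x y, g = tr x y}
  one_mem' := ⟨0, 0, tr_zero.symm⟩
  mul_mem' := fun {g g'} hg hg' => by
    obtain ⟨x, y, rfl⟩ := hg
    obtain ⟨x', y', rfl⟩ := hg'
    exact ⟨_, _, tr_mul x y x' y'⟩
  inv_mem' := fun {g} hg => by
    obtain ⟨x, y, rfl⟩ := hg
    exact ⟨_, _, tr_inv x y⟩

theorem tr_mem (x y : F) : tr x y ∈ W p := ⟨x, y, rfl⟩

theorem card_W : Nat.card (W p) = p ^ 2 := by
  let f : F × F → W p := fun v => ⟨tr v.1 v.2, tr_mem _ _⟩
  have hf : Function.Bijective f :=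
    ⟨fun a b h => by
      obtain ⟨h1, h2⟩ := tr_injective (Subtype.ext_iff.1 h)
      exact Prod.ext h1 h2,
     fun ⟨g, x, y, hg⟩ => ⟨(x, y), Subtype.ext hg.symm⟩⟩
  rw [← Nat.card_congr (Equiv.ofBijective f hf), Nat.card_prod, Nat.card_zmod, pow_two]

theorem isPGroup_W : IsPGroup p (W p) := IsPGroup.of_card card_W

theorem el_mul_tr {a b c d x y : F} (h : a * d - b * c = 1) (u v : F) :
    el a b c d x y h * tr u v = tr (a * u + b * v) (c * u + d * v) * el a b c d x y h := by
  rw [tr, tr, el_mul, el_mul]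
  exact el_congr (by ring) (by ring) (by ring) (by ring) (by ring) (by ring)

instance W_normal : (W p).Normal := ⟨fun n hn g => by
  obtain ⟨u, v, rfl⟩ := hn
  obtain ⟨a, b, c, d, x, y, h, rfl⟩ := exists_el g
  exact ⟨_, _, mul_inv_eq_iff_eq_mul.2 (el_mul_tr h u v)⟩⟩

/-- Upper unitriangular elements. -/
def up (c : F) : Cfsg.qd p := el 1 c 0 1 0 0 (by ring)

/-- Lower unitriangular elements. -/
def low (c : F) : Cfsg.qd p := el 1 0 c 1 0 0 (by ring)

/-- The element `(0 1; -1 0)`. -/
def w : Cfsg.qd p := el 0 1 (-1) 0 0 0 (by ring)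

/-- The element `-1`. -/
def z : Cfsg.qd p := el (-1) 0 0 (-1) 0 0 (by ring)

theorem two_ne_zero' (hp3 : 3 < p) : (2 : F) ≠ 0 := by
  intro h
  have : ((2 : ℕ) : F) = 0 := by exact_mod_cast h
  rw [ZMod.natCast_eq_zero_iff] at this
  have := Nat.le_of_dvd (by norm_num) this
  omega

theorem three_ne_zero' (hp3 : 3 < p) : (3 : F) ≠ 0 := by
  intro h
  have : ((3 : ℕ) : F) = 0 := by exact_mod_cast h
  rw [ZMod.natCast_eq_zero_iff] at this
  have := Nat.le_of_dvd (by norm_num) this
  omega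

/-- The element `(2 0; 0 1/2)`. -/
def hd (hp3 : 3 < p) : Cfsg.qd p :=
  el 2 0 0 (2 : F)⁻¹ 0 0 (by rw [mul_inv_cancel₀ (two_ne_zero' hp3)]; ring)

theorem up_add (c c' : F) : up c * up c' = up (c + c') := by
  rw [up, up, el_mul]; exact el_congr (by ring) (by ring) (by ring) (by ring) (by ring) (by ring)

theorem up_pow (c : F) (n : ℕ) : up c ^ n = up ((n : F) * c) := by
  induction n with
  | zero => rw [pow_zero, el_one, up]; exact el_congr rfl (by simp) rfl rfl rfl rfl
  | succ n ih => rw [pow_succ, ih, up_add]; congr 1; push_cast; ring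

theorem up_one_pow_val (c : F) : up (1 : F) ^ c.val = up c := by
  rw [up_pow, mul_one, ZMod.natCast_zmod_val]

theorem up_pow_p : up (1 : F) ^ p = 1 := by
  rw [up_pow, ZMod.natCast_self, zero_mul, el_one]; rfl

theorem up_mem_W_iff (c : F) : up c ∈ W p ↔ c = 0 := by
  constructor
  · rintro ⟨x, y, h⟩
    have h' := congrArg (fun g : Cfsg.qd p => ((g : Matrix.SpecialLinearGroup (Fin 3) F) : Matrix (Fin 3) (Fin 3) F)) h
    simpa [up, tr, el, mat] using congrFun₂ h' 0 1
  · rintro rfl
    exact ⟨0, 0, rfl⟩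

theorem conj_up (c : F) : w * up c = low (-c) * w := by
  rw [up, low, w, el_mul, el_mul]; exact el_congr (by ring) (by ring) (by ring) (by ring) (by ring) (by ring)

theorem w_mul_w : (w : Cfsg.qd p) * w = z := by
  rw [w, z, el_mul]; exact el_congr (by ring) (by ring) (by ring) (by ring) (by ring) (by ring)

theorem z_mul_z : (z : Cfsg.qd p) * z = 1 := by
  rw [z, el_mul, el_one]; exact el_congr (by ring) (by ring) (by ring) (by ring) (by ring) (by ring)

theorem z_up (c : F) : z * up c = up c * z := by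
  rw [up, z, el_mul, el_mul]; exact el_congr (by ring) (by ring) (by ring) (by ring) (by ring) (by ring)

theorem z_tr (x y : F) : z * tr x y * z⁻¹ = tr (-x) (-y) := by
  rw [mul_inv_eq_iff_eq_mul]
  unfold z
  rw [el_mul_tr]
  congr 2 <;> ring

theorem z_inverts {g : Cfsg.qd p} (hg : g ∈ W p) : z * g * z⁻¹ = g⁻¹ := by
  obtain ⟨x, y, rfl⟩ := hg
  rw [z_tr, tr_inv]

theorem up_tr (c x y : F) : up c * tr x y * (up c)⁻¹ = tr (x + c * y) y := by
  rw [mul_inv_eq_iff_eq_mul]
  unfold up
  rw [el_mul_tr]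
  congr 2 <;> ring

theorem w_tr (x y : F) : w * tr x y * w⁻¹ = tr y (-x) := by
  rw [mul_inv_eq_iff_eq_mul]
  unfold w
  rw [el_mul_tr]
  congr 2 <;> ring

theorem up_sq {g : Cfsg.qd p} (hg : g ∈ W p) :
    ⁅up (1 : F), ⁅up (1 : F), g⁆⁆ = 1 := by
  obtain ⟨x, y, rfl⟩ := hg
  simp only [commutatorElement_def, up_tr, tr_inv, tr_mul]
  rw [← tr_zero]
  congr 1 <;> ring

theorem hd_up (hp3 : 3 < p) : hd hp3 * up 1 = up 1 ^ 4 * hd hp3 := by
  rw [up_pow]
  unfold hd up
  rw [el_mul, el_mul]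
  have h2 := mul_inv_cancel₀ (two_ne_zero' (p := p) hp3)
  refine el_congr (by ring) ?_ (by ring) (by ring) (by ring) (by ring)
  push_cast
  linear_combination (-2 : F) * h2

/-- `W` is a minimal normal subgroup. -/
theorem W_irreducible {N : Subgroup (Cfsg.qd p)} [hN : N.Normal] (hNW : N ≤ W p) (hne : N ≠ ⊥) :
    W p ≤ N := by
  have scale : ∀ (x y k : F), tr x y ∈ N → tr (k * x) (k * y) ∈ N := by
    intro x y k h
    have key : ∀ n : ℕ, tr ((n : F) * x) ((n : F) * y) ∈ N := by
      intro n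
      induction n with
      | zero => simp [tr_zero]
      | succ n ih =>
        have := N.mul_mem ih h
        rw [tr_mul] at this
        convert this using 2 <;> push_cast <;> ring
    simpa using key k.val
  obtain ⟨g, hg, hg1⟩ := (Subgroup.bot_or_exists_ne_one N).resolve_left hne
  obtain ⟨x, y, rfl⟩ := hNW hg
  obtain ⟨a, ha, ha0⟩ : ∃ a : F, tr a 0 ∈ N ∧ a ≠ 0 := by
    by_cases hy : y = 0
    · subst hy
      exact ⟨x, hg, fun h => hg1 (by rw [h, tr_zero])⟩
    · refine ⟨y, ?_, hy⟩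
      have := N.mul_mem (hN.conj_mem _ hg (up 1)) (N.inv_mem hg)
      rw [up_tr, tr_inv, tr_mul] at this
      convert this using 2 <;> ring
  have hx : ∀ u : F, tr u 0 ∈ N := fun u => by
    have := scale a 0 (u * a⁻¹) ha
    rwa [mul_assoc, inv_mul_cancel₀ ha0, mul_one, mul_zero] at this
  rintro _ ⟨u, v, rfl⟩
  have h1 := hN.conj_mem _ (hx (-v)) w
  rw [w_tr, neg_neg] at h1
  have := N.mul_mem (hx u) h1
  rwa [tr_mul, add_zero, zero_add] at this

theorem closure_gen :
    Subgroup.closure ((W p : Set (Cfsg.qd p)) ∪ {up 1, w * up 1 * w⁻¹}) = ⊤ := by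
  set S := Subgroup.closure ((W p : Set (Cfsg.qd p)) ∪ {up 1, w * up 1 * w⁻¹})
  have hU : ∀ c, up c ∈ S := fun c =>
    up_one_pow_val c ▸ S.pow_mem (Subgroup.subset_closure (Or.inr (Or.inl rfl))) _
  have hL : ∀ c, low c ∈ S := fun c => by
    have e : low c = (w * up 1 * w⁻¹) ^ (-c).val := by
      rw [conj_pow, up_one_pow_val, conj_up, neg_neg, mul_inv_cancel_right]
    exact e ▸ S.pow_mem (Subgroup.subset_closure (Or.inr (Or.inr rfl))) _
  have key : ∀ a b c d : F, ∀ h : a * d - b * c = 1, c ≠ 0 → el a b c d 0 0 h ∈ S := by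
    intro a b c d h hc
    have e : el a b c d 0 0 h = up ((a - 1) * c⁻¹) * low c * up ((d - 1) * c⁻¹) := by
      unfold up low
      rw [el_mul, el_mul]
      have hi := mul_inv_cancel₀ hc
      refine el_congr ?_ ?_ ?_ ?_ (by ring) (by ring)
      · linear_combination (-(a - 1)) * hi
      · linear_combination (-c⁻¹) * h + (-b) * hi - ((a - 1) * (d - 1) * c⁻¹) * hi
      · ring
      · linear_combination (-(d - 1)) * hi
    rw [e]
    exact S.mul_mem (S.mul_mem (hU _) (hL c)) (hU _)
  refine top_le_iff.1 fun g _ => ?_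
  obtain ⟨a, b, c, d, x, y, h, rfl⟩ := exists_el g
  have hlin : el a b c d 0 0 h ∈ S := by
    by_cases hc : c = 0
    · have hd : d ≠ 0 := fun hd => by simp [hc, hd] at h
      have := key (a + b) b d d (by subst hc; linear_combination h) hd
      have e : el a b c d 0 0 h = el (a + b) b d d 0 0 (by subst hc; linear_combination h) * low (-1) := by
        unfold low
        rw [el_mul]
        exact el_congr (by ring) (by ring) (by rw [hc]; ring) (by ring) (by ring) (by ring)
      rw [e]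
      exact S.mul_mem this (hL _)
    · exact key a b c d h hc
  have e : el a b c d x y h = tr x y * el a b c d 0 0 h := by
    unfold tr
    rw [el_mul]
    exact el_congr (by ring) (by ring) (by ring) (by ring) (by ring) (by ring)
  rw [e]
  exact S.mul_mem (Subgroup.subset_closure (Or.inl (tr_mem x y))) hlin

theorem perfect (hp3 : 3 < p) : commutator (Cfsg.qd p) = ⊤ := by
  rw [← top_le_iff, ← closure_gen, Subgroup.closure_le]
  have hT : up (1 : F) ∈ commutator (Cfsg.qd p) := by
    have h3 : up (1 : F) ^ 3 ∈ commutator (Cfsg.qd p) := by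
      have e : ⁅hd hp3, up (1 : F)⁆ = up 1 ^ 3 := by
        rw [commutatorElement_def, hd_up hp3, mul_inv_cancel_right, pow_succ _ 3, mul_inv_cancel_right]
      rw [← e, commutator_def]
      exact Subgroup.commutator_mem_commutator (Subgroup.mem_top _) (Subgroup.mem_top _)
    have e : (up (1 : F) ^ 3) ^ ((3 : F)⁻¹).val = up 1 := by
      rw [up_pow, up_pow, ZMod.natCast_zmod_val]
      congr 1
      push_cast
      rw [mul_one, inv_mul_cancel₀ (three_ne_zero' hp3)]
    exact e ▸ Subgroup.pow_mem _ h3 _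
  rintro g (hg | rfl | rfl)
  · obtain ⟨x, y, rfl⟩ := hg
    have e : ⁅(z : Cfsg.qd p), tr (-x * (2 : F)⁻¹) (-y * (2 : F)⁻¹)⁆ = tr x y := by
      rw [commutatorElement_def, z_tr, tr_inv, tr_mul]
      have h2 := mul_inv_cancel₀ (two_ne_zero' (p := p) hp3)
      congr 1
      · linear_combination x * h2
      · linear_combination y * h2
    rw [← e, commutator_def]
    exact Subgroup.commutator_mem_commutator (Subgroup.mem_top _) (Subgroup.mem_top _)
  · exact hT
  · exact (inferInstance : (commutator (Cfsg.qd p)).Normal).conj_mem _ hT w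

end CfsgLib.Qd
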