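import Cfsg.Agent.Lib.Blocks.PrincipalLinear
import Cfsg.Agent.Lib.Blocks.Vanishing
import Cfsg.Agent.Lib.CharTheory.Burnside
import Cfsg.Agent.Lib.Components
import Cfsg.Agent.Lib.PSolvable

/-!
# Elements with class of prime power size (Kazarin)
-/

namespace CfsgLib.Kazarin

open Cfsg CfsgLib.CharTheory CfsgLib.Blocks
open scoped ComplexConjugate commutatorElement

set_option linter.unusedVariables false
set_option linter.style.haveILetI false
set_option linter.unusedSectionVars false

universe u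

variable {X : Type u} [Group X] [Finite X]

/-- An element with class of prime power size acts as a scalar in a character of the principal
block for another prime, nontrivial on the given normal subgroup. -/
theorem exists_scalar_character {p : ℕ} (hp : p.Prime) (N : Subgroup X) [N.Normal] (x : X)
    (hgen : N ⊔ Subgroup.zpowers x = ⊤) (hx : ¬ p ∣ orderOf x) {a : ℕ}
    (hcl : (Subgroup.centralizer ({x} : Set X)).index = p ^ a)
    {r : ℕ} (hr : r.Prime) (hrp : r ≠ p) (hrN : r ∣ Nat.card N) :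
    ∃ χ : IrrCharacter X, (∃ n ∈ N, (χ : X → ℂ) n ≠ (χ : X → ℂ) 1) ∧
      ∀ n : X, (χ : X → ℂ) (n * x * n⁻¹ * x⁻¹) = (χ : X → ℂ) 1 := by
  classical
  haveI := Fintype.ofFinite X
  haveI := Fact.mk hp
  haveI := Fact.mk hr
  obtain ⟨M, hM⟩ := exists_isPModular hr
  haveI := res_charP hM
  by_contra hcon
  push Not at hcon
  have hspec : ∀ χ : IrrCharacter X, (χ : X → ℂ) 1 = (charDegree (χ : X → ℂ) : ℂ) :=
    fun χ => (charDegree_spec' χ.2).1
  -- characters of the principal block of degree prime to `p`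
  have key : ∀ χ ∈ bset (principalBlock M X), ¬ p ∣ charDegree (χ : X → ℂ) →
      (∀ n ∈ N, (χ : X → ℂ) n = (χ : X → ℂ) 1) ∧ charDegree (χ : X → ℂ) = 1 := by
    intro χ hχ hd
    rw [mem_bset] at hχ
    have hne : (χ : X → ℂ) x ≠ 0 := by
      intro h0
      have h : MemLocalIdeal M (centralChar (fun _ : X => (1 : ℂ)) x -
          centralChar (χ : X → ℂ) x) := hχ x
      simp only [centralChar, h0, mul_zero, zero_div, sub_zero, mul_one, div_one, hcl] at h
      rw [← res_eq_zero_iff hM (memRing_natCast hM _), res_natCast,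
        CharP.cast_eq_zero_iff (AlgInt ⧸ M) r] at h
      exact hrp ((Nat.prime_dvd_prime_iff_eq hr hp).1 (hr.dvd_of_dvd_pow h))
    have h1 := hspec χ
    obtain ⟨χ, n, ρ, hρ, rfl⟩ := χ
    simp only at h1 hd hne hcon ⊢
    haveI := hρ
    have hfd : charDegree ρ.character = Module.finrank ℂ (Fin n → ℂ) := by
      rw [ρ.char_one] at h1
      exact_mod_cast h1.symm
    rw [hfd] at hd
    have hcop : Nat.Coprime (Module.finrank ℂ (Fin n → ℂ))
        (Subgroup.centralizer ({x} : Set X)).index := by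
      rw [hcl]
      exact Nat.Coprime.pow_right a (hp.coprime_iff_not_dvd.2 hd).symm
    obtain ⟨ω, hω⟩ := (norm_character_eq_iff ρ x).1
      ((zero_or_norm_of_coprime ρ x hcop).resolve_left hne)
    have hcomm : ∀ g : X, ρ.character (g * x * g⁻¹ * x⁻¹) = ρ.character 1 := by
      intro g
      have hgx : ρ (g * x * g⁻¹ * x⁻¹) = 1 := by
        have e : ρ g * ρ x = ρ x * ρ g := by
          rw [hω]; ext v; simp
        rw [map_mul, map_mul, map_mul, e, mul_assoc (ρ x), ← map_mul ρ g g⁻¹, mul_inv_cancel,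
          map_one, mul_one, ← map_mul, mul_inv_cancel, map_one]
      simp only [Representation.character, hgx, map_one]
    have hker : ∀ g ∈ N, ρ.character g = ρ.character 1 := by
      by_contra hh
      push Not at hh
      obtain ⟨g, hg, hgne⟩ := hh
      obtain ⟨m, hm⟩ := hcon ⟨ρ.character, n, ρ, hρ, rfl⟩ ⟨g, hg, hgne⟩
      exact hm (hcomm m)
    refine ⟨hker, ?_⟩
    -- all elements act as scalars
    let S : Subgroup X :=
      { carrier := {g | ∃ c : ℂ, ρ g = c • LinearMap.id}
        one_mem' := ⟨1, by rw [map_one, one_smul]; rfl⟩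
        mul_mem' := by
          rintro g h ⟨c, hc⟩ ⟨d, hd⟩
          exact ⟨c * d, by rw [map_mul, hc, hd]; ext v; simp [mul_smul, mul_left_comm, mul_comm, mul_assoc]⟩
        inv_mem' := by
          rintro g ⟨c, hc⟩
          refine ⟨c⁻¹, ?_⟩
          have e1 : ρ g * ρ g⁻¹ = 1 := by rw [← map_mul, mul_inv_cancel, map_one]
          refine LinearMap.ext fun v => ?_
          have e2 := LinearMap.congr_fun e1 v
          rw [hc] at e2
          simp only [Module.End.mul_apply, LinearMap.smul_apply, LinearMap.id_apply,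
            Module.End.one_apply] at e2
          rcases eq_or_ne c 0 with rfl | hc0
          · rw [zero_smul] at e2
            simp [← e2]
          · rw [LinearMap.smul_apply, LinearMap.id_apply]
            exact (inv_smul_smul₀ hc0 _).symm.trans (by rw [e2]) }
    have hS : S = ⊤ := top_le_iff.1 (hgen ▸ sup_le (fun g hg => ⟨1, by
      rw [rep_apply_eq_one_of_char_eq ρ (hker g hg), one_smul]; rfl⟩)
      (Subgroup.zpowers_le.2 ⟨ω, hω⟩))
    have hsum := sum_norm_sq_irr (χ := ρ.character) ⟨n, ρ, hρ, rfl⟩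
    rw [Finset.sum_congr rfl fun g _ => by
      rw [(norm_character_eq_iff ρ g).2 (show g ∈ S by rw [hS]; exact Subgroup.mem_top g)],
      Finset.sum_const, Finset.card_univ, nsmul_eq_mul, ← Nat.card_eq_fintype_card] at hsum
    rw [hfd]
    have : ((Module.finrank ℂ (Fin n → ℂ) : ℝ)) ^ 2 = 1 := by
      have hX : (Nat.card X : ℝ) ≠ 0 := Nat.cast_ne_zero.2 Nat.card_pos.ne'
      exact mul_left_cancel₀ hX (hsum.trans (mul_one _).symm)
    have h' : Module.finrank ℂ (Fin n → ℂ) ^ 2 = 1 := by exact_mod_cast this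
    simpa using h'
  -- weak orthogonality against an element of order `r` of `N`
  obtain ⟨u, hu⟩ := exists_prime_orderOf_dvd_card' r hrN
  have h0 := weak_orth hM (principalBlock_isPBlock (M := M) (G := X)) (x := (1 : X)) (y := (u : X))
    (by rw [orderOf_one]; exact hr.not_dvd_one) (by rw [Subgroup.orderOf_coe, hu])
  -- the linear characters of the block trivial on `N`
  let H : Subgroup (X →* ℂˣ) :=
    { carrier := {φ | PrincipalLinear.linIrr φ ∈ principalBlock M X ∧ ∀ g ∈ N, φ g = 1}
      one_mem' := ⟨PrincipalLinear.lin_mem_principal.2 fun g => by simp [memIdeal_zero hM],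
        fun _ _ => rfl⟩
      mul_mem' := fun {a b} ha hb => ⟨PrincipalLinear.lin_principal_mul hM ha.1 hb.1,
        fun g hg => by simp [MonoidHom.mul_apply, ha.2 g hg, hb.2 g hg]⟩
      inv_mem' := fun {a} ha => ⟨PrincipalLinear.lin_principal_inv hM ha.1, fun g hg => by
        simp [ha.2 g hg]⟩ }
  haveI : Finite (X →* ℂˣ) := Finite.of_equiv _ (linearEquivHom (G := X))
  have hH : ¬ p ∣ Nat.card H := by
    intro hd
    obtain ⟨φ, hφ⟩ := exists_prime_orderOf_dvd_card' p hd
    have hp1 : (φ : X →* ℂˣ) ^ p = 1 := congrArg Subtype.val (orderOf_dvd_iff_pow_eq_one.1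
      (by rw [hφ]) : φ ^ p = 1)
    have hle : (⊤ : Subgroup X) ≤ (φ : X →* ℂˣ).ker := hgen ▸ sup_le φ.2.2
      (Subgroup.zpowers_le.2 (orderOf_eq_one_iff.1 (Nat.eq_one_of_dvd_coprimes
        ((hp.coprime_iff_not_dvd.2 hx).symm) (orderOf_map_dvd (φ : X →* ℂˣ) x)
        (orderOf_dvd_of_pow_eq_one (by rw [← MonoidHom.pow_apply, hp1]; rfl)))))
    rw [show φ = 1 from Subtype.ext (MonoidHom.ext fun g => hle (Subgroup.mem_top g)),
      orderOf_one] at hφ
    exact hp.one_lt.ne hφ
  apply hH
  set B := bset (principalBlock M X) with hB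
  set A := B.filter fun χ : IrrCharacter X => p ∣ charDegree (χ : X → ℂ) with hA
  have hlin : ∑ χ ∈ B.filter (fun χ : IrrCharacter X => ¬ p ∣ charDegree (χ : X → ℂ)),
      (χ : X → ℂ) 1 * (χ : X → ℂ) u = (Nat.card H : ℂ) := by
    rw [Finset.sum_congr rfl (g := fun _ => (1 : ℂ)) fun χ hχ => by
      obtain ⟨h1, h2⟩ := Finset.mem_filter.1 hχ
      rw [(key χ h1 h2).1 _ u.2, hspec χ, (key χ h1 h2).2, Nat.cast_one, mul_one],
      Finset.sum_const, nsmul_one]
    haveI : Fintype H := Fintype.ofFinite H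
    rw [Nat.card_eq_fintype_card, ← Finset.card_univ]
    congr 1
    symm
    refine Finset.card_bij (fun φ _ => PrincipalLinear.linIrr φ.1) (fun φ _ => ?_)
      (fun a _ b _ e => ?_) fun χ hχ => ?_
    · refine Finset.mem_filter.2 ⟨mem_bset.2 φ.2.1, ?_⟩
      rw [PrincipalLinear.charDegree_eq_one (by simp [PrincipalLinear.linIrr])]
      exact hp.not_dvd_one
    · refine Subtype.ext (MonoidHom.ext fun g => Units.ext ?_)
      exact congrFun (congrArg (fun z : IrrCharacter X => (z : X → ℂ)) e) g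
    · obtain ⟨h1, h2⟩ := Finset.mem_filter.1 hχ
      obtain ⟨hk, hd⟩ := key χ h1 h2
      have hone : (χ : X → ℂ) 1 = 1 := by rw [hspec χ, hd, Nat.cast_one]
      obtain ⟨φ, hφ⟩ := exists_hom_of_degree_one (isCharacter_of_irr χ.2) hone
      have e : PrincipalLinear.linIrr φ = χ := Subtype.ext hφ.symm
      refine ⟨⟨φ, e ▸ mem_bset.1 h1, fun g hg => Units.ext ?_⟩, Finset.mem_univ _, e⟩
      have := hk g hg
      rw [hone, hφ] at this
      simpa using this
  rw [← Finset.sum_filter_add_sum_filter_not B (fun χ : IrrCharacter X => p ∣ charDegree (χ : X → ℂ)),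
    hlin] at h0
  have hdiv : IsIntegral ℤ ((Nat.card H : ℂ) / (p : ℂ)) := by
    have e : (Nat.card H : ℂ) / (p : ℂ) =
        -∑ χ ∈ A, ((charDegree (χ : X → ℂ) / p : ℕ) : ℂ) * (χ : X → ℂ) u := by
      have hp0 : (p : ℂ) ≠ 0 := Nat.cast_ne_zero.2 hp.ne_zero
      rw [div_eq_iff hp0, neg_mul, Finset.sum_mul]
      rw [eq_neg_iff_add_eq_zero, add_comm]
      refine (congrArg (· + (Nat.card H : ℂ)) (Finset.sum_congr rfl fun χ hχ => ?_)).trans h0
      obtain ⟨-, k, hk⟩ := Finset.mem_filter.1 hχ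
      rw [hspec χ, hk, Nat.mul_div_cancel_left k hp.pos]
      push_cast
      ring
    rw [e]
    refine (IsIntegral.sum _ fun χ _ => ?_).neg
    refine IsIntegral.mul ?_ (isIntegral_of_char (isCharacter_of_irr χ.2) _)
    generalize charDegree (χ : X → ℂ) / p = m
    rw [← map_natCast (algebraMap ℤ ℂ) m]
    exact isIntegral_algebraMap
  obtain ⟨z, hz⟩ := exists_int_of_isIntegral_ratCast (q := (Nat.card H : ℚ) / (p : ℚ))
    (by push_cast; exact hdiv)
  have hz' : (Nat.card H : ℤ) = z * p := by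
    have hp0 : (p : ℚ) ≠ 0 := Nat.cast_ne_zero.2 hp.ne_zero
    rw [div_eq_iff hp0] at hz
    exact_mod_cast hz
  exact Int.natCast_dvd_natCast.1 ⟨z, hz'.trans (mul_comm _ _)⟩

end CfsgLib.Kazarin
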