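/-
The Krull–Remak–Schmidt theorem for finite groups.
-/
import Mathlib

set_option autoImplicit false

namespace CfsgLib.KrullSchmidt

universe u v

/-- Directly indecomposable and non-trivial. -/
def Indec (A : Type u) [Group A] : Prop :=
  Nontrivial A ∧ ∀ H K : Subgroup A, H.Normal → K.Normal → H ⊓ K = ⊥ → H ⊔ K = ⊤ → H = ⊥ ∨ K = ⊥

/-- A normal endomorphism commutes with the inner automorphisms. -/
def NormalEnd {A : Type u} [Group A] (f : A →* A) : Prop :=
  ∀ g x : A, f (g * x * g⁻¹) = g * f x * g⁻¹

/-- The iterates of an endomorphism. -/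
def iter {A : Type u} [Group A] (f : A →* A) : ℕ → A →* A
  | 0 => MonoidHom.id A
  | k + 1 => f.comp (iter f k)

theorem iter_apply {A : Type u} [Group A] (f : A →* A) : ∀ (k : ℕ) (x : A), iter f k x = f^[k] x
  | 0, x => rfl
  | k + 1, x => by rw [Function.iterate_succ_apply', ← iter_apply f k x]; rfl

theorem normalEnd_iter {A : Type u} [Group A] {f : A →* A} (hf : NormalEnd f) :
    ∀ k, NormalEnd (iter f k)
  | 0 => fun _ _ => rfl
  | k + 1 => fun g x => by
    show f (iter f k _) = g * f (iter f k x) * g⁻¹
    rw [normalEnd_iter hf k, hf]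

/-- Fitting's lemma. -/
theorem bijective_or_nilpotent {A : Type u} [Group A] [Finite A] (hA : Indec A) {f : A →* A}
    (hf : NormalEnd f) : Function.Bijective f ∨ ∃ N, ∀ x, f^[N] x = 1 := by
  classical
  -- the kernels stabilise
  obtain ⟨N, hN0, hN⟩ : ∃ N, 0 < N ∧ ∀ x, f^[N + N] x = 1 → f^[N] x = 1 := by
    by_contra hno
    push Not at hno
    have key : ∀ k, ∃ N, 0 < N ∧ k ≤ Nat.card {x : A // f^[N] x = 1} := by
      intro k
      induction k with
      | zero => exact ⟨1, one_pos, Nat.zero_le _⟩
      | succ k ih =>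
        obtain ⟨N, hN0, hN⟩ := ih
        obtain ⟨x, hx, hx'⟩ := hno N hN0
        refine ⟨N + N, by omega, ?_⟩
        have hlt : Nat.card {x : A // f^[N] x = 1} < Nat.card {x : A // f^[N + N] x = 1} := by
          refine Nat.lt_of_le_of_ne (Nat.card_le_card_of_injective
            (fun y => (⟨y.1, by rw [Function.iterate_add_apply, y.2, ← iter_apply, map_one]⟩ :
              {x : A // f^[N + N] x = 1})) (fun a b h => Subtype.ext (congrArg (fun t => (t.1 : A)) h))) fun e => ?_
          have hb := Function.Injective.bijective_of_nat_card_le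
            (f := fun y : {x : A // f^[N] x = 1} => (⟨y.1, by
              rw [Function.iterate_add_apply, y.2, ← iter_apply, map_one]⟩ : {x : A // f^[N + N] x = 1}))
            (fun a b h => Subtype.ext (congrArg (fun t => (t.1 : A)) h)) e.ge
          obtain ⟨y, hy⟩ := hb.2 ⟨x, hx⟩
          have h2 := y.2
          rw [show (y : A) = x from congrArg (fun t => (t.1 : A)) hy] at h2
          exact hx' h2
        omega
    obtain ⟨N, -, hN⟩ := key (Nat.card A + 1)
    have := Finite.card_subtype_le (fun x : A => f^[N] x = 1)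
    omega
  set g := iter f N with hg
  have hgn := normalEnd_iter hf N
  have hkerr : g.ker ⊓ g.range = ⊥ := by
    rw [Subgroup.eq_bot_iff_forall]
    rintro x ⟨hx, y, rfl⟩
    have hy : f^[N + N] y = 1 := by
      rw [Function.iterate_add_apply, ← iter_apply, ← iter_apply]; exact hx
    rw [hg, iter_apply]; exact hN y hy
  have hrn : g.range.Normal := ⟨by
    rintro _ ⟨y, rfl⟩ a
    exact ⟨a * y * a⁻¹, hgn a y⟩⟩
  have htop : g.ker ⊔ g.range = ⊤ := by
    refine Subgroup.eq_top_of_card_eq _ ?_
    have h1 : Nat.card ↥g.ker * Nat.card ↥g.range = Nat.card A := by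
      rw [← Nat.card_congr (QuotientGroup.quotientKerEquivRange g).toEquiv, mul_comm,
        ← Subgroup.card_eq_card_quotient_mul_card_subgroup]
    refine le_antisymm (Subgroup.card_le_card_group _) (h1 ▸ ?_)
    rw [← Nat.card_prod]
    refine Nat.card_le_card_of_injective
      (fun z => (⟨(z.1 : A) * z.2, Subgroup.mul_mem_sup z.1.2 z.2.2⟩ : (g.ker ⊔ g.range : Subgroup A))) ?_
    rintro ⟨a, b⟩ ⟨a', b'⟩ h
    have h' : (a : A) * b = a' * b' := congrArg Subtype.val h
    have h2 : (a' : A)⁻¹ * a ∈ g.ker ⊓ g.range := ⟨g.ker.mul_mem (g.ker.inv_mem a'.2) a.2, by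
      rw [show (a' : A)⁻¹ * a = (b' : A) * (b : A)⁻¹ by
        rw [eq_mul_inv_iff_mul_eq, mul_assoc, h', inv_mul_cancel_left]]
      exact g.range.mul_mem b'.2 (g.range.inv_mem b.2)⟩
    rw [hkerr, Subgroup.mem_bot, inv_mul_eq_one] at h2
    refine Prod.ext (Subtype.ext h2.symm) (Subtype.ext ?_)
    rw [h2] at h'
    exact mul_left_cancel h'
  rcases hA.2 g.ker g.range inferInstance hrn hkerr htop with h | h
  · left
    refine (Finite.injective_iff_bijective (f := ⇑f)).mp ((injective_iff_map_eq_one f).mpr fun x hx => ?_)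
    have hxg : x ∈ g.ker := by
      rw [MonoidHom.mem_ker, hg, iter_apply]
      obtain ⟨M, rfl⟩ := Nat.exists_eq_succ_of_ne_zero hN0.ne'
      rw [Function.iterate_succ_apply, hx, ← iter_apply, map_one]
    rw [h, Subgroup.mem_bot] at hxg
    exact hxg
  · right
    refine ⟨N, fun x => ?_⟩
    rw [← iter_apply]
    exact Subgroup.mem_bot.mp (h ▸ (⟨x, rfl⟩ : g x ∈ g.range))

/-- Two commuting normal endomorphisms with product the identity: one is an automorphism. -/
theorem bijective_of_mul_eq {A : Type u} [Group A] [Finite A] (hA : Indec A) {u v : A →* A}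
    (hu : NormalEnd u) (hv : NormalEnd v) (hsum : ∀ x, u x * v x = x) :
    Function.Bijective u ∨ Function.Bijective v := by
  rcases bijective_or_nilpotent hA hu with h | ⟨N, hN⟩
  · exact Or.inl h
  rcases bijective_or_nilpotent hA hv with h | ⟨M, hM⟩
  · exact Or.inr h
  exfalso
  have hcomm : ∀ x, v (u x) = u (v x) := by
    intro x
    have h1 : u (u x) * v (u x) = u x := hsum (u x)
    have h2 : u (u x) * u (v x) = u x := by rw [← map_mul, hsum x]
    exact mul_left_cancel (h1.trans h2.symm)
  -- the last non-trivial iterate lies in both kernels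
  have hzero : ∀ (f : A →* A) (N : ℕ), (∀ x, f^[N] x = 1) → ∀ x : A, x ≠ 1 →
      ∃ k, f^[k] x ≠ 1 ∧ f (f^[k] x) = 1 := by
    intro f N hN x hx
    classical
    have hex : ∃ k, f^[k] x = 1 := ⟨N, hN x⟩
    have h0 : Nat.find hex ≠ 0 := fun e => hx (by simpa [e] using Nat.find_spec hex)
    obtain ⟨k, hk⟩ := Nat.exists_eq_succ_of_ne_zero h0
    refine ⟨k, Nat.find_min hex (by omega), ?_⟩
    rw [← Function.iterate_succ_apply' (f := ⇑f), ← hk]
    exact Nat.find_spec hex
  have := hA.1
  obtain ⟨x, hx⟩ := exists_ne (1 : A)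
  obtain ⟨k, hk, hk'⟩ := hzero u N hN x hx
  obtain ⟨l, hl, hl'⟩ := hzero v M hM _ hk
  have hu' : ∀ l, u (v^[l] (u^[k] x)) = 1 := by
    intro l
    induction l with
    | zero => exact hk'
    | succ l ih => rw [Function.iterate_succ_apply', ← hcomm, ih, map_one]
  refine hl ?_
  rw [← hsum (v^[l] (u^[k] x)), hu' l, hl', mul_one]

section Decomp

variable {n : ℕ} (B : Fin n → Type v) [∀ j, Group (B j)]

/-- The projection onto the coordinates in `s`. -/
def projSet (s : Finset (Fin n)) : ((j : Fin n) → B j) →* ((j : Fin n) → B j) where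
  toFun z j := if j ∈ s then z j else 1
  map_one' := by funext j; by_cases h : j ∈ s <;> simp [h]
  map_mul' z w := by funext j; by_cases h : j ∈ s <;> simp [h]

theorem projSet_conj (s : Finset (Fin n)) (g z : (j : Fin n) → B j) :
    projSet B s (g * z * g⁻¹) = g * projSet B s z * g⁻¹ := by
  funext j
  by_cases h : j ∈ s <;> simp [projSet, h]

/-- The exchange step. -/
theorem exists_bijective {A : Type u} [Group A] [Finite A] (hA : Indec A)
    (ι : A →* ((j : Fin n) → B j)) (π : ((j : Fin n) → B j) →* A) (hπ : ∀ a, π (ι a) = a) :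
    ∃ j : Fin n, Function.Bijective fun a => π (projSet B {j} (ι a)) := by
  classical
  let F : Finset (Fin n) → (A →* A) := fun s => (π.comp (projSet B s)).comp ι
  have hFn : ∀ s, NormalEnd (F s) := fun s g x => by
    show π (projSet B s (ι (g * x * g⁻¹))) = g * π (projSet B s (ι x)) * g⁻¹
    have h1 : ι (g * x * g⁻¹) = ι g * ι x * (ι g)⁻¹ := by simp
    rw [h1, projSet_conj, map_mul, map_mul, map_inv, hπ]
  have hstep : ∀ (s : Finset (Fin n)), Function.Bijective (F s) → ∃ j ∈ s, Function.Bijective (F {j}) := by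
    intro s
    induction s using Finset.induction_on with
    | empty =>
      intro h
      have := hA.1
      obtain ⟨x, hx⟩ := exists_ne (1 : A)
      refine absurd (h.1 (a₁ := x) (a₂ := 1) ?_) hx
      show π (projSet B ∅ (ι x)) = π (projSet B ∅ (ι 1))
      congr 1
    | @insert j s hjs ih =>
      intro h
      let e : A ≃* A := MulEquiv.ofBijective (F (insert j s)) h
      have he : NormalEnd e.symm.toMonoidHom := fun g x => by
        apply e.injective
        show e (e.symm _) = F (insert j s) (g * e.symm x * g⁻¹)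
        rw [e.apply_symm_apply, hFn]
        show g * x * g⁻¹ = g * e (e.symm x) * g⁻¹
        rw [e.apply_symm_apply]
      have hu : NormalEnd (e.symm.toMonoidHom.comp (F {j})) := fun g x => by
        show e.symm (F {j} _) = g * e.symm (F {j} x) * g⁻¹
        rw [hFn]; exact he g _
      have hv : NormalEnd (e.symm.toMonoidHom.comp (F s)) := fun g x => by
        show e.symm (F s _) = g * e.symm (F s x) * g⁻¹
        rw [hFn]; exact he g _
      rcases bijective_of_mul_eq hA hu hv (fun x => by
        show e.symm (F {j} x) * e.symm (F s x) = x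
        apply e.injective
        rw [map_mul, e.apply_symm_apply, e.apply_symm_apply]
        show π (projSet B {j} (ι x)) * π (projSet B s (ι x)) = π (projSet B (insert j s) (ι x))
        rw [← map_mul]
        congr 1
        funext i
        by_cases h1 : i = j
        · subst h1; simp [projSet, hjs]
        · by_cases h2 : i ∈ s <;> simp [projSet, h1, h2]) with hb | hb
      · refine ⟨j, Finset.mem_insert_self _ _, ?_⟩
        have := e.bijective.comp hb
        convert this using 1
        funext x
        exact (e.apply_symm_apply _).symm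
      · have h' : Function.Bijective (F s) := by
          have := e.bijective.comp hb
          convert this using 1
          funext x
          exact (e.apply_symm_apply _).symm
        obtain ⟨i, hi, hi'⟩ := ih h'
        exact ⟨i, Finset.mem_insert_of_mem hi, hi'⟩
  obtain ⟨j, -, hj⟩ := hstep Finset.univ (by
    convert Function.bijective_id using 1
    funext x
    show π (projSet B Finset.univ (ι x)) = x
    conv_rhs => rw [← hπ x]
    congr 1
    funext i
    simp [projSet])
  exact ⟨j, hj⟩

end Decomp

/-- The Krull–Remak–Schmidt theorem. -/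
theorem krull_schmidt : ∀ (m n : ℕ) (A : Fin m → Type u) (B : Fin n → Type v) [∀ i, Group (A i)] [∀ j, Group (B j)]
    [∀ i, Finite (A i)] [∀ j, Finite (B j)], (∀ i, Indec (A i)) → (∀ j, Indec (B j)) →
    (((i : Fin m) → A i) ≃* ((j : Fin n) → B j)) → ∃ σ : Fin m ≃ Fin n, ∀ i, Nonempty (A i ≃* B (σ i)) := by
  classical
  intro m
  induction m with
  | zero =>
    intro n A B _ _ _ _ hA hB e
    rcases n with _ | n
    · exact ⟨Equiv.refl _, fun i => i.elim0⟩
    · have := (hB 0).1
      obtain ⟨b, hb⟩ := exists_ne (1 : B 0)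
      refine absurd ?_ hb
      have h1 : e.symm (Pi.mulSingle 0 b) = e.symm 1 := funext fun i => i.elim0
      have h2 := congrFun (e.symm.injective h1) 0
      simpa using h2
  | succ m ih =>
    intro n A B _ _ _ _ hA hB e
    let ι : A 0 →* ((j : Fin n) → B j) := e.toMonoidHom.comp (MonoidHom.mulSingle A 0)
    let π : ((j : Fin n) → B j) →* A 0 := (Pi.evalMonoidHom A 0).comp e.symm.toMonoidHom
    obtain ⟨j, hj⟩ := exists_bijective B (hA 0) ι π (fun a => by
      show e.symm (e (Pi.mulSingle 0 a)) 0 = a
      rw [e.symm_apply_apply, Pi.mulSingle_eq_same])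
    let φ : A 0 →* B j := (Pi.evalMonoidHom B j).comp ι
    let ψ : B j →* A 0 := π.comp (MonoidHom.mulSingle B j)
    have hψφ : ∀ a, ψ (φ a) = π (projSet B {j} (ι a)) := fun a => by
      show π (Pi.mulSingle j (ι a j)) = _
      congr 1
      funext i
      by_cases h : i = j
      · subst h; simp [projSet]
      · simp [projSet, h]
    have hbij : Function.Bijective fun a => ψ (φ a) := by
      have : (fun a => ψ (φ a)) = fun a => π (projSet B {j} (ι a)) := funext hψφ
      rw [this]; exact hj
    have hφinj : Function.Injective φ := fun a b h => hbij.1 (congrArg ψ h)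
    have hrn : φ.range.Normal := ⟨by
      rintro _ ⟨a, rfl⟩ b
      refine ⟨(e.symm (Pi.mulSingle j b) 0) * a * (e.symm (Pi.mulSingle j b) 0)⁻¹, ?_⟩
      show e (Pi.mulSingle 0 _) j = b * e (Pi.mulSingle 0 a) j * b⁻¹
      have h1 : (Pi.mulSingle 0 (e.symm (Pi.mulSingle j b) 0 * a * (e.symm (Pi.mulSingle j b) 0)⁻¹) : (i : Fin (m+1)) → A i)
          = e.symm (Pi.mulSingle j b) * Pi.mulSingle 0 a * (e.symm (Pi.mulSingle j b))⁻¹ := by
        funext i
        by_cases h : i = 0
        · subst h; simp
        · simp [h]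
      rw [h1, map_mul, map_mul, map_inv, e.apply_symm_apply]
      simp⟩
    have hr0 : φ.range ≠ ⊥ := by
      have := (hA 0).1
      obtain ⟨a, ha⟩ := exists_ne (1 : A 0)
      exact fun h => ha (hφinj ((Subgroup.mem_bot.mp (h ▸ (⟨a, rfl⟩ : φ a ∈ φ.range))).trans (map_one φ).symm))
    have hψker : ψ.ker = ⊥ := by
      refine ((hB j).2 φ.range ψ.ker hrn inferInstance ?_ ?_).resolve_left hr0
      · rw [Subgroup.eq_bot_iff_forall]
        rintro _ ⟨⟨a, rfl⟩, ha⟩
        rw [hbij.1 (a₁ := a) (a₂ := 1) (by simpa using ha), map_one]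
      · rw [eq_top_iff]
        intro b _
        obtain ⟨a, ha⟩ := hbij.2 (ψ b)
        have h2 : (φ a)⁻¹ * b ∈ ψ.ker := by
          rw [MonoidHom.mem_ker, map_mul, map_inv, show ψ (φ a) = ψ b from ha, inv_mul_cancel]
        simpa using Subgroup.mul_mem_sup (show φ a ∈ φ.range from ⟨a, rfl⟩) h2
    have hψinj : Function.Injective ψ := (MonoidHom.ker_eq_bot_iff ψ).mp hψker
    have hφbij : Function.Bijective φ := ⟨hφinj, fun b => by
      obtain ⟨a, ha⟩ := hbij.2 (ψ b); exact ⟨a, hψinj ha⟩⟩
    rcases n with _ | n
    · exact j.elim0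
    -- the remaining factors
    let Φ : ((k : Fin n) → B (j.succAbove k)) →* ((i : Fin m) → A i.succ) :=
      MonoidHom.mk' (fun y i => e.symm (Fin.insertNth j 1 y) i.succ) (fun y z => by
        funext i
        have h1 : (Fin.insertNth j 1 (y * z) : (k : Fin (n+1)) → B k) = Fin.insertNth j 1 y * Fin.insertNth j 1 z := by
          funext k
          cases k using Fin.succAboveCases j with
          | x => simp
          | p k => simp
        show e.symm _ i.succ = e.symm _ i.succ * e.symm _ i.succ
        rw [h1, map_mul]; rfl)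
    have hΦinj : Function.Injective Φ := by
      rw [injective_iff_map_eq_one]
      intro y hy
      have h1 : e.symm (Fin.insertNth j 1 y) = Pi.mulSingle 0 (e.symm (Fin.insertNth j 1 y) 0) := by
        funext i
        cases i using Fin.cases with
        | zero => simp
        | succ i => rw [Pi.mulSingle_eq_of_ne (Fin.succ_ne_zero i)]; exact congrFun hy i
      set a := e.symm (Fin.insertNth j 1 y) 0 with ha
      have h2 : φ a = 1 := by
        show e (Pi.mulSingle 0 a) j = 1
        rw [← h1, e.apply_symm_apply, Fin.insertNth_apply_same]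
      rw [hφinj (h2.trans (map_one φ).symm), Pi.mulSingle_one] at h1
      have h3 : (Fin.insertNth j 1 y : (k : Fin (n+1)) → B k) = 1 := e.symm.injective (h1.trans (map_one e.symm).symm)
      funext k
      simpa using congrFun h3 (j.succAbove k)
    have hcard : Nat.card ((k : Fin n) → B (j.succAbove k)) = Nat.card ((i : Fin m) → A i.succ) := by
      have h1 := Nat.card_congr e.toEquiv
      rw [Nat.card_congr (Fin.consEquiv A).symm, Nat.card_congr (Fin.insertNthEquiv B j).symm, Nat.card_prod,
        Nat.card_prod, Nat.card_congr (Equiv.ofBijective φ hφbij)] at h1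
      exact (Nat.eq_of_mul_eq_mul_left Nat.card_pos h1).symm
    have hΦ : Function.Bijective Φ := Function.Injective.bijective_of_nat_card_le hΦinj hcard.ge
    obtain ⟨σ, hσ⟩ := ih n (fun i => A i.succ) (fun k => B (j.succAbove k)) (fun i => hA _) (fun k => hB _)
      (MulEquiv.ofBijective Φ hΦ).symm
    refine ⟨((finSuccEquiv m).trans σ.optionCongr).trans (finSuccEquiv' j).symm, fun i => ?_⟩
    cases i using Fin.cases with
    | zero =>
      rw [show (((finSuccEquiv m).trans σ.optionCongr).trans (finSuccEquiv' j).symm) 0 = j by simp]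
      exact ⟨MulEquiv.ofBijective φ hφbij⟩
    | succ i =>
      rw [show (((finSuccEquiv m).trans σ.optionCongr).trans (finSuccEquiv' j).symm) i.succ = j.succAbove (σ i) by simp]
      exact hσ i

end CfsgLib.KrullSchmidt
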