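import Mathlib
import Cfsg.Agent.Lib.FrakH
import Cfsg.Agent.Lib.Components
import Cfsg.Agent.Lib.Subnormal

/-!
The L-lemma: a minimal overgroup `L` of an abelian `Y` with `Y ≰ O_p(L)`, and quadratic action on a normal `p`-subgroup `V`.
-/

set_option autoImplicit false
set_option linter.unusedVariables false

namespace CfsgLib.LLemma

open Cfsg CfsgLib
open scoped commutatorElement

variable {G : Type*} [Group G] [Finite G] {p : ℕ} [Fact p.Prime]

omit [Finite G] in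
theorem ext_subgroupOf {L : Subgroup G} {X : Subgroup ↥L} (h : L ≤ X.map L.subtype) : X = ⊤ :=
  eq_top_iff.mpr fun x _ => by
    obtain ⟨y, hy, e⟩ := h x.2
    rwa [← Subtype.ext (e : (y : G) = x)]

/-- The minimal overgroup is generated by `Y` and any conjugate outside its unique maximal overgroup. -/
theorem unique_max {Y L : Subgroup G} (hY : IsPGroup p ↥Y) (hYL : Y ≤ L) (hYO : ¬ Y ≤ Cfsg.pCoreOf p L)
    (hmin : ∀ L' : Subgroup G, L' ≤ L → Y ≤ L' → ¬ Y ≤ Cfsg.pCoreOf p L' → L' = L) :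
    ∃ L0 : Subgroup G, L0 < L ∧ Y ≤ L0 ∧ (∀ X : Subgroup G, Y ≤ X → X < L → X ≤ L0) ∧
      L ⊓ Subgroup.normalizer (Y : Set G) ≤ L0 ∧
      (∀ h ∈ L, h ∉ L0 → Y ⊔ Y.map (MulAut.conj h).toMonoidHom = L) ∧
      (∀ l ∈ L0, Y.map (MulAut.conj l).toMonoidHom ≤ Cfsg.pCoreOf p L0) ∧
      Subgroup.normalClosure ((Y.subgroupOf L : Subgroup ↥L) : Set ↥L) = ⊤ := by
  have hprop : ∀ X : Subgroup G, Y ≤ X → X < L → Y ≤ Cfsg.pCoreOf p X := fun X hYX hlt => by
    by_contra h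
    exact hlt.ne (hmin X hlt.le hYX h)
  set Y' := Y.subgroupOf L
  have hY'p : IsPGroup p ↥Y' := hY.comap_of_injective L.subtype L.subtype_injective
  have hns : ¬ Y'.IsSubnormal := fun h => hYO fun y hy =>
    ⟨⟨y, hYL hy⟩, isSubnormal_isPGroup_le_pCore h hY'p hy, rfl⟩
  have hlt' : ∀ X : Subgroup ↥L, X ≠ ⊤ → X.map L.subtype < L := fun X hX =>
    lt_of_le_of_ne (Subgroup.map_subtype_le _) fun e => hX (ext_subgroupOf e.ge)
  have hsub : ∀ X : Subgroup ↥L, X ≠ ⊤ → Y' ≤ X → (Y'.subgroupOf X).IsSubnormal := by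
    intro X hX hYX
    have hY2 := hprop (X.map L.subtype) (fun y hy => ⟨⟨y, hYL hy⟩, hYX hy, rfl⟩) (hlt' X hX)
    have e := pCore_map_equiv p (X.equivMapOfInjective L.subtype L.subtype_injective)
    have hle : Y'.subgroupOf X ≤ Cfsg.pCore p ↥X := by
      intro x hx
      obtain ⟨z, hz, ez⟩ := hY2 (hx : ((x : ↥L) : G) ∈ Y)
      rw [← e] at hz
      obtain ⟨w, hw, rfl⟩ := hz
      rwa [← X.subtype_injective (L.subtype_injective ez : ((w : ↥L)) = (x : ↥L))]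
    haveI : Group.IsNilpotent ↥(Cfsg.pCore p ↥X) := (isPGroup_pCore p).isNilpotent
    exact Subgroup.IsSubnormal.trans hle (isSubnormal_of_nilpotent _) (inferInstance : (Cfsg.pCore p ↥X).Normal).isSubnormal
  obtain ⟨M, ⟨hM, hYM⟩, huniq⟩ := zipper Y' hsub hns
  set L0 := M.map L.subtype
  have hL0 : L0 < L := hlt' M hM.1
  have hYL0 : Y ≤ L0 := fun y hy => ⟨⟨y, hYL hy⟩, hYM hy, rfl⟩
  have hmax : ∀ X : Subgroup G, Y ≤ X → X < L → X ≤ L0 := by
    intro X hYX hXL x hx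
    have hne : X.subgroupOf L ≠ ⊤ := fun e => hXL.not_ge (Subgroup.subgroupOf_eq_top.mp e)
    obtain ⟨K, hK, hle⟩ := (eq_top_or_exists_le_coatom (X.subgroupOf L)).resolve_left hne
    have := huniq K ⟨hK, fun y hy => hle (hYX hy)⟩
    exact ⟨⟨x, hXL.le hx⟩, this ▸ hle (hx : x ∈ X), rfl⟩
  have hnn : ¬ L ≤ Subgroup.normalizer (L0 : Set G) := fun hn => hYO ((hprop L0 hYL0 hL0).trans
    (Large.le_pCoreOf_of_normal hL0.le hn (Large.pCoreOf_le p L0) (Large.le_normalizer_pCoreOf p L0) ((isPGroup_pCore p).map _)))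
  have hN0 : L ⊓ Subgroup.normalizer (L0 : Set G) ≤ L0 := hmax _ (le_inf hYL (hYL0.trans Subgroup.le_normalizer))
    (lt_of_le_of_ne inf_le_left fun e => hnn (e ▸ inf_le_right))
  refine ⟨L0, hL0, hYL0, hmax, hmax _ (le_inf hYL Subgroup.le_normalizer) (lt_of_le_of_ne inf_le_left fun e => hYO ?_), ?_, ?_, ?_⟩
  · exact Large.le_pCoreOf_of_normal le_rfl Subgroup.le_normalizer hYL (e ▸ inf_le_right) hY
  · intro h hh hh0
    have hle : Y ⊔ Y.map (MulAut.conj h).toMonoidHom ≤ L :=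
      sup_le hYL (Local.map_conj_le fun y hy => L.mul_mem (L.mul_mem hh (hYL hy)) (L.inv_mem hh))
    refine hle.eq_or_lt.resolve_right fun hlt => hh0 (hN0 ⟨hh, ?_⟩)
    have h1 := hmax _ le_sup_left hlt
    set X := L0.map (MulAut.conj h⁻¹).toMonoidHom with hX
    have hXL : X ≤ L := Local.map_conj_le fun x hx => L.mul_mem (L.mul_mem (L.inv_mem hh) (hL0.le hx)) (L.inv_mem (L.inv_mem hh))
    have hcard : Nat.card ↥X = Nat.card ↥L0 := Subgroup.card_map_of_injective (MulEquiv.injective (MulAut.conj h⁻¹))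
    have h2 : X ≤ L0 := by
      refine hmax X (fun y hy => Local.mem_map_conj.mpr ?_) (lt_of_le_of_ne hXL fun e => hL0.ne ?_)
      · rw [inv_inv]
        exact h1 (Subgroup.mem_sup_right ⟨y, hy, by simp⟩)
      · exact Subgroup.eq_of_le_of_card_ge hL0.le (hcard ▸ e ▸ le_rfl)
    have h3 : h⁻¹ ∈ Subgroup.normalizer (L0 : Set G) :=
      Local.mem_normalizer_of_map_conj_eq (Subgroup.eq_of_le_of_card_ge h2 hcard.ge)
    simpa using Subgroup.inv_mem _ h3
  · intro l hl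
    refine le_trans (Subgroup.map_mono (hprop L0 hYL0 hL0)) ?_
    rw [Local.map_conj_eq_of_mem_normalizer (Large.le_normalizer_pCoreOf p L0 hl)]
  · by_contra hne
    haveI hN : (Subgroup.normalClosure ((Y' : Subgroup ↥L) : Set ↥L)).Normal := Subgroup.normalClosure_normal
    set N := Subgroup.normalClosure ((Y' : Subgroup ↥L) : Set ↥L)
    have hY2 := hprop (N.map L.subtype) (fun y hy => ⟨⟨y, hYL hy⟩, Subgroup.subset_normalClosure hy, rfl⟩) (hlt' N hne)
    refine hYO (hY2.trans (Large.le_pCoreOf_of_normal (Subgroup.map_subtype_le _) ?_ (Large.pCoreOf_le p _)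
      (Large.le_normalizer_pCoreOf p _) ((isPGroup_pCore p).map _)))
    refine Large.le_normalizer_of fun l hl x hx => ?_
    obtain ⟨z, hz, rfl⟩ := hx
    exact ⟨⟨l, hl⟩ * z * ⟨l, hl⟩⁻¹, hN.conj_mem z hz _, rfl⟩

omit [Fact p.Prime] in
/-- The quadratic situation for `L = ⟨Y, Y^h⟩` acting on `V`. -/
theorem quad {Y V L : Subgroup G} {h : G} (hab : ∀ a ∈ Y, ∀ b ∈ Y, a * b = b * a) (hgen : Y ⊔ Y.map (MulAut.conj h).toMonoidHom = L)
    (hh : h ∈ L) (hLV : L ≤ Subgroup.normalizer (V : Set G)) (hVY : V ≤ Subgroup.normalizer (Y : Set G)) :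
    L ≤ Subgroup.normalizer ((Y ⊓ V ⊔ (Y ⊓ V).map (MulAut.conj h).toMonoidHom : Subgroup G) : Set G) ∧
      (∀ l ∈ L, ∀ v ∈ V, l * v * l⁻¹ * v⁻¹ ∈ Y ⊓ V ⊔ (Y ⊓ V).map (MulAut.conj h).toMonoidHom) ∧
      (∀ c ∈ Y ⊓ V ⊔ (Y ⊓ V).map (MulAut.conj h).toMonoidHom, c ∈ Subgroup.centralizer (Y : Set G) → c ∈ Y ⊓ V) ∧
      (∀ c ∈ Y ⊓ V, c ∈ (Y ⊓ V).map (MulAut.conj h).toMonoidHom → c ∈ Subgroup.centralizer (L : Set G)) ∧
      V ⊓ Subgroup.centralizer (Y : Set G) = Y ⊓ V ⊔ V ⊓ Subgroup.centralizer (L : Set G) := by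
  set Yh := Y.map (MulAut.conj h).toMonoidHom with hYh
  set B := Y ⊓ V with hB
  set Bh := B.map (MulAut.conj h).toMonoidHom with hBh
  set A := B ⊔ Bh
  have hYL : Y ≤ L := hgen ▸ le_sup_left
  have hVYh : V ≤ Subgroup.normalizer (Yh : Set G) := Large.le_normalizer_of fun v hv y hy => by
    have hv' : h⁻¹ * v * h⁻¹⁻¹ ∈ Subgroup.normalizer (Y : Set G) := hVY (Large.conj_mem hLV (L.inv_mem hh) hv)
    rw [Local.mem_map_conj] at hy ⊢
    have := (Subgroup.mem_normalizer_iff.mp hv' _).mp hy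
    simpa [mul_assoc] using this
  have hBh' : Bh = Yh ⊓ V := by
    rw [hBh, hB, Subgroup.map_inf _ _ _ (MulEquiv.injective (MulAut.conj h)), Local.map_conj_eq_of_mem_normalizer (hLV hh)]
  have hYV : ∀ y ∈ Y, ∀ v ∈ V, y * v * y⁻¹ * v⁻¹ ∈ B := fun y hy v hv => ⟨by
      rw [show y * v * y⁻¹ * v⁻¹ = y * (v * y⁻¹ * v⁻¹) by group]
      exact Y.mul_mem hy (Large.conj_mem hVY hv (Y.inv_mem hy)),
    V.mul_mem (Large.conj_mem (hYL.trans hLV) hy hv) (V.inv_mem hv)⟩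
  have hYhL : Yh ≤ L := hgen ▸ le_sup_right
  have hYhV : ∀ y ∈ Yh, ∀ v ∈ V, y * v * y⁻¹ * v⁻¹ ∈ Bh := fun y hy v hv => hBh' ▸ ⟨by
      rw [show y * v * y⁻¹ * v⁻¹ = y * (v * y⁻¹ * v⁻¹) by group]
      exact Yh.mul_mem hy (Large.conj_mem hVYh hv (Yh.inv_mem hy)),
    V.mul_mem (Large.conj_mem (hYhL.trans hLV) hy hv) (V.inv_mem hv)⟩
  have hAV : A ≤ V := sup_le inf_le_right (hBh' ▸ inf_le_right)
  have hYA : Y ≤ Subgroup.normalizer (A : Set G) := Large.le_normalizer_of fun y hy a ha => by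
    have := A.mul_mem (Subgroup.mem_sup_left (hYV y hy a (hAV ha)) : y * a * y⁻¹ * a⁻¹ ∈ A) ha
    rwa [inv_mul_cancel_right] at this
  have hYhA : Yh ≤ Subgroup.normalizer (A : Set G) := Large.le_normalizer_of fun y hy a ha => by
    have := A.mul_mem (Subgroup.mem_sup_right (hYhV y hy a (hAV ha)) : y * a * y⁻¹ * a⁻¹ ∈ A) ha
    rwa [inv_mul_cancel_right] at this
  have hLA : L ≤ Subgroup.normalizer (A : Set G) := hgen ▸ sup_le hYA hYhA
  have hLV' : L ≤ Large.stab L V A hLV hLA := by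
    conv_lhs => rw [← hgen]
    exact sup_le (fun y hy => ⟨hYL hy, fun v hv => Subgroup.mem_sup_left (hYV y hy v hv)⟩)
      (fun y hy => ⟨hYhL hy, fun v hv => Subgroup.mem_sup_right (hYhV y hy v hv)⟩)
  have hcomm : ∀ l ∈ L, ∀ v ∈ V, l * v * l⁻¹ * v⁻¹ ∈ A := fun l hl v hv => (hLV' hl).2 v hv
  have habh : ∀ a ∈ Yh, ∀ b ∈ Yh, a * b = b * a := by
    rintro _ ⟨a, ha, rfl⟩ _ ⟨b, hb, rfl⟩
    rw [← map_mul, ← map_mul, hab a ha b hb]
  have hcent : ∀ d : G, (∀ y ∈ Y, y * d = d * y) → (∀ y ∈ Yh, y * d = d * y) → d ∈ Subgroup.centralizer (L : Set G) := by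
    intro d h1 h2
    have : L ≤ Subgroup.centralizer ({d} : Set G) := hgen ▸ sup_le
      (fun y hy => Subgroup.mem_centralizer_singleton_iff.mpr (h1 y hy))
      (fun y hy => Subgroup.mem_centralizer_singleton_iff.mpr (h2 y hy))
    exact Subgroup.mem_centralizer_iff.mpr fun l hl => Subgroup.mem_centralizer_singleton_iff.mp (this hl)
  have hfix : ∀ d ∈ Bh, d ∈ Subgroup.centralizer (L : Set G) → d ∈ B := by
    intro d hd hdc
    rw [hBh, Local.mem_map_conj] at hd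
    rwa [show h⁻¹ * d * h = d by rw [mul_assoc, ← Subgroup.mem_centralizer_iff.mp hdc h hh, inv_mul_cancel_left]] at hd
  have hBhN : Bh ≤ Subgroup.normalizer (B : Set G) := Large.le_normalizer_of fun v hv b hb =>
    ⟨Large.conj_mem hVY (hBh' ▸ hv : v ∈ Yh ⊓ V).2 hb.1,
      V.mul_mem (V.mul_mem (hBh' ▸ hv : v ∈ Yh ⊓ V).2 hb.2) (V.inv_mem (hBh' ▸ hv : v ∈ Yh ⊓ V).2)⟩
  refine ⟨hLA, hcomm, fun c hc hcY => ?_, fun c hc hc' => ?_, le_antisymm (fun c hc => ?_) (sup_le ?_ ?_)⟩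
  · rw [← SetLike.mem_coe, Subgroup.coe_mul_of_right_le_normalizer_left B Bh hBhN] at hc
    obtain ⟨b, hb, d, hd, rfl⟩ := hc
    dsimp only at hcY ⊢
    refine B.mul_mem hb (hfix d hd (hcent d (fun y hy => ?_) fun y hy => habh y hy d (hBh' ▸ hd : d ∈ Yh ⊓ V).1))
    have h1 := Subgroup.mem_centralizer_iff.mp hcY y hy
    rw [← mul_assoc, hab y hy b hb.1, mul_assoc, mul_assoc] at h1
    exact mul_left_cancel h1
  · exact hcent c (fun y hy => hab y hy c hc.1) fun y hy => habh y hy c (hBh' ▸ hc' : c ∈ Yh ⊓ V).1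
  · set Kh := V ⊓ Subgroup.centralizer (Yh : Set G)
    set W := B ⊔ Kh
    have hBhK : Bh ≤ Kh := fun d hd => ⟨(hBh' ▸ hd : d ∈ Yh ⊓ V).2,
      Subgroup.mem_centralizer_iff.mpr fun y hy => habh y hy d (hBh' ▸ hd : d ∈ Yh ⊓ V).1⟩
    have h1 : h * c * h⁻¹ ∈ Kh := ⟨Large.conj_mem hLV hh hc.1, Subgroup.mem_centralizer_iff.mpr (by
      rintro _ ⟨y, hy, rfl⟩
      have := congrArg (fun t => h * t * h⁻¹) (Subgroup.mem_centralizer_iff.mp hc.2 y hy)
      simpa [mul_assoc] using this)⟩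
    have h2 : c ∈ W := by
      have h3 := W.mul_mem (W.inv_mem ((sup_le_sup_left hBhK B : A ≤ W) (hcomm h hh c hc.1))) (Subgroup.mem_sup_right h1)
      rwa [show (h * c * h⁻¹ * c⁻¹)⁻¹ * (h * c * h⁻¹) = c by group] at h3
    rw [← SetLike.mem_coe, Subgroup.coe_mul_of_right_le_normalizer_left B Kh (Large.le_normalizer_of fun v hv b hb =>
      ⟨Large.conj_mem hVY hv.1 hb.1, V.mul_mem (V.mul_mem hv.1 hb.2) (V.inv_mem hv.1)⟩)] at h2
    obtain ⟨b, hb, d, hd, rfl⟩ := h2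
    dsimp only at hc ⊢
    refine Subgroup.mul_mem _ (Subgroup.mem_sup_left hb) (Subgroup.mem_sup_right ⟨hd.1,
      hcent d (fun y hy => ?_) fun y hy => Subgroup.mem_centralizer_iff.mp hd.2 y hy⟩)
    have h1 := Subgroup.mem_centralizer_iff.mp hc.2 y hy
    rw [← mul_assoc, hab y hy b hb.1, mul_assoc, mul_assoc] at h1
    exact mul_left_cancel h1
  · exact fun b hb => ⟨hb.2, Subgroup.mem_centralizer_iff.mpr fun y hy => hab y hy b hb.1⟩
  · exact inf_le_inf_left V (Subgroup.centralizer_le (SetLike.coe_subset_coe.mpr hYL))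

variable {S : Sylow p G} {M H L L0 : Subgroup G}

local notation "Ym" => Cfsg.largestPReducedOf p M
local notation "Cm" => Subgroup.centralizer (Cfsg.largestPReducedOf p M : Set G)
local notation "Vh" => Cfsg.pCoreOf p H

/-- An element of `L₀` moving `Y` to a commuting conjugate lies in `M†`. -/
theorem mem_dag (hpc : Cfsg.IsOfParabolicCharacteristic p G) (hSM : (S : Subgroup G) ≤ M) (hM : Cfsg.IsInFrakM p M)
    (hasym : ¬ Cfsg.IsSymmetricIn Ym) (hH : Cfsg.IsInFrakH p M H)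
    (hV : Vh ≤ Subgroup.normalizer (Cfsg.pCoreOf p M : Set G) ⊓ Subgroup.normalizer (Ym : Set G)) (hLH : L ≤ H)
    {u h : G} (hu : u ∈ L) (hh : h ∈ L) (hgen : Ym ⊔ (Ym).map (MulAut.conj h).toMonoidHom = L)
    (hcomm : (Ym).map (MulAut.conj u).toMonoidHom ≤ Cm) : u ∈ M ⊔ Cm := by
  set O := Cfsg.pCoreOf p M
  set Y := Cfsg.largestPReducedOf p M
  set V := Cfsg.pCoreOf p H
  have hHV : H ≤ Subgroup.normalizer (V : Set G) := Large.le_normalizer_pCoreOf p H
  have hab : ∀ a ∈ Y, ∀ b ∈ Y, a * b = b * a := fun a ha b hb => PReduced.mem_comm (PReducedOf.elem M) ha hb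
  obtain ⟨hLA, -, hA, -, hK⟩ := quad hab hgen hh (hLH.trans hHV) (hV.trans inf_le_right)
  set B := Y ⊓ V
  set K := V ⊓ Subgroup.centralizer (Y : Set G) with hKdef
  have hOH : O ≤ H := hH.2.1
  have hBu : u ∈ Subgroup.normalizer (B : Set G) := by
    suffices h1 : u⁻¹ ∈ Subgroup.normalizer (B : Set G) by simpa using Subgroup.inv_mem _ h1
    refine Local.mem_normalizer_of_map_conj_eq (Subgroup.eq_of_le_of_card_ge ?_
      (Subgroup.card_map_of_injective (MulEquiv.injective (MulAut.conj u⁻¹))).ge)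
    refine Local.map_conj_le fun b hb => hA _ (Large.conj_mem hLA (L.inv_mem hu) (Subgroup.mem_sup_left hb))
      (Subgroup.mem_centralizer_iff.mpr fun y hy => ?_)
    have h2 := Subgroup.mem_centralizer_iff.mp (hcomm ⟨y, hy, rfl⟩) b hb.1
    have h3 := congrArg (fun t => u⁻¹ * t * u) h2
    simpa [mul_assoc] using h3.symm
  have huC : ∀ c ∈ V ⊓ Subgroup.centralizer (L : Set G), u * c * u⁻¹ = c := fun c hc => by
    rw [Subgroup.mem_centralizer_iff.mp hc.2 u hu, mul_inv_cancel_right]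
  have huK : u ∈ Subgroup.normalizer (K : Set G) := by
    refine Local.mem_normalizer_of_map_conj_eq ?_
    rw [hK, Subgroup.map_sup, Local.map_conj_eq_of_mem_normalizer hBu]
    congr 1
    ext c
    constructor
    · rintro ⟨d, hd, rfl⟩
      show u * d * u⁻¹ ∈ _
      rw [huC d hd]; exact hd
    · exact fun hc => ⟨c, hc, huC c hc⟩
  set J0 := H ⊓ Subgroup.normalizer (B : Set G) ⊓ Subgroup.normalizer (K : Set G)
  have hcO : ∀ o ∈ O, ∀ y ∈ Y, o * y = y * o := fun o ho y hy => PReducedOf.commute_pCoreOf M hy ho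
  have hOJ : O ≤ J0 := le_inf (le_inf hOH (Large.le_normalizer_of fun o ho b hb => by
      rwa [hcO o ho b hb.1, mul_inv_cancel_right]))
    (Large.le_normalizer_of fun o ho k hk => ⟨Large.conj_mem hHV (hOH ho) hk.1,
      (Subgroup.centralizer (Y : Set G)).mul_mem ((Subgroup.centralizer (Y : Set G)).mul_mem
        (PReducedOf.pCoreOf_le_centralizer M ho) hk.2) (Subgroup.inv_mem _ (PReducedOf.pCoreOf_le_centralizer M ho))⟩)
  have hJ0K : J0 ≤ Subgroup.normalizer (K : Set G) := inf_le_right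
  have hJ0B : J0 ≤ Subgroup.normalizer (B : Set G) := inf_le_left.trans inf_le_right
  set Kc := Large.stab J0 K B hJ0K hJ0B
  have hKcJ : Kc ≤ J0 := fun x hx => hx.1
  have huKc : u ∈ Kc := by
    refine ⟨⟨⟨hLH hu, hBu⟩, huK⟩, fun k hk => ?_⟩
    rw [hK, ← SetLike.mem_coe, Subgroup.coe_mul_of_right_le_normalizer_left B (V ⊓ Subgroup.centralizer (L : Set G))
      (Large.le_normalizer_of fun v hv b hb => ⟨Large.conj_mem (hV.trans inf_le_right) hv.1 hb.1,
        V.mul_mem (V.mul_mem hv.1 hb.2) (V.inv_mem hv.1)⟩)] at hk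
    obtain ⟨b, hb, c, hc, rfl⟩ := hk
    dsimp only
    have e : u * (b * c) * u⁻¹ * (b * c)⁻¹ = u * b * u⁻¹ * b⁻¹ := by
      rw [show u * (b * c) * u⁻¹ * (b * c)⁻¹ = u * b * u⁻¹ * (u * c * u⁻¹) * c⁻¹ * b⁻¹ by group, huC c hc]
      group
    rw [e]
    exact B.mul_mem ((Subgroup.mem_normalizer_iff.mp hBu b).mp hb) (B.inv_mem hb)
  set P := Kc ⊔ O
  have hPJ : P ≤ J0 := sup_le hKcJ hOJ
  have hPV : P ≤ Subgroup.normalizer (V : Set G) := hPJ.trans ((inf_le_left.trans inf_le_left).trans hHV)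
  set S0 := Large.stab P V K hPV (hPJ.trans hJ0K) ⊓ Subgroup.centralizer (B : Set G)
  have hOS : O ≤ S0 := fun o ho => ⟨⟨Subgroup.mem_sup_right ho, fun v hv => ⟨V.mul_mem (Large.conj_mem hHV (hOH ho) hv) (V.inv_mem hv), by
      refine PReducedOf.pCoreOf_le_centralizer M ?_
      rw [show o * v * o⁻¹ * v⁻¹ = o * (v * o⁻¹ * v⁻¹) by group]
      exact O.mul_mem ho (Large.conj_mem (hV.trans inf_le_left) hv (O.inv_mem ho))⟩⟩,
    Subgroup.mem_centralizer_iff.mpr fun b hb => (hcO o ho b hb.1).symm⟩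
  have hS0p : IsPGroup p ↥S0 := by
    refine Stabilizer.isPGroup_of_coprime_trivial S0 fun x hx hcop => ?_
    have hxP : x ∈ P := hx.1.1
    have hxK : x ∈ Kc := by
      haveI : (Kc.subgroupOf P).Normal := Subgroup.normal_subgroupOf_of_le_normalizer (sup_le Subgroup.le_normalizer
        (Large.le_normalizer_of fun o ho k hk => Large.stab_conj hJ0K hJ0B (hOJ ho) hk))
      obtain ⟨n, hn⟩ := PResidual.pow_mem_sylow_sup (H := Kc.subgroupOf P) (P := O.subgroupOf P) (x := (⟨x, hxP⟩ : ↥P))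
        ((PReducedOf.pCoreOf_isPGroup M).comap_of_injective P.subtype P.subtype_injective) (by
          rw [← Subgroup.subgroupOf_sup le_sup_right le_sup_left, sup_comm]
          rw [Subgroup.subgroupOf_self]; exact Subgroup.mem_top _)
      obtain ⟨j, hj⟩ := exists_pow_eq_self_of_coprime (x := x) (n := p ^ n) (hcop.pow_right n).symm
      rw [← hj]
      exact Kc.pow_mem (by simpa [Subgroup.mem_subgroupOf] using hn) j
    have hVp : IsPGroup p ↥V := (isPGroup_pCore p).map _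
    have hK1 : ∀ k ∈ K, x * k = k * x := fun k hk => by
      have hc := hxK.2 k hk
      obtain ⟨i, hi⟩ := hVp ⟨_, hc.2⟩
      have h1 := Stabilizer.coprime_step (x := x) (r := k) (c := x * k * x⁻¹ * k⁻¹) (p := p) hcop
        ⟨i, congrArg Subtype.val hi⟩ (by group) (Subgroup.mem_centralizer_iff.mp hx.2 _ hc).symm
      rw [mul_inv_eq_one] at h1
      exact mul_inv_eq_iff_eq_mul.1 h1
    have hV1 : ∀ v ∈ V, x * v = v * x := fun v hv => by
      have hc := hx.1.2 v hv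
      obtain ⟨i, hi⟩ := hVp ⟨_, hc.1⟩
      have h1 := Stabilizer.coprime_step (x := x) (r := v) (c := x * v * x⁻¹ * v⁻¹) (p := p) hcop
        ⟨i, congrArg Subtype.val hi⟩ (by group) (hK1 _ hc)
      rw [mul_inv_eq_one] at h1
      exact mul_inv_eq_iff_eq_mul.1 h1
    exact congrArg Subtype.val (CharP.eq_one_of_centralizes_pCore (x := (⟨x, (hPJ hxP).1.1⟩ : ↥H)) hH.1
      (by rwa [← Subgroup.orderOf_coe]) fun r hr => Subtype.ext (hV1 r ⟨r, hr, rfl⟩))
  have hPS : P ≤ Subgroup.normalizer (S0 : Set G) := Large.le_normalizer_of fun g hg x hx =>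
    ⟨Large.stab_conj hPV (hPJ.trans hJ0K) hg hx.1,
      Large.conj_mem ((hPJ.trans hJ0B).trans (CharP.normalizer_le_normalizer_centralizer B)) hg hx.2⟩
  exact (FrakM.pgroup_facts hpc hSM hM hasym hS0p hOS).2.2 (hPS (Subgroup.mem_sup_left huKc))

/-- The unique maximal overgroup of `Y` in `L` lies in `M†`. -/
theorem max_le_dag (hpc : Cfsg.IsOfParabolicCharacteristic p G) (hSM : (S : Subgroup G) ≤ M) (hM : Cfsg.IsInFrakM p M)
    (hasym : ¬ Cfsg.IsSymmetricIn Ym) (hH : Cfsg.IsInFrakH p M H)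
    (hV : Vh ≤ Subgroup.normalizer (Cfsg.pCoreOf p M : Set G) ⊓ Subgroup.normalizer (Ym : Set G)) (hLH : L ≤ H)
    (hlt : L0 < L) (hgen : ∀ h ∈ L, h ∉ L0 → Ym ⊔ (Ym).map (MulAut.conj h).toMonoidHom = L)
    (hcore : ∀ l ∈ L0, (Ym).map (MulAut.conj l).toMonoidHom ≤ Cfsg.pCoreOf p L0) : L0 ≤ M ⊔ Cm := by
  set Y := Cfsg.largestPReducedOf p M
  set D := M ⊔ Subgroup.centralizer (Y : Set G)
  obtain ⟨-, h, hh, hh0⟩ := SetLike.lt_iff_le_and_exists.mp hlt
  have hg := hgen h hh hh0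
  have key : ∀ u ∈ L0, Y.map (MulAut.conj u).toMonoidHom ≤ D → Y.map (MulAut.conj u⁻¹).toMonoidHom ≤ D → u ∈ D := by
    intro u hu h1 h2
    refine mem_dag hpc hSM hM hasym hH hV hLH (hlt.le hu) hh hg (FrakM.commute_of_asym hasym ?_ (h1.trans (FrakM.dag_le_normalizer M)))
    refine Large.le_normalizer_of fun y hy b hb => ?_
    have hy' : u⁻¹ * y * u⁻¹⁻¹ ∈ Subgroup.normalizer (Y : Set G) := FrakM.dag_le_normalizer M (h2 ⟨y, hy, by simp⟩)
    rw [Local.mem_map_conj] at hb ⊢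
    have := (Subgroup.mem_normalizer_iff.mp hy' _).mp hb
    simpa [mul_assoc] using this
  set U := ⨆ l : ↥L0, Y.map (MulAut.conj (l : G)).toMonoidHom with hU
  have hUO : U ≤ Cfsg.pCoreOf p L0 := iSup_le fun l => hcore l l.2
  have hUp : IsPGroup p ↥U := IsPGroup.to_le ((isPGroup_pCore (G := ↥L0) p).map L0.subtype) hUO
  have hYU : ∀ l ∈ L0, Y.map (MulAut.conj l).toMonoidHom ≤ U := fun l hl =>
    le_iSup (fun l : ↥L0 => Y.map (MulAut.conj (l : G)).toMonoidHom) ⟨l, hl⟩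
  have hUL : U ≤ L0 := hUO.trans (Large.pCoreOf_le p L0)
  by_contra hcon
  by_cases hUD : U ≤ D
  · exact hcon fun l hl => key l hl ((hYU l hl).trans hUD) ((hYU _ (L0.inv_mem hl)).trans hUD)
  · haveI : Group.IsNilpotent ↥U := hUp.isNilpotent
    set R := U ⊓ D
    have hlt' : R.subgroupOf U < ⊤ := lt_top_iff_ne_top.mpr fun e => hUD fun x hx => ((Subgroup.subgroupOf_eq_top.mp e) hx).2
    obtain ⟨-, u, hu, huR⟩ := SetLike.lt_iff_le_and_exists.mp (Group.normalizerCondition_of_isNilpotent _ hlt')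
    have hYR : Y ≤ R := le_inf (fun y hy => hYU 1 L0.one_mem ⟨y, hy, by simp⟩)
      ((PReducedOf.le_pCoreOf M).trans ((Large.pCoreOf_le p M).trans le_sup_left))
    refine huR ⟨u.2, key u (hUL u.2) ?_ ?_⟩
    · exact Local.map_conj_le fun y hy => ((Subgroup.mem_normalizer_iff.mp hu ⟨y, (hYR hy).1⟩).mp (hYR hy)).2
    · exact Local.map_conj_le fun y hy =>
        ((Subgroup.mem_normalizer_iff.mp (Subgroup.inv_mem _ hu) ⟨y, (hYR hy).1⟩).mp (hYR hy)).2

end CfsgLib.LLemma
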