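import Mathlib

/-!
Sylow subgroups of symmetric and alternating groups are generated by elements of order `p`.
-/

set_option autoImplicit false

namespace CfsgLib.SymSylowGen

open Equiv
open scoped Pointwise

universe u v

/-- A subgroup generated by its elements of exponent `p`. -/
def GenByExp {G : Type u} [Group G] (p : ℕ) (H : Subgroup G) : Prop :=
  H ≤ Subgroup.closure {x | x ∈ H ∧ x ^ p = 1}

variable {G : Type u} [Group G] {K : Type v} [Group K] {p : ℕ}

theorem GenByExp.map {H : Subgroup G} (h : GenByExp p H) (f : G →* K) : GenByExp p (H.map f) := by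
  refine (Subgroup.map_mono h).trans ?_
  rw [MonoidHom.map_closure]
  refine Subgroup.closure_mono ?_
  rintro _ ⟨x, ⟨hx, hp⟩, rfl⟩
  exact ⟨Subgroup.mem_map_of_mem f hx, by rw [← map_pow, hp, map_one]⟩

theorem GenByExp.of_map {H : Subgroup G} {f : G →* K} (hf : Function.Injective f)
    (h : GenByExp p (H.map f)) : GenByExp p H := by
  have e : f '' {x | x ∈ H ∧ x ^ p = 1} = {y | y ∈ H.map f ∧ y ^ p = 1} := by
    ext y
    constructor
    · rintro ⟨x, ⟨hx, hp⟩, rfl⟩
      exact ⟨Subgroup.mem_map_of_mem f hx, by rw [← map_pow, hp, map_one]⟩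
    · rintro ⟨⟨x, hx, rfl⟩, hp⟩
      exact ⟨x, ⟨hx, hf (by rw [map_pow, hp, map_one])⟩, rfl⟩
  have h' : H.map f ≤ (Subgroup.closure {x | x ∈ H ∧ x ^ p = 1}).map f := by
    rw [MonoidHom.map_closure, e]
    exact h
  exact (Subgroup.map_le_map_iff_of_injective hf).1 h'

theorem GenByExp.pow_mem_commutator {H : Subgroup G} (h : GenByExp p H) (x : H) :
    x ^ p ∈ commutator H := by
  let φ : H →* Abelianization H := (powMonoidHom p).comp Abelianization.of
  have hle : Subgroup.closure {y | y ∈ H ∧ y ^ p = 1} ≤ φ.ker.map H.subtype := by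
    rw [Subgroup.closure_le]
    rintro y ⟨hy, hp⟩
    refine ⟨⟨y, hy⟩, ?_, rfl⟩
    show Abelianization.of (⟨y, hy⟩ : H) ^ p = 1
    rw [← map_pow]
    rw [show (⟨y, hy⟩ : H) ^ p = 1 from Subtype.ext hp, map_one]
  obtain ⟨z, hz, e⟩ := hle (h x.2)
  obtain rfl : z = x := Subtype.ext e
  have h1 : Abelianization.of z ^ p = 1 := hz
  rw [← map_pow] at h1
  exact (QuotientGroup.eq_one_iff _).1 h1

variable (p) [hp : Fact p.Prime]

/-- The model set: `m` blocks of size `p` and `r` further points. -/
abbrev Pts (m r : ℕ) := (Fin m × ZMod p) ⊕ Fin r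

/-- The translations of the blocks. -/
def baseHom (m r : ℕ) : Multiplicative (Fin m → ZMod p) →* Perm (Pts p m r) where
  toFun f := Equiv.sumCongr (Equiv.prodCongrRight fun i => Equiv.addRight (f.toAdd i)) 1
  map_one' := by
    ext x
    rcases x with ⟨i, a⟩ | j <;> simp
  map_mul' f g := by
    ext x
    rcases x with ⟨i, a⟩ | j <;> simp [add_assoc, add_comm, add_left_comm]

/-- The permutations of the blocks. -/
def liftHom (m r : ℕ) : Perm (Fin m) →* Perm (Pts p m r) where
  toFun w := Equiv.sumCongr (Equiv.prodCongrLeft fun _ => w) 1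
  map_one' := by
    ext x
    rcases x with ⟨i, a⟩ | j <;> simp
  map_mul' f g := by
    ext x
    rcases x with ⟨i, a⟩ | j <;> simp

theorem baseHom_inl (m r : ℕ) (f : Multiplicative (Fin m → ZMod p)) (i : Fin m) (a : ZMod p) :
    baseHom p m r f (Sum.inl (i, a)) = Sum.inl (i, a + f.toAdd i) := rfl

theorem liftHom_inl (m r : ℕ) (w : Perm (Fin m)) (i : Fin m) (a : ZMod p) :
    liftHom p m r w (Sum.inl (i, a)) = Sum.inl (w i, a) := rfl

theorem lift_conj_base (m r : ℕ) (w : Perm (Fin m)) (f : Multiplicative (Fin m → ZMod p)) :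
    liftHom p m r w * baseHom p m r f =
      baseHom p m r (Multiplicative.ofAdd (f.toAdd ∘ w.symm)) * liftHom p m r w := by
  ext x
  rcases x with ⟨i, a⟩ | j
  · simp [Perm.mul_apply, baseHom_inl, liftHom_inl]
  · simp [Perm.mul_apply, baseHom, liftHom]

theorem base_mul_lift_injective (m r : ℕ) :
    Function.Injective fun x : Multiplicative (Fin m → ZMod p) × Perm (Fin m) =>
      baseHom p m r x.1 * liftHom p m r x.2 := by
  rintro ⟨f, w⟩ ⟨f', w'⟩ e
  have key : ∀ i : Fin m, w i = w' i ∧ f.toAdd (w i) = f'.toAdd (w' i) := by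
    intro i
    have h := congrArg (fun q : Perm (Pts p m r) => q (Sum.inl (i, 0))) e
    simpa [Perm.mul_apply, baseHom_inl, liftHom_inl] using h
  obtain rfl : w = w' := Equiv.ext fun i => (key i).1
  refine Prod.ext (Multiplicative.toAdd.injective (funext fun i => ?_)) rfl
  simpa using (key (w.symm i)).2

theorem baseHom_pow (m r : ℕ) (f : Multiplicative (Fin m → ZMod p)) : baseHom p m r f ^ p = 1 := by
  rw [← map_pow, show f ^ p = 1 from Multiplicative.toAdd.injective (by
    rw [toAdd_pow, toAdd_one]; ext i; simp), map_one]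

theorem sign_liftHom (m r : ℕ) (w : Perm (Fin m)) :
    Perm.sign (liftHom p m r w) = Perm.sign w ^ p := by
  show Perm.sign (Equiv.sumCongr _ _) = _
  rw [Perm.sign_sumCongr, Perm.sign_prodCongrLeft, map_one, mul_one, Finset.prod_const,
    Finset.card_univ, ZMod.card]

theorem exists_generated : ∀ n : ℕ, ∃ T : Subgroup (Perm (Fin n)),
    IsPGroup p T ∧ Nat.card T = p ^ padicValNat p n.factorial ∧ GenByExp p T ∧
      (p = 2 → GenByExp p (T ⊓ alternatingGroup (Fin n))) := by
  intro n
  induction n using Nat.strong_induction_on with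
  | _ n ih =>
    by_cases hn : n < p
    · refine ⟨⊥, IsPGroup.of_bot, ?_, bot_le, fun _ => inf_le_left.trans bot_le⟩
      rw [padicValNat.eq_zero_of_not_dvd fun h => hn.not_ge ((Nat.Prime.dvd_factorial hp.out).1 h),
        pow_zero, Subgroup.card_bot]
    set m := n / p with hm
    set r := n % p with hr
    obtain ⟨W, hWp, hWcard, hWgen, -⟩ := ih m
      (Nat.div_lt_self (hp.out.pos.trans_le (not_lt.1 hn)) hp.out.one_lt)
    set B := (baseHom p m r).range with hB
    set L := W.map (liftHom p m r) with hL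
    have hLB : L ≤ Subgroup.normalizer (B : Set (Perm (Pts p m r))) := by
      rintro _ ⟨w, hw, rfl⟩
      rw [Subgroup.mem_normalizer_iff]
      intro x
      constructor
      · rintro ⟨f, rfl⟩
        exact ⟨Multiplicative.ofAdd (f.toAdd ∘ w.symm), by rw [lift_conj_base, mul_inv_cancel_right]⟩
      · rintro ⟨f, hf⟩
        refine ⟨Multiplicative.ofAdd (f.toAdd ∘ w), ?_⟩
        have h := lift_conj_base p m r w (Multiplicative.ofAdd (f.toAdd ∘ w))
        simp only [toAdd_ofAdd, Function.comp_assoc, Equiv.self_comp_symm, Function.comp_id,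
          ofAdd_toAdd] at h
        rw [hf, inv_mul_cancel_right] at h
        exact mul_left_cancel h
    have hBp : IsPGroup p B := by
      intro x
      obtain ⟨f, hf⟩ := x.2
      exact ⟨1, Subtype.ext (by rw [SubmonoidClass.coe_pow, pow_one, ← hf, baseHom_pow]; rfl)⟩
    have hLp : IsPGroup p L := hWp.map _
    set T := B ⊔ L with hT
    have hTp : IsPGroup p T := IsPGroup.to_sup_of_normal_left' hBp hLp hLB
    have hdec : ∀ x ∈ T, ∃ f, ∃ w ∈ W, baseHom p m r f * liftHom p m r w = x := by
      intro x hx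
      rw [← SetLike.mem_coe, hT, Subgroup.coe_mul_of_right_le_normalizer_left B L hLB] at hx
      obtain ⟨_, ⟨f, rfl⟩, _, ⟨w, hw, rfl⟩, rfl⟩ := hx
      exact ⟨f, w, hw, rfl⟩
    have hval : padicValNat p n.factorial = padicValNat p m.factorial + m := by
      rw [← padicValNat_mul_div_factorial n, padicValNat_factorial_mul]
    obtain ⟨e⟩ : Nonempty (Pts p m r ≃ Fin n) := ⟨Fintype.equivFinOfCardEq (by
      simp only [Pts, Fintype.card_sum, Fintype.card_prod, Fintype.card_fin, ZMod.card]
      exact Nat.div_add_mod' n p)⟩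
    let E : Perm (Pts p m r) ≃* Perm (Fin n) := e.permCongrHom
    have hcard : Nat.card T = p ^ padicValNat p n.factorial := by
      obtain ⟨k, hk⟩ := IsPGroup.iff_card.1 hTp
      refine le_antisymm ?_ ?_
      · rw [hk]
        refine Nat.pow_le_pow_right hp.out.pos
          ((padicValNat_dvd_iff_le n.factorial_ne_zero).1 ?_)
        rw [← hk, show n.factorial = Nat.card (Perm (Pts p m r)) by
          rw [Nat.card_congr E.toEquiv, Nat.card_perm, Nat.card_fin]]
        exact Subgroup.card_subgroup_dvd_card T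
      · rw [hval, pow_add, ← hWcard, mul_comm]
        have h := Nat.card_le_card_of_injective
          (fun x : Multiplicative (Fin m → ZMod p) × W =>
            (⟨baseHom p m r x.1 * liftHom p m r x.2,
              T.mul_mem ((le_sup_left : B ≤ T) ⟨x.1, rfl⟩)
                ((le_sup_right : L ≤ T) (Subgroup.mem_map_of_mem _ x.2.2))⟩ : T))
          (fun a b h => by
            have := base_mul_lift_injective p m r (a₁ := (a.1, a.2.1)) (a₂ := (b.1, b.2.1))
              (congrArg Subtype.val h)
            rw [Prod.ext_iff] at this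
            exact Prod.ext this.1 (Subtype.ext this.2))
        rw [Nat.card_prod, Nat.card_congr Multiplicative.toAdd, Nat.card_fun, Nat.card_zmod,
          Nat.card_fin] at h
        exact h
    have hLgen : GenByExp p L := hWgen.map _
    have hTgen : GenByExp p T := by
      refine sup_le ?_ (hLgen.trans (Subgroup.closure_mono fun x hx =>
        ⟨(le_sup_right : L ≤ T) hx.1, hx.2⟩))
      rintro _ ⟨f, rfl⟩
      exact Subgroup.subset_closure ⟨(le_sup_left : B ≤ T) ⟨f, rfl⟩, baseHom_pow p m r f⟩
    have halt : (T ⊓ alternatingGroup (Pts p m r)).map E.toMonoidHom =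
        T.map E.toMonoidHom ⊓ alternatingGroup (Fin n) := by
      rw [Subgroup.map_inf _ _ _ E.injective]
      congr 1
      ext y
      constructor
      · rintro ⟨x, hx, rfl⟩
        exact (Perm.sign_permCongr e x).trans hx
      · intro hy
        refine ⟨E.symm y, ?_, E.apply_symm_apply y⟩
        show Perm.sign (E.symm y) = 1
        rw [← Perm.sign_permCongr e]
        exact (congrArg Perm.sign (E.apply_symm_apply y)).trans hy
    refine ⟨T.map E.toMonoidHom, hTp.map _, ?_, hTgen.map _, fun h2 => ?_⟩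
    · rw [Subgroup.card_map_of_injective E.injective, hcard]
    rw [← halt]
    refine GenByExp.map (fun x hx => ?_) _
    subst h2
    obtain ⟨f, w, hw, rfl⟩ := hdec x hx.1
    have hl : Perm.sign (liftHom 2 m r w) = 1 := by rw [sign_liftHom, sq, Int.units_mul_self]
    have hb : Perm.sign (baseHom 2 m r f) = 1 := by
      have := Perm.mem_alternatingGroup.1 hx.2
      rwa [map_mul, hl, mul_one] at this
    refine Subgroup.mul_mem _ ?_ ?_
    · exact Subgroup.subset_closure
        ⟨⟨(le_sup_left : B ≤ T) ⟨f, rfl⟩, hb⟩, baseHom_pow 2 m r f⟩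
    · have hLA : L ≤ alternatingGroup (Pts 2 m r) := by
        rintro _ ⟨w', -, rfl⟩
        exact (sign_liftHom 2 m r w').trans (by rw [sq, Int.units_mul_self])
      refine Subgroup.closure_mono ?_ (hLgen (Subgroup.mem_map_of_mem _ hw))
      intro y hy
      exact ⟨⟨(le_sup_right : L ≤ T) hy.1, hLA hy.1⟩, hy.2⟩

theorem genByExp_sylow (n : ℕ) (P : Sylow p (Perm (Fin n))) :
    GenByExp p (P : Subgroup (Perm (Fin n))) ∧
      (p = 2 → GenByExp p ((P : Subgroup (Perm (Fin n))) ⊓ alternatingGroup (Fin n))) := by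
  obtain ⟨T, hTp, hTc, hTg, hT2⟩ := exists_generated p n
  let S : Sylow p (Perm (Fin n)) := Sylow.ofCard T (by
    rw [hTc, Nat.card_perm, Nat.card_fin, Nat.factorization_def _ hp.out])
  obtain ⟨g, hg⟩ := MulAction.exists_smul_eq (Perm (Fin n)) S P
  have e : (P : Subgroup (Perm (Fin n))) = T.map (MulAut.conj g).toMonoidHom := by
    rw [← hg]; rfl
  refine ⟨e ▸ hTg.map _, fun h2 => ?_⟩
  have e2 : (T ⊓ alternatingGroup (Fin n)).map (MulAut.conj g).toMonoidHom =
      (P : Subgroup (Perm (Fin n))) ⊓ alternatingGroup (Fin n) := by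
    rw [Subgroup.map_inf _ _ _ (MulAut.conj g).injective, ← e]
    congr 1
    ext y
    constructor
    · rintro ⟨x, hx, rfl⟩
      show Perm.sign (g * x * g⁻¹) = 1
      rw [map_mul, map_mul, map_inv, Perm.mem_alternatingGroup.1 hx, mul_one, mul_inv_cancel]
    · intro hy
      refine ⟨g⁻¹ * y * g, ?_, by simp [mul_assoc]⟩
      show Perm.sign (g⁻¹ * y * g) = 1
      rw [map_mul, map_mul, map_inv, Perm.mem_alternatingGroup.1 hy, mul_one, inv_mul_cancel]
  exact e2 ▸ (hT2 h2).map _

theorem genByExp_alternating (n : ℕ) (Q : Sylow p (alternatingGroup (Fin n))) :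
    GenByExp p (Q : Subgroup (alternatingGroup (Fin n))) := by
  obtain ⟨P, hP⟩ := Sylow.exists_comap_subtype_eq Q
  refine GenByExp.of_map (f := (alternatingGroup (Fin n)).subtype) Subtype.val_injective ?_
  rw [← hP, ← Subgroup.subgroupOf, Subgroup.subgroupOf_map_subtype]
  by_cases h2 : p = 2
  · exact (genByExp_sylow p n P).2 h2
  · have hle : (P : Subgroup (Perm (Fin n))) ≤ alternatingGroup (Fin n) := by
      intro x hx
      obtain ⟨k, hk⟩ := P.2 ⟨x, hx⟩
      have h1 : Perm.sign x ^ p ^ k = 1 := by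
        rw [← map_pow, show x ^ p ^ k = 1 from congrArg Subtype.val hk, map_one]
      obtain ⟨j, hj⟩ := (hp.out.odd_of_ne_two h2).pow (n := k)
      rw [hj, pow_succ, pow_mul, Int.units_sq, one_pow, one_mul] at h1
      exact h1
    rw [inf_eq_left.2 hle]
    exact (genByExp_sylow p n P).1

end CfsgLib.SymSylowGen
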