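import Mathlib
import Cfsg.Agent.Lib.PolynomialSequence

/-! Hall's and Mann's bounds for the order of a `p`-group of given derived length. -/

set_option autoImplicit false

namespace CfsgLib.MannDL

open Subgroup
open scoped commutatorElement

variable {G : Type*} [Group G]

/-- Iterated commutator with the whole group. -/
def rel (H : Subgroup G) : ℕ → Subgroup G
  | 0 => H
  | n + 1 => ⁅rel H n, (⊤ : Subgroup G)⁆

theorem rel_mono {H K : Subgroup G} (h : H ≤ K) : ∀ n, rel H n ≤ rel K n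
  | 0 => h
  | n + 1 => commutator_mono (rel_mono h n) le_rfl

theorem rel_rel (H : Subgroup G) (i : ℕ) : ∀ j, rel (rel H i) j = rel H (i + j)
  | 0 => rfl
  | j + 1 => by
    show ⁅rel (rel H i) j, (⊤ : Subgroup G)⁆ = ⁅rel H (i + j), (⊤ : Subgroup G)⁆
    rw [rel_rel H i j]

theorem rel_le_lcs (H : Subgroup G) : ∀ n, rel H n ≤ (⊤ : Subgroup G).lowerCentralSeries n
  | 0 => le_top
  | n + 1 => commutator_mono (rel_le_lcs H n) le_rfl

theorem rel_normal (H : Subgroup G) [hH : H.Normal] : ∀ n, (rel H n).Normal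
  | 0 => hH
  | n + 1 => by
    haveI := rel_normal H n
    exact Subgroup.commutator_normal _ _

theorem rel_le (H : Subgroup G) [hH : H.Normal] : ∀ n, rel H n ≤ H
  | 0 => le_rfl
  | n + 1 => (commutator_mono (rel_le H n) le_rfl).trans (commutator_le_left H ⊤)

/-- `[H, γ_{v+1}] ≤ [H, G, …, G]`. -/
theorem comm_lcs : ∀ (v : ℕ) (H : Subgroup G) [H.Normal], ⁅H, (⊤ : Subgroup G).lowerCentralSeries v⁆ ≤ rel H (v + 1)
  | 0, H, _ => le_rfl
  | v + 1, H, hH => by
    haveI := rel_normal H (v + 1 + 1)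
    haveI := rel_normal H 1
    have hN : ∀ X : Subgroup G, X ≤ Subgroup.normalizer ((rel H (v + 1 + 1) : Subgroup G) : Set G) :=
      fun X => by rw [Subgroup.normalizer_eq_top]; exact le_top
    rw [Subgroup.commutator_comm, CfsgLib.Stabilizer.lowerCentralSeries_succ']
    refine CfsgLib.Stabilizer.commutator_commutator_le_of_rotate (hN _) (hN _) (hN _) ?_ ?_
    · rw [Subgroup.commutator_comm ⊤]
      refine (comm_lcs v (rel H 1)).trans ?_
      rw [rel_rel, show 1 + (v + 1) = v + 1 + 1 by omega]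
    · exact commutator_mono (comm_lcs v H) le_rfl

theorem sup_comm_le {A B C N : Subgroup G} [N.Normal] (hA : ⁅A, C⁆ ≤ N) (hB : ⁅B, C⁆ ≤ N) :
    ⁅A ⊔ B, C⁆ ≤ N := by
  let π := QuotientGroup.mk' N
  have key : ∀ X : Subgroup G, ⁅X, C⁆ ≤ N ↔ X ≤ (Subgroup.centralizer (C.map π : Set (G ⧸ N))).comap π := by
    intro X
    rw [← map_le_iff_le_comap, ← commutator_eq_bot_iff_le_centralizer, ← map_commutator, Subgroup.map_eq_bot_iff,
      QuotientGroup.ker_mk']
  exact (key _).2 (sup_le ((key A).1 hA) ((key B).1 hB))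

theorem zpowers_comm_le {x y : G} {N : Subgroup G} [N.Normal] (h : ⁅x, y⁆ ∈ N) :
    ⁅zpowers x, zpowers y⁆ ≤ N := by
  refine commutator_le.2 fun a ha b hb => ?_
  obtain ⟨i, rfl⟩ := ha; obtain ⟨j, rfl⟩ := hb
  rw [← QuotientGroup.eq_one_iff] at h ⊢
  have hc : Commute (QuotientGroup.mk' N x) (QuotientGroup.mk' N y) := by
    rw [← commutatorElement_eq_one_iff_commute, ← map_commutatorElement]; exact h
  have := (hc.zpow_zpow i j)
  rw [← commutatorElement_eq_one_iff_commute, ← map_zpow, ← map_zpow, ← map_commutatorElement] at this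
  exact this

/-- Commutators in a group generated by one element modulo `M`. -/
theorem comm_self_le_one {H M N : Subgroup G} [N.Normal] {x : G} (hx : x ∈ H)
    (hgen : H ≤ zpowers x ⊔ M) (hMH : ⁅M, H⁆ ≤ N) : ⁅H, H⁆ ≤ N := by
  have hxH : zpowers x ≤ H := zpowers_le.2 hx
  refine (commutator_mono hgen le_rfl).trans (sup_comm_le ?_ hMH)
  rw [Subgroup.commutator_comm]
  refine (commutator_mono hgen le_rfl).trans (sup_comm_le ?_ ?_)
  · exact zpowers_comm_le (by simp)
  · exact (commutator_mono le_rfl hxH).trans hMH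

/-- Commutators in a group generated by two elements modulo `M`. -/
theorem comm_self_le_two {H M N : Subgroup G} [N.Normal] {x y : G} (hx : x ∈ H) (hy : y ∈ H)
    (hgen : H ≤ zpowers x ⊔ zpowers y ⊔ M) (hMH : ⁅M, H⁆ ≤ N) (hxy : ⁅x, y⁆ ∈ N) : ⁅H, H⁆ ≤ N := by
  have hyx : ⁅y, x⁆ ∈ N := by rw [← commutatorElement_inv x y]; exact N.inv_mem hxy
  have h1 : ∀ z ∈ ({x, y} : Set G), ⁅zpowers z, H⁆ ≤ N := by
    intro z hz
    have hzH : z ∈ H := by rcases hz with rfl | rfl <;> assumption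
    rw [Subgroup.commutator_comm]
    refine (commutator_mono hgen le_rfl).trans
      (sup_comm_le (sup_comm_le ?_ ?_) ((commutator_mono le_rfl (zpowers_le.2 hzH)).trans hMH))
    · rcases hz with rfl | rfl
      · exact zpowers_comm_le (by simp)
      · exact zpowers_comm_le hxy
    · rcases hz with rfl | rfl
      · exact zpowers_comm_le hyx
      · exact zpowers_comm_le (by simp)
  exact (commutator_mono hgen le_rfl).trans
    (sup_comm_le (sup_comm_le (h1 x (by simp)) (h1 y (by simp))) hMH)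

variable [Finite G] {p : ℕ} [hpF : Fact p.Prime]

theorem card_mul_le (hG : IsPGroup p G) {K L : Subgroup G} (h : K < L) :
    p * Nat.card K ≤ Nat.card L := by
  obtain ⟨a, ha⟩ := (hG.to_subgroup K).exists_card_eq
  obtain ⟨b, hb⟩ := (hG.to_subgroup L).exists_card_eq
  have hne : Nat.card K < Nat.card L := by
    by_contra hc
    exact h.ne (Subgroup.eq_of_le_of_card_ge h.le (by omega))
  rw [ha, hb] at hne ⊢
  have hab : a < b := (Nat.pow_lt_pow_iff_right hpF.out.one_lt).1 hne
  rw [← pow_succ']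
  exact Nat.pow_le_pow_right hpF.out.pos hab

theorem eq_bot_of_le_comm_top (hG : IsPGroup p G) {K : Subgroup G} (h : K ≤ ⁅K, (⊤ : Subgroup G)⁆) :
    K = ⊥ := by
  have hnil : Group.IsNilpotent G := hG.isNilpotent
  obtain ⟨n, hn⟩ := Subgroup.nilpotent_iff_lowerCentralSeries.1 hnil
  have hk : ∀ j, K ≤ rel K j := by
    intro j; induction j with
    | zero => exact le_rfl
    | succ j ih => exact h.trans (commutator_mono ih le_rfl)
  exact le_bot_iff.1 (hn ▸ (hk n).trans (rel_le_lcs K n))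

/-- If `[H, G, …, G]` (`j` times) is in `[H', …]`-stable position it is inside `H'`. -/
theorem rel_le_of_stable (hG : IsPGroup p G) {H W : Subgroup G} [W.Normal] {j : ℕ}
    (h : rel H j ⊔ W ≤ rel H (j + 1) ⊔ W) : rel H j ≤ W := by
  have hnil : Group.IsNilpotent G := hG.isNilpotent
  obtain ⟨n, hn⟩ := Subgroup.nilpotent_iff_lowerCentralSeries.1 hnil
  have hk : ∀ i, rel H j ≤ rel H (j + i) ⊔ W := by
    intro i; induction i with
    | zero => exact le_sup_left
    | succ i ih =>
      refine (le_sup_left.trans h).trans (sup_le ?_ le_sup_right)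
      refine (commutator_mono ih le_rfl : rel H (j + 1) ≤ _).trans ?_
      have hR : ∀ (A B : Subgroup G), ⁅A ⊔ W, (⊤ : Subgroup G)⁆ ≤ ⁅A, (⊤ : Subgroup G)⁆ ⊔ W := by
        intro A _
        haveI : (⁅A, (⊤ : Subgroup G)⁆ ⊔ W).Normal := by
          rw [← Subgroup.commutator_top_right_le_iff]
          haveI : (⁅A, (⊤ : Subgroup G)⁆).Normal := by
            rw [← Subgroup.normalizer_eq_top_iff, eq_top_iff]; exact normalizer_commutator_ge_right _ _
          exact commutator_le_left _ _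
        exact sup_comm_le le_sup_left ((commutator_le_left W ⊤).trans le_sup_right)
      exact hR _ ⊤
  have := hk n
  rwa [le_bot_iff.1 ((rel_le_lcs H (j + n)).trans ((Subgroup.lowerCentralSeries_antitone _ (by omega)).trans hn.le)),
    bot_sup_eq] at this

/-- The chain `[H, G, …, G] H'` strictly decreases until it reaches `H'`. -/
theorem chain_card (hG : IsPGroup p G) {H W : Subgroup G} [H.Normal] [W.Normal] (i : ℕ) :
    ∀ j, (∀ l, l < j → ¬ rel H (i + l) ≤ W) →
      p ^ j * Nat.card (rel H (i + j) ⊔ W : Subgroup G) ≤ Nat.card (rel H i ⊔ W : Subgroup G)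
  | 0, _ => by simp
  | j + 1, h => by
    have ih := chain_card hG i j fun l hl => h l (by omega)
    have hle : rel H (i + (j + 1)) ⊔ W ≤ rel H (i + j) ⊔ W := by
      haveI := rel_normal H (i + j)
      exact sup_le_sup_right (commutator_le_left _ _) _
    have hlt : rel H (i + (j + 1)) ⊔ W < rel H (i + j) ⊔ W := by
      refine lt_of_le_of_ne hle fun heq => h j (by omega) (rel_le_of_stable hG ?_)
      rw [← heq]; exact le_rfl
    calc p ^ (j + 1) * Nat.card (rel H (i + (j + 1)) ⊔ W : Subgroup G)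
        = p ^ j * (p * Nat.card (rel H (i + (j + 1)) ⊔ W : Subgroup G)) := by ring
      _ ≤ p ^ j * Nat.card (rel H (i + j) ⊔ W : Subgroup G) := Nat.mul_le_mul_left _ (card_mul_le hG hlt)
      _ ≤ _ := ih

/-- A pair of normal subgroups with `M < H` and `|H| < p³|M|`: `H` needs two generators modulo `M`. -/
theorem two_gen (hG : IsPGroup p G) {H M : Subgroup G} (hM : M ≤ H)
    (h : Nat.card H < p ^ 3 * Nat.card M) :
    ∃ x ∈ H, ∃ y ∈ H, H ≤ zpowers x ⊔ zpowers y ⊔ M := by
  by_cases h0 : H ≤ M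
  · exact ⟨1, H.one_mem, 1, H.one_mem, h0.trans le_sup_right⟩
  obtain ⟨x, hx, hxM⟩ := SetLike.not_le_iff_exists.1 h0
  by_cases h1 : H ≤ zpowers x ⊔ M
  · exact ⟨x, hx, 1, H.one_mem, h1.trans (sup_le (le_sup_left.trans le_sup_left) le_sup_right)⟩
  obtain ⟨y, hy, hyA⟩ := SetLike.not_le_iff_exists.1 h1
  refine ⟨x, hx, y, hy, ?_⟩
  by_contra hc
  have l1 : M < zpowers x ⊔ M :=
    lt_of_le_of_ne le_sup_right fun e => hxM (by rw [e]; exact mem_sup_left (mem_zpowers x))
  have l2 : zpowers x ⊔ M < zpowers x ⊔ zpowers y ⊔ M :=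
    lt_of_le_of_ne (sup_le_sup_right le_sup_left _) fun e => hyA (by
      rw [e]; exact mem_sup_left (mem_sup_right (mem_zpowers y)))
  have l3 : zpowers x ⊔ zpowers y ⊔ M < H :=
    lt_of_le_of_ne (sup_le (sup_le (zpowers_le.2 hx) (zpowers_le.2 hy)) hM) fun e => hc e.ge
  have c1 := Nat.mul_le_mul_left (p * p) (card_mul_le hG l1)
  have c2 := Nat.mul_le_mul_left p (card_mul_le hG l2)
  have c3 := card_mul_le hG l3
  nlinarith

/-- Hall: if `H ≤ γ_{v+1}` is normal and not abelian then `|H : H'| ≥ p^{v+2}`. -/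
theorem hall_index (hG : IsPGroup p G) {H : Subgroup G} [H.Normal] {v : ℕ} (hv : H ≤ (⊤ : Subgroup G).lowerCentralSeries v)
    (hne : ⁅H, H⁆ ≠ ⊥) :
    p ^ (v + 2) * Nat.card (⁅H, H⁆ : Subgroup G) ≤ Nat.card H ∧
      p ^ v * Nat.card (⁅H, H⁆ : Subgroup G) ≤ Nat.card (rel H 1 ⊔ ⁅H, H⁆ : Subgroup G) := by
  set W : Subgroup G := ⁅H, H⁆ with hW
  have hWr : W ≤ rel H (v + 1) := (commutator_mono le_rfl hv).trans (comm_lcs v H)
  have hWH : W ≤ H := commutator_le_left _ _
  have hnot : ∀ l ≤ v, ¬ rel H l ≤ W := by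
    intro l hl hle
    refine hne (eq_bot_of_le_comm_top hG ?_)
    have hv' : rel H v ≤ W := by
      haveI := rel_normal H l
      obtain ⟨d, rfl⟩ := Nat.exists_eq_add_of_le hl
      exact (rel_rel H l d).ge.trans ((rel_le _ d).trans hle)
    exact hWr.trans (commutator_mono hv' le_rfl)
  have hchain : p ^ v * Nat.card W ≤ Nat.card (rel H 1 ⊔ W : Subgroup G) := by
    refine le_trans (Nat.mul_le_mul_left _ ?_) (chain_card hG (H := H) (W := W) 1 v fun l hl => hnot (1 + l) (by omega))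
    exact Nat.card_le_card_of_injective _ (Subgroup.inclusion_injective le_sup_right)
  refine ⟨?_, hchain⟩
  have h0 : rel H 0 ⊔ W = H := sup_eq_left.2 hWH
  by_cases hlast : rel H (v + 1) ≤ W
  · -- then `H` is not cyclic over `[H, G] H'`
    set D : Subgroup G := rel H 1 ⊔ W with hD
    have hDH : D ≤ H := sup_le (rel_le H 1) hWH
    by_contra hc
    push_neg at hc
    have hlt : Nat.card H < p ^ 2 * Nat.card D := by
      calc Nat.card H < p ^ (v + 2) * Nat.card W := hc
        _ = p ^ 2 * (p ^ v * Nat.card W) := by ring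
        _ ≤ _ := Nat.mul_le_mul_left _ hchain
    have hnD : ¬ H ≤ D := fun h => hnot 0 (Nat.zero_le v) (rel_le_of_stable hG (by
      rw [h0]; exact h))
    obtain ⟨x, hx, hxD⟩ := SetLike.not_le_iff_exists.1 hnD
    have hgen : H ≤ zpowers x ⊔ D := by
      by_contra hh
      have l1 : D < zpowers x ⊔ D :=
        lt_of_le_of_ne le_sup_right fun e => hxD (by rw [e]; exact mem_sup_left (mem_zpowers x))
      have l2 : zpowers x ⊔ D < H :=
        lt_of_le_of_ne (sup_le (zpowers_le.2 hx) hDH) fun e => hh e.ge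
      have c1 := Nat.mul_le_mul_left p (card_mul_le hG l1)
      have c2 := card_mul_le hG l2
      nlinarith
    haveI : (⁅W, (⊤ : Subgroup G)⁆).Normal := Subgroup.commutator_normal _ _
    refine hne (eq_bot_of_le_comm_top hG (comm_self_le_one hx hgen (sup_comm_le ?_ (commutator_mono le_rfl le_top))))
    haveI := rel_normal H 1
    refine ((commutator_mono le_rfl hv).trans (comm_lcs v (rel H 1))).trans ?_
    rw [rel_rel, show 1 + (v + 1) = (v + 1) + 1 by omega]
    exact commutator_mono hlast le_rfl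
  · have h2 := chain_card hG (H := H) (W := W) 0 (v + 2) fun l hl => by
      rw [Nat.zero_add]
      rcases Nat.lt_or_ge l (v + 1) with h | h
      · exact hnot l (by omega)
      · rwa [show l = v + 1 by omega]
    rw [h0] at h2
    exact le_trans (Nat.mul_le_mul_left _ (Nat.card_le_card_of_injective _ (Subgroup.inclusion_injective le_sup_right))) h2

/-- `H` cyclic modulo `γ_{v+2}`: `H' ≤ γ_{2v+3}`. -/
theorem derived_le_of_cyclic {H : Subgroup G} [H.Normal] {v : ℕ} (hv : H ≤ (⊤ : Subgroup G).lowerCentralSeries v) {x : G} (hx : x ∈ H)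
    (hgen : H ≤ zpowers x ⊔ (⊤ : Subgroup G).lowerCentralSeries (v + 1)) : ⁅H, H⁆ ≤ (⊤ : Subgroup G).lowerCentralSeries (2 * v + 2) := by
  refine comm_self_le_one hx hgen ?_
  refine (commutator_mono le_rfl hv).trans ((CfsgLib.PolySeq.lcs_commutator_le v (v + 1)).trans ?_)
  rw [show v + 1 + v + 1 = 2 * v + 2 by omega]

/-- The case of the minimal index. -/
theorem derived_cyclic_top (hG : IsPGroup p G) {H : Subgroup G} [H.Normal] {v : ℕ} (hv : H ≤ (⊤ : Subgroup G).lowerCentralSeries v)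
    (hne : ⁅H, H⁆ ≠ ⊥) (hsmall : Nat.card H < p ^ (v + 3) * Nat.card (⁅H, H⁆ : Subgroup G)) :
    ∃ c ∈ ⁅H, H⁆, ⁅H, H⁆ ≤ zpowers c ⊔ (⊤ : Subgroup G).lowerCentralSeries (2 * v + 2) := by
  have hch := (hall_index hG hv hne).2
  set M : Subgroup G := H ⊓ (⊤ : Subgroup G).lowerCentralSeries (v + 1) with hM
  have hWv : ⁅H, H⁆ ≤ (⊤ : Subgroup G).lowerCentralSeries (v + 1) :=
    ((commutator_mono hv hv).trans (CfsgLib.PolySeq.lcs_commutator_le v v)).trans
      (Subgroup.lowerCentralSeries_antitone _ (by omega))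
  have hDM : rel H 1 ⊔ ⁅H, H⁆ ≤ M :=
    le_inf (sup_le (rel_le H 1) (commutator_le_left _ _)) (sup_le (commutator_mono hv le_rfl) hWv)
  have hlt : Nat.card H < p ^ 3 * Nat.card M := by
    calc Nat.card H < p ^ (v + 3) * Nat.card (⁅H, H⁆ : Subgroup G) := hsmall
      _ = p ^ 3 * (p ^ v * Nat.card (⁅H, H⁆ : Subgroup G)) := by ring
      _ ≤ _ := Nat.mul_le_mul_left _
          (hch.trans (Nat.card_le_card_of_injective _ (Subgroup.inclusion_injective hDM)))
  obtain ⟨x, hx, y, hy, hgen⟩ := two_gen hG (inf_le_left : M ≤ H) hlt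
  have hc : ⁅x, y⁆ ∈ (⊤ : Subgroup G).lowerCentralSeries (2 * v + 1) := by
    have := CfsgLib.PolySeq.lcs_commutator_le v v (commutator_mem_commutator (hv hx) (hv hy))
    rwa [show v + v + 1 = 2 * v + 1 by omega] at this
  haveI hN : (zpowers ⁅x, y⁆ ⊔ (⊤ : Subgroup G).lowerCentralSeries (2 * v + 2)).Normal := by
    rw [← Subgroup.commutator_top_right_le_iff]
    refine le_trans ?_ le_sup_right
    refine (commutator_mono (sup_le (zpowers_le.2 hc) (Subgroup.lowerCentralSeries_antitone _ (by omega)))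
      le_rfl).trans ?_
    rfl
  refine ⟨⁅x, y⁆, commutator_mem_commutator hx hy, comm_self_le_two hx hy hgen ?_ (mem_sup_left (mem_zpowers _))⟩
  refine le_trans ?_ le_sup_right
  refine (commutator_mono inf_le_right hv).trans ((CfsgLib.PolySeq.lcs_commutator_le v (v + 1)).trans ?_)
  rw [show v + 1 + v + 1 = 2 * v + 2 by omega]

theorem derived_le_lcs : ∀ i, derivedSeries G i ≤ (⊤ : Subgroup G).lowerCentralSeries (2 ^ i - 1)
  | 0 => by simp
  | i + 1 => by
    refine ((commutator_mono (derived_le_lcs i) (derived_le_lcs i)).trans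
      (CfsgLib.PolySeq.lcs_commutator_le _ _)).trans (Subgroup.lowerCentralSeries_antitone _ ?_)
    have : 2 ^ i ≥ 1 := Nat.one_le_two_pow
    rw [pow_succ]; omega

/-- The exponent form of Hall's index bound. -/
theorem hall_exp (hG : IsPGroup p G) {H : Subgroup G} [H.Normal] {v a b : ℕ} (hv : H ≤ (⊤ : Subgroup G).lowerCentralSeries v)
    (hne : ⁅H, H⁆ ≠ ⊥) (ha : Nat.card H = p ^ a) (hb : Nat.card (⁅H, H⁆ : Subgroup G) = p ^ b) :
    v + 2 + b ≤ a := by
  have := (hall_index hG hv hne).1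
  rw [ha, hb, ← pow_add] at this
  exact (Nat.pow_le_pow_iff_right hpF.out.one_lt).1 this

theorem derivedSeries_ne_bot {k i : ℕ} (hik : i ≤ k) (hk : derivedSeries G k ≠ ⊥) :
    derivedSeries G i ≠ ⊥ := fun h => hk (le_bot_iff.1 (h ▸ derivedSeries_antitone G hik))

/-- Mann's count, in the three states of the induction. -/
theorem mann_aux (hG : IsPGroup p G) {k : ℕ} (hk : derivedSeries G k ≠ ⊥) :
    ∀ d i b, i + d = k → Nat.card (derivedSeries G i) = p ^ b →
      (2 ^ k + 2 * d + 1 ≤ b + 2 ^ i + 2) ∧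
      ((∃ x ∈ derivedSeries G i, derivedSeries G i ≤ zpowers x ⊔ (⊤ : Subgroup G).lowerCentralSeries (2 ^ i)) →
        2 ^ k + 2 * d + 1 ≤ b + 2 ^ i + 1) ∧
      (derivedSeries G i ≤ (⊤ : Subgroup G).lowerCentralSeries (2 ^ i) → 2 ^ k + 2 * d + 1 ≤ b + 2 ^ i) := by
  intro d
  induction d with
  | zero =>
    intro i b hid hb
    obtain rfl : i = k := by omega
    have : b ≠ 0 := by
      rintro rfl
      exact hk (Subgroup.eq_bot_of_card_eq _ (by rw [hb, pow_zero]))
    exact ⟨by omega, fun _ => by omega, fun _ => by omega⟩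
  | succ d ih =>
    intro i b hid hb
    obtain ⟨b', hb'⟩ := (hG.to_subgroup (derivedSeries G (i + 1))).exists_card_eq
    obtain ⟨i0, i1, i2⟩ := ih (i + 1) b' (by omega) hb'
    have hne : ⁅derivedSeries G i, derivedSeries G i⁆ ≠ ⊥ := derivedSeries_ne_bot (by omega : i + 1 ≤ k) hk
    haveI : (derivedSeries G i).Normal := derivedSeries_normal G i
    have hpow : 2 ^ (i + 1) = 2 * 2 ^ i := by rw [pow_succ]; ring
    have h1 : 1 ≤ 2 ^ i := Nat.one_le_two_pow
    have hv := derived_le_lcs (G := G) i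
    have hA := hall_exp hG hv hne hb hb'
    refine ⟨?_, ?_, ?_⟩
    · by_cases hs : Nat.card (derivedSeries G i) < p ^ (2 ^ i - 1 + 3) * Nat.card (derivedSeries G (i + 1))
      · obtain ⟨c, hc, hgen⟩ := derived_cyclic_top hG hv hne hs
        have := i1 ⟨c, hc, by rw [hpow, show 2 * 2 ^ i = 2 * (2 ^ i - 1) + 2 by omega]; exact hgen⟩
        omega
      · rw [hb, hb', ← pow_add, not_lt, Nat.pow_le_pow_iff_right hpF.out.one_lt] at hs
        omega
    · rintro ⟨x, hx, hgen⟩
      have hd := derived_le_of_cyclic hv hx (by rw [show 2 ^ i - 1 + 1 = 2 ^ i by omega]; exact hgen)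
      have := i2 (by rw [hpow, show 2 * 2 ^ i = 2 * (2 ^ i - 1) + 2 by omega]; exact hd)
      omega
    · intro hv2
      have hA2 := hall_exp hG hv2 hne hb hb'
      have hd : derivedSeries G (i + 1) ≤ (⊤ : Subgroup G).lowerCentralSeries (2 ^ (i + 1)) :=
        ((commutator_mono hv2 hv2).trans (CfsgLib.PolySeq.lcs_commutator_le _ _)).trans
          (Subgroup.lowerCentralSeries_antitone _ (by omega))
      have := i2 hd
      omega

/-- Mann: a `p`-group with `G^(k) ≠ 1` has order at least `p^(2^k + 2k - 2)`. -/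
theorem mann_bound (hG : IsPGroup p G) {n k : ℕ} (hn : Nat.card G = p ^ n) (hk : derivedSeries G k ≠ ⊥) :
    2 ^ k + 2 * k ≤ n + 2 := by
  rcases k with _ | k
  · simp
  obtain ⟨b, hb⟩ := (hG.to_subgroup (derivedSeries G 1)).exists_card_eq
  obtain ⟨i0, i1, -⟩ := mann_aux hG hk k 1 b (by omega) hb
  have hne : ⁅derivedSeries G 0, derivedSeries G 0⁆ ≠ ⊥ := derivedSeries_ne_bot (by omega : 0 + 1 ≤ k + 1) hk
  haveI : (derivedSeries G 0).Normal := derivedSeries_normal G 0
  have hv : derivedSeries G 0 ≤ (⊤ : Subgroup G).lowerCentralSeries 0 := le_top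
  have h0 : Nat.card (derivedSeries G 0) = p ^ n := by
    rw [derivedSeries_zero, Subgroup.card_top, hn]
  have hA := hall_exp hG hv hne h0 hb
  by_cases hs : Nat.card (derivedSeries G 0) < p ^ (0 + 3) * Nat.card (derivedSeries G 1)
  · obtain ⟨c, hc, hgen⟩ := derived_cyclic_top hG hv hne hs
    have := i1 ⟨c, hc, hgen⟩
    omega
  · rw [h0, hb, ← pow_add, not_lt, Nat.pow_le_pow_iff_right hpF.out.one_lt] at hs
    omega

end CfsgLib.MannDL
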