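import Mathlib

/-!
Marggraf's theorem, the critical degree: a multiply transitive group of degree `2m+1` with a Jordan set of
size `m` has no non-trivial closure operation on `t`-sets.
-/

set_option autoImplicit false

namespace CfsgLib.Marggraf

open scoped Pointwise

variable {G Ω : Type*} [Group G] [MulAction G Ω]

/-- The pointwise stabiliser of the complement is transitive on the set. -/
def Jordan (G : Type*) [Group G] {Ω : Type*} [MulAction G Ω] (Γ : Set Ω) : Prop :=
  ∀ x ∈ Γ, ∀ y ∈ Γ, ∃ g : G, (∀ z ∉ Γ, g • z = z) ∧ g • x = y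

/-- The points which no translate of `Γ` avoiding `X` contains. -/
def clo (G : Type*) [Group G] {Ω : Type*} [MulAction G Ω] (Γ X : Set Ω) : Set Ω :=
  {w | ∀ g : G, Disjoint (g • Γ) X → w ∉ g • Γ}

variable {Γ X Y : Set Ω}

theorem subset_clo : X ⊆ clo G Γ X := fun _ hx _ hg => Set.disjoint_right.1 hg hx

theorem disjoint_clo {g : G} (h : Disjoint (g • Γ) X) : Disjoint (g • Γ) (clo G Γ X) :=
  Set.disjoint_right.2 fun _ hw => hw g h

theorem clo_minimal (h : Y ⊆ clo G Γ X) : clo G Γ Y ⊆ clo G Γ X :=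
  fun _ hw g hg => hw g ((disjoint_clo hg).mono_right h)

theorem smul_clo (k : G) : k • clo G Γ X = clo G Γ (k • X) := by
  ext w
  rw [Set.mem_smul_set_iff_inv_smul_mem]
  constructor
  · intro h g hg hw
    have hd : Disjoint ((k⁻¹ * g) • Γ) X := by
      rw [Set.disjoint_left]
      intro z hz hzX
      rw [mul_smul, Set.mem_inv_smul_set_iff] at hz
      exact Set.disjoint_left.1 hg hz (Set.smul_mem_smul_set hzX)
    refine h (k⁻¹ * g) hd ?_
    rw [mul_smul]
    exact Set.smul_mem_smul_set hw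
  · intro h g hg hw
    have hd : Disjoint ((k * g) • Γ) (k • X) := by
      rw [mul_smul, Set.disjoint_left]
      rintro _ ⟨z, hz, rfl⟩ ⟨z', hz', he⟩
      have he' : k • z' = k • z := he
      rw [smul_left_cancel k he'] at hz'
      exact Set.disjoint_left.1 hg hz hz'
    refine h (k * g) hd ?_
    rw [mul_smul, Set.mem_smul_set_iff_inv_smul_mem]
    exact hw

theorem ncard_smul (k : G) (X : Set Ω) : (k • X).ncard = X.ncard :=
  Set.ncard_image_of_injective _ (MulAction.injective k)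

/-- The standing hypotheses. -/
structure Ctx (G : Type*) [Group G] {Ω : Type*} [MulAction G Ω] (Γ : Set Ω) (m t : ℕ) : Prop where
  size : Γ.ncard = m
  card : Nat.card Ω = 2 * m + 1
  jordan : Jordan G Γ
  trans : MulAction.IsMultiplyPretransitive G Ω t
  two_le : 2 ≤ t
  lt : t < m

variable {m t : ℕ}

theorem exists_map [Finite Ω] (htr : MulAction.IsMultiplyPretransitive G Ω t) (htn : t ≤ Nat.card Ω)
    (X : Set Ω) (hX : X.ncard ≤ t) (f : ↥X → Ω) (hf : Function.Injective f) :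
    ∃ g : G, ∀ x : ↥X, g • (x : Ω) = f x := by
  haveI := htr
  haveI := MulAction.isMultiplyPretransitive_of_le (G := G) (α := Ω) (n := t) (m := X.ncard) hX htn
  have e : Fin X.ncard ≃ ↥X := (Finite.equivFinOfCardEq (Nat.card_coe_set_eq X)).symm
  obtain ⟨g, hg⟩ := MulAction.exists_smul_eq G
    (⟨fun i => (e i : Ω), Subtype.val_injective.comp e.injective⟩ : Fin X.ncard ↪ Ω)
    (⟨fun i => f (e i), hf.comp e.injective⟩ : Fin X.ncard ↪ Ω)
  refine ⟨g, fun x => ?_⟩
  have h := DFunLike.congr_fun hg (e.symm x)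
  simpa using h

theorem Ctx.exists_smul_eq [Finite Ω] (c : Ctx G Γ m t) {R R' : Set Ω} (hR : R.ncard ≤ t)
    (h : R.ncard = R'.ncard) : ∃ g : G, g • R = R' := by
  have e : ↥R ≃ ↥R' := Classical.choice (Finite.card_eq.1 (by
    rw [Nat.card_coe_set_eq, Nat.card_coe_set_eq, h]))
  obtain ⟨g, hg⟩ := exists_map c.trans (by rw [c.card]; linarith [c.lt]) R hR (fun x => (e x : Ω))
    (Subtype.val_injective.comp e.injective)
  refine ⟨g, Set.eq_of_subset_of_ncard_le ?_ (by rw [ncard_smul, h]) (Set.toFinite _)⟩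
  rintro _ ⟨x, hx, rfl⟩
  show g • x ∈ R'
  rw [hg ⟨x, hx⟩]
  exact (e ⟨x, hx⟩).2

theorem Ctx.ncard_compl [Finite Ω] (c : Ctx G Γ m t) (g : G) : (g • Γ)ᶜ.ncard = m + 1 := by
  rw [Set.ncard_compl, ncard_smul, c.size, c.card]; omega

theorem Ctx.exists_avoid [Finite Ω] (c : Ctx G Γ m t) {R : Set Ω} (hR : R.ncard ≤ t) :
    ∃ g : G, Disjoint (g • Γ) R := by
  have h1 : R.ncard ≤ ((1 : G) • Γ)ᶜ.ncard := by rw [c.ncard_compl]; linarith [c.lt]
  rw [one_smul] at h1
  obtain ⟨Y, hY, hYc⟩ := Set.exists_subset_card_eq h1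
  obtain ⟨g, hg⟩ := c.exists_smul_eq (R := Y) (R' := R) (by omega) hYc
  refine ⟨g, Set.disjoint_left.2 ?_⟩
  rintro _ ⟨z, hz, rfl⟩ hzR
  rw [← hg] at hzR
  obtain ⟨y, hy, hyz⟩ := hzR
  exact hY hy ((smul_left_cancel g (hyz : g • y = g • z)).symm ▸ hz)

theorem Jordan.translate (h : Jordan G Γ) (k : G) : Jordan G (k • Γ) := by
  intro x hx y hy
  rw [Set.mem_smul_set_iff_inv_smul_mem] at hx hy
  obtain ⟨g, hg, hgx⟩ := h _ hx _ hy
  refine ⟨k * g * k⁻¹, fun z hz => ?_, ?_⟩
  · rw [Set.mem_smul_set_iff_inv_smul_mem] at hz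
    rw [mul_smul, mul_smul, hg _ hz, smul_inv_smul]
  · rw [mul_smul, mul_smul, hgx, smul_inv_smul]

/-- The stabiliser of a closure is transitive outside it. -/
theorem Ctx.trans_out [Finite Ω] (c : Ctx G Γ m t) {R : Set Ω} (hR : R.ncard = t) {p q : Ω}
    (hp : p ∉ clo G Γ R) (hq : q ∉ clo G Γ R) :
    ∃ g : G, (∀ z ∈ clo G Γ R, g • z = z) ∧ g • p = q := by
  simp only [clo, Set.mem_ofPred_eq, not_forall, not_not] at hp hq
  obtain ⟨g₁, hg₁, hp⟩ := hp
  obtain ⟨g₂, hg₂, hq⟩ := hq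
  obtain ⟨z, hz₁, hz₂⟩ : ((g₁ • Γ) ∩ (g₂ • Γ)).Nonempty := by
    by_contra hne
    rw [Set.not_nonempty_iff_eq_empty, ← Set.disjoint_iff_inter_eq_empty] at hne
    have h1 : ((g₁ • Γ) ∪ (g₂ • Γ) ∪ R).ncard ≤ Nat.card Ω := by
      rw [← Set.ncard_univ]; exact Set.ncard_le_ncard (Set.subset_univ _)
    rw [Set.ncard_union_eq (Set.disjoint_union_left.2 ⟨hg₁, hg₂⟩), Set.ncard_union_eq hne, ncard_smul,
      ncard_smul, c.size, hR, c.card] at h1
    linarith [c.two_le]
  obtain ⟨x, hx, hxp⟩ := c.jordan.translate g₁ p hp z hz₁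
  obtain ⟨y, hy, hyz⟩ := c.jordan.translate g₂ z hz₂ q hq
  refine ⟨y * x, fun w hw => ?_, by rw [mul_smul, hxp, hyz]⟩
  rw [mul_smul, hx w (hw g₁ hg₁), hy w (hw g₂ hg₂)]

/-- The points added to `X` by the closure. -/
def ext (G : Type*) [Group G] {Ω : Type*} [MulAction G Ω] (Γ X : Set Ω) : Set Ω := clo G Γ X \ X

theorem smul_ext (k : G) : k • ext G Γ X = ext G Γ (k • X) := by
  rw [ext, Set.smul_set_sdiff, smul_clo, ext]

theorem Ctx.card_clo [Finite Ω] (c : Ctx G Γ m t) {R R' : Set Ω} (hR : R.ncard = t) (hR' : R'.ncard = t) :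
    (clo G Γ R).ncard = (clo G Γ R').ncard := by
  obtain ⟨g, hg⟩ := c.exists_smul_eq hR.le (hR.trans hR'.symm)
  rw [← hg, ← smul_clo, ncard_smul]

theorem Ctx.exch [Finite Ω] (c : Ctx G Γ m t) {R R' : Set Ω} (hR : R.ncard = t) (hR' : R'.ncard = t)
    (h : R' ⊆ clo G Γ R) : clo G Γ R' = clo G Γ R :=
  Set.eq_of_subset_of_ncard_le (clo_minimal h) (c.card_clo hR hR').le (Set.toFinite _)

theorem Ctx.card_ext [Finite Ω] (c : Ctx G Γ m t) {R R' : Set Ω} (hR : R.ncard = t) (hR' : R'.ncard = t) :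
    (ext G Γ R).ncard = (ext G Γ R').ncard := by
  rw [ext, ext, Set.ncard_sdiff subset_clo, Set.ncard_sdiff subset_clo, c.card_clo hR hR', hR, hR']

theorem clo_subset_compl {g : G} (h : X ⊆ (g • Γ)ᶜ) : clo G Γ X ⊆ (g • Γ)ᶜ :=
  fun _ hw => hw g (Set.disjoint_left.2 fun _ hz hzX => h hzX hz)

/-- A closure through a point outside a flat meets the flat only in the given points. -/
theorem Ctx.inter [Finite Ω] (c : Ctx G Γ m t) {g : G} {S : Set Ω} (hS : S ⊆ (g • Γ)ᶜ)
    (hSc : S.ncard = t - 1) {p : Ω} (hp : p ∈ g • Γ) {y : Ω} (hy : y ∈ clo G Γ (insert p S))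
    (hyA : y ∉ g • Γ) : y ∈ S := by
  by_contra hyS
  have hpS : p ∉ S := fun h => hS h hp
  have h2 := c.two_le
  have h1 : (insert p S).ncard = t := by rw [Set.ncard_insert_of_notMem hpS]; omega
  have h3 : (insert y S).ncard = t := by rw [Set.ncard_insert_of_notMem hyS]; omega
  have he := c.exch h1 h3 (Set.insert_subset hy fun z hz => subset_clo (Set.mem_insert_of_mem _ hz))
  have hpm : p ∈ clo G Γ (insert y S) := he.symm ▸ subset_clo (Set.mem_insert p S)
  exact clo_subset_compl (X := insert y S) (Set.insert_subset hyA hS) hpm hp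

theorem Ctx.ext_mem_translate [Finite Ω] (c : Ctx G Γ m t) {g : G} {S : Set Ω} (hS : S ⊆ (g • Γ)ᶜ)
    (hSc : S.ncard = t - 1) {p : Ω} (hp : p ∈ g • Γ) {w : Ω} (hw : w ∈ ext G Γ (insert p S)) :
    w ∈ g • Γ := by
  by_contra hwA
  exact hw.2 (Set.mem_insert_of_mem _ (c.inter hS hSc hp hw.1 hwA))

/-- Two adjacent sets have disjoint extensions through a point outside a flat. -/
theorem Ctx.ext_adj [Finite Ω] (c : Ctx G Γ m t) {g : G} {S S' : Set Ω} (hS : S ⊆ (g • Γ)ᶜ)
    (hS' : S' ⊆ (g • Γ)ᶜ) (hSc : S.ncard = t - 1) (hSc' : S'.ncard = t - 1) (hne : S ≠ S')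
    (hcom : t - 2 ≤ (S ∩ S').ncard) {p : Ω} (hp : p ∈ g • Γ) {w : Ω}
    (hw : w ∈ ext G Γ (insert p S)) (hw' : w ∈ ext G Γ (insert p S')) : False := by
  obtain ⟨C, hC, hCc⟩ := Set.exists_subset_card_eq hcom
  have h2 := c.two_le
  have hpS : p ∉ S := fun h => hS h hp
  have hpS' : p ∉ S' := fun h => hS' h hp
  have h1 : (insert p S).ncard = t := by rw [Set.ncard_insert_of_notMem hpS]; omega
  have h1' : (insert p S').ncard = t := by rw [Set.ncard_insert_of_notMem hpS']; omega
  have hw2 : w ∉ insert p C := fun h => hw.2 (Set.insert_subset_insert (fun _ hz => (hC hz).1) h)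
  have h3 : (insert w (insert p C)).ncard = t := by
    rw [Set.ncard_insert_of_notMem hw2, Set.ncard_insert_of_notMem fun h => hpS (hC h).1]; omega
  have e1 := c.exch h1 h3 (Set.insert_subset hw.1
    ((Set.insert_subset_insert fun _ hz => (hC hz).1).trans subset_clo))
  have e2 := c.exch h1' h3 (Set.insert_subset hw'.1
    ((Set.insert_subset_insert fun _ hz => (hC hz).2).trans subset_clo))
  refine hne (Set.eq_of_subset_of_ncard_le (fun z hz => ?_) (by omega) (Set.toFinite _))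
  have hz1 : z ∈ clo G Γ (insert p S') := by
    rw [← e2, e1]; exact subset_clo (Set.mem_insert_of_mem _ hz)
  exact c.inter hS' hSc' hp hz1 fun h => hS hz h

/-- Counting disjoint extensions. -/
theorem Ctx.count [Finite Ω] (c : Ctx G Γ m t) {ι : Type*} (I : Finset ι) (S : ι → Set Ω) {p : Ω}
    {s : ℕ} {R : Set Ω} (hR : R.ncard = t) (hs : (ext G Γ R).ncard = s)
    (hp : ∀ i ∈ I, p ∉ S i) (hSc : ∀ i ∈ I, (S i).ncard = t - 1)
    (hd : ∀ i ∈ I, ∀ j ∈ I, i ≠ j → ∀ w, w ∈ ext G Γ (insert p (S i)) → w ∈ ext G Γ (insert p (S j)) → False)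
    {Y : Set Ω} (hY : ∀ i ∈ I, ext G Γ (insert p (S i)) ⊆ Y) : I.card * s ≤ Y.ncard := by
  classical
  haveI := Fintype.ofFinite Ω
  have hcard : ∀ i ∈ I, (ext G Γ (insert p (S i))).toFinset.card = s := fun i hi => by
    rw [← Set.ncard_eq_toFinset_card', ← hs]
    refine c.card_ext ?_ hR
    rw [Set.ncard_insert_of_notMem (hp i hi), hSc i hi]
    have := c.two_le
    omega
  have hdis : (I : Set ι).PairwiseDisjoint fun i => (ext G Γ (insert p (S i))).toFinset := by
    intro i hi j hj hij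
    refine Finset.disjoint_left.2 fun w hw hw' => ?_
    rw [Set.mem_toFinset] at hw hw'
    exact hd i hi j hj hij w hw hw'
  have h1 : (I.biUnion fun i => (ext G Γ (insert p (S i))).toFinset).card = I.card * s := by
    rw [Finset.card_biUnion hdis, Finset.sum_congr rfl hcard, Finset.sum_const, smul_eq_mul]
  rw [← h1, Set.ncard_eq_toFinset_card']
  refine Finset.card_le_card (Finset.biUnion_subset.2 fun i hi w hw => ?_)
  rw [Set.mem_toFinset] at hw ⊢
  exact hY i hi hw

/-- A finite group with fewer than a quarter of non-involutions has exponent two. -/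
theorem exponent_two {C : Type*} [Group C] [Finite C]
    (h : 4 * {x : C | x * x ≠ 1}.ncard < Nat.card C) (x : C) : x * x = 1 := by
  set I : Set C := {x | x * x = 1}
  have hIc : Iᶜ = {x : C | x * x ≠ 1} := rfl
  have hI : 4 * Iᶜ.ncard < Nat.card C := hIc ▸ h
  have hsum : I.ncard + Iᶜ.ncard = Nat.card C := Set.ncard_add_ncard_compl I
  have htop : ∀ H : Subgroup C, Nat.card C < 2 * Nat.card H → H = ⊤ := by
    intro H hH
    by_contra hne
    have h1 := H.card_mul_index
    have h2 : 1 < H.index := Subgroup.one_lt_index_of_ne_top hne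
    have : Nat.card H * 2 ≤ Nat.card H * H.index := Nat.mul_le_mul_left _ h2
    omega
  have hcen : ∀ a : C, a * a = 1 → a ∈ Subgroup.center C := by
    intro a ha
    set K := Subgroup.centralizer ({a} : Set C)
    have hsub : I ∩ (fun b => a * b) ⁻¹' I ⊆ (K : Set C) := by
      rintro b ⟨(hb : b * b = 1), (hab : a * b * (a * b) = 1)⟩
      rw [SetLike.mem_coe, Subgroup.mem_centralizer_singleton_iff]
      calc b * a = (a * a) * (b * a) * (b * b) := by rw [ha, hb, one_mul, mul_one]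
        _ = a * (a * b * (a * b)) * b := by group
        _ = a * b := by rw [hab, mul_one]
    have hc : ((fun b => a * b) ⁻¹' I)ᶜ.ncard = Iᶜ.ncard := by
      rw [← Set.preimage_compl]
      exact Set.ncard_preimage_of_injective_subset_range (mul_right_injective a)
        (fun y _ => ⟨a⁻¹ * y, mul_inv_cancel_left a y⟩)
    have h1 := Set.ncard_le_ncard hsub (Set.toFinite _)
    rw [← Nat.card_coe_set_eq (K : Set C)] at h1
    have h2 : (I ∩ (fun b => a * b) ⁻¹' I)ᶜ.ncard ≤ Iᶜ.ncard + Iᶜ.ncard := by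
      rw [Set.compl_inter]
      exact (Set.ncard_union_le _ _).trans (by rw [hc])
    have h3 := Set.ncard_add_ncard_compl (I ∩ (fun b => a * b) ⁻¹' I)
    have hK : K = ⊤ := htop K (by
      have : Nat.card ↥(K : Set C) = Nat.card ↥K := rfl
      omega)
    rw [Subgroup.mem_center_iff]
    intro g
    have hg : g ∈ K := hK ▸ Subgroup.mem_top g
    exact Subgroup.mem_centralizer_singleton_iff.1 hg
  have hZ : Subgroup.center C = ⊤ := htop _ (by
    have h1 : I.ncard ≤ Nat.card (Subgroup.center C) := by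
      rw [← Nat.card_coe_set_eq]
      exact Nat.card_le_card_of_injective (fun b => (⟨b.1, hcen b.1 b.2⟩ : ↥(Subgroup.center C)))
        fun b b' e => Subtype.ext (congrArg (fun z : ↥(Subgroup.center C) => (z : C)) e)
    omega)
  have hcomm : ∀ p q : C, p * q = q * p := fun p q => by
    have : q ∈ Subgroup.center C := hZ ▸ Subgroup.mem_top q
    exact Subgroup.mem_center_iff.1 this p
  let H : Subgroup C :=
    { carrier := I
      one_mem' := mul_one 1
      mul_mem' := fun {p q} (hp : p * p = 1) (hq : q * q = 1) => by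
        show p * q * (p * q) = 1
        calc p * q * (p * q) = p * (q * p) * q := by group
          _ = p * (p * q) * q := by rw [hcomm q p]
          _ = (p * p) * (q * q) := by group
          _ = 1 := by rw [hp, hq, one_mul]
      inv_mem' := fun {p} (hp : p * p = 1) => by
        show p⁻¹ * p⁻¹ = 1
        rw [← mul_inv_rev, hp, inv_one] }
  have hH : H = ⊤ := htop H (by
    have : Nat.card H = I.ncard := Nat.card_coe_set_eq I
    omega)
  exact (hH ▸ Subgroup.mem_top x : x ∈ H)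

/-- No `t`-set has a non-trivial closure. -/
theorem Ctx.clo_eq [Finite Ω] (c : Ctx G Γ m t) {R₁ : Set Ω} (hR₁ : R₁.ncard = t) :
    clo G Γ R₁ = R₁ := by
  classical
  haveI := Fintype.ofFinite Ω
  by_contra hne
  have h2 := c.two_le
  have htm := c.lt
  set d := (ext G Γ R₁).ncard with hd
  have hd1 : 1 ≤ d := by
    refine (Set.ncard_pos (Set.toFinite _)).2 ?_
    rw [ext, Set.nonempty_iff_ne_empty, Ne, Set.sdiff_eq_empty]
    exact fun h => hne (h.antisymm subset_clo)
  have hext : ∀ {R : Set Ω}, R.ncard = t → (ext G Γ R).ncard = d := fun hR => c.card_ext hR hR₁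
  -- through a fixed `(t-2)`-set of a flat
  have hfan : ∀ (g : G) (R0 : Set Ω), R0 ⊆ (g • Γ)ᶜ → R0.ncard = t - 2 → ∀ p ∈ g • Γ,
      (m + 3 - t) * d ≤ m - 1 ∧ (t = 4 → d = 1 → ∀ q ∈ g • Γ, q ≠ p →
        ∃ x, x ∉ g • Γ ∧ x ∉ R0 ∧ q ∈ clo G Γ (insert p (insert x R0))) := by
    intro g R0 hR0 hR0c p hp
    set I : Finset Ω := ((g • Γ)ᶜ \ R0).toFinset with hI
    have hIc : I.card = m + 3 - t := by
      rw [hI, ← Set.ncard_eq_toFinset_card', Set.ncard_sdiff hR0, c.ncard_compl, hR0c]; omega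
    have hxI : ∀ x ∈ I, x ∉ g • Γ ∧ x ∉ R0 := fun x hx => by
      rw [hI, Set.mem_toFinset] at hx; exact ⟨hx.1, hx.2⟩
    have hsub : ∀ x ∈ I, insert x R0 ⊆ (g • Γ)ᶜ := fun x hx => Set.insert_subset (hxI x hx).1 hR0
    have hsc : ∀ x ∈ I, (insert x R0).ncard = t - 1 := fun x hx => by
      rw [Set.ncard_insert_of_notMem (hxI x hx).2, hR0c]; omega
    have hdisj : ∀ x ∈ I, ∀ y ∈ I, x ≠ y → ∀ w, w ∈ ext G Γ (insert p (insert x R0)) →
        w ∈ ext G Γ (insert p (insert y R0)) → False := by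
      intro x hx y hy hxy w hw hw'
      refine c.ext_adj (hsub x hx) (hsub y hy) (hsc x hx) (hsc y hy) (fun e => ?_) ?_ hp hw hw'
      · have hm : x ∈ insert y R0 := e ▸ Set.mem_insert x R0
        exact hm.elim hxy (hxI x hx).2
      · rw [← hR0c]
        exact Set.ncard_le_ncard (fun z hz => ⟨Set.mem_insert_of_mem _ hz, Set.mem_insert_of_mem _ hz⟩)
    have hY : ∀ x ∈ I, ext G Γ (insert p (insert x R0)) ⊆ (g • Γ) \ {p} := fun x hx w hw =>
      ⟨c.ext_mem_translate (hsub x hx) (hsc x hx) hp hw, fun e => hw.2 (e ▸ Set.mem_insert _ _)⟩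
    have hpI : ∀ x ∈ I, p ∉ insert x R0 := fun x hx h => hsub x hx h hp
    have hYc : ((g • Γ) \ {p}).ncard = m - 1 := by
      rw [Set.ncard_sdiff_singleton_of_mem hp, ncard_smul, c.size]
    have hcount := c.count I (fun x => insert x R0) hR₁ hd.symm hpI hsc hdisj hY
    rw [hIc, hYc] at hcount
    refine ⟨hcount, fun ht hd' q hq hqp => ?_⟩
    by_contra hno
    simp only [not_exists, not_and] at hno
    have := c.count I (fun x => insert x R0) hR₁ hd.symm hpI hsc hdisj
      (Y := ((g • Γ) \ {p}) \ {q}) (fun x hx w hw => ⟨hY x hx hw,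
        fun e => hno x (hxI x hx).1 (hxI x hx).2 (e ▸ hw.1)⟩)
    rw [hIc, Set.ncard_sdiff_singleton_of_mem (show q ∈ (g • Γ) \ {p} from ⟨hq, hqp⟩), hYc, hd'] at this
    omega
  obtain ⟨g₀, hg₀⟩ := c.exists_avoid hR₁.le
  have hR₁A : R₁ ⊆ (g₀ • Γ)ᶜ := fun z hz h => Set.disjoint_left.1 hg₀ h hz
  obtain ⟨R0, hR01, hR0c⟩ := Set.exists_subset_card_eq (s := R₁) (n := t - 2) (by omega)
  obtain ⟨p₀, hp₀⟩ : (g₀ • Γ).Nonempty := Set.nonempty_of_ncard_ne_zero (by rw [ncard_smul, c.size]; omega)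
  obtain ⟨hfan0, -⟩ := hfan g₀ R0 (hR01.trans hR₁A) hR0c p₀ hp₀
  have ht4 : 4 ≤ t := by
    by_contra
    have : (m + 3 - t) * 1 ≤ (m + 3 - t) * d := Nat.mul_le_mul_left _ hd1
    omega
  set B := clo G Γ R₁ with hB
  have hBA : B ⊆ (g₀ • Γ)ᶜ := clo_subset_compl hR₁A
  have hBc : B.ncard = t + d := by
    have := Set.ncard_sdiff_add_ncard_of_subset (s := R₁) (t := B) subset_clo
    rw [hR₁] at this
    rw [hd, ext]
    try rw [← hB]
    try rw [← hB] at this
    omega
  -- at most one extra point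
  have hd2 : d = 1 := by
    by_contra hd2
    have hd2 : 2 ≤ d := by omega
    have h1 : (m + 3 - t) * 2 ≤ (m + 3 - t) * d := Nat.mul_le_mul_left _ hd2
    set I : Finset Ω := R₁.toFinset
    have hIc : I.card = t := by rw [← Set.ncard_eq_toFinset_card', hR₁]
    have hrI : ∀ r ∈ I, r ∈ R₁ := fun r hr => Set.mem_toFinset.1 hr
    have hsc : ∀ r ∈ I, (R₁ \ {r}).ncard = t - 1 := fun r hr => by
      rw [Set.ncard_sdiff_singleton_of_mem (hrI r hr), hR₁]
    have hdisj : ∀ (g : G), R₁ ⊆ (g • Γ)ᶜ → ∀ p ∈ g • Γ, ∀ r ∈ I, ∀ r' ∈ I, r ≠ r' → ∀ w,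
        w ∈ ext G Γ (insert p (R₁ \ {r})) → w ∈ ext G Γ (insert p (R₁ \ {r'})) → False := by
      intro g hg p hp r hr r' hr' hrr w hw hw'
      refine c.ext_adj (Set.sdiff_subset.trans hg) (Set.sdiff_subset.trans hg) (hsc r hr) (hsc r' hr')
        (fun e => ?_) ?_ hp hw hw'
      · have hm : r ∈ R₁ \ {r'} := ⟨hrI r hr, hrr⟩
        rw [← e] at hm
        exact hm.2 rfl
      · have hsub : R₁ \ {r, r'} ⊆ (R₁ \ {r}) ∩ (R₁ \ {r'}) :=
          fun z hz => ⟨⟨hz.1, fun e => hz.2 (Or.inl e)⟩, hz.1, fun e => hz.2 (Or.inr e)⟩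
        refine le_trans ?_ (Set.ncard_le_ncard hsub)
        rw [Set.ncard_sdiff (Set.insert_subset (hrI r hr) (Set.singleton_subset_iff.2 (hrI r' hr'))), hR₁,
          Set.ncard_pair hrr]
    by_cases hfull : B.ncard = m + 1
    · have := c.count I (fun r => R₁ \ {r}) hR₁ hd.symm (fun r _ h => hR₁A h.1 hp₀) hsc
        (hdisj g₀ hR₁A p₀ hp₀) (Y := (g₀ • Γ) \ {p₀}) (fun r hr w hw =>
          ⟨c.ext_mem_translate (Set.sdiff_subset.trans hR₁A) (hsc r hr) hp₀ hw,
            fun e => hw.2 (e ▸ Set.mem_insert _ _)⟩)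
      rw [hIc, Set.ncard_sdiff_singleton_of_mem hp₀, ncard_smul, c.size] at this
      have hdm : d = m + 1 - t := by omega
      rw [hdm] at this
      have h3 : t * 2 ≤ t * (m + 1 - t) := Nat.mul_le_mul_left _ (by omega)
      have h4 : (m + 3 - t) * 2 ≤ m - 1 := h1.trans hfan0
      omega
    · obtain ⟨p, hpA, hpB⟩ : ∃ p ∈ (g₀ • Γ)ᶜ, p ∉ B := by
        by_contra hno
        simp only [not_exists, not_and, not_not] at hno
        exact hfull ((Set.ncard_congr' (Equiv.setCongr (hBA.antisymm hno))).trans (c.ncard_compl g₀))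
      obtain ⟨g, hg, hpg⟩ : ∃ g : G, Disjoint (g • Γ) R₁ ∧ p ∈ g • Γ := by
        simpa [hB, clo] using hpB
      have hgA : R₁ ⊆ (g • Γ)ᶜ := fun z hz h => Set.disjoint_left.1 hg h hz
      have := c.count I (fun r => R₁ \ {r}) hR₁ hd.symm (fun r _ h => hgA h.1 hpg) hsc
        (hdisj g hgA p hpg) (Y := (g₀ • Γ)ᶜ \ insert p R₁) (fun r hr w hw => by
          refine ⟨clo_subset_compl (Set.insert_subset hpA (Set.sdiff_subset.trans hR₁A)) hw.1, ?_⟩
          rintro (e | e)
          · exact hw.2 (e ▸ Set.mem_insert _ _)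
          · exact hgA e (c.ext_mem_translate (Set.sdiff_subset.trans hgA) (hsc r hr) hpg hw))
      rw [hIc, Set.ncard_sdiff (Set.insert_subset hpA hR₁A), c.ncard_compl,
        Set.ncard_insert_of_notMem (fun h => hpB (subset_clo h)), hR₁] at this
      have h3 : t * 2 ≤ t * d := Nat.mul_le_mul_left _ hd2
      omega
  -- the pairs of a block
  have hB1 : B.ncard = t + 1 := by omega
  obtain ⟨p, hpA, hpB⟩ : ∃ p ∈ (g₀ • Γ)ᶜ, p ∉ B := by
    by_contra hno
    simp only [not_exists, not_and, not_not] at hno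
    have := Set.ncard_le_ncard hno
    rw [c.ncard_compl] at this
    omega
  have hpair : (t + 1).choose (t - 1) + (t + 2) ≤ m + 1 := by
    obtain ⟨g, hg, hpg⟩ : ∃ g : G, Disjoint (g • Γ) R₁ ∧ p ∈ g • Γ := by
      simpa [hB, clo] using hpB
    have hgB : B ⊆ (g • Γ)ᶜ := clo_subset_compl fun z hz h => Set.disjoint_left.1 hg h hz
    set I : Finset (Finset Ω) := B.toFinset.powersetCard (t - 1)
    have hIc : I.card = (t + 1).choose (t - 1) := by
      rw [Finset.card_powersetCard, ← Set.ncard_eq_toFinset_card', hB1]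
    have hSI : ∀ S ∈ I, (S : Set Ω) ⊆ B ∧ (S : Set Ω).ncard = t - 1 := fun S hS => by
      rw [Finset.mem_powersetCard] at hS
      exact ⟨fun z hz => Set.mem_toFinset.1 (hS.1 hz), by rw [Set.ncard_coe_finset, hS.2]⟩
    have hdisj : ∀ S ∈ I, ∀ S' ∈ I, S ≠ S' → ∀ w, w ∈ ext G Γ (insert p (S : Set Ω)) →
        w ∈ ext G Γ (insert p (S' : Set Ω)) → False := by
      intro S₁ hS₁ S₂ hS₂ hne12 w hw hw'
      obtain ⟨hS, hSc⟩ := hSI S₁ hS₁
      obtain ⟨hS', hSc'⟩ := hSI S₂ hS₂
      have hneS : (S₁ : Set Ω) ≠ (S₂ : Set Ω) := fun e => hne12 (Finset.coe_injective e)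
      generalize (S₁ : Set Ω) = S at *
      generalize (S₂ : Set Ω) = S' at *
      have hcom : ¬ t - 2 ≤ (S ∩ S').ncard := fun h =>
        c.ext_adj (hS.trans hgB) (hS'.trans hgB) hSc hSc' hneS h hpg hw hw'
      have hun : S.ncard + S'.ncard = (S ∪ S').ncard + (S ∩ S').ncard :=
        (Set.ncard_union_add_ncard_inter S S').symm
      have hunB := Set.ncard_le_ncard (Set.union_subset hS hS')
      obtain ⟨k, hkS, hkS'⟩ : (S ∩ S').Nonempty := Set.nonempty_of_ncard_ne_zero (by omega)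
      obtain ⟨l, hlS, hlS'⟩ : (S \ S').Nonempty := Set.nonempty_of_ncard_ne_zero (by
        have := Set.ncard_inter_add_ncard_sdiff_eq_ncard S S'
        omega)
      obtain ⟨i, hiS', hiS⟩ : (S' \ S).Nonempty := Set.nonempty_of_ncard_ne_zero (by
        have := Set.ncard_inter_add_ncard_sdiff_eq_ncard S' S
        rw [Set.inter_comm] at this
        omega)
      have hR'c : (B \ {i}).ncard = t := by
        rw [Set.ncard_sdiff_singleton_of_mem (hS' hiS'), hB1]; omega
      have hclo : clo G Γ (B \ {i}) = B := c.exch hR₁ hR'c Set.sdiff_subset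
      have hkl : k ≠ l := fun e => hlS' (e ▸ hkS')
      have hki : k ≠ i := fun e => hiS (e ▸ hkS)
      have hli : l ≠ i := fun e => hiS (e ▸ hlS)
      obtain ⟨σ, hσ⟩ := exists_map c.trans (by rw [c.card]; omega) (B \ {i}) hR'c.le
        (fun x => Equiv.swap k l (x : Ω)) ((Equiv.injective _).comp Subtype.val_injective)
      have hswap : ∀ z ∈ B, z ≠ i → σ • z = Equiv.swap k l z := fun z hz hzi => hσ ⟨z, hz, hzi⟩
      have hsB : ∀ z, z ∈ B \ {i} → Equiv.swap k l z ∈ B \ {i} := by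
        intro z hz
        rw [Equiv.swap_apply_def]
        split_ifs
        · exact ⟨hS hlS, hli⟩
        · exact ⟨hS hkS, hki⟩
        · exact hz
      have hσR : σ • (B \ {i}) = B \ {i} := by
        refine Set.eq_of_subset_of_ncard_le ?_ (by rw [ncard_smul]) (Set.toFinite _)
        rintro _ ⟨z, hz, rfl⟩
        show σ • z ∈ _
        rw [hswap z hz.1 hz.2]
        exact hsB z hz
      have hσB : σ • B = B := by
        rw [← hclo, smul_clo, hσR]
      have hσS : σ • S = S := by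
        refine Set.eq_of_subset_of_ncard_le ?_ (by rw [ncard_smul]) (Set.toFinite _)
        rintro _ ⟨z, hz, rfl⟩
        show σ • z ∈ S
        rw [hswap z (hS hz) fun e => hiS (e ▸ hz), Equiv.swap_apply_def]
        split_ifs
        · exact hlS
        · exact hkS
        · exact hz
      have hσi : σ • i = i := by
        have h1 : σ • i ∈ B := hσB ▸ Set.smul_mem_smul_set (hS' hiS')
        by_contra hne'
        have h2 : σ • i ∈ σ • (B \ {i}) := hσR.symm ▸ ⟨h1, hne'⟩
        exact ((Set.smul_mem_smul_set_iff).1 h2).2 rfl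
      have hS'' : σ • S' ⊆ insert l (S' \ {k}) := by
        rintro _ ⟨z, hz, rfl⟩
        show σ • z ∈ _
        by_cases hzi : z = i
        · rw [hzi, hσi]; exact Or.inr ⟨hiS', hki.symm⟩
        rw [hswap z (hS' hz) hzi, Equiv.swap_apply_def]
        split_ifs with h1 h2
        · exact Or.inl rfl
        · exact absurd (h2 ▸ hz) hlS'
        · exact Or.inr ⟨hz, h1⟩
      have hS''c : (insert l (S' \ {k})).ncard = t - 1 := by
        rw [Set.ncard_insert_of_notMem (fun h => hlS' h.1), Set.ncard_sdiff_singleton_of_mem hkS', hSc']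
        omega
      have hS''e : σ • S' = insert l (S' \ {k}) :=
        Set.eq_of_subset_of_ncard_le hS'' (by rw [hS''c, ncard_smul, hSc']) (Set.toFinite _)
      -- the common extension at the preimage of `p`
      have hq : σ⁻¹ • p ∉ clo G Γ R₁ := fun hm => hpB (by
        have := Set.smul_mem_smul_set (a := σ) hm
        rwa [smul_inv_smul, ← hB, hσB] at this)
      obtain ⟨u, hu, hup⟩ := c.trans_out hR₁ hpB hq
      have hfixS : ∀ X ⊆ B, u • X = X := fun X hX => by
        ext z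
        refine ⟨?_, fun hz => ⟨z, hz, hu z (hX hz)⟩⟩
        rintro ⟨z', hz', rfl⟩
        show u • z' ∈ X
        rw [hu z' (hX hz')]; exact hz'
      have e1 : ∀ X ⊆ B, ∀ z, z ∈ ext G Γ (insert p X) → (σ * u) • z ∈ ext G Γ (insert p (σ • X)) := by
        intro X hX z hz
        have := Set.smul_mem_smul_set (a := σ * u) hz
        rwa [smul_ext, Set.smul_set_insert, mul_smul σ u p, hup, smul_inv_smul, mul_smul σ u X,
          hfixS X hX] at this
      have h1 := e1 S hS w hw
      rw [hσS] at h1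
      have h2 := e1 S' hS' w hw'
      rw [hS''e] at h2
      obtain ⟨v, hv⟩ := Set.ncard_eq_one.1
        ((hext (R := insert p S) (by rw [Set.ncard_insert_of_notMem fun h => hgB (hS h) hpg]; omega)).trans hd2)
      have hw1 : w = v := by rw [hv] at hw; exact hw
      have hσu : (σ * u) • w = w := by rw [hv] at h1; exact h1.trans hw1.symm
      rw [hσu] at h2
      refine c.ext_adj (hS'.trans hgB) ((Set.insert_subset (hS hlS) (Set.sdiff_subset.trans hS')).trans hgB)
        hSc' hS''c (fun e => hlS' (e ▸ Set.mem_insert _ _)) ?_ hpg hw' h2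
      refine le_trans ?_ (Set.ncard_le_ncard (show S' \ {k} ⊆ S' ∩ insert l (S' \ {k}) from
        fun z hz => ⟨hz.1, Set.mem_insert_of_mem _ hz⟩))
      rw [Set.ncard_sdiff_singleton_of_mem hkS', hSc']
      omega
    have := c.count I (fun S => (S : Set Ω)) hR₁ hd.symm (fun S hS h => hgB ((hSI S hS).1 h) hpg)
      (fun S hS => (hSI S hS).2) hdisj (Y := (g₀ • Γ)ᶜ \ insert p B) (fun S hS w hw => by
        refine ⟨clo_subset_compl (Set.insert_subset hpA ((hSI S hS).1.trans hBA)) hw.1, ?_⟩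
        rintro (e | e)
        · exact hw.2 (e ▸ Set.mem_insert _ _)
        · exact hgB e (c.ext_mem_translate ((hSI S hS).1.trans hgB) (hSI S hS).2 hpg hw))
    rw [hIc, hd2, mul_one, Set.ncard_sdiff (Set.insert_subset hpA hBA), c.ncard_compl,
      Set.ncard_insert_of_notMem hpB, hB1] at this
    omega
  have hch : (t + 1).choose (t - 1) * 2 = (t + 1) * t := by
    rw [Nat.choose_symm_of_eq_add (show t + 1 = (t - 1) + 2 by omega), Nat.choose_two_right,
      Nat.div_mul_cancel (Nat.even_mul_pred_self (t + 1)).two_dvd, Nat.add_sub_cancel]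
  have hsq : 4 * (t + 1) ≤ t * (t + 1) := Nat.mul_le_mul_right _ ht4
  rw [mul_comm (t + 1) t] at hch
  by_cases h4 : t = 4
  · -- degree four
    have hm5 : 5 ≤ m := by omega
    obtain ⟨P, hP, hPc⟩ := Set.exists_subset_card_eq (s := g₀ • Γ) (n := 3) (by rw [ncard_smul, c.size]; omega)
    obtain ⟨p₁, p₂, p₃, h12, h13, h23, rfl⟩ := Set.ncard_eq_three.1 hPc
    have hp₁ : p₁ ∈ g₀ • Γ := hP (by simp)
    have hp₂ : p₂ ∈ g₀ • Γ := hP (by simp)
    have hX : ∀ a ∈ (g₀ • Γ)ᶜ, (insert a ({p₁, p₂, p₃} : Set Ω)).ncard = t := fun a ha => by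
      rw [Set.ncard_insert_of_notMem (fun h => ha (hP h)), hPc, h4]
    choose u hu using fun (a : ↥((g₀ • Γ)ᶜ)) =>
      Set.ncard_eq_one.1 ((hext (hX a a.2)).trans hd2)
    have hu1 : ∀ a : ↥((g₀ • Γ)ᶜ), u a ∈ clo G Γ (insert (a : Ω) ({p₁, p₂, p₃} : Set Ω)) ∧
        u a ∉ insert (a : Ω) ({p₁, p₂, p₃} : Set Ω) := fun a => by
      have : u a ∈ ext G Γ (insert (a : Ω) ({p₁, p₂, p₃} : Set Ω)) := by rw [hu a]; exact rfl
      exact this
    have hblock : ∀ a : ↥((g₀ • Γ)ᶜ), clo G Γ (insert (a : Ω) ({p₁, p₂, p₃} : Set Ω)) =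
        insert (u a) (insert (a : Ω) {p₁, p₂, p₃}) := by
      intro a
      refine ((Set.eq_of_subset_of_ncard_le (Set.insert_subset (hu1 a).1 subset_clo) ?_ (Set.toFinite _))).symm
      have := Set.ncard_sdiff_add_ncard_of_subset (s := insert (a : Ω) ({p₁, p₂, p₃} : Set Ω)) (subset_clo (G := G) (Γ := Γ))
      rw [Set.ncard_insert_of_notMem (hu1 a).2]
      have h1 := hext (hX a a.2)
      rw [ext] at h1
      omega
    have hin : ∀ a : ↥((g₀ • Γ)ᶜ), u a ∈ g₀ • Γ := by
      intro a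
      by_contra hua
      have hne' : (a : Ω) ≠ u a := fun e => (hu1 a).2 (by rw [← e]; exact Set.mem_insert _ _)
      obtain ⟨x, hxA, hxR, hxq⟩ := (hfan g₀ {(a : Ω), u a}
        (Set.insert_subset a.2 (Set.singleton_subset_iff.2 hua))
        (by rw [Set.ncard_pair hne', h4]) p₁ hp₁).2 h4 hd2 p₂ hp₂ h12.symm
      set K' := insert p₁ (insert x ({(a : Ω), u a} : Set Ω))
      have hK'c : K'.ncard = t := by
        rw [Set.ncard_insert_of_notMem (fun h => ?_), Set.ncard_insert_of_notMem hxR, Set.ncard_pair hne', h4]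
        rcases h with h | h | h
        · exact hxA (h ▸ hp₁)
        · exact a.2 (h ▸ hp₁)
        · exact hua (h ▸ hp₁)
      set R' : Set Ω := insert p₂ (insert p₁ {(a : Ω), u a})
      have hR'c : R'.ncard = t := by
        rw [Set.ncard_insert_of_notMem (fun h => ?_), Set.ncard_insert_of_notMem (fun h => ?_),
          Set.ncard_pair hne', h4]
        · rcases h with h | h
          · exact a.2 (h ▸ hp₁)
          · exact hua (h ▸ hp₁)
        · rcases h with h | h | h
          · exact h12 h.symm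
          · exact a.2 (h ▸ hp₂)
          · exact hua (h ▸ hp₂)
      have e1 : clo G Γ R' = clo G Γ K' := c.exch hK'c hR'c (Set.insert_subset hxq
        (Set.insert_subset (subset_clo (Set.mem_insert _ _))
          (fun z hz => subset_clo (Set.mem_insert_of_mem _ (Set.mem_insert_of_mem _ hz)))))
      have e2 : clo G Γ R' = clo G Γ (insert (a : Ω) {p₁, p₂, p₃}) := c.exch (hX a a.2) hR'c (by
        rw [hblock a]
        intro z hz
        simp only [R', Set.mem_insert_iff, Set.mem_singleton_iff] at hz ⊢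
        tauto)
      have hxm : x ∈ clo G Γ (insert (a : Ω) {p₁, p₂, p₃}) :=
        e2 ▸ e1.symm ▸ subset_clo (Set.mem_insert_of_mem _ (Set.mem_insert _ _))
      rw [hblock a] at hxm
      simp only [Set.mem_insert_iff, Set.mem_singleton_iff] at hxm hxR
      rcases hxm with h | h | h | h | h
      · exact hxR (Or.inr h)
      · exact hxR (Or.inl h)
      · exact hxA (h ▸ hp₁)
      · exact hxA (h ▸ hp₂)
      · exact hxA (h ▸ hP (by simp))
    have hinj : Function.Injective (fun a => (⟨u a, hin a, fun h => (hu1 a).2 (Set.mem_insert_of_mem _ h)⟩ :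
        ↥((g₀ • Γ) \ ({p₁, p₂, p₃} : Set Ω)))) := by
      intro a b hab
      have hub : u a = u b := congrArg Subtype.val hab
      set R' : Set Ω := insert (u a) {p₁, p₂, p₃}
      have hR'c : R'.ncard = t := by
        rw [Set.ncard_insert_of_notMem (fun h => (hu1 a).2 (Set.mem_insert_of_mem _ h)), hPc, h4]
      have e1 := c.exch (hX a a.2) hR'c (Set.insert_subset (hu1 a).1 ((Set.subset_insert _ _).trans subset_clo))
      have e2 := c.exch (hX b b.2) hR'c (Set.insert_subset (hub ▸ (hu1 b).1)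
        ((Set.subset_insert _ _).trans subset_clo))
      have hbm : (b : Ω) ∈ clo G Γ (insert (a : Ω) {p₁, p₂, p₃}) :=
        e1 ▸ e2.symm ▸ subset_clo (Set.mem_insert _ _)
      rw [hblock a] at hbm
      rcases hbm with h | h | h
      · exact absurd (h ▸ hin a) b.2
      · exact (Subtype.ext h).symm
      · exact absurd (hP h) b.2
    have := Nat.card_le_card_of_injective _ hinj
    rw [Nat.card_coe_set_eq, Nat.card_coe_set_eq, c.ncard_compl, Set.ncard_sdiff hP, ncard_smul, c.size,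
      hPc] at this
    omega
  · -- the centraliser of the stabiliser of the flat
    have hR0A : R0 ⊆ (g₀ • Γ)ᶜ := hR01.trans hR₁A
    let C : Subgroup (Equiv.Perm ↥(g₀ • Γ)) :=
      { carrier := {σ | ∀ f : G, (∀ z ∉ g₀ • Γ, f • z = z) → ∀ q q' : ↥(g₀ • Γ),
          f • (q : Ω) = q' → f • ((σ q : ↥(g₀ • Γ)) : Ω) = σ q'}
        one_mem' := fun f _ q q' h => h
        mul_mem' := fun {σ τ} hσ hτ f hf q q' h => hσ f hf _ _ (hτ f hf q q' h)
        inv_mem' := fun {σ} hσ f hf q q' h => by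
          have hmem : f • ((σ⁻¹ q : ↥(g₀ • Γ)) : Ω) ∈ g₀ • Γ := by
            by_contra hno
            have := hf _ hno
            rw [smul_left_cancel_iff] at this
            exact hno (this.symm ▸ (σ⁻¹ q).2)
          have h1 := hσ f hf (σ⁻¹ q) ⟨_, hmem⟩ rfl
          have h0 : σ (σ⁻¹ q) = q := Equiv.apply_symm_apply σ q
          rw [h0, h] at h1
          have h2 : σ⁻¹ q' = ⟨_, hmem⟩ :=
            σ.injective ((Equiv.apply_symm_apply σ q').trans (Subtype.ext h1))
          rw [h2] }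
    have hmove : ∀ p q : ↥(g₀ • Γ), ∃ f : G, (∀ z ∉ g₀ • Γ, f • z = z) ∧ f • (p : Ω) = q :=
      fun p q => c.jordan.translate g₀ p p.2 q q.2
    have hfree : ∀ σ ∈ C, ∀ τ ∈ C, ∀ p, σ p = τ p → σ = τ := by
      intro σ hσ τ hτ p hp
      ext q
      obtain ⟨f, hf, hfp⟩ := hmove p q
      rw [← hσ f hf p q hfp, ← hτ f hf p q hfp, hp]
    set J : Set Ω := (g₀ • Γ)ᶜ \ R0 with hJ
    have hJc : J.ncard = m + 3 - t := by
      rw [hJ, Set.ncard_sdiff hR0A, c.ncard_compl, hR0c]; omega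
    have hsub : ∀ x ∈ J, insert x R0 ⊆ (g₀ • Γ)ᶜ := fun x hx => Set.insert_subset hx.1 hR0A
    have hsc : ∀ x ∈ J, (insert x R0).ncard = t - 1 := fun x hx => by
      rw [Set.ncard_insert_of_notMem hx.2, hR0c]; omega
    have hXt : ∀ x ∈ J, ∀ q ∈ g₀ • Γ, (insert q (insert x R0)).ncard = t := fun x hx q hq => by
      rw [Set.ncard_insert_of_notMem (fun h => hsub x hx h hq), hsc x hx]; omega
    choose v hv using fun (x : ↥J) (q : ↥(g₀ • Γ)) =>
      Set.ncard_eq_one.1 ((hext (hXt x x.2 q q.2)).trans hd2)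
    have hvm : ∀ x q, v x q ∈ g₀ • Γ := fun x q =>
      c.ext_mem_translate (hsub x x.2) (hsc x x.2) q.2 (by rw [hv x q]; exact rfl)
    have hv1 : ∀ (x : ↥J) (q : ↥(g₀ • Γ)) (w : Ω), w ∈ ext G Γ (insert (q : Ω) (insert (x : Ω) R0)) → w = v x q := fun x q w hw => by
      rw [hv x q] at hw; exact hw
    have hvv : ∀ (x : ↥J) (q : ↥(g₀ • Γ)), v x ⟨v x q, hvm x q⟩ = q := by
      intro x q
      have h1 : v x q ∈ ext G Γ (insert (q : Ω) (insert (x : Ω) R0)) := by rw [hv x q]; exact rfl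
      refine (hv1 x ⟨v x q, hvm x q⟩ _ ⟨?_, ?_⟩).symm
      · rw [c.exch (hXt x x.2 q q.2) (hXt x x.2 _ (hvm x q))
          (Set.insert_subset h1.1 ((Set.subset_insert _ _).trans subset_clo))]
        exact subset_clo (Set.mem_insert _ _)
      · rintro (e | e)
        · exact h1.2 (show v x q ∈ _ from (show v x q = (q : Ω) from e.symm) ▸ Set.mem_insert _ _)
        · exact hsub x x.2 e q.2
    have hvinv : ∀ x : ↥J, Function.Involutive (fun q => (⟨v x q, hvm x q⟩ : ↥(g₀ • Γ))) :=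
      fun x q => Subtype.ext (hvv x q)
    let τ : ↥J → Equiv.Perm ↥(g₀ • Γ) := fun x => (hvinv x).toPerm
    have hτC : ∀ x, τ x ∈ C := by
      intro x f hf q q' hq
      show f • v x q = v x q'
      refine hv1 x q' _ ?_
      have h1 : v x q ∈ ext G Γ (insert (q : Ω) (insert (x : Ω) R0)) := by rw [hv x q]; exact rfl
      have := Set.smul_mem_smul_set (a := f) h1
      rw [smul_ext, Set.smul_set_insert, hq] at this
      have e : f • insert (x : Ω) R0 = insert (x : Ω) R0 := by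
        ext z
        refine ⟨?_, fun hz => ⟨z, hz, hf z (hsub x x.2 hz)⟩⟩
        rintro ⟨z', hz', rfl⟩
        show f • z' ∈ _
        rw [hf z' (hsub x x.2 hz')]; exact hz'
      rwa [e] at this
    let pp : ↥(g₀ • Γ) := ⟨p₀, hp₀⟩
    have hτinj : Function.Injective τ := by
      intro x y hxy
      by_contra hne'
      have e : v x pp = v y pp := congrArg (fun σ : Equiv.Perm ↥(g₀ • Γ) => (σ pp : Ω)) hxy
      refine c.ext_adj (hsub x x.2) (hsub y y.2) (hsc x x.2) (hsc y y.2) (fun h => ?_) ?_ hp₀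
        (w := v x pp) (by rw [hv x pp]; exact rfl) (by rw [hv y pp, e]; exact rfl)
      · have hm : (x : Ω) ∈ insert (y : Ω) R0 := h ▸ Set.mem_insert _ _
        exact hm.elim (fun e => hne' (Subtype.ext e)) x.2.2
      · rw [← hR0c]
        exact Set.ncard_le_ncard (fun z hz => ⟨Set.mem_insert_of_mem _ hz, Set.mem_insert_of_mem _ hz⟩)
    have hτ1 : ∀ x, τ x ≠ 1 := fun x h => by
      have e : v x pp = p₀ := congrArg (fun σ : Equiv.Perm ↥(g₀ • Γ) => (σ pp : Ω)) h
      have h1 : v x pp ∈ ext G Γ (insert (pp : Ω) (insert (x : Ω) R0)) := by rw [hv x pp]; exact rfl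
      exact h1.2 (by rw [e]; exact Set.mem_insert _ _)
    -- the centraliser is regular
    set Sq : Set ↥C := {σ | σ * σ = 1} with hSq
    have hSq1 : m + 4 - t ≤ Sq.ncard := by
      let j : Option ↥J → ↥Sq := fun o => o.elim ⟨1, mul_one 1⟩ fun x =>
        ⟨⟨τ x, hτC x⟩, Subtype.ext (Equiv.ext fun q => hvinv x q)⟩
      have hj : Function.Injective j := by
        rintro (_ | x) (_ | y) h
        · rfl
        · exact absurd (congrArg (fun σ : ↥Sq => ((σ : ↥C) : Equiv.Perm ↥(g₀ • Γ))) h).symm (hτ1 y)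
        · exact absurd (congrArg (fun σ : ↥Sq => ((σ : ↥C) : Equiv.Perm ↥(g₀ • Γ))) h) (hτ1 x)
        · exact congrArg some (hτinj (congrArg (fun σ : ↥Sq => ((σ : ↥C) : Equiv.Perm ↥(g₀ • Γ))) h))
      have := Nat.card_le_card_of_injective _ hj
      rw [Finite.card_option, Nat.card_coe_set_eq, Nat.card_coe_set_eq, hJc] at this
      omega
    have hev : Function.Injective (fun σ : ↥C => (σ : Equiv.Perm ↥(g₀ • Γ)) pp) :=
      fun σ σ' h => Subtype.ext (hfree σ σ.2 σ' σ'.2 pp h)
    have hCle : Nat.card C ≤ m := by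
      have := Nat.card_le_card_of_injective _ hev
      rwa [Nat.card_coe_set_eq, ncard_smul, c.size] at this
    have hSqC : Sq.ncard ≤ Nat.card C := Set.ncard_le_card Sq
    have hsurj : ∀ u : ↥(g₀ • Γ), ∃ σ ∈ C, σ pp = u := by
      intro u
      by_contra hno
      simp only [not_exists, not_and] at hno
      have hinj : Function.Injective (fun o : ↥C ⊕ ↥C => Sum.elim
          (fun σ : ↥C => (σ : Equiv.Perm ↥(g₀ • Γ)) pp) (fun σ : ↥C => (σ : Equiv.Perm ↥(g₀ • Γ)) u) o) := by
        rintro (σ | σ) (σ' | σ') h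
        · exact congrArg Sum.inl (hev h)
        · refine absurd ?_ (hno ((σ'⁻¹ * σ : ↥C) : Equiv.Perm ↥(g₀ • Γ)) (σ'⁻¹ * σ).2)
          simp only [Sum.elim_inl, Sum.elim_inr] at h
          rw [Subgroup.coe_mul, Subgroup.coe_inv, Equiv.Perm.mul_apply, h, Equiv.Perm.inv_def,
            Equiv.symm_apply_apply]
        · refine absurd ?_ (hno ((σ⁻¹ * σ' : ↥C) : Equiv.Perm ↥(g₀ • Γ)) (σ⁻¹ * σ').2)
          simp only [Sum.elim_inl, Sum.elim_inr] at h
          rw [Subgroup.coe_mul, Subgroup.coe_inv, Equiv.Perm.mul_apply, ← h, Equiv.Perm.inv_def,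
            Equiv.symm_apply_apply]
        · exact congrArg Sum.inr (Subtype.ext (hfree σ σ.2 σ' σ'.2 u h))
      have := Nat.card_le_card_of_injective _ hinj
      rw [Nat.card_sum, Nat.card_coe_set_eq, ncard_smul, c.size] at this
      omega
    have hCeq : Nat.card C = m := by
      refine le_antisymm hCle ?_
      rw [← c.size, ← ncard_smul g₀ Γ, ← Nat.card_coe_set_eq]
      refine Nat.card_le_card_of_surjective (fun σ : ↥C => (σ : Equiv.Perm ↥(g₀ • Γ)) pp) fun u => ?_
      obtain ⟨σ, hσ, h⟩ := hsurj u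
      exact ⟨⟨σ, hσ⟩, h⟩
    -- every involution comes from a point of the flat
    have hinvol : ∀ σ ∈ C, σ * σ = 1 → σ ≠ 1 → ∃ x : ↥J, τ x = σ := by
      intro σ hσ hσ2 hσ1
      have hσp : σ pp ≠ pp := fun h => hσ1 (hfree σ hσ 1 (one_mem C) pp h)
      have hne' : p₀ ≠ (σ pp : Ω) := fun h => hσp (Subtype.ext h.symm)
      set X : Set Ω := insert p₀ (insert (σ pp : Ω) R0) with hXdef
      have hqR : (σ pp : Ω) ∉ R0 := fun h => hR0A h (σ pp).2
      have hpX : p₀ ∉ insert (σ pp : Ω) R0 := fun h => h.elim hne' fun h => hR0A h hp₀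
      have hXc : X.ncard = t := by
        rw [hXdef, Set.ncard_insert_of_notMem hpX, Set.ncard_insert_of_notMem hqR, hR0c]; omega
      obtain ⟨w, hw⟩ := Set.ncard_eq_one.1 ((hext hXc).trans hd2)
      have hwX : w ∈ ext G Γ X := by rw [hw]; exact rfl
      by_cases hwA : w ∈ g₀ • Γ
      · exfalso
        obtain ⟨f, hf, hfp⟩ := hmove pp (σ pp)
        have hfq : f • (σ pp : Ω) = p₀ := by
          rw [hσ f hf pp (σ pp) hfp, ← Equiv.Perm.mul_apply, hσ2]
          rfl
        have hfX : f • X = X := by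
          refine Set.eq_of_subset_of_ncard_le ?_ (by rw [ncard_smul]) (Set.toFinite _)
          rintro _ ⟨z, (rfl | rfl | hz), rfl⟩
          · exact Set.mem_insert_of_mem _ (hfp ▸ Set.mem_insert _ _)
          · show f • (σ pp : Ω) ∈ X
            rw [hfq]; exact Set.mem_insert _ _
          · show f • z ∈ X
            rw [hf z (hR0A hz)]
            exact Set.mem_insert_of_mem _ (Set.mem_insert_of_mem _ hz)
        have hfw : f • w = w := by
          have := Set.smul_mem_smul_set (a := f) hwX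
          rw [smul_ext, hfX, hw] at this
          exact this
        obtain ⟨κ, hκ, hκp⟩ := hsurj ⟨w, hwA⟩
        have h1 := hκ f hf pp (σ pp) hfp
        rw [hκp, hfw] at h1
        have h2 : κ (σ pp) = κ pp := by rw [hκp]; exact Subtype.ext h1.symm
        exact hσp (κ.injective h2)
      · have hwJ : w ∈ J := ⟨hwA, fun h => hwX.2 (Set.mem_insert_of_mem _ (Set.mem_insert_of_mem _ h))⟩
        refine ⟨⟨w, hwJ⟩, hfree _ (hτC _) σ hσ pp (Subtype.ext (hv1 ⟨w, hwJ⟩ pp _ ⟨?_, ?_⟩).symm)⟩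
        · rw [c.exch hXc (hXt w hwJ p₀ hp₀) (Set.insert_subset (subset_clo (Set.mem_insert _ _))
            (Set.insert_subset hwX.1 fun z hz =>
              subset_clo (Set.mem_insert_of_mem _ (Set.mem_insert_of_mem _ hz))))]
          exact subset_clo (Set.mem_insert_of_mem _ (Set.mem_insert _ _))
        · rintro (h | h | h)
          · exact hne' h.symm
          · exact hwA (show w ∈ _ from (show (σ pp : Ω) = w from h) ▸ (σ pp).2)
          · exact hqR h
    have hsq1 : ∀ σ : ↥C, σ * σ = 1 := by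
      refine exponent_two ?_
      have h1 : Sqᶜ = {σ : ↥C | σ * σ ≠ 1} := rfl
      rw [← h1, Set.ncard_compl, hCeq]
      have hsq' : 7 * t ≤ t * (t + 1) + 9 := by nlinarith
      omega
    have hsur : Function.Surjective (fun o : Option ↥J => o.elim (1 : ↥C) fun x => ⟨τ x, hτC x⟩) := by
      intro σ
      by_cases h : σ = 1
      · exact ⟨none, h.symm⟩
      · obtain ⟨x, hx⟩ := hinvol σ σ.2 (congrArg Subtype.val (hsq1 σ)) fun e => h (Subtype.ext e)
        exact ⟨some x, Subtype.ext hx⟩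
    have := Nat.card_le_card_of_surjective _ hsur
    rw [Finite.card_option, Nat.card_coe_set_eq, hJc, hCeq] at this
    omega

end CfsgLib.Marggraf
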