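import Mathlib
import Cfsg.Agent.Lib.MarggrafClosure
import Cfsg.Agent.S3707

/-!
Marggraf's theorem: a primitive or quasiprimitive group with a Jordan set of fewer than half of the points
contains the alternating group.
-/

set_option autoImplicit false

namespace CfsgLib.Marggraf

open scoped Pointwise

universe u v

variable {G : Type u} {Ω : Type v} [Group G] [MulAction G Ω]

/-- Some element acts as a three-cycle. -/
def HasThreeCycle (G : Type u) (Ω : Type v) [Group G] [MulAction G Ω] : Prop :=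
  ∃ (g : G) (a b c : Ω), a ≠ b ∧ b ≠ c ∧ a ≠ c ∧ g • a = b ∧ g • b = c ∧ g • c = a ∧
    ∀ z, z ≠ a → z ≠ b → z ≠ c → g • z = z

theorem stays {g : G} {T : Set Ω} (hg : ∀ z ∉ T, g • z = z) {z : Ω} (hz : z ∈ T) : g • z ∈ T := by
  by_contra h
  exact h ((smul_left_cancel g (hg _ h)).symm ▸ hz)

theorem stays_inv {g : G} {T : Set Ω} (hg : ∀ z ∉ T, g • z = z) : ∀ z ∉ T, g⁻¹ • z = z :=
  fun z hz => inv_smul_eq_iff.2 (hg z hz).symm

/-- Two Jordan sets meeting in one point give a three-cycle. -/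
theorem three_of_meet {T₁ T₂ : Set Ω} {c : Ω} (h₁ : Jordan G T₁) (h₂ : Jordan G T₂) (hc : T₁ ∩ T₂ = {c})
    {a b : Ω} (ha : a ∈ T₁) (hac : a ≠ c) (hb : b ∈ T₂) (hbc : b ≠ c) : HasThreeCycle G Ω := by
  have hcm : c ∈ T₁ ∩ T₂ := hc ▸ rfl
  have hsep : ∀ z ∈ T₁, z ≠ c → z ∉ T₂ := fun z h1 hne h2 => hne (hc ▸ ⟨h1, h2⟩ : z ∈ ({c} : Set Ω))
  have hsep' : ∀ z ∈ T₂, z ≠ c → z ∉ T₁ := fun z h2 hne h1 => hne (hc ▸ ⟨h1, h2⟩ : z ∈ ({c} : Set Ω))
  obtain ⟨x, hx, hxc⟩ := h₁ c hcm.1 a ha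
  obtain ⟨y, hy, hyc⟩ := h₂ c hcm.2 b hb
  have hx' := stays_inv hx
  have hy' := stays_inv hy
  have hab : a ≠ b := fun e => hsep a ha hac (e ▸ hb)
  refine ⟨x * y * x⁻¹ * y⁻¹, a, b, c, hab, hbc, hac, ?_, ?_, ?_, fun z hza hzb hzc => ?_⟩
  · rw [mul_smul, mul_smul, mul_smul, hy' a (hsep a ha hac), inv_smul_eq_iff.2 hxc.symm, hyc,
      hx b (hsep' b hb hbc)]
  · rw [mul_smul, mul_smul, mul_smul, inv_smul_eq_iff.2 hyc.symm]
    have hne : x⁻¹ • c ≠ c := fun e => hac (hxc.symm.trans (inv_smul_eq_iff.1 e).symm)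
    rw [hy _ (hsep _ (stays hx' hcm.1) hne), smul_inv_smul]
  · rw [mul_smul, mul_smul, mul_smul]
    have hne : y⁻¹ • c ≠ c := fun e => hbc (hyc.symm.trans (inv_smul_eq_iff.1 e).symm)
    rw [hx' _ (hsep' _ (stays hy' hcm.2) hne), smul_inv_smul, hxc]
  · rw [mul_smul, mul_smul, mul_smul]
    by_cases h1 : z ∈ T₁
    · rw [hy' z (hsep z h1 hzc)]
      have hne : x⁻¹ • z ≠ c := fun e => hza ((inv_smul_eq_iff.1 e).trans hxc)
      rw [hy _ (hsep _ (stays hx' h1) hne), smul_inv_smul]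
    · by_cases h2 : z ∈ T₂
      · have hne : y⁻¹ • z ≠ c := fun e => hzb ((inv_smul_eq_iff.1 e).trans hyc)
        rw [hx' _ (hsep' _ (stays hy' h2) hne), smul_inv_smul, hx z h1]
      · rw [hy' z h2, hx' z h1, hy z h2, hx z h1]

/-- Every `t`-set trivially closed gives one more degree of transitivity. -/
theorem Ctx.succ_trans [Finite Ω] {Γ : Set Ω} {m t : ℕ} (c : Ctx G Γ m t) :
    MulAction.IsMultiplyPretransitive G Ω (t + 1) := by
  rw [MulAction.isMultiplyPretransitive_iff]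
  intro x y
  set R : Set Ω := Set.range fun i : Fin t => y (Fin.castSucc i) with hRdef
  have hR : R.ncard = t := by
    rw [hRdef, ← Nat.card_coe_set_eq, Nat.card_range_of_injective (f := fun i : Fin t => y (Fin.castSucc i))
      (fun i j h => Fin.castSucc_injective t (y.injective h)), Nat.card_fin]
  haveI := c.trans
  obtain ⟨g, hg⟩ := MulAction.exists_smul_eq G
    (⟨fun i => x (Fin.castSucc i), x.injective.comp (Fin.castSucc_injective t)⟩ : Fin t ↪ Ω)
    (⟨fun i => y (Fin.castSucc i), y.injective.comp (Fin.castSucc_injective t)⟩ : Fin t ↪ Ω)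
  have hgi : ∀ i : Fin t, g • x (Fin.castSucc i) = y (Fin.castSucc i) := fun i => DFunLike.congr_fun hg i
  have h1 : g • x (Fin.last t) ∉ R := by
    rintro ⟨i, hi⟩
    have : y (Fin.castSucc i) = g • x (Fin.last t) := hi
    rw [← hgi i, smul_left_cancel_iff] at this
    exact (Fin.castSucc_ne_last i) (x.injective this)
  have h2 : y (Fin.last t) ∉ R := by
    rintro ⟨i, hi⟩
    exact (Fin.castSucc_ne_last i) (y.injective hi)
  obtain ⟨f, hf, hfe⟩ := c.trans_out hR (p := g • x (Fin.last t)) (q := y (Fin.last t))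
    (by rw [c.clo_eq hR]; exact h1) (by rw [c.clo_eq hR]; exact h2)
  refine ⟨f * g, DFunLike.ext _ _ fun i => ?_⟩
  show (f * g) • x i = y i
  rcases Fin.eq_castSucc_or_eq_last i with ⟨j, rfl⟩ | rfl
  · rw [mul_smul, hgi, hf _ (subset_clo ⟨j, rfl⟩)]
  · rw [mul_smul, hfe]

/-- The critical degree. -/
theorem three_critical [Finite Ω] (hp : MulAction.IsPreprimitive G Ω) {Γ : Set Ω} {m : ℕ}
    (hm : Γ.ncard = m) (h1 : 1 < m) (hn : Nat.card Ω = 2 * m + 1) (hJ : Jordan G Γ) :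
    HasThreeCycle G Ω := by
  have hc : Γᶜ.ncard = m + 1 := by rw [Set.ncard_compl, hm, hn]; omega
  have h2 : MulAction.IsMultiplyPretransitive G Ω 2 :=
    hp.is_two_pretransitive hc (by omega) (Cfsg.Agent.S3707.JSet.fixing_transitive (Γ := Γ) hJ rfl)
  have hall : ∀ t, 2 ≤ t → t ≤ m → MulAction.IsMultiplyPretransitive G Ω t := by
    intro t ht
    induction t, ht using Nat.le_induction with
    | base => exact fun _ => h2
    | succ t ht ih => exact fun htm => Ctx.succ_trans ⟨hm, hn, hJ, ih (by omega), ht, by omega⟩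
  obtain ⟨c, hc0⟩ : Γ.Nonempty := Set.nonempty_of_ncard_ne_zero (by omega)
  obtain ⟨Y, hY, hYc⟩ := Set.exists_subset_card_eq (s := Γᶜ) (n := m - 1) (by omega)
  have hYm : (insert c Y).ncard = Γ.ncard := by
    rw [Set.ncard_insert_of_notMem fun h => hY h hc0, hm]; omega
  have e : ↥Γ ≃ ↥(insert c Y) := Classical.choice (Finite.card_eq.1 (by
    rw [Nat.card_coe_set_eq, Nat.card_coe_set_eq, hYm]))
  obtain ⟨g, hg⟩ := exists_map (hall m (by omega) le_rfl) (by omega) Γ hm.le (fun x => (e x : Ω))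
    (Subtype.val_injective.comp e.injective)
  have hgΓ : g • Γ = insert c Y := by
    refine Set.eq_of_subset_of_ncard_le ?_ (by rw [ncard_smul, hYm]) (Set.toFinite _)
    rintro _ ⟨x, hx, rfl⟩
    show g • x ∈ _
    rw [hg ⟨x, hx⟩]
    exact (e ⟨x, hx⟩).2
  obtain ⟨a, ha, hac⟩ : ∃ a ∈ Γ, a ≠ c := Set.exists_ne_of_one_lt_ncard (by omega) c
  obtain ⟨b, hb⟩ : Y.Nonempty := Set.nonempty_of_ncard_ne_zero (by omega)
  refine three_of_meet hJ (hJ.translate g) ?_ ha hac (hgΓ ▸ Set.mem_insert_of_mem c hb)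
    fun h => hY hb ((show b = c from h) ▸ hc0)
  rw [hgΓ]
  ext z
  constructor
  · rintro ⟨hz, h | h⟩
    · exact h
    · exact absurd hz (hY h)
  · rintro rfl
    exact ⟨hc0, Set.mem_insert _ _⟩

/-- A primitive group with a Jordan set of fewer than half of the points has a three-cycle. -/
theorem three_primitive : ∀ (n : ℕ) (G : Type u) (Ω : Type v) [Group G] [MulAction G Ω] [Finite Ω],
    Nat.card Ω = n → MulAction.IsPreprimitive G Ω → ∀ Γ : Set Ω, 1 < Γ.ncard → 2 * Γ.ncard < n →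
      Jordan G Γ → HasThreeCycle G Ω := by
  intro n
  induction n using Nat.strong_induction_on with
  | _ n ih =>
    intro G Ω _ _ _ hn hp Γ h1 h2 hJ
    by_cases hcr : n = 2 * Γ.ncard + 1
    · exact three_critical hp rfl h1 (hn.trans hcr) hJ
    obtain ⟨k, hk⟩ : ∃ k, Γᶜ.ncard = k + 1 := ⟨Γᶜ.ncard - 1, by rw [Set.ncard_compl]; omega⟩
    have hcc : Γᶜ.ncard = n - Γ.ncard := by rw [Set.ncard_compl, hn]
    have h2t := hp.is_two_pretransitive hk (by omega) (Cfsg.Agent.S3707.JSet.fixing_transitive (Γ := Γ) hJ rfl)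
    obtain ⟨a, ha⟩ : (Γᶜ).Nonempty := Set.nonempty_of_ncard_ne_zero (by omega)
    have hpa := Cfsg.Agent.S3707.stab_prim h2t Γ h1 (by omega) hJ a
    have hX : Nat.card (SubMulAction.ofStabilizer G a) = n - 1 := by
      have h := (Nat.card_coe_set_eq ({a}ᶜ : Set Ω))
      rw [Set.ncard_compl, Set.ncard_singleton, hn] at h
      exact h
    let Γ' : Set (SubMulAction.ofStabilizer G a) := Subtype.val ⁻¹' Γ
    have hΓ' : Γ'.ncard = Γ.ncard := Set.ncard_preimage_of_injective_subset_range Subtype.val_injective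
      (fun x hx => ⟨⟨x, fun h => ha (h ▸ hx)⟩, rfl⟩)
    have hJ' : Jordan (MulAction.stabilizer G a) Γ' := by
      intro x hx y hy
      obtain ⟨g, hg, hgx⟩ := hJ (x : Ω) hx (y : Ω) hy
      exact ⟨⟨g, hg a ha⟩, fun z hz => Subtype.ext (hg (z : Ω) hz), Subtype.ext hgx⟩
    obtain ⟨g, x, y, z, hxy, hyz, hxz, e1, e2, e3, hfix⟩ :=
      ih (n - 1) (by omega) _ _ hX hpa Γ' (by omega) (by omega) hJ'
    refine ⟨(g : G), x, y, z, fun h => hxy (Subtype.ext h), fun h => hyz (Subtype.ext h),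
      fun h => hxz (Subtype.ext h), congrArg Subtype.val e1, congrArg Subtype.val e2,
      congrArg Subtype.val e3, fun w hwx hwy hwz => ?_⟩
    by_cases hwa : w = a
    · rw [hwa]; exact g.2
    · exact congrArg Subtype.val (hfix ⟨w, hwa⟩ (fun h => hwx (congrArg Subtype.val h))
        (fun h => hwy (congrArg Subtype.val h)) (fun h => hwz (congrArg Subtype.val h)))

theorem isThreeCycle_of_points {α : Type*} [Fintype α] [DecidableEq α] {σ : Equiv.Perm α} {a b c : α}
    (hab : a ≠ b) (hbc : b ≠ c) (hac : a ≠ c) (h1 : σ a = b) (h2 : σ b = c) (h3 : σ c = a)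
    (h : ∀ z, z ≠ a → z ≠ b → z ≠ c → σ z = z) : σ.IsThreeCycle := by
  have e : σ = Equiv.swap a c * Equiv.swap a b := by
    ext z
    rw [Equiv.Perm.mul_apply]
    by_cases hza : z = a
    · subst hza; rw [h1, Equiv.swap_apply_left, Equiv.swap_apply_of_ne_of_ne hab.symm hbc]
    by_cases hzb : z = b
    · subst hzb; rw [h2, Equiv.swap_apply_right, Equiv.swap_apply_left]
    by_cases hzc : z = c
    · subst hzc; rw [h3, Equiv.swap_apply_of_ne_of_ne hac.symm hbc.symm, Equiv.swap_apply_right]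
    rw [h z hza hzb hzc, Equiv.swap_apply_of_ne_of_ne hza hzb, Equiv.swap_apply_of_ne_of_ne hza hzc]
  rw [e]
  exact Equiv.Perm.isThreeCycle_swap_mul_swap_same hac hab hbc.symm

/-- A primitive group with a Jordan set of fewer than half of the points contains all even permutations. -/
theorem primitive_even [Fintype Ω] [DecidableEq Ω] (hp : MulAction.IsPreprimitive G Ω) (Γ : Set Ω)
    (h1 : 1 < Γ.ncard) (h2 : 2 * Γ.ncard < Nat.card Ω) (hJ : Jordan G Γ) :
    ∀ σ : Equiv.Perm Ω, Equiv.Perm.sign σ = 1 → ∃ x : G, MulAction.toPermHom G Ω x = σ := by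
  obtain ⟨g, a, b, c, hab, hbc, hac, e1, e2, e3, hfix⟩ :=
    three_primitive _ G Ω rfl hp Γ h1 h2 hJ
  have h3 : (MulAction.toPermHom G Ω g).IsThreeCycle := isThreeCycle_of_points hab hbc hac e1 e2 e3 hfix
  haveI := hp.toIsPretransitive
  let f : Ω →ₑ[(MulAction.toPermHom G Ω).rangeRestrict] Ω :=
    { toFun := id, map_smul' := fun _ _ => rfl }
  haveI := hp
  have hp' : MulAction.IsPreprimitive (MulAction.toPermHom G Ω).range Ω :=
    MulAction.IsPreprimitive.of_surjective (f := f) Function.surjective_id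
  exact fun σ hσ => MonoidHom.mem_range.1
    (Equiv.Perm.alternatingGroup_le_of_isPreprimitive_of_isThreeCycle_mem hp' h3 ⟨g, rfl⟩
      (Equiv.Perm.mem_alternatingGroup.2 hσ))

/-- The points of a block system meeting a Jordan set lie in it. -/
theorem block_subset [Finite Ω] [FaithfulSMul G (Set Ω)] {Γ : Set Ω} (hJ : Jordan G Γ) {β : Set Ω}
    (hβ : MulAction.IsBlock G β) (h1 : 1 < Γ.ncard)
    (hcov : ∀ ω : Ω, ∃ g : G, ω ∈ g • β)
    (hker : ∀ f : G, (∀ g : G, f • g • β = g • β) → f = 1) (g : G) {p : Ω} (hp : p ∈ g • β) (hpΓ : p ∈ Γ) :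
    g • β ⊆ Γ := by
  intro z hz
  by_contra hzΓ
  have hmeet : ∀ {g₁ g₂ : G} {w : Ω}, w ∈ g₁ • β → w ∈ g₂ • β → g₁ • β = g₂ • β := by
    intro g₁ g₂ w hw1 hw2
    by_contra hne
    exact Set.disjoint_left.1 (hβ hne) hw1 hw2
  have hfixβ : ∀ f : G, (∀ w ∉ Γ, f • w = w) → f • g • β = g • β := by
    intro f hf
    have hm : z ∈ (f * g) • β := by rw [mul_smul, ← hf z hzΓ]; exact Set.smul_mem_smul_set hz
    rw [← mul_smul]
    exact hmeet hm hz
  have hΓβ : Γ ⊆ g • β := by
    intro q hq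
    obtain ⟨f, hf, hfp⟩ := hJ p hpΓ q hq
    rw [← hfixβ f hf, ← hfp]
    exact Set.smul_mem_smul_set hp
  obtain ⟨q, hq, hqp⟩ := Set.exists_ne_of_one_lt_ncard h1 p
  obtain ⟨f, hf, hfp⟩ := hJ p hpΓ q hq
  have : f = 1 := hker f fun g' => by
    by_cases he : g' • β = g • β
    · rw [he]; exact hfixβ f hf
    · have hd : Disjoint (g' • β) (g • β) := hβ he
      ext w
      refine ⟨?_, fun hw => ⟨w, hw, hf w fun h => Set.disjoint_left.1 hd hw (hΓβ h)⟩⟩
      rintro ⟨w', hw', rfl⟩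
      show f • w' ∈ g' • β
      rw [hf w' fun h => Set.disjoint_left.1 hd hw' (hΓβ h)]
      exact hw'
  rw [this, one_smul] at hfp
  exact hqp hfp.symm

/-- The quasiprimitive version. -/
theorem quasiprimitive_even : ∀ (n : ℕ) (G : Type u) (Ω : Type v) [Group G] [MulAction G Ω] [FaithfulSMul G Ω]
    [Fintype Ω] [DecidableEq Ω], Nat.card Ω = n →
    (∀ N : Subgroup G, N.Normal → N ≠ ⊥ → MulAction.IsPretransitive ↥N Ω) →
    ∀ Γ : Set Ω, 1 < Γ.ncard → 2 * Γ.ncard < n → Jordan G Γ →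
      ∀ σ : Equiv.Perm Ω, Equiv.Perm.sign σ = 1 → ∃ x : G, MulAction.toPermHom G Ω x = σ := by
  intro n
  induction n using Nat.strong_induction_on with
  | _ n ih =>
    intro G Ω _ _ _ _ _ hn hqp Γ h1 h2 hJ
    classical
    obtain ⟨p0, hp0, q0, hq0, hpq0⟩ := (Set.one_lt_ncard (Set.toFinite Γ)).1 h1
    obtain ⟨f0, -, hf0⟩ := hJ p0 hp0 q0 hq0
    have hf01 : f0 ≠ 1 := fun e => hpq0 (by rw [← hf0, e, one_smul])
    haveI htr : MulAction.IsPretransitive G Ω := by
      haveI := hqp ⊤ inferInstance fun e => hf01 (Subgroup.mem_bot.1 (e ▸ Subgroup.mem_top f0))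
      exact ⟨fun x y => let ⟨g, hg⟩ := MulAction.exists_smul_eq (⊤ : Subgroup G) x y; ⟨(g : G), hg⟩⟩
    by_cases hp : MulAction.IsPreprimitive G Ω
    · exact primitive_even hp Γ h1 (hn ▸ h2) hJ
    obtain ⟨β, hβ, hnt⟩ : ∃ β : Set Ω, MulAction.IsBlock G β ∧ ¬ MulAction.IsTrivialBlock β := by
      by_contra hno
      refine hp { isTrivialBlock_of_isBlock := fun {B} hB => ?_ }
      by_contra hB'
      exact hno ⟨B, hB, hB'⟩
    simp only [MulAction.IsTrivialBlock, not_or] at hnt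
    obtain ⟨hβs, hβu⟩ := hnt
    have hmeet : ∀ {g₁ g₂ : G} {w : Ω}, w ∈ g₁ • β → w ∈ g₂ • β → g₁ • β = g₂ • β := by
      intro g₁ g₂ w hw1 hw2
      by_contra hne
      exact Set.disjoint_left.1 (hβ hne) hw1 hw2
    obtain ⟨ω₀, hω₀, ω₁, hω₁, hω01⟩ := Set.not_subsingleton_iff.1 hβs
    have hcov : ∀ ω : Ω, ∃ g : G, ω ∈ g • β := fun ω => by
      obtain ⟨g, hg⟩ := MulAction.exists_smul_eq G ω₀ ω
      exact ⟨g, hg ▸ Set.smul_mem_smul_set hω₀⟩
    obtain ⟨ω₂, hω₂⟩ := (Set.ne_univ_iff_exists_notMem β).1 hβu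
    -- the blocks
    let Ω' := ↥(MulAction.orbit G β)
    haveI : Fintype Ω' := Fintype.ofFinite _
    have hker : ∀ f : G, (∀ g : G, f • g • β = g • β) → f = 1 := by
      intro f hf
      by_contra hne
      have hmem : f ∈ (MulAction.toPermHom G Ω').ker := by
        rw [MonoidHom.mem_ker]
        ext ⟨_, g, rfl⟩ : 2
        exact hf g
      haveI := hqp (MulAction.toPermHom G Ω').ker inferInstance fun e => hne (Subgroup.mem_bot.1 (e ▸ hmem))
      obtain ⟨k, hk⟩ := MulAction.exists_smul_eq (MulAction.toPermHom G Ω').ker ω₀ ω₂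
      have hkβ : (k : G) • β = β := congrArg Subtype.val
        (DFunLike.congr_fun (MonoidHom.mem_ker.1 k.2) (⟨β, MulAction.mem_orbit_self β⟩ : Ω'))
      exact hω₂ (hkβ ▸ hk ▸ Set.smul_mem_smul_set hω₀)
    haveI : FaithfulSMul G Ω' := ⟨fun {g k} hgk => by
      refine inv_mul_eq_one.1 (hker (g⁻¹ * k) fun x => ?_)
      have := congrArg Subtype.val (hgk (⟨x • β, MulAction.mem_orbit _ _⟩ : Ω'))
      change g • x • β = k • x • β at this
      rw [mul_smul, ← this, inv_smul_smul]⟩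
    haveI : FaithfulSMul G (Set Ω) := ⟨fun {g k} hgk => FaithfulSMul.eq_of_smul_eq_smul (α := Ω) fun w => by
      have := hgk {w}
      rwa [Set.smul_set_singleton, Set.smul_set_singleton, Set.singleton_eq_singleton_iff] at this⟩
    have hsub : ∀ (b : Ω') {p : Ω}, p ∈ (b : Set Ω) → p ∈ Γ → (b : Set Ω) ⊆ Γ := by
      rintro ⟨_, g, rfl⟩ p hp hpΓ
      exact block_subset hJ hβ h1 hcov hker g hp hpΓ
    have hne : ∀ b : Ω', (b : Set Ω).Nonempty := by
      rintro ⟨_, g, rfl⟩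
      exact ⟨g • ω₀, Set.smul_mem_smul_set hω₀⟩
    have huniq : ∀ {b b' : Ω'} {w : Ω}, w ∈ (b : Set Ω) → w ∈ (b' : Set Ω) → b = b' := by
      rintro ⟨_, g, rfl⟩ ⟨_, g', rfl⟩ w hw hw'
      exact Subtype.ext (hmeet hw hw')
    choose γ hγ using hcov
    let π : Ω → Ω' := fun ω => ⟨γ ω • β, MulAction.mem_orbit _ _⟩
    have hπ : ∀ ω, ω ∈ (π ω : Set Ω) := hγ
    choose rep hrep using fun b : Ω' => MulAction.mem_orbit_iff.1 b.2
    let E : Ω ≃ Ω' × ↥β :=
      { toFun := fun ω => (π ω, ⟨(rep (π ω))⁻¹ • ω, by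
          rw [← Set.mem_smul_set_iff_inv_smul_mem, hrep]; exact hπ ω⟩)
        invFun := fun bx => rep bx.1 • (bx.2 : Ω)
        left_inv := fun ω => smul_inv_smul _ _
        right_inv := fun bx => by
          have hb : π (rep bx.1 • (bx.2 : Ω)) = bx.1 :=
            huniq (hπ _) (by rw [← hrep bx.1]; exact Set.smul_mem_smul_set bx.2.2)
          refine Prod.ext hb (Subtype.ext ?_)
          show (rep (π (rep bx.1 • (bx.2 : Ω))))⁻¹ • rep bx.1 • (bx.2 : Ω) = _
          rw [hb, inv_smul_smul] }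
    set Γ' : Set Ω' := {b | (b : Set Ω) ⊆ Γ} with hΓ'def
    have hΓπ : ∀ ω, ω ∈ Γ ↔ π ω ∈ Γ' := fun ω =>
      ⟨fun h => hsub _ (hπ ω) h, fun h => h (hπ ω)⟩
    have hk2 : 2 ≤ β.ncard := (Set.one_lt_ncard (Set.toFinite β)).2 ⟨ω₀, hω₀, ω₁, hω₁, hω01⟩
    have hncard : Nat.card Ω = Nat.card Ω' * β.ncard := by
      rw [Nat.card_congr E, Nat.card_prod, Nat.card_coe_set_eq β]
    have hΓcard : Γ.ncard = Γ'.ncard * β.ncard := by
      have e : Γ = E ⁻¹' (Γ' ×ˢ (Set.univ : Set ↥β)) := by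
        ext ω
        simp only [Set.mem_preimage, Set.mem_prod, Set.mem_univ, and_true]
        exact hΓπ ω
      conv_lhs => rw [e, Set.ncard_preimage_of_injective_subset_range E.injective (by simp),
        Set.ncard_prod, Set.ncard_univ, Nat.card_coe_set_eq]
    have hJ' : Jordan G Γ' := by
      intro b hb b' hb'
      obtain ⟨x, hx⟩ := hne b
      obtain ⟨y, hy⟩ := hne b'
      obtain ⟨f, hf, hfx⟩ := hJ x (hb hx) y (hb' hy)
      refine ⟨f, fun d hd => ?_, huniq (hfx ▸ Set.smul_mem_smul_set hx : y ∈ ((f • b : Ω') : Set Ω)) hy⟩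
      obtain ⟨z, hz, hzΓ⟩ := Set.not_subset.1 hd
      exact huniq (show z ∈ ((f • d : Ω') : Set Ω) from hf z hzΓ ▸ Set.smul_mem_smul_set hz) hz
    have h1' : 1 < Γ'.ncard := by
      by_contra hle
      -- otherwise the fixer of the complement fixes every block
      have hss : Γ'.Subsingleton := Set.ncard_le_one_iff_subsingleton.1 (by omega)
      obtain ⟨f, hf, hfx⟩ := hJ p0 hp0 q0 hq0
      refine hpq0 ?_
      rw [← hfx, hker f fun g => ?_, one_smul]
      set b : Ω' := ⟨g • β, MulAction.mem_orbit _ _⟩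
      by_cases hb : b ∈ Γ'
      · obtain ⟨z, hz⟩ := hne b
        have hfz : f • z ∈ Γ := stays hf (hb hz)
        have hfb : π (f • z) = b := hss ((hΓπ _).1 hfz) hb
        have : f • b = b := huniq (show f • z ∈ ((f • b : Ω') : Set Ω) from Set.smul_mem_smul_set hz)
          (hfb ▸ hπ _)
        exact congrArg Subtype.val this
      · obtain ⟨z, hz, hzΓ⟩ := Set.not_subset.1 hb
        have : f • b = b := huniq (show z ∈ ((f • b : Ω') : Set Ω) from hf z hzΓ ▸ Set.smul_mem_smul_set hz) hz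
        exact congrArg Subtype.val this
    have h2' : 2 * Γ'.ncard < Nat.card Ω' := by
      rw [← hn, hncard, hΓcard, ← mul_assoc] at h2
      exact Nat.lt_of_mul_lt_mul_right h2
    have hqp' : ∀ N : Subgroup G, N.Normal → N ≠ ⊥ → MulAction.IsPretransitive ↥N Ω' := by
      intro N hN hN1
      haveI := hqp N hN hN1
      refine ⟨fun b b' => ?_⟩
      obtain ⟨x, hx⟩ := hne b
      obtain ⟨y, hy⟩ := hne b'
      obtain ⟨k, hk⟩ := MulAction.exists_smul_eq N x y
      exact ⟨k, huniq (show y ∈ (((k : G) • b : Ω') : Set Ω) from hk ▸ Set.smul_mem_smul_set hx) hy⟩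
    have hlt : Nat.card Ω' < n := by
      rw [← hn, hncard]
      have : 0 < Nat.card Ω' := by omega
      calc Nat.card Ω' = Nat.card Ω' * 1 := (mul_one _).symm
        _ < Nat.card Ω' * β.ncard := (Nat.mul_lt_mul_left this).2 (by omega)
    have halt := ih _ hlt G Ω' rfl hqp' Γ' h1' h2' hJ'
    exfalso
    -- the pointwise stabiliser of a block off the Jordan set
    obtain ⟨B, hB⟩ : ∃ B, B ∉ Γ' := by
      by_contra hall
      simp only [not_exists, not_not] at hall
      rw [Set.eq_univ_of_forall hall, Set.ncard_univ] at h2'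
      omega
    let φ := MulAction.toPermHom G Ω'
    let K := fixingSubgroup G (B : Set Ω)
    have hKφ : ∀ k ∈ K, φ k B = B := by
      intro k hk
      obtain ⟨w, hw⟩ := hne B
      exact huniq (show w ∈ ((k • B : Ω') : Set Ω) from
        (mem_fixingSubgroup_iff G).1 hk w hw ▸ Set.smul_mem_smul_set hw) hw
    let ι := {b : Ω' // b ≠ B}
    let P : Subgroup (Equiv.Perm ι) := (K.map φ).comap Equiv.Perm.ofSubtype
    have hoB : ∀ c : Equiv.Perm ι, Equiv.Perm.ofSubtype c B = B := fun c =>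
      Equiv.Perm.ofSubtype_apply_of_not_mem c (not_not.2 rfl)
    have hconj : ∀ c : Equiv.Perm ι, Equiv.Perm.sign c = 1 → ∀ d ∈ P, c * d * c⁻¹ ∈ P := by
      intro c hc d hd
      obtain ⟨x, hx⟩ := halt (Equiv.Perm.ofSubtype c) (by rw [Equiv.Perm.sign_ofSubtype, hc])
      obtain ⟨k, hk, hkd⟩ := hd
      refine ⟨x * k * x⁻¹, (mem_fixingSubgroup_iff G).2 fun w hw => ?_, by
        rw [map_mul, map_mul, map_inv, hkd, hx, ← map_inv, ← map_mul, ← map_mul]⟩
      have hxB : x • B = B := (DFunLike.congr_fun hx B).trans (hoB c)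
      have hw' : x⁻¹ • w ∈ (B : Set Ω) := by
        rw [← Set.mem_smul_set_iff_inv_smul_mem]
        rw [show x • (B : Set Ω) = (B : Set Ω) from congrArg Subtype.val hxB]
        exact hw
      rw [mul_smul, mul_smul, (mem_fixingSubgroup_iff G).1 hk _ hw', smul_inv_smul]
    -- a three-cycle
    obtain ⟨C, hC⟩ : Γ'.Nonempty := Set.nonempty_of_ncard_ne_zero (by omega)
    obtain ⟨Y, hY, hYc⟩ := Set.exists_subset_card_eq (s := Γ'ᶜ \ {B}) (n := Γ'.ncard - 1) (by
      rw [Set.ncard_sdiff_singleton_of_mem hB, Set.ncard_compl]; omega)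
    have hYm : (insert C Y).ncard = Γ'.ncard := by
      rw [Set.ncard_insert_of_notMem fun h => (hY h).1 hC]; omega
    have e : {b // b ∈ Γ'} ≃ {b // b ∈ insert C Y} := Classical.choice (Finite.card_eq.1 (by
      show Nat.card ↥Γ' = Nat.card ↥(insert C Y)
      rw [Nat.card_coe_set_eq, Nat.card_coe_set_eq, hYm]))
    obtain ⟨ψ, hψ, hψΓ⟩ : ∃ ψ : Equiv.Perm Ω', Equiv.Perm.sign ψ = 1 ∧ ∀ b ∈ Γ', ψ b ∈ insert C Y := by
      rcases Int.units_eq_one_or (Equiv.Perm.sign e.extendSubtype) with hs | hs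
      · exact ⟨_, hs, fun b hb => e.extendSubtype_mem b hb⟩
      · obtain ⟨C', hC', hCC⟩ := Set.exists_ne_of_one_lt_ncard h1' C
        refine ⟨e.extendSubtype * Equiv.swap C C', by
          rw [Equiv.Perm.sign_mul, hs, Equiv.Perm.sign_swap hCC.symm, Int.units_mul_self], fun b hb => ?_⟩
        rw [Equiv.Perm.mul_apply]
        refine e.extendSubtype_mem _ ?_
        rw [Equiv.swap_apply_def]
        split_ifs
        · exact hC'
        · exact hC
        · exact hb
    obtain ⟨h, hh⟩ := halt ψ hψ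
    have hhb : ∀ b : Ω', h • b = ψ b := fun b => DFunLike.congr_fun hh b
    have hhΓ : h • Γ' = insert C Y := by
      refine Set.eq_of_subset_of_ncard_le ?_ (by rw [ncard_smul, hYm]) (Set.toFinite _)
      rintro _ ⟨b, hb, rfl⟩
      show h • b ∈ _
      rw [hhb]
      exact hψΓ b hb
    have hfixB : ∀ (f : G), (∀ w ∉ Γ, f • w = w) → ∀ b ∉ Γ', ∀ w ∈ (b : Set Ω), f • w = w :=
      fun f hf b hb w hw => hf w fun hwΓ => hb (hsub b hw hwΓ)
    have hJb : ∀ b ∈ Γ', ∀ b' ∈ Γ', ∃ f : G, (∀ w ∉ Γ, f • w = w) ∧ (∀ d ∉ Γ', f • d = d) ∧ f • b = b' := by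
      intro b hb b' hb'
      obtain ⟨x, hx⟩ := hne b
      obtain ⟨y, hy⟩ := hne b'
      obtain ⟨f, hf, hfx⟩ := hJ x (hb hx) y (hb' hy)
      refine ⟨f, hf, fun d hd => ?_, huniq (hfx ▸ Set.smul_mem_smul_set hx : y ∈ ((f • b : Ω') : Set Ω)) hy⟩
      obtain ⟨z, hz⟩ := hne d
      exact huniq (show z ∈ ((f • d : Ω') : Set Ω) from hfixB f hf d hd z hz ▸ Set.smul_mem_smul_set hz) hz
    have hBY : B ∉ insert C Y := by
      rintro (e | e)
      · exact hB (e ▸ hC)
      · exact (hY e).2 rfl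
    have hhB : h⁻¹ • B ∉ Γ' := fun hm => hBY (hhΓ ▸ (Set.mem_smul_set_iff_inv_smul_mem.2 hm))
    have hK1 : Jordan K Γ' := by
      intro b hb b' hb'
      obtain ⟨f, hf, hfd, hfb⟩ := hJb b hb b' hb'
      exact ⟨⟨f, (mem_fixingSubgroup_iff G).2 fun w hw => hfixB f hf B hB w hw⟩, fun d hd => hfd d hd, hfb⟩
    have hK2 : Jordan K (h • Γ') := by
      intro b hb b' hb'
      rw [Set.mem_smul_set_iff_inv_smul_mem] at hb hb'
      obtain ⟨f, hf, hfd, hfb⟩ := hJb _ hb _ hb'
      refine ⟨⟨h * f * h⁻¹, (mem_fixingSubgroup_iff G).2 fun w hw => ?_⟩, fun d hd => ?_, ?_⟩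
      · have : h⁻¹ • w ∈ ((h⁻¹ • B : Ω') : Set Ω) := Set.smul_mem_smul_set hw
        rw [mul_smul, mul_smul, hfixB f hf _ hhB _ this, smul_inv_smul]
      · rw [Set.mem_smul_set_iff_inv_smul_mem] at hd
        show (h * f * h⁻¹) • d = d
        rw [mul_smul, mul_smul, hfd _ hd, smul_inv_smul]
      · show (h * f * h⁻¹) • b = b'
        rw [mul_smul, mul_smul, hfb, smul_inv_smul]
    obtain ⟨A, hA, hAC⟩ := Set.exists_ne_of_one_lt_ncard h1' C
    obtain ⟨D, hD⟩ : Y.Nonempty := Set.nonempty_of_ncard_ne_zero (by omega)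
    obtain ⟨k, a, b, c, hab, hbc, hac, e1, e2, e3, hfix⟩ := three_of_meet hK1 hK2 (c := C) (by
        rw [hhΓ]
        ext z
        constructor
        · rintro ⟨hz, h | h⟩
          · exact h
          · exact absurd hz (hY h).1
        · rintro rfl
          exact ⟨hC, Set.mem_insert _ _⟩) hA hAC (hhΓ ▸ Set.mem_insert_of_mem C hD) (fun e => (hY hD).1 ((show D = C from e) ▸ hC))
    have hkB : (k : G) • B = B := hKφ k k.2
    have hmv : ∀ d : Ω', d ≠ B → (k : G) • d ≠ B := fun d hd e => hd (smul_left_cancel (k : G) (e.trans hkB.symm))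
    have haB : a ≠ B := fun e => hab (e ▸ (e1.symm.trans ((congrArg ((k : G) • ·) e).trans hkB)).symm)
    have hbB : b ≠ B := fun e => hmv a haB (e1.trans e)
    have hcB : c ≠ B := fun e => hmv b hbB (e2.trans e)
    let d : Equiv.Perm ι := (φ (k : G)).subtypePerm fun z => by
      exact ⟨fun hz e => hz (by rw [e]; exact hkB), fun hz => hmv z hz⟩
    have hd3 : d.IsThreeCycle := isThreeCycle_of_points (a := ⟨a, haB⟩) (b := ⟨b, hbB⟩) (c := ⟨c, hcB⟩)
      (fun e => hab (congrArg Subtype.val e)) (fun e => hbc (congrArg Subtype.val e))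
      (fun e => hac (congrArg Subtype.val e)) (Subtype.ext e1) (Subtype.ext e2) (Subtype.ext e3)
      (fun z h1 h2 h3 => Subtype.ext (hfix z.1 (fun e => h1 (Subtype.ext e)) (fun e => h2 (Subtype.ext e))
        (fun e => h3 (Subtype.ext e))))
    have hdP : d ∈ P := by
      refine ⟨k, k.2, ?_⟩
      exact (Equiv.Perm.ofSubtype_subtypePerm (f := φ (k : G)) (p := fun z => z ≠ B) _
        (fun z hz e => hz (by rw [e]; exact hkB))).symm
    have h3P : ∀ τ : Equiv.Perm ι, τ.IsThreeCycle → τ ∈ P := by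
      intro τ hτ
      obtain ⟨c', hc'⟩ := isConj_iff.1 (Equiv.Perm.isConj_iff_cycleType_eq.2 (hd3.cycleType.trans hτ.cycleType.symm))
      rcases Int.units_eq_one_or (Equiv.Perm.sign c') with hs | hs
      · exact hc' ▸ hconj c' hs d hdP
      · set u : ι := ⟨b, hbB⟩
        set u' : ι := ⟨c, hcB⟩
        set sw := Equiv.swap u u'
        have huu : u ≠ u' := fun e => hbc (congrArg Subtype.val e)
        have hsd : sw * d⁻¹ * sw = d := by
          have hda : d ⟨a, haB⟩ = u := Subtype.ext e1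
          have hdb : d u = u' := Subtype.ext e2
          have hdc : d u' = ⟨a, haB⟩ := Subtype.ext e3
          have hswa : sw ⟨a, haB⟩ = ⟨a, haB⟩ := Equiv.swap_apply_of_ne_of_ne
            (fun e => hab (congrArg Subtype.val e)) (fun e => hac (congrArg Subtype.val e))
          refine Equiv.ext fun z => ?_
          rw [Equiv.Perm.mul_apply, Equiv.Perm.mul_apply]
          by_cases hza : z = ⟨a, haB⟩
          · subst hza
            rw [hswa, hda, show d⁻¹ ⟨a, haB⟩ = u' from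
              d.symm_apply_eq.2 hdc.symm, Equiv.swap_apply_right]
          by_cases hzb : z = u
          · subst hzb
            rw [Equiv.swap_apply_left, hdb, show d⁻¹ u' = u from d.symm_apply_eq.2 hdb.symm,
              Equiv.swap_apply_left]
          by_cases hzc : z = u'
          · subst hzc
            rw [Equiv.swap_apply_right, hdc, show d⁻¹ u = ⟨a, haB⟩ from d.symm_apply_eq.2 hda.symm, hswa]
          have hdz : d z = z := Subtype.ext (hfix z.1 (fun e => hza (Subtype.ext e))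
            (fun e => hzb (Subtype.ext e)) (fun e => hzc (Subtype.ext e)))
          rw [Equiv.swap_apply_of_ne_of_ne hzb hzc, hdz, show d⁻¹ z = z from d.symm_apply_eq.2 hdz.symm,
            Equiv.swap_apply_of_ne_of_ne hzb hzc]
        have := hconj (c' * sw) (by rw [Equiv.Perm.sign_mul, hs, Equiv.Perm.sign_swap huu, Int.units_mul_self])
          d⁻¹ (P.inv_mem hdP)
        rw [mul_inv_rev, show sw⁻¹ = sw from Equiv.swap_inv _ _,
          show c' * sw * d⁻¹ * (sw * c'⁻¹) = c' * (sw * d⁻¹ * sw) * c'⁻¹ by simp only [mul_assoc], hsd, hc'] at this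
        exact this
    have haltP : alternatingGroup ι ≤ P := by
      rw [← Equiv.Perm.closure_three_cycles_eq_alternating, Subgroup.closure_le]
      exact h3P
    -- the alternating part is transitive
    let N : Subgroup G := (alternatingGroup Ω').comap φ
    have hkN : (k : G) ∈ N := by
      refine Subgroup.mem_comap.2 (Equiv.Perm.IsThreeCycle.mem_alternatingGroup ?_)
      exact isThreeCycle_of_points hab hbc hac e1 e2 e3 hfix
    haveI := hqp N inferInstance fun e => hab (by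
      have h1 := Subgroup.mem_bot.1 (e ▸ hkN)
      rw [← e1, show k • a = (k : G) • a from rfl, h1, one_smul])
    obtain ⟨gB, hgB⟩ := MulAction.mem_orbit_iff.1 B.2
    obtain ⟨x, hx⟩ := MulAction.exists_smul_eq N (gB • ω₀) (gB • ω₁)
    have hmem0 : gB • ω₀ ∈ (B : Set Ω) := hgB ▸ Set.smul_mem_smul_set hω₀
    have hmem1 : gB • ω₁ ∈ (B : Set Ω) := hgB ▸ Set.smul_mem_smul_set hω₁
    have hxB : (x : G) • B = B := huniq (show gB • ω₁ ∈ (((x : G) • B : Ω') : Set Ω) from
      hx ▸ Set.smul_mem_smul_set hmem0) hmem1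
    have hxpre : ∀ z : Ω', φ (x : G) z ≠ B ↔ z ≠ B := fun z =>
      ⟨fun hz e => hz (by rw [e]; exact hxB), fun hz e => hz (smul_left_cancel (x : G) (e.trans hxB.symm))⟩
    have hsx : (φ (x : G)).subtypePerm hxpre ∈ alternatingGroup ι := by
      rw [Equiv.Perm.mem_alternatingGroup, Equiv.Perm.sign_subtypePerm]
      · exact Equiv.Perm.mem_alternatingGroup.1 (Subgroup.mem_comap.1 x.2)
      · intro z hz e
        exact hz (by rw [e]; exact hxB)
    obtain ⟨k', hk', hk'x⟩ := haltP hsx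
    rw [Equiv.Perm.ofSubtype_subtypePerm (f := φ (x : G)) (p := fun z => z ≠ B) hxpre
      (fun z hz e => hz (by rw [e]; exact hxB))] at hk'x
    have hkx : k' = (x : G) := FaithfulSMul.eq_of_smul_eq_smul (α := Ω') fun z => by simpa [φ, MulAction.toPermHom] using DFunLike.congr_fun hk'x z
    have := (mem_fixingSubgroup_iff G).1 (hkx ▸ hk') _ hmem0
    exact hω01 (smul_left_cancel gB (this.symm.trans hx))

end CfsgLib.Marggraf
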