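import Cfsg.Agent.Lib.MaxClassRank
import Cfsg.Agent.S4143

/-! Self-centralizing subgroups of order `p ^ 2` and nonabelian ones of order `p ^ 3` give an element
with centralizer of order `p ^ 2`. -/

set_option autoImplicit false

namespace CfsgLib.MaxClassRank

open scoped commutatorElement
open Subgroup

variable {S : Type*} [Group S] [Finite S] {p : ℕ} [hp : Fact p.Prime] {n : ℕ}

/-- The element with small centralizer may be chosen inside the subgroup. -/
theorem exists_centralizer_mem_of_nonabelian (hG : Nat.card S = p ^ n) (B : Subgroup S) (hB : Nat.card B = p ^ 3)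
    (hBna : ¬ IsMulCommutative B) (hC : centralizer (B : Set S) ≤ B) :
    ∃ x ∈ B, Nat.card (centralizer ({x} : Set S)) = p ^ 2 := by
  have hS : IsPGroup p S := IsPGroup.of_card hG
  have hcard : ∀ H : Subgroup S, H ≤ B → ∀ k, p ^ k < Nat.card H → p ^ (k + 1) ≤ Nat.card H := by
    intro H hH k hk
    obtain ⟨j, -, hj⟩ := (Nat.dvd_prime_pow hp.out).mp (hB ▸ card_dvd_of_le hH)
    rw [hj] at hk ⊢
    exact Nat.pow_le_pow_right hp.out.pos ((Nat.pow_lt_pow_iff_right hp.out.one_lt).mp hk)
  have hCc : Nat.card (centralizer (B : Set S)) ≤ p := by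
    by_contra h
    have h2 := hcard _ hC 1 (by rw [pow_one]; omega)
    refine hBna (Cfsg.Agent.S4143.isMulCommutative_of_central_index_le (p := p) B _ hC
      (fun c hc b hb => mem_centralizer_iff.mp hc b hb) ?_)
    rw [hB, pow_succ]
    exact Nat.mul_le_mul_right p h2
  obtain ⟨b, hb, c, hc, hbc⟩ : ∃ b ∈ B, ∃ c ∈ B, b * c ≠ c * b := by
    by_contra h
    push Not at h
    exact hBna ⟨⟨fun u v => Subtype.ext (h u.1 u.2 v.1 v.2)⟩⟩
  have hgen : closure ({b, c} : Set S) = B := by
    have hle : closure ({b, c} : Set S) ≤ B := (closure_le _).mpr (by rintro w (rfl | rfl); exacts [hb, hc])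
    refine eq_of_le_of_card_ge hle ?_
    rw [hB]
    by_contra h
    obtain ⟨j, hj3, hj⟩ := (Nat.dvd_prime_pow hp.out).mp (hB ▸ card_dvd_of_le hle)
    have hj2 : j ≤ 2 := by
      rw [hj, not_le, Nat.pow_lt_pow_iff_right hp.out.one_lt] at h
      omega
    refine hbc ?_
    have hab : ∀ u v : closure ({b, c} : Set S), u * v = v * u := by
      intro u v
      rcases (show j ≤ 1 ∨ j = 2 by omega) with h1 | rfl
      · have : IsCyclic (closure ({b, c} : Set S)) := by
          rcases Nat.le_one_iff_eq_zero_or_eq_one.mp h1 with rfl | rfl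
          · rw [pow_zero] at hj
            have := (Nat.card_eq_one_iff_unique.mp hj).1
            infer_instance
          · exact isCyclic_of_prime_card (p := p) (by rw [hj, pow_one])
        exact (IsCyclic.commGroup).mul_comm u v
      · exact (IsPGroup.commGroupOfCardEqPrimeSq hj).mul_comm u v
    exact congrArg Subtype.val (hab ⟨b, subset_closure (by simp)⟩ ⟨c, subset_closure (by simp)⟩)
  have hBnt : B ≠ ⊥ := fun e => by
    rw [e, card_bot] at hB
    exact absurd hB.symm (Nat.one_lt_pow (by norm_num) hp.out.one_lt).ne'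
  have : Nontrivial S := ⟨⟨b, 1, fun e => hbc (by rw [e, one_mul, mul_one])⟩⟩
  have hZC : center S ≤ centralizer (B : Set S) := center_le_centralizer _
  have hZc : Nat.card (center S) = p := by
    refine le_antisymm ((card_le_of_le hZC).trans hCc) ?_
    have h1 : 1 < Nat.card (center S) := Finite.one_lt_card_iff_nontrivial.mpr hS.center_nontrivial
    obtain ⟨k, -, hk⟩ := (Nat.dvd_prime_pow hp.out).mp (hG ▸ card_subgroup_dvd_card (center S))
    rcases Nat.eq_zero_or_pos k with rfl | hk'
    · rw [hk, pow_zero] at h1; omega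
    · rw [hk]; exact Nat.le_self_pow hk'.ne' p
  have hCZ : centralizer (B : Set S) = center S := (eq_of_le_of_card_ge hZC (hCc.trans hZc.ge)).symm
  -- the elements centralizing `B` modulo the center
  let π := QuotientGroup.mk' (center S)
  let D : Subgroup S := (centralizer ((B.map π : Subgroup (S ⧸ center S)) : Set (S ⧸ center S))).comap π
  have hD : ∀ g ∈ D, ∀ w ∈ B, ⁅g, w⁆ ∈ center S := fun g hg w hw =>
    mk_comm_iff.mp (mem_centralizer_iff.mp hg _ ⟨w, hw, rfl⟩).symm
  have hDc : Nat.card D ≤ p ^ 3 := by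
    have h1 := card_le_of_comm (x := b) fun g (hg : g ∈ D) => hD g hg b hb
    have h2 := card_le_of_comm (x := c) fun g (hg : g ∈ D ⊓ centralizer ({b} : Set S)) => hD g hg.1 c hc
    have h3 : Nat.card ↥(D ⊓ centralizer ({b} : Set S) ⊓ centralizer ({c} : Set S)) ≤ p := by
      refine (card_le_of_le ?_).trans hCc
      rintro g ⟨⟨-, hg1⟩, hg2⟩
      have hle : B ≤ centralizer ({g} : Set S) := by
        rw [← hgen, closure_le]
        rintro w (rfl | rfl)
        · exact mem_centralizer_singleton_iff.mpr (mem_centralizer_singleton_iff.mp hg1).symm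
        · exact mem_centralizer_singleton_iff.mpr (mem_centralizer_singleton_iff.mp hg2).symm
      exact mem_centralizer_iff.mpr fun w hw => mem_centralizer_singleton_iff.mp (hle hw)
    rw [hZc] at h1 h2
    calc Nat.card D ≤ p * Nat.card ↥(D ⊓ centralizer ({b} : Set S)) := h1
      _ ≤ p * (p * p) := Nat.mul_le_mul_left p (h2.trans (Nat.mul_le_mul_left p h3))
      _ = p ^ 3 := by ring
  have hBab : ∀ u ∈ B, ∀ v ∈ B, ⁅u, v⁆ ∈ center S := by
    have hB2 : Nat.card (B.map π) = p ^ 2 := by
      have h : p ^ 2 * p = p * Nat.card (B.map π) := by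
        rw [← pow_succ, ← hB, Cfsg.Agent.S4143.card_map_mk (center S) B (hZC.trans hC), hZc]
      rw [mul_comm] at h
      exact (Nat.eq_of_mul_eq_mul_left hp.out.pos h).symm
    intro u hu v hv
    refine mk_comm_iff.mp ?_
    exact congrArg Subtype.val ((IsPGroup.commGroupOfCardEqPrimeSq hB2).mul_comm ⟨π u, ⟨u, hu, rfl⟩⟩ ⟨π v, ⟨v, hv, rfl⟩⟩)
  have hBD : B ≤ D := fun u hu => by
    refine mem_centralizer_iff.mpr ?_
    rintro _ ⟨v, hv, rfl⟩
    exact mk_comm_iff.mpr (hBab v hv u hu)
  have hDB : D = B := (eq_of_le_of_card_ge hBD (hB ▸ hDc)).symm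
  -- choose `x`
  obtain ⟨x, hxB, hxZ, hxC⟩ : ∃ x ∈ B, x ∉ center S ∧ centralizer ({x} : Set S) ≤ B := by
    by_cases hcen : B.map π ≤ center (S ⧸ center S)
    · refine ⟨b, hb, fun h => hbc (mem_center_iff.mp h c).symm, fun g _ => ?_⟩
      rw [← hDB]
      exact mem_centralizer_iff.mpr fun w hw => (mem_center_iff.mp (hcen hw) _).symm
    · obtain ⟨q, hq, hq'⟩ := SetLike.not_le_iff_exists.mp hcen
      obtain ⟨x, hx, rfl⟩ := hq
      refine ⟨x, hx, fun h => hq' ?_, fun g hg => ?_⟩
      · have : π x = 1 := (QuotientGroup.eq_one_iff x).mpr h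
        rw [this]
        exact one_mem _
      have hA : Nat.card (B.map π) = p ^ 2 := by
        have h : p ^ 2 * p = p * Nat.card (B.map π) := by
          rw [← pow_succ, ← hB, Cfsg.Agent.S4143.card_map_mk (center S) B (hZC.trans hC), hZc]
        rw [mul_comm] at h
        exact (Nat.eq_of_mul_eq_mul_left hp.out.pos h).symm
      have hgen2 : zpowers (π x) ⊔ (B.map π ⊓ center (S ⧸ center S)) = B.map π := by
        refine eq_of_le_of_card_ge (sup_le (zpowers_le.mpr ⟨x, hx, rfl⟩) inf_le_left) ?_
        have hlt : Nat.card ↥(B.map π ⊓ center (S ⧸ center S)) <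
            Nat.card ↥(zpowers (π x) ⊔ (B.map π ⊓ center (S ⧸ center S))) :=
          lt_of_le_of_ne (card_le_of_le le_sup_right) fun e =>
            hq' ((eq_of_le_of_card_ge le_sup_right e.ge).ge (mem_sup_left (mem_zpowers (π x)))).2
        have hQ := hS.to_quotient (center S)
        have : Nontrivial (S ⧸ center S) := ⟨⟨π x, 1, fun e => hq' (e ▸ one_mem _)⟩⟩
        have hne : 1 < Nat.card ↥(B.map π ⊓ center (S ⧸ center S)) := by
          have hZA : center (S ⧸ center S) ≤ B.map π := by
            intro z hz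
            obtain ⟨z, rfl⟩ := QuotientGroup.mk'_surjective (center S) z
            exact ⟨z, hDB.le (mem_centralizer_iff.mpr fun w _ => mem_center_iff.mp hz w), rfl⟩
          rw [inf_eq_right.mpr hZA]
          exact Finite.one_lt_card_iff_nontrivial.mpr hQ.center_nontrivial
        obtain ⟨k, -, hk⟩ := (Nat.dvd_prime_pow hp.out).mp
          (hA ▸ card_dvd_of_le (sup_le (zpowers_le.mpr ⟨x, hx, rfl⟩) inf_le_left :
            zpowers (π x) ⊔ (B.map π ⊓ center (S ⧸ center S)) ≤ B.map π))
        obtain ⟨l, -, hl⟩ := (Nat.dvd_prime_pow hp.out).mp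
          (hA ▸ card_dvd_of_le (inf_le_left : B.map π ⊓ center (S ⧸ center S) ≤ B.map π))
        rw [hl] at hne hlt
        rw [hk, Nat.pow_lt_pow_iff_right hp.out.one_lt] at hlt
        rw [hk, hA]
        refine Nat.pow_le_pow_right hp.out.pos ?_
        rcases Nat.eq_zero_or_pos l with rfl | hl0
        · simp at hne
        · omega
      rw [← hDB]
      refine mem_centralizer_iff.mpr fun w hw => ?_
      have hle : B.map π ≤ centralizer ({π g} : Set (S ⧸ center S)) := by
        rw [← hgen2, sup_le_iff, zpowers_le]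
        refine ⟨mem_centralizer_singleton_iff.mpr ?_, fun z hz => mem_centralizer_singleton_iff.mpr
          (mem_center_iff.mp hz.2 (π g)).symm⟩
        rw [← map_mul, ← map_mul, mem_centralizer_singleton_iff.mp hg]
      exact mem_centralizer_singleton_iff.mp (hle hw)
  refine ⟨x, hxB, ?_⟩
  obtain ⟨k, -, hk⟩ := (Nat.dvd_prime_pow hp.out).mp (hB ▸ card_dvd_of_le hxC)
  have h1 : p < Nat.card (centralizer ({x} : Set S)) := by
    rw [← hZc]
    refine lt_of_le_of_ne (card_le_of_le (center_le_centralizer _)) fun e => hxZ ?_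
    exact (eq_of_le_of_card_ge (center_le_centralizer _) e.ge).ge (mem_centralizer_singleton_iff.mpr rfl)
  have h2 : Nat.card (centralizer ({x} : Set S)) < p ^ 3 := by
    rw [← hB]
    refine lt_of_le_of_ne (card_le_of_le hxC) fun e => hxZ ?_
    rw [← hCZ]
    exact mem_centralizer_iff.mpr fun w hw =>
      mem_centralizer_singleton_iff.mp ((eq_of_le_of_card_ge hxC e.ge).ge hw)
  rw [hk] at h1 h2 ⊢
  have h1' : 1 < k := (Nat.pow_lt_pow_iff_right hp.out.one_lt).mp (by rwa [pow_one])
  rw [Nat.pow_lt_pow_iff_right hp.out.one_lt] at h2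
  rw [show k = 2 by omega]

theorem exists_centralizer_of_nonabelian (hG : Nat.card S = p ^ n) (B : Subgroup S) (hB : Nat.card B = p ^ 3)
    (hBna : ¬ IsMulCommutative B) (hC : centralizer (B : Set S) ≤ B) :
    ∃ x : S, Nat.card (centralizer ({x} : Set S)) = p ^ 2 :=
  let ⟨x, _, hx⟩ := exists_centralizer_mem_of_nonabelian hG B hB hBna hC
  ⟨x, hx⟩

end CfsgLib.MaxClassRank
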