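import Cfsg.Agent.Lib.MaxClassGood.Apply
import Cfsg.Agent.Lib.Fusion.EssentialSmall.Quad

/-! `3`-groups of maximal class with an element of order three whose centralizer has order nine:
either every subgroup needs at most two generators or the group is `C₃ ≀ C₃`. -/

set_option autoImplicit false

namespace CfsgLib.MaxClassThree

open scoped commutatorElement
open Subgroup CfsgLib.MaxClassRank CfsgLib.MaxClassGood
open CfsgLib.PolySeq (fil fil_antitone fil_commutator_mem)

universe u

variable {S : Type u} [Group S] [Finite S]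

theorem shift_table :
    ((Multiplicative.ofAdd (1 : ZMod 3))⁻¹ * Multiplicative.ofAdd 0) = Multiplicative.ofAdd 2 ∧
    ((Multiplicative.ofAdd (1 : ZMod 3))⁻¹ * Multiplicative.ofAdd 1) = Multiplicative.ofAdd 0 ∧
    ((Multiplicative.ofAdd (1 : ZMod 3))⁻¹ * Multiplicative.ofAdd 2) = Multiplicative.ofAdd 1 := by decide

theorem ofAdd_ne : Multiplicative.ofAdd (1 : ZMod 3) ≠ Multiplicative.ofAdd 0 ∧
    Multiplicative.ofAdd (2 : ZMod 3) ≠ Multiplicative.ofAdd 0 := by decide

omit [Finite S] in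
theorem six {a b c d e f : S} (h1 : d * b = b * d) (h2 : d * c = c * d) (h3 : e * c = c * e) :
    a * d * (b * e) * (c * f) = a * b * c * (d * e * f) := by
  calc a * d * (b * e) * (c * f) = a * (d * b) * (e * c) * f := by simp only [mul_assoc]
    _ = a * b * (d * c) * e * f := by rw [h1, h3]; simp only [mul_assoc]
    _ = a * b * c * (d * e * f) := by rw [h2]; simp only [mul_assoc]

section Cover

variable {p : ℕ} [hp : Fact p.Prime] {n : ℕ} (hn : 3 ≤ n)
  (hG : Nat.card S = p ^ n) (hc : Group.nilpotencyClass S = n - 1)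

include hn hG hc

/-- A subgroup meeting every layer met by `A` covers `A`. -/
theorem cover {K A : Subgroup S} (hA : A ≤ fil S 2) (hKA : K ≤ A)
    (h : ∀ j, 2 ≤ j → j < n → (∃ a ∈ A, a ∈ fil S j ∧ a ∉ fil S (j + 1)) →
      ∃ k ∈ K, k ∈ fil S j ∧ k ∉ fil S (j + 1)) : A ≤ K := by
  have hdown : ∀ d j, n ≤ j + d → 2 ≤ j → A ⊓ fil S j ≤ K := by
    intro d
    induction d with
    | zero =>
      intro j hj _
      rw [fil_eq_bot hn hG hc (by omega), inf_bot_eq]
      exact bot_le
    | succ d ih =>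
      intro j hj h2 a ha
      by_cases ha' : a ∈ fil S (j + 1)
      · exact ih (j + 1) (by omega) (by omega) ⟨ha.1, ha'⟩
      have hjn : j < n := by
        by_contra hc'
        have h1 : a ∈ fil S j := ha.2
        rw [fil_eq_bot hn hG hc (not_lt.mp hc'), mem_bot] at h1
        exact ha' (h1 ▸ one_mem _)
      obtain ⟨k, hk, hk1, hk2⟩ := h j h2 hjn ⟨a, ha.1, ha.2, ha'⟩
      have hmem : a ∈ zpowers k ⊔ fil S (j + 1) := (fil_layer hn hG hc h2 hk1 hk2).ge ha.2
      obtain ⟨u, hu, b, hb, rfl⟩ := mem_sup_of_normal_right.mp hmem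
      obtain ⟨m, rfl⟩ := mem_zpowers_iff.mp hu
      have hkm : k ^ m ∈ K := zpow_mem hk m
      have hbA : b ∈ A := by simpa using mul_mem (inv_mem (hKA hkm)) ha.1
      exact mul_mem hkm (ih (j + 1) (by omega) (by omega) ⟨hbA, hb⟩)
  exact fun a ha => hdown n 2 (by omega) le_rfl ⟨ha, hA ha⟩

/-- An element with small centralizer and a lowest element of `H ⊓ fil S 2` generate the latter. -/
theorem exists_of_good {g : S} (hg : Nat.card (centralizer ({g} : Set S)) = p ^ 2)
    {H : Subgroup S} (hgH : g ∈ H) : ∃ a ∈ H, H ⊓ fil S 2 ≤ closure ({g, a} : Set S) := by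
  classical
  by_cases hA : ∃ j, 2 ≤ j ∧ ∃ a ∈ H ⊓ fil S 2, a ∈ fil S j ∧ a ∉ fil S (j + 1)
  · obtain ⟨h2, a, ha, haj, haj'⟩ := Nat.find_spec hA
    refine ⟨a, ha.1, ?_⟩
    have hcl : closure ({g, a} : Set S) ≤ H := by
      rw [closure_le]
      rintro w (rfl | rfl)
      exacts [hgH, ha.1]
    have hit : ∀ k, (fun w => ⁅w, g⁆)^[k] a ∈ closure ({g, a} : Set S) := by
      intro k
      induction k with
      | zero => exact subset_closure (by simp)
      | succ k ih =>
        rw [Function.iterate_succ_apply', commutatorElement_def]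
        exact mul_mem (mul_mem (mul_mem ih (subset_closure (by simp))) (inv_mem ih))
          (inv_mem (subset_closure (by simp)))
    refine (cover hn hG hc (inf_le_right : H ⊓ fil S 2 ≤ _)
      (K := closure ({g, a} : Set S) ⊓ fil S 2) (inf_le_inf_right _ hcl) fun j hj hjn hex => ?_).trans inf_le_left
    have hle : Nat.find hA ≤ j := Nat.find_min' hA ⟨hj, hex⟩
    set j₀ := Nat.find hA
    obtain ⟨d, rfl⟩ : ∃ d, j = j₀ + d := ⟨j - j₀, by omega⟩
    have hmem := iterate_mem (x := g) haj d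
    exact ⟨_, ⟨hit d, fil_antitone (by omega) hmem⟩, hmem,
      iterate_not_mem hn hG hc hg h2 haj haj' d (by omega)⟩
  · refine ⟨1, one_mem _, (cover hn hG hc (inf_le_right : H ⊓ fil S 2 ≤ _) (K := ⊥) bot_le
      fun j hj _ hex => ?_).trans bot_le⟩
    exact absurd ⟨j, hj, hex⟩ hA

/-- Reduction of two-generation to the part inside the derived subgroup. -/
theorem gen_two_of_inf {H : Subgroup S} {g : S} (hgH : g ∈ H) (hg : g ∉ fil S 2)
    (h : ∃ a ∈ H, H ⊓ fil S 2 ≤ closure ({g, a} : Set S)) :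
    ∃ u v : S, closure ({u, v} : Set S) = H := by
  by_cases hH : H ≤ zpowers g ⊔ fil S 2
  · obtain ⟨a, ha, hA⟩ := h
    refine ⟨g, a, le_antisymm ?_ fun y hy => ?_⟩
    · rw [closure_le]
      rintro w (rfl | rfl)
      exacts [hgH, ha]
    · obtain ⟨u, hu, b, hb, rfl⟩ := mem_sup_of_normal_right.mp (hH hy)
      refine mul_mem ((zpowers_le.mpr (subset_closure (by simp))) hu) (hA ⟨?_, hb⟩)
      simpa using mul_mem (inv_mem ((zpowers_le.mpr hgH) hu)) hy
  · obtain ⟨y, hy, hy'⟩ := SetLike.not_le_iff_exists.mp hH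
    refine ⟨g, y, le_antisymm ?_ ?_⟩
    · rw [closure_le]
      rintro w (rfl | rfl)
      exacts [hgH, hy]
    have h1 : fil S 2 < zpowers g ⊔ fil S 2 :=
      lt_of_le_of_ne le_sup_right fun e => hg (e.ge (mem_sup_left (mem_zpowers g)))
    have h2 : zpowers g ⊔ fil S 2 < closure ({g, y} : Set S) ⊔ fil S 2 :=
      lt_of_le_of_ne (sup_le_sup_right (zpowers_le.mpr (subset_closure (by simp))) _) fun e =>
        hy' (e.ge (mem_sup_left (subset_closure (by simp))))
    have h3 : closure ({g, y} : Set S) ⊔ fil S 2 = ⊤ := by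
      refine eq_top_of_le_card _ ?_
      have h4 := (Nat.mul_le_mul_right p (card_grow hG h1)).trans (card_grow hG h2)
      rw [card_fil hn hG hc le_rfl (by omega), mul_assoc, ← pow_two, ← pow_add, Nat.sub_add_cancel (by omega)] at h4
      rw [hG]
      exact h4
    rw [show fil S 2 = commutator S from Subgroup.top_lowerCentralSeries_one] at h3
    rw [CfsgLib.Regular.eq_top_of_sup_commutator (IsPGroup.of_card hG) h3]
    exact le_top

omit hc in
/-- The series `twoStep` contains the derived subgroup and has index `p`, so one element fills it. -/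
theorem eq_of_mem_twoStep {M : Subgroup S} (hM : fil S 2 ≤ M) (hMi : M.index = p) {g : S} (hg : g ∈ M)
    (hg' : g ∉ fil S 2) (hc : Group.nilpotencyClass S = n - 1) : zpowers g ⊔ fil S 2 = M := by
  refine eq_of_le_of_card_ge (sup_le (zpowers_le.mpr hg) hM) ?_
  have h1 : fil S 2 < zpowers g ⊔ fil S 2 :=
    lt_of_le_of_ne le_sup_right fun e => hg' (e.ge (mem_sup_left (mem_zpowers g)))
  have h2 := card_grow hG h1
  rw [card_fil hn hG hc le_rfl (by omega), ← pow_succ] at h2
  have h3 := M.card_mul_index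
  rw [hMi, hG, show p ^ n = p ^ (n - 2 + 1) * p by rw [← pow_succ]; congr 1; omega] at h3
  rw [Nat.eq_of_mul_eq_mul_right hp.out.pos h3]
  exact h2

end Cover

section Three

local notation "C₃" => Multiplicative (ZMod 3)

variable [h3 : Fact (Nat.Prime 3)] {n : ℕ} (hn : 4 ≤ n)
  (hG : Nat.card S = 3 ^ n) (hc : Group.nilpotencyClass S = n - 1) {x : S}
  (hx : Nat.card (centralizer ({x} : Set S)) = 3 ^ 2)

include hn hG hc hx

theorem x_not_mem : x ∉ twoStep S 2 := fun h => by
  obtain ⟨z, hz, hz'⟩ := exists_gen (show 3 ≤ n by omega) hG hc (j := 2) (by omega) le_rfl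
  exact comm_layer (show 3 ≤ n by omega) hG hc hx le_rfl (by omega) hz hz' (mem_twoStep.mp h z hz)

theorem twoStep_three (h5 : 5 ≤ n) : twoStep S 3 = twoStep S 2 := by
  have h3n : 3 ≤ n := by omega
  refine (eq_of_le_of_card_ge (fun g hg => mem_twoStep.mpr fun w hw => ?_) ?_).symm
  · obtain ⟨z, hz, hz'⟩ := exists_gen h3n hG hc (j := 2) (by omega) le_rfl
    set q := QuotientGroup.mk' (fil S 5) with hq
    have hcen : ∀ k ∈ fil S 4, ∀ s : S, q k * q s = q s * q k := fun k hk s =>
      mk_comm_iff.mpr (fil_commutator_mem (i := 4) (j := 1) hk (mem_top s))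
    have hab : ∀ a ∈ fil S 2, ∀ b ∈ fil S 2, q a * q b = q b * q a := fun a ha b hb =>
      mk_comm_iff.mpr (comm_self_le h3n hG hc le_rfl (commutator_mem_commutator ha hb))
    set c := ⁅z, x⁆ with hcdef
    have hc3 : c ∈ fil S 3 := fil_commutator_mem (i := 2) (j := 1) hz (mem_top x)
    have hc4 : c ∉ fil S 4 := comm_layer h3n hG hc hx le_rfl (by omega) hz hz'
    set k := ⁅g, z⁆ with hkdef
    have hk : k ∈ fil S 4 := by
      rw [hkdef, ← commutatorElement_inv]
      exact inv_mem (mem_twoStep.mp hg z hz)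
    set v := ⁅g, x⁆ with hvdef
    have hv : v ∈ fil S 2 := fil_commutator_mem (i := 1) (j := 1) (mem_top g) (mem_top x)
    have e1 : q g * q z * (q g)⁻¹ = q k * q z := by
      rw [← map_mul, ← map_inv, ← map_mul, ← map_mul, hkdef, commutatorElement_def]
      congr 1; group
    have e2 : q g * q x * (q g)⁻¹ = q v * q x := by
      rw [← map_mul, ← map_inv, ← map_mul, ← map_mul, hvdef, commutatorElement_def]
      congr 1; group
    have hcg : q g * q c * (q g)⁻¹ = q c := by
      have h1 : q c = ⁅q z, q x⁆ := by rw [hcdef, map_commutatorElement]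
      calc q g * q c * (q g)⁻¹ = ⁅q g * q z * (q g)⁻¹, q g * q x * (q g)⁻¹⁆ := by
            rw [h1, commutatorElement_def, commutatorElement_def]; group
        _ = ⁅q k * q z, q v * q x⁆ := by rw [e1, e2]
        _ = ⁅q z, q v * q x⁆ := by
            have hk' : ∀ s : S, q k * q s = q s * q k := hcen k hk
            have hk1 : (q k) * (q v * q x) = (q v * q x) * q k := by rw [← map_mul, hk']
            rw [commutatorElement_def, commutatorElement_def]
            calc q k * q z * (q v * q x) * (q k * q z)⁻¹ * (q v * q x)⁻¹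
                = q k * (q z * (q v * q x) * (q z)⁻¹) * (q k)⁻¹ * (q v * q x)⁻¹ := by group
              _ = q z * (q v * q x) * (q z)⁻¹ * (q v * q x)⁻¹ := by
                have : q k * (q z * (q v * q x) * (q z)⁻¹) = q z * (q v * q x) * (q z)⁻¹ * q k := by
                  rw [← map_mul q v x, ← map_mul q z, ← map_inv, ← map_mul, hk']
                rw [this, mul_inv_cancel_right]
        _ = q v * ⁅q z, q x⁆ * (q v)⁻¹ := by
            rw [commutatorElement_def, commutatorElement_def]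
            calc q z * (q v * q x) * (q z)⁻¹ * (q v * q x)⁻¹
                = (q z * q v) * q x * (q z)⁻¹ * (q x)⁻¹ * (q v)⁻¹ := by group
              _ = q v * (q z * q x * (q z)⁻¹ * (q x)⁻¹) * (q v)⁻¹ := by rw [hab z hz v hv]; group
        _ = q c := by
            rw [← h1, hab v hv c (fil_antitone (by omega) hc3), mul_inv_cancel_right]
    have hcg' : q c * q g = q g * q c := by rw [mul_inv_eq_iff_eq_mul] at hcg; exact hcg.symm
    have hw' : w ∈ (centralizer ({q g} : Set (S ⧸ fil S 5))).comap q := by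
      have hle : fil S 3 ≤ (centralizer ({q g} : Set (S ⧸ fil S 5))).comap q := by
        rw [← fil_layer h3n hG hc (show 2 ≤ 3 by omega) hc3 hc4, sup_le_iff, zpowers_le, mem_comap,
          mem_centralizer_singleton_iff]
        exact ⟨hcg', fun m hm => mem_centralizer_singleton_iff.mpr (hcen m hm g)⟩
      exact hle hw
    exact mk_comm_iff.mp (mem_centralizer_singleton_iff.mp hw')
  · have a := twoStep_index h3n hG hc (k := 2) le_rfl (by omega)
    have b := twoStep_index h3n hG hc (k := 3) (by omega) (by omega)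
    have a' := (twoStep S 2).card_mul_index
    have b' := (twoStep S 3).card_mul_index
    rw [a] at a'
    rw [b, ← a'] at b'
    exact (Nat.eq_of_mul_eq_mul_right (by norm_num) b').le

theorem twoStep_all : ∀ k, 2 ≤ k → k + 2 ≤ n → twoStep S k = twoStep S 2 := by
  intro k
  induction k using Nat.strong_induction_on with
  | _ k ih =>
    intro h2 hkn
    rcases (show k = 2 ∨ k = 3 ∨ 4 ≤ k by omega) with rfl | rfl | h4
    · rfl
    · exact twoStep_three hn hG hc hx (by omega)
    · rw [(periodic_and_good (p := 3) n (show 3 ≤ n by omega) hG hc).1 k (by omega) hkn]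
      exact ih (k - (3 - 1)) (by omega) (by omega) (by omega)

theorem good_of_not_mem {g : S} (hg : g ∉ twoStep S 2) :
    Nat.card (centralizer ({g} : Set S)) = 3 ^ 2 :=
  good_of_outside (show 3 ≤ n by omega) hG hc (fun h => hg (fil_le_twoStep 2 h))
    fun k h2 hk => by rw [twoStep_all hn hG hc hx k h2 hk]; exact hg

theorem closure_x_h {h : S} (hh : h ∈ twoStep S 2) (hh' : h ∉ fil S 2) :
    closure ({x, h} : Set S) = ⊤ := by
  have h3n : 3 ≤ n := by omega
  have hxM := x_not_mem hn hG hc hx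
  have he := eq_of_mem_twoStep (p := 3) h3n hG (fil_le_twoStep 2)
    (twoStep_index h3n hG hc le_rfl (by omega)) hh hh' hc
  have h2 : twoStep S 2 < closure ({x, h} : Set S) ⊔ fil S 2 := by
    refine lt_of_le_of_ne ?_ fun e => hxM (e.ge (mem_sup_left (subset_closure (by simp))))
    rw [← he]
    exact sup_le_sup_right (zpowers_le.mpr (subset_closure (by simp))) _
  have h3' : closure ({x, h} : Set S) ⊔ fil S 2 = ⊤ := by
    refine eq_top_of_le_card _ ?_
    have h4 := card_grow hG h2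
    have h5 := (twoStep S 2).card_mul_index
    rw [twoStep_index h3n hG hc le_rfl (by omega)] at h5
    rw [← h5]
    exact h4
  rw [show fil S 2 = commutator S from Subgroup.top_lowerCentralSeries_one] at h3'
  exact CfsgLib.Regular.eq_top_of_sup_commutator (IsPGroup.of_card hG) h3'

theorem comm_h_x {h : S} (hh : h ∈ twoStep S 2) (hh' : h ∉ fil S 2) : ⁅h, x⁆ ∉ fil S 3 := by
  intro hcm
  have h3n : 3 ≤ n := by omega
  have hgen := closure_x_h hn hG hc hx hh hh'
  obtain ⟨z, hz, hz'⟩ := exists_gen h3n hG hc (j := 2) (by omega) le_rfl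
  refine hz' ?_
  have hq : QuotientGroup.mk' (fil S 3) h * QuotientGroup.mk' (fil S 3) x =
      QuotientGroup.mk' (fil S 3) x * QuotientGroup.mk' (fil S 3) h := mk_comm_iff.mpr hcm
  have hab : ∀ a b : S, ⁅a, b⁆ ∈ fil S 3 := by
    have hcent : ∀ a : S, ⁅a, x⁆ ∈ fil S 3 ∧ ⁅a, h⁆ ∈ fil S 3 := by
      have hle : closure ({x, h} : Set S) ≤ (centralizer ({QuotientGroup.mk' (fil S 3) x,
          QuotientGroup.mk' (fil S 3) h} : Set (S ⧸ fil S 3))).comap (QuotientGroup.mk' (fil S 3)) := by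
        rw [closure_le]
        rintro w (rfl | rfl) <;> refine mem_centralizer_iff.mpr ?_ <;> rintro _ (rfl | rfl) <;>
          first | rfl | exact hq | exact hq.symm
      intro a
      have ha := mem_centralizer_iff.mp (hle (hgen.ge (mem_top a)))
      exact ⟨mk_comm_iff.mp (ha _ (Set.mem_insert _ _)).symm,
        mk_comm_iff.mp (ha _ (Set.mem_insert_of_mem _ rfl)).symm⟩
    intro a b
    exact mem_centralMod.mp (mem_centralMod_gens hgen (hcent a).1 (hcent a).2) b
  have hle : fil S 2 ≤ fil S 3 := by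
    rw [show fil S 2 = commutator S from Subgroup.top_lowerCentralSeries_one, commutator_def, commutator_le]
    exact fun a _ b _ => hab a b
  exact hle hz

/-- Cubes of elements of the distinguished maximal subgroup. -/
theorem cube (hxp : x ^ 3 = 1) {h : S} (hh : h ∈ twoStep S 2) (hh' : h ∉ fil S 2) :
    h ^ 3 ∈ fil S 3 ∧ (5 ≤ n ∨ h ^ 3 ≠ 1 → h ^ 3 ∉ fil S 4) := by
  have h3n : 3 ≤ n := by omega
  set c := ⁅h, x⁆ with hcdef
  set d := ⁅c, x⁆ with hddef
  have hc2 : c ∈ fil S 2 := fil_commutator_mem (i := 1) (j := 1) (mem_top h) (mem_top x)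
  have hd3 : d ∈ fil S 3 := fil_commutator_mem (i := 2) (j := 1) hc2 (mem_top x)
  have hd4 : d ∉ fil S 4 := comm_layer h3n hG hc hx le_rfl (by omega) hc2 (comm_h_x hn hG hc hx hh hh')
  set q := QuotientGroup.mk' (fil S 4) with hq
  have hch : ∀ w ∈ fil S 2, q w * q h = q h * q w := fun w hw =>
    mk_comm_iff.mpr (mem_twoStep.mp hh w hw)
  have hdc : q c * q d = q d * q c :=
    mk_comm_iff.mpr (fil_antitone (show 4 ≤ 2 + 3 by omega) (fil_commutator_mem hc2 hd3))
  have hxh : x * h ∉ twoStep S 2 := fun e => x_not_mem hn hG hc hx (by simpa using mul_mem e (inv_mem hh))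
  have hg := good_of_not_mem hn hG hc hx hxh
  have hP : (x * h) ^ 3 ∈ fil S (n - 1) := by
    have hle : fil S (n - 1) ≤ fil S 2 ⊓ centralizer ({x * h} : Set S) := fun w hw => by
      refine ⟨fil_antitone (by omega) hw, mem_centralizer_singleton_iff.mpr ?_⟩
      have h1 := fil_commutator_mem hw (show x * h ∈ fil S 1 from mem_top _)
      rw [fil_eq_bot h3n hG hc (by omega), mem_bot] at h1
      exact commutatorElement_eq_one_iff_mul_comm.mp h1
    refine (eq_of_le_of_card_ge hle ?_).ge ⟨?_, mem_centralizer_singleton_iff.mpr (Commute.pow_self _ 3).eq⟩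
    · rw [card_fil h3n hG hc (by omega) (by omega), show n - (n - 1) = 1 by omega, pow_one]
      exact card_inf_le h3n hG hc hg
    · show _ ∈ (⊤ : Subgroup S).lowerCentralSeries 1
      rw [Subgroup.top_lowerCentralSeries_one]
      exact CfsgLib.MaximalClass.pow_mem_commutator h3n hG hc _
  have hxi : x * x * x = 1 := by rw [← hxp]; simp [pow_succ]
  have hexp : (x * h) ^ 3 = c⁻¹ * h * c⁻¹ * d * c⁻¹ * h * h := by
    rw [hddef, hcdef, commutatorElement_def, commutatorElement_def]
    simp only [pow_succ, pow_zero, one_mul, mul_inv_rev, inv_inv, mul_assoc, inv_mul_cancel_left,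
      mul_inv_cancel_left]
    have : x⁻¹ = x * x := inv_eq_of_mul_eq_one_right (by rw [← mul_assoc, hxi])
    have hw : ∀ w, x * (x * (x * w)) = w := fun w => by rw [← mul_assoc, ← mul_assoc, hxi, one_mul]
    simp only [this, mul_assoc, hw]
  have hc3 : q c ^ 3 = 1 := by
    rw [← map_pow]
    refine (QuotientGroup.eq_one_iff _).mpr ?_
    exact fil_antitone (by omega) (pow_layer h3n hG hc hx n 2 (by omega) le_rfl c hc2).1
  have hqe : q ((x * h) ^ 3) = q d * q (h ^ 3) := by
    rw [hexp, map_pow]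
    simp only [map_mul, map_inv]
    have hci : (q c)⁻¹ * q h = q h * (q c)⁻¹ := by
      rw [inv_mul_eq_iff_eq_mul, ← mul_assoc, hch c hc2, mul_inv_cancel_right]
    have hdh := hch d (fil_antitone (by omega) hd3)
    calc (q c)⁻¹ * q h * (q c)⁻¹ * q d * (q c)⁻¹ * q h * q h
        = q h * ((q c)⁻¹ * (q c)⁻¹ * q d * (q c)⁻¹) * q h * q h := by rw [hci]; group
      _ = q h * (q d * (q c ^ 3)⁻¹) * q h * q h := by
          have hcd : (q c)⁻¹ * q d = q d * (q c)⁻¹ := (Commute.inv_left (show Commute (q c) (q d) from hdc)).eq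
          rw [show (q c)⁻¹ * (q c)⁻¹ * q d * (q c)⁻¹ = q d * (q c ^ 3)⁻¹ by
            rw [mul_assoc (q c)⁻¹ (q c)⁻¹ (q d), hcd, ← mul_assoc, hcd]; group]
      _ = q d * q h ^ 3 := by rw [hc3, inv_one, mul_one, ← hdh]; simp [pow_succ, mul_assoc]
  have hqd : q d ≠ 1 := fun e => hd4 ((QuotientGroup.eq_one_iff d).mp e)
  have hP3 : (x * h) ^ 3 ∈ fil S 3 := fil_antitone (by omega) hP
  have hh3 : h ^ 3 ∈ fil S 3 := by
    have e1 : q (d⁻¹ * (x * h) ^ 3) = q (h ^ 3) := by rw [map_mul, map_inv, hqe, inv_mul_cancel_left]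
    have e2 : (d⁻¹ * (x * h) ^ 3)⁻¹ * h ^ 3 ∈ fil S 4 := QuotientGroup.eq.mp e1
    have e3 := mul_mem (mul_mem (inv_mem hd3) hP3) (fil_antitone (by omega) e2)
    rwa [mul_inv_cancel_left] at e3
  refine ⟨hh3, fun hor hmem => ?_⟩
  rcases hor with h5 | hne
  · refine hqd ?_
    have h1 : q ((x * h) ^ 3) = 1 := (QuotientGroup.eq_one_iff _).mpr (fil_antitone (by omega) hP)
    rw [hqe, show q (h ^ 3) = 1 from (QuotientGroup.eq_one_iff _).mpr hmem, mul_one] at h1
    exact h1
  · rcases (show n = 4 ∨ 5 ≤ n by omega) with rfl | h5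
    · rw [fil_eq_bot h3n hG hc le_rfl, mem_bot] at hmem
      exact hne hmem
    · refine hqd ?_
      have h1 : q ((x * h) ^ 3) = 1 := (QuotientGroup.eq_one_iff _).mpr (fil_antitone (by omega) hP)
      rw [hqe, show q (h ^ 3) = 1 from (QuotientGroup.eq_one_iff _).mpr hmem, mul_one] at h1
      exact h1

/-- In the distinguished maximal subgroup the cubes and one further element suffice. -/
theorem exists_of_cube {h : S} (hcube : h ^ 3 ∈ fil S 3 ∧ h ^ 3 ∉ fil S 4) {H : Subgroup S} (hhH : h ∈ H) :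
    ∃ a ∈ H, H ⊓ fil S 2 ≤ closure ({h, a} : Set S) := by
  classical
  have h3n : 3 ≤ n := by omega
  have hpowl : ∀ (m j : ℕ) (w : S), 2 ≤ j → w ∈ fil S j → w ∉ fil S (j + 1) → j + 2 * m < n →
      w ^ 3 ^ m ∈ fil S (j + 2 * m) ∧ w ^ 3 ^ m ∉ fil S (j + 2 * m + 1) := by
    intro m
    induction m with
    | zero => intro j w _ h1 h2 _; simpa using ⟨h1, h2⟩
    | succ m ih =>
      intro j w hj h1 h2 hlt
      obtain ⟨a, b⟩ := ih j w hj h1 h2 (by omega)
      obtain ⟨a', b'⟩ := pow_layer h3n hG hc hx n (j + 2 * m) (by omega) (by omega) _ a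
      rw [pow_succ 3 m, pow_mul]
      rw [show j + 2 * m + (3 - 1) = j + 2 * (m + 1) by omega] at a'
      refine ⟨a', ?_⟩
      rw [show j + 2 * (m + 1) + 1 = j + 2 * m + 3 by omega]
      exact b' (by omega) b
  by_cases hA : ∃ j, (2 ≤ j ∧ j % 2 = 0) ∧ ∃ a ∈ H ⊓ fil S 2, a ∈ fil S j ∧ a ∉ fil S (j + 1)
  all_goals
    obtain ⟨a, haH, haeven⟩ : ∃ a ∈ H, ∀ j, 2 ≤ j → j < n → j % 2 = 0 →
        (∃ b ∈ H ⊓ fil S 2, b ∈ fil S j ∧ b ∉ fil S (j + 1)) →
          ∃ m : ℕ, a ^ 3 ^ m ∈ fil S j ∧ a ^ 3 ^ m ∉ fil S (j + 1) := by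
      first
      | obtain ⟨⟨h2, hev⟩, a, ha, haj, haj'⟩ := Nat.find_spec hA
        refine ⟨a, ha.1, fun j hj hjn hje hex => ?_⟩
        have hle : Nat.find hA ≤ j := Nat.find_min' hA ⟨⟨hj, hje⟩, hex⟩
        obtain ⟨m, hm⟩ : ∃ m, j = Nat.find hA + 2 * m := ⟨(j - Nat.find hA) / 2, by omega⟩
        exact ⟨m, hm ▸ hpowl m _ a h2 haj haj' (by omega)⟩
      | exact ⟨1, one_mem _, fun j hj _ hje hex => absurd ⟨j, ⟨hj, hje⟩, hex⟩ hA⟩
    refine ⟨a, haH, ?_⟩
    have hcl : closure ({h, a} : Set S) ≤ H := by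
      rw [closure_le]
      rintro w (rfl | rfl)
      exacts [hhH, haH]
    refine (cover h3n hG hc (inf_le_right : H ⊓ fil S 2 ≤ _)
      (K := closure ({h, a} : Set S) ⊓ fil S 2) (inf_le_inf_right _ hcl) fun j hj hjn hex => ?_).trans inf_le_left
    by_cases hje : j % 2 = 0
    · obtain ⟨m, hm1, hm2⟩ := haeven j hj hjn hje hex
      exact ⟨_, ⟨pow_mem (subset_closure (by simp)) _, fil_antitone hj hm1⟩, hm1, hm2⟩
    · obtain ⟨m, hm⟩ : ∃ m, j = 3 + 2 * m := ⟨(j - 3) / 2, by omega⟩
      obtain ⟨hm1, hm2⟩ := hpowl m 3 _ (by omega) hcube.1 hcube.2 (by omega)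
      rw [← hm] at hm1 hm2
      exact ⟨_, ⟨pow_mem (pow_mem (subset_closure (by simp)) _) _, fil_antitone hj hm1⟩, hm1, hm2⟩

/-- The exceptional group is the wreath product. -/
theorem wreath (hxp : x ^ 3 = 1) (h4 : n = 4) {h : S} (hh : h ∈ twoStep S 2) (hh' : h ∉ fil S 2)
    (hhp : h ^ 3 = 1) : Nonempty (S ≃* RegularWreathProduct C₃ C₃) := by
  subst h4
  have h3n : 3 ≤ 4 := by omega
  set M := twoStep S 2 with hMdef
  have hMn : M.Normal := by
    refine ⟨fun m hm g => ?_⟩
    have : g * m * g⁻¹ = ⁅g, m⁆ * m := by rw [commutatorElement_def]; group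
    rw [this]
    exact mul_mem (fil_le_twoStep 2 (fil_commutator_mem (i := 1) (j := 1) (mem_top g) (mem_top m))) hm
  have hf2 : ∀ w ∈ fil S 2, ∀ m ∈ M, w * m = m * w := fun w hw m hm => by
    have h1 := mem_twoStep.mp hm w hw
    rw [fil_eq_bot h3n hG hc le_rfl, mem_bot] at h1
    exact commutatorElement_eq_one_iff_mul_comm.mp h1
  have hMgen := eq_of_mem_twoStep (p := 3) h3n hG (fil_le_twoStep 2)
    (twoStep_index h3n hG hc le_rfl (by omega)) hh hh' hc
  have hMab : ∀ a ∈ M, ∀ b ∈ M, a * b = b * a := by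
    have h1 : ∀ b ∈ M, b * h = h * b := by
      intro b hb
      have hle : M ≤ centralizer ({h} : Set S) := by
        rw [hMdef, ← hMgen, sup_le_iff, zpowers_le]
        exact ⟨mem_centralizer_singleton_iff.mpr rfl, fun w hw => mem_centralizer_singleton_iff.mpr (hf2 w hw h hh)⟩
      exact mem_centralizer_singleton_iff.mp (hle hb)
    intro a ha b hb
    have hle : M ≤ centralizer ({b} : Set S) := by
      rw [hMdef, ← hMgen, sup_le_iff, zpowers_le]
      exact ⟨mem_centralizer_singleton_iff.mpr (h1 b hb).symm,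
        fun w hw => mem_centralizer_singleton_iff.mpr (hf2 w hw b hb)⟩
    exact mem_centralizer_singleton_iff.mp (hle ha)
  have he : ∀ i : ℕ, (x ^ i * h * (x ^ i)⁻¹) ^ 3 = 1 := fun i => by rw [conj_pow, hhp, mul_one, mul_inv_cancel]
  have hm : ∀ (i : ℕ) (a : C₃), Cfsg.EssentialSmall.Quad.powHom (x ^ i * h * (x ^ i)⁻¹) (he i) a ∈ M :=
    fun i a => pow_mem (hMn.conj_mem h hh _) _
  let g : ℕ → C₃ →* S := fun i => Cfsg.EssentialSmall.Quad.powHom (x ^ i * h * (x ^ i)⁻¹) (he i)
  let F : (C₃ → C₃) →* S :=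
    { toFun := fun u => g 0 (u (Multiplicative.ofAdd 0)) * g 1 (u (Multiplicative.ofAdd 1)) *
        g 2 (u (Multiplicative.ofAdd 2))
      map_one' := by simp
      map_mul' := fun u v => by
        simp only [Pi.mul_apply, map_mul]
        exact six (hMab _ (hm 0 _) _ (hm 1 _)) (hMab _ (hm 0 _) _ (hm 2 _)) (hMab _ (hm 1 _) _ (hm 2 _)) }
  let P : C₃ →* S := Cfsg.EssentialSmall.Quad.powHom x hxp
  have hconj1 : ∀ u : C₃ → C₃, x * F u * x⁻¹ = F (fun r => u ((Multiplicative.ofAdd (1 : ZMod 3))⁻¹ * r)) := by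
    intro u
    obtain ⟨k0, k1, k2⟩ := shift_table
    show x * (g 0 _ * g 1 _ * g 2 _) * x⁻¹ = g 0 (u _) * g 1 (u _) * g 2 (u _)
    rw [k0, k1, k2]
    have hs : ∀ (i j : ℕ) (a : C₃), x ^ j = x * x ^ i → x * g i a * x⁻¹ = g j a := by
      intro i j a hij
      show x * (x ^ i * h * (x ^ i)⁻¹) ^ _ * x⁻¹ = (x ^ j * h * (x ^ j)⁻¹) ^ _
      rw [← conj_pow, hij, mul_inv_rev]
      congr 1
      group
    rw [← conj_mul, ← conj_mul, hs 0 1 _ (by rw [pow_one, pow_zero, mul_one]), hs 1 2 _ (by rw [pow_succ', ]),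
      hs 2 0 _ (by rw [pow_zero, ← pow_succ', hxp])]
    have a := hMab _ (mul_mem (hm 1 (u (Multiplicative.ofAdd 0))) (hm 2 (u (Multiplicative.ofAdd 1)))) _
      (hm 0 (u (Multiplicative.ofAdd 2)))
    rw [mul_assoc (g 0 _)]
    exact a
  have hconj : ∀ (k : ℕ) (u : C₃ → C₃),
      x ^ k * F u * (x ^ k)⁻¹ = F (fun r => u ((Multiplicative.ofAdd (k : ZMod 3))⁻¹ * r)) := by
    intro k
    induction k with
    | zero => intro u; simp
    | succ k ih =>
      intro u
      rw [pow_succ', show x * x ^ k * F u * (x * x ^ k)⁻¹ = x * (x ^ k * F u * (x ^ k)⁻¹) * x⁻¹ by group, ih,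
        hconj1]
      congr 1
      funext r
      rw [Nat.cast_succ, ofAdd_add, mul_inv_rev, mul_assoc]
      rw [mul_left_comm]
  let θ : RegularWreathProduct C₃ C₃ →* S :=
    { toFun := fun w => F w.left * P w.right
      map_one' := by
        show F 1 * P 1 = 1
        rw [map_one, map_one, mul_one]
      map_mul' := fun a b => by
        show F (a.left * fun r => b.left (a.right⁻¹ * r)) * P (a.right * b.right) =
          F a.left * P a.right * (F b.left * P b.right)
        have hP : P a.right * F b.left * (P a.right)⁻¹ = F (fun r => b.left (a.right⁻¹ * r)) := by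
          have := hconj a.right.toAdd.val b.left
          rw [ZMod.natCast_zmod_val, ofAdd_toAdd] at this
          exact this
        rw [map_mul F, map_mul P, ← hP]
        group }
  have hPx : P (Multiplicative.ofAdd 1) = x := by
    show x ^ (1 : ZMod 3).val = x
    rw [show (1 : ZMod 3).val = 1 from rfl, pow_one]
  have hFh : F (Pi.mulSingle (Multiplicative.ofAdd 0) (Multiplicative.ofAdd 1)) = h := by
    show g 0 _ * g 1 _ * g 2 _ = h
    rw [Pi.mulSingle_eq_same, Pi.mulSingle_eq_of_ne ofAdd_ne.1, Pi.mulSingle_eq_of_ne ofAdd_ne.2, (g 1).map_one, (g 2).map_one,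
      mul_one, mul_one]
    show (x ^ 0 * h * (x ^ 0)⁻¹) ^ (1 : ZMod 3).val = h
    rw [show (1 : ZMod 3).val = 1 from rfl, pow_one, pow_zero, inv_one, one_mul, mul_one]
  have hsurj : Function.Surjective θ := by
    rw [← MonoidHom.range_eq_top, eq_top_iff, ← closure_x_h le_rfl hG hc hx hh hh', closure_le]
    rintro w (rfl | rfl)
    · exact ⟨⟨1, Multiplicative.ofAdd 1⟩, by show F 1 * P _ = w; rw [map_one, one_mul, hPx]⟩
    · exact ⟨⟨Pi.mulSingle (Multiplicative.ofAdd 0) (Multiplicative.ofAdd 1), 1⟩,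
        by show F (Pi.mulSingle (Multiplicative.ofAdd 0) (Multiplicative.ofAdd 1)) * P 1 = w; rw [P.map_one, mul_one, hFh]⟩
  have hcard : Nat.card (RegularWreathProduct C₃ C₃) = Nat.card S := by
    rw [RegularWreathProduct.card, hG, Nat.card_congr (Multiplicative.toAdd (α := ZMod 3)), Nat.card_zmod]
    rfl
  exact ⟨(MulEquiv.ofBijective θ
    ((Nat.bijective_iff_surjective_and_card _).mpr ⟨hsurj, hcard⟩)).symm⟩

/-- Every subgroup is generated by two elements unless the group is `C₃ ≀ C₃`. -/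
theorem dichotomy (hxp : x ^ 3 = 1) :
    (∀ H : Subgroup S, ∃ T : Finset S, T.card ≤ 2 ∧ closure (T : Set S) = H) ∨
      Nonempty (S ≃* RegularWreathProduct C₃ C₃) := by
  classical
  have h3n : 3 ≤ n := by omega
  by_cases hgen : 5 ≤ n ∨ ∀ h ∈ twoStep S 2, h ∉ fil S 2 → h ^ 3 ≠ 1
  · refine Or.inl fun H => ?_
    by_cases hle : H ≤ fil S 2
    · obtain ⟨T, hT, hT'⟩ := gen_of_le_two h3n hG hc hx hle
      exact ⟨T, hT, hT'⟩
    obtain ⟨u, v, huv⟩ : ∃ u v : S, closure ({u, v} : Set S) = H := by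
      by_cases hM : H ≤ twoStep S 2
      · obtain ⟨h, hh, hh'⟩ := SetLike.not_le_iff_exists.mp hle
        obtain ⟨a, b⟩ := cube hn hG hc hx hxp (hM hh) hh'
        exact gen_two_of_inf h3n hG hc hh hh' (exists_of_cube hn hG hc hx
          ⟨a, b (hgen.imp_right fun f => f h (hM hh) hh')⟩ hh)
      · obtain ⟨g, hg, hg'⟩ := SetLike.not_le_iff_exists.mp hM
        exact gen_two_of_inf h3n hG hc hg (fun e => hg' (fil_le_twoStep 2 e))
          (exists_of_good h3n hG hc (good_of_not_mem hn hG hc hx hg') hg)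
    refine ⟨{u, v}, (Finset.card_insert_le _ _).trans (by simp), ?_⟩
    rw [Finset.coe_insert, Finset.coe_singleton]
    exact huv
  · push Not at hgen
    obtain ⟨h5, h, hh, hh', hhp⟩ := hgen
    exact Or.inr (wreath hn hG hc hx hxp (by omega) hh hh' hhp)

end Three

end CfsgLib.MaxClassThree
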