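import Mathlib
import Cfsg.Agent.Lib.OmegaList

/-!
Transitivity of `Ω` from Witt's theorem and a stabiliser covering `O/Ω`.
-/

set_option autoImplicit false

namespace CfsgLib.OmegaTrans

open QuadraticMap Module CfsgLib.OmegaList CfsgLib.WittExtension CfsgLib.SpinorNorm CfsgLib.SpinorMatrix

variable {F : Type*} [Field F] [Fintype F] {ι : Type} [Fintype ι] [DecidableEq ι]
  (Q : QuadraticForm F (ι → F))

/-- If the stabiliser of `U` covers `O/Ω`, every isometry can be corrected into `Ω`. -/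
theorem omega_map (hQ : (polarBilin Q).Nondegenerate) (hc : Subgroup.closure (Refl Q) = ⊤)
    (U W : Submodule F (ι → F))
    (h1 : ∃ v, Q v ≠ 0 ∧ ∀ x ∈ U, (Cfsg.reflectionMatrix (⇑Q) v).mulVec x ∈ U)
    (h2 : ∀ b : F, b ≠ 0 → ∃ u w, Q u ≠ 0 ∧ Q w ≠ 0 ∧ IsSquare (b * (Q u * Q w)) ∧
      ∀ x ∈ U, (Cfsg.reflectionMatrix (⇑Q) u * Cfsg.reflectionMatrix (⇑Q) w).mulVec x ∈ U)
    (g : (ι → F) ≃ₗ[F] (ι → F)) (hg : ∀ v, Q (g v) = Q v) (hgU : ∀ x ∈ U, g x ∈ W)
    (hdim : finrank F W ≤ finrank F U) :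
    ∃ a : ↥(Cfsg.isometryGroup F ⇑Q), a ∈ Cfsg.Omega F ⇑Q ∧
      U.map (Matrix.mulVecLin a.1.1) = W := by
  set a₀ := (isoEquiv Q).symm ⟨g, hg⟩ with ha₀
  have ha₀v : ∀ x, a₀.1.1.mulVec x = g x := fun x => isoEquiv_symm_apply Q _ x
  obtain ⟨vs, hvs, hvR⟩ := exists_list Q hc a₀
  obtain ⟨v, hv, hvU⟩ := h1
  obtain ⟨ts, hts, htsU, hev⟩ : ∃ ts : List (ι → F), (∀ t ∈ ts, Q t ≠ 0) ∧
      (∀ x ∈ U, (RP Q ts).mulVec x ∈ U) ∧ Even (vs ++ ts).length := by
    rcases Nat.even_or_odd vs.length with he | ho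
    · exact ⟨[], by simp, fun x hx => by simpa [RP] using hx, by simpa using he⟩
    · refine ⟨[v], by simpa using hv, fun x hx => by simpa [RP] using hvU x hx, ?_⟩
      simpa [Nat.even_add_one] using ho
  have hall : ∀ t ∈ vs ++ ts, Q t ≠ 0 := fun t ht => by
    rcases List.mem_append.mp ht with h | h
    · exact hvs t h
    · exact hts t h
  obtain ⟨u, w, hu, hw, hsq, huwU⟩ := h2 _ (QP_ne_zero Q hall)
  have hall' : ∀ t ∈ vs ++ ts ++ [u, w], Q t ≠ 0 := fun t ht => by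
    rcases List.mem_append.mp ht with h | h
    · exact hall t h
    · rcases List.mem_pair.mp h with rfl | rfl
      · exact hu
      · exact hw
  obtain ⟨a, ha⟩ := exists_iso Q (vs ++ ts ++ [u, w]) hall'
  have hev' : Even (vs ++ ts ++ [u, w]).length := by
    rw [List.length_append]; exact hev.add even_two
  have hsq' : IsSquare (QP Q (vs ++ ts ++ [u, w])) := by
    rw [QP_append, show QP Q [u, w] = Q u * Q w by simp [QP]]
    exact hsq
  refine ⟨a, (omega_iff_list Q hc hQ a _ hall' ha).mpr ⟨hev', hsq'⟩, ?_⟩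
  have hinj : Function.Injective (Matrix.mulVecLin a.1.1) :=
    Matrix.mulVec_injective_of_isUnit ⟨a.1, rfl⟩
  refine Submodule.eq_of_le_of_finrank_le ?_ ?_
  · rintro _ ⟨x, hx, rfl⟩
    rw [Matrix.mulVecLin_apply, ha, RP_append, RP_append, ← hvR, ← Matrix.mulVec_mulVec,
      ← Matrix.mulVec_mulVec, ha₀v, show RP Q [u, w] = Cfsg.reflectionMatrix (⇑Q) u * Cfsg.reflectionMatrix (⇑Q) w by simp [RP]]
    exact hgU _ (htsU _ (huwU x hx))
  · rw [(Submodule.equivMapOfInjective _ hinj U).finrank_eq.symm]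
    exact hdim

omit [Fintype F] in
theorem refl_fix {v : ι → F} {x : ι → F} (h : polar Q v x = 0) :
    (Cfsg.reflectionMatrix (⇑Q) v).mulVec x = x := by
  rw [CfsgLib.PolarVec.reflection_mulVec, h]; simp

omit [Fintype F] in
theorem refl_mem {U : Submodule F (ι → F)} {v : ι → F} (h : v ∈ U ∨ ∀ x ∈ U, polar Q v x = 0) :
    ∀ x ∈ U, (Cfsg.reflectionMatrix (⇑Q) v).mulVec x ∈ U := by
  intro x hx
  rcases h with h | h
  · rw [CfsgLib.PolarVec.reflection_mulVec]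
    exact U.add_mem hx (U.smul_mem _ h)
  · rwa [refl_fix Q (h x hx)]

end CfsgLib.OmegaTrans
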