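import Mathlib
import Cfsg.Agent.Lib.OmegaTrans
import Cfsg.Agent.Lib.Lagrangian

/-!
Reflection words and the two classes of maximal totally singular subspaces.
-/

set_option autoImplicit false

namespace CfsgLib.OmegaLag

open QuadraticMap Module CfsgLib.OmegaList
open CfsgLib.Lagrangian (Qp Qp_apply Qp_nondeg IsLag parity polar_eq_zero)

variable {F : Type*} [Field F] [Fintype F] {m : ℕ}

omit [Fintype F] in
theorem map_lag (a : ↥(Cfsg.isometryGroup F ⇑(Qp m F))) {U : Submodule F (Fin m ⊕ Fin m → F)}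
    (hU : IsLag U) : IsLag (U.map (Matrix.mulVecLin a.1.1)) := by
  refine ⟨?_, ?_⟩
  · rw [← (Submodule.equivMapOfInjective _ (Matrix.mulVec_injective_of_isUnit ⟨a.1, rfl⟩) U).finrank_eq]
    exact hU.1
  · rintro _ ⟨x, hx, rfl⟩
    have h := a.2 x x
    show Cfsg.quadFormPlus m F (a.1.1.mulVec x) = 0
    rw [← Qp_apply]
    rw [show Qp m F (a.1.1.mulVec x) = Qp m F x from h, Qp_apply]
    exact hU.2 x hx

omit [Fintype F] in
theorem step {U : Submodule F (Fin m ⊕ Fin m → F)} (hU : IsLag U) {v : Fin m ⊕ Fin m → F}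
    (hv : Qp m F v ≠ 0) :
    finrank F ↥(U ⊓ U.map (Matrix.mulVecLin (Cfsg.reflectionMatrix (⇑(Qp m F)) v))) + 1 = m := by
  have hvU : v ∉ U := fun h => hv (by rw [Qp_apply]; exact hU.2 v h)
  let f : U →ₗ[F] F := (polarBilin (Qp m F) v).comp U.subtype
  have hf0 : f ≠ 0 := by
    intro h0
    refine hvU ?_
    have hle : U ≤ U ⊔ F ∙ v := le_sup_left
    -- `v` together with `U` would be totally orthogonal
    have hperp : ∀ x ∈ U, polar (Qp m F) v x = 0 := fun x hx => LinearMap.congr_fun h0 ⟨x, hx⟩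
    have hdim := CfsgLib.Lagrangian.finrank_perp (F := F) U
    have hvP : v ∈ CfsgLib.Lagrangian.perp U := CfsgLib.Lagrangian.mem_perp.mpr fun x hx => by
      rw [polar_comm]; exact hperp x hx
    have hUP : U ≤ CfsgLib.Lagrangian.perp U := fun x hx =>
      CfsgLib.Lagrangian.mem_perp.mpr fun y hy => polar_eq_zero hU.2 hy hx
    have := Submodule.eq_of_le_of_finrank_le hUP (by rw [hdim, hU.1]; omega)
    rw [this]; exact hvP
  have key : U ⊓ U.map (Matrix.mulVecLin (Cfsg.reflectionMatrix (⇑(Qp m F)) v)) =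
      (LinearMap.ker f).map U.subtype := by
    apply le_antisymm
    · rintro y ⟨hy, x, hx, rfl⟩
      rw [Matrix.mulVecLin_apply] at hy ⊢
      rw [CfsgLib.PolarVec.reflection_mulVec] at hy ⊢
      have h1 := (Submodule.add_mem_iff_right U hx).mp hy
      have h2 : (Qp m F v)⁻¹ * polar (Qp m F) v x = 0 := by
        by_contra hne
        exact hvU ((Submodule.smul_mem_iff U (neg_ne_zero.mpr hne)).mp h1)
      have h3 : polar (Qp m F) v x = 0 := (mul_eq_zero.mp h2).resolve_left (inv_ne_zero hv)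
      rw [h2]
      exact ⟨⟨x, hx⟩, h3, by simp⟩
    · rintro _ ⟨x, hx, rfl⟩
      refine ⟨x.2, x, x.2, ?_⟩
      rw [Matrix.mulVecLin_apply, CfsgLib.OmegaTrans.refl_fix (Qp m F) (show polar (Qp m F) v x.1 = 0 from hx)]
      rfl
  rw [key, Submodule.finrank_map_subtype_eq]
  have h := LinearMap.finrank_range_add_finrank_ker f
  rw [LinearMap.range_eq_top.mpr (LinearMap.surjective hf0), finrank_top, Module.finrank_self, hU.1] at h
  omega

theorem class_parity {U : Submodule F (Fin m ⊕ Fin m → F)} (hU : IsLag U) :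
    ∀ vs : List (Fin m ⊕ Fin m → F), (∀ v ∈ vs, Qp m F v ≠ 0) →
      (Even (m - finrank F ↥(U ⊓ U.map (Matrix.mulVecLin (RP (Qp m F) vs)))) ↔ Even vs.length) := by
  intro vs
  induction vs with
  | nil =>
    intro _
    have h1 : RP (Qp m F) ([] : List (Fin m ⊕ Fin m → F)) = 1 := rfl
    rw [h1, Matrix.mulVecLin_one, Submodule.map_id, inf_idem, hU.1, Nat.sub_self]
    simp
  | cons v t ih =>
    intro h
    have ht : ∀ w ∈ t, Qp m F w ≠ 0 := fun w hw => h w (List.mem_cons_of_mem _ hw)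
    obtain ⟨a, ha⟩ := exists_iso (Qp m F) t ht
    obtain ⟨b, hb⟩ := exists_iso (Qp m F) (v :: t) h
    have hW : IsLag (U.map (Matrix.mulVecLin (RP (Qp m F) t))) := ha ▸ map_lag a hU
    have hX : IsLag (U.map (Matrix.mulVecLin (RP (Qp m F) (v :: t)))) := hb ▸ map_lag b hU
    have he : U.map (Matrix.mulVecLin (RP (Qp m F) (v :: t))) =
        (U.map (Matrix.mulVecLin (RP (Qp m F) t))).map
          (Matrix.mulVecLin (Cfsg.reflectionMatrix (⇑(Qp m F)) v)) := by
      rw [← Submodule.map_comp, ← Matrix.mulVecLin_mul]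
      simp [RP]
    have hs := step hW (h v List.mem_cons_self)
    rw [← he] at hs
    have hp := parity _ U _ _ hU hW hX rfl
    have h1 : ∀ B : Submodule F (Fin m ⊕ Fin m → F), finrank F ↥(U ⊓ B) ≤ m := fun B =>
      (Submodule.finrank_mono inf_le_left).trans hU.1.le
    have := h1 (U.map (Matrix.mulVecLin (RP (Qp m F) t)))
    have := h1 (U.map (Matrix.mulVecLin (RP (Qp m F) (v :: t))))
    have := ih ht
    simp only [Nat.even_iff, List.length_cons] at this hp ⊢
    omega

end CfsgLib.OmegaLag
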