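import Mathlib

/-!
Alternating pairing on pairs of residues modulo a prime power.
-/

set_option autoImplicit false

namespace CfsgLib.Metacyclic

variable {p : ℕ} [hp : Fact p.Prime] {n : ℕ}

/-- The coordinate module. -/
abbrev R (p n : ℕ) := ZMod (p ^ n) × ZMod (p ^ n)

/-- The alternating form. -/
def det (x y : R p n) : ZMod (p ^ n) := x.1 * y.2 - x.2 * y.1

omit hp in
theorem det_zsmul (k : ℤ) (x y : R p n) : det (k • x) y = k • det x y := by
  simp only [det, Prod.smul_fst, Prod.smul_snd]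
  simp only [zsmul_eq_mul]
  ring

omit hp in
theorem det_self (x : R p n) : det x x = 0 := by simp [det, mul_comm]

omit hp in
theorem det_swap (x y : R p n) : det x y = - det y x := by simp [det]; ring

/-- The orthogonal complement. -/
def orth (M : AddSubgroup (R p n)) : AddSubgroup (R p n) where
  carrier := {y | ∀ x ∈ M, det x y = 0}
  zero_mem' := fun x _ => by simp [det]
  add_mem' := fun {a b} ha hb x hx => by
    have h1 := ha x hx; have h2 := hb x hx
    simp only [det, Prod.fst_add, Prod.snd_add] at *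
    linear_combination h1 + h2
  neg_mem' := fun {a} ha x hx => by
    have h1 := ha x hx
    simp only [det, Prod.fst_neg, Prod.snd_neg] at *
    linear_combination (-1 : ZMod (p ^ n)) * h1

omit hp in
theorem mem_orth {M : AddSubgroup (R p n)} {y : R p n} : y ∈ orth M ↔ ∀ x ∈ M, det x y = 0 := Iff.rfl

omit hp in
theorem le_orth_orth (M : AddSubgroup (R p n)) : M ≤ orth (orth M) := fun x hx y hy => by
  rw [det_swap, hy x hx, neg_zero]

/-- Subgroups of `ZMod (p ^ n)`. -/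
theorem exists_level (S : AddSubgroup (ZMod (p ^ n))) :
    ∃ α ≤ n, (∀ x, x ∈ S ↔ ∃ k : ℤ, x = k * (p : ZMod (p ^ n)) ^ α) ∧ Nat.card S = p ^ (n - α) := by
  obtain ⟨d, hd⟩ := Int.subgroup_cyclic (S.comap (Int.castAddHom (ZMod (p ^ n))))
  have hmem : ∀ z : ℤ, (z : ZMod (p ^ n)) ∈ S ↔ d ∣ z := fun z => by
    rw [show ((z : ZMod (p ^ n)) ∈ S) = (z ∈ S.comap (Int.castAddHom (ZMod (p ^ n)))) from rfl, hd,
      AddSubgroup.mem_closure_singleton]
    exact ⟨fun ⟨k, hk⟩ => ⟨k, by rw [← hk, smul_eq_mul, mul_comm]⟩,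
      fun ⟨k, hk⟩ => ⟨k, by rw [hk, smul_eq_mul, mul_comm]⟩⟩
  have hdn : d ∣ ((p ^ n : ℕ) : ℤ) := (hmem _).mp (by rw [Int.cast_natCast, ZMod.natCast_self]; exact S.zero_mem)
  obtain ⟨α, hα, hd'⟩ := (Nat.dvd_prime_pow hp.out).mp (Int.natAbs_dvd_natAbs.mpr hdn)
  have hmem' : ∀ z : ℤ, (z : ZMod (p ^ n)) ∈ S ↔ ((p ^ α : ℕ) : ℤ) ∣ z := fun z => by
    rw [hmem, ← hd', Int.natAbs_dvd]
  have hset : ∀ x, x ∈ S ↔ ∃ k : ℤ, x = k * (p : ZMod (p ^ n)) ^ α := by
    intro x
    obtain ⟨z, rfl⟩ := ZMod.intCast_surjective x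
    rw [hmem']
    constructor
    · rintro ⟨k, rfl⟩
      exact ⟨k, by push_cast; ring⟩
    · rintro ⟨k, hk⟩
      have : ((z : ℤ) : ZMod (p ^ n)) = (((p ^ α : ℕ) : ℤ) * k : ℤ) := by rw [hk]; push_cast; ring
      rw [ZMod.intCast_eq_intCast_iff, Int.modEq_iff_dvd] at this
      have h2 : ((p ^ α : ℕ) : ℤ) ∣ ((p ^ n : ℕ) : ℤ) := Int.natCast_dvd_natCast.mpr (pow_dvd_pow p hα)
      have h3 := dvd_sub (Dvd.intro k rfl) (h2.trans this)
      rwa [sub_sub_cancel] at h3
  refine ⟨α, hα, hset, ?_⟩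
  have hS : S = AddSubgroup.zmultiples (((p ^ α : ℕ) : ZMod (p ^ n))) := by
    ext x
    rw [hset, AddSubgroup.mem_zmultiples_iff]
    exact ⟨fun ⟨k, hk⟩ => ⟨k, by rw [hk, zsmul_eq_mul]; push_cast; rfl⟩,
      fun ⟨k, hk⟩ => ⟨k, by rw [← hk, zsmul_eq_mul]; push_cast; rfl⟩⟩
  rw [hS, Nat.card_zmultiples, ZMod.addOrderOf_coe _ (pow_ne_zero _ hp.out.ne_zero),
    Nat.gcd_eq_right (pow_dvd_pow p hα), Nat.pow_div hα hp.out.pos]

theorem card_killed (β : ℕ) (hβ : β ≤ n) :
    Nat.card {x : ZMod (p ^ n) // (p : ZMod (p ^ n)) ^ β * x = 0} = p ^ β := by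
  obtain ⟨α, hα, hmem, hcard⟩ := exists_level (p := p) (n := n)
    (AddMonoidHom.mulLeft ((p : ZMod (p ^ n)) ^ β)).range
  have h := (AddMonoidHom.mulLeft ((p : ZMod (p ^ n)) ^ β)).ker.card_mul_index
  rw [AddSubgroup.index_ker, Nat.card_zmod] at h
  have hr : Nat.card (AddMonoidHom.mulLeft ((p : ZMod (p ^ n)) ^ β)).range = p ^ (n - β) := by
    have hS : (AddMonoidHom.mulLeft ((p : ZMod (p ^ n)) ^ β)).range =
        AddSubgroup.zmultiples (((p ^ β : ℕ) : ZMod (p ^ n))) := by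
      ext x
      rw [AddMonoidHom.mem_range, AddSubgroup.mem_zmultiples_iff]
      constructor
      · rintro ⟨y, rfl⟩
        obtain ⟨z, rfl⟩ := ZMod.intCast_surjective y
        exact ⟨z, by rw [zsmul_eq_mul, AddMonoidHom.coe_mulLeft]; push_cast; ring⟩
      · rintro ⟨k, rfl⟩
        exact ⟨(k : ZMod (p ^ n)), by rw [zsmul_eq_mul, AddMonoidHom.coe_mulLeft]; push_cast; ring⟩
    rw [hS, Nat.card_zmultiples, ZMod.addOrderOf_coe _ (pow_ne_zero _ hp.out.ne_zero),
      Nat.gcd_eq_right (pow_dvd_pow p hβ), Nat.pow_div hβ hp.out.pos]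
  rw [hr] at h
  have e : p ^ β * p ^ (n - β) = p ^ n := by rw [← pow_add, Nat.add_sub_cancel' hβ]
  have h1 := Nat.eq_of_mul_eq_mul_right (pow_pos hp.out.pos _) (h.trans e.symm)
  rw [← h1]
  rfl

/-- Normal form of a subgroup, its order and that of its orthogonal complement. -/
theorem exists_form (M : AddSubgroup (R p n)) :
    ∃ α β : ℕ, α ≤ n ∧ β ≤ n ∧ Nat.card M = p ^ ((n - α) + (n - β)) ∧
      Nat.card (orth M) = p ^ (α + β) ∧ (n ≤ α + β → M ≤ orth M) ∧
      (∀ x : R p n, ((p : ℤ) ^ (α + β)) • x ∈ M) := by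
  classical
  obtain ⟨α, hα, hA, hAc⟩ := exists_level (p := p) (n := n) (M.map (AddMonoidHom.fst _ _))
  obtain ⟨β, hβ, hB, hBc⟩ := exists_level (p := p) (n := n) (M.comap (AddMonoidHom.inr _ _))
  set P : ZMod (p ^ n) := (p : ZMod (p ^ n))
  obtain ⟨⟨x₀, c⟩, hc, hx₀⟩ := AddSubgroup.mem_map.mp ((hA (P ^ α)).mpr ⟨1, by simp [P]⟩)
  change x₀ = P ^ α at hx₀
  subst hx₀
  have hgb : ((0 : ZMod (p ^ n)), P ^ β) ∈ M := (hB (P ^ β)).mpr ⟨1, by simp [P]⟩
  -- shape of the elements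
  have hshape : ∀ z ∈ M, ∃ k l : ℤ, z = k • (P ^ α, c) + l • ((0 : ZMod (p ^ n)), P ^ β) := by
    intro z hz
    obtain ⟨k, hk⟩ := (hA z.1).mp (AddSubgroup.mem_map_of_mem _ hz)
    have h1 : z - k • (P ^ α, c) ∈ M := M.sub_mem hz (M.zsmul_mem hc k)
    have h2 : (z - k • (P ^ α, c)).1 = 0 := by simp [hk, P, zsmul_eq_mul]
    obtain ⟨l, hl⟩ := (hB (z - k • (P ^ α, c)).2).mp (by
      show ((0 : ZMod (p ^ n)), (z - k • (P ^ α, c)).2) ∈ M
      rw [← h2]; exact h1)
    refine ⟨k, l, ?_⟩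
    rw [← sub_eq_iff_eq_add']
    refine Prod.ext ?_ ?_
    · rw [h2]; simp
    · rw [hl]; simp [P, zsmul_eq_mul]
  have hkill : P ^ n = 0 := by
    simp only [P, ← Nat.cast_pow, ZMod.natCast_self]
  -- the second generator absorbs p ^ (n - α) c
  obtain ⟨c', hc'⟩ : ∃ k : ℤ, P ^ (n - α) * c = k * P ^ β := by
    refine (hB _).mp ?_
    show ((0 : ZMod (p ^ n)), P ^ (n - α) * c) ∈ M
    have h1 := M.zsmul_mem hc (((p : ℤ)) ^ (n - α))
    have e : ((p : ℤ) ^ (n - α)) • (P ^ α, c) = ((0 : ZMod (p ^ n)), P ^ (n - α) * c) := by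
      refine Prod.ext ?_ ?_ <;> simp only [Prod.smul_fst, Prod.smul_snd] <;> simp only [zsmul_eq_mul, Int.cast_pow, Int.cast_natCast]
      rw [← pow_add, Nat.sub_add_cancel hα, hkill]
      rfl
    rwa [e] at h1
  refine ⟨α, β, hα, hβ, ?_, ?_, ?_, ?_⟩
  · -- the order of M
    let f : M →+ ZMod (p ^ n) := (AddMonoidHom.fst _ _).comp M.subtype
    have h := f.ker.card_mul_index
    rw [AddSubgroup.index_ker] at h
    have hr : f.range = M.map (AddMonoidHom.fst _ _) := by
      simp only [f, AddMonoidHom.range_comp, AddSubgroup.range_subtype]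
    have hk : Nat.card f.ker = p ^ (n - β) := by
      rw [← hBc]
      refine Nat.card_eq_of_bijective (fun z => ⟨((z.1 : M) : R p n).2, ?_⟩) ⟨?_, ?_⟩
      · show ((0 : ZMod (p ^ n)), ((z.1 : M) : R p n).2) ∈ M
        have h0 : ((z.1 : M) : R p n).1 = 0 := z.2
        rw [← h0]
        exact z.1.2
      · intro u v huv
        have h2 := congrArg Subtype.val huv
        exact Subtype.ext (Subtype.ext (Prod.ext (u.2.trans v.2.symm) h2))
      · intro y
        exact ⟨⟨⟨((0 : ZMod (p ^ n)), y.1), y.2⟩, rfl⟩, rfl⟩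
    rw [← h, hk, hr, hAc, ← pow_add, add_comm]
  · -- the order of the orthogonal complement
    have horth : ∀ y : R p n, y ∈ orth M ↔ (P ^ α * y.2 = c * y.1 ∧ P ^ β * y.1 = 0) := by
      intro y
      constructor
      · intro hy
        have h1 := hy _ hc
        have h2 := hy _ hgb
        simp only [det] at h1 h2
        exact ⟨sub_eq_zero.mp h1, by linear_combination (-1 : ZMod (p ^ n)) * h2⟩
      · rintro ⟨h1, h2⟩ z hz
        obtain ⟨k, l, rfl⟩ := hshape z hz
        simp only [det, Prod.fst_add, Prod.snd_add, Prod.smul_fst, Prod.smul_snd]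
        simp only [zsmul_eq_mul]
        linear_combination (k : ZMod (p ^ n)) * h1 - (l : ZMod (p ^ n)) * h2
    let f : orth M →+ ZMod (p ^ n) := (AddMonoidHom.fst _ _).comp (orth M).subtype
    have h := f.ker.card_mul_index
    rw [AddSubgroup.index_ker] at h
    have hk : Nat.card f.ker = p ^ α := by
      rw [← card_killed (p := p) (n := n) α hα]
      refine Nat.card_eq_of_bijective (fun z => ⟨((z.1 : orth M) : R p n).2, ?_⟩) ⟨?_, ?_⟩
      · have h0 : ((z.1 : orth M) : R p n).1 = 0 := z.2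
        have := ((horth _).mp z.1.2).1
        rwa [h0, mul_zero] at this
      · intro u v huv
        have h2 := congrArg Subtype.val huv
        exact Subtype.ext (Subtype.ext (Prod.ext (u.2.trans v.2.symm) h2))
      · intro y
        refine ⟨⟨⟨((0 : ZMod (p ^ n)), y.1), (horth _).mpr ⟨?_, mul_zero _⟩⟩, rfl⟩, rfl⟩
        simpa using y.2
    have hr : Nat.card f.range = p ^ β := by
      rw [← card_killed (p := p) (n := n) β hβ]
      refine Nat.card_congr (Equiv.subtypeEquivRight fun x => ?_)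
      constructor
      · rintro ⟨⟨y, hy⟩, rfl⟩
        exact ((horth y).mp hy).2
      · intro hx
        -- x is divisible by p ^ (n - β)
        obtain ⟨z, rfl⟩ := ZMod.intCast_surjective x
        have h1 : ((p ^ n : ℕ) : ℤ) ∣ (p : ℤ) ^ β * z := by
          rw [← ZMod.intCast_zmod_eq_zero_iff_dvd]
          simpa [P] using hx
        have h2 : (p : ℤ) ^ (n - β) ∣ z := by
          rw [Nat.cast_pow, show n = β + (n - β) by omega, pow_add] at h1
          exact (mul_dvd_mul_iff_left (pow_ne_zero _ (by exact_mod_cast hp.out.ne_zero))).mp h1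
        obtain ⟨x', rfl⟩ := h2
        -- and c * p ^ (n - β) is divisible by p ^ α
        obtain ⟨c₀, rfl⟩ := ZMod.intCast_surjective c
        have h3 : ((p ^ n : ℕ) : ℤ) ∣ (p : ℤ) ^ (n - α) * c₀ - c' * (p : ℤ) ^ β := by
          rw [← ZMod.intCast_zmod_eq_zero_iff_dvd]
          push_cast
          linear_combination hc'
        obtain ⟨d, hd⟩ := h3
        refine ⟨⟨(((p : ℤ) ^ (n - β) * x' : ℤ), ((c' * x' + d * (p : ℤ) ^ (n - β) * x' : ℤ) : ZMod (p ^ n))), (horth _).mpr ⟨?_, ?_⟩⟩, rfl⟩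
        · have key : (p : ℤ) ^ α * (c' * x' + d * (p : ℤ) ^ (n - β) * x') = c₀ * ((p : ℤ) ^ (n - β) * x') := by
            have hn1 : (p : ℤ) ^ (n - β) * (p : ℤ) ^ β = (p : ℤ) ^ n := by rw [← pow_add, Nat.sub_add_cancel hβ]
            have hn2 : (p : ℤ) ^ (n - α) * (p : ℤ) ^ α = (p : ℤ) ^ n := by rw [← pow_add, Nat.sub_add_cancel hα]
            push_cast at hd
            refine mul_left_cancel₀ (pow_ne_zero (n - α) (show (p : ℤ) ≠ 0 by exact_mod_cast hp.out.ne_zero)) ?_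
            linear_combination (c' * x' + d * (p : ℤ) ^ (n - β) * x') * hn2 -
              (p : ℤ) ^ (n - β) * x' * hd - c' * x' * hn1
          have := congrArg (fun q : ℤ => (q : ZMod (p ^ n))) key
          simpa [P] using this
        · exact hx
    rw [← h, hk, hr, ← pow_add]
  · intro hle
    intro y hy z hz
    obtain ⟨k, l, rfl⟩ := hshape z hz
    obtain ⟨k', l', rfl⟩ := hshape y hy
    have e : P ^ (α + β) = 0 := by
      rw [show α + β = n + (α + β - n) by omega, pow_add, hkill, zero_mul]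
    simp only [det, Prod.fst_add, Prod.snd_add, Prod.smul_fst, Prod.smul_snd]
    simp only [zsmul_eq_mul]
    rw [pow_add] at e
    linear_combination ((k : ZMod (p ^ n)) * l' - (l : ZMod (p ^ n)) * k') * e
  · rintro ⟨u, v⟩
    obtain ⟨u, rfl⟩ := ZMod.intCast_surjective u
    obtain ⟨v, rfl⟩ := ZMod.intCast_surjective v
    obtain ⟨c₀, rfl⟩ := ZMod.intCast_surjective c
    have h := M.add_mem (M.zsmul_mem hc ((p : ℤ) ^ β * u)) (M.zsmul_mem hgb ((p : ℤ) ^ α * v - u * c₀))
    convert h using 1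
    refine Prod.ext ?_ ?_ <;>
      simp only [Prod.fst_add, Prod.snd_add, Prod.smul_fst, Prod.smul_snd] <;>
      simp only [zsmul_eq_mul, P] <;> push_cast <;> ring

theorem card_mul_card_orth (M : AddSubgroup (R p n)) :
    Nat.card M * Nat.card (orth M) = p ^ (2 * n) := by
  obtain ⟨α, β, hα, hβ, hM, hO, -, -⟩ := exists_form M
  rw [hM, hO, ← pow_add]
  congr 1
  omega

theorem orth_orth (M : AddSubgroup (R p n)) : orth (orth M) = M := by
  refine (AddSubgroup.eq_of_le_of_card_ge (le_orth_orth M) ?_).symm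
  have h1 := card_mul_card_orth M
  have h2 := card_mul_card_orth (orth M)
  rw [← h1, mul_comm] at h2
  exact (Nat.eq_of_mul_eq_mul_right Nat.card_pos h2).le

theorem card_le_of_isotropic {M : AddSubgroup (R p n)} (h : M ≤ orth M) : Nat.card M ≤ p ^ n := by
  have h1 := card_mul_card_orth M
  have h2 : Nat.card M * Nat.card M ≤ Nat.card M * Nat.card (orth M) :=
    Nat.mul_le_mul_left _ (Nat.card_le_card_of_injective (AddSubgroup.inclusion h) (AddSubgroup.inclusion_injective h))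
  rw [h1, two_mul, pow_add] at h2
  exact Nat.mul_self_le_mul_self_iff.mp h2

theorem not_isotropic {M : AddSubgroup (R p n)} (h : ¬ M ≤ orth M) :
    ∃ e < n, Nat.card M = p ^ (2 * n - e) ∧ (∀ x : R p n, ((p : ℤ) ^ e) • x ∈ M) ∧ orth M ≤ M := by
  obtain ⟨α, β, hα, hβ, hM, hO, hiso, hsc⟩ := exists_form M
  have he : α + β < n := by
    by_contra hc
    exact h (hiso (not_lt.mp hc))
  refine ⟨α + β, he, by rw [hM]; congr 1; omega, hsc, ?_⟩
  have hiso' : orth M ≤ orth (orth M) := by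
    obtain ⟨α', β', hα', hβ', hM', -, hiso', -⟩ := exists_form (orth M)
    refine hiso' ?_
    have := Nat.pow_right_injective hp.out.two_le (hM'.symm.trans hO)
    omega
  rwa [orth_orth] at hiso'

end CfsgLib.Metacyclic
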