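import Cfsg.Agent.Lib.MetacyclicOdd
import Cfsg.Agent.Lib.CentrallyLarge
import Cfsg.Agent.Lib.RankFrattini
import Cfsg.Agent.Lib.Elementary

/-!
Counting in odd metacyclic `p`-groups.
-/

set_option autoImplicit false

namespace CfsgLib.Metacyclic.Data

open CfsgLib.CentrallyLarge
open scoped commutatorElement

variable {G : Type*} [Group G] [Finite G] {p : ℕ} [hp : Fact p.Prime]

theorem center_index (D : Data G p) : (Subgroup.center G).index = (p ^ D.n) ^ 2 := by
  have h := (Subgroup.center G).card_mul_index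
  rw [D.card_group] at h
  rw [← pow_mul, mul_comm D.n]
  exact Nat.eq_of_mul_eq_mul_left Nat.card_pos h

theorem card_sup_center (D : Data G p) (H : Subgroup G) :
    Nat.card ↥(H ⊔ Subgroup.center G) = Nat.card (Subgroup.center G) * Nat.card (D.image H) := by
  rw [D.card_of_center_le le_sup_right, D.image_sup_center]

theorem card_centralizer (D : Data G p) (H : Subgroup G) :
    Nat.card ↥(Subgroup.centralizer (H : Set G)) =
      Nat.card (Subgroup.center G) * Nat.card (orth (D.image H)) := by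
  rw [D.card_of_center_le (Subgroup.center_le_centralizer _), D.image_centralizer]

theorem centralizer_centralizer_eq (D : Data G p) {H : Subgroup G} (hZ : Subgroup.center G ≤ H) :
    Subgroup.centralizer (Subgroup.centralizer (H : Set G) : Set G) = H := by
  ext x
  rw [D.mem_centralizer_iff', D.image_centralizer, orth_orth, ← D.mem_iff_of_center_le hZ]

theorem card_le_of_comm (D : Data G p) {L : Subgroup G} (h : IsMulCommutative L) :
    Nat.card L ≤ Nat.card (Subgroup.center G) * p ^ D.n := by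
  refine (Subgroup.card_le_of_le (le_sup_left (b := Subgroup.center G))).trans ?_
  rw [D.card_sup_center]
  exact Nat.mul_le_mul_left _ (card_le_of_isotropic ((D.isMulCommutative_iff L).mp h))

theorem lt_card_of_not_comm (D : Data G p) {L : Subgroup G} (h : ¬ IsMulCommutative L) :
    Nat.card (Subgroup.center G) * p ^ D.n < Nat.card L := by
  rw [D.card_of_center_le (D.center_le_of_not_comm h)]
  obtain ⟨e, he, hM, -⟩ := not_isotropic (fun h' => h ((D.isMulCommutative_iff L).mpr h'))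
  rw [hM]
  exact (Nat.mul_lt_mul_left Nat.card_pos).mpr (Nat.pow_lt_pow_right hp.out.one_lt (by omega))

theorem centralizer_le_of_not_comm (D : Data G p) {L : Subgroup G} (h : ¬ IsMulCommutative L) :
    Subgroup.centralizer (L : Set G) ≤ L := by
  obtain ⟨e, -, -, -, hle⟩ := not_isotropic (fun h' => h ((D.isMulCommutative_iff L).mpr h'))
  intro x hx
  rw [D.mem_iff_of_center_le (D.center_le_of_not_comm h)]
  exact hle ((D.mem_centralizer_iff' x).mp hx)

/-- A maximal abelian subgroup is its own centralizer. -/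
theorem centralizer_eq_of_maximal {L : Subgroup G}
    (h : Maximal (fun K : Subgroup G => IsMulCommutative ↥K) L) : Subgroup.centralizer (L : Set G) = L := by
  have hc := h.prop
  rw [← Subgroup.le_centralizer_iff_isMulCommutative] at hc
  refine le_antisymm (fun g hg => ?_) hc
  have hz : Subgroup.zpowers g ≤ Subgroup.centralizer (Subgroup.zpowers g : Set G) :=
    Subgroup.le_centralizer _
  have h1 : L ⊔ Subgroup.zpowers g ≤ Subgroup.centralizer ((L ⊔ Subgroup.zpowers g : Subgroup G) : Set G) :=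
    sup_abelian hc hz (CfsgLib.CentrallyLarge.le_centralizer_comm.mp (Subgroup.zpowers_le.mpr hg))
  exact (h.le_of_ge (CfsgLib.CentrallyLarge.le_centralizer_iff_isMulCommutative.mpr h1) le_sup_left :
    L ⊔ Subgroup.zpowers g ≤ L) (Subgroup.mem_sup_right (Subgroup.mem_zpowers g))

theorem maximal_iff (D : Data G p) (L : Subgroup G) :
    Maximal (fun K : Subgroup G => IsMulCommutative ↥K) L ↔
      Nat.card L = Nat.card (Subgroup.center G) * p ^ D.n := by
  constructor
  · intro h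
    have hc := centralizer_eq_of_maximal h
    have hZ : Subgroup.center G ≤ L := by rw [← hc]; exact Subgroup.center_le_centralizer _
    have hM : orth (D.image L) = D.image L := by rw [← D.image_centralizer, hc]
    have h1 := card_mul_card_orth (D.image L)
    rw [hM, two_mul, pow_add] at h1
    rw [D.card_of_center_le hZ, Nat.mul_self_inj.mp h1]
  · intro h
    have hc : IsMulCommutative L := by
      by_contra hc
      exact (D.lt_card_of_not_comm hc).ne h.symm
    exact ⟨hc, fun K hK hle => (Subgroup.eq_of_le_of_card_ge hle (h ▸ D.card_le_of_comm hK)).ge⟩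

theorem large_iff (D : Data G p) (R : Subgroup G) : Large R ↔ Subgroup.center G ≤ R := by
  have hbd : ∀ R : Subgroup G, Nat.card ↥(R ⊔ Subgroup.center G) * Nat.card ↥(Subgroup.centralizer (R : Set G)) =
      (Nat.card (Subgroup.center G) * p ^ D.n) ^ 2 := fun R => by
    rw [D.card_sup_center, D.card_centralizer, mul_mul_mul_comm, card_mul_card_orth, mul_pow, sq, ← pow_mul,
      mul_comm D.n]
  have hub : ∀ R : Subgroup G, CfsgLib.Products.cdMeasure R ≤ (Nat.card (Subgroup.center G) * p ^ D.n) ^ 2 := fun R => by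
    rw [← hbd R]
    exact Nat.mul_le_mul_right _ (Subgroup.card_le_of_le le_sup_left)
  constructor
  · intro h
    have h1 := h (R ⊔ Subgroup.center G)
    have h2 : (Nat.card (Subgroup.center G) * p ^ D.n) ^ 2 ≤ CfsgLib.Products.cdMeasure R := by
      refine le_trans (le_of_eq ?_) h1
      rw [← hbd (R ⊔ Subgroup.center G), sup_assoc, sup_idem]
      rfl
    rw [← hbd R] at h2
    have h3 := Subgroup.eq_of_le_of_card_ge (le_sup_left (b := Subgroup.center G))
      (Nat.le_of_mul_le_mul_right h2 Nat.card_pos)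
    rw [h3]
    exact le_sup_right
  · intro h L
    refine (hub L).trans (le_of_eq ?_)
    rw [← hbd R, sup_eq_left.mpr h]
    rfl

theorem maxCentralProduct_eq' (D : Data G p) :
    Cfsg.maxCentralProduct G = (Nat.card (Subgroup.center G) * p ^ D.n) ^ 2 := by
  rw [CfsgLib.CentrallyLarge.maxCentralProduct_eq ((D.large_iff ⊤).mpr le_top)]
  rw [CfsgLib.Products.cdMeasure, Subgroup.coe_top, Subgroup.centralizer_univ, Subgroup.card_top, D.card_group]
  rw [two_mul, pow_add]; ring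

theorem index_centralizer_singleton (D : Data G p) (g : G) :
    (Subgroup.centralizer ({g} : Set G)).index = addOrderOf (D.v g) := by
  have hC : Subgroup.centralizer ({g} : Set G) = Subgroup.centralizer (Subgroup.zpowers g : Set G) := by
    rw [Subgroup.zpowers_eq_closure, Subgroup.centralizer_closure]
  have hM : D.image (Subgroup.zpowers g) = AddSubgroup.zmultiples (D.v g) := by
    ext w
    rw [mem_image, AddSubgroup.mem_zmultiples_iff]
    constructor
    · rintro ⟨x, hx, rfl⟩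
      obtain ⟨k, rfl⟩ := mem_powers_iff_mem_zpowers.mpr hx
      obtain ⟨c, -, -, hpow⟩ := D.exists_twist g
      exact ⟨geo c k, (hpow k).symm⟩
    · rintro ⟨z, rfl⟩
      obtain ⟨k, hk⟩ := D.exists_pow_v g z
      exact ⟨g ^ k, Subgroup.pow_mem _ (Subgroup.mem_zpowers g) k, hk⟩
  rw [hC]
  have h := (Subgroup.centralizer (Subgroup.zpowers g : Set G)).card_mul_index
  rw [D.card_centralizer, D.card_group, hM, ← card_mul_card_orth (AddSubgroup.zmultiples (D.v g)),
    Nat.card_zmultiples, mul_assoc, mul_comm (addOrderOf (D.v g))] at h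
  exact Nat.eq_of_mul_eq_mul_left Nat.card_pos (Nat.eq_of_mul_eq_mul_left Nat.card_pos h)

omit [Finite G] in
/-- Fibres of the coordinate map. -/
theorem card_fibre (D : Data G p) (P : R p D.n → Prop) :
    Nat.card {g : G // P (D.v g)} = Nat.card (Subgroup.center G) * Nat.card {w : R p D.n // P w} := by
  obtain ⟨σ, hσ⟩ := D.v_surjective.hasRightInverse
  rw [← Nat.card_prod]
  have hv : ∀ (w : R p D.n) (z : Subgroup.center G), D.v (σ w * z) = w := fun w z => by
    obtain ⟨c, -, hmul, -⟩ := D.exists_twist (σ w)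
    rw [hmul, (D.v_eq_zero_iff _).mpr z.2, smul_zero, add_zero, hσ]
  refine (Nat.card_eq_of_bijective
    (fun q : Subgroup.center G × {w : R p D.n // P w} => (⟨σ q.2 * q.1, by rw [hv]; exact q.2.2⟩ : {g : G // P (D.v g)}))
    ⟨?_, ?_⟩).symm
  · rintro ⟨z, w⟩ ⟨z', w'⟩ h
    have h1 : σ w * z = σ w' * z' := congrArg Subtype.val h
    have h2 : (w : R p D.n) = w' := by rw [← hv w z, h1, hv]
    rw [h2] at h1
    exact Prod.ext (Subtype.ext (mul_left_cancel h1)) (Subtype.ext h2)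
  · rintro ⟨g, hg⟩
    have hz : (σ (D.v g))⁻¹ * g ∈ Subgroup.center G := D.div_mem_center (hσ _).symm
    exact ⟨(⟨_, hz⟩, ⟨D.v g, hg⟩), Subtype.ext (mul_inv_cancel_left _ _)⟩

omit [Finite G] in
theorem smul_eq_zero_iff_exists (D : Data G p) {s : ℕ} (hs : s ≤ D.n) (w : R p D.n) :
    (p ^ (D.n - s) : ℕ) • w = 0 ↔ ∃ w' : R p D.n, w = ((p : ℤ) ^ s) • w' := by
  have key : ∀ x : ZMod (p ^ D.n), ((p ^ (D.n - s) : ℕ) : ℤ) • x = 0 ↔ ∃ y : ZMod (p ^ D.n), x = ((p : ℤ) ^ s) • y := by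
    intro x
    obtain ⟨z, rfl⟩ := ZMod.intCast_surjective x
    have e : (p : ℤ) ^ D.n = (p : ℤ) ^ (D.n - s) * (p : ℤ) ^ s := by rw [← pow_add, Nat.sub_add_cancel hs]
    constructor
    · intro h
      simp only [zsmul_eq_mul, ← Int.cast_mul] at h
      rw [Int.cast_mul, ← Int.cast_mul, D.cast_eq_zero, Nat.cast_pow, e] at h
      obtain ⟨q, rfl⟩ := (mul_dvd_mul_iff_left (pow_ne_zero _ (by exact_mod_cast hp.out.ne_zero))).mp h
      exact ⟨q, by simp only [zsmul_eq_mul]; push_cast; ring⟩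
    · rintro ⟨y, hy⟩
      obtain ⟨q, rfl⟩ := ZMod.intCast_surjective y
      simp only [zsmul_eq_mul] at hy ⊢
      rw [hy, ← Int.cast_mul, ← Int.cast_mul, D.cast_eq_zero, Nat.cast_pow, e, ← mul_assoc]
      exact dvd_mul_right _ _
  rw [← natCast_zsmul, Prod.ext_iff]
  simp only [Prod.smul_fst, Prod.smul_snd, Prod.fst_zero, Prod.snd_zero]
  rw [key, key]
  exact ⟨fun ⟨⟨a, ha⟩, ⟨b, hb⟩⟩ => ⟨(a, b), Prod.ext ha hb⟩,
    fun ⟨w', h⟩ => ⟨⟨w'.1, congrArg Prod.fst h⟩, ⟨w'.2, congrArg Prod.snd h⟩⟩⟩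

omit [Finite G] in
theorem card_killed_pair (D : Data G p) {i : ℕ} (hi : i ≤ D.n) :
    Nat.card {w : R p D.n // (p ^ i : ℕ) • w = 0} = p ^ (2 * i) := by
  have h : ∀ w : R p D.n, (p ^ i : ℕ) • w = 0 ↔
      (p : ZMod (p ^ D.n)) ^ i * w.1 = 0 ∧ (p : ZMod (p ^ D.n)) ^ i * w.2 = 0 := fun w => by
    rw [Prod.ext_iff]
    simp only [Prod.smul_fst, Prod.smul_snd, Prod.fst_zero, Prod.snd_zero]
    simp only [nsmul_eq_mul, Nat.cast_pow]
  rw [Nat.card_congr ((Equiv.subtypeEquivRight h).trans (Equiv.subtypeProdEquivProd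
      (p := fun x : ZMod (p ^ D.n) => (p : ZMod (p ^ D.n)) ^ i * x = 0) (q := fun x : ZMod (p ^ D.n) => (p : ZMod (p ^ D.n)) ^ i * x = 0))), Nat.card_prod,
    card_killed i hi, two_mul, pow_add]

omit [Finite G] in
theorem addOrderOf_le_iff (D : Data G p) (w : R p D.n) (k : ℕ) :
    addOrderOf w ≤ p ^ k ↔ (p ^ k : ℕ) • w = 0 := by
  rw [← addOrderOf_dvd_iff_nsmul_eq_zero]
  have h : addOrderOf w ∣ p ^ D.n := addOrderOf_dvd_of_nsmul_eq_zero (Prod.ext
    (by simp only [Prod.smul_fst]; simp only [nsmul_eq_mul, ZMod.natCast_self, zero_mul]; rfl)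
    (by simp only [Prod.smul_snd]; simp only [nsmul_eq_mul, ZMod.natCast_self, zero_mul]; rfl))
  obtain ⟨j, -, hj⟩ := (Nat.dvd_prime_pow hp.out).mp h
  rw [hj, Nat.pow_le_pow_iff_right hp.out.one_lt, Nat.pow_dvd_pow_iff_le_right hp.out.one_lt]

omit [Finite G] in
theorem card_order_eq (D : Data G p) {i : ℕ} (hi : 1 ≤ i) (hin : i ≤ D.n) :
    Nat.card {w : R p D.n // addOrderOf w = p ^ i} = p ^ (2 * i) - p ^ (2 * i - 2) := by
  classical
  have : NeZero (p ^ D.n) := ⟨pow_ne_zero _ hp.out.ne_zero⟩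
  have h1 := D.card_killed_pair hin
  have h2 := D.card_killed_pair (i := i - 1) (by omega)
  rw [Nat.card_eq_fintype_card, Fintype.card_subtype] at h1 h2 ⊢
  rw [show 2 * i - 2 = 2 * (i - 1) by omega, ← h1, ← h2, ← Finset.card_sdiff_of_subset]
  · congr 1
    ext w
    simp only [Finset.mem_sdiff, Finset.mem_filter, Finset.mem_univ, true_and, ← D.addOrderOf_le_iff]
    constructor
    · intro h
      rw [h]
      exact ⟨le_rfl, not_le.mpr (Nat.pow_lt_pow_right hp.out.one_lt (by omega))⟩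
    · rintro ⟨ha, hb⟩
      have h : addOrderOf w ∣ p ^ i := addOrderOf_dvd_iff_nsmul_eq_zero.mpr ((D.addOrderOf_le_iff w i).mp ha)
      obtain ⟨j, hj, hje⟩ := (Nat.dvd_prime_pow hp.out).mp h
      rw [hje, Nat.pow_le_pow_iff_right hp.out.one_lt] at hb
      rw [hje, show j = i by omega]
  · intro w
    simp only [Finset.mem_filter, Finset.mem_univ, true_and, ← D.addOrderOf_le_iff]
    exact fun h => h.trans (Nat.pow_le_pow_right hp.out.pos (Nat.sub_le _ _))

theorem frattini_eq (D : Data G p) (hn : 1 ≤ D.n) :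
    frattini G = Subgroup.closure {x : G | ∃ y : G, y ^ p ^ 1 = x} := by
  set N := Subgroup.closure {x : G | ∃ y : G, y ^ p ^ 1 = x}
  refine le_antisymm ?_ ?_
  · have hN : ∀ y : G, y ^ p ∈ N := fun y => Subgroup.subset_closure ⟨y, by rw [pow_one]⟩
    have hcomm : ∀ x y : G, ⁅x, y⁆ ∈ N := by
      intro x y
      rw [D.mem_powers_iff 1 hn]
      obtain ⟨i, j, rfl⟩ := D.cover x
      obtain ⟨k, l, rfl⟩ := D.cover y
      rw [commutatorElement_def, mul_assoc _ _ (D.a ^ k * D.b ^ l)⁻¹, ← mul_inv_rev, D.comm_form]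
      obtain ⟨q, hq⟩ := D.hr
      rw [hq, mul_assoc, mul_comm, zpow_mul, zpow_natCast]
      exact (D.mem_powers_iff 1 hn _).mp (Subgroup.subset_closure ⟨_, by rw [pow_one]⟩)
    exact CfsgLib.RankFrattini.frattini_le_of_elementary D.hpG N hcomm hN
  · rw [Subgroup.closure_le]
    rintro _ ⟨y, rfl⟩
    rw [pow_one]
    exact CfsgLib.pow_mem_frattini_pGroup D.hpG y

omit [Finite G] in
theorem pow_twisted (D : Data G p) (x q k : ℕ) :
    (D.a ^ x * D.b ^ q) ^ k = D.a ^ (x * ∑ l ∈ Finset.range k, (D.r ^ q) ^ l) * D.b ^ (q * k) := by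
  induction k with
  | zero => simp
  | succ k ih =>
    rw [pow_succ', ih, D.mul_form, Finset.sum_range_succ']
    congr 2
    · rw [mul_add x, pow_zero, mul_one, Finset.mul_sum, Finset.mul_sum, Finset.mul_sum, add_comm x]
      congr 1
      exact Finset.sum_congr rfl fun l _ => by ring
    · ring

omit [Finite G] in
theorem geo_natCast (r j : ℕ) : ((∑ l ∈ Finset.range j, r ^ l : ℕ) : ℤ) = geo (r : ℤ) j := by
  simp [geo]

omit [Finite G] in
/-- Solving `x * G + w ≡ 0`. -/
theorem exists_solution (D : Data G p) {e w' S : ℕ} {g : ℤ} (hS : (S : ℤ) = (p : ℤ) ^ e * g)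
    (hg : ¬ (p : ℤ) ∣ g) :
    ∃ x : ℕ, p ^ D.m ∣ x * S + p ^ e * w' ∧ (¬ p ∣ w' → 0 < D.m → ¬ p ∣ x) := by
  have hcop : IsCoprime g ((p : ℤ) ^ D.m) :=
    (((Nat.prime_iff_prime_int.mp hp.out).coprime_iff_not_dvd.mpr hg).pow_left).symm
  obtain ⟨c, d, hcd⟩ := hcop
  have hpos : (0 : ℤ) < (p : ℤ) ^ D.m := pow_pos (by exact_mod_cast hp.out.pos) _
  obtain ⟨x, hx⟩ := Int.eq_ofNat_of_zero_le (Int.emod_nonneg (-(w' : ℤ) * c) hpos.ne')
  have hmod : (p : ℤ) ^ D.m ∣ (x : ℤ) - (-(w' : ℤ) * c) := by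
    rw [← hx]; exact (Int.modEq_iff_dvd.mp (Int.mod_modEq _ _).symm)
  have h1 : (p : ℤ) ^ D.m ∣ (x : ℤ) * g + w' := by
    have := dvd_add (dvd_mul_of_dvd_left hmod g) (dvd_mul_left ((p : ℤ) ^ D.m) (w' * d))
    rwa [show ((x : ℤ) - -(w' : ℤ) * c) * g + (w' : ℤ) * d * (p : ℤ) ^ D.m = (x : ℤ) * g + w' by
      linear_combination (w' : ℤ) * hcd] at this
  refine ⟨x, Int.natCast_dvd_natCast.mp ?_, fun hw hm hpx => hw ?_⟩
  · push_cast
    rw [hS, show (x : ℤ) * ((p : ℤ) ^ e * g) + (p : ℤ) ^ e * w' = (p : ℤ) ^ e * (x * g + w') by ring]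
    exact dvd_mul_of_dvd_right h1 _
  · have h2 := dvd_sub ((dvd_pow_self (p : ℤ) hm.ne').trans h1) ((Int.natCast_dvd_natCast.mpr hpx).mul_right g)
    rw [add_sub_cancel_left] at h2
    exact Int.natCast_dvd_natCast.mp h2

/-- A factorization by two cyclic subgroups with trivial intersection. -/
theorem exists_cyclic_factor (D : Data G p) :
    ∃ A B : Subgroup G, IsCyclic ↥A ∧ IsCyclic ↥B ∧ A ⊓ B = ⊥ ∧ Nat.card ↥A * Nat.card ↥B = Nat.card G := by
  obtain ⟨w₀, hw₀⟩ := mem_powers_iff_mem_zpowers.mpr ((D.hbmem (p ^ D.s)).mpr dvd_rfl)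
  set w := w₀ % p ^ D.m
  have hw : D.a ^ w = D.b ^ p ^ D.s := by
    rw [show w = w₀ % orderOf D.a by rw [D.ha], pow_mod_orderOf]; exact hw₀
  have hwlt : w < p ^ D.m := Nat.mod_lt _ (pow_pos hp.out.pos _)
  have hcase : p ^ D.s ∣ w ∨ ∃ e w', e < D.s ∧ e < D.m ∧ ¬ p ∣ w' ∧ w = p ^ e * w' := by
    rcases eq_or_ne w 0 with h0 | h0
    · exact Or.inl (h0 ▸ dvd_zero _)
    obtain ⟨e, w', hw', he⟩ := Nat.exists_eq_pow_mul_and_not_dvd h0 p hp.out.ne_one
    by_cases hes : D.s ≤ e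
    · exact Or.inl (he ▸ (pow_dvd_pow p hes).trans (dvd_mul_right _ _))
    refine Or.inr ⟨e, w', by omega, ?_, hw', he⟩
    refine (Nat.pow_lt_pow_iff_right hp.out.one_lt).mp (lt_of_le_of_lt ?_ hwlt)
    rw [he]
    exact Nat.le_mul_of_pos_right _ (Nat.pos_of_ne_zero fun h => hw' (h ▸ dvd_zero _))
  rcases hcase with ⟨w', hw'⟩ | ⟨e, w', hes, hem, hw', hwe⟩
  · obtain ⟨g, hg, hgp⟩ := geo_val D.odd D.s (D.r : ℤ) D.hr 1 hp.out.not_dvd_one
    rw [mul_one] at hg
    obtain ⟨x, hx, -⟩ := D.exists_solution (w' := w') (S := ∑ l ∈ Finset.range (p ^ D.s), D.r ^ l)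
      (by rw [geo_natCast, hg]) hgp
    set B := D.a ^ x * D.b ^ 1
    have hpow : B ^ p ^ D.s = 1 := by
      rw [D.pow_twisted, one_mul, ← hw, ← pow_add, ← orderOf_dvd_iff_pow_eq_one, D.ha]
      simp only [pow_one]
      rwa [hw']
    have hmemk : ∀ k : ℕ, B ^ k ∈ Subgroup.zpowers D.a → B ^ k = 1 := by
      intro k hk
      rw [D.pow_twisted, one_mul, Subgroup.mul_mem_cancel_left _ (pow_mem (Subgroup.mem_zpowers _) _),
        D.hbmem] at hk
      obtain ⟨k', rfl⟩ := hk
      rw [pow_mul, hpow, one_pow]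
    have hord : orderOf B = p ^ D.s := by
      refine dvd_antisymm (orderOf_dvd_of_pow_eq_one hpow) ?_
      have h := hmemk (orderOf B)
      have h1 := pow_orderOf_eq_one B
      have h2 : B ^ orderOf B ∈ Subgroup.zpowers D.a := by rw [h1]; exact one_mem _
      rwa [D.pow_twisted, one_mul, Subgroup.mul_mem_cancel_left _ (pow_mem (Subgroup.mem_zpowers _) _),
        D.hbmem] at h2
    refine ⟨Subgroup.zpowers D.a, Subgroup.zpowers B, inferInstance, inferInstance, ?_, ?_⟩
    · rw [eq_bot_iff]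
      intro y hy
      obtain ⟨k, hk⟩ := mem_powers_iff_mem_zpowers.mpr (Subgroup.mem_inf.mp hy).2
      subst hk
      exact Subgroup.mem_bot.mpr (hmemk k (Subgroup.mem_inf.mp hy).1)
    · rw [Nat.card_zpowers, Nat.card_zpowers, D.ha, hord, D.hcard, pow_add]
  · have hm : 0 < D.m := by omega
    have hrq : (p : ℤ) ∣ ((D.r ^ p ^ (D.s - e) : ℕ) : ℤ) - 1 := by
      push_cast
      exact D.hr.trans ((sub_dvd_pow_sub_pow (D.r : ℤ) 1 _).trans (by rw [one_pow]))
    obtain ⟨g, hg, hgp⟩ := geo_val D.odd e _ hrq 1 hp.out.not_dvd_one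
    rw [mul_one] at hg
    obtain ⟨x, hx, hxp⟩ := D.exists_solution (w' := w') (S := ∑ l ∈ Finset.range (p ^ e), (D.r ^ p ^ (D.s - e)) ^ l)
      (by rw [geo_natCast, hg]) hgp
    set C := D.a ^ x * D.b ^ p ^ (D.s - e)
    have hpow : C ^ p ^ e = 1 := by
      rw [D.pow_twisted, ← pow_add p, Nat.sub_add_cancel hes.le, ← hw, ← pow_add, ← orderOf_dvd_iff_pow_eq_one,
        D.ha, hwe]
      exact hx
    have hmemk : ∀ k : ℕ, C ^ k ∈ Subgroup.zpowers D.b → p ^ e ∣ k := by
      intro k hk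
      rw [D.pow_twisted, Subgroup.mul_mem_cancel_right _ (pow_mem (Subgroup.mem_zpowers _) _)] at hk
      obtain ⟨j, hj⟩ := mem_powers_iff_mem_zpowers.mpr hk
      change D.b ^ j = _ at hj
      obtain ⟨j', rfl⟩ := (D.hbmem j).mp (hj ▸ pow_mem (Subgroup.mem_zpowers D.a) _)
      rw [pow_mul, ← hw, ← pow_mul, pow_eq_pow_iff_modEq, D.ha] at hj
      have h1 := ((hj.of_dvd (pow_dvd_pow p hem.le)).symm.dvd_iff dvd_rfl).mpr
        ((hwe ▸ dvd_mul_right (p ^ e) w').mul_right j')
      have h2 : p ^ e ∣ ∑ l ∈ Finset.range k, (D.r ^ p ^ (D.s - e)) ^ l :=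
        ((Nat.Coprime.pow_left e ((hp.out.coprime_iff_not_dvd).mpr (hxp hw' hm)))).dvd_of_dvd_mul_left h1
      rw [← Int.natCast_dvd_natCast, geo_natCast, Nat.cast_pow, pow_dvd_geo_iff D.odd hrq] at h2
      exact h2
    have hord : orderOf C = p ^ e :=
      dvd_antisymm (orderOf_dvd_of_pow_eq_one hpow) (hmemk _ (by rw [pow_orderOf_eq_one]; exact one_mem _))
    have hb : orderOf D.b = p ^ (D.s + (D.m - e)) := by
      have h1 : orderOf (D.a ^ w) = p ^ (D.m - e) := by
        rw [orderOf_pow D.a, D.ha, hwe]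
        have hg1 : Nat.gcd (p ^ D.m) (p ^ e * w') = p ^ e := by
          rw [show p ^ D.m = p ^ e * p ^ (D.m - e) by rw [← pow_add, Nat.add_sub_cancel' hem.le],
            Nat.gcd_mul_left, (Nat.Coprime.pow_left _ ((hp.out.coprime_iff_not_dvd).mpr hw')).gcd_eq_one, mul_one]
        rw [hg1, Nat.pow_div hem.le hp.out.pos]
      have hdvd : p ^ D.s ∣ orderOf D.b := (D.hbmem _).mp (by rw [pow_orderOf_eq_one]; exact one_mem _)
      rw [hw, orderOf_pow D.b, Nat.gcd_eq_right hdvd] at h1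
      rw [pow_add, ← h1, Nat.mul_div_cancel' hdvd]
    refine ⟨Subgroup.zpowers C, Subgroup.zpowers D.b, inferInstance, inferInstance, ?_, ?_⟩
    · rw [eq_bot_iff]
      intro y hy
      obtain ⟨k, hk⟩ := mem_powers_iff_mem_zpowers.mpr (Subgroup.mem_inf.mp hy).1
      subst hk
      obtain ⟨k', rfl⟩ := hmemk k (Subgroup.mem_inf.mp hy).2
      exact Subgroup.mem_bot.mpr (by change C ^ (p ^ e * k') = 1; rw [pow_mul, hpow, one_pow])
    · rw [Nat.card_zpowers, Nat.card_zpowers, hb, hord, D.hcard, ← pow_add]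
      congr 1
      omega

end CfsgLib.Metacyclic.Data
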