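import Mathlib
import Cfsg.Prelude.Def_OddOrderLocal
import Cfsg.Agent.Lib.MetacyclicCoord

/-!
Metacyclic `p`-groups for odd `p`, in coordinates modulo the centre.
-/

set_option autoImplicit false

namespace CfsgLib.Metacyclic

open scoped commutatorElement

/-- Geometric sums. -/
def geo (r : ℤ) (j : ℕ) : ℤ := ∑ x ∈ Finset.range j, r ^ x

theorem geo_add (r : ℤ) (j l : ℕ) : geo r (j + l) = geo r j + r ^ j * geo r l := by
  simp only [geo, Finset.sum_range_add, Finset.mul_sum, pow_add]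

theorem geo_mul (r : ℤ) (j l : ℕ) : geo r (j * l) = geo r j * geo (r ^ j) l := by
  induction l with
  | zero => simp [geo]
  | succ l ih =>
    rw [Nat.mul_succ, geo_add, ih, geo, geo, geo, Finset.sum_range_succ, ← pow_mul]
    ring

theorem sub_one_mul_geo (r : ℤ) (j : ℕ) : (r - 1) * geo r j = r ^ j - 1 := by
  rw [geo, mul_comm, geom_sum_mul]

variable {p : ℕ} [hp : Fact p.Prime]

omit hp in
theorem geo_modEq {r : ℤ} (hr : (p : ℤ) ∣ r - 1) (j : ℕ) : (p : ℤ) ∣ geo r j - j := by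
  induction j with
  | zero => simp [geo]
  | succ j ih =>
    rw [geo, Finset.sum_range_succ, ← geo]
    have h1 : (p : ℤ) ∣ r ^ j - 1 := hr.trans ((sub_dvd_pow_sub_pow r 1 j).trans (by rw [one_pow]))
    have h2 := dvd_add ih h1
    rwa [show geo r j - (j : ℤ) + (r ^ j - 1) = geo r j + r ^ j - ((j + 1 : ℕ) : ℤ) by push_cast; ring] at h2

theorem geo_prime (hodd : Odd p) {r : ℤ} (hr : (p : ℤ) ∣ r - 1) :
    ∃ c : ℤ, geo r p = (p : ℤ) * (1 + p * c) := by
  obtain ⟨b, hb⟩ := hr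
  have h1 := odd_sq_dvd_geom_sum₂_sub (a := (1 : ℤ)) b hodd
  simp only [one_pow, mul_one] at h1
  rw [show (1 : ℤ) + (p : ℤ) * b = r by linarith] at h1
  obtain ⟨c, hc⟩ := h1
  exact ⟨c, by rw [geo]; linear_combination hc⟩

theorem geo_val (hodd : Odd p) : ∀ (e : ℕ) (r : ℤ), (p : ℤ) ∣ r - 1 → ∀ w : ℕ, ¬ p ∣ w →
    ∃ x : ℤ, geo r (p ^ e * w) = (p : ℤ) ^ e * x ∧ ¬ (p : ℤ) ∣ x := by
  intro e
  induction e with
  | zero =>
    intro r hr w hw
    refine ⟨geo r w, by simp, fun h => hw ?_⟩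
    have := dvd_sub h (geo_modEq hr w)
    rw [sub_sub_cancel] at this
    exact Int.natCast_dvd_natCast.mp this
  | succ e ih =>
    intro r hr w hw
    obtain ⟨c, hc⟩ := geo_prime hodd hr
    have hr' : (p : ℤ) ∣ r ^ p - 1 := hr.trans ((sub_dvd_pow_sub_pow r 1 p).trans (by rw [one_pow]))
    obtain ⟨x, hx, hx'⟩ := ih (r ^ p) hr' w hw
    refine ⟨(1 + p * c) * x, ?_, fun h => hx' ?_⟩
    · rw [pow_succ' p e, mul_assoc, geo_mul, hc, hx]; ring
    · have h2 : (p : ℤ) ∣ (1 + p * c) * x - p * (c * x) := dvd_sub h (dvd_mul_right _ _)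
      rwa [show (1 + (p : ℤ) * c) * x - p * (c * x) = x by ring] at h2

theorem pow_dvd_geo_iff (hodd : Odd p) {r : ℤ} (hr : (p : ℤ) ∣ r - 1) (k j : ℕ) :
    (p : ℤ) ^ k ∣ geo r j ↔ p ^ k ∣ j := by
  rcases eq_or_ne j 0 with rfl | hj
  · simp [geo]
  obtain ⟨e, w, hw, rfl⟩ := Nat.exists_eq_pow_mul_and_not_dvd hj p hp.out.ne_one
  obtain ⟨x, hx, hx'⟩ := geo_val hodd e r hr w hw
  rw [hx]
  constructor
  · intro h
    have hke : k ≤ e := by
      by_contra hc
      push Not at hc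
      have h1 := (pow_dvd_pow (p : ℤ) hc).trans h
      rw [pow_succ, mul_dvd_mul_iff_left (pow_ne_zero _ (by exact_mod_cast hp.out.ne_zero))] at h1
      exact hx' h1
    exact (pow_dvd_pow p hke).trans (dvd_mul_right _ _)
  · intro h
    have hke : k ≤ e := by
      by_contra hc
      push Not at hc
      have h1 := (pow_dvd_pow p hc).trans h
      rw [pow_succ, Nat.mul_dvd_mul_iff_left (pow_pos hp.out.pos _)] at h1
      exact hw h1
    exact (pow_dvd_pow _ hke).trans (dvd_mul_right _ _)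

variable {G : Type*} [Group G]

/-- A presentation of an odd metacyclic `p`-group. -/
structure Data (G : Type*) [Group G] (p : ℕ) where
  a : G
  b : G
  r : ℕ
  m : ℕ
  s : ℕ
  n : ℕ
  t : ℕ
  u : ℤ
  odd : Odd p
  hpG : IsPGroup p G
  ha : orderOf a = p ^ m
  hm : t + n = m
  hr : (p : ℤ) ∣ (r : ℤ) - 1
  hru : (r : ℤ) - 1 = (p : ℤ) ^ t * u
  hu : IsCoprime u ((p : ℤ) ^ n)
  hconj : b * a * b⁻¹ = a ^ r
  hcard : Nat.card G = p ^ (m + s)
  cover : ∀ g : G, ∃ i j : ℕ, g = a ^ i * b ^ j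
  hbmem : ∀ j : ℕ, b ^ j ∈ Subgroup.zpowers a ↔ p ^ s ∣ j

theorem exists_data [Finite G] (hp2 : p ≠ 2) (hG : IsPGroup p G) (hmc : Cfsg.IsMetacyclic G) :
    Nonempty (Data G p) := by
  obtain ⟨N, hN, hNc, hQc⟩ := hmc
  obtain ⟨⟨a, haN⟩, ha⟩ := hNc.exists_generator
  obtain ⟨β, hβ⟩ := hQc.exists_generator
  obtain ⟨b, rfl⟩ := QuotientGroup.mk'_surjective N β
  have hNa : N = Subgroup.zpowers a := by
    refine le_antisymm (fun x hx => ?_) (Subgroup.zpowers_le.mpr haN)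
    obtain ⟨k, hk⟩ := ha ⟨x, hx⟩
    exact ⟨k, congrArg Subtype.val hk⟩
  obtain ⟨m, hm⟩ := IsPGroup.iff_orderOf.mp hG a
  obtain ⟨s, hs⟩ := IsPGroup.iff_orderOf.mp (hG.to_quotient N) (QuotientGroup.mk' N b)
  have hbmem : ∀ j : ℕ, b ^ j ∈ Subgroup.zpowers a ↔ p ^ s ∣ j := fun j => by
    rw [← hNa, ← hs, orderOf_dvd_iff_pow_eq_one, ← map_pow, QuotientGroup.mk'_apply, QuotientGroup.eq_one_iff]
  have hconjN : b * a * b⁻¹ ∈ Subgroup.zpowers a := hNa ▸ hN.conj_mem a haN b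
  obtain ⟨r₀, hr₀⟩ := mem_powers_iff_mem_zpowers.mpr hconjN
  -- choose an exponent congruent to one modulo p
  obtain ⟨r, hr, hconj⟩ : ∃ r : ℕ, (p : ℤ) ∣ (r : ℤ) - 1 ∧ b * a * b⁻¹ = a ^ r := by
    rcases Nat.eq_zero_or_pos m with h0 | h0
    · refine ⟨1, by simp, ?_⟩
      rw [h0, pow_zero, orderOf_eq_one_iff] at hm
      simp [hm]
    refine ⟨r₀, ?_, hr₀.symm⟩
    obtain ⟨k, hk⟩ := IsPGroup.iff_orderOf.mp hG b
    have h1 : ∀ j : ℕ, b ^ j * a * (b ^ j)⁻¹ = a ^ (r₀ ^ j) := by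
      intro j
      induction j with
      | zero => simp
      | succ j ih =>
        rw [pow_succ' b, pow_succ' r₀, pow_mul, show a ^ r₀ = b * a * b⁻¹ from hr₀, conj_pow, ← ih]
        group
    have h2 := h1 (p ^ k)
    rw [← hk, pow_orderOf_eq_one, one_mul, inv_one, mul_one, hk] at h2
    have h3 : a ^ 1 = a ^ (r₀ ^ p ^ k) := by rw [pow_one]; exact h2
    rw [pow_eq_pow_iff_modEq, hm] at h3
    have h4 : ((r₀ ^ p ^ k : ℕ) : ZMod p) = ((1 : ℕ) : ZMod p) :=
      (ZMod.natCast_eq_natCast_iff _ _ _).mpr ((h3.of_dvd (dvd_pow_self p h0.ne')).symm)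
    rw [Nat.cast_pow, ZMod.pow_card_pow, Nat.cast_one] at h4
    rw [← ZMod.intCast_zmod_eq_zero_iff_dvd]
    push_cast
    rw [h4, sub_self]
  obtain ⟨t, ht, hd⟩ := (Nat.dvd_prime_pow hp.out).mp
    (show Int.gcd ((r : ℤ) - 1) ((p : ℤ) ^ m) ∣ p ^ m from
      Int.natCast_dvd_natCast.mp (by rw [Nat.cast_pow]; exact Int.gcd_dvd_right _ _))
  have hdvd : (p : ℤ) ^ t ∣ (r : ℤ) - 1 := by
    rw [← Nat.cast_pow, ← hd]; exact Int.gcd_dvd_left _ _
  obtain ⟨u, hu⟩ := hdvd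
  have hucop : IsCoprime u ((p : ℤ) ^ (m - t)) := by
    rcases Nat.eq_zero_or_pos (m - t) with h0 | h0
    · rw [h0, pow_zero]; exact isCoprime_one_right
    refine ((Nat.prime_iff_prime_int.mp hp.out).coprime_iff_not_dvd.mpr fun hdu => ?_).symm.pow_right
    have h1 : ((p ^ (t + 1) : ℕ) : ℤ) ∣ Int.gcd ((r : ℤ) - 1) ((p : ℤ) ^ m) := by
      refine Int.dvd_coe_gcd ?_ ?_
      · rw [hu, Nat.cast_pow, pow_succ]; exact mul_dvd_mul_left _ hdu
      · rw [Nat.cast_pow]; exact pow_dvd_pow _ (by omega)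
    rw [hd] at h1
    have h2 := (Nat.pow_dvd_pow_iff_le_right hp.out.one_lt).mp (Int.natCast_dvd_natCast.mp h1)
    omega
  have hodd : Odd p := hp.out.odd_of_ne_two hp2
  refine ⟨⟨a, b, r, m, s, m - t, t, u, hodd, hG, hm, by omega, hr, hu, hucop, hconj, ?_, ?_, hbmem⟩⟩
  · rw [← N.card_mul_index, Subgroup.index, ← orderOf_eq_card_of_forall_mem_zpowers hβ, hs, hNa,
      Nat.card_zpowers, hm, pow_add]
  · intro g
    obtain ⟨k, hk⟩ := mem_powers_iff_mem_zpowers.mpr (hβ (QuotientGroup.mk' N g))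
    have h1 : g * (b ^ k)⁻¹ ∈ N := by
      rw [← QuotientGroup.eq_one_iff, ← QuotientGroup.mk'_apply, map_mul, map_inv, map_pow]
      show QuotientGroup.mk' N g * ((QuotientGroup.mk' N b) ^ k)⁻¹ = 1
      rw [show (QuotientGroup.mk' N b) ^ k = QuotientGroup.mk' N g from hk, mul_inv_cancel]
    rw [hNa] at h1
    obtain ⟨i, hi⟩ := mem_powers_iff_mem_zpowers.mpr h1
    exact ⟨i, k, by rw [show a ^ i = g * (b ^ k)⁻¹ from hi, inv_mul_cancel_right]⟩

namespace Data

variable (D : Data G p)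

theorem conj_pow_b (j k : ℕ) : D.b ^ j * D.a ^ k = D.a ^ (D.r ^ j * k) * D.b ^ j := by
  have h1 : ∀ j : ℕ, D.b ^ j * D.a * (D.b ^ j)⁻¹ = D.a ^ (D.r ^ j) := by
    intro j
    induction j with
    | zero => simp
    | succ j ih =>
      rw [pow_succ' D.b, pow_succ' D.r, pow_mul, ← D.hconj, conj_pow, ← ih]
      group
  rw [pow_mul, ← h1, conj_pow, inv_mul_cancel_right]

theorem mul_form (i j k l : ℕ) :
    D.a ^ i * D.b ^ j * (D.a ^ k * D.b ^ l) = D.a ^ (i + D.r ^ j * k) * D.b ^ (j + l) := by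
  rw [pow_add, pow_add, mul_assoc, ← mul_assoc (D.b ^ j), D.conj_pow_b]
  simp only [mul_assoc]

/-- The commutator in coordinates. -/
theorem comm_form (i j k l : ℕ) :
    D.a ^ i * D.b ^ j * (D.a ^ k * D.b ^ l) * (D.a ^ k * D.b ^ l * (D.a ^ i * D.b ^ j))⁻¹ =
      D.a ^ (((D.r : ℤ) - 1) * (geo D.r j * k - geo D.r l * i)) := by
  rw [D.mul_form, D.mul_form, add_comm l j, mul_inv_rev, mul_assoc, mul_inv_cancel_left,
    ← zpow_natCast D.a (i + D.r ^ j * k), ← zpow_natCast D.a (k + D.r ^ l * i), ← zpow_neg, ← zpow_add]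
  congr 1
  push_cast
  linear_combination (i : ℤ) * sub_one_mul_geo (D.r : ℤ) l - (k : ℤ) * sub_one_mul_geo (D.r : ℤ) j

omit hp in
theorem dvd_of_zpow_eq_one [Fact p.Prime] {X : ℤ} (h : D.a ^ (((D.r : ℤ) - 1) * X) = 1) : (p : ℤ) ^ D.n ∣ X := by
  rw [← orderOf_dvd_iff_zpow_eq_one, D.ha, Nat.cast_pow, ← D.hm, pow_add, D.hru, mul_assoc,
    mul_dvd_mul_iff_left (pow_ne_zero _ (by exact_mod_cast (Fact.out : p.Prime).ne_zero))] at h
  exact D.hu.symm.dvd_of_dvd_mul_left h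

/-- Congruence of the commutation of two elements. -/
theorem commute_iff (i j k l : ℕ) :
    Commute (D.a ^ i * D.b ^ j) (D.a ^ k * D.b ^ l) ↔
      (p : ℤ) ^ D.n ∣ geo D.r j * k - geo D.r l * i := by
  rw [commute_iff_eq, ← mul_inv_eq_one, D.comm_form]
  refine ⟨D.dvd_of_zpow_eq_one, fun h => ?_⟩
  obtain ⟨c, hc⟩ := h
  rw [← orderOf_dvd_iff_zpow_eq_one, D.ha, Nat.cast_pow, ← D.hm, pow_add, hc, D.hru]
  exact ⟨D.u * c, by ring⟩

/-- Coordinates of a presentation. -/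
def vrep (i j : ℕ) : R p D.n := ((i : ZMod (p ^ D.n)), ((geo D.r j : ℤ) : ZMod (p ^ D.n)))

omit hp in
theorem cast_eq_zero (z : ℤ) : ((z : ℤ) : ZMod (p ^ D.n)) = 0 ↔ (p : ℤ) ^ D.n ∣ z := by
  rw [ZMod.intCast_zmod_eq_zero_iff_dvd, Nat.cast_pow]

theorem commute_iff_det (i j k l : ℕ) :
    Commute (D.a ^ i * D.b ^ j) (D.a ^ k * D.b ^ l) ↔ det (D.vrep i j) (D.vrep k l) = 0 := by
  rw [D.commute_iff, ← D.cast_eq_zero, det_swap, neg_eq_zero]
  simp only [det, vrep]
  push_cast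
  rw [mul_comm (k : ZMod (p ^ D.n))]

/-- Coordinates modulo the centre. -/
noncomputable def v (g : G) : R p D.n :=
  D.vrep (D.cover g).choose (D.cover g).choose_spec.choose

theorem v_eq {g : G} {i j : ℕ} (h : g = D.a ^ i * D.b ^ j) : D.v g = D.vrep i j := by
  set i' := (D.cover g).choose
  set j' := (D.cover g).choose_spec.choose
  have h' : g = D.a ^ i' * D.b ^ j' := (D.cover g).choose_spec.choose_spec
  show D.vrep i' j' = D.vrep i j
  have key : ∀ k l : ℕ, (p : ℤ) ^ D.n ∣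
      (geo D.r j' * k - geo D.r l * i') - (geo D.r j * k - geo D.r l * i) := by
    intro k l
    refine D.dvd_of_zpow_eq_one ?_
    rw [mul_sub, zpow_sub, ← D.comm_form, ← D.comm_form, ← h, ← h', mul_inv_cancel]
  have h1 := key 1 0
  have h2 := key 0 1
  simp only [geo, Finset.range_zero, Finset.sum_empty, Finset.range_one, Finset.sum_singleton,
    pow_zero, Nat.cast_one, Nat.cast_zero, mul_one, mul_zero, one_mul, zero_mul, sub_zero, zero_sub] at h1 h2
  rw [← D.cast_eq_zero] at h1 h2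
  push_cast at h1 h2
  refine Prod.ext ?_ ?_
  · simp only [vrep]
    linear_combination (-1 : ZMod (p ^ D.n)) * h2
  · simp only [vrep, geo]
    push_cast
    linear_combination h1

theorem commute_iff_v (x y : G) : Commute x y ↔ det (D.v x) (D.v y) = 0 := by
  obtain ⟨i, j, rfl⟩ := D.cover x
  obtain ⟨k, l, rfl⟩ := D.cover y
  rw [D.v_eq rfl, D.v_eq rfl]
  exact D.commute_iff_det i j k l

theorem v_one : D.v 1 = 0 := by
  rw [D.v_eq (i := 0) (j := 0) (by simp)]
  simp [vrep, geo]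

/-- The scalar by which an element twists the coordinates of what follows it. -/
def IsTwist (x : G) (c : ℤ) : Prop := (p : ℤ) ∣ c - 1 ∧
  (∀ y : G, D.v (x * y) = D.v x + c • D.v y) ∧ ∀ k : ℕ, D.v (x ^ k) = geo c k • D.v x

theorem exists_twist (x : G) : ∃ c : ℤ, D.IsTwist x c := by
  obtain ⟨i, j, rfl⟩ := D.cover x
  refine ⟨(D.r : ℤ) ^ j, D.hr.trans ((sub_dvd_pow_sub_pow _ 1 j).trans (by rw [one_pow])), ?_, ?_⟩
  · intro y
    obtain ⟨k, l, rfl⟩ := D.cover y
    rw [D.v_eq (D.mul_form i j k l), D.v_eq rfl, D.v_eq rfl]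
    refine Prod.ext ?_ ?_
    · simp only [vrep, Prod.fst_add, Prod.smul_fst]
      simp only [zsmul_eq_mul]
      push_cast; ring
    · simp only [vrep, Prod.snd_add, Prod.smul_snd]
      simp only [zsmul_eq_mul, geo_add]
      push_cast; ring
  · intro k
    induction k with
    | zero => rw [pow_zero, D.v_one]; simp [geo]
    | succ k ih =>
      obtain ⟨k', l', e⟩ := D.cover ((D.a ^ i * D.b ^ j) ^ k)
      rw [pow_succ', e, D.v_eq (D.mul_form i j k' l'), D.v_eq (g := D.a ^ i * D.b ^ j) rfl, add_comm k 1, geo_add]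
      rw [e, D.v_eq (g := D.a ^ k' * D.b ^ l') rfl, D.v_eq (g := D.a ^ i * D.b ^ j) rfl] at ih
      refine Prod.ext ?_ ?_
      · have h1 := congrArg Prod.fst ih
        simp only [vrep, Prod.smul_fst] at h1 ⊢
        simp only [zsmul_eq_mul] at h1 ⊢
        push_cast at h1 ⊢
        simp only [geo, Finset.range_one, Finset.sum_singleton, pow_zero, pow_one, Int.cast_one] at h1 ⊢
        linear_combination ((D.r : ZMod (p ^ D.n)) ^ j) * h1
      · have h1 := congrArg Prod.snd ih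
        simp only [vrep, Prod.smul_snd] at h1 ⊢
        simp only [zsmul_eq_mul, geo_add] at h1 ⊢
        push_cast at h1 ⊢
        simp only [geo, Finset.range_one, Finset.sum_singleton, pow_zero, pow_one, Int.cast_one] at h1 ⊢
        linear_combination ((D.r : ZMod (p ^ D.n)) ^ j) * h1

theorem geo_surjective {c : ℤ} (hc : (p : ℤ) ∣ c - 1) (z : ℤ) :
    ∃ k : ℕ, ((geo c k : ℤ) : ZMod (p ^ D.n)) = z := by
  have hinj : Function.Injective (fun k : Fin (p ^ D.n) => ((geo c k : ℤ) : ZMod (p ^ D.n))) := by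
    intro x y h
    wlog hle : (x : ℕ) ≤ y generalizing x y
    · exact (this h.symm (le_of_not_ge hle)).symm
    have h1 : (p : ℤ) ^ D.n ∣ geo c y - geo c x := by
      rw [← D.cast_eq_zero]; push_cast; exact sub_eq_zero.mpr h.symm
    obtain ⟨d, hd⟩ := Nat.exists_eq_add_of_le hle
    rw [hd, geo_add, add_sub_cancel_left] at h1
    have hcop : IsCoprime ((p : ℤ) ^ D.n) (c ^ (x : ℕ)) := by
      refine ((Nat.prime_iff_prime_int.mp hp.out).coprime_iff_not_dvd.mpr fun h => ?_).pow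
      have := dvd_sub h hc
      rw [sub_sub_cancel] at this
      exact (Nat.prime_iff_prime_int.mp hp.out).not_dvd_one this
    have h2 := (pow_dvd_geo_iff D.odd hc D.n d).mp (hcop.dvd_of_dvd_mul_left h1)
    have hlt : d < p ^ D.n := by have := y.2; omega
    have := Nat.eq_zero_of_dvd_of_lt h2 hlt
    exact Fin.ext (by omega)
  have : NeZero (p ^ D.n) := ⟨pow_ne_zero _ hp.out.ne_zero⟩
  obtain ⟨k, hk⟩ := (Fintype.bijective_iff_injective_and_card _).mpr ⟨hinj, by simp⟩ |>.2 (z : ZMod (p ^ D.n))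
  exact ⟨k, hk⟩

theorem exists_pow_v (x : G) (z : ℤ) : ∃ k : ℕ, D.v (x ^ k) = z • D.v x := by
  obtain ⟨c, hc, -, hpow⟩ := D.exists_twist x
  obtain ⟨k, hk⟩ := D.geo_surjective hc z
  refine ⟨k, ?_⟩
  rw [hpow, ← Int.cast_smul_eq_zsmul (ZMod (p ^ D.n)), ← Int.cast_smul_eq_zsmul (ZMod (p ^ D.n)), hk]

theorem v_surjective : Function.Surjective D.v := by
  rintro ⟨x, y⟩
  obtain ⟨y, rfl⟩ := ZMod.intCast_surjective y
  obtain ⟨j, hj⟩ := D.geo_surjective D.hr y
  have : NeZero (p ^ D.n) := ⟨pow_ne_zero _ hp.out.ne_zero⟩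
  refine ⟨D.a ^ x.val * D.b ^ j, ?_⟩
  rw [D.v_eq rfl]
  simp only [vrep, ZMod.natCast_zmod_val, hj]

theorem v_eq_zero_iff (x : G) : D.v x = 0 ↔ x ∈ Subgroup.center G := by
  rw [Subgroup.mem_center_iff]
  constructor
  · intro h y
    exact ((D.commute_iff_v x y).mpr (by rw [h]; simp [det])).eq.symm
  · intro h
    have key : ∀ w : R p D.n, det (D.v x) w = 0 := fun w => by
      obtain ⟨y, rfl⟩ := D.v_surjective w
      exact (D.commute_iff_v x y).mp (h y).symm
    have h1 := key (0, 1)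
    have h2 := key (1, 0)
    simp only [det, mul_one, mul_zero, sub_zero, zero_sub, neg_eq_zero] at h1 h2
    exact Prod.ext h1 h2

theorem scalar_inv {c : ℤ} (hc : (p : ℤ) ∣ c - 1) : ∃ d : ℤ, ∀ w : R p D.n, d • c • w = w := by
  have hcop : IsCoprime c ((p : ℤ) ^ D.n) := by
    refine (((Nat.prime_iff_prime_int.mp hp.out).coprime_iff_not_dvd.mpr fun h => ?_).pow_left).symm
    have := dvd_sub h hc
    rw [sub_sub_cancel] at this
    exact (Nat.prime_iff_prime_int.mp hp.out).not_dvd_one this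
  obtain ⟨d, e, hde⟩ := hcop
  refine ⟨d, fun w => ?_⟩
  have h1 : ((d : ℤ) : ZMod (p ^ D.n)) * c = 1 := by
    have := congrArg (fun q : ℤ => (q : ZMod (p ^ D.n))) hde
    push_cast at this
    rw [← Nat.cast_pow, ZMod.natCast_self, mul_zero, add_zero] at this
    exact this
  rw [← mul_smul, ← Int.cast_smul_eq_zsmul (ZMod (p ^ D.n))]
  push_cast
  rw [h1, one_smul]

/-- The coordinate image of a subgroup. -/
noncomputable def image (H : Subgroup G) : AddSubgroup (R p D.n) where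
  carrier := D.v '' H
  zero_mem' := ⟨1, H.one_mem, D.v_one⟩
  add_mem' := by
    rintro _ _ ⟨x, hx, rfl⟩ ⟨y, hy, rfl⟩
    obtain ⟨c, hc, hmul, -⟩ := D.exists_twist x
    obtain ⟨d, hd⟩ := D.scalar_inv hc
    obtain ⟨k, hk⟩ := D.exists_pow_v y d
    exact ⟨x * y ^ k, H.mul_mem hx (H.pow_mem hy k), by rw [hmul, hk, smul_comm, hd]⟩
  neg_mem' := by
    rintro _ ⟨x, hx, rfl⟩
    obtain ⟨k, hk⟩ := D.exists_pow_v x (-1)
    exact ⟨x ^ k, H.pow_mem hx k, by rw [hk, neg_one_zsmul]⟩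

theorem mem_image {H : Subgroup G} {w : R p D.n} : w ∈ D.image H ↔ ∃ x ∈ H, D.v x = w := Iff.rfl

theorem v_mem_image {H : Subgroup G} {x : G} (h : x ∈ H) : D.v x ∈ D.image H := ⟨x, h, rfl⟩

theorem image_top : D.image ⊤ = ⊤ :=
  top_le_iff.mp fun w _ => by obtain ⟨x, rfl⟩ := D.v_surjective w; exact D.v_mem_image trivial

theorem div_mem_center {x y : G} (h : D.v x = D.v y) : y⁻¹ * x ∈ Subgroup.center G := by
  rw [← D.v_eq_zero_iff]
  obtain ⟨c, -, hmul, -⟩ := D.exists_twist y⁻¹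
  rw [hmul, h, ← hmul, inv_mul_cancel, D.v_one]

theorem mem_iff_of_center_le {H : Subgroup G} (hZ : Subgroup.center G ≤ H) (x : G) :
    x ∈ H ↔ D.v x ∈ D.image H := by
  refine ⟨D.v_mem_image, fun ⟨y, hy, hxy⟩ => ?_⟩
  have := H.mul_mem hy (hZ (D.div_mem_center hxy.symm))
  rwa [mul_inv_cancel_left] at this

theorem card_of_center_le [Finite G] {H : Subgroup G} (hZ : Subgroup.center G ≤ H) :
    Nat.card H = Nat.card (Subgroup.center G) * Nat.card (D.image H) := by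
  have e : Nat.card (H ⧸ (Subgroup.center G).subgroupOf H) = Nat.card (D.image H) := by
    refine Nat.card_eq_of_bijective (Quotient.lift (fun x : H => (⟨D.v x, D.v_mem_image x.2⟩ : D.image H))
      (fun x y h => Subtype.ext ?_)) ⟨?_, ?_⟩
    · have h1 : ((x⁻¹ * y : H) : G) ∈ Subgroup.center G :=
        Subgroup.mem_subgroupOf.mp (QuotientGroup.leftRel_apply.mp (h : (QuotientGroup.leftRel _) x y))
      obtain ⟨c, -, hmul, -⟩ := D.exists_twist (x : G)
      have h2 : (y : G) = (x : G) * ((x⁻¹ * y : H) : G) := by simp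
      show D.v x = D.v y
      rw [h2, hmul, (D.v_eq_zero_iff _).mpr h1, smul_zero, add_zero]
    · rintro ⟨x⟩ ⟨y⟩ h
      refine QuotientGroup.eq.mpr ?_
      exact D.div_mem_center (congrArg Subtype.val h).symm
    · rintro ⟨_, x, hx, rfl⟩
      exact ⟨Quotient.mk _ ⟨x, hx⟩, rfl⟩
  rw [← ((Subgroup.center G).subgroupOf H).card_mul_index, Subgroup.index, e,
    Nat.card_congr (Subgroup.subgroupOfEquivOfLe hZ).toEquiv]

theorem card_group [Finite G] : Nat.card G = Nat.card (Subgroup.center G) * p ^ (2 * D.n) := by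
  have : NeZero (p ^ D.n) := ⟨pow_ne_zero _ hp.out.ne_zero⟩
  rw [← Subgroup.card_top (G := G), D.card_of_center_le le_top, D.image_top, AddSubgroup.card_top,
    Nat.card_prod, Nat.card_zmod, two_mul, pow_add]

theorem mem_centralizer_iff' {H : Subgroup G} (x : G) :
    x ∈ Subgroup.centralizer (H : Set G) ↔ D.v x ∈ orth (D.image H) := by
  rw [Subgroup.mem_centralizer_iff, mem_orth]
  constructor
  · rintro h _ ⟨y, hy, rfl⟩
    exact (D.commute_iff_v y x).mp (h y hy)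
  · exact fun h y hy => ((D.commute_iff_v y x).mpr (h _ (D.v_mem_image hy))).eq

theorem image_centralizer (H : Subgroup G) :
    D.image (Subgroup.centralizer (H : Set G)) = orth (D.image H) := by
  refine le_antisymm ?_ fun w hw => ?_
  · rintro _ ⟨x, hx, rfl⟩
    exact (D.mem_centralizer_iff' x).mp hx
  · obtain ⟨x, rfl⟩ := D.v_surjective w
    exact D.v_mem_image ((D.mem_centralizer_iff' x).mpr hw)

theorem isMulCommutative_iff (H : Subgroup G) : IsMulCommutative H ↔ D.image H ≤ orth (D.image H) := by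
  rw [← Subgroup.le_centralizer_iff_isMulCommutative]
  exact ⟨fun h w ⟨x, hx, e⟩ => e ▸ (D.mem_centralizer_iff' x).mp (h hx),
    fun h x hx => (D.mem_centralizer_iff' x).mpr (h (D.v_mem_image hx))⟩

theorem image_sup_center (H : Subgroup G) : D.image (H ⊔ Subgroup.center G) = D.image H := by
  refine le_antisymm ?_ fun w ⟨x, hx, e⟩ => ⟨x, Subgroup.mem_sup_left hx, e⟩
  rintro _ ⟨x, hx, rfl⟩
  obtain ⟨y, hy, z, hz, rfl⟩ := Subgroup.mem_sup_of_normal_right.mp hx
  obtain ⟨c, -, hmul, -⟩ := D.exists_twist y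
  rw [hmul, (D.v_eq_zero_iff z).mpr hz, smul_zero, add_zero]
  exact D.v_mem_image hy

theorem card_commutator [Finite G] : Nat.card (commutator G) = p ^ D.n := by
  set c := D.a ^ ((D.r : ℤ) - 1) with hc
  have hle : commutator G = Subgroup.zpowers c := by
    refine le_antisymm ?_ (Subgroup.zpowers_le.mpr ?_)
    · rw [commutator_def, Subgroup.commutator_le]
      intro x _ y _
      obtain ⟨i, j, rfl⟩ := D.cover x
      obtain ⟨k, l, rfl⟩ := D.cover y
      rw [commutatorElement_def, mul_assoc _ _ (D.a ^ k * D.b ^ l)⁻¹, ← mul_inv_rev, D.comm_form, zpow_mul]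
      exact Subgroup.zpow_mem _ (Subgroup.mem_zpowers c) _
    · have h := D.comm_form 0 1 1 0
      simp only [pow_zero, pow_one, one_mul, mul_one, geo, Finset.range_one, Finset.sum_singleton,
        Finset.range_zero, Finset.sum_empty, Nat.cast_one, Nat.cast_zero, mul_zero, sub_zero] at h
      rw [hc, ← h, mul_inv_rev, ← mul_assoc, commutator_def]
      exact Subgroup.commutator_mem_commutator (Subgroup.mem_top D.b) (Subgroup.mem_top D.a)
  rw [hle, Nat.card_zpowers]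
  refine dvd_antisymm ?_ ?_
  · refine orderOf_dvd_of_pow_eq_one ?_
    rw [← zpow_natCast, hc, ← zpow_mul, ← orderOf_dvd_iff_zpow_eq_one, D.ha, ← D.hm, D.hru]
    push_cast
    exact ⟨D.u, by rw [pow_add]; ring⟩
  · have h1 : D.a ^ (((D.r : ℤ) - 1) * orderOf c) = 1 := by
      rw [zpow_mul, zpow_natCast, pow_orderOf_eq_one]
    have := D.dvd_of_zpow_eq_one h1
    rwa [← Nat.cast_pow, Int.natCast_dvd_natCast] at this

theorem index_commutator [Finite G] :
    (commutator G).index = Nat.card (Subgroup.center G) * p ^ D.n := by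
  have h := (commutator G).card_mul_index
  rw [D.card_commutator, D.card_group, two_mul, pow_add, ← mul_assoc, mul_comm _ (p ^ D.n)] at h
  exact Nat.eq_of_mul_eq_mul_left (pow_pos hp.out.pos _) h

theorem pow_form (i j k : ℕ) (hj : p ^ k ∣ i) (hi : p ^ k ∣ j) :
    D.a ^ i * D.b ^ j ∈ Subgroup.closure {x : G | ∃ y : G, y ^ p ^ k = x} := by
  obtain ⟨i', rfl⟩ := hj
  obtain ⟨j', rfl⟩ := hi
  refine mul_mem (Subgroup.subset_closure ⟨D.a ^ i', ?_⟩) (Subgroup.subset_closure ⟨D.b ^ j', ?_⟩) <;>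
    rw [← pow_mul, mul_comm]

theorem mem_powers_iff (k : ℕ) (hk : k ≤ D.n) (g : G) :
    g ∈ Subgroup.closure {x : G | ∃ y : G, y ^ p ^ k = x} ↔ ∃ w : R p D.n, D.v g = ((p : ℤ) ^ k) • w := by
  constructor
  · intro h
    induction h using Subgroup.closure_induction with
    | mem x hx =>
      obtain ⟨y, rfl⟩ := hx
      obtain ⟨c, hc, -, hpow⟩ := D.exists_twist y
      obtain ⟨e, he⟩ := (pow_dvd_geo_iff D.odd hc k (p ^ k)).mpr dvd_rfl
      exact ⟨e • D.v y, by rw [hpow, he, mul_smul]⟩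
    | one => exact ⟨0, by rw [D.v_one, smul_zero]⟩
    | mul x y _ _ ihx ihy =>
      obtain ⟨w, hw⟩ := ihx
      obtain ⟨w', hw'⟩ := ihy
      obtain ⟨c, -, hmul, -⟩ := D.exists_twist x
      exact ⟨w + c • w', by rw [hmul, hw, hw', smul_add, smul_comm]⟩
    | inv x _ ih =>
      obtain ⟨w, hw⟩ := ih
      obtain ⟨c, hc, hmul, -⟩ := D.exists_twist x
      obtain ⟨d, hd⟩ := D.scalar_inv hc
      have h := hmul x⁻¹
      rw [mul_inv_cancel, D.v_one] at h
      refine ⟨-(d • w), ?_⟩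
      have h2 : D.v x + c • D.v x⁻¹ = 0 := h.symm
      rw [← hd (D.v x⁻¹), eq_neg_of_add_eq_zero_right h2, hw, smul_neg, smul_comm, ← smul_neg]
  · rintro ⟨w, hw⟩
    obtain ⟨i, j, rfl⟩ := D.cover g
    rw [D.v_eq rfl] at hw
    have hcast : ∀ z : ℤ, ∀ q : ZMod (p ^ D.n), ((z : ℤ) : ZMod (p ^ D.n)) = (((p : ℤ) ^ k : ℤ) : ZMod (p ^ D.n)) * q →
        (p : ℤ) ^ k ∣ z := by
      intro z q hz
      obtain ⟨q, rfl⟩ := ZMod.intCast_surjective q
      rw [← Int.cast_mul, ← sub_eq_zero, ← Int.cast_sub, D.cast_eq_zero] at hz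
      have := dvd_add ((pow_dvd_pow (p : ℤ) hk).trans hz) (dvd_mul_right ((p : ℤ) ^ k) q)
      rwa [sub_add_cancel] at this
    refine D.pow_form i j k ?_ ((pow_dvd_geo_iff D.odd D.hr k j).mp (hcast _ w.2 ?_))
    · refine Int.natCast_dvd_natCast.mp ?_
      rw [Nat.cast_pow]
      refine hcast (i : ℤ) w.1 ?_
      have := congrArg Prod.fst hw
      simp only [vrep, Prod.smul_fst] at this
      simp only [zsmul_eq_mul] at this
      rw [Int.cast_natCast, this]
    · have := congrArg Prod.snd hw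
      simp only [vrep, Prod.smul_snd] at this
      simpa only [zsmul_eq_mul] using this

theorem center_eq_powers :
    Subgroup.center G = Subgroup.closure {x : G | ∃ y : G, y ^ p ^ D.n = x} := by
  ext g
  rw [D.mem_powers_iff D.n le_rfl, ← D.v_eq_zero_iff]
  have h0 : ∀ w : R p D.n, ((p : ℤ) ^ D.n) • w = 0 := fun w => by
    rw [← Int.cast_smul_eq_zsmul (ZMod (p ^ D.n))]
    push_cast
    rw [← Nat.cast_pow, ZMod.natCast_self, zero_smul]
  exact ⟨fun h => ⟨0, by rw [h, smul_zero]⟩, fun ⟨w, hw⟩ => hw.trans (h0 w)⟩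

/-- A non-abelian subgroup contains the centre. -/
theorem center_le_of_not_comm [Finite G] (D : Data G p) {L : Subgroup G} (h : ¬ IsMulCommutative L) :
    Subgroup.center G ≤ L := by
  rw [D.isMulCommutative_iff] at h
  obtain ⟨e, he, -, hsc, -⟩ := not_isotropic h
  set K := L ⊓ Subgroup.center G
  -- every central element is, modulo L, a p-th power of a central element
  have hstep : ∀ z ∈ Subgroup.center G, ∃ x ∈ K, ∃ w ∈ Subgroup.center G, z = x * w ^ p := by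
    intro z hz
    rw [D.center_eq_powers] at hz
    induction hz using Subgroup.closure_induction with
    | mem z hz =>
      obtain ⟨y, rfl⟩ := hz
      -- y ^ p ^ e has coordinates in the image of L
      have hin : y ^ p ^ e ∈ L ⊔ Subgroup.center G := by
        rw [D.mem_iff_of_center_le le_sup_right, D.image_sup_center]
        obtain ⟨c, hc, -, hpow⟩ := D.exists_twist y
        obtain ⟨f, hf⟩ := (pow_dvd_geo_iff D.odd hc e (p ^ e)).mpr dvd_rfl
        rw [hpow, hf, mul_smul]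
        exact hsc _
      obtain ⟨l, hl, w, hw, hlw⟩ := Subgroup.mem_sup_of_normal_right.mp hin
      obtain ⟨q, hq⟩ : ∃ q, D.n - e = q + 1 := ⟨D.n - e - 1, by omega⟩
      have hzc : y ^ p ^ D.n ∈ Subgroup.center G := by
        rw [D.center_eq_powers]; exact Subgroup.subset_closure ⟨y, rfl⟩
      have hlw' : Commute l w := (Subgroup.mem_center_iff.mp hw l)
      have e1 : y ^ p ^ D.n = l ^ p ^ (D.n - e) * (w ^ p ^ q) ^ p := by
        rw [← pow_mul, ← pow_succ, ← hq, ← hlw'.mul_pow, hlw, ← pow_mul, ← pow_add, Nat.add_sub_cancel' he.le]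
      refine ⟨l ^ p ^ (D.n - e), Subgroup.mem_inf.mpr ⟨L.pow_mem hl _, ?_⟩, w ^ p ^ q, pow_mem hw _, e1⟩
      have := Subgroup.mul_mem _ hzc (Subgroup.inv_mem _ (pow_mem (pow_mem hw (p ^ q)) p))
      rwa [e1, mul_inv_cancel_right] at this
    | one => exact ⟨1, one_mem _, 1, one_mem _, by simp⟩
    | mul x y _ _ ihx ihy =>
      obtain ⟨x₁, hx₁, w₁, hw₁, rfl⟩ := ihx
      obtain ⟨x₂, hx₂, w₂, hw₂, rfl⟩ := ihy
      refine ⟨x₁ * x₂, mul_mem hx₁ hx₂, w₁ * w₂, mul_mem hw₁ hw₂, ?_⟩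
      have c1 : Commute w₁ w₂ := (Subgroup.mem_center_iff.mp hw₂ w₁)
      have c2 : Commute x₂ (w₁ ^ p) := (Subgroup.mem_center_iff.mp (pow_mem hw₁ p) x₂)
      rw [c1.mul_pow, mul_assoc, ← mul_assoc (w₁ ^ p), ← c2.eq]
      simp only [mul_assoc]
    | inv x _ ih =>
      obtain ⟨x₁, hx₁, w₁, hw₁, rfl⟩ := ih
      refine ⟨x₁⁻¹, inv_mem hx₁, w₁⁻¹, inv_mem hw₁, ?_⟩
      have c2 : Commute x₁ (w₁ ^ p) := (Subgroup.mem_center_iff.mp (pow_mem hw₁ p) x₁)
      rw [mul_inv_rev, inv_pow, c2.inv_inv.eq]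
  have hiter : ∀ (i : ℕ), ∀ z ∈ Subgroup.center G, ∃ x ∈ K, ∃ w ∈ Subgroup.center G, z = x * w ^ p ^ i := by
    intro i
    induction i with
    | zero => exact fun z hz => ⟨1, one_mem _, z, hz, by simp⟩
    | succ i ih =>
      intro z hz
      obtain ⟨x, hx, w, hw, rfl⟩ := ih z hz
      obtain ⟨x', hx', w', hw', rfl⟩ := hstep w hw
      refine ⟨x * x' ^ p ^ i, mul_mem hx (pow_mem hx' _), w', hw', ?_⟩
      have c : Commute x' (w' ^ p) := Subgroup.mem_center_iff.mp (pow_mem hw' p) x'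
      rw [c.mul_pow, ← pow_mul, ← pow_succ', mul_assoc]
  intro z hz
  obtain ⟨k, hk⟩ := D.hpG.exists_card_eq
  obtain ⟨x, hx, w, hw, rfl⟩ := hiter k z hz
  rw [← hk, pow_card_eq_one', mul_one]
  exact (Subgroup.mem_inf.mp hx).1

end Data

end CfsgLib.Metacyclic
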