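import Mathlib

/-!
# Minimal degree of a primitive group not containing the alternating group

Babai's elementary bound on distinguishing numbers for uniprimitive groups, and a one-point
intersection argument for the doubly transitive ones.
-/

set_option maxHeartbeats 600000

open scoped Pointwise

namespace Cfsg.Agent.MinDegreeBound

open MulAction

variable (G : Type*) {Ω : Type*} [Group G] [MulAction G Ω]

/-- The orbital ("colour") of an ordered pair. -/
def col (x y : Ω) : orbitRel.Quotient G (Ω × Ω) := Quotient.mk'' (x, y)

variable {G}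

theorem col_eq_iff {x y u v : Ω} : col G x y = col G u v ↔ ∃ g : G, g • u = x ∧ g • v = y := by
  unfold col
  rw [Quotient.eq'', orbitRel_apply, mem_orbit_iff]
  simp [Prod.ext_iff]

theorem col_smul (g : G) (x y : Ω) : col G (g • x) (g • y) = col G x y :=
  col_eq_iff.mpr ⟨g, rfl, rfl⟩

theorem col_swap {x y u v : Ω} (h : col G x y = col G u v) : col G y x = col G v u := by
  obtain ⟨g, h1, h2⟩ := col_eq_iff.mp h
  exact col_eq_iff.mpr ⟨g, h2, h1⟩

theorem eq_iff_of_col {x y u v : Ω} (h : col G x y = col G u v) : x = y ↔ u = v := by
  obtain ⟨g, h1, h2⟩ := col_eq_iff.mp h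
  rw [← h1, ← h2]
  exact smul_left_cancel_iff g

/-- In a primitive group a nonempty set closed under an invariant symmetric relation which
relates two distinct points is everything. -/
theorem closed_eq_univ [IsPreprimitive G Ω] (R : Ω → Ω → Prop) (hinv : ∀ (g : G) x y, R x y → R (g • x) (g • y))
    (hsym : ∀ x y, R x y → R y x) {a b : Ω} (hab : a ≠ b) (hR : R a b) (T : Set Ω) {x₀ : Ω}
    (hx₀ : x₀ ∈ T) (hT : ∀ x y, x ∈ T → R x y → y ∈ T) : T = Set.univ := by
  set C : Set Ω := {y | Relation.ReflTransGen R a y} with hC
  have hrev : ∀ x y, Relation.ReflTransGen R x y → Relation.ReflTransGen R y x := by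
    intro x y h
    induction h with
    | refl => exact Relation.ReflTransGen.refl
    | tail _ h2 ih => exact Relation.ReflTransGen.head (hsym _ _ h2) ih
  have hmap : ∀ (g : G) x y, Relation.ReflTransGen R x y → Relation.ReflTransGen R (g • x) (g • y) := by
    intro g x y h
    exact Relation.ReflTransGen.lift (fun z => g • z) (fun u v => hinv g u v) _ _ h
  have hblock : IsBlock G C := by
    intro g₁ g₂ hne
    rw [Set.disjoint_left]
    rintro z ⟨u, hu, rfl⟩ ⟨v, hv, hvz⟩
    refine hne ?_
    have h12 : Relation.ReflTransGen R (g₁ • a) (g₂ • a) := by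
      have h1 := hmap g₁ a u hu
      have h2 := hrev _ _ (hmap g₂ a v hv)
      simp only at hvz
      rw [hvz] at h2
      exact h1.trans h2
    have key : ∀ (k l : G), Relation.ReflTransGen R (k • a) (l • a) → k • C ⊆ l • C := by
      intro k l hkl
      rintro _ ⟨w, hw, rfl⟩
      refine ⟨l⁻¹ • k • w, ?_, by simp⟩
      have h1 := hmap l⁻¹ _ _ ((hrev _ _ hkl).trans (hmap k a w hw))
      rwa [inv_smul_smul] at h1
    exact Set.Subset.antisymm (key _ _ h12) (key _ _ (hrev _ _ h12))
  rcases IsPreprimitive.isTrivialBlock_of_isBlock hblock with h | h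
  · exact absurd (h (Relation.ReflTransGen.refl : Relation.ReflTransGen R a a)
      (Relation.ReflTransGen.single hR : Relation.ReflTransGen R a b)) hab
  · rw [Set.eq_univ_iff_forall]
    intro y
    have hx : Relation.ReflTransGen R a x₀ := (Set.eq_univ_iff_forall.mp h) x₀
    have hy : Relation.ReflTransGen R a y := (Set.eq_univ_iff_forall.mp h) y
    have hxy := (hrev _ _ hx).trans hy
    clear hy
    induction hxy with
    | refl => exact hx₀
    | tail _ h2 ih => exact hT _ _ ih h2

variable [Fintype Ω]

open Classical in
/-- The points distinguishing `x` and `y`. -/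
noncomputable def dset (G : Type*) [Group G] [MulAction G Ω] (x y : Ω) : Finset Ω :=
  Finset.univ.filter fun c => col G c x ≠ col G c y

theorem mem_dset {x y c : Ω} : c ∈ dset G x y ↔ col G c x ≠ col G c y := by
  simp [dset]

theorem dset_comm (x y : Ω) : dset G x y = dset G y x := by
  ext c; simp [mem_dset, ne_comm]

theorem dset_card_smul (g : G) (x y : Ω) : (dset G (g • x) (g • y)).card = (dset G x y).card := by
  classical
  have : dset G (g • x) (g • y) = (dset G x y).map ⟨fun c => g • c, MulAction.injective g⟩ := by
    ext c
    simp only [mem_dset, Finset.mem_map, Function.Embedding.coeFn_mk]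
    constructor
    · intro h
      refine ⟨g⁻¹ • c, ?_, by simp⟩
      intro he
      apply h
      rw [← col_smul g⁻¹ c, ← col_smul g⁻¹ c (g • y)]
      simpa using he
    · rintro ⟨d, hd, rfl⟩
      rwa [col_smul, col_smul]
  rw [this, Finset.card_map]

theorem dset_card_triangle (x y z : Ω) :
    (dset G x z).card ≤ (dset G x y).card + (dset G y z).card := by
  classical
  refine le_trans (Finset.card_le_card ?_) (Finset.card_union_le _ _)
  intro c hc
  rw [mem_dset] at hc
  simp only [Finset.mem_union, mem_dset]
  by_contra hcon
  push Not at hcon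
  exact hc (hcon.1.trans hcon.2)

open Classical in
/-- The colour class of `x` seen from `c`. -/
noncomputable def cls (G : Type*) [Group G] [MulAction G Ω] (c x : Ω) : Finset Ω :=
  Finset.univ.filter fun y => col G c y = col G c x

theorem mem_cls {c x y : Ω} : y ∈ cls G c x ↔ col G c y = col G c x := by simp [cls]

open Classical in
theorem cls_card_smul (g : G) (c x : Ω) : (cls G (g • c) (g • x)).card = (cls G c x).card := by
  have : cls G (g • c) (g • x) = (cls G c x).map ⟨fun c => g • c, MulAction.injective g⟩ := by
    ext y
    simp only [mem_cls, Finset.mem_map, Function.Embedding.coeFn_mk]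
    constructor
    · intro h
      refine ⟨g⁻¹ • y, ?_, by simp⟩
      rw [col_smul] at h
      rw [← h, ← col_smul g c (g⁻¹ • y)]
      simp
    · rintro ⟨d, hd, rfl⟩
      rwa [col_smul, col_smul]
  rw [this, Finset.card_map]

open Classical in
/-- Paired suborbits have the same size. -/
theorem cls_card_paired [IsPretransitive G Ω] (c x : Ω) :
    (cls G c x).card = (cls G x c).card := by
  have hc : ∀ d : Ω, (Finset.univ.filter fun y => col G d y = col G c x).card = (cls G c x).card := by
    intro d
    obtain ⟨g, rfl⟩ := exists_smul_eq G c d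
    rw [← cls_card_smul g c x]
    congr 1
    ext y
    simp [mem_cls, col_smul]
  have hx : ∀ d : Ω, (Finset.univ.filter fun u => col G u d = col G c x).card = (cls G x c).card := by
    intro d
    obtain ⟨g, rfl⟩ := exists_smul_eq G x d
    rw [← cls_card_smul g x c]
    congr 1
    ext y
    simp only [mem_cls, Finset.mem_filter, Finset.mem_univ, true_and, col_smul]
    constructor
    · intro h
      rw [← col_swap h]
    · intro h
      rw [col_swap h]
  have h1 : ∑ d : Ω, (Finset.univ.filter fun y => col G d y = col G c x).card =
      ∑ d : Ω, (Finset.univ.filter fun u => col G u d = col G c x).card := by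
    simp only [Finset.card_filter]
    rw [Finset.sum_comm]
  simp only [hc, hx, Finset.sum_const, Finset.card_univ, smul_eq_mul] at h1
  have hn : 0 < Fintype.card Ω := Fintype.card_pos_iff.mpr ⟨c⟩
  exact Nat.eq_of_mul_eq_mul_left hn h1

open Classical in
/-- No colour class is too big: `n ≤ (n - ρ) ^ 2`. -/
theorem card_le_compl_cls_sq [IsPreprimitive G Ω] {a b u v : Ω} (hab : a ≠ b) (huv : u ≠ v)
    (hne : col G a b ≠ col G u v) (c x : Ω) :
    Fintype.card Ω ≤ (Fintype.card Ω - (cls G c x).card) ^ 2 := by
  set n := Fintype.card Ω with hn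
  have hn3 : 3 ≤ n := by
    by_contra hcon
    apply hne
    obtain ⟨g, hg⟩ := exists_smul_eq G u a
    have h2 : ∀ z : Ω, z ≠ a → z = b := by
      intro z hz
      by_contra hzb
      have : ({z, a, b} : Finset Ω).card ≤ n := Finset.card_le_univ _
      rw [Finset.card_eq_three.mpr ⟨z, a, b, hz, hzb, hab, rfl⟩] at this
      omega
    have hgv : g • v = b := h2 _ (by rw [← hg]; exact fun h => huv (smul_left_cancel g h).symm)
    exact col_eq_iff.mpr ⟨g, hg, hgv⟩
  by_cases hxc : c = x
  · subst hxc
    have : cls G c c = {c} := by
      ext y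
      simp only [mem_cls, Finset.mem_singleton]
      refine ⟨fun h => ((eq_iff_of_col h).mpr rfl).symm, fun h => by rw [h]⟩
    rw [this, Finset.card_singleton]
    obtain ⟨k, hk⟩ : ∃ k, n = k + 3 := ⟨n - 3, by omega⟩
    rw [hk]
    simp only [pow_two, show k + 3 - 1 = k + 2 by omega]
    nlinarith
  by_cases hsym : col G x c = col G c x
  · -- self-paired: the other colours give a connected graph of diameter 2
    set l := col G c x with hl
    let Y : Ω → Ω → Prop := fun p q => p ≠ q ∧ col G p q ≠ l
    have hls : ∀ p q : Ω, col G p q = l → col G q p = l := fun p q h => (col_swap h).trans hsym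
    have hYinv : ∀ (g : G) p q, Y p q → Y (g • p) (g • q) := by
      rintro g p q ⟨h1, h2⟩
      exact ⟨fun h => h1 (smul_left_cancel g h), by rwa [col_smul]⟩
    have hYsym : ∀ p q, Y p q → Y q p := fun p q ⟨h1, h2⟩ => ⟨h1.symm, fun h => h2 (hls _ _ h)⟩
    obtain ⟨p₀, q₀, hpq⟩ : ∃ p q, Y p q := by
      by_cases h : col G a b = l
      · exact ⟨u, v, huv, fun h' => hne (h.trans h'.symm)⟩
      · exact ⟨a, b, hab, h⟩
    set S := (Finset.univ.filter fun y => col G c y ≠ l) with hS
    have hScard : S.card = n - (cls G c x).card := by
      have h := Finset.card_filter_add_card_filter_not (s := (Finset.univ : Finset Ω))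
        (p := fun y => col G c y = l)
      simp only [Finset.card_univ] at h
      rw [hS]
      have : (cls G c x).card = (Finset.univ.filter fun y => col G c y = l).card := by
        congr 1
      simp only [ne_eq] at h ⊢
      omega
    -- all vertices are within distance two
    have hdist : ∀ y, col G c y = l → ∃ z, Y c z ∧ Y z y := by
      have hex : ∃ w z, Y c z ∧ Y z w ∧ w ≠ c ∧ ¬ Y c w := by
        by_contra hcon
        push Not at hcon
        have hT := closed_eq_univ Y hYinv hYsym hpq.1 hpq {w | w = c ∨ Y c w} (x₀ := c) (Or.inl rfl)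
          (by
            rintro p q (rfl | hp) hpq
            · exact Or.inr hpq
            · by_cases hqc : q = c
              · exact Or.inl hqc
              · exact Or.inr (hcon q p hp hpq hqc))
        rcases (Set.eq_univ_iff_forall.mp hT) x with h | h
        · exact hxc h.symm
        · exact h.2 rfl
      obtain ⟨w, z, hcz, hzw, hwc, hcw⟩ := hex
      have hwl : col G c w = l := by
        by_contra h
        exact hcw ⟨hwc.symm, h⟩
      intro y hy
      obtain ⟨g, hg1, hg2⟩ := col_eq_iff.mp (hy.trans hwl.symm)
      refine ⟨g • z, ?_, ?_⟩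
      · have := hYinv g _ _ hcz; rwa [hg1] at this
      · have := hYinv g _ _ hzw; rwa [hg2] at this
    have hnb : ∀ z : Ω, (Finset.univ.filter fun y => Y z y).card ≤ S.card - 1 := by
      intro z
      obtain ⟨g, rfl⟩ := exists_smul_eq G c z
      have hsub : ((Finset.univ.filter fun y => Y (g • c) y).map
          ⟨fun y => g⁻¹ • y, MulAction.injective _⟩) ⊆ S.erase c := by
        intro y hy
        simp only [Finset.mem_map, Finset.mem_filter, Finset.mem_univ, true_and,
          Function.Embedding.coeFn_mk] at hy
        obtain ⟨w, hw, rfl⟩ := hy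
        have := hYinv g⁻¹ _ _ hw
        rw [inv_smul_smul] at this
        simp only [Finset.mem_erase, hS, Finset.mem_filter, Finset.mem_univ, true_and]
        exact ⟨this.1.symm, this.2⟩
      have hcS : c ∈ S := by
        simp only [hS, Finset.mem_filter, Finset.mem_univ, true_and]
        intro h
        exact hxc ((eq_iff_of_col h).mp rfl)
      have := Finset.card_le_card hsub
      rwa [Finset.card_map, Finset.card_erase_of_mem hcS] at this
    have hcover : (Finset.univ : Finset Ω) ⊆ S ∪
        (Finset.univ.filter fun z => Y c z).biUnion (fun z => Finset.univ.filter fun y => Y z y) := by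
      intro y _
      by_cases hy : col G c y = l
      · obtain ⟨z, h1, h2⟩ := hdist y hy
        simp only [Finset.mem_union, Finset.mem_biUnion, Finset.mem_filter, Finset.mem_univ, true_and]
        exact Or.inr ⟨z, h1, h2⟩
      · simp [hS, hy]
    have hcard := Finset.card_le_card hcover
    rw [Finset.card_univ] at hcard
    have h1 := le_trans hcard (Finset.card_union_le _ _)
    have h2 : ((Finset.univ.filter fun z => Y c z).biUnion
        (fun z => Finset.univ.filter fun y => Y z y)).card ≤ (S.card - 1) * (S.card - 1) :=
      le_trans (Finset.card_biUnion_le_card_mul _ _ _ (fun z _ => hnb z))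
        (Nat.mul_le_mul_right _ (hnb c))
    rw [← hScard]
    rcases Nat.eq_zero_or_pos S.card with h0 | h0
    · rw [h0] at h1 h2; omega
    · obtain ⟨k, hk⟩ : ∃ k, S.card = k + 1 := ⟨S.card - 1, by omega⟩
      rw [hk] at h1 h2 ⊢
      simp only [Nat.add_sub_cancel] at h2
      nlinarith
  · -- not self-paired
    have hdisj : Disjoint (cls G c x) (Finset.univ.filter fun y => col G c y = col G x c) := by
      rw [Finset.disjoint_left]
      intro y h1 h2
      simp only [mem_cls, Finset.mem_filter, Finset.mem_univ, true_and] at h1 h2
      exact hsym (h2.symm.trans h1)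
    have hc2 : (Finset.univ.filter fun y => col G c y = col G x c).card = (cls G c x).card := by
      obtain ⟨g, hg⟩ := exists_smul_eq G x c
      rw [cls_card_paired c x, ← cls_card_smul g x c, hg]
      congr 1
      ext y
      simp only [mem_cls, Finset.mem_filter, Finset.mem_univ, true_and]
      rw [show col G c (g • c) = col G x c by rw [← hg, col_smul]]
    have hcc : c ∉ cls G c x ∪ Finset.univ.filter (fun y => col G c y = col G x c) := by
      simp only [Finset.mem_union, mem_cls, Finset.mem_filter, Finset.mem_univ, true_and]
      rintro (h | h)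
      · exact hxc ((eq_iff_of_col h).mp rfl)
      · exact hxc (((eq_iff_of_col h).mp rfl).symm)
    have := Finset.card_le_univ
      (insert c (cls G c x ∪ Finset.univ.filter (fun y => col G c y = col G x c)))
    rw [Finset.card_insert_of_notMem hcc, Finset.card_union_of_disjoint hdisj, hc2] at this
    obtain ⟨j, hj⟩ : ∃ j, n - (cls G c x).card = j + 1 := ⟨n - (cls G c x).card - 1, by omega⟩
    rw [hj]
    have hle : n ≤ 2 * j + 1 := by omega
    nlinarith

open Classical in
/-- Babai: in a uniprimitive group two points are distinguished by many points. -/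
theorem card_le_dset_sq [IsPreprimitive G Ω] {u v : Ω} (huv : u ≠ v) {a b : Ω} (hab : a ≠ b)
    {p q : Ω} (hpq : p ≠ q) (hne : col G p q ≠ col G u v) :
    Fintype.card Ω ≤ (2 * (dset G a b).card + 1) ^ 2 := by
  set n := Fintype.card Ω with hn
  set D := (dset G a b).card with hD
  let R : Ω → Ω → Prop := fun x y => col G x y = col G a b ∨ col G y x = col G a b
  have hRinv : ∀ (g : G) x y, R x y → R (g • x) (g • y) := by
    intro g x y h
    simpa only [R, col_smul] using h
  have hRsym : ∀ x y, R x y → R y x := fun x y h => h.symm
  have hRne : ∀ x y, R x y → x ≠ y := by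
    intro x y h hxy
    subst hxy
    rcases h with h | h <;> exact hab ((eq_iff_of_col h).mp rfl)
  have hRD : ∀ x y, R x y → (dset G x y).card = D := by
    intro x y h
    rcases h with h | h
    · obtain ⟨g, h1, h2⟩ := col_eq_iff.mp h
      rw [← h1, ← h2, dset_card_smul]
    · obtain ⟨g, h1, h2⟩ := col_eq_iff.mp h
      rw [dset_comm, ← h1, ← h2, dset_card_smul]
  by_cases hA : ∀ x y : Ω, x = y ∨ R x y ∨ ∃ z, R x z ∧ R z y
  · -- diameter two
    have hall : ∀ x y : Ω, (dset G x y).card ≤ 2 * D := by
      intro x y
      rcases hA x y with rfl | h | ⟨z, h1, h2⟩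
      · simp [dset]
      · rw [hRD x y h]; omega
      · have := dset_card_triangle (G := G) x z y
        rw [hRD x z h1, hRD z y h2] at this
        omega
    -- the largest colour class
    have hne' : (Finset.univ : Finset (Ω × Ω)).Nonempty := ⟨(a, a), Finset.mem_univ _⟩
    obtain ⟨⟨c₀, x₀⟩, -, hmax⟩ := Finset.exists_max_image (Finset.univ : Finset (Ω × Ω))
      (fun cx => (cls G cx.1 cx.2).card) hne'
    set ρ := (cls G c₀ x₀).card with hρ
    have hsum : n * (n * (n - ρ)) ≤ n * (n * (2 * D)) := by
      calc n * (n * (n - ρ)) = ∑ _c : Ω, ∑ _x : Ω, (n - ρ) := by simp [hn]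
        _ ≤ ∑ c : Ω, ∑ x : Ω, (Finset.univ.filter fun y => col G c x ≠ col G c y).card := by
          refine Finset.sum_le_sum fun c _ => Finset.sum_le_sum fun x _ => ?_
          have h := Finset.card_filter_add_card_filter_not (s := (Finset.univ : Finset Ω))
            (p := fun y => col G c y = col G c x)
          have h' := hmax (c, x) (Finset.mem_univ _)
          simp only [cls] at h'
          simp only [Finset.card_univ] at h
          have he : (Finset.univ.filter fun y => col G c x ≠ col G c y) =
              Finset.univ.filter fun y => ¬ col G c y = col G c x := by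
            ext y; simp [eq_comm]
          rw [he]
          simp only [hρ, cls] at h' ⊢
          omega
        _ = ∑ x : Ω, ∑ y : Ω, (dset G x y).card := by
          simp only [dset, Finset.card_filter]
          rw [Finset.sum_comm]
          refine Finset.sum_congr rfl fun x _ => ?_
          rw [Finset.sum_comm]
        _ ≤ ∑ _x : Ω, ∑ _y : Ω, 2 * D :=
          Finset.sum_le_sum fun x _ => Finset.sum_le_sum fun y _ => hall x y
        _ = n * (n * (2 * D)) := by simp [hn]
    have hn0 : 0 < n := Fintype.card_pos_iff.mpr ⟨a⟩
    have h2 : n - ρ ≤ 2 * D := Nat.le_of_mul_le_mul_left (Nat.le_of_mul_le_mul_left hsum hn0) hn0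
    have h3 : n ≤ (n - ρ) ^ 2 := card_le_compl_cls_sq hpq huv hne c₀ x₀
    calc n ≤ (n - ρ) ^ 2 := h3
      _ ≤ (2 * D + 1) ^ 2 := Nat.pow_le_pow_left (by omega) 2
  · -- there are two points at distance three
    push Not at hA
    obtain ⟨x, y, hxy, hxyR, hxy2⟩ := hA
    let N : Ω → Finset Ω := fun z => Finset.univ.filter fun w => R z w
    obtain ⟨z, w, hxz, hzw, hw0, hw1, hw2⟩ : ∃ z w, (∃ t, R x t ∧ R t z) ∧ R z w ∧
        w ≠ x ∧ ¬ R x w ∧ ¬ ∃ t, R x t ∧ R t w := by
      by_contra hcon
      push Not at hcon
      have hT := closed_eq_univ R hRinv hRsym hab (Or.inl rfl)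
        {w | w = x ∨ R x w ∨ ∃ t, R x t ∧ R t w} (x₀ := x) (Or.inl rfl)
        (by
          rintro p q (rfl | hp | hp) hpq
          · exact Or.inr (Or.inl hpq)
          · exact Or.inr (Or.inr ⟨p, hp, hpq⟩)
          · by_cases h0 : q = x
            · exact Or.inl h0
            by_cases h1 : R x q
            · exact Or.inr (Or.inl h1)
            exact Or.inr (Or.inr (hcon p q hp hpq h0 h1)))
      rcases (Set.eq_univ_iff_forall.mp hT) y with h | h | ⟨t, h1, h2⟩
      · exact hxy h.symm
      · exact hxyR h
      · exact hxy2 t h1 h2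
    have hxw : (dset G x w).card ≤ 3 * D := by
      obtain ⟨t, h1, h2⟩ := hxz
      have e1 := dset_card_triangle (G := G) x t w
      have e2 := dset_card_triangle (G := G) t z w
      rw [hRD x t h1] at e1
      rw [hRD t z h2, hRD z w hzw] at e2
      omega
    have hk : ∀ s, (N s).card = (N a).card := by
      intro s
      obtain ⟨g, rfl⟩ := exists_smul_eq G a s
      have : N (g • a) = (N a).map ⟨fun c => g • c, MulAction.injective g⟩ := by
        ext c
        simp only [N, Finset.mem_filter, Finset.mem_univ, true_and, Finset.mem_map,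
          Function.Embedding.coeFn_mk]
        constructor
        · intro h
          refine ⟨g⁻¹ • c, ?_, by simp⟩
          have := hRinv g⁻¹ _ _ h
          rwa [inv_smul_smul] at this
        · rintro ⟨d, hd, rfl⟩
          exact hRinv g _ _ hd
      rw [this, Finset.card_map]
    set k := (N a).card with hkdef
    have h2k : 2 * k ≤ 3 * D := by
      refine le_trans ?_ hxw
      have hsub : N x ∪ N w ⊆ dset G x w := by
        intro c hc
        simp only [N, Finset.mem_union, Finset.mem_filter, Finset.mem_univ, true_and] at hc
        rw [mem_dset]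
        intro he
        have hiff : R c x ↔ R c w := by
          have he' := col_swap he
          simp only [R, he, he']
        rcases hc with h | h
        · exact hw2 ⟨c, h, hiff.mp (hRsym _ _ h)⟩
        · exact hw2 ⟨c, hRsym _ _ (hiff.mpr (hRsym _ _ h)), hRsym _ _ h⟩
      have hdisj : Disjoint (N x) (N w) := by
        rw [Finset.disjoint_left]
        intro c h1 h2
        simp only [N, Finset.mem_filter, Finset.mem_univ, true_and] at h1 h2
        exact hw2 ⟨c, h1, hRsym _ _ h2⟩
      have := Finset.card_le_card hsub
      rw [Finset.card_union_of_disjoint hdisj, hk x, hk w] at this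
      omega
    have hn0 : 0 < n := Fintype.card_pos_iff.mpr ⟨a⟩
    have hkD : n * (n - 1) ≤ n * (k * D) := by
      calc n * (n - 1) = ∑ c : Ω, (Finset.univ.erase c).card := by simp [hn]
        _ ≤ ∑ c : Ω, ∑ s : Ω, ((N s).filter fun s' => col G c s ≠ col G c s').card := by
          refine Finset.sum_le_sum fun c _ => ?_
          calc (Finset.univ.erase c).card = ∑ _s ∈ Finset.univ.erase c, 1 := by simp
            _ ≤ ∑ s ∈ Finset.univ.erase c, ((N s).filter fun s' => col G c s ≠ col G c s').card := by
              refine Finset.sum_le_sum fun s hs => ?_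
              rw [Finset.mem_erase] at hs
              rw [Nat.one_le_iff_ne_zero, ← Nat.pos_iff_ne_zero, Finset.card_pos]
              by_contra hemp
              rw [Finset.not_nonempty_iff_eq_empty] at hemp
              have hstep : ∀ s', R s s' → col G c s' = col G c s := by
                intro s' hs'
                by_contra hne2
                have : s' ∈ (N s).filter fun s' => col G c s ≠ col G c s' := by
                  simp [N, hs', Ne.symm hne2]
                rw [hemp] at this
                simp at this
              have hT := closed_eq_univ R hRinv hRsym hab (Or.inl rfl)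
                {t | col G c t = col G c s} (x₀ := s) rfl
                (by
                  intro t t' ht htt'
                  obtain ⟨g, hg1, hg2⟩ := col_eq_iff.mp ht
                  have h1 := hRinv g⁻¹ _ _ htt'
                  rw [← hg2, inv_smul_smul] at h1
                  have h2 := hstep _ h1
                  show col G c t' = col G c s
                  rw [← h2, ← col_smul g c (g⁻¹ • t'), hg1, smul_inv_smul])
              have hcc : col G c c = col G c s := (Set.eq_univ_iff_forall.mp hT) c
              exact hs.1 ((eq_iff_of_col hcc).mp rfl).symm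
            _ ≤ _ := Finset.sum_le_sum_of_subset (Finset.subset_univ _)
        _ = ∑ s : Ω, ∑ s' ∈ N s, (dset G s s').card := by
          rw [Finset.sum_comm]
          refine Finset.sum_congr rfl fun s _ => ?_
          simp only [dset, Finset.card_filter]
          rw [Finset.sum_comm]
        _ = n * (k * D) := by
          have : ∀ s : Ω, ∑ s' ∈ N s, (dset G s s').card = k * D := by
            intro s
            rw [Finset.sum_congr rfl (g := fun _ => D) (fun s' hs' => hRD s s' (by
              simpa [N] using hs'))]
            simp [hk s]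
          simp [this, hn]
    have h1 : n - 1 ≤ k * D := Nat.le_of_mul_le_mul_left hkD hn0
    have h2 : n ≤ k * D + 1 := by omega
    nlinarith

open Classical in
/-- A moved point and its image are distinguished only by moved points. -/
theorem dset_subset_moved (g : G) (a : Ω) :
    dset G a (g • a) ⊆ Finset.univ.filter fun c => g • c ≠ c := by
  intro c hc
  rw [mem_dset] at hc
  simp only [Finset.mem_filter, Finset.mem_univ, true_and]
  intro h
  apply hc
  conv_rhs => rw [← h]
  exact (col_smul g c a).symm

/-- Two permutations whose supports meet in one point have a three-cycle as commutator. -/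
theorem isThreeCycle_commutator {α : Type*} [Fintype α] [DecidableEq α] (π σ : Equiv.Perm α) (a : α)
    (hinter : ∀ c, π c ≠ c → σ c ≠ c → c = a) (hπa : π a ≠ a) (hσa : σ a ≠ a) :
    Equiv.Perm.IsThreeCycle (σ * π * σ⁻¹ * π⁻¹) := by
  have hπσa : π (σ a) = σ a := by
    by_contra hne
    exact hσa (hinter _ hne fun h => hσa (σ.injective h))
  have hσπa : σ (π a) = π a := by
    by_contra hne
    exact hπa (hinter _ (fun h => hπa (π.injective h)) hne)
  have hne : π a ≠ σ a := by
    intro h
    exact hπa (hinter (π a) (fun h' => hπa (π.injective h'))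
      (by rw [h]; exact fun h' => hσa (σ.injective h')))
  have key : ∀ d, Equiv.swap a (π a) (Equiv.swap a (σ a) (π (σ d))) = σ (π d) := by
    intro d
    by_cases hda : d = a
    · subst hda
      rw [hπσa, Equiv.swap_apply_right, Equiv.swap_apply_left, hσπa]
    by_cases hd : π d = d
    · by_cases hd' : σ d = d
      · have h1 : d ≠ π a := fun h => hπa (π.injective (by rw [← h]; exact hd))
        have h2 : d ≠ σ a := fun h => hσa (σ.injective (by rw [← h]; exact hd'))
        rw [hd', hd, hd', Equiv.swap_apply_of_ne_of_ne hda h2, Equiv.swap_apply_of_ne_of_ne hda h1]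
      · rw [hd]
        by_cases h : σ d = a
        · rw [h, Equiv.swap_apply_of_ne_of_ne hπa hne, Equiv.swap_apply_right]
        · have hfix : π (σ d) = σ d := by
            by_contra hne2
            exact h (hinter _ hne2 fun h' => hd' (σ.injective h'))
          have h1 : σ d ≠ π a := fun h' => hd' (σ.injective (by rw [h', hσπa]))
          have h2 : σ d ≠ σ a := fun h' => hda (σ.injective h')
          rw [hfix, Equiv.swap_apply_of_ne_of_ne h h2, Equiv.swap_apply_of_ne_of_ne h h1]
    · have hd' : σ d = d := by
        by_contra hne2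
        exact hda (hinter d hd hne2)
      rw [hd']
      by_cases h : π d = a
      · rw [h, Equiv.swap_apply_left, Equiv.swap_apply_of_ne_of_ne hσa hne.symm]
      · have hfix : σ (π d) = π d := by
          by_contra hne2
          exact h (hinter _ (fun h' => hd (π.injective h')) hne2)
        have h1 : π d ≠ π a := fun h' => hda (π.injective h')
        have h2 : π d ≠ σ a := fun h' => hd (π.injective (by rw [h', hπσa]))
        rw [hfix, Equiv.swap_apply_of_ne_of_ne h h2, Equiv.swap_apply_of_ne_of_ne h h1]
  have heq : σ * π = Equiv.swap a (π a) * Equiv.swap a (σ a) * (π * σ) :=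
    Equiv.ext fun d => (key d).symm
  have : σ * π * σ⁻¹ * π⁻¹ = Equiv.swap a (π a) * Equiv.swap a (σ a) := by
    rw [heq]; group
  rw [this]
  exact Equiv.Perm.isThreeCycle_swap_mul_swap_same hπa.symm hσa.symm hne

open Classical in
/-- Doubly transitive case: small support gives a three-cycle. -/
theorem card_le_moved_sq [IsPreprimitive G Ω]
    (h2 : ∀ a b u v : Ω, a ≠ b → u ≠ v → col G a b = col G u v)
    (hA : ¬ alternatingGroup Ω ≤ (MulAction.toPermHom G Ω).range) [Finite G]
    (g : G) (M : Finset Ω) (hM : ∀ c, c ∈ M ↔ g • c ≠ c) {a : Ω} (ha : a ∈ M) :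
    Fintype.card Ω ≤ M.card ^ 2 := by
  by_contra hlt
  push Not at hlt
  set n := Fintype.card Ω with hn
  haveI : Fintype G := Fintype.ofFinite G
  set m := M.card with hm
  have hm0 : 0 < m := Finset.card_pos.mpr ⟨a, ha⟩
  -- a translate of the moved set meeting it exactly in `a`
  obtain ⟨h, hh⟩ : ∃ h : G, ∀ b, (b ∈ M ∧ h⁻¹ • b ∈ M) ↔ b = a := by
    let A : Finset G := Finset.univ.filter fun h => h⁻¹ • a ∈ M
    by_contra hcon
    push Not at hcon
    have hlow : A.card ≤ ∑ h ∈ A, ((M.erase a).filter fun b => h⁻¹ • b ∈ M).card := by
      calc A.card = ∑ _h ∈ A, 1 := by simp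
        _ ≤ _ := by
          refine Finset.sum_le_sum fun h hh => ?_
          simp only [A, Finset.mem_filter, Finset.mem_univ, true_and] at hh
          obtain ⟨b, hb⟩ := hcon h
          have : b ∈ (M.erase a).filter fun b => h⁻¹ • b ∈ M := by
            rcases hb with ⟨⟨h1, h2⟩, h3⟩ | ⟨h1, h2⟩
            · simp [h1, h2, h3]
            · subst h2
              exact absurd hh (h1 ha)
          exact Finset.card_pos.mpr ⟨b, this⟩
    let P : Finset (Ω × Ω) := M.offDiag
    let Bcnt : Ω × Ω → ℕ := fun uv => (Finset.univ.filter fun h : G => h • uv.1 = a ∧ h • uv.2 = uv.2).card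
    have hfib : ∀ b, b ≠ a → ∀ u v : Ω, u ≠ v →
        n * (n - 1) * (Finset.univ.filter fun h : G => h • u = a ∧ h • v = b).card = Fintype.card G := by
      intro b hb u v huv
      have key : ∀ p ∈ (Finset.univ : Finset Ω).offDiag,
          (Finset.univ.filter fun h : G => (h • u, h • v) = p).card =
          (Finset.univ.filter fun h : G => h • u = a ∧ h • v = b).card := by
        rintro ⟨p, q⟩ hpq
        simp only [Finset.mem_offDiag, Finset.mem_univ, true_and] at hpq
        obtain ⟨k, hk1, hk2⟩ := col_eq_iff.mp (h2 p q a b hpq hb.symm)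
        symm
        refine Finset.card_bij' (fun h _ => k * h) (fun h _ => k⁻¹ * h) ?_ ?_ ?_ ?_
        · intro h hh
          simp only [Finset.mem_filter, Finset.mem_univ, true_and, Prod.mk.injEq, mul_smul] at hh ⊢
          rw [hh.1, hh.2]; exact ⟨hk1, hk2⟩
        · intro h hh
          simp only [Finset.mem_filter, Finset.mem_univ, true_and, Prod.mk.injEq, mul_smul] at hh ⊢
          rw [hh.1, hh.2, inv_smul_eq_iff, inv_smul_eq_iff]; exact ⟨hk1.symm, hk2.symm⟩
        · intro h _; simp
        · intro h _; simp
      have hsum := Finset.card_eq_sum_card_fiberwise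
        (f := fun h : G => (h • u, h • v)) (s := (Finset.univ : Finset G))
        (t := (Finset.univ : Finset Ω).offDiag) (by
          intro h _
          simp [smul_left_cancel_iff, huv])
      rw [Finset.sum_congr rfl key, Finset.sum_const, Finset.offDiag_card, Finset.card_univ,
        Finset.card_univ, smul_eq_mul] at hsum
      rw [hsum]
      congr 1
      rw [Nat.mul_sub_one]
    have hA' : n * A.card = m * Fintype.card G := by
      have key : ∀ p ∈ (Finset.univ : Finset Ω),
          (Finset.univ.filter fun h : G => h⁻¹ • a = p).card =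
          (Finset.univ.filter fun h : G => h⁻¹ • a = a).card := by
        intro p _
        obtain ⟨k, hk⟩ := exists_smul_eq G a p
        refine Finset.card_bij' (fun h _ => h * k) (fun h _ => h * k⁻¹) ?_ ?_ ?_ ?_
        · intro h hh
          simp only [Finset.mem_filter, Finset.mem_univ, true_and, mul_inv_rev, mul_smul] at hh ⊢
          rw [hh, inv_smul_eq_iff, hk]
        · intro h hh
          simp only [Finset.mem_filter, Finset.mem_univ, true_and, mul_inv_rev, mul_smul,
            inv_inv] at hh ⊢
          rw [hh, hk]
        · intro h _; simp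
        · intro h _; simp
      have hsum := Finset.card_eq_sum_card_fiberwise
        (f := fun h : G => h⁻¹ • a) (s := (Finset.univ : Finset G))
        (t := (Finset.univ : Finset Ω)) (by intro h _; simp)
      rw [Finset.sum_congr rfl key, Finset.sum_const, Finset.card_univ, Finset.card_univ,
        smul_eq_mul] at hsum
      have hAsum := Finset.card_eq_sum_card_fiberwise
        (f := fun h : G => h⁻¹ • a) (s := A) (t := M) (by intro h hh; simpa [A] using hh)
      have : ∀ p ∈ M, (A.filter fun h => h⁻¹ • a = p).card =
          (Finset.univ.filter fun h : G => h⁻¹ • a = a).card := by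
        intro p hp
        rw [← key p (Finset.mem_univ p)]
        congr 1
        ext h
        simp only [A, Finset.mem_filter, Finset.mem_univ, true_and]
        exact ⟨fun h' => h'.2, fun h' => ⟨h' ▸ hp, h'⟩⟩
      rw [Finset.sum_congr rfl this, Finset.sum_const, smul_eq_mul] at hAsum
      rw [hAsum, hsum]; ring
    have hup : n * (n - 1) * (∑ h ∈ A, ((M.erase a).filter fun b => h⁻¹ • b ∈ M).card) ≤
        (m - 1) * ((m * m - m) * Fintype.card G) := by
      have hswap : ∑ h ∈ A, ((M.erase a).filter fun b => h⁻¹ • b ∈ M).card =
          ∑ b ∈ M.erase a, (A.filter fun h => h⁻¹ • b ∈ M).card := by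
        simp only [Finset.card_filter]
        rw [Finset.sum_comm]
      rw [hswap, Finset.mul_sum]
      refine le_trans (Finset.sum_le_card_nsmul _ _ ((m * m - m) * Fintype.card G) ?_) ?_
      · intro b hb
        rw [Finset.mem_erase] at hb
        calc n * (n - 1) * (A.filter fun h => h⁻¹ • b ∈ M).card
            ≤ n * (n - 1) * (P.biUnion fun uv =>
                Finset.univ.filter fun h : G => h • uv.1 = a ∧ h • uv.2 = b).card := by
              refine Nat.mul_le_mul_left _ (Finset.card_le_card ?_)
              intro h hh
              simp only [A, Finset.mem_filter, Finset.mem_univ, true_and] at hh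
              simp only [Finset.mem_biUnion, Finset.mem_filter, Finset.mem_univ, true_and, P,
                Finset.mem_offDiag]
              refine ⟨(h⁻¹ • a, h⁻¹ • b), ⟨hh.1, hh.2, ?_⟩, by simp, by simp⟩
              exact fun he => hb.1 (smul_left_cancel _ he).symm
          _ ≤ n * (n - 1) * ∑ uv ∈ P, (Finset.univ.filter fun h : G => h • uv.1 = a ∧ h • uv.2 = b).card :=
              Nat.mul_le_mul_left _ Finset.card_biUnion_le
          _ = ∑ _uv ∈ P, Fintype.card G := by
              rw [Finset.mul_sum]
              refine Finset.sum_congr rfl fun uv huv => hfib b hb.1 uv.1 uv.2 ?_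
              simp only [P, Finset.mem_offDiag] at huv
              exact huv.2.2
          _ = (m * m - m) * Fintype.card G := by
              simp [P, Finset.offDiag_card, ← hm]
      · rw [Finset.card_erase_of_mem ha, smul_eq_mul]
    have hG : 0 < Fintype.card G := Fintype.card_pos
    have h3 := le_trans (Nat.mul_le_mul_left (n * (n - 1)) hlow) hup
    have h4 : (n - 1) * (m * Fintype.card G) ≤ (m - 1) * ((m * m - m) * Fintype.card G) := by
      rw [← hA']
      calc (n - 1) * (n * A.card) = n * (n - 1) * A.card := by ring
        _ ≤ _ := h3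
    have h5 : (n - 1) * m ≤ (m - 1) * (m * m - m) := by
      refine Nat.le_of_mul_le_mul_right ?_ hG
      calc (n - 1) * m * Fintype.card G = (n - 1) * (m * Fintype.card G) := by ring
        _ ≤ _ := h4
        _ = (m - 1) * (m * m - m) * Fintype.card G := by ring
    have h6 : m * m - m = (m - 1) * m := by rw [Nat.mul_comm (m - 1) m, Nat.mul_sub_one]
    rw [h6, ← mul_assoc] at h5
    have h7 : n - 1 ≤ (m - 1) * (m - 1) := Nat.le_of_mul_le_mul_right h5 hm0
    obtain ⟨j, hj⟩ : ∃ j, m = j + 1 := ⟨m - 1, by omega⟩
    rw [hj, Nat.add_sub_cancel] at h7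
    rw [hj] at hlt
    have hjj : (j + 1) ^ 2 = j * j + 2 * j + 1 := by ring
    have : j = 0 := by omega
    subst this
    -- a single moved point is impossible
    have hMa : ∀ c ∈ M, c = a := by
      intro c hc
      exact Finset.card_le_one.mp (by omega) c hc a ha
    have hga : g • g • a ≠ g • a := by
      intro h; exact (hM a).mp ha (smul_left_cancel g h)
    exact (hM a).mp ha (hMa _ ((hM _).mpr hga))
  -- the commutator is a three-cycle
  set π := MulAction.toPerm (α := G) (β := Ω) g with hπ
  set σ := MulAction.toPerm (α := G) (β := Ω) (h * g * h⁻¹) with hσ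
  have hσmem : ∀ c, σ c ≠ c ↔ h⁻¹ • c ∈ M := by
    intro c
    rw [hM, hσ, MulAction.toPerm_apply, mul_smul, mul_smul]
    constructor
    · intro h1 h2; exact h1 (by rw [h2, smul_inv_smul])
    · intro h1 h2; exact h1 (eq_inv_smul_iff.mpr h2)
  have hπmem : ∀ c, π c ≠ c ↔ c ∈ M := fun c => (hM c).symm
  have hinter : ∀ c, π c ≠ c → σ c ≠ c → c = a :=
    fun c h1 h2 => (hh c).mp ⟨(hπmem c).mp h1, (hσmem c).mp h2⟩
  have hπa : π a ≠ a := (hπmem a).mpr ha
  have hσa : σ a ≠ a := (hσmem a).mpr ((hh a).mpr rfl).2
  have h3c : Equiv.Perm.IsThreeCycle (σ * π * σ⁻¹ * π⁻¹) :=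
    isThreeCycle_commutator π σ a hinter hπa hσa
  refine hA ?_
  haveI : IsPreprimitive (MulAction.toPermHom G Ω).range Ω := by
    let f : Ω →ₑ[(MulAction.toPermHom G Ω).rangeRestrict] Ω :=
      { toFun := id, map_smul' := fun _ _ => rfl }
    exact IsPreprimitive.of_surjective (f := f) Function.surjective_id
  exact Equiv.Perm.alternatingGroup_le_of_isPreprimitive_of_isThreeCycle_mem inferInstance h3c
    (mul_mem (mul_mem (mul_mem ⟨_, rfl⟩ ⟨_, rfl⟩) (inv_mem ⟨_, rfl⟩)) (inv_mem ⟨_, rfl⟩))

open Classical in
/-- A nonidentity element of a primitive group not containing the alternating group moves at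
least `(√n - 1) / 2` points. -/
theorem card_le_moved [Finite G] [IsPreprimitive G Ω] [FaithfulSMul G Ω]
    (hA : ¬ alternatingGroup Ω ≤ (MulAction.toPermHom G Ω).range) (g : G) (hg : g ≠ 1) :
    Fintype.card Ω ≤ (2 * (Finset.univ.filter fun c : Ω => g • c ≠ c).card + 1) ^ 2 := by
  obtain ⟨a, ha⟩ : ∃ a : Ω, g • a ≠ a := by
    by_contra h
    push Not at h
    exact hg (FaithfulSMul.eq_of_smul_eq_smul (α := Ω) fun c => by rw [h c, one_smul])
  by_cases h2 : ∀ a b u v : Ω, a ≠ b → u ≠ v → col G a b = col G u v
  · refine le_trans (card_le_moved_sq h2 hA g (Finset.univ.filter fun c : Ω => g • c ≠ c)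
      (fun c => by simp) (a := a) (by simp [ha])) ?_
    exact Nat.pow_le_pow_left (by omega) 2
  · push Not at h2
    obtain ⟨p, q, u, v, hpq, huv, hne⟩ := h2
    refine le_trans (card_le_dset_sq huv (Ne.symm ha) hpq hne) ?_
    exact Nat.pow_le_pow_left (by
      have := Finset.card_le_card (dset_subset_moved g a); omega) 2

end Cfsg.Agent.MinDegreeBound
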