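import Cfsg.Prelude.Def_LocalEven
import Cfsg.Agent.Lib.SL2Sylow

/-!
Coordinates for a natural `SL₂`-module inside a group.
-/

set_option autoImplicit false
set_option linter.unusedSectionVars false

namespace CfsgLib.NaturalSL2

open Matrix CfsgLib.SL2Sylow
open scoped Pointwise

variable {G : Type*} [Group G] {F : Type*} [Field F]

local notation "SL2" => Matrix.SpecialLinearGroup (Fin 2) F

/-- Coordinates on `V` and `L` in which `T` is upper unitriangular. -/
structure Coord (V L T : Subgroup G) (θ : L ≃* SL2) (e : (Fin 2 → F) → G) : Prop where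
  inj : Function.Injective e
  mem : ∀ v : G, v ∈ V ↔ ∃ a, e a = v
  add : ∀ a b, e (a + b) = e a * e b
  conj : ∀ (l : L) (a : Fin 2 → F), (l : G) * e a * (l : G)⁻¹ = e ((θ l).1.mulVec a)
  sylow : ∀ x : G, x ∈ T ↔ ∃ t : F, x = (θ.symm (us (Multiplicative.ofAdd t)) : L)

theorem exists_coord [Finite G] [Fintype F] {p : ℕ} [Fact p.Prime] [CharP F p] (V L : Subgroup G)
    (hnat : Cfsg.IsNaturalSL2Module F V L) (hf : L ⊓ Subgroup.centralizer (V : Set G) = ⊥) (S : Sylow p L) :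
    ∃ (θ : L ≃* SL2) (e : (Fin 2 → F) → G), Coord V L ((S : Subgroup L).map L.subtype) θ e := by
  classical
  obtain ⟨-, ρ, ψ, hsurj, hker, hact⟩ := hnat
  have hbot : ρ.ker = ⊥ := by
    rw [hker, Subgroup.subgroupOf_eq_bot, disjoint_iff, inf_comm, hf]
  let θ₀ : L ≃* SL2 := MulEquiv.ofBijective ρ ⟨(MonoidHom.ker_eq_bot_iff ρ).mp hbot, hsurj⟩
  have hθ₀ : ∀ l, θ₀ l = ρ l := fun l => rfl
  obtain ⟨g, hg⟩ := sylow_SL p (S.mapSurjective (f := θ₀.toMonoidHom) θ₀.surjective)
  change (S : Subgroup L).map θ₀.toMonoidHom = _ at hg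
  let θ : L ≃* SL2 := θ₀.trans (MulAut.conj g⁻¹)
  have hθ : ∀ l, θ l = g⁻¹ * θ₀ l * g := fun l => by simp [θ]
  let e : (Fin 2 → F) → G := fun a => ((Additive.toMul (ψ.symm (g.1.mulVec a)) : V) : G)
  have hgg : ∀ a : Fin 2 → F, (g⁻¹).1.mulVec (g.1.mulVec a) = a := fun a => by
    rw [Matrix.mulVec_mulVec]
    exact (congrArg (fun x : SL2 => x.1.mulVec a) (inv_mul_cancel g)).trans (one_mulVec a)
  have hgg' : ∀ a : Fin 2 → F, g.1.mulVec ((g⁻¹).1.mulVec a) = a := fun a => by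
    rw [Matrix.mulVec_mulVec]
    exact (congrArg (fun x : SL2 => x.1.mulVec a) (mul_inv_cancel g)).trans (one_mulVec a)
  refine ⟨θ, e, ?_, fun v => ⟨fun hv => ?_, ?_⟩, fun a b => ?_, fun l a => ?_, fun x => ?_⟩
  · intro a b h
    have h1 : g.1.mulVec a = g.1.mulVec b :=
      ψ.symm.injective (Additive.toMul.injective (Subtype.ext h))
    rw [← hgg a, h1, hgg]
  · refine ⟨(g⁻¹).1.mulVec (ψ (Additive.ofMul ⟨v, hv⟩)), ?_⟩
    show ((Additive.toMul (ψ.symm (g.1.mulVec _)) : V) : G) = v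
    rw [hgg', AddEquiv.symm_apply_apply]
    rfl
  · rintro ⟨a, rfl⟩
    exact (Additive.toMul (ψ.symm _) : V).2
  · show ((Additive.toMul (ψ.symm _) : V) : G) = _
    rw [Matrix.mulVec_add, map_add]
    rfl
  · obtain ⟨w, hw, hψ⟩ := hact l (Additive.toMul (ψ.symm (g.1.mulVec a)))
    show (l : G) * ((Additive.toMul (ψ.symm (g.1.mulVec a)) : V) : G) * (l : G)⁻¹ = _
    rw [← hw]
    rw [ofMul_toMul, AddEquiv.apply_symm_apply] at hψ
    show (w : G) = ((Additive.toMul (ψ.symm (g.1.mulVec ((θ l).1.mulVec a))) : V) : G)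
    have e1 : g.1.mulVec ((θ l).1.mulVec a) = (ρ l).1.mulVec (g.1.mulVec a) := by
      rw [Matrix.mulVec_mulVec, Matrix.mulVec_mulVec]
      exact congrArg (fun x : SL2 => x.1.mulVec a)
        (show g * θ l = ρ l * g by rw [hθ, hθ₀]; group)
    rw [e1, ← hψ, AddEquiv.symm_apply_apply]
    rfl
  · constructor
    · rintro ⟨l, hl, rfl⟩
      have h1 : θ₀ l ∈ ((S : Subgroup L).map θ₀.toMonoidHom) := ⟨l, hl, rfl⟩
      rw [hg] at h1
      obtain ⟨_, ⟨t, rfl⟩, ht⟩ := h1
      refine ⟨t.toAdd, congrArg Subtype.val (?_ : l = _)⟩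
      rw [MulEquiv.eq_symm_apply, hθ, ← ht]
      show g⁻¹ * (g * us t * g⁻¹) * g = us t
      group
    · rintro ⟨t, rfl⟩
      refine ⟨_, ?_, rfl⟩
      have h1 : θ₀ (θ.symm (us (Multiplicative.ofAdd t))) ∈ (S : Subgroup L).map θ₀.toMonoidHom := by
        rw [hg]
        refine ⟨us (Multiplicative.ofAdd t), ⟨_, rfl⟩, ?_⟩
        have := hθ (θ.symm (us (Multiplicative.ofAdd t)))
        rw [MulEquiv.apply_symm_apply] at this
        show g * us (Multiplicative.ofAdd t) * g⁻¹ = _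
        generalize θ₀ (θ.symm (us (Multiplicative.ofAdd t))) = z at this ⊢
        rw [this]
        group
      obtain ⟨l', hl', he⟩ := h1
      exact θ₀.injective he ▸ hl'

variable {V L T : Subgroup G}
variable {θ : ↥L ≃* Matrix.SpecialLinearGroup (Fin 2) F}
variable {e : (Fin 2 → F) → G}

theorem Coord.zero (h : Coord V L T θ e) : e 0 = 1 := by
  have := h.add 0 0
  rw [add_zero] at this
  exact mul_eq_left.mp this.symm

theorem Coord.neg (h : Coord V L T θ e) (a : Fin 2 → F) : e (-a) = (e a)⁻¹ := by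
  refine eq_inv_of_mul_eq_one_left ?_
  rw [← h.add, neg_add_cancel, h.zero]

theorem Coord.e_mem (h : Coord V L T θ e) (a : Fin 2 → F) : e a ∈ V := (h.mem _).mpr ⟨a, rfl⟩

theorem Coord.t_mem (h : Coord V L T θ e) (t : F) :
    ((θ.symm (us (Multiplicative.ofAdd t)) : L) : G) ∈ T := (h.sylow _).mpr ⟨t, rfl⟩

theorem mulVec_us (t : F) (a : Fin 2 → F) :
    (us (Multiplicative.ofAdd t) : SL2).1.mulVec a = ![a 0 + t * a 1, a 1] := by
  show (!![1, t; 0, 1] : Matrix (Fin 2) (Fin 2) F).mulVec a = _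
  ext i
  fin_cases i <;> simp [Matrix.mulVec, dotProduct, Fin.sum_univ_two]

theorem Coord.conj_us (h : Coord V L T θ e) (t : F) (a : Fin 2 → F) :
    ((θ.symm (us (Multiplicative.ofAdd t)) : L) : G) * e a * ((θ.symm (us (Multiplicative.ofAdd t)) : L) : G)⁻¹ =
      e ![a 0 + t * a 1, a 1] := by
  rw [h.conj, MulEquiv.apply_symm_apply, mulVec_us]

/-- Conjugation by an element of `L` fixes a vector exactly when its matrix does. -/
theorem Coord.centralizes_iff (h : Coord V L T θ e) (l : L) (a : Fin 2 → F) :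
    e a ∈ Subgroup.centralizer ({(l : G)} : Set G) ↔ (θ l).1.mulVec a = a := by
  rw [Subgroup.mem_centralizer_singleton_iff, ← h.inj.eq_iff, ← h.conj, mul_inv_eq_iff_eq_mul]
  exact eq_comm

/-- The fixed line of the upper unitriangular group. -/
theorem Coord.fixed_iff (h : Coord V L T θ e) (a : Fin 2 → F) :
    e a ∈ Subgroup.centralizer (T : Set G) ↔ a 1 = 0 := by
  rw [Subgroup.mem_centralizer_iff]
  constructor
  · intro hc
    have := (h.centralizes_iff (θ.symm (us (Multiplicative.ofAdd (1 : F)))) a).mp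
      (Subgroup.mem_centralizer_singleton_iff.mpr (hc _ (h.t_mem 1)).symm)
    rw [MulEquiv.apply_symm_apply, mulVec_us] at this
    simpa using congrFun this 0
  · intro h1 x hx
    obtain ⟨t, rfl⟩ := (h.sylow x).mp hx
    refine (Subgroup.mem_centralizer_singleton_iff.mp ((h.centralizes_iff _ a).mpr ?_)).symm
    rw [MulEquiv.apply_symm_apply, mulVec_us]
    ext i
    fin_cases i <;> simp [h1]

theorem Coord.fixed_eq (h : Coord V L T θ e) {x : G} :
    x ∈ V ⊓ Subgroup.centralizer (T : Set G) ↔ ∃ s : F, x = e ![s, 0] := by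
  constructor
  · rintro ⟨hxV, hxC⟩
    obtain ⟨a, rfl⟩ := (h.mem x).mp hxV
    refine ⟨a 0, congrArg e ?_⟩
    have := (h.fixed_iff a).mp hxC
    ext i
    fin_cases i <;> simp [this]
  · rintro ⟨s, rfl⟩
    exact ⟨h.e_mem _, (h.fixed_iff _).mpr (by simp)⟩

theorem Coord.fixed_singleton (h : Coord V L T θ e) {t : F} (ht : t ≠ 0) :
    V ⊓ Subgroup.centralizer ({((θ.symm (us (Multiplicative.ofAdd t)) : L) : G)} : Set G) =
      V ⊓ Subgroup.centralizer (T : Set G) := by
  ext x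
  simp only [Subgroup.mem_inf, and_congr_right_iff]
  intro hx
  obtain ⟨a, rfl⟩ := (h.mem x).mp hx
  rw [h.centralizes_iff, h.fixed_iff, MulEquiv.apply_symm_apply, mulVec_us]
  constructor
  · intro he
    simpa [ht] using congrFun he 0
  · intro h1
    ext i
    fin_cases i <;> simp [h1]

/-- The commutator of a vector with a unipotent element. -/
theorem Coord.comm_eq (h : Coord V L T θ e) (t : F) (a : Fin 2 → F) :
    e a * ((θ.symm (us (Multiplicative.ofAdd t)) : L) : G) * (e a)⁻¹ *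
      ((θ.symm (us (Multiplicative.ofAdd t)) : L) : G)⁻¹ = e ![-(t * a 1), 0] := by
  have := h.conj_us t (-a)
  rw [h.neg] at this
  rw [mul_assoc (e a), mul_assoc, this, ← h.add]
  congr 1
  ext i
  fin_cases i <;> simp

theorem Coord.commutator_eq (h : Coord V L T θ e) {B : Subgroup G} (hBT : B ≤ T) {t : F} (ht : t ≠ 0)
    (htB : ((θ.symm (us (Multiplicative.ofAdd t)) : L) : G) ∈ B) :
    ⁅V, B⁆ = V ⊓ Subgroup.centralizer (T : Set G) := by
  refine le_antisymm (Subgroup.commutator_le.mpr fun v hv b hb => ?_) fun x hx => ?_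
  · obtain ⟨a, rfl⟩ := (h.mem v).mp hv
    obtain ⟨s, rfl⟩ := (h.sylow b).mp (hBT hb)
    rw [commutatorElement_def, h.comm_eq]
    exact h.fixed_eq.mpr ⟨_, rfl⟩
  · obtain ⟨s, rfl⟩ := h.fixed_eq.mp hx
    have h1 := Subgroup.commutator_mem_commutator (h.e_mem ![0, -(s / t)]) htB
    rw [commutatorElement_def, h.comm_eq] at h1
    simpa [mul_div_cancel₀ _ ht] using h1

/-- A diagonal element normalizes `T`. -/
theorem Coord.diag (h : Coord V L T θ e) {b : F} (hb : b ≠ 0) :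
    ∃ d : G, d ∈ L ⊓ Subgroup.normalizer (T : Set G) ∧ ∀ a : Fin 2 → F, d * e a * d⁻¹ = e ![b * a 0, b⁻¹ * a 1] := by
  let D : SL2 := ⟨!![b, 0; 0, b⁻¹], by simp [Matrix.det_fin_two_of, hb]⟩
  have hconj : ∀ t : F, D * us (Multiplicative.ofAdd t) * D⁻¹ = us (Multiplicative.ofAdd (b ^ 2 * t)) := fun t => by
    rw [mul_inv_eq_iff_eq_mul]
    apply Subtype.ext
    show !![b, 0; 0, b⁻¹] * !![1, t; 0, 1] = !![1, b ^ 2 * t; 0, 1] * !![b, 0; 0, b⁻¹]
    ext i j
    fin_cases i <;> fin_cases j <;> simp [Matrix.mul_apply, Fin.sum_univ_two]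
    field_simp
  have key : ∀ t : F, ((θ.symm D : L) : G) * ((θ.symm (us (Multiplicative.ofAdd t)) : L) : G) * ((θ.symm D : L) : G)⁻¹ =
      ((θ.symm (us (Multiplicative.ofAdd (b ^ 2 * t))) : L) : G) := fun t => by
    rw [← hconj, map_mul, map_mul, map_inv]
    rfl
  refine ⟨(θ.symm D : L), ⟨(θ.symm D).2, Subgroup.mem_normalizer_iff.mpr fun x => ⟨fun hx => ?_, fun hx => ?_⟩⟩,
    fun a => ?_⟩
  · obtain ⟨t, rfl⟩ := (h.sylow x).mp hx
    rw [key]
    exact h.t_mem _
  · obtain ⟨t, ht⟩ := (h.sylow _).mp hx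
    have h2 := key (t / b ^ 2)
    rw [mul_div_cancel₀ _ (pow_ne_zero 2 hb), ← ht] at h2
    exact mul_left_cancel (mul_right_cancel h2) ▸ h.t_mem _
  · rw [h.conj, MulEquiv.apply_symm_apply]
    congr 1
    show (!![b, 0; 0, b⁻¹] : Matrix (Fin 2) (Fin 2) F).mulVec a = _
    ext i
    fin_cases i <;> simp [Matrix.mulVec, dotProduct, Fin.sum_univ_two]

/-- An element of order prime to the characteristic fixing a nonzero vector is trivial. -/
theorem eq_one_of_fixes {p : ℕ} [Fact p.Prime] [CharP F p] (M : SL2) (hco : (orderOf M).Coprime p)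
    (a : Fin 2 → F) (ha : a ≠ 0) (hfix : M.1.mulVec a = a) : M = 1 := by
  have hdet1 : (M.1 - 1).det = 0 :=
    Matrix.exists_mulVec_eq_zero_iff.mp ⟨a, ha, by rw [Matrix.sub_mulVec, hfix, one_mulVec, sub_self]⟩
  have hdet := M.2
  rw [det_fin_two] at hdet hdet1
  simp at hdet1
  have htr : M.1 0 0 + M.1 1 1 = 2 := by linear_combination hdet - hdet1
  have hsq : (M.1 - 1) * (M.1 - 1) = 0 := by
    ext i j
    fin_cases i <;> fin_cases j <;> simp [Matrix.mul_apply, Fin.sum_univ_two]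
    · linear_combination (M.1 0 0) * htr - hdet
    · linear_combination (M.1 0 1) * htr
    · linear_combination (M.1 1 0) * htr
    · linear_combination (M.1 1 1) * htr - hdet
  have hp : (M.1 - 1) ^ p = 0 := by
    obtain ⟨k, hk⟩ := Nat.le.dest (Fact.out : p.Prime).two_le
    rw [← hk, pow_add, pow_two, hsq, zero_mul]
  rw [sub_pow_char_of_commute (p := p) (Commute.one_right M.1), one_pow, sub_eq_zero] at hp
  have hMp : M ^ p = 1 := Subtype.ext ((Matrix.SpecialLinearGroup.coe_pow M p).trans hp)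
  exact orderOf_eq_one_iff.mp (Nat.eq_one_of_dvd_coprimes hco dvd_rfl (orderOf_dvd_of_pow_eq_one hMp))

end CfsgLib.NaturalSL2
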