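import Cfsg.Agent.Lib.NilpotentCover
import Cfsg.Agent.Lib.NilpotentCommute

/-!
Subgroups of `PGL n q` containing `PSL n q` have no minimal cover by nilpotent subgroups.

A nilpotent group containing a `p`-element with one fixed line stabilises that line; for `n ≥ 3`
this puts two different members into a line stabiliser, and for `n = 2` it gives an injection of
points and of irreducible quadratic algebras into the members, which is too many.
-/

set_option autoImplicit false
set_option linter.unusedSectionVars false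

namespace CfsgLib.NilCoverPGL

open Matrix

variable {F : Type*} [Field F] [Fintype F]

section General

variable {n : ℕ}

/-- Lifts of a subgroup of `G` to the general linear group. -/
def pre {G : Subgroup (GL (Fin n) F ⧸ Subgroup.center (GL (Fin n) F))} (A : Subgroup G) :
    Subgroup (GL (Fin n) F) :=
  (A.map G.subtype).comap (QuotientGroup.mk' _)

/-- Restriction to `G` of the image of a subgroup of the general linear group. -/
def res (G : Subgroup (GL (Fin n) F ⧸ Subgroup.center (GL (Fin n) F)))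
    (M : Subgroup (GL (Fin n) F)) : Subgroup G :=
  (M.map (QuotientGroup.mk' _)).comap G.subtype

theorem mem_pre {G : Subgroup (GL (Fin n) F ⧸ Subgroup.center (GL (Fin n) F))} {A : Subgroup G}
    {k : GL (Fin n) F} {g : G} (hg : (g : GL (Fin n) F ⧸ Subgroup.center (GL (Fin n) F)) =
      QuotientGroup.mk' (Subgroup.center (GL (Fin n) F)) k) : k ∈ pre A ↔ g ∈ A := by
  rw [pre, Subgroup.mem_comap, ← hg]
  exact Subgroup.mem_map_iff_mem G.subtype_injective

theorem exists_lift {G : Subgroup (GL (Fin n) F ⧸ Subgroup.center (GL (Fin n) F))} (g : G) :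
    ∃ k : GL (Fin n) F, (g : GL (Fin n) F ⧸ Subgroup.center (GL (Fin n) F)) =
      QuotientGroup.mk' (Subgroup.center (GL (Fin n) F)) k :=
  (QuotientGroup.mk'_surjective _ (g : GL (Fin n) F ⧸ Subgroup.center (GL (Fin n) F))).imp
    fun _ h => h.symm

theorem isNilpotent_pre {G : Subgroup (GL (Fin n) F ⧸ Subgroup.center (GL (Fin n) F))}
    {A : Subgroup G} (hA : Group.IsNilpotent A) : Group.IsNilpotent (pre A) := by
  have hB : Group.IsNilpotent (A.map G.subtype) :=
    Group.nilpotent_of_mulEquiv (Subgroup.equivMapOfInjective A G.subtype G.subtype_injective)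
  let f : pre A →* A.map G.subtype :=
    ((QuotientGroup.mk' (Subgroup.center (GL (Fin n) F))).comp (pre A).subtype).codRestrict
      (A.map G.subtype) (fun k => k.2)
  refine Subgroup.isNilpotent_of_ker_le_center f ?_
  intro k hk
  have h1 : QuotientGroup.mk' (Subgroup.center (GL (Fin n) F)) (k : GL (Fin n) F) = 1 :=
    congrArg Subtype.val (MonoidHom.mem_ker.1 hk)
  rw [← MonoidHom.mem_ker, QuotientGroup.ker_mk'] at h1
  exact Subgroup.mem_center_iff.2 fun a => Subtype.ext (Subgroup.mem_center_iff.1 h1 a)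

/-- Stabiliser of the line through `v`. -/
def stabLine (v : Fin n → F) : Subgroup (GL (Fin n) F) where
  carrier := {k | ∃ c : F, (k : Matrix (Fin n) (Fin n) F) *ᵥ v = c • v}
  one_mem' := ⟨1, by rw [Units.val_one, one_mulVec, one_smul]⟩
  mul_mem' := by
    rintro a b ⟨c, hc⟩ ⟨d, hd⟩
    exact ⟨d * c, by rw [Units.val_mul, ← mulVec_mulVec, hd, mulVec_smul, hc, smul_smul]⟩
  inv_mem' := by
    rintro a ⟨c, hc⟩
    have h : v = c • (((a⁻¹ : GL (Fin n) F) : Matrix (Fin n) (Fin n) F) *ᵥ v) := by
      rw [← mulVec_smul, ← hc, mulVec_mulVec, ← Units.val_mul, inv_mul_cancel, Units.val_one,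
        one_mulVec]
    rcases eq_or_ne c 0 with rfl | hc0
    · rw [zero_smul] at h
      exact ⟨0, by rw [h, mulVec_zero, smul_zero]⟩
    · refine ⟨c⁻¹, ?_⟩
      conv_rhs => rw [h, smul_smul, inv_mul_cancel₀ hc0, one_smul]

theorem mem_stabLine {v : Fin n → F} {k : GL (Fin n) F} :
    k ∈ stabLine v ↔ ∃ c : F, (k : Matrix (Fin n) (Fin n) F) *ᵥ v = c • v := Iff.rfl

theorem center_val {k : GL (Fin n) F} (hk : k ∈ Subgroup.center (GL (Fin n) F)) :
    ∃ c : F, (k : Matrix (Fin n) (Fin n) F) = c • 1 := by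
  obtain ⟨c, hc⟩ := GeneralLinearGroup.mem_center_iff_val_mem_range_scalar.1 hk
  exact ⟨c, by rw [← hc, scalar_apply, smul_one_eq_diagonal]⟩

theorem center_le_stabLine (v : Fin n → F) : Subgroup.center (GL (Fin n) F) ≤ stabLine v := by
  intro k hk
  obtain ⟨c, hc⟩ := center_val hk
  exact ⟨c, by rw [hc, smul_mulVec, one_mulVec]⟩

theorem mem_res_iff {G : Subgroup (GL (Fin n) F ⧸ Subgroup.center (GL (Fin n) F))}
    {M : Subgroup (GL (Fin n) F)} (hZ : Subgroup.center (GL (Fin n) F) ≤ M)
    {k : GL (Fin n) F} {g : G} (hg : (g : GL (Fin n) F ⧸ Subgroup.center (GL (Fin n) F)) =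
      QuotientGroup.mk' (Subgroup.center (GL (Fin n) F)) k) : g ∈ res G M ↔ k ∈ M := by
  rw [res, Subgroup.mem_comap, Subgroup.coe_subtype, hg, ← Subgroup.mem_comap,
    Subgroup.comap_map_eq, QuotientGroup.ker_mk', sup_of_le_left hZ]

/-- The `p`-elements of a finite nilpotent group fix a common vector. -/
theorem exists_fixed {p : ℕ} [Fact p.Prime] [CharP F p] {H : Type*} [Group H] [Finite H]
    (hH : Group.IsNilpotent H) (hn : 0 < n)
    (ρ : H →* Module.End F (Fin n → F)) :
    ∃ S : Subgroup H, S.Normal ∧ (∀ x : H, ∀ k : ℕ, x ^ p ^ k = 1 → x ∈ S) ∧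
      ∃ v : Fin n → F, v ≠ 0 ∧ ∀ x ∈ S, ρ x v = v := by
  classical
  obtain ⟨P⟩ := (inferInstance : Nonempty (Sylow p H))
  have hPn : (P : Subgroup H).Normal :=
    ((Group.isNilpotent_of_finite_tfae (G := H)).out 0 3 rfl rfl).1 hH p inferInstance P
  refine ⟨P, hPn, ?_, ?_⟩
  · intro x k hx
    obtain ⟨i, -, hi⟩ := (Nat.dvd_prime_pow (Fact.out : p.Prime)).1 (orderOf_dvd_of_pow_eq_one hx)
    obtain ⟨Q, hQ⟩ :=
      (IsPGroup.of_card (p := p) (G := Subgroup.zpowers x) (by rw [Nat.card_zpowers, hi])).exists_le_sylow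
    haveI := Sylow.unique_of_normal P hPn
    rw [Subsingleton.elim P Q]
    exact hQ (Subgroup.mem_zpowers x)
  · letI : MulAction ↥(P : Subgroup H) (Fin n → F) :=
      { smul := fun g w => ρ (g : H) w
        one_smul := fun w => by
          show ρ ((1 : ↥(P : Subgroup H)) : H) w = w
          rw [Subgroup.coe_one, map_one]; rfl
        mul_smul := fun a b w => by
          show ρ ((a * b : ↥(P : Subgroup H)) : H) w = ρ (a : H) (ρ (b : H) w)
          rw [Subgroup.coe_mul, map_mul]; rfl }
    have hdvd : p ∣ Nat.card (Fin n → F) := by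
      obtain ⟨m, -, hm⟩ := FiniteField.card F p
      rw [Nat.card_eq_fintype_card, Fintype.card_fun, Fintype.card_fin, hm, ← pow_mul]
      exact dvd_pow_self p (Nat.mul_ne_zero m.ne_zero hn.ne')
    obtain ⟨v, hv, hv0⟩ := P.isPGroup'.exists_fixed_point_of_prime_dvd_card_of_fixed_point
      (Fin n → F) hdvd (a := 0) (fun g => map_zero (ρ (g : H)))
    exact ⟨v, Ne.symm hv0, fun x hx => hv ⟨x, hx⟩⟩

/-- The natural action. -/
def natAct (H : Subgroup (GL (Fin n) F)) : H →* Module.End F (Fin n → F) where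
  toFun k := Matrix.mulVecLin ((k : GL (Fin n) F) : Matrix (Fin n) (Fin n) F)
  map_one' := LinearMap.ext fun w => by simp
  map_mul' a b := LinearMap.ext fun w => by
    simp [Module.End.mul_apply, mulVec_mulVec]

/-- The dual action. -/
def dualAct (H : Subgroup (GL (Fin n) F)) : H →* Module.End F (Fin n → F) where
  toFun k := Matrix.vecMulLinear (((k : GL (Fin n) F)⁻¹ : GL (Fin n) F) : Matrix (Fin n) (Fin n) F)
  map_one' := LinearMap.ext fun w => by simp
  map_mul' a b := LinearMap.ext fun w => by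
    simp [Module.End.mul_apply, vecMul_vecMul]

/-- A nilpotent group containing a `p`-element with a single fixed line stabilises that line. -/
theorem stab_fixed {p : ℕ} [Fact p.Prime] [CharP F p] {H : Subgroup (GL (Fin n) F)}
    (hH : Group.IsNilpotent H) (hn : 0 < n) {u : GL (Fin n) F} (hu : u ∈ H) {k : ℕ}
    (hup : u ^ p ^ k = 1) {v : Fin n → F}
    (hfix : ∀ w : Fin n → F, (u : Matrix (Fin n) (Fin n) F) *ᵥ w = w → ∃ c : F, w = c • v) :
    H ≤ stabLine v ∧
      ∀ x ∈ H, ∀ j : ℕ, x ^ p ^ j = 1 → (x : Matrix (Fin n) (Fin n) F) *ᵥ v = v := by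
  obtain ⟨S, hSn, hS, w, hw0, hw⟩ := exists_fixed (p := p) hH hn (natAct H)
  have huS : (⟨u, hu⟩ : H) ∈ S := hS _ k (Subtype.ext hup)
  obtain ⟨c, hc⟩ := hfix w (hw _ huS)
  have hc0 : c ≠ 0 := by rintro rfl; exact hw0 (by rw [hc, zero_smul])
  refine ⟨fun g hg => ?_, fun x hx j hxj => ?_⟩
  · have h1 : (u : Matrix (Fin n) (Fin n) F) *ᵥ ((g : Matrix (Fin n) (Fin n) F) *ᵥ w) =
        (g : Matrix (Fin n) (Fin n) F) *ᵥ w := by
      have hc' : (⟨g, hg⟩ : H)⁻¹ * ⟨u, hu⟩ * ⟨g, hg⟩ ∈ S := by
        simpa using hSn.conj_mem _ huS (⟨g, hg⟩ : H)⁻¹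
      have h3 : (u * g : GL (Fin n) F) = g * (g⁻¹ * u * g) := by group
      rw [mulVec_mulVec, ← Units.val_mul, h3, Units.val_mul, ← mulVec_mulVec]
      exact congrArg ((g : Matrix (Fin n) (Fin n) F) *ᵥ ·) (hw _ hc')
    obtain ⟨d, hd⟩ := hfix _ h1
    refine ⟨c⁻¹ * d, ?_⟩
    rw [hc, mulVec_smul] at hd
    rw [mul_smul, ← hd, smul_smul, inv_mul_cancel₀ hc0, one_smul]
  · have h1 := hw _ (hS ⟨x, hx⟩ j (Subtype.ext hxj))
    rw [hc] at h1
    simp only [natAct, MonoidHom.coe_mk, OneHom.coe_mk, mulVecLin_apply, mulVec_smul] at h1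
    exact smul_right_injective _ hc0 h1

theorem unipotent_pow {p : ℕ} [Fact p.Prime] [CharP F p] [NeZero n] {N : Matrix (Fin n) (Fin n) F}
    (hN : ∃ m, N ^ m = 0) : ∃ k, (1 + N) ^ p ^ k = 1 := by
  obtain ⟨m, hm⟩ := hN
  haveI : ExpChar (Matrix (Fin n) (Fin n) F) p := ExpChar.prime (Fact.out)
  refine ⟨m, ?_⟩
  rw [add_pow_expChar_pow_of_commute p m (Commute.one_left N), one_pow,
    pow_eq_zero_of_le (Nat.lt_pow_self (Fact.out : p.Prime).one_lt).le hm, add_zero]

end General

/-! ### Degree at least three -/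

section Big

variable {m : ℕ}

/-- The nilpotent Jordan block. -/
def shift (n : ℕ) : Matrix (Fin n) (Fin n) F :=
  Matrix.of fun i j => if (j : ℕ) = (i : ℕ) + 1 then 1 else 0

theorem shift_pow (n k : ℕ) (i j : Fin n) (h : (j : ℕ) ≠ (i : ℕ) + k) :
    ((shift n : Matrix (Fin n) (Fin n) F) ^ k) i j = 0 := by
  induction k generalizing j with
  | zero =>
    rw [pow_zero, one_apply, if_neg]
    rintro rfl
    exact h (by simp)
  | succ k ih =>
    rw [pow_succ, mul_apply]
    refine Finset.sum_eq_zero fun l _ => ?_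
    by_cases hl : (l : ℕ) = (i : ℕ) + k
    · rw [show (shift n : Matrix (Fin n) (Fin n) F) l j = 0 from if_neg (by omega), mul_zero]
    · rw [ih l hl, zero_mul]

theorem det_one_add_shift (n : ℕ) : (1 + shift n : Matrix (Fin n) (Fin n) F).det = 1 := by
  rw [Matrix.det_of_isUpperTriangular]
  · refine Finset.prod_eq_one fun i _ => ?_
    simp [shift]
  · intro i j hij
    have h1 : i ≠ j := fun e => by subst e; exact lt_irrefl _ hij
    have h2 : ¬ (j : ℕ) = (i : ℕ) + 1 := by
      have : (j : ℕ) < (i : ℕ) := hij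
      omega
    simp [shift, one_apply_ne h1, h2]

theorem shift_fixed (w : Fin (m + 3) → F)
    (h : (1 + shift (m + 3) : Matrix (Fin (m + 3)) (Fin (m + 3)) F) *ᵥ w = w) (j : Fin (m + 3))
    (hj : j ≠ 0) : w j = 0 := by
  rw [add_mulVec, one_mulVec, add_eq_left] at h
  have hj' : 0 < (j : ℕ) := Nat.pos_of_ne_zero fun e => hj (Fin.ext e)
  have h1 := congrFun h ⟨(j : ℕ) - 1, by omega⟩
  simp only [mulVec, dotProduct, Pi.zero_apply] at h1
  rw [Finset.sum_eq_single j] at h1
  · rw [shift, Matrix.of_apply, if_pos (show (j : ℕ) = (j : ℕ) - 1 + 1 by omega), one_mul] at h1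
    exact h1
  · intro l _ hl
    have : ¬ (l : ℕ) = (j : ℕ) - 1 + 1 := fun e => hl (Fin.ext (by omega))
    simp [shift, this]
  · exact fun h => absurd (Finset.mem_univ j) h

theorem shift_cofixed (φ : Fin (m + 3) → F)
    (h : φ ᵥ* (1 + shift (m + 3) : Matrix (Fin (m + 3)) (Fin (m + 3)) F) = φ) (i : Fin (m + 3))
    (hi : i ≠ Fin.last _) : φ i = 0 := by
  rw [vecMul_add, vecMul_one, add_eq_left] at h
  have hi' : (i : ℕ) + 1 < m + 3 := by
    rcases lt_or_eq_of_le (Nat.succ_le_of_lt i.2) with h' | h'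
    · exact h'
    · exact absurd (Fin.ext (by simp [Fin.last] at h' ⊢; omega)) hi
  have h1 := congrFun h ⟨(i : ℕ) + 1, hi'⟩
  simp only [vecMul, dotProduct, Pi.zero_apply] at h1
  rw [Finset.sum_eq_single i] at h1
  · simpa [shift] using h1
  · intro l _ hl
    have : ¬ (i : ℕ) + 1 = (l : ℕ) + 1 := fun e => hl (Fin.ext (by omega))
    rw [shift, Matrix.of_apply, if_neg this, mul_zero]
  · exact fun h => absurd (Finset.mem_univ i) h

theorem no_cover_big {p : ℕ} [Fact p.Prime] [CharP F p]
    (G : Subgroup (GL (Fin (m + 3)) F ⧸ Subgroup.center (GL (Fin (m + 3)) F)))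
    (hG : ∀ k : GL (Fin (m + 3)) F, (k : Matrix (Fin (m + 3)) (Fin (m + 3)) F).det = 1 →
      QuotientGroup.mk' (Subgroup.center (GL (Fin (m + 3)) F)) k ∈ G)
    (𝓐 : Finset (Subgroup G)) (h : CfsgLib.NilpotentCover.IsMinNilCover 𝓐) : False := by
  classical
  have hJ := det_one_add_shift (F := F) (m + 3)
  let J : GL (Fin (m + 3)) F :=
    GeneralLinearGroup.mkOfDetNeZero (1 + shift (m + 3)) (by rw [hJ]; exact one_ne_zero)
  let a : Fin (m + 3) := ⟨m + 1, by omega⟩
  let b : Fin (m + 3) := Fin.last _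
  have hab : a ≠ b := fun e => by have := congrArg Fin.val e; simp [a, b] at this
  let Pm : Matrix (Fin (m + 3)) (Fin (m + 3)) F := (Equiv.swap a b).permMatrix F
  have hPm : Pm * Pm = 1 := by
    simp only [Pm, ← Matrix.permMatrix_mul, Equiv.swap_mul_self, Matrix.permMatrix_one]
  let P : GL (Fin (m + 3)) F := ⟨Pm, Pm, hPm, hPm⟩
  let J' : GL (Fin (m + 3)) F := P * J * P⁻¹
  have hJ'det : (J' : Matrix (Fin (m + 3)) (Fin (m + 3)) F).det = 1 := by
    show (Pm * (1 + shift (m + 3)) * Pm).det = 1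
    rw [det_mul, det_mul, hJ, mul_one, ← det_mul, hPm, det_one]
  obtain ⟨e, he⟩ := unipotent_pow (p := p) (N := (shift (m + 3) : Matrix _ _ F))
    ⟨m + 3, Matrix.ext fun i j => shift_pow _ _ i j (by omega)⟩
  have hJp : J ^ p ^ e = 1 := Units.ext (by rw [Units.val_pow_eq_pow_val, Units.val_one]; exact he)
  have hJ'p : J' ^ p ^ e = 1 := by rw [conj_pow, hJp, mul_one, mul_inv_cancel]
  obtain ⟨A, hA, hJA⟩ := h.1.2 ⟨_, hG J hJ⟩
  obtain ⟨B, hB, hJB⟩ := h.1.2 ⟨_, hG J' hJ'det⟩
  have hJA' : J ∈ pre A := (mem_pre rfl).2 hJA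
  have hJB' : J' ∈ pre B := (mem_pre rfl).2 hJB
  let v : Fin (m + 3) → F := Pi.single 0 1
  have hv1 : ∀ w : Fin (m + 3) → F, (J : Matrix (Fin (m + 3)) (Fin (m + 3)) F) *ᵥ w = w →
      ∃ c : F, w = c • v := by
    intro w hw
    refine ⟨w 0, funext fun j => ?_⟩
    rcases eq_or_ne j 0 with rfl | hj
    · simp [v]
    · simp [v, hj, shift_fixed w hw j hj]
  have ha0 : a ≠ 0 := fun e => by have := congrArg Fin.val e; simp [a] at this
  have hb0 : b ≠ 0 := fun e => by have := congrArg Fin.val e; simp [b] at this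
  have hv2 : ∀ w : Fin (m + 3) → F, (J' : Matrix (Fin (m + 3)) (Fin (m + 3)) F) *ᵥ w = w →
      ∃ c : F, w = c • v := by
    intro w hw
    have hw' : (J : Matrix (Fin (m + 3)) (Fin (m + 3)) F) *ᵥ (Pm *ᵥ w) = Pm *ᵥ w := by
      have := congrArg (Pm *ᵥ ·) hw
      change Pm *ᵥ ((Pm * _ * Pm) *ᵥ w) = Pm *ᵥ w at this
      rw [mulVec_mulVec, ← mul_assoc, ← mul_assoc, hPm, one_mul, ← mulVec_mulVec] at this
      exact this
    obtain ⟨c, hc⟩ := hv1 _ hw'
    refine ⟨c, ?_⟩
    have h1 := congrArg (Pm *ᵥ ·) hc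
    simp only [mulVec_mulVec, hPm, one_mulVec, mulVec_smul] at h1
    rw [h1]
    congr 1
    ext j
    simp only [Pm, v, Matrix.permMatrix_mulVec, Function.comp_apply]
    rcases eq_or_ne j 0 with rfl | hj
    · simp [Equiv.swap_apply_of_ne_of_ne ha0.symm hb0.symm]
    · have : Equiv.swap a b j ≠ 0 := fun e => hj (by
        have := congrArg (Equiv.swap a b) e
        rwa [Equiv.swap_apply_self, Equiv.swap_apply_of_ne_of_ne ha0.symm hb0.symm] at this)
      simp [hj, this]
  -- both members lie in the stabiliser of the common line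
  have hle : ∀ C ∈ 𝓐, ∀ u : GL (Fin (m + 3)) F, u ∈ pre C → u ^ p ^ e = 1 →
      (∀ w : Fin (m + 3) → F, (u : Matrix (Fin (m + 3)) (Fin (m + 3)) F) *ᵥ w = w →
        ∃ c : F, w = c • v) → C ≤ res G (stabLine v) := by
    intro C hC u hu hup hfix g hg
    obtain ⟨k, hk⟩ := exists_lift g
    rw [mem_res_iff (center_le_stabLine v) hk]
    exact (stab_fixed (isNilpotent_pre (h.2.2 C hC)) (by omega) hu hup hfix).1 ((mem_pre hk).2 hg)
  have hproper : res G (stabLine v) ≠ ⊤ := by
    intro htop
    let L : GL (Fin (m + 3)) F :=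
      GeneralLinearGroup.mkOfDetNeZero (1 + shift (m + 3))ᵀ (by rw [det_transpose, hJ]; exact one_ne_zero)
    have hL : (⟨_, hG L (by show (1 + shift (m + 3) : Matrix _ _ F)ᵀ.det = 1; rw [det_transpose, hJ])⟩ : G) ∈
        res G (stabLine v) := by rw [htop]; exact Subgroup.mem_top _
    rw [mem_res_iff (center_le_stabLine v) rfl] at hL
    obtain ⟨c, hc⟩ := hL
    have h1 := congrFun hc ⟨1, by omega⟩
    change ((1 + shift (m + 3) : Matrix (Fin (m + 3)) (Fin (m + 3)) F)ᵀ *ᵥ v) ⟨1, by omega⟩ = _ at h1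
    simp [v, shift, mulVec_single, Fin.ext_iff] at h1
  have hAB : A = B := CfsgLib.NilpotentCover.absorb h hproper hA hB
    (hle A hA J hJA' hJp hv1) (hle B hB J' hJB' hJ'p hv2)
  -- no common fixed covector
  obtain ⟨S, -, hS, φ, hφ0, hφ⟩ :=
    exists_fixed (p := p) (isNilpotent_pre (h.2.2 A hA)) (by omega : 0 < m + 3) (dualAct (pre A))
  have hfixJ : φ ᵥ* (1 + shift (m + 3)) = φ := by
    have h1 := hφ _ (hS (⟨J, hJA'⟩ : pre A)⁻¹ e (by
      rw [inv_pow, inv_eq_one]; exact Subtype.ext hJp))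
    simp only [dualAct, MonoidHom.coe_mk, OneHom.coe_mk, InvMemClass.coe_inv, inv_inv,
      Matrix.vecMulLinear_apply] at h1
    exact h1
  have hfixJ' : φ ᵥ* (Pm * (1 + shift (m + 3)) * Pm) = φ := by
    have h1 := hφ _ (hS (⟨J', hAB ▸ hJB'⟩ : pre A)⁻¹ e (by
      rw [inv_pow, inv_eq_one]; exact Subtype.ext hJ'p))
    simp only [dualAct, MonoidHom.coe_mk, OneHom.coe_mk, InvMemClass.coe_inv, inv_inv,
      Matrix.vecMulLinear_apply] at h1
    exact h1
  have hfixP : (φ ᵥ* Pm) ᵥ* (1 + shift (m + 3)) = φ ᵥ* Pm := by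
    have := congrArg (· ᵥ* Pm) hfixJ'
    simp only [vecMul_vecMul, mul_assoc, hPm, mul_one] at this
    rw [vecMul_vecMul]
    exact this
  apply hφ0
  funext i
  rcases eq_or_ne i (Fin.last _) with rfl | hi
  · have h1 := shift_cofixed _ hfixP a hab
    simpa [Pm, Matrix.vecMul_permMatrix, b] using h1
  · exact shift_cofixed φ hfixJ i hi

end Big

/-! ### Degree two -/

section Two

local notation "M2" => Matrix (Fin 2) (Fin 2) F

/-- `g` has no eigenvector. -/
def Irr (g : M2) : Prop := ∀ v : Fin 2 → F, v ≠ 0 → ∀ c : F, g *ᵥ v ≠ c • v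

/-- The plane spanned by `1` and `g`. -/
def alg (g : M2) : Submodule F M2 := Submodule.span F {1, g}

theorem mem_alg {g z : M2} : z ∈ alg g ↔ ∃ a b : F, a • 1 + b • g = z := Submodule.mem_span_pair

theorem Irr.nonscalar {g : M2} (hg : Irr g) (c : F) : g ≠ c • 1 := fun e =>
  hg (Pi.single 0 1) (by simp) c (by rw [e, smul_mulVec, one_mulVec])

theorem irr_of_mem {g z : M2} (hg : Irr g) (hz : z ∈ alg g) (hns : ∀ c : F, z ≠ c • 1) :
    Irr z ∧ alg z = alg g := by
  obtain ⟨a, b, rfl⟩ := mem_alg.1 hz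
  have hb : b ≠ 0 := fun e => hns a (by rw [e, zero_smul, add_zero])
  refine ⟨fun v hv c h => hg v hv (b⁻¹ * (c - a)) ?_, le_antisymm ?_ ?_⟩
  · rw [add_mulVec, smul_mulVec, smul_mulVec, one_mulVec] at h
    rw [mul_smul, sub_smul, ← h, add_sub_cancel_left, smul_smul, inv_mul_cancel₀ hb, one_smul]
  · refine Submodule.span_le.2 ?_
    rintro _ (rfl | rfl)
    · exact mem_alg.2 ⟨1, 0, by simp⟩
    · exact mem_alg.2 ⟨a, b, rfl⟩
  · refine Submodule.span_le.2 ?_
    rintro _ (rfl | rfl)
    · exact mem_alg.2 ⟨1, 0, by simp⟩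
    · refine mem_alg.2 ⟨-(b⁻¹ * a), b⁻¹, ?_⟩
      rw [smul_add, smul_smul, smul_smul, inv_mul_cancel₀ hb, one_smul, ← add_assoc, neg_smul,
        neg_add_cancel, zero_add]

/-- The centraliser of an irreducible matrix is its plane. -/
theorem mem_alg_of_commute {g z : M2} (hg : Irr g) (hz : Commute g z) : z ∈ alg g := by
  let v : Fin 2 → F := Pi.single 0 1
  have hv : v ≠ 0 := by simp [v]
  have hli : LinearIndependent F ![v, g *ᵥ v] :=
    (LinearIndependent.pair_iff' hv).2 fun c h => hg v hv c h.symm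
  have hspan := hli.span_eq_top_of_card_eq_finrank (by simp)
  have hzv : z *ᵥ v ∈ Submodule.span F (Set.range ![v, g *ᵥ v]) := by rw [hspan]; trivial
  rw [Matrix.range_cons_cons_empty, Submodule.mem_span_pair] at hzv
  obtain ⟨a, b, hab⟩ := hzv
  refine mem_alg.2 ⟨a, b, ?_⟩
  have h1 : (a • 1 + b • g) *ᵥ v = z *ᵥ v := by
    rw [add_mulVec, smul_mulVec, smul_mulVec, one_mulVec, hab]
  have h2 : (a • 1 + b • g) *ᵥ (g *ᵥ v) = z *ᵥ (g *ᵥ v) := by
    have hc : Commute g (a • 1 + b • g) :=
      ((Commute.one_right g).smul_right a).add_right ((Commute.refl g).smul_right b)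
    rw [mulVec_mulVec, ← hc.eq, ← mulVec_mulVec, h1, mulVec_mulVec, hz.eq, mulVec_mulVec]
  apply Matrix.toLin'.injective
  apply LinearMap.ext_on_range hspan
  intro i
  fin_cases i
  · exact h1
  · exact h2

theorem det_ne_zero_of_mem {g z : M2} (hg : Irr g) (hz : z ∈ alg g) (hz0 : z ≠ 0) : z.det ≠ 0 := by
  intro hd
  obtain ⟨v, hv, hv0⟩ := Matrix.exists_mulVec_eq_zero_iff.2 hd
  rcases em (∀ c : F, z ≠ c • 1) with hns | hs
  · exact (irr_of_mem hg hz hns).1 v hv 0 (by rw [hv0, zero_smul])
  · push Not at hs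
    obtain ⟨c, rfl⟩ := hs
    rw [smul_mulVec, one_mulVec, smul_eq_zero] at hv0
    rcases hv0 with rfl | h
    · exact hz0 (zero_smul _ _)
    · exact hv h

theorem eq_or_eq_of_mul_eq_zero {g z w : M2} (hg : Irr g) (hz : z ∈ alg g) (h : z * w = 0) :
    z = 0 ∨ w = 0 := by
  rcases eq_or_ne z 0 with hz0 | hz0
  · exact Or.inl hz0
  · have hu : IsUnit z := (Matrix.isUnit_iff_isUnit_det z).2 (det_ne_zero_of_mem hg hz hz0).isUnit
    exact Or.inr (hu.mul_right_eq_zero.1 h)

theorem sq_eq (y : M2) : y * y = y.trace • y - y.det • (1 : M2) := by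
  ext i j
  fin_cases i <;> fin_cases j <;>
    simp [Matrix.mul_apply, Fin.sum_univ_two, det_fin_two, trace_fin_two] <;> ring

theorem mul_mem_alg {g a b : M2} (ha : a ∈ alg g) (hb : b ∈ alg g) : a * b ∈ alg g := by
  obtain ⟨a₀, a₁, rfl⟩ := mem_alg.1 ha
  obtain ⟨b₀, b₁, rfl⟩ := mem_alg.1 hb
  refine mem_alg.2 ⟨a₀ * b₀ - a₁ * b₁ * g.det, a₀ * b₁ + a₁ * b₀ + a₁ * b₁ * g.trace, ?_⟩
  simp only [add_mul, mul_add, smul_mul_assoc, mul_smul_comm, one_mul, mul_one, sq_eq g,
    smul_sub, smul_smul]
  module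

set_option maxHeartbeats 1000000 in
/-- In each irreducible plane there is a norm one element of non-zero trace. -/
theorem exists_witness (hq : 4 ≤ Fintype.card F) {g : M2} (hg : Irr g) :
    ∃ y : M2, y ∈ alg g ∧ y.det = 1 ∧ y.trace ≠ 0 ∧ ∀ c : F, y ≠ c • 1 := by
  classical
  -- the map `z ↦ det z` on the non-zero elements of the plane
  let Z := {z : M2 // z ∈ alg g ∧ z ≠ 0}
  have hli : LinearIndependent F ![(1 : M2), g] :=
    (LinearIndependent.pair_iff' one_ne_zero).2 fun c h => hg.nonscalar c h.symm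
  have hcard : Nat.card Z + 1 = Fintype.card F ^ 2 := by
    have h1 : Nat.card (alg g) = Fintype.card F ^ 2 := by
      rw [Module.natCard_eq_pow_finrank (K := F), Nat.card_eq_fintype_card]
      congr 1
      have := finrank_span_eq_card hli
      rwa [Matrix.range_cons_cons_empty, Fintype.card_fin] at this
    rw [← h1, ← Nat.card_congr ((Equiv.optionSubtypeNe (0 : alg g))), Finite.card_option]
    refine congrArg (· + 1) (Nat.card_congr ?_)
    exact { toFun := fun z => ⟨⟨z.1, z.2.1⟩, fun e => z.2.2 (congrArg Subtype.val e)⟩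
            invFun := fun z => ⟨z.1.1, z.1.2, fun e => z.2 (Subtype.ext e)⟩
            left_inv := fun z => rfl
            right_inv := fun z => rfl }
  let d : Z → Fˣ := fun z => Units.mk0 z.1.det (det_ne_zero_of_mem hg z.2.1 z.2.2)
  have hone : (1 : M2) ∈ alg g := mem_alg.2 ⟨1, 0, by simp⟩
  let N := {z : M2 // z ∈ alg g ∧ z.det = 1}
  -- every fibre of `d` has at most `|N|` elements
  have hfib : Fintype.card Z ≤ Fintype.card Fˣ * Fintype.card N := by
    rw [← Fintype.card_prod]
    let rep : Fˣ → M2 := fun c => if h : ∃ z : Z, d z = c then h.choose.1 else 1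
    have hrep : ∀ z : Z, rep (d z) ∈ alg g ∧ (rep (d z)).det = z.1.det := by
      intro z
      simp only [rep, dif_pos (⟨z, rfl⟩ : ∃ z' : Z, d z' = d z)]
      have := (⟨z, rfl⟩ : ∃ z' : Z, d z' = d z).choose_spec
      exact ⟨(⟨z, rfl⟩ : ∃ z' : Z, d z' = d z).choose.2.1, congrArg Units.val this⟩
    have hinv : ∀ z : Z, (rep (d z))⁻¹ ∈ alg g := by
      intro z
      obtain ⟨h1, h2⟩ := hrep z
      have hd0 : (rep (d z)).det ≠ 0 := by rw [h2]; exact det_ne_zero_of_mem hg z.2.1 z.2.2
      have hi : (rep (d z))⁻¹ =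
          (rep (d z)).det⁻¹ • ((rep (d z)).trace • (1 : M2) - rep (d z)) := by
        apply Matrix.inv_eq_left_inv
        rw [smul_mul_assoc, sub_mul, smul_mul_assoc, one_mul, sq_eq, sub_sub_cancel, smul_smul,
          inv_mul_cancel₀ hd0, one_smul]
      rw [hi]
      exact Submodule.smul_mem _ _ (Submodule.sub_mem _ (Submodule.smul_mem _ _ hone) h1)
    refine Fintype.card_le_of_injective
      (fun z : Z => (d z, (⟨(rep (d z))⁻¹ * z.1, mul_mem_alg (hinv z) z.2.1, by
        rw [det_mul, Matrix.det_nonsing_inv, (hrep z).2, Ring.inverse_eq_inv',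
          inv_mul_cancel₀ (det_ne_zero_of_mem hg z.2.1 z.2.2)]⟩ : N))) ?_
    intro z w h
    simp only [Prod.mk.injEq, Subtype.mk.injEq] at h
    obtain ⟨h1, h2⟩ := h
    have hd0 : IsUnit (rep (d z)).det := by
      rw [(hrep z).2]; exact (det_ne_zero_of_mem hg z.2.1 z.2.2).isUnit
    have h2' : (rep (d z))⁻¹ * z.1 = (rep (d w))⁻¹ * w.1 := by
      first | exact h2 | exact congrArg Subtype.val h2
    rw [← h1] at h2'
    have h3 := congrArg (rep (d z) * ·) h2'
    simp only [Matrix.mul_nonsing_inv_cancel_left _ _ hd0] at h3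
    exact Subtype.ext h3
  have hN : 5 ≤ Fintype.card N := by
    by_contra hlt
    rw [not_le] at hlt
    rw [Nat.card_eq_fintype_card] at hcard
    rw [Fintype.card_units] at hfib
    have : (Fintype.card F - 1) * Fintype.card N ≤ (Fintype.card F - 1) * 4 :=
      Nat.mul_le_mul_left _ (by omega)
    nlinarith [Nat.sub_add_cancel (show 1 ≤ Fintype.card F by omega)]
  by_contra hno
  push Not at hno
  -- norm one elements are ± 1 or of trace zero
  let y0 : Option N := if h : ∃ y : N, y.1.trace = 0 then some h.choose else none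
  have hmem : ∀ y : N, y.1 ∈ ({1, -1, (y0.map Subtype.val).getD 1,
      -((y0.map Subtype.val).getD 1)} : Finset M2) := by
    intro y
    by_cases hs : ∃ c : F, y.1 = c • 1
    · obtain ⟨c, hc⟩ := hs
      have hd := y.2.2
      rw [hc, det_smul, det_one, Fintype.card_fin, mul_one, sq_eq_one_iff] at hd
      rcases hd with rfl | rfl <;> simp [hc]
    · push Not at hs
      have ht : y.1.trace = 0 := by
        by_contra ht
        obtain ⟨c, hc⟩ := hno y.1 y.2.1 y.2.2 ht
        exact hs c hc
      have hex : ∃ y : N, y.1.trace = 0 := ⟨y, ht⟩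
      simp only [y0, dif_pos hex, Option.map_some, Option.getD_some]
      set w := hex.choose
      have hw : w.1.trace = 0 := hex.choose_spec
      have hyw : Commute y.1 w.1 := by
        obtain ⟨a, b, hab⟩ := mem_alg.1 y.2.1
        obtain ⟨a', b', hab'⟩ := mem_alg.1 w.2.1
        rw [← hab, ← hab']
        exact (((Commute.one_left _).smul_left a).add_left
          ((((Commute.one_right g).smul_right a').add_right
            ((Commute.refl g).smul_right b')).smul_left b))
      have h0 : (y.1 - w.1) * (y.1 + w.1) = 0 := by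
        rw [sub_mul, mul_add, mul_add, sq_eq y.1, sq_eq w.1, hyw.eq, ht, hw, y.2.2, w.2.2]
        simp only [zero_smul, one_smul]
        abel
      rcases eq_or_eq_of_mul_eq_zero hg (Submodule.sub_mem _ y.2.1 w.2.1) h0 with h | h
      · simp [sub_eq_zero.1 h]
      · simp [eq_neg_of_add_eq_zero_left h]
  have h4 : Fintype.card N ≤ 4 := by
    refine le_trans ?_ (Finset.card_le_four (a := (1 : M2)) (b := -1)
      (c := (y0.map Subtype.val).getD 1) (d := -((y0.map Subtype.val).getD 1)))
    rw [← Fintype.card_coe]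
    exact Fintype.card_le_of_injective (fun y : N => ⟨y.1, hmem y⟩)
      fun a b h => Subtype.ext (Subtype.mk.inj h)
  omega

/-- A member through an irreducible norm one element normalises its plane. -/
theorem exists_common {G : Subgroup (GL (Fin 2) F ⧸ Subgroup.center (GL (Fin 2) F))}
    {A : Subgroup G} (hA : Group.IsNilpotent A) {y : GL (Fin 2) F} (hy : y ∈ pre A)
    (hdet : (y : M2).det = 1) (htr : (y : M2).trace ≠ 0) (hirr : Irr (y : M2)) :
    ∃ z : M2, z ∈ alg (y : M2) ∧ (∀ c : F, z ≠ c • 1) ∧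
      ∀ k ∈ pre A, ∃ c : F, c ≠ 0 ∧ (k : M2) * z = c • (z * (k : M2)) := by
  obtain ⟨k₀, hk₀⟩ := exists_lift (G := G) 1
  have hne : Nontrivial A := by
    obtain ⟨a, ha, hay⟩ : ∃ a : G, a ∈ A ∧
        (a : GL (Fin 2) F ⧸ Subgroup.center (GL (Fin 2) F)) = QuotientGroup.mk' _ y := hy
    refine ⟨⟨⟨a, ha⟩, 1, fun e => ?_⟩⟩
    have h1 : QuotientGroup.mk' (Subgroup.center (GL (Fin 2) F)) y = 1 := by
      rw [← hay, show a = 1 from congrArg Subtype.val e]; rfl
    rw [← MonoidHom.mem_ker, QuotientGroup.ker_mk'] at h1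
    obtain ⟨c, hc⟩ := center_val h1
    exact hirr.nonscalar c hc
  have := hA
  obtain ⟨a, ha, ha1⟩ :=
    (Subgroup.bot_or_exists_ne_one _).resolve_left (Group.IsNilpotent.center_ne_bot A)
  obtain ⟨z, hz⟩ := exists_lift (a : G)
  have hzns : ∀ c : F, (z : M2) ≠ c • 1 := by
    intro c hc
    apply ha1
    apply Subtype.ext
    apply Subtype.ext
    rw [hz, show ((1 : A) : G) = 1 from rfl]
    show QuotientGroup.mk' _ z = 1
    rw [← MonoidHom.mem_ker, QuotientGroup.ker_mk',
      GeneralLinearGroup.mem_center_iff_val_mem_range_scalar]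
    exact ⟨c, by rw [hc, scalar_apply, smul_one_eq_diagonal]⟩
  have hcomm : ∀ k ∈ pre A, ∃ c : F, c ≠ 0 ∧ (k : M2) * (z : M2) = c • ((z : M2) * (k : M2)) := by
    intro k hk
    obtain ⟨b, hb, hbk⟩ : ∃ b : G, b ∈ A ∧
        (b : GL (Fin 2) F ⧸ Subgroup.center (GL (Fin 2) F)) = QuotientGroup.mk' _ k := hk
    have h1 := congrArg (fun t : A => ((t : G) : GL (Fin 2) F ⧸ Subgroup.center (GL (Fin 2) F)))
      (Subgroup.mem_center_iff.1 ha ⟨b, hb⟩)
    simp only [Subgroup.coe_mul] at h1
    rw [hbk, hz, ← map_mul, ← map_mul] at h1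
    have h2 : k * z * (z * k)⁻¹ ∈ Subgroup.center (GL (Fin 2) F) := by
      rw [← QuotientGroup.ker_mk' (Subgroup.center (GL (Fin 2) F)), MonoidHom.mem_ker, map_mul, h1,
        ← map_mul, mul_inv_cancel, map_one]
    obtain ⟨c, hc⟩ := center_val h2
    have h3 : k * z = (k * z * (z * k)⁻¹) * (z * k) := (inv_mul_cancel_right _ _).symm
    have h4 := congrArg Units.val h3
    rw [Units.val_mul (k * z * (z * k)⁻¹), hc, smul_mul_assoc, one_mul, Units.val_mul,
      Units.val_mul] at h4
    refine ⟨c, ?_, h4⟩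
    rintro rfl
    rw [zero_smul] at hc
    exact (k * z * (z * k)⁻¹).ne_zero hc
  refine ⟨z, ?_, hzns, hcomm⟩
  obtain ⟨c, hc0, hc⟩ := hcomm y hy
  have hdz : (z : M2).det ≠ 0 := (Matrix.GeneralLinearGroup.det z).ne_zero
  have hzi : ((z⁻¹ : GL (Fin 2) F) : M2) * (z : M2) = 1 := by
    rw [← Units.val_mul, inv_mul_cancel, Units.val_one]
  have h1 : ((z⁻¹ : GL (Fin 2) F) : M2) * ((y : M2) * (z : M2)) = c • (y : M2) := by
    rw [hc, mul_smul_comm, ← mul_assoc, hzi, one_mul]
  have hc1 : c = 1 := by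
    have ht := congrArg Matrix.trace h1
    rw [← mul_assoc, Matrix.trace_mul_cycle, ← Units.val_mul z, mul_inv_cancel,
      Units.val_one, one_mul, trace_smul, smul_eq_mul] at ht
    exact mul_right_cancel₀ htr (by rw [one_mul, ← ht])
  exact mem_alg_of_commute hirr (by rw [commute_iff_eq, hc, hc1, one_smul])

/-- A transvection fixing `v`. -/
def trans (v : Fin 2 → F) : M2 := 1 + Matrix.vecMulVec v ![-(v 1), v 0]

theorem det_trans (v : Fin 2 → F) : (trans v).det = 1 := by
  simp [trans, det_fin_two, vecMulVec_apply]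
  ring

theorem vecMulVec_sq (v : Fin 2 → F) : Matrix.vecMulVec v ![-(v 1), v 0] ^ 2 = 0 := by
  ext i j
  fin_cases i <;> fin_cases j <;>
    simp [pow_two, Matrix.mul_apply, Fin.sum_univ_two, vecMulVec_apply] <;> ring

theorem trans_fixed {v : Fin 2 → F} (hv : v ≠ 0) {w : Fin 2 → F} (h : trans v *ᵥ w = w) :
    ∃ c : F, w = c • v := by
  have h0 := congrFun h 0
  have h1 := congrFun h 1
  simp [trans, add_mulVec, one_mulVec, mulVec, dotProduct, Fin.sum_univ_two, vecMulVec_apply] at h0 h1
  by_cases hv0 : v 0 = 0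
  · have hv1 : v 1 ≠ 0 := fun e => hv (funext fun i => by fin_cases i <;> assumption)
    refine ⟨w 1 / v 1, funext (Fin.forall_fin_two.2 ⟨?_, ?_⟩)⟩
    · have : w 0 = 0 := by
        rw [hv0] at h1
        simpa [hv1] using h1
      simp [this, hv0]
    · simp [hv1]
  · refine ⟨w 0 / v 0, funext (Fin.forall_fin_two.2 ⟨?_, ?_⟩)⟩
    · simp [hv0]
    · have h2 : v 0 * (v 0 * w 1 - v 1 * w 0) = 0 := by linear_combination h0
      rw [mul_eq_zero, sub_eq_zero] at h2
      rcases h2 with h2 | h2
      · exact absurd h2 hv0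
      · simp only [Pi.smul_apply, smul_eq_mul]
        field_simp
        linear_combination h2

theorem trans_not_mem_of_commute {g : M2} (hg : Irr g) {v : Fin 2 → F} (hv : v ≠ 0)
    (h : Commute g (trans v)) : False := by
  have h1 : trans v *ᵥ (g *ᵥ v) = g *ᵥ v := by
    have hfix : trans v *ᵥ v = v := by
      ext i
      fin_cases i <;>
        simp [trans, add_mulVec, one_mulVec, mulVec, dotProduct, Fin.sum_univ_two, vecMulVec_apply] <;>
        ring
    rw [mulVec_mulVec, ← h.eq, ← mulVec_mulVec, hfix]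
  obtain ⟨c, hc⟩ := trans_fixed hv h1
  exact hg v hv c hc

theorem no_cover_two {p : ℕ} [Fact p.Prime] [CharP F p] (hq : 4 ≤ Fintype.card F)
    (G : Subgroup (GL (Fin 2) F ⧸ Subgroup.center (GL (Fin 2) F)))
    (hG : ∀ k : GL (Fin 2) F, (k : M2).det = 1 →
      QuotientGroup.mk' (Subgroup.center (GL (Fin 2) F)) k ∈ G)
    (𝓐 : Finset (Subgroup G)) (h : CfsgLib.NilpotentCover.IsMinNilCover 𝓐) : False := by
  classical
  let Pt := {L : Submodule F (Fin 2 → F) // ∃ v : Fin 2 → F, v ≠ 0 ∧ L = Submodule.span F {v}}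
  let Pl := {E : Submodule F M2 // ∃ g : M2, Irr g ∧ E = alg g}
  haveI : Fintype Pt := Fintype.ofFinite _
  haveI : Fintype Pl := Fintype.ofFinite _
  choose vL hvL hvL' using fun L : Pt => L.2
  choose gE hgE hgE' using fun E : Pl => E.2
  choose yE hy1 hy2 hy3 hy4 using fun E : Pl => exists_witness hq (hgE E)
  have hyirr : ∀ E, Irr (yE E) ∧ alg (yE E) = alg (gE E) := fun E =>
    irr_of_mem (hgE E) (hy1 E) (hy4 E)
  let u : Pt → GL (Fin 2) F := fun L =>
    GeneralLinearGroup.mkOfDetNeZero (trans (vL L)) (by rw [det_trans]; exact one_ne_zero)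
  let y : Pl → GL (Fin 2) F := fun E =>
    GeneralLinearGroup.mkOfDetNeZero (yE E) (by rw [hy2]; exact one_ne_zero)
  choose fu hfu hfu' using fun L => h.1.2 ⟨_, hG (u L) (det_trans (vL L))⟩
  choose fy hfy hfy' using fun E => h.1.2 ⟨_, hG (y E) (hy2 E)⟩
  have hu : ∀ L, u L ∈ pre (fu L) := fun L => (mem_pre rfl).2 (hfu' L)
  have hy : ∀ E, y E ∈ pre (fy E) := fun E => (mem_pre rfl).2 (hfy' E)
  have hup : ∀ L, ∃ e, u L ^ p ^ e = 1 := by
    intro L
    obtain ⟨e, he⟩ := unipotent_pow (p := p) ⟨2, vecMulVec_sq (vL L)⟩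
    exact ⟨e, Units.ext (by rw [Units.val_pow_eq_pow_val, Units.val_one]; exact he)⟩
  choose eu hup using hup
  have hstab : ∀ L, ∀ k ∈ pre (fu L), ∃ c : F, (k : M2) *ᵥ vL L = c • vL L := fun L k hk =>
    (stab_fixed (isNilpotent_pre (h.2.2 _ (hfu L))) two_pos (hu L) (hup L)
      fun w hw => trans_fixed (hvL L) hw).1 hk
  have hnuy : ∀ L E, fu L ≠ fy E := by
    intro L E e
    obtain ⟨c, hc⟩ := hstab L (y E) (e ▸ hy E)
    exact (hyirr E).1 _ (hvL L) c hc
  let f : Pt ⊕ Pl → {A : Subgroup G // A ∈ 𝓐} :=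
    Sum.elim (fun L => ⟨fu L, hfu L⟩) (fun E => ⟨fy E, hfy E⟩)
  have hinj : Function.Injective f := by
    rintro (L | E) (L' | E') hff
    · have he : fu L = fu L' := congrArg Subtype.val hff
      have h1 := (stab_fixed (isNilpotent_pre (h.2.2 _ (hfu L))) two_pos (hu L) (hup L)
        fun w hw => trans_fixed (hvL L) hw).2 (u L') (he ▸ hu L') (eu L') (hup L')
      obtain ⟨c, hc⟩ := trans_fixed (hvL L') h1
      refine congrArg Sum.inl (Subtype.ext ?_)
      rw [hvL' L, hvL' L', hc, Submodule.span_singleton_smul_eq]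
      exact IsUnit.mk0 c fun e => hvL L (by rw [hc, e, zero_smul])
    · exact absurd (congrArg Subtype.val hff) (hnuy L E')
    · exact absurd (congrArg Subtype.val hff).symm (hnuy L' E)
    · have he : fy E = fy E' := congrArg Subtype.val hff
      obtain ⟨z, hz, hzns, hcz⟩ := exists_common (h.2.2 _ (hfy E)) (hy E) (hy2 E) (hy3 E) (hyirr E).1
      obtain ⟨c, hc0, hc⟩ := hcz (y E') (he ▸ hy E')
      obtain ⟨hzi, hzalg⟩ := irr_of_mem (hyirr E).1 hz hzns
      have hc1 : c = 1 := by
        have hd : (z : M2).det ≠ 0 := det_ne_zero_of_mem (hyirr E).1 hz fun e => hzns 0 (by rw [e, zero_smul])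
        have hu := (Matrix.isUnit_iff_isUnit_det z).2 hd.isUnit
        have h1 := congrArg (fun t => Matrix.trace (t * (z : M2)⁻¹)) hc
        simp only [smul_mul_assoc, trace_smul, smul_eq_mul] at h1
        rw [mul_assoc, Matrix.mul_nonsing_inv _ hd.isUnit, mul_one, Matrix.trace_mul_cycle,
          Matrix.nonsing_inv_mul _ hd.isUnit, one_mul] at h1
        exact mul_right_cancel₀ (hy3 E') (by rw [one_mul]; exact h1.symm)
      rw [hc1, one_smul] at hc
      have h2 : alg (yE E') = alg z :=
        (irr_of_mem hzi (mem_alg_of_commute hzi hc.symm) (hy4 E')).2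
      refine congrArg Sum.inr (Subtype.ext ?_)
      rw [hgE' E, hgE' E', ← (hyirr E).2, ← (hyirr E').2, h2, hzalg]
  -- an element of the diagonal torus lies outside all these members
  obtain ⟨s, hs⟩ := IsCyclic.exists_generator (α := Fˣ)
  have hord : orderOf s = Fintype.card F - 1 := by
    rw [orderOf_eq_card_of_forall_mem_zpowers hs, Nat.card_eq_fintype_card, Fintype.card_units]
  let xm : M2 := Matrix.diagonal ![(s : F), ((s⁻¹ : Fˣ) : F)]
  have hxdet : xm.det = 1 := by simp [xm, det_diagonal, Fin.prod_univ_two]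
  let x : GL (Fin 2) F := GeneralLinearGroup.mkOfDetNeZero xm (by rw [hxdet]; exact one_ne_zero)
  have hsne : ∀ k : ℕ, 0 < k → k < Fintype.card F - 1 → s ^ k ≠ 1 := fun k hk hk' e => by
    have := Nat.le_of_dvd hk (orderOf_dvd_of_pow_eq_one e)
    omega
  have hss : (s : F) ≠ ((s⁻¹ : Fˣ) : F) := fun e => hsne 2 two_pos (by omega)
    (by rw [pow_two]; exact mul_eq_one_iff_eq_inv.2 (Units.ext e))
  obtain ⟨A₀, hA₀, hxA₀⟩ := h.1.2 ⟨_, hG x hxdet⟩
  have hxpre : x ∈ pre A₀ := (mem_pre rfl).2 hxA₀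
  have hxq : x ^ (Fintype.card F - 1) = 1 := by
    apply Units.ext
    rw [Units.val_pow_eq_pow_val, Units.val_one]
    show xm ^ _ = 1
    rw [Matrix.diagonal_pow, ← Matrix.diagonal_one]
    congr 1
    funext i
    fin_cases i <;> simp [FiniteField.pow_card_sub_one_eq_one]
  have hout : (⟨A₀, hA₀⟩ : {A : Subgroup G // A ∈ 𝓐}) ∉ Set.range f := by
    rintro ⟨L | E, e⟩
    · have e' : fu L = A₀ := congrArg Subtype.val e
      haveI := isNilpotent_pre (h.2.2 _ (hfu L))
      have hcop : (orderOf (⟨u L, hu L⟩ : pre (fu L))).Coprime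
          (orderOf (⟨x, e' ▸ hxpre⟩ : pre (fu L))) := by
        rw [Subgroup.orderOf_mk, Subgroup.orderOf_mk]
        refine Nat.Coprime.coprime_dvd_left (orderOf_dvd_of_pow_eq_one (hup L)) ?_
        refine Nat.Coprime.coprime_dvd_right (orderOf_dvd_of_pow_eq_one hxq) (Nat.Coprime.pow_left _ ?_)
        obtain ⟨m, -, hm⟩ := FiniteField.card F p
        rw [(Fact.out : p.Prime).coprime_iff_not_dvd]
        intro hd
        have h1 : p ∣ Fintype.card F := hm ▸ dvd_pow_self p m.ne_zero
        have := Nat.dvd_sub h1 hd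
        rw [Nat.sub_sub_self (by omega)] at this
        exact (Fact.out : p.Prime).one_lt.ne' (Nat.dvd_one.1 this)
      have hcm : Commute (trans (vL L)) xm :=
        congrArg (fun t : pre (fu L) => ((t : GL (Fin 2) F) : M2))
          (CfsgLib.commute_of_nilpotent _ _ hcop).eq
      have key : ∀ i : Fin 2, ∃ c : F, (Pi.single i 1 : Fin 2 → F) = c • vL L := by
        intro i
        have h1 : xm *ᵥ (trans (vL L) *ᵥ Pi.single i 1) =
            ![(s : F), ((s⁻¹ : Fˣ) : F)] i • (trans (vL L) *ᵥ Pi.single i 1) := by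
          rw [mulVec_mulVec, ← hcm.eq, ← mulVec_mulVec, ← mulVec_smul]
          congr 1
          ext j
          fin_cases i <;> fin_cases j <;> simp [xm]
        set w := trans (vL L) *ᵥ Pi.single i 1 with hw
        have h2 : ∀ j, j ≠ i → w j = 0 := by
          intro j hj
          have := congrFun h1 j
          simp only [xm, mulVec_diagonal, Pi.smul_apply, smul_eq_mul] at this
          by_contra hwj
          have := mul_right_cancel₀ hwj this
          fin_cases i <;> fin_cases j <;> first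
            | exact hj rfl
            | exact hss this
            | exact hss this.symm
        have h3 : w = w i • (Pi.single i 1 : Fin 2 → F) := by
          ext j
          rcases eq_or_ne j i with rfl | hj
          · simp
          · simp [h2 j hj, hj]
        have h4 : w i = 1 := by
          have hpow : ∀ k : ℕ, (trans (vL L)) ^ k *ᵥ Pi.single i 1 = w i ^ k • (Pi.single i 1 : Fin 2 → F) := by
            intro k
            induction k with
            | zero => rw [pow_zero, pow_zero, one_mulVec, one_smul]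
            | succ k ih =>
              rw [pow_succ, ← mulVec_mulVec, ← hw, h3, mulVec_smul, ih, smul_smul, pow_succ']
              simp
          have h5 := hpow (p ^ eu L)
          rw [show (trans (vL L)) ^ p ^ eu L = 1 by
            simpa [u] using congrArg Units.val (hup L), one_mulVec] at h5
          have h6 := congrFun h5 i
          simp at h6
          haveI : ExpChar F p := ExpChar.prime (Fact.out)
          exact iterateFrobenius_inj F p (eu L) (by
            simp only [iterateFrobenius_def, one_pow]; exact h6.symm)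
        refine trans_fixed (hvL L) ?_
        rw [← hw, h3, h4, one_smul]
      obtain ⟨c, hc⟩ := key 0
      obtain ⟨d, hd⟩ := key 1
      have h0 := congrFun hc 0
      have h1 := congrFun hc 1
      have h2 := congrFun hd 0
      simp at h0 h1 h2
      rcases h1 with rfl | h1
      · simp at h0
      rcases h2 with rfl | h2
      · have := congrFun hd 1
        simp at this
      · simp [h2] at h0
    · have e' : fy E = A₀ := congrArg Subtype.val e
      obtain ⟨hyi, -⟩ := hyirr E
      have hxe : xm *ᵥ (Pi.single 0 1) = (s : F) • Pi.single 0 1 := by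
        ext j; fin_cases j <;> simp [xm]
      by_cases h5 : Fintype.card F = 5
      · -- here `x` has order prime to that of `y ^ 2`
        haveI := isNilpotent_pre (h.2.2 _ (hfy E))
        have h50 : (5 : F) = 0 := by
          have := FiniteField.cast_card_eq_zero F
          rw [h5] at this
          exact_mod_cast this
        set t := (yE E).trace with ht
        have ht0 : t ≠ 0 := hy3 E
        have ht4 : t ^ 4 = 1 := by
          have := FiniteField.pow_card_sub_one_eq_one t ht0
          rwa [h5] at this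
        have hsq : yE E * yE E = t • yE E - (1 : M2) := by rw [sq_eq, hy2, one_smul]
        have ht2 : t ^ 2 = 1 := by
          have h1 : (t ^ 2 - 1) * (t ^ 2 + 1) = 0 := by linear_combination ht4
          rcases mul_eq_zero.1 h1 with h1 | h1
          · exact sub_eq_zero.1 h1
          exfalso
          let r : F := t / 2
          have h20 : (2 : F) ≠ 0 := fun e => one_ne_zero (α := F) (by linear_combination h50 - 2 * e)
          have hr : r * 2 = t := div_mul_cancel₀ t h20
          have hr2 : r ^ 2 = 1 := by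
            have : r ^ 2 * 4 = 4 := by linear_combination (r * 2 + t) * hr + h1 - h50
            exact mul_right_cancel₀ (fun e : (4 : F) = 0 => h20 (mul_self_eq_zero.1 (by linear_combination e)))
              (by rw [one_mul]; exact this)
          have h0 : (yE E - r • (1 : M2)) * (yE E - r • (1 : M2)) = 0 := by
            rw [sub_mul, mul_sub, mul_sub, hsq]
            simp only [smul_mul_assoc, mul_smul_comm, one_mul, mul_one, smul_smul]
            rw [← pow_two, hr2, ← hr]
            module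
          have hm : yE E - r • (1 : M2) ∈ alg (yE E) :=
            Submodule.sub_mem _ (mem_alg.2 ⟨0, 1, by simp⟩) (Submodule.smul_mem _ _ (mem_alg.2 ⟨1, 0, by simp⟩))
          rcases eq_or_eq_of_mul_eq_zero hyi hm h0 with h | h <;> exact hy4 E r (sub_eq_zero.1 h)
        have hy3' : (yE E) ^ 6 = 1 := by
          have h3 : (yE E) ^ 3 = -(t • (1 : M2)) := by
            rw [pow_succ, pow_two, hsq, sub_mul, smul_mul_assoc, hsq, smul_sub, smul_smul,
              ← pow_two, ht2, one_smul, one_mul]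
            abel
          rw [show 6 = 3 * 2 by rfl, pow_mul, h3, pow_two, neg_mul_neg, smul_mul_assoc,
            mul_smul_comm, smul_smul, one_mul, ← pow_two, ht2, one_smul]
        have hw3 : (y E * y E) ^ 3 = 1 := by
          apply Units.ext
          rw [← pow_two, ← pow_mul, Units.val_pow_eq_pow_val, Units.val_one]
          exact hy3'
        have hcop : (orderOf (⟨y E * y E, mul_mem (hy E) (hy E)⟩ : pre (fy E))).Coprime
            (orderOf (⟨x, e' ▸ hxpre⟩ : pre (fy E))) := by
          rw [Subgroup.orderOf_mk, Subgroup.orderOf_mk]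
          refine Nat.Coprime.coprime_dvd_left (orderOf_dvd_of_pow_eq_one hw3) ?_
          refine Nat.Coprime.coprime_dvd_right (orderOf_dvd_of_pow_eq_one hxq) ?_
          rw [h5]; decide
        have hcm : Commute (yE E * yE E) xm :=
          congrArg (fun t : pre (fy E) => ((t : GL (Fin 2) F) : M2))
            (CfsgLib.commute_of_nilpotent _ _ hcop).eq
        have hym : yE E ∈ alg (yE E) := mem_alg.2 ⟨0, 1, by simp⟩
        have hyy : ∀ c : F, yE E * yE E ≠ c • 1 := by
          intro c hc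
          rw [hsq, sub_eq_iff_eq_add, show c • (1 : M2) + 1 = (c + 1) • (1 : M2) by rw [add_smul, one_smul]] at hc
          exact hy4 E ((c + 1) / t) (by rw [div_eq_inv_mul, mul_smul, ← hc, smul_smul,
            inv_mul_cancel₀ ht0, one_smul])
        obtain ⟨hwi, hwalg⟩ := irr_of_mem hyi (mul_mem_alg hym hym) hyy
        have hxmem : xm ∈ alg (yE E) := hwalg ▸ mem_alg_of_commute hwi hcm
        have hxns : ∀ c : F, xm ≠ c • 1 := fun c hc => hss (by
          have h1 := congrFun (congrFun hc 0) 0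
          have h2 := congrFun (congrFun hc 1) 1
          simp [xm] at h1 h2
          rw [h1, Units.val_inv_eq_inv_val, h2])
        exact (irr_of_mem hyi hxmem hxns).1 _ (by simp) _ hxe
      · -- here `x ^ 2` would centralise the plane
        obtain ⟨z, hz, hzns, hcz⟩ := exists_common (h.2.2 _ (hfy E)) (hy E) (hy2 E) (hy3 E) hyi
        obtain ⟨hzi, hzalg⟩ := irr_of_mem hyi hz hzns
        obtain ⟨c, hc0, hc⟩ := hcz x (e' ▸ hxpre)
        have hcx : (xm * xm) * z = c ^ 2 • (z * (xm * xm)) := by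
          rw [mul_assoc, show xm * z = c • (z * xm) from hc, mul_smul_comm, ← mul_assoc,
            show xm * z = c • (z * xm) from hc, smul_mul_assoc, smul_smul, ← pow_two, mul_assoc]
        have hdd : c ^ 2 = 1 := by
          have := congrArg Matrix.det hc
          rw [det_mul, det_smul, det_mul, show (x : M2) = xm from rfl, Fintype.card_fin,
            mul_comm xm.det] at this
          exact (mul_eq_right₀ (mul_ne_zero (det_ne_zero_of_mem hyi hz fun e => hzns 0 (by rw [e, zero_smul]))
            (by rw [hxdet]; exact one_ne_zero))).1 this.symm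
        rw [hdd, one_smul] at hcx
        have hxx : xm * xm ∈ alg z := mem_alg_of_commute hzi hcx.symm
        have hxe2 : (xm * xm) *ᵥ (Pi.single 0 1) = ((s : F) * (s : F)) • Pi.single 0 1 := by
          rw [← mulVec_mulVec, hxe, mulVec_smul, hxe, smul_smul]
        by_cases hxns : ∀ c : F, xm * xm ≠ c • 1
        · exact (irr_of_mem hzi hxx hxns).1 _ (by simp) _ hxe2
        · push Not at hxns
          obtain ⟨d, hd⟩ := hxns
          have h1 := congrFun (congrFun hd 0) 0
          have h2 := congrFun (congrFun hd 1) 1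
          simp [xm] at h1 h2
          have hs4 : s ^ 4 = 1 := by
            have h4 : s * s = s⁻¹ * s⁻¹ := Units.ext (by push_cast; rw [h1, h2])
            calc s ^ 4 = (s * s) * (s * s) := by simp only [pow_succ, pow_zero, one_mul, mul_assoc]
              _ = (s⁻¹ * s⁻¹) * (s * s) := by rw [← h4]
              _ = 1 := by group
          have hdvd := orderOf_dvd_of_pow_eq_one hs4
          rw [hord] at hdvd
          have := Nat.le_of_dvd (by norm_num) hdvd
          have hq2 : Fintype.card F - 1 = 3 ∨ Fintype.card F - 1 = 4 := by omega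
          rcases hq2 with h' | h'
          · rw [h'] at hdvd; norm_num at hdvd
          · omega
  have hlow : Fintype.card (Pt ⊕ Pl) < Fintype.card {A : Subgroup G // A ∈ 𝓐} :=
    Fintype.card_lt_of_injective_of_notMem f hinj hout
  -- the cover by line stabilisers and plane centralisers
  let 𝓑 : Finset (Subgroup G) :=
    (Finset.univ.image fun L : Pt => res G (stabLine (vL L))) ∪
      (Finset.univ.image fun E : Pl => res G (Subgroup.centralizer {y E}))
  have hZC : ∀ k : GL (Fin 2) F, Subgroup.center (GL (Fin 2) F) ≤ Subgroup.centralizer {k} :=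
    fun k => Subgroup.center_le_centralizer _
  have hB1 : ∀ B ∈ 𝓑, B ≠ ⊤ := by
    intro B hB htop
    rcases Finset.mem_union.1 hB with hB | hB
    · obtain ⟨L, -, rfl⟩ := Finset.mem_image.1 hB
      obtain ⟨v', hv', hne⟩ : ∃ v' : Fin 2 → F, v' ≠ 0 ∧ ∀ c : F, vL L ≠ c • v' := by
        by_cases h0 : vL L 0 = 0
        · exact ⟨Pi.single 0 1, by simp, fun c e => hvL L (by
            have := congrFun e 0
            simp [h0] at this
            rw [e, ← this, zero_smul])⟩
        · exact ⟨Pi.single 1 1, by simp, fun c e => h0 (by rw [e]; simp)⟩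
      let k : GL (Fin 2) F :=
        GeneralLinearGroup.mkOfDetNeZero (trans v') (by rw [det_trans]; exact one_ne_zero)
      have hk : (⟨_, hG k (det_trans v')⟩ : G) ∈ res G (stabLine (vL L)) := by
        rw [htop]; exact Subgroup.mem_top _
      rw [mem_res_iff (center_le_stabLine _) rfl] at hk
      obtain ⟨c, hc⟩ := hk
      obtain ⟨e, he⟩ := unipotent_pow (p := p) ⟨2, vecMulVec_sq v'⟩
      have hpow : ∀ j : ℕ, (trans v') ^ j *ᵥ vL L = c ^ j • vL L := by
        intro j
        induction j with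
        | zero => simp
        | succ j ih =>
          rw [pow_succ, ← mulVec_mulVec, show trans v' *ᵥ vL L = c • vL L from hc, mulVec_smul, ih,
            smul_smul, pow_succ']
      have h1 := hpow (p ^ e)
      rw [show trans v' ^ p ^ e = 1 from he, one_mulVec] at h1
      haveI : ExpChar F p := ExpChar.prime (Fact.out)
      have hc1 : c = 1 := iterateFrobenius_inj F p e (by
        simp only [iterateFrobenius_def, one_pow]
        exact (smul_left_injective F (hvL L)) (by simp only [one_smul]; exact h1.symm))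
      obtain ⟨d, hd⟩ := trans_fixed hv' (show trans v' *ᵥ vL L = vL L by
        rw [show trans v' *ᵥ vL L = c • vL L from hc, hc1, one_smul])
      exact hne d hd
    · obtain ⟨E, -, rfl⟩ := Finset.mem_image.1 hB
      let v' : Fin 2 → F := Pi.single 0 1
      let k : GL (Fin 2) F :=
        GeneralLinearGroup.mkOfDetNeZero (trans v') (by rw [det_trans]; exact one_ne_zero)
      have hk : (⟨_, hG k (det_trans v')⟩ : G) ∈ res G (Subgroup.centralizer {y E}) := by
        rw [htop]; exact Subgroup.mem_top _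
      rw [mem_res_iff (hZC _) rfl, Subgroup.mem_centralizer_singleton_iff] at hk
      exact trans_not_mem_of_commute (hyirr E).1 (by simp [v'] : v' ≠ 0)
        (congrArg Units.val hk).symm
  have hB2 : ∀ g : G, ∃ B ∈ 𝓑, g ∈ B := by
    intro g
    obtain ⟨k, hk⟩ := exists_lift g
    by_cases hirr : Irr (k : M2)
    · let E : Pl := ⟨alg (k : M2), k, hirr, rfl⟩
      refine ⟨_, Finset.mem_union_right _ (Finset.mem_image_of_mem _ (Finset.mem_univ E)), ?_⟩
      rw [mem_res_iff (hZC _) hk, Subgroup.mem_centralizer_singleton_iff]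
      apply Units.ext
      have hm : yE E ∈ alg (k : M2) := by
        have := hy1 E
        rwa [← hgE' E] at this
      obtain ⟨a, b, hab⟩ := mem_alg.1 hm
      show (k : M2) * yE E = yE E * (k : M2)
      rw [← hab]
      exact (((Commute.one_right _).smul_right a).add_right ((Commute.refl _).smul_right b)).eq
    · rw [Irr] at hirr
      push Not at hirr
      obtain ⟨v, hv, c, hc⟩ := hirr
      let L : Pt := ⟨Submodule.span F {v}, v, hv, rfl⟩
      refine ⟨_, Finset.mem_union_left _ (Finset.mem_image_of_mem _ (Finset.mem_univ L)), ?_⟩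
      rw [mem_res_iff (center_le_stabLine _) hk]
      obtain ⟨d, hd⟩ := Submodule.mem_span_singleton.1
        (show vL L ∈ Submodule.span F {v} by rw [show Submodule.span F {v} = Submodule.span F {vL L} from hvL' L]; exact Submodule.mem_span_singleton_self _)
      exact ⟨c, by rw [← hd, mulVec_smul, hc, smul_comm]⟩
  have hup' : 𝓑.card ≤ Fintype.card (Pt ⊕ Pl) := by
    refine (Finset.card_union_le _ _).trans ?_
    rw [Fintype.card_sum]
    exact Nat.add_le_add (Finset.card_image_le.trans_eq (Finset.card_univ))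
      (Finset.card_image_le.trans_eq (Finset.card_univ))
  have := h.2.1 𝓑 ⟨hB1, hB2⟩
  rw [Fintype.card_coe] at hlow
  omega

end Two

end CfsgLib.NilCoverPGL
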