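import Mathlib.LinearAlgebra.Matrix.GeneralLinearGroup.Card
import Mathlib.LinearAlgebra.Basis.VectorSpace
import Mathlib.LinearAlgebra.FiniteDimensional.Lemmas
import Mathlib.LinearAlgebra.Pi
import Mathlib.LinearAlgebra.FreeModule.Finite.Matrix
import Mathlib.RingTheory.Nilpotent.Defs

/-!
The Fine–Herstein count: a vector space of dimension `n` over `𝔽_q` has `q ^ (n (n - 1))`
nilpotent endomorphisms.
-/

set_option autoImplicit false

namespace CfsgLib.NilpotentCount

variable {F : Type*} [Field F]

/-- The number of nilpotent endomorphisms of `F ^ n`. -/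
noncomputable def nilCount (F : Type*) [Field F] (n : ℕ) : ℕ :=
  Nat.card {T : Module.End F (Fin n → F) // IsNilpotent T}

/-- The `i`-th term of a chain, continued by zero. -/
def ext0 {V : Type*} [Zero V] {k : ℕ} (s : Fin k → V) (i : ℕ) : V :=
  if h : i < k then s ⟨i, h⟩ else 0

section Fibre

variable {n : ℕ}

/-- Shift of the standard basis. -/
noncomputable def shiftMap (F : Type*) [Field F] (k : ℕ) : (Fin k → F) →ₗ[F] (Fin k → F) :=
  (Pi.basisFun F (Fin k)).constr F fun i => ext0 (fun j => (Pi.single j 1 : Fin k → F)) (i.val + 1)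

theorem shiftMap_ext0 {k : ℕ} (i : ℕ) :
    shiftMap F k (ext0 (fun j => (Pi.single j 1 : Fin k → F)) i) =
      ext0 (fun j => (Pi.single j 1 : Fin k → F)) (i + 1) := by
  by_cases h : i < k
  · have e : ext0 (fun j => (Pi.single j 1 : Fin k → F)) i = Pi.basisFun F (Fin k) ⟨i, h⟩ := by
      rw [Pi.basisFun_apply]; exact dif_pos h
    rw [e, shiftMap, Module.Basis.constr_basis]
  · simp only [ext0, dif_neg h, dif_neg (show ¬ i + 1 < k by omega), map_zero]

theorem shiftMap_pow_ext0 {k : ℕ} (i m : ℕ) :
    (shiftMap F k ^ m) (ext0 (fun j => (Pi.single j 1 : Fin k → F)) i) =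
      ext0 (fun j => (Pi.single j 1 : Fin k → F)) (i + m) := by
  induction m with
  | zero => simp
  | succ m ih => rw [pow_succ', Module.End.mul_apply, ih, shiftMap_ext0, add_assoc]

theorem shiftMap_pow_eq_zero (k : ℕ) : shiftMap F k ^ k = 0 := by
  refine (Pi.basisFun F (Fin k)).ext fun i => ?_
  have e : Pi.basisFun F (Fin k) i = ext0 (fun j => (Pi.single j 1 : Fin k → F)) i.val := by
    rw [Pi.basisFun_apply]; simp [ext0]
  rw [e, shiftMap_pow_ext0, LinearMap.zero_apply]
  exact dif_neg (by omega)

/-- Endomorphisms extending the shift. -/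
noncomputable def block {k l : ℕ} (h : (Fin l → F) →ₗ[F] (Fin k → F)) (N : Module.End F (Fin l → F)) :
    Module.End F ((Fin k → F) × (Fin l → F)) :=
  ((shiftMap F k).coprod h).prod (N ∘ₗ LinearMap.snd F (Fin k → F) (Fin l → F))

theorem block_apply {k l : ℕ} (h : (Fin l → F) →ₗ[F] (Fin k → F)) (N : Module.End F (Fin l → F))
    (x : Fin k → F) (y : Fin l → F) : block h N (x, y) = (shiftMap F k x + h y, N y) := rfl

theorem block_pow_snd {k l : ℕ} (h : (Fin l → F) →ₗ[F] (Fin k → F)) (N : Module.End F (Fin l → F))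
    (z : (Fin k → F) × (Fin l → F)) (m : ℕ) : ((block h N ^ m) z).2 = (N ^ m) z.2 := by
  induction m with
  | zero => rfl
  | succ m ih => rw [pow_succ', pow_succ', Module.End.mul_apply, Module.End.mul_apply, ← ih]; rfl

theorem block_pow_fst {k l : ℕ} (h : (Fin l → F) →ₗ[F] (Fin k → F)) (N : Module.End F (Fin l → F))
    (x : Fin k → F) (m : ℕ) : (block h N ^ m) (x, 0) = ((shiftMap F k ^ m) x, 0) := by
  induction m with
  | zero => rfl
  | succ m ih =>
    rw [pow_succ', pow_succ', Module.End.mul_apply, Module.End.mul_apply, ih, block_apply, map_zero,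
      map_zero, add_zero]

theorem isNilpotent_block_iff {k l : ℕ} (h : (Fin l → F) →ₗ[F] (Fin k → F))
    (N : Module.End F (Fin l → F)) : IsNilpotent (block h N) ↔ IsNilpotent N := by
  constructor
  · rintro ⟨a, ha⟩
    refine ⟨a, LinearMap.ext fun y => ?_⟩
    have := block_pow_snd h N (0, y) a
    rw [ha] at this
    exact this.symm
  · rintro ⟨a, ha⟩
    refine ⟨k + a, LinearMap.ext fun z => ?_⟩
    rw [pow_add, Module.End.mul_apply]
    have h2 := block_pow_snd h N z a
    rw [ha, LinearMap.zero_apply] at h2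
    rw [show (block h N ^ a) z = (((block h N ^ a) z).1, 0) from Prod.ext rfl h2, block_pow_fst,
      shiftMap_pow_eq_zero]
    rfl

variable [Fintype F]

/-- Nilpotent endomorphisms with a prescribed chain. -/
theorem card_fibre {k : ℕ} (hk : k ≤ n) {s : Fin k → Fin n → F} (hs : LinearIndependent F s) :
    Nat.card {T : Module.End F (Fin n → F) // IsNilpotent T ∧ ∀ i, T (ext0 s i) = ext0 s (i + 1)} =
      Fintype.card F ^ (k * (n - k)) * nilCount F (n - k) := by
  classical
  obtain ⟨C, hC⟩ := Submodule.exists_isCompl (Submodule.span F (Set.range s))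
  have hdC : Module.finrank F C = n - k := by
    have h := Submodule.finrank_add_eq_of_isCompl hC
    rw [finrank_span_eq_card hs, Fintype.card_fin, Module.finrank_fin_fun] at h
    omega
  let e : ((Fin k → F) × (Fin (n - k) → F)) ≃ₗ[F] (Fin n → F) :=
    ((LinearEquiv.prodCongr ((Module.Basis.span hs).equivFun.symm)
      (LinearEquiv.ofFinrankEq _ C (by rw [hdC, Module.finrank_fin_fun]))).trans
      (Submodule.prodEquivOfIsCompl _ C hC))
  have he : ∀ i, e (ext0 (fun j => (Pi.single j 1 : Fin k → F)) i, 0) = ext0 s i := fun i => by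
    by_cases h : i < k
    · simp only [ext0, dif_pos h, e, LinearEquiv.trans_apply, LinearEquiv.prodCongr_apply,
        Submodule.coe_prodEquivOfIsCompl', map_zero, ZeroMemClass.coe_zero, add_zero]
      simp [Module.Basis.equivFun_symm_apply, Pi.single_apply, Finset.sum_ite_eq',
        Module.Basis.span_apply]
    · simp only [ext0, dif_neg h]
      exact map_zero e
  let Φ : ((Fin (n - k) → F) →ₗ[F] (Fin k → F)) × {N : Module.End F (Fin (n - k) → F) // IsNilpotent N} →
      {T : Module.End F (Fin n → F) // IsNilpotent T ∧ ∀ i, T (ext0 s i) = ext0 s (i + 1)} := fun p =>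
    ⟨e.conjAlgEquiv F (block p.1 p.2.1), ((isNilpotent_block_iff p.1 p.2.1).mpr p.2.2).map _, fun i => by
      rw [← he, ← he]
      show e (block p.1 p.2.1 (e.symm (e (_, 0)))) = _
      rw [e.symm_apply_apply, block_apply, map_zero, map_zero, add_zero, shiftMap_ext0]⟩
  have hΦ : Function.Bijective Φ := by
    refine ⟨fun p p' h => ?_, ?_⟩
    · have hb : block p.1 p.2.1 = block p'.1 p'.2.1 :=
        (e.conjAlgEquiv F).injective (congrArg Subtype.val h)
      refine Prod.ext (LinearMap.ext fun y => ?_) (Subtype.ext (LinearMap.ext fun y => ?_))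
      · have := congrArg Prod.fst (LinearMap.congr_fun hb (0, y))
        simpa [block_apply] using this
      · exact congrArg Prod.snd (LinearMap.congr_fun hb ((0 : Fin k → F), y))
    · rintro ⟨T, hT, hchain⟩
      let T' : Module.End F ((Fin k → F) × (Fin (n - k) → F)) := e.symm.conjAlgEquiv F T
      have hT' : ∀ z, T' z = e.symm (T (e z)) := fun z => rfl
      have hshift : ∀ x : Fin k → F, T' (x, 0) = (shiftMap F k x, 0) := by
        intro x
        have : T' ∘ₗ LinearMap.inl F _ _ = (LinearMap.inl F _ _) ∘ₗ shiftMap F k := by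
          refine (Pi.basisFun F (Fin k)).ext fun i => ?_
          have eb : Pi.basisFun F (Fin k) i = ext0 (fun j => (Pi.single j 1 : Fin k → F)) i.val := by
            rw [Pi.basisFun_apply]; simp [ext0]
          rw [eb, LinearMap.comp_apply, LinearMap.comp_apply, shiftMap_ext0]
          show T' (ext0 (fun j => (Pi.single j 1 : Fin k → F)) i.val, 0) =
            (ext0 (fun j => (Pi.single j 1 : Fin k → F)) (i.val + 1), 0)
          rw [hT', he, hchain, ← he, e.symm_apply_apply]
        exact LinearMap.congr_fun this x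
      let h := LinearMap.fst F _ _ ∘ₗ T' ∘ₗ LinearMap.inr F (Fin k → F) (Fin (n - k) → F)
      let N := LinearMap.snd F _ _ ∘ₗ T' ∘ₗ LinearMap.inr F (Fin k → F) (Fin (n - k) → F)
      have hblock : block h N = T' := by
        refine LinearMap.ext fun ⟨x, y⟩ => ?_
        rw [block_apply, show ((x, y) : (Fin k → F) × (Fin (n - k) → F)) = (x, 0) + (0, y) by simp,
          map_add T', hshift]
        refine Prod.ext ?_ ?_
        · rfl
        · show N y = 0 + _
          rw [zero_add]
          rfl
      have hN : IsNilpotent N := (isNilpotent_block_iff h N).mp (hblock ▸ hT.map (e.symm.conjAlgEquiv F))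
      refine ⟨(h, ⟨N, hN⟩), Subtype.ext (LinearMap.ext fun v => ?_)⟩
      show e (block h N (e.symm v)) = T v
      rw [hblock, hT', e.apply_symm_apply, e.apply_symm_apply]
  rw [← Nat.card_congr (Equiv.ofBijective Φ hΦ), Nat.card_prod, Module.natCard_eq_pow_finrank (K := F),
    Module.finrank_linearMap, Module.finrank_fin_fun, Module.finrank_fin_fun, Nat.card_eq_fintype_card,
    mul_comm (n - k) k]
  rfl

end Fibre

section Recursion

variable {n : ℕ}

/-- Chains of an endomorphism. -/
theorem pow_ext0 {V : Type*} [AddCommGroup V] [Module F V] {k : ℕ} {s : Fin k → V}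
    {T : Module.End F V} (h : ∀ i, T (ext0 s i) = ext0 s (i + 1)) (m : ℕ) :
    (T ^ m) (ext0 s 0) = ext0 s m := by
  induction m with
  | zero => rfl
  | succ m ih => rw [pow_succ', Module.End.mul_apply, ih, h]

theorem linearIndependent_chain {V : Type*} [AddCommGroup V] [Module F V] {T : Module.End F V} {v : V}
    {k : ℕ} (h0 : (T ^ k) v = 0) (hne : ∀ i < k, (T ^ i) v ≠ 0) :
    LinearIndependent F fun i : Fin k => (T ^ i.val) v := by
  classical
  rw [Fintype.linearIndependent_iff]
  intro g hg
  by_contra hh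
  push Not at hh
  obtain ⟨i, hi⟩ := hh
  obtain ⟨i₀, hi₀, hmin⟩ := Finset.exists_min_image (Finset.univ.filter fun j : Fin k => g j ≠ 0)
    (fun j => j.val) ⟨i, by simp [hi]⟩
  rw [Finset.mem_filter] at hi₀
  have hk : i₀.val < k := i₀.2
  have h := congrArg (T ^ (k - 1 - i₀.val)) hg
  rw [map_sum, map_zero, Finset.sum_eq_single i₀] at h
  · rw [map_smul, ← Module.End.mul_apply, ← pow_add] at h
    exact hne (k - 1 - i₀.val + i₀.val) (by omega) ((smul_eq_zero.mp h).resolve_left hi₀.2)
  · intro j _ hj
    rcases eq_or_ne (g j) 0 with e | e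
    · rw [e, zero_smul, map_zero]
    · have hj' : i₀.val ≤ j.val := hmin j (by simp [e])
      have hj'' : i₀.val ≠ j.val := fun e' => hj (Fin.ext e'.symm)
      obtain ⟨d, hd⟩ : ∃ d, k - 1 - i₀.val + j.val = d + k :=
        ⟨k - 1 - i₀.val + j.val - k, by omega⟩
      rw [map_smul, ← Module.End.mul_apply, ← pow_add, hd, pow_add, Module.End.mul_apply, h0, map_zero,
        smul_zero]
  · simp

variable [Fintype F]

/-- The recursion. -/
theorem nilCount_recursion (n : ℕ) :
    nilCount F n * Fintype.card F ^ n =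
      ∑ k : Fin (n + 1), (∏ i : Fin k.val, (Fintype.card F ^ n - Fintype.card F ^ i.val)) *
        (Fintype.card F ^ (k.val * (n - k.val)) * nilCount F (n - k.val)) := by
  classical
  have : Finite (Module.End F (Fin n → F)) := Module.finite_of_finite F
  let A : Fin (n + 1) → Type _ := fun k =>
    Σ s : {s : Fin k.val → Fin n → F // LinearIndependent F s},
      {T : Module.End F (Fin n → F) // IsNilpotent T ∧ ∀ i, T (ext0 s.1 i) = ext0 s.1 (i + 1)}
  let g : (Σ k, A k) → {T : Module.End F (Fin n → F) // IsNilpotent T} × (Fin n → F) :=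
    fun z => (⟨z.2.2.1, z.2.2.2.1⟩, ext0 z.2.1.1 0)
  have hg : Function.Bijective g := by
    constructor
    · rintro ⟨k, ⟨s, hs⟩, ⟨T, hT, hc⟩⟩ ⟨k', ⟨s', hs'⟩, ⟨T', hT', hc'⟩⟩ h
      obtain ⟨e1, e2⟩ := Prod.mk.inj h
      have e1' : T = T' := congrArg Subtype.val e1
      subst e1'
      have key : ∀ i, ext0 s i = ext0 s' i := fun i => by
        rw [← pow_ext0 hc i, ← pow_ext0 hc' i]
        exact congrArg _ e2
      have hk : k = k' := by
        rcases lt_trichotomy k.val k'.val with hl | hl | hl
        · exfalso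
          have := key k.val
          simp only [ext0, dif_pos hl, dif_neg (lt_irrefl _)] at this
          exact hs'.ne_zero _ this.symm
        · exact Fin.ext hl
        · exfalso
          have := key k'.val
          simp only [ext0, dif_pos hl, dif_neg (lt_irrefl _)] at this
          exact hs.ne_zero _ this
      subst hk
      have hss : s = s' := funext fun i => by
        have := key i.val
        simpa only [ext0, dif_pos i.2] using this
      subst hss
      rfl
    · rintro ⟨⟨T, hT⟩, v⟩
      have hex : ∃ m, (T ^ m) v = 0 := by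
        obtain ⟨a, ha⟩ := hT
        exact ⟨a, by rw [ha]; rfl⟩
      set k := Nat.find hex with hk
      have h0 : (T ^ k) v = 0 := Nat.find_spec hex
      have hne : ∀ i < k, (T ^ i) v ≠ 0 := fun i hi => Nat.find_min hex hi
      have hind := linearIndependent_chain h0 hne
      have hkn : k ≤ n := by
        have := hind.fintype_card_le_finrank
        rwa [Fintype.card_fin, Module.finrank_fin_fun] at this
      have hext : ∀ i, ext0 (fun i : Fin k => (T ^ i.val) v) i = (T ^ i) v := fun i => by
        by_cases h : i < k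
        · simp [ext0, h]
        · obtain ⟨d, rfl⟩ := Nat.exists_eq_add_of_le (not_lt.mp h)
          rw [add_comm, pow_add, Module.End.mul_apply, h0, map_zero]
          exact dif_neg (by omega)
      refine ⟨⟨⟨k, by omega⟩, ⟨_, hind⟩, ⟨T, hT, fun i => ?_⟩⟩, ?_⟩
      · rw [hext, hext, pow_succ', Module.End.mul_apply]
      · exact Prod.ext rfl ((hext 0).trans (by rw [pow_zero]; rfl))
  have h := Nat.card_congr (Equiv.ofBijective g hg)
  rw [Nat.card_prod, Nat.card_eq_fintype_card (α := Fin n → F), Fintype.card_fun, Fintype.card_fin,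
    Nat.card_sigma] at h
  refine Eq.trans ?_ (h.symm.trans (Finset.sum_congr rfl fun k _ => ?_))
  · rfl
  · show Nat.card (A k) = _
    rw [Nat.card_sigma, Finset.sum_congr rfl fun s _ => card_fibre (Nat.le_of_lt_succ k.2) s.2,
      Finset.sum_const, smul_eq_mul, Finset.card_univ, ← Nat.card_eq_fintype_card,
      card_linearIndependent (K := F) (V := Fin n → F) (by rw [Module.finrank_fin_fun]; omega),
      Module.finrank_fin_fun]

end Recursion

/-- The `q`-identity behind the count. -/
theorem sum_identity {q n : ℕ} (hq : 1 ≤ q) :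
    ∑ k ∈ Finset.range (n + 1), (∏ i ∈ Finset.range k, (q ^ n - q ^ i)) * q ^ ((n - k) * (n - 1)) =
      q ^ (n * n) := by
  have key : ∀ j, j ≤ n →
      (∑ k ∈ Finset.range j, (∏ i ∈ Finset.range k, (q ^ n - q ^ i)) * q ^ ((n - k) * (n - 1))) +
        (∏ i ∈ Finset.range j, (q ^ n - q ^ i)) * q ^ ((n - j) * n) = q ^ (n * n) := by
    intro j hj
    induction j with
    | zero => simp
    | succ j ih =>
      rw [Finset.sum_range_succ, Finset.prod_range_succ, add_assoc, ← ih (by omega)]
      congr 1
      rw [mul_assoc, ← mul_add]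
      congr 1
      obtain ⟨d, hd⟩ : ∃ d, n = j + d + 1 := ⟨n - j - 1, by omega⟩
      rw [show n - j = d + 1 by omega, show n - (j + 1) = d by omega, Nat.sub_mul,
        ← pow_add q j, show (d + 1) * (n - 1) = j + d * n by
          rw [show n - 1 = j + d by omega, hd]; ring,
        show (d + 1) * n = n + d * n by ring, ← pow_add,
        Nat.add_sub_cancel' (Nat.pow_le_pow_right hq (by omega))]
  rw [Finset.sum_range_succ]
  have := key n le_rfl
  simpa using this

/-- The Fine–Herstein theorem. -/
theorem nilCount_eq [Fintype F] (n : ℕ) : nilCount F n = Fintype.card F ^ (n * (n - 1)) := by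
  induction n using Nat.strong_induction_on with
  | _ n ih =>
    rcases Nat.eq_zero_or_pos n with rfl | hn
    · rw [Nat.zero_mul, pow_zero]
      have : Unique {T : Module.End F (Fin 0 → F) // IsNilpotent T} :=
        ⟨⟨⟨0, IsNilpotent.zero⟩⟩, fun T => Subtype.ext (Subsingleton.elim _ _)⟩
      exact Nat.card_unique
    set q := Fintype.card F
    have hq : 1 < q := Fintype.one_lt_card
    have hrec := nilCount_recursion (F := F) n
    rw [Fin.sum_univ_eq_sum_range (fun k : ℕ => (∏ i : Fin k, (q ^ n - q ^ i.val)) *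
      (q ^ (k * (n - k)) * nilCount F (n - k))) (n + 1), Finset.sum_range_succ'] at hrec
    have hid := sum_identity (q := q) (n := n) hq.le
    rw [Finset.sum_range_succ'] at hid
    simp only [Finset.range_zero, Finset.prod_empty, Nat.sub_zero, one_mul] at hid
    simp only [Fin.prod_univ_zero, Nat.zero_mul, pow_zero, Nat.sub_zero, one_mul] at hrec
    set S := ∑ i ∈ Finset.range n,
      (∏ j ∈ Finset.range (i + 1), (q ^ n - q ^ j)) * q ^ ((n - (i + 1)) * (n - 1))
    have hS : ∑ k ∈ Finset.range n, (∏ i : Fin (k + 1), (q ^ n - q ^ i.val)) *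
        (q ^ ((k + 1) * (n - (k + 1))) * nilCount F (n - (k + 1))) = S := by
      refine Finset.sum_congr rfl fun k hk => ?_
      rw [Finset.mem_range] at hk
      rw [ih (n - (k + 1)) (by omega), ← pow_add, Fin.prod_univ_eq_prod_range (fun i => q ^ n - q ^ i)]
      congr 2
      obtain ⟨d, hd⟩ : ∃ d, n = k + 1 + d := ⟨n - (k + 1), by omega⟩
      rw [show n - (k + 1) = d by omega, show n - 1 = k + d by omega]
      rcases d with _ | d
      · simp
      · rw [show d + 1 - 1 = d by omega]; ring
    rw [hS, show Fintype.card F = q from rfl] at hrec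
    have hpow : q ^ (n * n) = q ^ (n * (n - 1)) * q ^ n := by
      rw [← pow_add]
      congr 1
      obtain ⟨d, rfl⟩ : ∃ d, n = d + 1 := ⟨n - 1, by omega⟩
      rw [Nat.add_sub_cancel]; ring
    rw [hpow] at hid
    have hqn : 2 ≤ q ^ n := Nat.one_lt_pow hn.ne' hq
    have h1 : nilCount F n * (q ^ n - 1) = S := by rw [Nat.mul_sub, mul_one]; omega
    have h2 : q ^ (n * (n - 1)) * (q ^ n - 1) = S := by rw [Nat.mul_sub, mul_one]; omega
    exact Nat.eq_of_mul_eq_mul_right (by omega) (h1.trans h2.symm)

end CfsgLib.NilpotentCount
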