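import Mathlib
import Cfsg.Prelude
import Cfsg.Agent.Lib.Basic

/-! Minimal nilpotent covers of a centreless group and abelian Sylow subgroups. -/

namespace CfsgLib.NilpotentCover

open Cfsg
open scoped Pointwise

variable {G : Type*} [Group G] [Finite G] (𝓐 : Finset (Subgroup G))

/-- `𝓐` is a cover of least size all of whose members are nilpotent. -/
def IsMinNilCover : Prop :=
  ((∀ A ∈ 𝓐, A ≠ ⊤) ∧ (∀ g : G, ∃ A ∈ 𝓐, g ∈ A)) ∧
    (∀ 𝓑 : Finset (Subgroup G), (∀ A ∈ 𝓑, A ≠ ⊤) ∧ (∀ g : G, ∃ A ∈ 𝓑, g ∈ A) → 𝓐.card ≤ 𝓑.card) ∧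
    ∀ A ∈ 𝓐, Group.IsNilpotent A

variable {𝓐} {p : ℕ} [Fact p.Prime]

/-- Sub-families absorbed by one proper subgroup have at most one member. -/
theorem absorb (h : IsMinNilCover 𝓐) {M : Subgroup G} (hM : M ≠ ⊤) {A B : Subgroup G}
    (hA : A ∈ 𝓐) (hB : B ∈ 𝓐) (hAM : A ≤ M) (hBM : B ≤ M) : A = B := by
  classical
  by_contra hne
  have hcov : (∀ C ∈ insert M ((𝓐.erase A).erase B), C ≠ ⊤) ∧
      ∀ g : G, ∃ C ∈ insert M ((𝓐.erase A).erase B), g ∈ C := by
    constructor
    · intro C hC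
      rcases Finset.mem_insert.mp hC with rfl | hC
      · exact hM
      · exact h.1.1 C (Finset.mem_of_mem_erase (Finset.mem_of_mem_erase hC))
    · intro g
      obtain ⟨C, hC, hg⟩ := h.1.2 g
      by_cases hCA : C = A
      · exact ⟨M, Finset.mem_insert_self _ _, hAM (hCA ▸ hg)⟩
      by_cases hCB : C = B
      · exact ⟨M, Finset.mem_insert_self _ _, hBM (hCB ▸ hg)⟩
      exact ⟨C, Finset.mem_insert_of_mem (Finset.mem_erase.mpr ⟨hCB, Finset.mem_erase.mpr ⟨hCA, hC⟩⟩), hg⟩
  have h1 := h.2.1 _ hcov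
  have h2 := Finset.card_insert_le M ((𝓐.erase A).erase B)
  have h3 : ((𝓐.erase A).erase B).card + 1 = (𝓐.erase A).card :=
    Finset.card_erase_add_one (Finset.mem_erase.mpr ⟨Ne.symm hne, hB⟩)
  have h4 := Finset.card_erase_add_one hA
  omega

variable (hab : ∀ Q : Sylow p G, IsMulCommutative (Q : Subgroup G))
include hab

/-- In a nilpotent subgroup the `p`-elements are central when the Sylow subgroups are abelian. -/
theorem le_centralizer {A : Subgroup G} (hA : Group.IsNilpotent A) {x : G} (hx : x ∈ A)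
    (hxp : ∃ k, orderOf x = p ^ k) : A ≤ Subgroup.centralizer ({x} : Set G) := by
  classical
  obtain ⟨k, hk⟩ := hxp
  have hcomm : ∀ (a : A), ⟨x, hx⟩ * a = a * ⟨x, hx⟩ := by
    intro a
    obtain ⟨φ⟩ := ((Group.isNilpotent_of_finite_tfae (G := A)).out 0 4 rfl rfl).mp hA
    apply φ.symm.injective
    rw [map_mul, map_mul]
    funext q P
    show (φ.symm ⟨x, hx⟩ q P) * (φ.symm a q P) = (φ.symm a q P) * (φ.symm ⟨x, hx⟩ q P)
    by_cases hq : (q : ℕ) = p
    · have hPp : IsPGroup p (P : Subgroup A) := hq ▸ P.isPGroup'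
      obtain ⟨Q, hQ⟩ := (hPp.map A.subtype).exists_le_sylow
      have h1 := (hab Q).is_comm.comm
        (⟨(((φ.symm ⟨x, hx⟩ q P : (P : Subgroup A)) : A) : G), hQ ⟨_, (φ.symm ⟨x, hx⟩ q P).2, rfl⟩⟩ : (Q : Subgroup G))
        (⟨(((φ.symm a q P : (P : Subgroup A)) : A) : G), hQ ⟨_, (φ.symm a q P).2, rfl⟩⟩ : (Q : Subgroup G))
      apply Subtype.ext
      apply Subtype.ext
      exact Subtype.mk.inj h1
    · have hqp : (q : ℕ).Prime := Nat.prime_of_mem_primeFactors q.2
      have := Fact.mk hqp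
      suffices h1 : φ.symm ⟨x, hx⟩ q P = 1 by rw [h1, one_mul, mul_one]
      obtain ⟨i, hi⟩ := IsPGroup.iff_orderOf.mp P.isPGroup' (φ.symm ⟨x, hx⟩ q P)
      have hd : orderOf (φ.symm ⟨x, hx⟩ q P) ∣ p ^ k := by
        rw [← hk, ← Subgroup.orderOf_mk x hx]
        exact (orderOf_map_dvd ((Pi.evalMonoidHom (fun P : Sylow (q : ℕ) A => (P : Subgroup A)) P).comp
          ((Pi.evalMonoidHom (fun q : (Nat.card A).primeFactors => ∀ P : Sylow (q : ℕ) A, (P : Subgroup A)) q).comp
            φ.symm.toMonoidHom)) ⟨x, hx⟩)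
      exact orderOf_eq_one_iff.mp (Nat.eq_one_of_dvd_coprimes
        (((Nat.coprime_primes hqp Fact.out).mpr hq).pow i k) (hi ▸ dvd_rfl) hd)
  intro a ha
  exact Subgroup.mem_centralizer_singleton_iff.mpr (congrArg Subtype.val (hcomm ⟨a, ha⟩)).symm

/-- A non-identity `p`-element lies in a unique member. -/
theorem unique_member (h : IsMinNilCover 𝓐) (hZ : Subgroup.center G = ⊥) {x : G} (hx1 : x ≠ 1)
    (hxp : ∃ k, orderOf x = p ^ k) {A B : Subgroup G} (hA : A ∈ 𝓐) (hB : B ∈ 𝓐) (hxA : x ∈ A) (hxB : x ∈ B) :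
    A = B := by
  refine absorb h (M := Subgroup.centralizer ({x} : Set G)) ?_ hA hB
    (le_centralizer hab (h.2.2 A hA) hxA hxp) (le_centralizer hab (h.2.2 B hB) hxB hxp)
  intro e
  apply hx1
  have : x ∈ Subgroup.center G := by
    rw [Subgroup.mem_center_iff]
    intro g
    exact Subgroup.mem_centralizer_singleton_iff.mp (e ▸ Subgroup.mem_top g)
  rw [hZ, Subgroup.mem_bot] at this
  exact this

omit hab in
theorem isPElt {P : Sylow p G} {x : G} (hx : x ∈ (P : Subgroup G)) : ∃ k, orderOf x = p ^ k := by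
  obtain ⟨k, hk⟩ := IsPGroup.iff_orderOf.mp P.isPGroup' ⟨x, hx⟩
  exact ⟨k, by rwa [Subgroup.orderOf_mk] at hk⟩

/-- Either the Sylow subgroup is elementary abelian, not of prime order, or it lies in one member. -/
theorem elementary_or_le (h : IsMinNilCover 𝓐) (hZ : Subgroup.center G = ⊥) (P : Sylow p G)
    (hne : (P : Subgroup G) ≠ ⊥) :
    (IsElementaryAbelian p (P : Subgroup G) ∧ p < Nat.card (P : Subgroup G)) ∨
      ∃ A ∈ 𝓐, (P : Subgroup G) ≤ A := by
  classical
  by_cases hin : ∃ A ∈ 𝓐, (P : Subgroup G) ≤ A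
  · exact Or.inr hin
  left
  push Not at hin
  have hcP : ∀ a ∈ (P : Subgroup G), ∀ b ∈ (P : Subgroup G), a * b = b * a := fun a ha b hb =>
    congrArg Subtype.val ((hab P).is_comm.comm ⟨a, ha⟩ ⟨b, hb⟩)
  -- an element of order greater than `p` and an element of order `p` share their member
  have key : ∀ x ∈ (P : Subgroup G), x ^ p ≠ 1 → ∀ y ∈ (P : Subgroup G), y ^ p = 1 → y ≠ 1 →
      ∀ A ∈ 𝓐, x ∈ A → y ∈ A := by
    intro x hx hxp y hy hyp hy1 A hA hxA
    obtain ⟨C, hC, hxyC⟩ := h.1.2 (x * y)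
    have hCA : C = A := by
      refine unique_member hab h hZ hxp (isPElt (pow_mem hx p)) hC hA ?_ (pow_mem hxA p)
      have : (x * y) ^ p = x ^ p := by rw [Commute.mul_pow (hcP x hx y hy), hyp, mul_one]
      rw [← this]; exact pow_mem hxyC p
    have h2 := mul_mem (inv_mem hxA) (hCA ▸ hxyC)
    rwa [inv_mul_cancel_left] at h2
  have hexp : ∀ x ∈ (P : Subgroup G), x ^ p = 1 := by
    intro x hx
    by_contra hxp
    obtain ⟨A, hA, hxA⟩ := h.1.2 x
    apply hin A hA
    intro y hy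
    by_cases hy1 : y = 1
    · rw [hy1]; exact one_mem A
    by_cases hyp : y ^ p = 1
    · exact key x hx hxp y hy hyp hy1 A hA hxA
    -- the element of order `p` in `⟨y⟩`
    obtain ⟨k, hk⟩ := isPElt (P := P) hy
    obtain ⟨B, hB, hyB⟩ := h.1.2 y
    rcases Nat.eq_zero_or_pos k with hk0 | hk0
    · rw [hk0, pow_zero, orderOf_eq_one_iff] at hk; exact absurd hk hy1
    obtain ⟨j, rfl⟩ : ∃ j, k = j + 1 := ⟨k - 1, by omega⟩
    set z := y ^ p ^ j with hz
    have hzp : z ^ p = 1 := by rw [hz, ← pow_mul, ← pow_succ, ← hk, pow_orderOf_eq_one]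
    have hz1 : z ≠ 1 := by
      intro e
      have h1 := orderOf_dvd_of_pow_eq_one (hz ▸ e : y ^ p ^ j = 1)
      rw [hk] at h1
      have := (Nat.pow_dvd_pow_iff_le_right (Fact.out : p.Prime).one_lt).mp h1
      omega
    have := unique_member hab h hZ hz1 (isPElt (pow_mem hy _)) hB hA (pow_mem hyB _)
      (key x hx hxp z (pow_mem hy _) hzp hz1 A hA hxA)
    exact this ▸ hyB
  refine ⟨⟨hab P, hexp⟩, ?_⟩
  by_contra hle
  push Not at hle
  obtain ⟨x, hx, hx1⟩ := (Subgroup.bot_or_exists_ne_one _).resolve_left hne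
  obtain ⟨A, hA, hxA⟩ := h.1.2 x
  apply hin A hA
  have hz : Subgroup.zpowers x = (P : Subgroup G) :=
    Subgroup.eq_of_le_of_card_ge (Subgroup.zpowers_le.mpr hx)
      (by rw [Nat.card_zpowers, orderOf_eq_prime (hexp x hx) hx1]; exact hle)
  rw [← hz, Subgroup.zpowers_le]
  exact hxA

/-- A member containing the Sylow subgroup is its centralizer. -/
theorem centralizer_eq (h : IsMinNilCover 𝓐) (hZ : Subgroup.center G = ⊥) (P : Sylow p G)
    (hne : (P : Subgroup G) ≠ ⊥) {A : Subgroup G} (hA : A ∈ 𝓐) (hPA : (P : Subgroup G) ≤ A) :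
    Subgroup.centralizer ((P : Subgroup G) : Set G) = A := by
  classical
  refine le_antisymm ?_ ?_
  · obtain ⟨x, hx, hx1⟩ := (Subgroup.bot_or_exists_ne_one _).resolve_left hne
    obtain ⟨k, hk⟩ := isPElt hx
    intro c hc
    -- write `c` as a product of powers with `p`-power order and order prime to `p`
    set v := (orderOf c).factorization p
    set a := p ^ v with ha
    set b := orderOf c / a with hb
    have hab' : a * b = orderOf c := Nat.mul_div_cancel' (Nat.ordProj_dvd _ _)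
    have hcop : a.Coprime b := (Nat.coprime_ordCompl (Fact.out : p.Prime) (orderOf_pos c).ne').pow_left v
    obtain ⟨s, t, hst⟩ := Nat.isCoprime_iff_coprime.mpr hcop
    have hc1 : (c ^ b) ^ a = 1 := by rw [← pow_mul, mul_comm, hab', pow_orderOf_eq_one]
    have hc2 : (c ^ a) ^ b = 1 := by rw [← pow_mul, hab', pow_orderOf_eq_one]
    have hcb : c ^ b ∈ A := by
      apply hPA
      have hn : c ^ b ∈ Subgroup.normalizer ((P : Subgroup G) : Set G) :=
        Subgroup.centralizer_le_normalizer _ (pow_mem hc b)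
      obtain ⟨i, -, hi⟩ := (Nat.dvd_prime_pow Fact.out).mp (orderOf_dvd_of_pow_eq_one hc1)
      have hsup := IsPGroup.to_sup_of_normal_left' P.isPGroup'
        (IsPGroup.of_card (p := p) (G := Subgroup.zpowers (c ^ b)) (by rw [Nat.card_zpowers, hi]))
        (Subgroup.zpowers_le.mpr hn)
      rw [← P.is_maximal' hsup le_sup_left]
      exact Subgroup.mem_sup_right (Subgroup.mem_zpowers _)
    have hca : c ^ a ∈ A := by
      obtain ⟨C, hC, hC'⟩ := h.1.2 (x * c ^ a)
      have hxc : Commute x (c ^ a) := Subgroup.mem_centralizer_iff.mp (pow_mem hc a) x hx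
      have hxC : x ∈ C := by
        have hxa : (orderOf x).Coprime b := by
          rw [hk]; exact (Nat.coprime_ordCompl (Fact.out : p.Prime) (orderOf_pos c).ne').pow_left k
        obtain ⟨m, hm⟩ := exists_pow_eq_self_of_coprime hxa.symm
        have h1 : (x * c ^ a) ^ b = x ^ b := by rw [hxc.mul_pow, hc2, mul_one]
        rw [← hm, ← h1]
        exact pow_mem (pow_mem hC' b) m
      have := unique_member hab h hZ hx1 ⟨k, hk⟩ hC hA hxC (hPA hx)
      have h2 := mul_mem (inv_mem (hPA hx)) (this ▸ hC')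
      rwa [inv_mul_cancel_left] at h2
    have e : c = (c ^ a) ^ s * (c ^ b) ^ t := by
      rw [← zpow_natCast c a, ← zpow_natCast c b, ← zpow_mul, ← zpow_mul, ← zpow_add, mul_comm _ s, mul_comm _ t,
        hst, zpow_one]
    rw [e]; exact mul_mem (zpow_mem hca s) (zpow_mem hcb t)
  · intro a ha
    rw [Subgroup.mem_centralizer_iff]
    intro x hx
    exact (Subgroup.mem_centralizer_singleton_iff.mp
      (le_centralizer hab (h.2.2 A hA) (hPA hx) (isPElt hx) ha)).symm

/-- The structure around a non-normal Sylow subgroup lying in one member. -/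
theorem structure_of_le (h : IsMinNilCover 𝓐) (hZ : Subgroup.center G = ⊥)
    (hall : ∀ Q : Sylow p G, ∃ A ∈ 𝓐, (Q : Subgroup G) ≤ A) (P : Sylow p G)
    (hnn : ¬ (P : Subgroup G).Normal) :
    IsCoatom (Subgroup.normalizer ((P : Subgroup G) : Set G)) ∧
      (∀ g : G, g ∉ Subgroup.normalizer ((P : Subgroup G) : Set G) →
        ¬ p ∣ Nat.card ↥(Subgroup.normalizer ((P : Subgroup G) : Set G) ⊓
          (Subgroup.normalizer ((P : Subgroup G) : Set G)).map (MulAut.conj g).toMonoidHom)) ∧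
      ∀ M : Subgroup G, IsCoatom M → Subgroup.centralizer ((P : Subgroup G) : Set G) ≤ M →
        M = Subgroup.normalizer ((P : Subgroup G) : Set G) := by
  classical
  have hne : ∀ Q : Sylow p G, (Q : Subgroup G) ≠ ⊥ := by
    intro Q e
    apply hnn
    obtain ⟨g, rfl⟩ := MulAction.exists_smul_eq G Q P
    rw [Sylow.coe_subgroup_smul, e, Subgroup.smul_bot]
    infer_instance
  have hsame : ∀ Q R : Sylow p G, ∀ A ∈ 𝓐, (Q : Subgroup G) ≤ A → (R : Subgroup G) ≤ A → Q = R := by
    intro Q R A hA hQ hR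
    have hc := centralizer_eq hab h hZ Q (hne Q) hA hQ
    apply Sylow.ext
    have hn : (R : Subgroup G) ≤ Subgroup.normalizer ((Q : Subgroup G) : Set G) :=
      (hR.trans hc.ge).trans (Subgroup.centralizer_le_normalizer _)
    have hsup := IsPGroup.to_sup_of_normal_left' Q.isPGroup' R.isPGroup' hn
    exact (Q.is_maximal' hsup le_sup_left).symm.trans (R.is_maximal' hsup le_sup_right)
  have hNtop : Subgroup.normalizer ((P : Subgroup G) : Set G) ≠ ⊤ := fun e =>
    hnn (Subgroup.normalizer_eq_top_iff.mp e)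
  -- a maximal subgroup containing the centralizer normalises `P`
  have hmax : ∀ M : Subgroup G, M ≠ ⊤ → Subgroup.centralizer ((P : Subgroup G) : Set G) ≤ M →
      M ≤ Subgroup.normalizer ((P : Subgroup G) : Set G) := by
    intro M hM hCM m hm
    by_contra hmn
    obtain ⟨A, hA, hPA⟩ := hall P
    obtain ⟨B, hB, hPB⟩ := hall (m • P)
    have hcB := centralizer_eq hab h hZ (m • P) (hne _) hB hPB
    have hAM : A ≤ M := (centralizer_eq hab h hZ P (hne P) hA hPA) ▸ hCM
    have hBM : B ≤ M := by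
      rw [← hcB]
      intro c hc
      have h1 : m⁻¹ * c * m ∈ Subgroup.centralizer ((P : Subgroup G) : Set G) := by
        rw [Subgroup.mem_centralizer_iff]
        intro u hu
        have h2 := Subgroup.mem_centralizer_iff.mp hc (m * u * m⁻¹) (by
          rw [Sylow.coe_subgroup_smul]
          exact Subgroup.smul_mem_pointwise_smul u (MulAut.conj m) _ hu)
        have h3 := congrArg (fun t => m⁻¹ * t * m) h2
        simpa [mul_assoc] using h3
      simpa [mul_assoc] using mul_mem (mul_mem hm (hCM h1)) (inv_mem hm)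
    have e := absorb h hM hA hB hAM hBM
    exact hmn (Sylow.smul_eq_iff_mem_normalizer.mp (hsame (m • P) P B hB hPB (e ▸ hPA)))
  refine ⟨⟨hNtop, fun M hM => ?_⟩, fun g hg hd => ?_, fun M hM hCM => ?_⟩
  · by_contra hMtop
    exact hM.not_ge (hmax M hMtop ((Subgroup.centralizer_le_normalizer _).trans hM.le))
  · obtain ⟨⟨x, hxI⟩, hxo⟩ := exists_prime_orderOf_dvd_card' p hd
    rw [Subgroup.orderOf_mk] at hxo
    obtain ⟨hxN, hxg⟩ := Subgroup.mem_inf.mp hxI
    have inP : ∀ {w : G}, orderOf w = p → w ∈ Subgroup.normalizer ((P : Subgroup G) : Set G) → w ∈ (P : Subgroup G) := by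
      intro w hw hwn
      have hsup := IsPGroup.to_sup_of_normal_left' P.isPGroup'
        (IsPGroup.of_card (p := p) (n := 1) (G := Subgroup.zpowers w) (by rw [Nat.card_zpowers, hw, pow_one]))
        (Subgroup.zpowers_le.mpr hwn)
      rw [← P.is_maximal' hsup le_sup_left]
      exact Subgroup.mem_sup_right (Subgroup.mem_zpowers _)
    have hxP := inP hxo hxN
    obtain ⟨w, hw, hwx⟩ := hxg
    have hwo : orderOf w = p := by rw [← hxo, ← hwx]; exact (MulEquiv.orderOf_eq (MulAut.conj g) w).symm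
    have hxQ : x ∈ ((g • P : Sylow p G) : Subgroup G) := by
      rw [Sylow.coe_subgroup_smul, ← hwx]
      exact Subgroup.smul_mem_pointwise_smul w (MulAut.conj g) _ (inP hwo hw)
    obtain ⟨A, hA, hPA⟩ := hall P
    obtain ⟨B, hB, hQB⟩ := hall (g • P)
    have hx1 : x ≠ 1 := fun e => (Fact.out : p.Prime).ne_one (by rw [← hxo, e, orderOf_one])
    have e := unique_member hab h hZ hx1 ⟨1, by rw [pow_one, hxo]⟩ hA hB (hPA hxP) (hQB hxQ)
    exact hg (Sylow.smul_eq_iff_mem_normalizer.mp (hsame (g • P) P B hB hQB (e ▸ hPA)))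
  · rcases hM.le_iff.mp (le_refl M) with h1 | h1
    · exact absurd h1 hM.1
    · have hle := hmax M hM.1 hCM
      rcases hM.le_iff.mp hle with h2 | h2
      · exact absurd h2 hNtop
      · exact h2.symm

end CfsgLib.NilpotentCover
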