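import Mathlib

/-!
Groups of order `162` generated like `C₃ ≀ S₃`.
-/

set_option autoImplicit false

namespace CfsgLib.WreathThreeSym

abbrev Idx := ZMod 3 × ZMod 3 × ZMod 3 × ZMod 3 × ZMod 2

/-- Multiplication of coordinates in `C₃ ≀ S₃`. -/
def mul (x y : Idx) : Idx :=
  let ⟨a, b, c, k, e⟩ := x
  let ⟨a', b', c', k', e'⟩ := y
  let p := if e = 0 then (a', b', c', k') else (a', c', b', -k')
  let q := if k = 0 then (p.1, p.2.1, p.2.2.1) else if k = 1 then (p.2.2.1, p.1, p.2.1) else (p.2.1, p.2.2.1, p.1)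
  (a + q.1, b + q.2.1, c + q.2.2, k + p.2.2.2, e + e')

theorem span_shift : ∀ x y z : ZMod 3, ¬ (x = 0 ∧ y = 0 ∧ z = 0) → ∃ i j l : ZMod 3,
    i * x + j * z + l * y = 1 ∧ i * y + j * x + l * z = 1 ∧ i * z + j * y + l * x = 1 := by decide

/-- The inverse in coordinates. -/
def linv (x : Idx) : Idx :=
  mul (0, 0, 0, 0, x.2.2.2.2) (mul (0, 0, 0, -x.2.2.2.1, 0) (-x.1, -x.2.1, -x.2.2.1, 0, 0))

theorem linv_mul : ∀ x : Idx, mul (linv x) x = (0, 0, 0, 0, 0) := by decide +kernel

set_option synthInstance.maxSize 4000 in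
theorem linv_unique : ∀ x y : Idx, mul (linv x) y = (0, 0, 0, 0, 0) → x = y := by decide +kernel

theorem left_inv_mul (x : Idx) : ∃ z : Idx, mul z x = (0, 0, 0, 0, 0) ∧
    ∀ y : Idx, mul z y = (0, 0, 0, 0, 0) → x = y := ⟨linv x, linv_mul x, linv_unique x⟩

theorem two_cases : ∀ e : ZMod 2, e = 0 ∨ e = 1 := by decide

theorem three_ne_cases : ∀ k : ZMod 3, k ≠ 0 → k = 1 ∨ k = 2 := by decide

variable {G : Type*} [Group G]

/-- The element with given coordinates. -/
def val (v u w s t : G) (x : Idx) : G :=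
  v ^ x.1.val * u ^ x.2.1.val * w ^ x.2.2.1.val * s ^ x.2.2.2.1.val * t ^ x.2.2.2.2.val

/-- The relations of `C₃ ≀ S₃`. -/
structure Rel (v u w s t : G) : Prop where
  v3 : v ^ 3 = 1
  u3 : u ^ 3 = 1
  w3 : w ^ 3 = 1
  s3 : s ^ 3 = 1
  t2 : t ^ 2 = 1
  vu : Commute v u
  vw : Commute v w
  uw : Commute u w
  sv : s * v = u * s
  su : s * u = w * s
  sw : s * w = v * s
  tv : t * v = v * t
  tu : t * u = w * t
  tw : t * w = u * t
  ts : t * s = s ^ 2 * t

theorem pow_val {n : ℕ} [NeZero n] {x : G} (hx : x ^ n = 1) (a b : ZMod n) :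
    x ^ (a + b).val = x ^ a.val * x ^ b.val := by
  rw [← pow_add, ZMod.val_add]
  conv_rhs => rw [← Nat.mod_add_div (a.val + b.val) n, pow_add, pow_mul, hx, one_pow, mul_one]

theorem conj_pow_eq {g x y : G} (h : g * x = y * g) : ∀ i : ℕ, g * x ^ i = y ^ i * g :=
  fun i => (SemiconjBy.pow_right h i)

theorem val_mul {v u w s t : G} (h : Rel v u w s t) (x y : Idx) :
    val v u w s t x * val v u w s t y = val v u w s t (mul x y) := by
  obtain ⟨a, b, c, k, e⟩ := x
  obtain ⟨a', b', c', k', e'⟩ := y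
  -- reorder the abelian part
  have hab : ∀ a b c a' b' c' : ZMod 3, (v ^ a.val * u ^ b.val * w ^ c.val) * (v ^ a'.val * u ^ b'.val * w ^ c'.val) =
      v ^ (a + a').val * u ^ (b + b').val * w ^ (c + c').val := by
    intro a b c a' b' c'
    rw [pow_val h.v3, pow_val h.u3, pow_val h.w3]
    have e1 := (h.vw.symm.pow_pow c.val a'.val).eq
    have e2 := (h.uw.symm.pow_pow c.val b'.val).eq
    have e3 := (h.vu.symm.pow_pow b.val a'.val).eq
    calc v ^ a.val * u ^ b.val * w ^ c.val * (v ^ a'.val * u ^ b'.val * w ^ c'.val)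
        = v ^ a.val * u ^ b.val * (w ^ c.val * v ^ a'.val) * u ^ b'.val * w ^ c'.val := by group
      _ = v ^ a.val * (u ^ b.val * v ^ a'.val) * (w ^ c.val * u ^ b'.val) * w ^ c'.val := by rw [e1]; group
      _ = _ := by rw [e2, e3]; group
  have hs : ∀ a b c : ZMod 3, s * (v ^ a.val * u ^ b.val * w ^ c.val) = (v ^ c.val * u ^ a.val * w ^ b.val) * s := by
    intro a b c
    calc s * (v ^ a.val * u ^ b.val * w ^ c.val) = (s * v ^ a.val) * u ^ b.val * w ^ c.val := by group
      _ = u ^ a.val * (s * u ^ b.val) * w ^ c.val := by rw [conj_pow_eq h.sv]; group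
      _ = u ^ a.val * w ^ b.val * (s * w ^ c.val) := by rw [conj_pow_eq h.su]; group
      _ = (u ^ a.val * w ^ b.val) * v ^ c.val * s := by rw [conj_pow_eq h.sw]; group
      _ = _ := by
        rw [((h.vu.symm.pow_pow a.val c.val).mul_left (h.vw.symm.pow_pow b.val c.val)).eq]; group
  have ht : ∀ a b c k : ZMod 3, t * (v ^ a.val * u ^ b.val * w ^ c.val * s ^ k.val) =
      (v ^ a.val * u ^ c.val * w ^ b.val * s ^ (-k).val) * t := by
    intro a b c k
    have hk : (s ^ 2) ^ k.val = s ^ (-k).val := by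
      rw [← pow_mul]
      have h3 : k.val = 0 ∨ k.val = 1 ∨ k.val = 2 := by have := ZMod.val_lt k; omega
      obtain rfl | rfl | rfl : k = 0 ∨ k = 1 ∨ k = 2 := by revert k; decide
      · rfl
      · rfl
      · show s ^ 4 = s ^ 1
        rw [show (4 : ℕ) = 3 + 1 from rfl, pow_succ, h.s3, one_mul, pow_one]
    calc t * (v ^ a.val * u ^ b.val * w ^ c.val * s ^ k.val)
        = (t * v ^ a.val) * u ^ b.val * w ^ c.val * s ^ k.val := by group
      _ = v ^ a.val * (t * u ^ b.val) * w ^ c.val * s ^ k.val := by rw [conj_pow_eq h.tv]; group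
      _ = v ^ a.val * w ^ b.val * (t * w ^ c.val) * s ^ k.val := by rw [conj_pow_eq h.tu]; group
      _ = v ^ a.val * (w ^ b.val * u ^ c.val) * (t * s ^ k.val) := by rw [conj_pow_eq h.tw]; group
      _ = _ := by rw [conj_pow_eq h.ts, (h.uw.symm.pow_pow b.val c.val).eq, hk]; group
  simp only [val, mul]
  -- move the last factor of the first element
  set A := v ^ a.val * u ^ b.val * w ^ c.val with hA
  obtain ⟨p1, p2, p3, p4, hp, hte⟩ : ∃ p1 p2 p3 p4 : ZMod 3,
      ((if e = 0 then (a', b', c', k') else (a', c', b', -k')) = (p1, p2, p3, p4)) ∧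
      t ^ e.val * (v ^ a'.val * u ^ b'.val * w ^ c'.val * s ^ k'.val) =
        (v ^ p1.val * u ^ p2.val * w ^ p3.val * s ^ p4.val) * t ^ e.val := by
    obtain rfl | rfl : e = 0 ∨ e = 1 := by revert e; decide
    · exact ⟨a', b', c', k', by simp, by simp⟩
    · refine ⟨a', c', b', -k', by simp, ?_⟩
      rw [show (1 : ZMod 2).val = 1 from rfl, pow_one, ht]
  rw [hp]
  simp only
  obtain ⟨q1, q2, q3, hq, hse⟩ : ∃ q1 q2 q3 : ZMod 3,
      ((if k = 0 then (p1, p2, p3) else if k = 1 then (p3, p1, p2) else (p2, p3, p1)) = (q1, q2, q3)) ∧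
      s ^ k.val * (v ^ p1.val * u ^ p2.val * w ^ p3.val) = (v ^ q1.val * u ^ q2.val * w ^ q3.val) * s ^ k.val := by
    obtain rfl | rfl | rfl : k = 0 ∨ k = 1 ∨ k = 2 := by revert k; decide
    · exact ⟨p1, p2, p3, by simp, by simp⟩
    · refine ⟨p3, p1, p2, by rw [if_neg (by decide), if_pos rfl], ?_⟩
      rw [show (1 : ZMod 3).val = 1 from rfl, pow_one, hs]
    · refine ⟨p2, p3, p1, by rw [if_neg (by decide), if_neg (by decide)], ?_⟩
      rw [show (2 : ZMod 3).val = 2 from rfl, pow_two, mul_assoc, hs, ← mul_assoc, hs, mul_assoc]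
  rw [hq]
  simp only
  rw [pow_val h.t2 e e', pow_val h.s3 k p4, ← hab]
  calc A * s ^ k.val * t ^ e.val * (v ^ a'.val * u ^ b'.val * w ^ c'.val * s ^ k'.val * t ^ e'.val)
      = A * s ^ k.val * (t ^ e.val * (v ^ a'.val * u ^ b'.val * w ^ c'.val * s ^ k'.val)) * t ^ e'.val := by group
    _ = A * (s ^ k.val * (v ^ p1.val * u ^ p2.val * w ^ p3.val)) * s ^ p4.val * t ^ e.val * t ^ e'.val := by
      rw [hte]; group
    _ = _ := by rw [hse, ← hA]; group

/-- Two groups of order 162 with such generators are isomorphic. -/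
theorem nonempty_equiv {H : Type*} [Group H] [Finite G] [Finite H] {v u w s t : G} {v' u' w' s' t' : H}
    (h : Rel v u w s t) (h' : Rel v' u' w' s' t') (hi : Function.Injective (val v u w s t))
    (hi' : Function.Injective (val v' u' w' s' t')) (hG : Nat.card G = 162) (hH : Nat.card H = 162) :
    Nonempty (G ≃* H) := by
  have hI : Nat.card Idx = 162 := by simp [Idx]
  have hb : Function.Bijective (val v u w s t) :=
    (Nat.bijective_iff_injective_and_card _).mpr ⟨hi, by rw [hG, hI]⟩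
  have hb' : Function.Bijective (val v' u' w' s' t') :=
    (Nat.bijective_iff_injective_and_card _).mpr ⟨hi', by rw [hH, hI]⟩
  let f := Equiv.ofBijective _ hb
  let f' := Equiv.ofBijective _ hb'
  refine ⟨MulEquiv.mk (f.symm.trans f') fun x y => ?_⟩
  obtain ⟨a, rfl⟩ := f.surjective x
  obtain ⟨b, rfl⟩ := f.surjective y
  show f' (f.symm (f a * f b)) = f' (f.symm (f a)) * f' (f.symm (f b))
  have e1 : f a * f b = f (mul a b) := val_mul h a b
  rw [e1, f.symm_apply_apply, f.symm_apply_apply, f.symm_apply_apply]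
  exact (val_mul h' a b).symm

end CfsgLib.WreathThreeSym
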