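import Cfsg.Agent.Lib.AbelianOffender
import Cfsg.Agent.Lib.FourSection
import Cfsg.Agent.Lib.ZJ.Complement

/-!
The base case of Thompson's normal `p`-complement criterion: `G / O_p(G)` has an abelian normal
`p'`-subgroup of `p`-power index.
-/

set_option autoImplicit false
set_option linter.unusedSectionVars false
set_option maxHeartbeats 400000

namespace CfsgLib.ThompsonComplement

open CfsgLib CfsgLib.Local CfsgLib.AbelianOffender Cfsg
open scoped commutatorElement

universe u
variable {G : Type u} [Group G] [Finite G] {p : ℕ} [Fact p.Prime]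

/-- An element of order prime to `p` fixing the elements of order dividing `p` of an abelian
`p`-group fixes all of it. -/
theorem fixes_of_fixes_omega {Z : Subgroup G} (hZ : IsPGroup p Z)
    (hZc : ∀ a ∈ Z, ∀ b ∈ Z, a * b = b * a) {k : G} (hk : (orderOf k).Coprime p)
    (hkZ : ∀ a ∈ Z, k * a * k⁻¹ ∈ Z) (hfix : ∀ a ∈ Z, a ^ p = 1 → k * a * k⁻¹ = a) :
    ∀ a ∈ Z, k * a * k⁻¹ = a := by
  suffices h : ∀ j : ℕ, ∀ a ∈ Z, a ^ p ^ j = 1 → k * a * k⁻¹ = a by
    intro a ha
    obtain ⟨j, hj⟩ := hZ ⟨a, ha⟩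
    exact h j a ha (congrArg Subtype.val hj)
  intro j
  induction j with
  | zero =>
    intro a _ h
    rw [pow_zero, pow_one] at h
    simp [h]
  | succ j ih =>
    intro a ha h
    have hp : k * a ^ p * k⁻¹ = a ^ p := ih _ (Z.pow_mem ha p) (by rwa [← pow_mul, ← pow_succ'])
    set d := k * a * k⁻¹ * a⁻¹ with hd
    have hdZ : d ∈ Z := Z.mul_mem (hkZ a ha) (Z.inv_mem ha)
    have hdp : d ^ p = 1 := by
      have hc : Commute (k * a * k⁻¹) a⁻¹ := hZc _ (hkZ a ha) _ (Z.inv_mem ha)
      rw [hd, hc.mul_pow, conj_pow, hp, inv_pow, mul_inv_cancel]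
    have e := conj_pow_eq (g := k) (v := a) (d := d) (by rw [hd]; group) (hfix d hdZ hdp) (orderOf k)
    rw [pow_orderOf_eq_one, one_mul, inv_one, mul_one, eq_comm, mul_eq_right] at e
    have hd1 : d = 1 := orderOf_eq_one_iff.1
      (Nat.eq_one_of_dvd_coprimes hk (orderOf_dvd_of_pow_eq_one e) (orderOf_dvd_of_pow_eq_one hdp))
    rwa [hd, mul_inv_eq_one] at hd1

theorem mem_of_pow_twelve {H : Type*} [Group H] {q : H} (hodd : (orderOf q).Coprime 2)
    (h : q ^ 12 = 1) : q ^ 3 = 1 := by
  have h1 := orderOf_dvd_of_pow_eq_one h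
  rw [show (12 : ℕ) = 2 ^ 2 * 3 by norm_num] at h1
  exact orderOf_dvd_iff_pow_eq_one.1 ((hodd.pow_right 2).dvd_of_dvd_mul_left h1)

/-- Two points of a four element set return after at most three steps. -/
theorem pow_six_eq_self {Q : Type*} [Finite Q] (hQ : Nat.card Q ≤ 4) (e : Equiv.Perm Q) (z : Q)
    (hz : e z = z) (v : Q) : (e ^ 6) v = v := by
  by_cases hv : v = z
  · subst hv
    exact Equiv.Perm.pow_apply_eq_self_of_apply_eq_self hz 6
  obtain ⟨k, hk, hk3, hkv⟩ : ∃ k, 0 < k ∧ k ≤ 3 ∧ (e ^ k) v = v := by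
    by_contra hcon
    push Not at hcon
    have hne : ∀ i : ℕ, (e ^ i) v ≠ z := by
      intro i h
      refine hv ((e ^ i).injective (h.trans ?_))
      exact (Equiv.Perm.pow_apply_eq_self_of_apply_eq_self hz i).symm
    let f : Option (Fin 4) → Q := fun o => o.elim z fun i => (e ^ (i : ℕ)) v
    have hinj : Function.Injective f := by
      rintro (_ | i) (_ | j) h
      · rfl
      · exact absurd h.symm (hne _)
      · exact absurd h (hne _)
      · by_contra hij
        have hij' : (i : ℕ) ≠ j := fun e' => hij (by rw [Fin.ext e'])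
        have key : ∀ a b : ℕ, a < b → b < 4 → (e ^ a) v = (e ^ b) v → False := by
          intro a b hab hb h'
          refine hcon (b - a) (by omega) (by omega) ((e ^ a).injective ?_)
          rw [← Equiv.Perm.mul_apply, ← pow_add, Nat.add_sub_cancel' hab.le, h']
        rcases lt_or_gt_of_ne hij' with h' | h'
        · exact key _ _ h' j.isLt h
        · exact key _ _ h' i.isLt h.symm
    have := Nat.card_le_card_of_injective f hinj
    rw [Finite.card_option, Nat.card_fin] at this
    omega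
  obtain ⟨m, hm⟩ : k ∣ 6 := by interval_cases k <;> norm_num
  rw [hm, pow_mul]
  exact Equiv.Perm.pow_apply_eq_self_of_apply_eq_self hkv m

/-- Hypotheses of the base case. -/
structure Base (p : ℕ) (G : Type u) [Group G] (M : Subgroup G) : Prop where
  cen : Subgroup.centralizer ((pCore p G ⊓ Subgroup.centralizer (pCore p G : Set G) : Subgroup G) : Set G) ≤
    pCore p G
  le : pCore p G ≤ M
  abel : ∀ m ∈ M, ∀ n ∈ M, ⁅m, n⁆ ∈ pCore p G
  cop : ∀ m ∈ M, ∀ k : ℕ, m ^ p ^ k ∈ pCore p G → m ∈ pCore p G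
  index : ∀ g : G, ∃ k : ℕ, g ^ p ^ k ∈ M

variable {M : Subgroup G} [M.Normal]

theorem Base.orderOf_coprime (h : Base p G M) {m : G} (hm : m ∈ M) :
    (orderOf (QuotientGroup.mk' (pCore p G) m)).Coprime p := by
  have hp : p.Prime := Fact.out
  set π := QuotientGroup.mk' (pCore p G)
  obtain ⟨k, l, hl, hk⟩ := Nat.exists_eq_pow_mul_and_not_dvd (orderOf_pos (π m)).ne' p hp.ne_one
  rcases Nat.eq_zero_or_pos k with rfl | hkpos
  · rw [hk, pow_zero, one_mul]
    exact (hp.coprime_iff_not_dvd.2 hl).symm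
  · exfalso
    have h1 : m ^ l ∈ pCore p G := h.cop _ (M.pow_mem hm l) k (by
      rw [← pow_mul, mul_comm, ← hk, ← QuotientGroup.eq_one_iff (N := pCore p G)]
      exact pow_orderOf_eq_one (π m))
    have h2 : π m ^ l = 1 := by rw [← map_pow]; exact (QuotientGroup.eq_one_iff _).2 h1
    have := Nat.le_of_dvd (Nat.pos_of_ne_zero fun e => hl (by rw [e]; exact dvd_zero p)) (orderOf_dvd_of_pow_eq_one h2)
    rw [hk] at this
    have h3 : 2 ≤ p ^ k := le_trans hp.two_le (Nat.le_self_pow hkpos.ne' p)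
    have h4 : 0 < l := Nat.pos_of_ne_zero fun e => hl (by rw [e]; exact dvd_zero p)
    nlinarith

/-- The largest abelian subgroups of a Sylow subgroup lie in the `p`-core. -/
theorem Base.le_pCore (h : Base p G M) (hfree : p ≠ 2 ∨ ¬ Involves (Equiv.Perm (Fin 4)) G)
    (S : Sylow p G) {e : ℕ} (he : e = 0 ∨ e = p) {A : Subgroup G}
    (hA : A ∈ ZJ.goodMax e (S : Subgroup G)) : A ≤ pCore p G := by
  have hp : p.Prime := Fact.out
  set O := pCore p G with hO
  have hOp : IsPGroup p O := isPGroup_pCore p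
  have hOS : O ≤ (S : Subgroup G) := pCore_le_sylow S
  have hOn : ∀ g : G, ∀ t ∈ O, g * t * g⁻¹ ∈ O := fun g t ht =>
    (inferInstance : O.Normal).conj_mem t ht g
  obtain ⟨hAS, ⟨hAc, hAe⟩, hAmax⟩ := hA
  -- the elements of order dividing `p` in the centre of `O`
  set Z := O ⊓ Subgroup.centralizer (O : Set G) with hZ
  have hZc : ∀ a ∈ Z, ∀ b ∈ Z, a * b = b * a := fun a ha b hb => hb.2 a ha.1
  haveI hZn : Z.Normal := inferInstance
  let W : Subgroup G :=
    { carrier := {v | v ∈ Z ∧ v ^ p = 1}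
      one_mem' := ⟨Z.one_mem, one_pow p⟩
      mul_mem' := fun {a b} ha hb => ⟨Z.mul_mem ha.1 hb.1, by
        rw [(show Commute a b from hZc a ha.1 b hb.1).mul_pow, ha.2, hb.2, one_mul]⟩
      inv_mem' := fun {a} ha => ⟨Z.inv_mem ha.1, by rw [inv_pow, ha.2, inv_one]⟩ }
  haveI hWn : W.Normal := ⟨fun v hv g => ⟨hZn.conj_mem v hv.1 g, by rw [conj_pow, hv.2, mul_one, mul_inv_cancel]⟩⟩
  have hWO : W ≤ O := fun v hv => hv.1.1
  have hWc : ∀ v ∈ W, ∀ w ∈ W, v * w = w * v := fun v hv w hw => hZc v hv.1 w hw.1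
  have hOW : O ≤ Subgroup.centralizer (W : Set G) := fun t ht v hv => (hv.1.2 t ht).symm
  -- `C(W) = O`
  have hCW : Subgroup.centralizer (W : Set G) ≤ O := by
    haveI : (Subgroup.centralizer (W : Set G)).Normal := Subgroup.normal_centralizer
    refine CfsgLib.le_pCore fun x => ?_
    obtain ⟨e, l, hl, he⟩ := Nat.exists_eq_pow_mul_and_not_dvd (orderOf_pos (x : G)).ne' p hp.ne_one
    refine ⟨e + 0, Subtype.ext ?_⟩
    rw [SubmonoidClass.coe_pow, OneMemClass.coe_one, add_zero]
    set k := (x : G) ^ p ^ e with hk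
    have hkord : (orderOf k).Coprime p := by
      rw [hk, orderOf_pow_of_dvd (pow_ne_zero _ hp.ne_zero) ⟨l, he⟩, he,
        Nat.mul_div_cancel_left _ (pow_pos hp.pos e)]
      exact (hp.coprime_iff_not_dvd.2 hl).symm
    have hkW : k ∈ Subgroup.centralizer (W : Set G) := Subgroup.pow_mem _ x.2 _
    have hfix := fixes_of_fixes_omega (isPGroup_of_le inf_le_left hOp) hZc hkord
      (fun a ha => hZn.conj_mem a ha k)
      (fun a ha ha' => by rw [← hkW a ⟨ha, ha'⟩, mul_inv_cancel_right])
    have hkO : k ∈ O := h.cen fun a ha => (mul_inv_eq_iff_eq_mul.1 (hfix a ha)).symm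
    obtain ⟨j, hj⟩ := hOp ⟨k, hkO⟩
    exact orderOf_eq_one_iff.1 (Nat.eq_one_of_dvd_coprimes (hkord.pow_right j) dvd_rfl
      (orderOf_dvd_of_pow_eq_one (congrArg Subtype.val hj)))
  by_contra hAO
  have hAWn : A ≤ Subgroup.normalizer (W : Set G) := by
    rw [Subgroup.normalizer_eq_top_iff.2 hWn]; exact le_top
  -- `A` is an offender
  set C₀ := A ⊓ Subgroup.centralizer (W : Set G) with hC₀
  have hbig : Nat.card W * Nat.card C₀ ≤
      Nat.card A * Nat.card ↥(W ⊓ Subgroup.centralizer (A : Set G)) := by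
    have hjoin : ZJ.IsGood e (W ⊔ C₀) := by
      rw [← Subgroup.closure_eq W, ← Subgroup.closure_eq C₀, ← Subgroup.closure_union]
      refine ZJ.isGood_closure ?_ (fun x hx => by
        rcases hx with hx | hx
        · rcases he with rfl | rfl
          · exact pow_zero x
          · exact hx.2
        · exact hAe x hx.1)
      rintro a (ha | ha) b (hb | hb)
      · exact hWc a ha b hb
      · exact hb.2 a ha
      · exact (ha.2 b hb).symm
      · exact hAc a ha.1 b hb.1
    have h1 := CfsgLib.Products.card_mul_card_le W C₀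
    refine h1.trans (Nat.mul_le_mul (hAmax _ (sup_le (hWO.trans hOS) (inf_le_left.trans hAS)) hjoin)
      (Subgroup.card_le_of_le (le_inf inf_le_left fun x hx a ha => hAc a ha x hx.2.1)))
  obtain ⟨B, hBA, hB⟩ := exists_min (W := W) (isPGroup_of_le hAS S.2) hAc hAWn
    (fun v => ⟨1, Subtype.ext (by rw [SubmonoidClass.coe_pow, pow_one]; exact v.2.2)⟩) hWc
    (fun e => hAO (e.trans hCW)) hbig
  rw [← hC₀] at hB
  have hC0O : C₀ ≤ O := inf_le_right.trans hCW
  have hBO : ∀ b ∈ B, b ∈ O → b ∈ C₀ := fun b hb hbO => ⟨hBA hb, hOW hbO⟩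
  have hcore : pCore p (G ⧸ O) = ⊥ := ZJ.pCore_quotient_pCore_eq_bot
  have hquad : ∀ {v : G}, v ∈ W → ∀ {b c : G}, b ∈ B → c ∈ B →
      c * (b * v * b⁻¹ * v⁻¹) * c⁻¹ = b * v * b⁻¹ * v⁻¹ := by
    intro v hv b c hb hc
    exact hB.quad hv hb hc
  obtain ⟨b₀, hb₀, hb₀C⟩ := SetLike.exists_of_lt hB.lt
  by_cases hp2 : p = 2
  swap
  · -- odd primes: stability
    have hq : IsPGroup p (G ⧸ M) := by
      intro x
      obtain ⟨g, rfl⟩ := QuotientGroup.mk'_surjective M x
      obtain ⟨k, hk⟩ := h.index g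
      exact ⟨k, by rw [← map_pow]; exact (QuotientGroup.eq_one_iff _).2 hk⟩
    have hst := ZJ.quadStable_of_abelian hp2 M h.abel (fun m hm hmp => h.cop m hm 1 (by rwa [pow_one])) hq
    obtain ⟨j, hj⟩ := hB.pgrp ⟨b₀, hb₀⟩
    have hqd : ⁅⁅W, Subgroup.zpowers b₀⁆, Subgroup.zpowers b₀⁆ = ⊥ := by
      rw [Subgroup.commutator_eq_bot_iff_le_centralizer, Subgroup.commutator_le]
      intro v hv c hc b hb
      have hbB : b ∈ B := (Subgroup.zpowers_le.2 hb₀) hb
      have hcB : c ∈ B := (Subgroup.zpowers_le.2 hb₀) hc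
      have e1 := hquad hv hcB hbB
      have e2 : ⁅v, c⁆ = (c * v * c⁻¹ * v⁻¹)⁻¹ := by rw [commutatorElement_def]; group
      rw [e2]
      rw [mul_inv_eq_iff_eq_mul] at e1
      exact (Commute.inv_right (show Commute b (c * v * c⁻¹ * v⁻¹) from e1)).eq
    have hmem := hst W (isPGroup_of_le hWO hOp) b₀ ⟨j, congrArg Subtype.val hj⟩ hqd
    obtain ⟨l, hl⟩ := isPGroup_pCore (G := G ⧸ Subgroup.centralizer (W : Set G)) p ⟨_, hmem⟩
    -- the preimage of the core is a normal `p`-subgroup
    set E := (pCore p (G ⧸ Subgroup.centralizer (W : Set G))).comap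
      (QuotientGroup.mk' (Subgroup.centralizer (W : Set G)))
    have hEp : IsPGroup p E := (isPGroup_pCore p).comap_of_ker_isPGroup _ (by
      rw [QuotientGroup.ker_mk']; exact isPGroup_of_le hCW hOp)
    exact hb₀C (hBO b₀ hb₀ (CfsgLib.le_pCore hEp hmem))
  subst hp2
  have hS4 : ¬ Involves (Equiv.Perm (Fin 4)) G := hfree.resolve_left (not_not.2 rfl)
  set π := QuotientGroup.mk' O with hπ
  have hπ1 : ∀ x : G, π x = 1 ↔ x ∈ O := fun x => QuotientGroup.eq_one_iff x
  have hπc : ∀ x y : G, π x = π y → ∀ v ∈ W, x * v * x⁻¹ = y * v * y⁻¹ := by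
    intro x y e v hv
    have h1 : y⁻¹ * x ∈ O := by rw [← hπ1, map_mul, map_inv, e, inv_mul_cancel]
    calc x * v * x⁻¹ = y * ((y⁻¹ * x) * v * (y⁻¹ * x)⁻¹) * y⁻¹ := by group
      _ = y * v * y⁻¹ := by rw [← hOW h1 v hv, mul_inv_cancel_right]
  have hMn : ∀ g : G, ∀ m ∈ M, g * m * g⁻¹ ∈ M := fun g m hm => (inferInstance : M.Normal).conj_mem m hm g
  have hMc : ∀ m ∈ M, ∀ n ∈ M, π m * π n = π n * π m := fun m hm n hn => by
    rw [← commutatorElement_eq_one_iff_mul_comm, ← map_commutatorElement, hπ1]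
    exact h.abel m hm n hn
  have hBsq : ∀ b ∈ B, π b * π b = 1 := fun b hb => by
    rw [← map_mul, hπ1, ← sq]
    exact hC0O (hB.pow_mem (fun v hv => hv.2) hb)
  -- some element of `B` acts non-trivially on `M / O`
  have hact : ∃ m ∈ M, ∃ b ∈ B, π (b * m * b⁻¹) ≠ π m := by
    by_contra hcon
    push Not at hcon
    set Mb := M.map π with hMb
    haveI hMbn : Mb.Normal := (inferInstance : M.Normal).map π (QuotientGroup.mk'_surjective O)
    set C := Subgroup.centralizer (Mb : Set (G ⧸ O)) with hC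
    haveI : C.Normal := Subgroup.normal_centralizer
    have hbC : π b₀ ∈ C := by
      rintro _ ⟨m, hm, rfl⟩
      have := hcon m hm b₀ hb₀
      rw [map_mul, map_mul, map_inv, mul_inv_eq_iff_eq_mul] at this
      exact this.symm
    have hMC : Mb ≤ C := by
      rintro _ ⟨m, hm, rfl⟩ _ ⟨n, hn, rfl⟩
      exact hMc n hn m hm
    haveI hnil : Group.IsNilpotent C := by
      haveI : (Mb.subgroupOf C).Normal := Subgroup.normal_subgroupOf
      haveI : Group.IsNilpotent (C ⧸ Mb.subgroupOf C) := by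
        refine IsPGroup.isNilpotent (p := 2) ?_
        intro x
        obtain ⟨y, rfl⟩ := QuotientGroup.mk'_surjective _ x
        obtain ⟨g, hg⟩ := QuotientGroup.mk'_surjective O (y : G ⧸ O)
        obtain ⟨k, hk⟩ := h.index g
        refine ⟨k, ?_⟩
        rw [← map_pow]
        refine (QuotientGroup.eq_one_iff _).2 (Subgroup.mem_subgroupOf.2 ?_)
        rw [SubmonoidClass.coe_pow, ← hg, ← map_pow]
        exact ⟨_, hk, rfl⟩
      refine Subgroup.isNilpotent_of_ker_le_center (QuotientGroup.mk' (Mb.subgroupOf C)) ?_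
      rw [QuotientGroup.ker_mk']
      exact fun y hy => Subgroup.mem_center_iff.2 fun z => Subtype.ext (z.2 _ hy).symm
    set R : Subgroup C := Subgroup.zpowers ⟨π b₀, hbC⟩
    have hR : IsPGroup 2 R := by
      intro x
      obtain ⟨x, hx⟩ := x
      obtain ⟨i, rfl⟩ := Subgroup.mem_zpowers_iff.1 hx
      refine ⟨1, Subtype.ext (Subtype.ext ?_)⟩
      change (π b₀ ^ i) ^ (2 ^ 1) = 1
      rw [pow_one, sq, ← (Commute.refl (π b₀)).mul_zpow, hBsq b₀ hb₀, one_zpow]
    obtain ⟨T, hT⟩ := hR.exists_le_sylow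
    haveI : (T : Subgroup C).Normal := T.normal_of_normalizerCondition Group.normalizerCondition_of_isNilpotent
    have h1 := map_pCore_le 2 C ⟨⟨π b₀, hbC⟩, CfsgLib.le_pCore T.2 (hT (Subgroup.mem_zpowers _)), rfl⟩
    rw [hcore, Subgroup.mem_bot] at h1
    exact hb₀C (hBO b₀ hb₀ ((hπ1 b₀).1 h1))
  obtain ⟨m₁, hm₁, b₁, hb₁, hmove⟩ := hact
  -- subgroups of index two
  have hbase : ∀ Y : Subgroup G, C₀ < Y → Y < B → Nat.card B = 2 * Nat.card Y → ∀ m ∈ M,
      (∀ y ∈ Y, π (y * m * y⁻¹) = π m) → ∀ b ∈ B, π (b * m * b⁻¹) = π m := by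
    intro Y hY1 hY2 hidx m hm hfixm b hb
    have hF := hB.fix_eq hY1 hY2 hidx
    set q := b * m * b⁻¹ * m⁻¹ with hq
    have hqM : q ∈ M := M.mul_mem (hMn b m hm) (M.inv_mem hm)
    have hqY : ∀ y ∈ Y, π (y * q) = π (q * y) := by
      intro y hy
      have h1 : π y * π m = π m * π y := by
        have := hfixm y hy
        rwa [map_mul, map_mul, map_inv, mul_inv_eq_iff_eq_mul] at this
      have hc : Commute (π y) (π b) := by
        show π y * π b = π b * π y
        rw [← map_mul, ← map_mul, hB.comm y (hY2.le hy) b hb]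
      simp only [hq, map_mul, map_inv]
      exact (((hc.mul_right h1).mul_right hc.inv_right).mul_right (Commute.inv_right h1)).eq
    -- `q` fixes the common fixed space
    have hqF : ∀ v ∈ W ⊓ Subgroup.centralizer (Y : Set G), q * v * q⁻¹ = v := by
      intro v hv
      have hmv : m⁻¹ * v * m ∈ W ⊓ Subgroup.centralizer (Y : Set G) := by
        refine ⟨by simpa using hWn.conj_mem v hv.1 m⁻¹, fun y hy => ?_⟩
        have h1 := hfixm y hy
        have h2 := hπc _ _ h1 (m⁻¹ * v * m) (by simpa using hWn.conj_mem v hv.1 m⁻¹)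
        have h3 : y * v * y⁻¹ = v := by rw [hv.2 y hy, mul_inv_cancel_right]
        have e : (y * m * y⁻¹) * (m⁻¹ * v * m) * (y * m * y⁻¹)⁻¹ =
            (y * m * y⁻¹ * m⁻¹) * v * (y * m * y⁻¹ * m⁻¹)⁻¹ := by group
        have h4 : π (m⁻¹ * y * m) = π y := by
          rw [map_mul, map_mul, map_inv]
          rw [map_mul, map_mul, map_inv, mul_inv_eq_iff_eq_mul] at h1
          rw [mul_assoc, h1, inv_mul_cancel_left]
        have h5 := hπc _ _ h4 (m⁻¹ * v * m) (by simpa using hWn.conj_mem v hv.1 m⁻¹)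
        have h6 : (m⁻¹ * y * m) * (m⁻¹ * v * m) * (m⁻¹ * y * m)⁻¹ = m⁻¹ * v * m := by
          calc _ = m⁻¹ * (y * v * y⁻¹) * m := by group
            _ = _ := by rw [h3]
        rw [h6, eq_comm, mul_inv_eq_iff_eq_mul] at h5
        exact h5
      rw [hF] at hmv hv
      calc q * v * q⁻¹ = b * (m * (b⁻¹ * (m⁻¹ * v * m) * b) * m⁻¹) * b⁻¹ := by rw [hq]; group
        _ = b * (m * (m⁻¹ * v * m) * m⁻¹) * b⁻¹ := by
            rw [mul_assoc b⁻¹, ← hmv.2 b hb, inv_mul_cancel_left]
        _ = b * v * b⁻¹ := by group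
        _ = v := by rw [hv.2 b hb, mul_inv_cancel_right]
    -- hence all of `W`
    have hqW : q ∈ Subgroup.centralizer (W : Set G) := by
      intro v hv
      set d := q * v * q⁻¹ * v⁻¹ with hd
      have hdW : d ∈ W := W.mul_mem (hWn.conj_mem v hv q) (W.inv_mem hv)
      have hdF : d ∈ W ⊓ Subgroup.centralizer (Y : Set G) := by
        refine ⟨hdW, fun y hy => ?_⟩
        set c := y * v * y⁻¹ * v⁻¹ with hcd
        have hcW : c ∈ W := W.mul_mem (hWn.conj_mem v hv y) (W.inv_mem hv)
        have hcF : c ∈ W ⊓ Subgroup.centralizer (Y : Set G) := ⟨hcW, fun y' hy' => by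
          have := hquad hv (hY2.le hy) (hY2.le hy')
          rwa [mul_inv_eq_iff_eq_mul] at this⟩
        have h1 := hπc _ _ (hqY y hy) v hv
        have e : y * d * y⁻¹ = d := by
          calc y * d * y⁻¹ = (y * q * v * (y * q)⁻¹) * (y * v * y⁻¹)⁻¹ := by rw [hd]; group
            _ = (q * y * v * (q * y)⁻¹) * (y * v * y⁻¹)⁻¹ := by rw [h1]
            _ = (q * c * q⁻¹) * (q * v * q⁻¹) * v⁻¹ * c⁻¹ := by rw [hcd]; group
            _ = c * d * c⁻¹ := by rw [hqF c hcF, hd]; group
            _ = d := by rw [hWc c hcW d hdW, mul_inv_cancel_right]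
        exact mul_inv_eq_iff_eq_mul.1 e
      have hdq := hqF d hdF
      obtain ⟨n, hn⟩ : ∃ n, n = orderOf (π q) := ⟨_, rfl⟩
      have e := conj_pow_eq (g := q) (v := v) (d := d) (by rw [hd]; group) hdq n
      have h2 : π (q ^ n) = π 1 := by rw [map_pow, map_one, hn, pow_orderOf_eq_one]
      rw [hπc _ _ h2 v hv, one_mul, inv_one, mul_one, eq_comm, mul_eq_right] at e
      have hd1 : d = 1 := orderOf_eq_one_iff.1 (Nat.eq_one_of_dvd_coprimes (h.orderOf_coprime hqM)
        (hn ▸ orderOf_dvd_of_pow_eq_one e) (orderOf_dvd_of_pow_eq_one hdW.2))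
      rw [hd, mul_inv_eq_one, mul_inv_eq_iff_eq_mul] at hd1
      exact hd1.symm
    have h1 : π q = 1 := (hπ1 q).2 (hCW hqW)
    rwa [hq, map_mul, map_inv, mul_inv_eq_one] at h1
  have hC0idx : ∀ b ∈ B, b ∉ C₀ → ∀ Y : Subgroup G, C₀ ≤ Y → Y ≤ B → b ∉ Y →
      ∀ y ∈ Y ⊔ Subgroup.zpowers b, y ∈ Y ∨ ∃ w ∈ Y, y = w * b := by
    intro b hb hbC Y hY1 hY2 hbY y hy
    have hn : Subgroup.zpowers b ≤ Subgroup.normalizer (Y : Set G) := (Subgroup.zpowers_le).2
      (mem_normalizer_of_map_conj_eq (Subgroup.eq_of_le_of_card_ge (map_conj_le fun x hx => by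
        rw [hB.comm b hb x (hY2 hx), mul_inv_cancel_right]; exact hx)
        (Subgroup.card_map_of_injective (MulAut.conj b).injective).ge))
    obtain ⟨w, hw, c, hc, rfl⟩ := mem_sup_of_le_normalizer hn hy
    obtain ⟨i, rfl⟩ := Subgroup.mem_zpowers_iff.1 hc
    have hb2 : b * b ∈ Y := hY1 (by rw [← sq]; exact hB.pow_mem (fun v hv => hv.2) hb)
    rcases Int.even_or_odd i with ⟨j, hj⟩ | ⟨j, hj⟩
    · left
      refine Y.mul_mem hw ?_
      rw [hj, ← two_mul, zpow_mul, zpow_two]
      exact Y.zpow_mem hb2 j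
    · right
      refine ⟨w * (b * b) ^ j, Y.mul_mem hw (Y.zpow_mem hb2 j), ?_⟩
      rw [hj, zpow_add_one, zpow_mul, zpow_two, mul_assoc]
  by_cases hsmall : ∃ b ∈ B, b ∉ C₀ ∧ C₀ ⊔ Subgroup.zpowers b = B
  swap
  · -- at least four cosets: every element of `M` is fixed
    push Not at hsmall
    refine hmove ?_
    have key : ∀ (n : ℕ) (Y : Subgroup G), C₀ ≤ Y → Y < B → Nat.card B ≤ n + Nat.card Y → ∀ m ∈ M,
        (∀ y ∈ Y, π (y * m * y⁻¹) = π m) → ∀ b ∈ B, π (b * m * b⁻¹) = π m := by
      intro n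
      induction n with
      | zero =>
        intro Y _ hY hn
        exact absurd (Subgroup.eq_of_le_of_card_ge hY.le (by simpa using hn)) hY.ne
      | succ n ih =>
        intro Y hY1 hY2 hn m hm hfixm
        obtain ⟨b, hb, hbY⟩ := SetLike.exists_of_lt hY2
        have hbC : b ∉ C₀ := fun e => hbY (hY1 e)
        by_cases htop : Y ⊔ Subgroup.zpowers b = B
        · have hYne : C₀ ≠ Y := fun e => hsmall b hb hbC (e ▸ htop)
          refine hbase Y (lt_of_le_of_ne hY1 hYne) hY2 ?_ m hm hfixm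
          have hcount : Nat.card B ≤ Nat.card (Y × Fin 2) := by
            refine Nat.card_le_card_of_surjective
              (fun z : Y × Fin 2 => (⟨if z.2 = 0 then (z.1 : G) else z.1 * b, by
                split_ifs
                · exact hY2.le z.1.2
                · exact B.mul_mem (hY2.le z.1.2) hb⟩ : B)) ?_
            rintro ⟨y, hy⟩
            rcases hC0idx b hb hbC Y hY1 hY2.le hbY y (htop.symm ▸ hy) with h' | ⟨w, hw, rfl⟩
            · exact ⟨(⟨y, h'⟩, 0), by simp⟩
            · exact ⟨(⟨w, hw⟩, 1), by simp⟩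
          rw [Nat.card_prod, Nat.card_fin] at hcount
          have hdvd := Subgroup.card_dvd_of_le hY2.le
          obtain ⟨c, hc⟩ := hdvd
          have hlt : Nat.card Y < Nat.card B := lt_of_le_of_ne (Subgroup.card_le_of_le hY2.le)
            fun e => hY2.ne (Subgroup.eq_of_le_of_card_ge hY2.le e.ge)
          have hpos : 0 < Nat.card Y := Nat.card_pos
          rw [hc] at hcount hlt
          have h1 : c ≤ 2 := Nat.le_of_mul_le_mul_left hcount hpos
          have h2 : 1 < c := by
            by_contra h'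
            interval_cases c <;> omega
          rw [hc, show c = 2 by omega, mul_comm]
        · -- three larger subgroups
          have hlt : Y ⊔ Subgroup.zpowers b < B :=
            lt_of_le_of_ne (sup_le hY2.le ((Subgroup.zpowers_le).2 hb)) htop
          obtain ⟨c, hc, hcY⟩ := SetLike.exists_of_lt hlt
          have hstep : ∀ x ∈ B, x ∉ Y → Y ⊔ Subgroup.zpowers x ≠ B → ∀ m' ∈ M,
              (∀ y ∈ Y, π (y * m' * y⁻¹) = π m') → π (x * m' * x⁻¹) = π m' →
              ∀ b' ∈ B, π (b' * m' * b'⁻¹) = π m' := by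
            intro x hx hxY hxB m' hm' hY' hxm
            refine ih (Y ⊔ Subgroup.zpowers x) (hY1.trans le_sup_left)
              (lt_of_le_of_ne (sup_le hY2.le ((Subgroup.zpowers_le).2 hx)) hxB) ?_ m' hm' ?_
            · have h1 : Y < Y ⊔ Subgroup.zpowers x := lt_of_le_of_ne le_sup_left fun e =>
                hxY (e ▸ Subgroup.mem_sup_right (Subgroup.mem_zpowers x))
              have h2 : Nat.card Y < Nat.card ↥(Y ⊔ Subgroup.zpowers x) :=
                lt_of_le_of_ne (Subgroup.card_le_of_le h1.le)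
                  fun e => h1.ne (Subgroup.eq_of_le_of_card_ge h1.le e.ge)
              omega
            · intro y hy
              rcases hC0idx x hx (fun e => hxY (hY1 e)) Y hY1 hY2.le hxY y hy with h' | ⟨w, hw, rfl⟩
              · exact hY' y h'
              · have e : (w * x) * m' * (w * x)⁻¹ = w * (x * m' * x⁻¹) * w⁻¹ := by group
                rw [e, map_mul, map_mul, hxm, ← map_mul, ← map_mul, hY' w hw]
          have hbc : b * c ∉ Y ⊔ Subgroup.zpowers b := fun e => hcY (by
            have := Subgroup.mul_mem _ (Subgroup.inv_mem _ (Subgroup.mem_sup_right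
              (Subgroup.mem_zpowers b) : b ∈ Y ⊔ Subgroup.zpowers b)) e
            simpa using this)
          -- the averages over the three subgroups
          have havg : ∀ x ∈ B, x ∉ Y → Y ⊔ Subgroup.zpowers x ≠ B →
              ∀ b' ∈ B, π (b' * (m * (x * m * x⁻¹)) * b'⁻¹) = π (m * (x * m * x⁻¹)) := by
            intro x hx hxY hxB
            refine hstep x hx hxY hxB _ (M.mul_mem hm (hMn x m hm)) ?_ ?_
            · intro y hy
              have hxy : y * x = x * y := hB.comm y (hY2.le hy) x hx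
              have e : y * (m * (x * m * x⁻¹)) * y⁻¹ = (y * m * y⁻¹) * ((y * x) * m * (y * x)⁻¹) := by group
              rw [e, hxy, show x * y * m * (x * y)⁻¹ = x * (y * m * y⁻¹) * x⁻¹ by group, map_mul,
                hfixm y hy, map_mul π (x * (y * m * y⁻¹)), map_mul π x, hfixm y hy, ← map_mul,
                ← map_mul, ← map_mul]
            · have e : x * (m * (x * m * x⁻¹)) * x⁻¹ = (x * m * x⁻¹) * ((x * x) * m * (x * x)⁻¹) := by group
              have hxx : π ((x * x) * m * (x * x)⁻¹) = π m := by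
                rw [map_mul, map_mul, map_inv, map_mul, hBsq x hx, one_mul, inv_one, mul_one]
              rw [e, map_mul, hxx, hMc _ (hMn x m hm) m hm, ← map_mul]
          have hmax : ∀ x ∈ B, x ∉ Y → Y ⊔ Subgroup.zpowers x ≠ B := by
            intro x hx hxY e
            obtain h' | ⟨w, hw, hb'⟩ :=
              hC0idx x hx (fun e' => hxY (hY1 e')) Y hY1 hY2.le hxY b (e.symm ▸ hb)
            · exact hbY h'
            · refine htop (le_antisymm (sup_le hY2.le ((Subgroup.zpowers_le).2 hb)) ?_)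
              rw [← e]
              refine sup_le le_sup_left ((Subgroup.zpowers_le).2 ?_)
              have := Subgroup.mul_mem (Y ⊔ Subgroup.zpowers b)
                (Subgroup.mem_sup_left (Y.inv_mem hw)) (Subgroup.mem_sup_right (Subgroup.mem_zpowers b))
              rw [← inv_mul_cancel_left w x, ← hb']
              exact this
          have hcY' : c ∉ Y := fun e => hcY (Subgroup.mem_sup_left e)
          have hbcY : b * c ∉ Y := fun e => hbc (Subgroup.mem_sup_left e)
          have hbcB : b * c ∈ B := B.mul_mem hb hc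
          intro b' hb'
          set f : G → G ⧸ O := fun x => π (x * m * x⁻¹) with hf
          have hfmul : ∀ x y : G, f (x * y) = π x * f y * (π x)⁻¹ := fun x y => by
            simp only [hf, map_mul, map_inv, mul_inv_rev, mul_assoc]
          have hcomm : ∀ x y : G, Commute (f x) (f y) := fun x y => hMc _ (hMn x m hm) _ (hMn y m hm)
          -- the sum over the four cosets
          have hS : ∀ b' ∈ B, π b' * (f 1 * f b * (f c * f (b * c))) * (π b')⁻¹ =
              f 1 * f b * (f c * f (b * c)) := by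
            have hfix1 := havg b hb hbY (hmax b hb hbY)
            have hm1 : f 1 = π m := by simp [hf]
            intro b' hb'
            have e1 : π b' * (f 1 * f b) * (π b')⁻¹ = f 1 * f b := by
              have := hfix1 b' hb'
              simpa [hf, map_mul, map_inv, mul_assoc] using this
            have e2 : f c * f (b * c) = π c * (f 1 * f b) * (π c)⁻¹ := by
              have hbc' : b * c = c * b := hB.comm b hb c hc
              rw [hbc', show f c = f (c * 1) by rw [mul_one], hfmul, hfmul]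
              group
            have hcc : Commute (π b') (π c) := by
              show π b' * π c = π c * π b'
              rw [← map_mul, ← map_mul, hB.comm b' hb' c hc]
            rw [e2]
            calc π b' * (f 1 * f b * (π c * (f 1 * f b) * (π c)⁻¹)) * (π b')⁻¹
                = (π b' * (f 1 * f b) * (π b')⁻¹) * ((π b' * π c) * (f 1 * f b) * (π b' * π c)⁻¹) := by group
              _ = (f 1 * f b) * ((π c * π b') * (f 1 * f b) * (π c * π b')⁻¹) := by rw [e1, hcc.eq]
              _ = (f 1 * f b) * (π c * (π b' * (f 1 * f b) * (π b')⁻¹) * (π c)⁻¹) := by group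
              _ = _ := by rw [e1]
          have havg' : ∀ x ∈ B, x ∉ Y → π b' * (f 1 * f x) * (π b')⁻¹ = f 1 * f x := by
            intro x hx hxY
            have := havg x hx hxY (hmax x hx hxY) b' hb'
            simpa [hf, map_mul, map_inv, mul_assoc] using this
          have hprod : (f 1 * f b) * (f 1 * f c) * (f 1 * f (b * c)) =
              (f 1 * f 1) * (f 1 * f b * (f c * f (b * c))) := by
            have k1 := hcomm (b : G) 1
            have k2 := hcomm c 1
            calc (f 1 * f b) * (f 1 * f c) * (f 1 * f (b * c))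
                = f 1 * (f b * f 1) * (f c * f 1) * f (b * c) := by group
              _ = f 1 * (f 1 * f b) * (f 1 * f c) * f (b * c) := by rw [k1.eq, k2.eq]
              _ = f 1 * f 1 * (f b * f 1) * f c * f (b * c) := by group
              _ = f 1 * f 1 * (f 1 * f b) * f c * f (b * c) := by rw [k1.eq]
              _ = _ := by group
          have h11 : π b' * (f 1 * f 1) * (π b')⁻¹ = f 1 * f 1 := by
            have : π b' * ((f 1 * f b) * (f 1 * f c) * (f 1 * f (b * c))) * (π b')⁻¹ =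
                (f 1 * f b) * (f 1 * f c) * (f 1 * f (b * c)) := by
              calc π b' * ((f 1 * f b) * (f 1 * f c) * (f 1 * f (b * c))) * (π b')⁻¹
                  = (π b' * (f 1 * f b) * (π b')⁻¹) * (π b' * (f 1 * f c) * (π b')⁻¹) *
                    (π b' * (f 1 * f (b * c)) * (π b')⁻¹) := by group
                _ = _ := by rw [havg' b hb hbY, havg' c hc hcY', havg' (b * c) hbcB hbcY]
            rw [hprod] at this
            calc π b' * (f 1 * f 1) * (π b')⁻¹
                = (π b' * (f 1 * f 1 * (f 1 * f b * (f c * f (b * c)))) * (π b')⁻¹) *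
                  (π b' * (f 1 * f b * (f c * f (b * c))) * (π b')⁻¹)⁻¹ := by group
              _ = f 1 * f 1 := by rw [this, hS b' hb', mul_inv_cancel_right]
          -- odd order
          obtain ⟨j, hj⟩ := exists_pow_eq_self_of_coprime (n := 2) (x := π m)
            (h.orderOf_coprime hm).symm
          have hm1 : f 1 = π m := by simp [hf]
          rw [hm1, ← sq] at h11
          have e : π b' * π m * (π b')⁻¹ = π m := by
            conv_lhs => rw [← hj]
            rw [← conj_pow, h11, hj]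
          rw [map_mul, map_mul, map_inv]
          exact e
    exact key (Nat.card B) C₀ le_rfl hB.lt (Nat.le_add_right _ _) m₁ hm₁ (fun y hy => by
      have h1 : π y = 1 := (hπ1 y).2 (hC0O hy)
      rw [map_mul, map_mul, map_inv, h1, one_mul, inv_one, mul_one]) b₁ hb₁
  -- two cosets: a transvection
  obtain ⟨b, hb, hbC, hbB⟩ := hsmall
  have hbm : π (b * m₁ * b⁻¹) ≠ π m₁ := by
    intro e
    refine hmove ?_
    rcases hC0idx b hb hbC C₀ le_rfl hB.lt.le hbC b₁ (hbB.symm ▸ hb₁) with h' | ⟨w, hw, rfl⟩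
    · rw [map_mul, map_mul, map_inv, (hπ1 b₁).2 (hC0O h'), one_mul, inv_one, mul_one]
    · rw [← e]
      simp only [map_mul, map_inv, (hπ1 w).2 (hC0O hw), one_mul]
  set D₁ := W ⊓ Subgroup.centralizer (B : Set G) with hD₁
  set q := b * m₁ * b⁻¹ * m₁⁻¹ with hq
  have hqM : q ∈ M := M.mul_mem (hMn b m₁ hm₁) (M.inv_mem hm₁)
  have hq1 : π q ≠ 1 := fun e => hbm (by rwa [hq, map_mul, map_inv, mul_inv_eq_one] at e)
  set D := D₁ ⊓ D₁.map (MulAut.conj m₁).toMonoidHom with hD
  have hcard : Nat.card B = 2 * Nat.card C₀ := by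
    obtain ⟨i, hi⟩ := hB.pgrp.exists_card_eq
    obtain ⟨j, hj⟩ := (isPGroup_of_le hB.lt.le hB.pgrp).exists_card_eq
    have hlt : Nat.card C₀ < Nat.card B := lt_of_le_of_ne (Subgroup.card_le_of_le hB.lt.le)
      fun e => hB.lt.ne (Subgroup.eq_of_le_of_card_ge hB.lt.le e.ge)
    have hle : Nat.card B ≤ Nat.card (C₀ × Fin 2) := by
      refine Nat.card_le_card_of_surjective
        (fun z : C₀ × Fin 2 => (⟨if z.2 = 0 then (z.1 : G) else z.1 * b, by
          split_ifs
          · exact hB.lt.le z.1.2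
          · exact B.mul_mem (hB.lt.le z.1.2) hb⟩ : B)) ?_
      rintro ⟨y, hy⟩
      rcases hC0idx b hb hbC C₀ le_rfl hB.lt.le hbC y (hbB.symm ▸ hy) with h' | ⟨w, hw, rfl⟩
      · exact ⟨(⟨y, h'⟩, 0), by simp⟩
      · exact ⟨(⟨w, hw⟩, 1), by simp⟩
    rw [Nat.card_prod, Nat.card_fin] at hle
    rw [hi, hj] at hlt hle ⊢
    rw [Nat.pow_lt_pow_iff_right (le_refl 2)] at hlt
    have : 2 ^ (j + 1) ≤ 2 ^ i := Nat.pow_le_pow_right (by norm_num) hlt
    rw [pow_succ] at this
    omega
  have hhalf : Nat.card W ≤ 2 * Nat.card D₁ := by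
    have := hB.big
    rw [hcard] at this
    refine Nat.le_of_mul_le_mul_right ?_ (Nat.card_pos : 0 < Nat.card C₀)
    calc Nat.card W * Nat.card C₀ ≤ 2 * Nat.card C₀ * Nat.card D₁ := this
      _ = _ := by ring
  have hD4 : Nat.card W ≤ 4 * Nat.card D := by
    have hD₁W : D₁ ≤ W := inf_le_left
    have hD₂W : D₁.map (MulAut.conj m₁).toMonoidHom ≤ W := map_conj_le fun x hx =>
      hWn.conj_mem x hx.1 m₁
    have h1 := CfsgLib.Products.card_mul_card_le D₁ (D₁.map (MulAut.conj m₁).toMonoidHom)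
    rw [Subgroup.card_map_of_injective (MulAut.conj m₁).injective] at h1
    have h2 : Nat.card ↥(D₁ ⊔ D₁.map (MulAut.conj m₁).toMonoidHom) ≤ Nat.card W :=
      Subgroup.card_le_of_le (sup_le hD₁W hD₂W)
    have h3 := h1.trans (Nat.mul_le_mul_right (Nat.card D) h2)
    refine Nat.le_of_mul_le_mul_left ?_ (Nat.card_pos : 0 < Nat.card W)
    calc Nat.card W * Nat.card W ≤ (2 * Nat.card D₁) * (2 * Nat.card D₁) := Nat.mul_le_mul hhalf hhalf
      _ = 4 * (Nat.card D₁ * Nat.card D₁) := by ring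
      _ ≤ 4 * (Nat.card W * Nat.card D) := Nat.mul_le_mul_left _ h3
      _ = _ := by ring
  have hbD₁ : ∀ v ∈ D₁, b * v * b⁻¹ = v := fun v hv => by rw [hv.2 b hb, mul_inv_cancel_right]
  have hqD : ∀ v ∈ D, q * v * q⁻¹ = v := by
    intro v hv
    obtain ⟨w, hw, hwv⟩ := hv.2
    have hw' : b⁻¹ * w * b = w := by rw [mul_assoc, ← hw.2 b hb, inv_mul_cancel_left]
    calc q * v * q⁻¹ = b * (m₁ * (b⁻¹ * (m₁⁻¹ * v * m₁) * b) * m₁⁻¹) * b⁻¹ := by rw [hq]; group
      _ = b * (m₁ * w * m₁⁻¹) * b⁻¹ := by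
          rw [show m₁⁻¹ * v * m₁ = w by rw [← hwv]; simp [mul_assoc], hw']
      _ = b * v * b⁻¹ := by rw [show m₁ * w * m₁⁻¹ = v from hwv]
      _ = v := hbD₁ v hv.1
  have hq12 : π q ^ 12 = 1 := by
    rw [← map_pow, hπ1]
    refine hCW fun v hv => ?_
    -- the permutation induced on the four cosets of `D`
    have hDn : ∀ x : W, (x : G) ∈ W := fun x => x.2
    set DW := D.subgroupOf W with hDW
    have hinvD : ∀ x : G, x ∈ D → q⁻¹ * x * q = x := fun x hx => by
      conv_lhs => rw [← hqD x hx]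
      group
    have hidx : DW.index ≤ 4 := by
      have h1 := DW.card_mul_index
      rw [Nat.card_congr (Subgroup.subgroupOfEquivOfLe
        ((inf_le_left : D ≤ D₁).trans inf_le_left)).toEquiv] at h1
      exact Nat.le_of_mul_le_mul_left (by rw [h1]; linarith) (Nat.card_pos : 0 < Nat.card D)
    let act : G → W ⧸ DW → W ⧸ DW := fun g z =>
      QuotientGroup.mk ⟨g * (z.out : G) * g⁻¹, hWn.conj_mem _ z.out.2 g⟩
    have hwell : ∀ g : G, (∀ x ∈ D, g * x * g⁻¹ = x) → ∀ x : W,
        act g (QuotientGroup.mk x) = QuotientGroup.mk ⟨g * (x : G) * g⁻¹, hWn.conj_mem _ x.2 g⟩ := by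
      intro g hg x
      refine QuotientGroup.eq.2 (Subgroup.mem_subgroupOf.2 ?_)
      set o := (QuotientGroup.mk x : W ⧸ DW).out with ho
      have hox : (o : G)⁻¹ * (x : G) ∈ D :=
        Subgroup.mem_subgroupOf.1 (QuotientGroup.eq.1 (QuotientGroup.out_eq' (QuotientGroup.mk x : W ⧸ DW)))
      have e : (g * (o : G) * g⁻¹)⁻¹ * (g * (x : G) * g⁻¹) = g * ((o : G)⁻¹ * x) * g⁻¹ := by group
      show (g * (o : G) * g⁻¹)⁻¹ * (g * (x : G) * g⁻¹) ∈ D
      rw [e, hg _ hox]
      exact hox
    have hinv' : ∀ x ∈ D, q⁻¹ * x * q⁻¹⁻¹ = x := fun x hx => by rw [inv_inv]; exact hinvD x hx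
    let e : Equiv.Perm (W ⧸ DW) :=
      { toFun := act q
        invFun := act q⁻¹
        left_inv := by
          intro z
          induction z using QuotientGroup.induction_on with
          | H x =>
            rw [hwell q hqD, hwell q⁻¹ hinv']
            congr 1
            exact Subtype.ext (by simp [mul_assoc])
        right_inv := by
          intro z
          induction z using QuotientGroup.induction_on with
          | H x =>
            rw [hwell q⁻¹ hinv', hwell q hqD]
            congr 1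
            exact Subtype.ext (by simp [mul_assoc]) }
    have he : ∀ (n : ℕ) (x : W), (e ^ n) (QuotientGroup.mk x) =
        QuotientGroup.mk ⟨q ^ n * (x : G) * (q ^ n)⁻¹, hWn.conj_mem _ x.2 _⟩ := by
      intro n
      induction n with
      | zero =>
        intro x
        rw [pow_zero, Equiv.Perm.one_apply]
        congr 1
        exact Subtype.ext (by simp)
      | succ n ih =>
        intro x
        rw [pow_succ', Equiv.Perm.mul_apply, ih]
        refine (hwell q hqD _).trans ?_
        congr 1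
        exact Subtype.ext (by rw [pow_succ']; group)
    have h6 := pow_six_eq_self (by rw [← Subgroup.index_eq_card]; exact hidx) e
      (QuotientGroup.mk (1 : W)) (by
        refine (hwell q hqD 1).trans ?_
        congr 1
        exact Subtype.ext (by simp)) (QuotientGroup.mk ⟨v, hv⟩)
    rw [he] at h6
    have hd := Subgroup.mem_subgroupOf.1 (QuotientGroup.eq.1 h6.symm)
    set d := v⁻¹ * (q ^ 6 * v * (q ^ 6)⁻¹) with hdd
    have hdD : d ∈ D := hd
    have hdW : d ∈ W := hdD.1.1
    have hv6 : q ^ 6 * v * (q ^ 6)⁻¹ = d * v := by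
      rw [hWc d hdW v hv, hdd, mul_inv_cancel_left]
    have hfix6 : q ^ 6 * d * (q ^ 6)⁻¹ = d := by
      have h := conj_pow_eq (g := q) (v := d) (d := 1) (by rw [one_mul]; exact hqD d hdD) (by group) 6
      rwa [one_pow, one_mul] at h
    have h12 := conj_pow_eq hv6 hfix6 2
    rw [hdW.2, one_mul, ← pow_mul, mul_inv_eq_iff_eq_mul] at h12
    exact h12.symm
  have hq3 : π q ^ 3 = 1 := mem_of_pow_twelve (h.orderOf_coprime hqM) hq12
  -- lift to an element of order three
  obtain ⟨i, hi⟩ := hOp ⟨q ^ 3, by rwa [← hπ1, map_pow]⟩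
  have hi' : (q ^ 3) ^ 2 ^ i = 1 := congrArg Subtype.val hi
  set x := q ^ (4 ^ i) with hx
  have hx3 : x ^ 3 = 1 := by
    rw [hx, ← pow_mul, mul_comm, pow_mul, show (4 : ℕ) = 2 * 2 from rfl, mul_pow, pow_mul, hi', one_pow]
  have hxq : π x = π q := by
    have h4 : 4 ^ i % 3 = 1 := by rw [Nat.pow_mod]; simp
    rw [hx, map_pow, ← Nat.mod_add_div (4 ^ i) 3, h4, pow_add, pow_mul, hq3, one_pow, mul_one, pow_one]
  obtain ⟨v₀, hv₀, hv₀x⟩ : ∃ v ∈ W, x * v * x⁻¹ ≠ v := by
    by_contra hcon
    push Not at hcon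
    refine hq1 ?_
    rw [← hxq, hπ1]
    exact hCW fun v hv => (mul_inv_eq_iff_eq_mul.1 (hcon v hv)).symm
  refine hS4 (FourSection.involves_S4 hOp (fun t ht v hv => (hOW ht v hv).symm) (fun v hv => by
    rw [← sq]; exact hv.2) hWc (x := x) (y := b) (fun v hv => hWn.conj_mem v hv x)
    (fun v hv => hWn.conj_mem v hv b) hx3 ?_ ?_ hv₀ hv₀x)
  · rw [← hπ1, map_mul, map_mul, map_mul, map_inv, hxq]
    have hbb := hBsq b hb
    have hbi : (π b)⁻¹ = π b := inv_eq_of_mul_eq_one_right hbb
    have hc := hMc (b * m₁ * b⁻¹) (hMn b m₁ hm₁) m₁⁻¹ (M.inv_mem hm₁)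
    simp only [map_mul, map_inv, hbi] at hc
    simp only [hq, map_mul, map_inv, hbi]
    calc π b * (π b * π m₁ * π b * (π m₁)⁻¹) * π b * (π b * π m₁ * π b * (π m₁)⁻¹)
        = (π b * π b) * π m₁ * π b * (π m₁)⁻¹ * (π b * π b) * π m₁ * π b * (π m₁)⁻¹ := by group
      _ = π m₁ * ((π b * (π m₁)⁻¹) * (π m₁ * π b)) * (π m₁)⁻¹ := by rw [hbb]; group
      _ = 1 := by rw [show (π b * (π m₁)⁻¹) * (π m₁ * π b) = π b * π b by group, hbb]; group
  · intro v hv
    have h1 : π (b * b) = π 1 := by rw [map_mul, hBsq b hb, map_one]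
    have h2 := hπc _ _ h1 v hv
    rw [one_mul, inv_one, mul_one] at h2
    calc b * (b * v * b⁻¹) * b⁻¹ = b * b * v * (b * b)⁻¹ := by group
      _ = v := h2

end CfsgLib.ThompsonComplement
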