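import Cfsg.Agent.Lib.UnitarySimple
import Cfsg.Agent.Lib.InvolutionDiag

/-!
Involutions of `SU_3(q)`, `q` odd, as lines spanned by vectors of norm one.
-/

set_option autoImplicit false
set_option linter.unusedSectionVars false

namespace CfsgLib.SU3Inv

open Matrix CfsgLib.UnitaryTransvection CfsgLib.UnitarySimple

theorem card_split {α : Type*} [Finite α] (p r : α → Prop) :
    Nat.card {x // p x} = Nat.card {x // p x ∧ r x} + Nat.card {x // p x ∧ ¬ r x} := by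
  classical
  haveI := Fintype.ofFinite α
  simp only [Nat.card_eq_fintype_card, Fintype.card_subtype]
  rw [← Finset.card_filter_add_card_filter_not (s := Finset.univ.filter p) r, Finset.filter_filter,
    Finset.filter_filter]

/-- Transport along a conjugation. -/
theorem card_transport {G : Type*} [Group G] (g : G) (P Q : G → Prop) (h : ∀ x, P x ↔ Q (g * x * g⁻¹)) :
    Nat.card {x // P x} = Nat.card {x // Q x} :=
  Nat.card_congr (Equiv.subtypeEquiv (MulAut.conj g).toEquiv h)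

theorem conj_prop {G : Type*} [Group G] (g x : G) :
    (g * x * g⁻¹ = 1 ↔ x = 1) ∧ (g * x * g⁻¹ * (g * x * g⁻¹) = 1 ↔ x * x = 1) := by
  refine ⟨conj_eq_one_iff, ?_⟩
  rw [show g * x * g⁻¹ * (g * x * g⁻¹) = g * (x * x) * g⁻¹ by group, conj_eq_one_iff]

variable {F : Type*} [Field F] [Fintype F] {q : ℕ} (hF : Fintype.card F = q ^ 2)

local notation "H" => Cfsg.hermForm 3 F q
local notation "H₂" => Cfsg.hermForm 2 F q
local notation "σ" => frob hF

include hF in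
theorem two_ne (hq : Odd q) : (2 : F) ≠ 0 := by
  intro h
  haveI : Fact (Nat.Prime 2) := ⟨Nat.prime_two⟩
  have hc : ringChar F = 2 := CharP.ringChar_of_prime_eq_zero Nat.prime_two (by exact_mod_cast h)
  have h1 := FiniteField.even_card_of_char_two hc
  rw [hF, ← Nat.even_iff, Nat.even_pow] at h1
  exact Nat.not_even_iff_odd.mpr hq h1.1

theorem norm_pow (a : F) : a ^ (q + 1) = a * σ a := by rw [pow_succ', frob_apply]

theorem h_zero_left (x : Fin 3 → F) : H 0 x = 0 := by simp [Cfsg.hermForm]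

include hF in
theorem h_neg_right {m : ℕ} (x y : Fin m → F) : Cfsg.hermForm m F q x (-y) = -Cfsg.hermForm m F q x y := by
  rw [← neg_one_smul F y, h_smul_right hF, map_neg, map_one, neg_one_mul]

theorem h_neg_left {m : ℕ} (x y : Fin m → F) : Cfsg.hermForm m F q (-x) y = -Cfsg.hermForm m F q x y := by
  rw [← neg_one_smul F x, h_smul_left, neg_one_mul]

/-- The matrix fixing `v` and negating its orthogonal. -/
def rmat (v : Fin 3 → F) : Matrix (Fin 3) (Fin 3) F := -Cfsg.unitaryTransvection 3 q v (-2)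

theorem rmat_mulVec (v x : Fin 3 → F) : rmat (q := q) v *ᵥ x = -x + (2 * H x v) • v := by
  rw [rmat, Matrix.neg_mulVec, tmat_mulVec]
  funext i; simp; ring

include hF

theorem good_two {v : Fin 3 → F} (hv : H v v = 1) : Good hF v (-2) := by
  unfold Good
  rw [hv, map_neg, map_ofNat]
  ring

/-- The involution attached to a vector of norm one. -/
noncomputable def ρ (v : Fin 3 → F) (hv : H v v = 1) : Cfsg.SU 3 F q :=
  mkSU (rmat (q := q) v) (fun u w => by
      rw [rmat, Matrix.neg_mulVec, Matrix.neg_mulVec, h_neg_left, h_neg_right hF, neg_neg,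
        tmat_isometry hF (good_two hF hv)])
    (by rw [rmat, det_neg, det_tmat, hv]; norm_num)

theorem ρ_mulVec (v : Fin 3 → F) (hv : H v v = 1) (x : Fin 3 → F) :
    mat (ρ hF v hv) *ᵥ x = -x + (2 * H x v) • v := rmat_mulVec v x

theorem ρ_fix (v : Fin 3 → F) (hv : H v v = 1) : mat (ρ hF v hv) *ᵥ v = v := by
  rw [ρ_mulVec, hv, mul_one]; funext i; simp; ring

theorem ρ_mul_self (v : Fin 3 → F) (hv : H v v = 1) : ρ hF v hv * ρ hF v hv = 1 := by
  refine su_ext fun x => ?_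
  rw [mat_mul, ← mulVec_mulVec, mat_one, one_mulVec, ρ_mulVec hF v hv x, ρ_mulVec, h_add_left, h_neg_left,
    h_smul_left, hv]
  funext i; simp; ring

theorem ρ_ne_one (h2 : (2 : F) ≠ 0) (v : Fin 3 → F) (hv : H v v = 1) : ρ hF v hv ≠ 1 := by
  intro h
  have hv0 : v ≠ 0 := fun h0 => by rw [h0, h_zero_left] at hv; exact zero_ne_one hv
  have key : ∀ x, -x + (2 * H x v) • v = x := fun x => by rw [← ρ_mulVec hF v hv x, h, mat_one, one_mulVec]
  -- every vector would be a multiple of `v`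
  have hx : ∀ x, x = H x v • v := fun x => by
    funext i
    have := congrFun (key x) i
    simp at this ⊢
    exact mul_left_cancel₀ h2 (by linear_combination -this)
  have e0 := hx (Pi.single 0 1)
  have e1 := hx (Pi.single 1 1)
  have a0 := congrFun e0 0
  have a1 := congrFun e0 1
  have b1 := congrFun e1 1
  simp at a0 a1 b1
  rcases a1 with h' | h'
  · rw [h', zero_mul] at a0; exact one_ne_zero a0
  · rw [h', mul_zero] at b1; exact one_ne_zero b1

theorem ρ_smul {v : Fin 3 → F} (hv : H v v = 1) {a : F} (ha : H (a • v) (a • v) = 1) :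
    ρ hF (a • v) ha = ρ hF v hv := by
  refine su_ext fun x => ?_
  rw [ρ_mulVec, ρ_mulVec]
  rw [h_smul_left, h_smul_right hF, hv, mul_one] at ha
  rw [h_smul_right hF, smul_smul, show 2 * (σ a * H x v) * a = 2 * H x v by linear_combination 2 * H x v * ha]

theorem ρ_eq_iff (h2 : (2 : F) ≠ 0) {v w : Fin 3 → F} (hv : H v v = 1) (hw : H w w = 1) :
    ρ hF v hv = ρ hF w hw ↔ ∃ a : F, w = a • v := by
  refine ⟨fun h => ⟨H w v, ?_⟩, ?_⟩
  · have e := ρ_mulVec hF v hv w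
    rw [h, ρ_fix] at e
    funext i
    have := congrFun e i
    simp at this ⊢
    exact mul_left_cancel₀ h2 (by linear_combination this)
  · rintro ⟨a, rfl⟩
    exact (ρ_smul hF hv hw).symm

theorem conj_ρ (g : Cfsg.SU 3 F q) (v : Fin 3 → F) (hv : H v v = 1) :
    g * ρ hF v hv * g⁻¹ = ρ hF (mat g *ᵥ v) (by rw [su_h, hv]) := by
  refine su_ext fun x => ?_
  rw [mat_mul, mat_mul, ← mulVec_mulVec, ← mulVec_mulVec, ρ_mulVec, ρ_mulVec, mulVec_add, mulVec_neg, mulVec_smul,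
    mat_inv_mulVec]
  congr 3
  rw [← su_h g (mat g⁻¹ *ᵥ x) v, mat_inv_mulVec]

theorem exists_ρ (h2 : (2 : F) ≠ 0) (x : Cfsg.SU 3 F q) (hx : x ≠ 1) (hxx : x * x = 1) :
    ∃ (v : Fin 3 → F) (hv : H v v = 1), x = ρ hF v hv := by
  classical
  obtain ⟨P, s, hs, hP⟩ := InvolutionDiag.exists_diag h2 (fun _ : Unit => mat x)
    (fun _ => by rw [← mat_mul, hxx, mat_one]) (fun _ _ => rfl)
  have hM : mat x = P.1 * diagonal (s ()) * (P⁻¹).1 := hP ()
  have hdet : s () 0 * s () 1 * s () 2 = 1 := by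
    have h := congrArg Matrix.det hM
    rw [Matrix.det_units_conj, det_diagonal, Fin.prod_univ_three, show (mat x).det = 1 from x.1.2] at h
    exact h.symm
  obtain ⟨j, hj⟩ : ∃ j : Fin 3, s () = fun i => if i = j then 1 else -1 := by
    have hne : (-1 : F) ≠ 1 := fun h => h2 (by linear_combination -h)
    have all1 : ¬ (s () = fun _ => 1) := fun h => hx (su_ext fun u => by
      rw [hM, h, diagonal_one, Matrix.mul_one, Units.mul_inv, mat_one])
    have mk : ∀ a b c, s () 0 = a → s () 1 = b → s () 2 = c → s () = ![a, b, c] := fun a b c ha hb hc => by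
      funext i; fin_cases i <;> simp [ha, hb, hc]
    rcases hs () 0 with a | a <;> rcases hs () 1 with b | b <;> rcases hs () 2 with c | c
    · exact absurd ((mk _ _ _ a b c).trans (by funext i; fin_cases i <;> simp)) all1
    · rw [a, b, c] at hdet; exact absurd (by linear_combination hdet) hne
    · rw [a, b, c] at hdet; exact absurd (by linear_combination hdet) hne
    · exact ⟨0, (mk _ _ _ a b c).trans (by funext i; fin_cases i <;> simp)⟩
    · rw [a, b, c] at hdet; exact absurd (by linear_combination hdet) hne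
    · exact ⟨1, (mk _ _ _ a b c).trans (by funext i; fin_cases i <;> simp)⟩
    · exact ⟨2, (mk _ _ _ a b c).trans (by funext i; fin_cases i <;> simp)⟩
    · rw [a, b, c] at hdet; exact absurd (by linear_combination hdet) hne
  set p : Fin 3 → F := P.1 *ᵥ Pi.single j 1 with hp
  have hline : ∀ u : Fin 3 → F, ∃ l : F, mat x *ᵥ u + u = l • p := fun u => by
    refine ⟨2 * ((P⁻¹).1 *ᵥ u) j, ?_⟩
    have e : mat x *ᵥ u + u = P.1 *ᵥ ((diagonal (s ()) *ᵥ ((P⁻¹).1 *ᵥ u)) + (P⁻¹).1 *ᵥ u) := by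
      rw [hM, mulVec_add, mulVec_mulVec u P.1 (P⁻¹).1, Units.mul_inv, one_mulVec, ← mulVec_mulVec,
        ← mulVec_mulVec]
    rw [e, hp, ← mulVec_smul]
    congr 1
    funext i
    rw [Pi.add_apply, mulVec_diagonal, hj, Pi.smul_apply, Pi.single_apply, smul_eq_mul]
    by_cases hij : i = j
    · subst hij; simp; ring
    · simp [hij]
  have hfix : mat x *ᵥ p = p := by
    rw [hp, hM, mulVec_mulVec, Matrix.mul_assoc, Units.inv_mul, Matrix.mul_one, ← mulVec_mulVec,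
      diagonal_mulVec_single, hj]
    simp
  have hhp : ∀ u, H (mat x *ᵥ u) p = H u p := fun u => by
    conv_lhs => rw [← hfix]
    rw [su_h]
  have hkey : ∀ u l, mat x *ᵥ u + u = l • p → 2 * H u p = l * H p p := fun u l hl => by
    have := congrArg (fun w => H w p) hl
    simp only [h_add_left, h_smul_left, hhp] at this
    linear_combination this
  have hpp : H p p ≠ 0 := fun h0 => by
    have hp0 : p = 0 := h_nondeg hF fun u => by
      obtain ⟨l, hl⟩ := hline u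
      have e := hkey u l hl
      rw [h0, mul_zero] at e
      rw [← h_swap hF u p, (mul_eq_zero.mp e).resolve_left h2, map_zero]
    have e := congrArg (fun v => (P⁻¹).1 *ᵥ v) hp0
    simp only [hp, mulVec_mulVec, Units.inv_mul, one_mulVec, mulVec_zero] at e
    have := congrFun e j
    simp at this
  obtain ⟨t, ht⟩ := exists_norm_eq hF (c := H p p) (h_swap hF p p)
  have ht0 : t ≠ 0 := by rintro rfl; exact hpp (by rw [← ht, zero_mul])
  refine ⟨t⁻¹ • p, ?_, ?_⟩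
  · rw [h_smul_left, h_smul_right hF, ← ht, map_inv₀]
    have : σ t ≠ 0 := by simp [ht0]
    field_simp
  · refine su_ext fun u => ?_
    obtain ⟨l, hl⟩ := hline u
    have e := hkey u l hl
    rw [ρ_mulVec, h_smul_right hF, smul_smul, eq_neg_add_iff_add_eq, add_comm, hl, map_inv₀]
    congr 1
    have : σ t ≠ 0 := by simp [ht0]
    field_simp
    linear_combination -e + l * ht

theorem commute_iff (h2 : (2 : F) ≠ 0) {v w : Fin 3 → F} (hv : H v v = 1) (hw : H w w = 1) :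
    Commute (ρ hF v hv) (ρ hF w hw) ↔ H w v = 0 ∨ ∃ a : F, w = a • v := by
  constructor
  · intro h
    have e := congrArg (fun z => mat z *ᵥ w) h.eq
    simp only [mat_mul, ← mulVec_mulVec, ρ_fix] at e
    rw [ρ_mulVec, ρ_mulVec, h_add_left, h_neg_left, h_smul_left, hw] at e
    by_cases h0 : H w v = 0
    · exact Or.inl h0
    right
    refine ⟨(H v w)⁻¹, ?_⟩
    have key : ∀ i, H w v * (H v w * w i - v i) = 0 := fun i => by
      have hi := congrFun e i
      simp at hi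
      have h4 : (2 * 2 : F) * (H w v * (H v w * w i) - H w v * v i) = 0 := by
        linear_combination (-1 : F) * hi + (H w v * v i * 2) * 0
      rcases mul_eq_zero.mp h4 with h' | h'
      · exact absurd h' (mul_ne_zero h2 h2)
      · linear_combination h'
    have hvw : v = H v w • w := funext fun i => by
      have := (mul_eq_zero.mp (key i)).resolve_left h0
      simp; linear_combination -this
    have hvw0 : H v w ≠ 0 := fun h' => by
      rw [h', zero_smul] at hvw; rw [hvw, h_zero_left] at hv; exact zero_ne_one hv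
    funext i
    have := congrFun hvw i
    simp at this ⊢
    field_simp
    linear_combination -this
  · rintro (h | ⟨a, rfl⟩)
    · have h' : H v w = 0 := by rw [← h_swap hF w v, h, map_zero]
      refine su_ext fun x => ?_
      simp only [mat_mul, ← mulVec_mulVec, ρ_mulVec, h_add_left, h_neg_left, h_smul_left, h, h']
      funext i; simp; ring
    · rw [ρ_smul hF hv hw]

/-- The first basis vector. -/
def e0 (F : Type*) [Field F] : Fin 3 → F := Fin.cons 1 0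

theorem cons_h (a b : F) (u u' : Fin 2 → F) : H (Fin.cons a u) (Fin.cons b u') = a * σ b + H₂ u u' := by
  rw [UnitaryOrder.herm_cons, frob_apply]

theorem h_eq (v w : Fin 3 → F) : H v w = v 0 * σ (w 0) + H₂ (Fin.tail v) (Fin.tail w) := by
  rw [← cons_h hF, Fin.cons_self_tail, Fin.cons_self_tail]

theorem h_e0 (w : Fin 3 → F) : H w (e0 F) = w 0 := by
  rw [h_eq hF]
  simp [e0, Cfsg.hermForm, zero_pow (show q ≠ 0 by rintro rfl; simp at hF)]

theorem e0_unit : H (e0 F) (e0 F) = 1 := by rw [h_e0 hF]; rfl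

/-- The standard involution. -/
noncomputable def E : Cfsg.SU 3 F q := ρ hF (e0 F) (e0_unit hF)

theorem smul_e0_iff (w : Fin 3 → F) : (∃ a : F, w = a • e0 F) ↔ Fin.tail w = 0 := by
  constructor
  · rintro ⟨a, rfl⟩
    funext i; simp [Fin.tail, e0]
  · intro h
    refine ⟨w 0, ?_⟩
    funext i
    refine Fin.cases ?_ (fun i => ?_) i
    · simp [e0]
    · have := congrFun h i
      simp [Fin.tail] at this
      simp [e0, this]

theorem eq_E_iff (h2 : (2 : F) ≠ 0) {w : Fin 3 → F} (hw : H w w = 1) : ρ hF w hw = E hF ↔ Fin.tail w = 0 := by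
  rw [eq_comm, E, ρ_eq_iff hF h2, smul_e0_iff hF]

theorem commute_E_iff (h2 : (2 : F) ≠ 0) {w : Fin 3 → F} (hw : H w w = 1) :
    Commute (E hF) (ρ hF w hw) ↔ w 0 = 0 ∨ Fin.tail w = 0 := by
  rw [E, commute_iff hF h2, smul_e0_iff hF, h_e0 hF]

/-- The orthogonal of a plane vector. -/
noncomputable def perp (u : Fin 2 → F) : Fin 2 → F := ![-σ (u 1), σ (u 0)]

theorem h₂_eq (u w : Fin 2 → F) : H₂ u w = u 0 * σ (w 0) + u 1 * σ (w 1) := by
  simp [Cfsg.hermForm, Fin.sum_univ_two, frob_apply]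

theorem h_perp (u : Fin 2 → F) : H₂ (perp hF u) u = 0 := by
  rw [h₂_eq hF]; simp [perp]; ring

theorem h_perp_self (u : Fin 2 → F) : H₂ (perp hF u) (perp hF u) = H₂ u u := by
  rw [h₂_eq hF, h₂_eq hF]; simp [perp, frob_frob]; ring

theorem eq_perp {u y : Fin 2 → F} (hu : u ≠ 0) (h : H₂ y u = 0) : ∃ a : F, y = a • perp hF u := by
  rw [h₂_eq hF] at h
  by_cases h0 : u 0 = 0
  · have h1 : u 1 ≠ 0 := fun h1 => hu (funext fun i => by fin_cases i <;> simp [h0, h1])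
    have hs : σ (u 1) ≠ 0 := by simp [h1]
    refine ⟨-(y 0) / σ (u 1), ?_⟩
    rw [h0, map_zero, mul_zero, zero_add] at h
    have hy : y 1 = 0 := (mul_eq_zero.mp h).resolve_right hs
    funext i; fin_cases i
    · simp [perp]; field_simp
    · simp [perp, h0, hy]
  · have hs : σ (u 0) ≠ 0 := by simp [h0]
    refine ⟨y 1 / σ (u 0), ?_⟩
    funext i; fin_cases i
    · simp [perp]; field_simp; linear_combination h
    · simp [perp]; field_simp

/-- Existence of an involution commuting with both. -/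
theorem exists_mid (h2 : (2 : F) ≠ 0) {w : Fin 3 → F} (hw : H w w = 1) (hu : H₂ (Fin.tail w) (Fin.tail w) ≠ 0) :
    ∃ (y : Fin 3 → F) (hy : H y y = 1), y 0 = 0 ∧ H w y = 0 := by
  obtain ⟨t, ht⟩ := exists_norm_eq hF (c := H₂ (Fin.tail w) (Fin.tail w)) (h_swap hF _ _)
  have ht0 : t ≠ 0 := by rintro rfl; exact hu (by rw [← ht, zero_mul])
  have hσt : σ t ≠ 0 := by simp [ht0]
  refine ⟨Fin.cons 0 (t⁻¹ • perp hF (Fin.tail w)), ?_, rfl, ?_⟩
  · rw [cons_h hF, h_smul_left, h_smul_right hF, h_perp_self, ← ht, map_inv₀]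
    field_simp
    ring
  · rw [← h_swap hF, ← Fin.cons_self_tail w, cons_h hF, h_smul_left, Fin.tail_cons, h_perp hF]
    simp

theorem tail_sq {w : Fin 3 → F} (hw : H w w = 1) : H₂ (Fin.tail w) (Fin.tail w) = 1 - w 0 * σ (w 0) := by
  rw [h_eq hF] at hw; linear_combination hw

theorem common_iff (h2 : (2 : F) ≠ 0) {w : Fin 3 → F} (hw : H w w = 1) (hnc : ¬ Commute (E hF) (ρ hF w hw)) :
    (∃ y : Cfsg.SU 3 F q, y ≠ 1 ∧ y * y = 1 ∧ Commute (E hF) y ∧ Commute y (ρ hF w hw)) ↔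
      H₂ (Fin.tail w) (Fin.tail w) ≠ 0 := by
  constructor
  · rintro ⟨y, hy1, hy2, hEy, hyw⟩ h0
    obtain ⟨v, hv, rfl⟩ := exists_ρ hF h2 y hy1 hy2
    rw [commute_E_iff hF h2] at hnc hEy
    push Not at hnc
    rcases hEy with hv0 | hvt
    · rw [commute_iff hF h2] at hyw
      rcases hyw with hwv | ⟨a, rfl⟩
      · rw [h_eq hF, hv0, map_zero, mul_zero, zero_add] at hwv
        obtain ⟨a, ha⟩ := eq_perp hF hnc.2 (show H₂ (Fin.tail v) (Fin.tail w) = 0 by
          rw [← h_swap hF, hwv, map_zero])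
        rw [h_eq hF, hv0, zero_mul, zero_add, ha, h_smul_left, h_smul_right hF, h_perp_self, h0, mul_zero,
          mul_zero] at hv
        exact zero_ne_one hv
      · exact hnc.1 (by simp [hv0])
    · have e : ρ hF v hv = E hF := (eq_E_iff hF h2 hv).mpr hvt
      rw [e, commute_E_iff hF h2] at hyw
      exact hyw.elim hnc.1 hnc.2
  · intro h
    obtain ⟨y, hy, hy0, hwy⟩ := exists_mid hF h2 hw h
    exact ⟨ρ hF y hy, ρ_ne_one hF h2 _ _, ρ_mul_self hF _ _, (commute_E_iff hF h2 hy).mpr (Or.inl hy0),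
      (commute_iff hF h2 hy hw).mpr (Or.inl hwy)⟩

theorem connected (h2 : (2 : F) ≠ 0) (x : Cfsg.SU 3 F q) (hx : x ≠ 1) (hxx : x * x = 1) :
    ∃ y z : Cfsg.SU 3 F q, y ≠ 1 ∧ y * y = 1 ∧ z ≠ 1 ∧ z * z = 1 ∧
      Commute (E hF) y ∧ Commute y z ∧ Commute z x := by
  classical
  obtain ⟨w, hw, rfl⟩ := exists_ρ hF h2 x hx hxx
  have hE1 := ρ_ne_one hF h2 (e0 F) (e0_unit hF)
  have hE2 := ρ_mul_self hF (e0 F) (e0_unit hF)
  by_cases hc : Commute (E hF) (ρ hF w hw)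
  · exact ⟨E hF, E hF, hE1, hE2, hE1, hE2, Commute.refl _, Commute.refl _, hc⟩
  by_cases hu : H₂ (Fin.tail w) (Fin.tail w) ≠ 0
  · obtain ⟨y, hy1, hy2, h1, h2'⟩ := (common_iff hF h2 hw hc).mpr hu
    exact ⟨y, y, hy1, hy2, hy1, hy2, h1, Commute.refl _, h2'⟩
  push Not at hu
  rw [h₂_eq hF] at hu
  -- a coordinate vector in the orthogonal plane with nondegenerate span
  obtain ⟨i, hi⟩ : ∃ i : Fin 2, Fin.tail w i * σ (Fin.tail w i) ≠ 1 := by
    by_contra hh
    push Not at hh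
    rw [hh 0, hh 1] at hu
    exact h2 (by linear_combination hu)
  set z : Fin 3 → F := Fin.cons 0 (Pi.single i 1) with hz
  have hz1 : H z z = 1 := by
    rw [hz, cons_h hF, UnitaryOrder.herm_single_right hF]; simp
  have hwz : H w z = Fin.tail w i := by
    rw [h_eq hF, hz, Fin.tail_cons, UnitaryOrder.herm_single_right hF]; simp
  by_cases hzw : Commute (ρ hF z hz1) (ρ hF w hw)
  · exact ⟨ρ hF z hz1, ρ hF z hz1, ρ_ne_one hF h2 _ _, ρ_mul_self hF _ _, ρ_ne_one hF h2 _ _, ρ_mul_self hF _ _,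
      (commute_E_iff hF h2 hz1).mpr (Or.inl rfl), Commute.refl _, hzw⟩
  -- the pole of the line through the two points
  set r : Fin 3 → F := w - H w z • z with hr
  have hrz : H r z = 0 := by rw [hr, h_sub_left, h_smul_left, hz1, mul_one, sub_self]
  have hr0 : r 0 = w 0 := by simp [hr, hz]
  set d : Fin 2 → F := ![w 0, Fin.tail w (1 - i)] with hd
  set y : Fin 3 → F := Fin.cons (-σ (d 1)) (Pi.single (1 - i) (σ (d 0))) with hy
  have hi' : (1 - i) ≠ i := by fin_cases i <;> decide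
  have hyz : H y z = 0 := by
    rw [hy, hz, cons_h hF, UnitaryOrder.herm_single_right hF, map_zero, mul_zero, zero_add,
      Pi.single_eq_of_ne hi'.symm]
  have hwy : H y w = 0 := by
    rw [h_eq hF, hy, Fin.tail_cons, Fin.cons_zero, h₂_eq hF]
    fin_cases i <;> simp [hd] <;> ring
  have hyy : H y y = 1 - Fin.tail w i * σ (Fin.tail w i) := by
    have hs : H₂ (Fin.tail w) (Fin.tail w) = 1 - w 0 * σ (w 0) := tail_sq hF hw
    rw [h₂_eq hF] at hs
    rw [hy, cons_h hF, h₂_eq hF]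
    fin_cases i <;> simp [hd, frob_frob] <;> linear_combination hs
  have hne : H y y ≠ 0 := by rw [hyy]; exact fun h => hi (by linear_combination -h)
  obtain ⟨t, ht⟩ := exists_norm_eq hF (c := H y y) (h_swap hF _ _)
  have ht0 : t ≠ 0 := by rintro rfl; exact hne (by rw [← ht, zero_mul])
  have hσt : σ t ≠ 0 := by simp [ht0]
  have hY : H (t⁻¹ • y) (t⁻¹ • y) = 1 := by
    rw [h_smul_left, h_smul_right hF, ← ht, map_inv₀]; field_simp
  refine ⟨ρ hF z hz1, ρ hF _ hY, ρ_ne_one hF h2 _ _, ρ_mul_self hF _ _, ρ_ne_one hF h2 _ _, ρ_mul_self hF _ _,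
    (commute_E_iff hF h2 hz1).mpr (Or.inl rfl), ?_, ?_⟩
  · exact (commute_iff hF h2 hz1 hY).mpr (Or.inl (by rw [h_smul_left, hyz, mul_zero]))
  · refine (commute_iff hF h2 hY hw).mpr (Or.inl ?_)
    rw [← h_swap hF, h_smul_left, hwy, mul_zero, map_zero]

theorem third (h2 : (2 : F) ≠ 0) (x : Cfsg.SU 3 F q) (hx : x ≠ 1) (hxx : x * x = 1) (hxE : x ≠ E hF)
    (hc : Commute (E hF) x) :
    Nat.card {y : Cfsg.SU 3 F q // y ≠ 1 ∧ y * y = 1 ∧ y ≠ E hF ∧ y ≠ x ∧ Commute (E hF) y ∧ Commute x y} = 1 := by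
  obtain ⟨w, hw, rfl⟩ := exists_ρ hF h2 x hx hxx
  rw [Ne, eq_E_iff hF h2] at hxE
  rw [commute_E_iff hF h2] at hc
  have hw0 : w 0 = 0 := hc.resolve_right hxE
  have hs := tail_sq hF hw
  rw [hw0, zero_mul, sub_zero] at hs
  set y₀ : Fin 3 → F := Fin.cons 0 (perp hF (Fin.tail w)) with hy₀
  have hy : H y₀ y₀ = 1 := by rw [hy₀, cons_h hF, h_perp_self, hs]; simp
  have hyw : H y₀ w = 0 := by rw [h_eq hF, hy₀, Fin.tail_cons, h_perp hF]; simp
  have uniq : ∀ v (hv : H v v = 1), ρ hF v hv ≠ E hF → ρ hF v hv ≠ ρ hF w hw → Commute (E hF) (ρ hF v hv) →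
      Commute (ρ hF w hw) (ρ hF v hv) → ρ hF v hv = ρ hF y₀ hy := by
    intro v hv h1 h2' h3 h4
    rw [commute_E_iff hF h2] at h3
    rw [Ne, eq_E_iff hF h2] at h1
    have hv0 := h3.resolve_right h1
    rw [commute_iff hF h2] at h4
    have hvw : H v w = 0 := h4.resolve_right fun hh => h2' ((ρ_eq_iff hF h2 hw hv).mpr hh).symm
    rw [h_eq hF, hv0, zero_mul, zero_add] at hvw
    obtain ⟨a, ha⟩ := eq_perp hF hxE hvw
    refine ((ρ_eq_iff hF h2 hy hv).mpr ⟨a, ?_⟩).symm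
    rw [← Fin.cons_self_tail v, hv0, ha, hy₀]
    funext i
    refine Fin.cases ?_ (fun i => ?_) i <;> simp
  rw [Nat.card_eq_one_iff_unique]
  refine ⟨⟨fun a b => ?_⟩, ⟨⟨ρ hF y₀ hy, ρ_ne_one hF h2 _ _, ρ_mul_self hF _ _, ?_, ?_, ?_, ?_⟩⟩⟩
  · obtain ⟨a, a1, a2, a3, a4, a5, a6⟩ := a
    obtain ⟨b, b1, b2, b3, b4, b5, b6⟩ := b
    obtain ⟨va, hva, rfl⟩ := exists_ρ hF h2 a a1 a2
    obtain ⟨vb, hvb, rfl⟩ := exists_ρ hF h2 b b1 b2
    exact Subtype.ext ((uniq va hva a3 a4 a5 a6).trans (uniq vb hvb b3 b4 b5 b6).symm)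
  · rw [Ne, eq_E_iff hF h2, hy₀, Fin.tail_cons]
    intro h
    rw [h_eq hF, hy₀, Fin.tail_cons, h] at hy
    simp [Cfsg.hermForm] at hy
  · intro h
    rw [ρ_eq_iff hF h2] at h
    obtain ⟨a, ha⟩ := h
    have e : H w w = 0 := by
      nth_rw 1 [ha]; rw [h_smul_left, hyw, mul_zero]
    rw [hw] at e; exact one_ne_zero e
  · exact (commute_E_iff hF h2 hy).mpr (Or.inl rfl)
  · exact (commute_iff hF h2 hw hy).mpr (Or.inl hyw)

section counting

/-- Vectors of norm one correspond `q + 1` to one to involutions. -/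
theorem card_units_vec (h2 : (2 : F) ≠ 0) (P : Cfsg.SU 3 F q → Prop) :
    Nat.card {w : {w : Fin 3 → F // H w w = 1} // P (ρ hF w.1 w.2)} =
      (q + 1) * Nat.card {x : Cfsg.SU 3 F q // x ≠ 1 ∧ x * x = 1 ∧ P x} := by
  classical
  let f : {w : {w : Fin 3 → F // H w w = 1} // P (ρ hF w.1 w.2)} →
      {x : Cfsg.SU 3 F q // x ≠ 1 ∧ x * x = 1 ∧ P x} :=
    fun w => ⟨ρ hF w.1.1 w.1.2, ρ_ne_one hF h2 _ _, ρ_mul_self hF _ _, w.2⟩
  have hfib : ∀ x, Nat.card {w // f w = x} = q + 1 := by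
    rintro ⟨x, hx1, hx2, hx3⟩
    obtain ⟨v, hv, rfl⟩ := exists_ρ hF h2 x hx1 hx2
    rw [← HermCount.card_fibre hF (c := 1) one_ne_zero (one_pow q)]
    have hun : ∀ a : F, a ^ (q + 1) = 1 → H (a • v) (a • v) = 1 := fun a ha => by
      rw [h_smul_left, h_smul_right hF, hv, mul_one, ← norm_pow hF, ha]
    refine (Nat.card_eq_of_bijective (fun a : {a : F // a ^ (q + 1) = 1} =>
      (⟨⟨⟨a.1 • v, hun a.1 a.2⟩, by rw [ρ_smul hF hv]; exact hx3⟩,
        Subtype.ext (ρ_smul hF hv (hun a.1 a.2))⟩ : {w // f w = ⟨ρ hF v hv, hx1, hx2, hx3⟩})) ⟨?_, ?_⟩).symm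
    · intro a b h
      have e : a.1 • v = b.1 • v := congrArg (fun w : {w // f w = _} => w.1.1.1) h
      exact Subtype.ext (smul_left_injective F (fun h0 => by
        rw [h0, h_zero_left] at hv; exact zero_ne_one hv) e)
    · rintro ⟨⟨⟨w, hw⟩, hP⟩, hf⟩
      obtain ⟨a, rfl⟩ := (ρ_eq_iff hF h2 hv hw).mp (congrArg Subtype.val hf).symm
      refine ⟨⟨a, ?_⟩, rfl⟩
      rw [h_smul_left, h_smul_right hF, hv, mul_one] at hw
      rw [norm_pow hF, hw]
  rw [Nat.card_congr (Equiv.sigmaFiberEquiv f).symm, Nat.card_sigma]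
  simp only [hfib, Finset.sum_const, Finset.card_univ, smul_eq_mul, Nat.card_eq_fintype_card]
  ring

theorem A1_two : HermCount.A1 F q 2 = q * (q ^ 2 - 1) := by
  rw [UnitaryOrder.A1_succ hF 1]; simp

theorem A1_three : HermCount.A1 F q 3 = q ^ 2 * (q ^ 3 + 1) := by
  rw [UnitaryOrder.A1_succ hF 2]; simp

theorem A0_two : HermCount.A0 F q 2 = 1 + (q + 1) * (q ^ 2 - 1) := by
  have h := HermCount.q_mul_A0 hF 2
  have hq : 0 < q := by rcases q with _ | q <;> simp at hF ⊢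
  zify [Nat.one_le_pow 2 q hq]
  refine mul_left_cancel₀ (show (q : ℤ) ≠ 0 by exact_mod_cast hq.ne') ?_
  linear_combination h

theorem card_inv (h2 : (2 : F) ≠ 0) :
    Nat.card {x : Cfsg.SU 3 F q // x ≠ 1 ∧ x * x = 1} = q ^ 2 * (q ^ 2 - q + 1) := by
  have h := card_units_vec hF h2 fun _ => True
  rw [Nat.card_congr (Equiv.subtypeUnivEquiv (p := fun _ : {w : Fin 3 → F // H w w = 1} => True) fun _ => trivial),
    show Nat.card {w : Fin 3 → F // H w w = 1} = HermCount.A1 F q 3 from rfl, A1_three hF] at h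
  simp only [and_true] at h
  refine Nat.eq_of_mul_eq_mul_left (show 0 < q + 1 by omega) (h.symm.trans ?_)
  have hqq : q ≤ q ^ 2 := Nat.le_self_pow two_ne_zero q
  zify [hqq]
  ring

theorem card_orth (h2 : (2 : F) ≠ 0) :
    Nat.card {x : Cfsg.SU 3 F q // x ≠ 1 ∧ x * x = 1 ∧ x ≠ E hF ∧ Commute (E hF) x} = q * (q - 1) := by
  have h := card_units_vec hF h2 fun x => x ≠ E hF ∧ Commute (E hF) x
  let e : {w : {w : Fin 3 → F // H w w = 1} // ρ hF w.1 w.2 ≠ E hF ∧ Commute (E hF) (ρ hF w.1 w.2)} ≃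
      {u : Fin 2 → F // H₂ u u = 1} :=
    { toFun := fun w => ⟨Fin.tail w.1.1, by
        obtain ⟨⟨w, hw⟩, h1, h3⟩ := w
        rw [commute_E_iff hF h2] at h3
        rw [Ne, eq_E_iff hF h2] at h1
        dsimp only at h1 h3 ⊢
        rw [tail_sq hF hw, h3.resolve_right h1, zero_mul, sub_zero]⟩
      invFun := fun u => ⟨⟨Fin.cons 0 u.1, by rw [cons_h hF, u.2]; simp⟩, by
        rw [Ne, eq_E_iff hF h2, commute_E_iff hF h2]
        refine ⟨fun h => ?_, Or.inl rfl⟩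
        rw [Fin.tail_cons] at h
        have := u.2
        rw [h] at this
        simp [Cfsg.hermForm] at this⟩
      left_inv := fun w => by
        obtain ⟨⟨w, hw⟩, h1, h3⟩ := w
        rw [commute_E_iff hF h2] at h3
        rw [Ne, eq_E_iff hF h2] at h1
        dsimp only at h1 h3
        refine Subtype.ext (Subtype.ext ?_)
        show Fin.cons 0 (Fin.tail w) = w
        rw [← h3.resolve_right h1, Fin.cons_self_tail]
      right_inv := fun u => Subtype.ext (by simp) }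
  rw [Nat.card_congr e, show Nat.card {u : Fin 2 → F // H₂ u u = 1} = HermCount.A1 F q 2 from rfl, A1_two hF] at h
  refine Nat.eq_of_mul_eq_mul_left (show 0 < q + 1 by omega) (h.symm.trans ?_)
  have hq : 0 < q := by rcases q with _ | q <;> simp at hF ⊢
  zify [Nat.one_le_pow 2 q hq, (show 1 ≤ q from hq)]
  ring

theorem card_far (h2 : (2 : F) ≠ 0) :
    Nat.card {x : Cfsg.SU 3 F q // x ≠ 1 ∧ x * x = 1 ∧ ¬ Commute (E hF) x ∧
      ∀ y : Cfsg.SU 3 F q, y ≠ 1 → y * y = 1 → ¬ (Commute (E hF) y ∧ Commute y x)} = (q + 1) * (q ^ 2 - 1) := by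
  classical
  have h := card_units_vec hF h2 fun x => ¬ Commute (E hF) x ∧
      ∀ y : Cfsg.SU 3 F q, y ≠ 1 → y * y = 1 → ¬ (Commute (E hF) y ∧ Commute y x)
  have hiff : ∀ (w : Fin 3 → F) (hw : H w w = 1), (¬ Commute (E hF) (ρ hF w hw) ∧
      ∀ y : Cfsg.SU 3 F q, y ≠ 1 → y * y = 1 → ¬ (Commute (E hF) y ∧ Commute y (ρ hF w hw))) ↔
      (w 0) ^ (q + 1) = 1 ∧ (H₂ (Fin.tail w) (Fin.tail w) = 0 ∧ Fin.tail w ≠ 0) := by
    intro w hw
    have hN : (w 0) ^ (q + 1) = 1 ↔ H₂ (Fin.tail w) (Fin.tail w) = 0 := by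
      rw [tail_sq hF hw, norm_pow hF, sub_eq_zero, eq_comm]
    constructor
    · rintro ⟨h1, h3⟩
      have h0 : H₂ (Fin.tail w) (Fin.tail w) = 0 := by
        by_contra hne
        obtain ⟨y, a, b, c, d⟩ := (common_iff hF h2 hw h1).mpr hne
        exact h3 y a b ⟨c, d⟩
      rw [commute_E_iff hF h2] at h1
      exact ⟨hN.mpr h0, h0, fun ht => h1 (Or.inr ht)⟩
    · rintro ⟨h1, h0, ht⟩
      have hnc : ¬ Commute (E hF) (ρ hF w hw) := by
        rw [commute_E_iff hF h2]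
        rintro (hw0 | hh)
        · rw [hw0, zero_pow (by omega)] at h1; exact zero_ne_one h1
        · exact ht hh
      exact ⟨hnc, fun y a b ⟨c, d⟩ => (common_iff hF h2 hw hnc).mp ⟨y, a, b, c, d⟩ h0⟩
  let e : {w : {w : Fin 3 → F // H w w = 1} // ¬ Commute (E hF) (ρ hF w.1 w.2) ∧
      ∀ y : Cfsg.SU 3 F q, y ≠ 1 → y * y = 1 → ¬ (Commute (E hF) y ∧ Commute y (ρ hF w.1 w.2))} ≃
      {a : F // a ^ (q + 1) = 1} × {u : Fin 2 → F // H₂ u u = 0 ∧ u ≠ 0} :=
    { toFun := fun w => (⟨w.1.1 0, ((hiff _ w.1.2).mp w.2).1⟩, ⟨Fin.tail w.1.1, ((hiff _ w.1.2).mp w.2).2⟩)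
      invFun := fun p => ⟨⟨Fin.cons p.1.1 p.2.1, by rw [cons_h hF, p.2.2.1, add_zero, ← norm_pow hF, p.1.2]⟩,
        (hiff _ _).mpr ⟨p.1.2, p.2.2⟩⟩
      left_inv := fun w => Subtype.ext (Subtype.ext (Fin.cons_self_tail _))
      right_inv := fun p => Prod.ext (Subtype.ext (by simp)) (Subtype.ext (by simp)) }
  rw [Nat.card_congr e, Nat.card_prod, HermCount.card_fibre hF one_ne_zero (one_pow q)] at h
  have h0 : Nat.card {u : Fin 2 → F // H₂ u u = 0 ∧ u ≠ 0} + 1 = HermCount.A0 F q 2 := by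
    have hz : H₂ (0 : Fin 2 → F) 0 = 0 := by simp [Cfsg.hermForm]
    rw [HermCount.A0, card_split (fun u : Fin 2 → F => H₂ u u = 0) (fun u => u ≠ 0)]
    congr 1
    symm
    rw [Nat.card_eq_one_iff_unique]
    exact ⟨⟨fun a b => Subtype.ext ((not_not.mp a.2.2).trans (not_not.mp b.2.2).symm)⟩,
      ⟨⟨0, hz, not_not.mpr rfl⟩⟩⟩
  rw [A0_two hF, add_comm] at h0
  rw [Nat.add_left_cancel h0] at h
  exact (Nat.eq_of_mul_eq_mul_left (show 0 < q + 1 by omega) h).symm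

theorem card_near (h2 : (2 : F) ≠ 0) :
    Nat.card {x : Cfsg.SU 3 F q // x ≠ 1 ∧ x * x = 1 ∧ ¬ Commute (E hF) x ∧
        ∃ y : Cfsg.SU 3 F q, y ≠ 1 ∧ y * y = 1 ∧ Commute (E hF) y ∧ Commute y x} = q * (q - 2) * (q ^ 2 - 1) := by
  have h1 := card_split (fun x : Cfsg.SU 3 F q => x ≠ 1 ∧ x * x = 1) (fun x => Commute (E hF) x)
  have h3 := card_split (fun x : Cfsg.SU 3 F q => (x ≠ 1 ∧ x * x = 1) ∧ ¬ Commute (E hF) x)
    (fun x => ∃ y : Cfsg.SU 3 F q, y ≠ 1 ∧ y * y = 1 ∧ Commute (E hF) y ∧ Commute y x)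
  have h4 := card_split (fun x : Cfsg.SU 3 F q => (x ≠ 1 ∧ x * x = 1) ∧ Commute (E hF) x) (fun x => x ≠ E hF)
  have he : Nat.card {x : Cfsg.SU 3 F q // ((x ≠ 1 ∧ x * x = 1) ∧ Commute (E hF) x) ∧ ¬ x ≠ E hF} = 1 := by
    rw [Nat.card_eq_one_iff_unique]
    exact ⟨⟨fun a b => Subtype.ext ((not_not.mp a.2.2).trans (not_not.mp b.2.2).symm)⟩,
      ⟨⟨E hF, ⟨⟨ρ_ne_one hF h2 _ _, ρ_mul_self hF _ _⟩, Commute.refl _⟩, not_not.mpr rfl⟩⟩⟩
  have eo : Nat.card {x : Cfsg.SU 3 F q // ((x ≠ 1 ∧ x * x = 1) ∧ Commute (E hF) x) ∧ x ≠ E hF} = q * (q - 1) :=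
    (Nat.card_congr (Equiv.subtypeEquivRight fun x => by tauto)).trans (card_orth hF h2)
  have ef : Nat.card {x : Cfsg.SU 3 F q // ((x ≠ 1 ∧ x * x = 1) ∧ ¬ Commute (E hF) x) ∧
      ¬ ∃ y : Cfsg.SU 3 F q, y ≠ 1 ∧ y * y = 1 ∧ Commute (E hF) y ∧ Commute y x} = (q + 1) * (q ^ 2 - 1) :=
    (Nat.card_congr (Equiv.subtypeEquivRight fun x =>
      ⟨fun ⟨⟨⟨a, b⟩, c⟩, d⟩ => ⟨a, b, c, fun y y1 y2 h => d ⟨y, y1, y2, h.1, h.2⟩⟩,
        fun ⟨a, b, c, d⟩ => ⟨⟨⟨a, b⟩, c⟩, fun ⟨y, y1, y2, y3, y4⟩ => d y y1 y2 ⟨y3, y4⟩⟩⟩)).trans (card_far hF h2)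
  rw [he, eo] at h4
  rw [ef] at h3
  rw [card_inv hF h2, h4, h3] at h1
  rw [show Nat.card {x : Cfsg.SU 3 F q // x ≠ 1 ∧ x * x = 1 ∧ ¬ Commute (E hF) x ∧
        ∃ y : Cfsg.SU 3 F q, y ≠ 1 ∧ y * y = 1 ∧ Commute (E hF) y ∧ Commute y x} = Nat.card {x : Cfsg.SU 3 F q // ((x ≠ 1 ∧ x * x = 1) ∧ ¬ Commute (E hF) x) ∧
        ∃ y : Cfsg.SU 3 F q, y ≠ 1 ∧ y * y = 1 ∧ Commute (E hF) y ∧ Commute y x} from
      Nat.card_congr (Equiv.subtypeEquivRight fun x =>
        ⟨fun ⟨a, b, c, d⟩ => ⟨⟨⟨a, b⟩, c⟩, d⟩, fun ⟨⟨⟨a, b⟩, c⟩, d⟩ => ⟨a, b, c, d⟩⟩)]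
  have hq : 2 ≤ q := (UnitaryBasic.frob_exists hF).1
  have hqq : q ≤ q ^ 2 := Nat.le_self_pow two_ne_zero q
  have hq1 : 1 ≤ q ^ 2 := Nat.one_le_pow 2 q (by omega)
  zify [hqq, hq1, hq, (show 1 ≤ q by omega)] at h1 ⊢
  linear_combination -h1

end counting

/-- `SU_3` is transitive on vectors of norm one. -/
theorem exists_move {v : Fin 3 → F} (hv : H v v = 1) : ∃ g : Cfsg.SU 3 F q, mat g *ᵥ e0 F = v := by
  classical
  obtain ⟨g, hg, hgv⟩ := UnitaryOrder.transitive hF (e0_unit hF) hv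
  set z : Fin 3 → F := g.1 *ᵥ Pi.single 1 1 with hz
  have hzz : H z z = 1 := by
    rw [hz, show H (g.1 *ᵥ _) (g.1 *ᵥ _) = _ from hg _ _, UnitaryOrder.herm_single_right hF]; simp
  have hvz : H v z = 0 := by
    rw [← hgv, hz, show H (g.1 *ᵥ _) (g.1 *ᵥ _) = _ from hg _ _, UnitaryOrder.herm_single_right hF]
    simp [e0]
  set d := g.1.det with hd
  have hdn : d * σ d = 1 := by
    have h := congrArg Units.val (UnitaryBasic.det_pow hF hg)
    rw [Units.val_pow_eq_pow_val, GeneralLinearGroup.val_det_apply, Units.val_one, norm_pow hF] at h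
    exact h
  have hd0 : d ≠ 0 := left_ne_zero_of_mul_eq_one hdn
  have hσd : σ d ≠ 0 := right_ne_zero_of_mul_eq_one hdn
  have hgood : Good hF z (d⁻¹ - 1) := by
    unfold Good
    rw [hzz, map_sub, map_inv₀, map_one]
    field_simp
    linear_combination -hdn
  set M := Cfsg.unitaryTransvection 3 q z (d⁻¹ - 1) * g.1 with hM
  refine ⟨mkSU M (fun a b => ?_) ?_, ?_⟩
  · rw [hM, ← mulVec_mulVec, ← mulVec_mulVec, tmat_isometry hF hgood]
    exact hg a b
  · rw [hM, det_mul, det_tmat, hzz, mul_one, ← hd]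
    field_simp
    ring
  · show M *ᵥ e0 F = v
    rw [hM, ← mulVec_mulVec, hgv, tmat_mulVec, hvz, mul_zero, zero_smul, add_zero]

theorem exists_conj_E (h2 : (2 : F) ≠ 0) (t : Cfsg.SU 3 F q) (ht : t ≠ 1) (ht2 : t * t = 1) :
    ∃ g : Cfsg.SU 3 F q, g * E hF * g⁻¹ = t := by
  obtain ⟨v, hv, rfl⟩ := exists_ρ hF h2 t ht ht2
  obtain ⟨g, rfl⟩ := exists_move hF hv
  exact ⟨g, conj_ρ hF g _ _⟩

theorem card_centralizer (h2 : (2 : F) ≠ 0) (t : Cfsg.SU 3 F q) (ht : t ≠ 1) (ht2 : t * t = 1) :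
    Nat.card ↥(Subgroup.centralizer ({t} : Set ↥(Cfsg.SU 3 F q))) = q * (q + 1) * (q ^ 2 - 1) := by
  classical
  have hsu := UnitaryOrder.card_GU_eq hF (n := 3) (by norm_num)
  rw [UnitaryOrder.card_GU hF 3, show Finset.range 3 = {0, 1, 2} by decide] at hsu
  simp [Finset.prod_insert, show ¬ Even 1 by decide, show Even 2 by decide] at hsu
  rw [← Nat.card_eq_fintype_card] at hsu
  have horb : Nat.card ↥(MulAction.orbit (ConjAct ↥(Cfsg.SU 3 F q)) t) =
      Nat.card {x : Cfsg.SU 3 F q // x ≠ 1 ∧ x * x = 1} := by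
    refine Nat.card_congr (Equiv.subtypeEquivRight fun x => ?_)
    rw [MulAction.mem_orbit_iff]
    constructor
    · rintro ⟨g, rfl⟩
      rw [ConjAct.smul_def]
      refine ⟨fun h => ht ?_, ?_⟩
      · exact conj_eq_one_iff.mp h
      · calc _ = ConjAct.ofConjAct g * (t * t) * (ConjAct.ofConjAct g)⁻¹ := by group
          _ = 1 := by rw [ht2]; group
    · rintro ⟨hx, hx2⟩
      obtain ⟨g, rfl⟩ := exists_conj_E hF h2 t ht ht2
      obtain ⟨k, rfl⟩ := exists_conj_E hF h2 x hx hx2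
      exact ⟨ConjAct.toConjAct (k * g⁻¹), by rw [ConjAct.smul_def, ConjAct.ofConjAct_toConjAct]; group⟩
  have hos := (MulAction.stabilizer (ConjAct ↥(Cfsg.SU 3 F q)) t).card_mul_index
  rw [MulAction.index_stabilizer, ConjAct.stabilizer_eq_centralizer] at hos
  change Nat.card ↥(Subgroup.centralizer ({t} : Set ↥(Cfsg.SU 3 F q))) * _ = _ at hos
  rw [← Nat.card_coe_set_eq, horb, card_inv hF h2,
    show Nat.card (ConjAct ↥(Cfsg.SU 3 F q)) = Nat.card ↥(Cfsg.SU 3 F q) from rfl] at hos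
  have hq : 2 ≤ q := (UnitaryBasic.frob_exists hF).1
  have hqq : q ≤ q ^ 2 := Nat.le_self_pow two_ne_zero q
  have hq1 : 1 ≤ q ^ 2 := Nat.one_le_pow 2 q (by omega)
  rw [← hos] at hsu
  refine Nat.eq_of_mul_eq_mul_left (show 0 < (q + 1) * (q ^ 2 * (q ^ 2 - q + 1)) by positivity) ?_
  zify [hqq, hq1] at hsu ⊢
  linear_combination -hsu

end CfsgLib.SU3Inv
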