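import Mathlib

/-!
An automorphism of odd order of a 2-transitive group that maps a point stabilizer to a subgroup with an
orbit of length coprime to the degree: the orbit has length `1` or `v - 1` (incidence matrices).
-/

set_option autoImplicit false

namespace CfsgLib.OddAutDesign

open Matrix

variable {Ω : Type*} [Fintype Ω]

/-- The arithmetic core. -/
theorem arith {v k : ℕ} {a b lam : ℤ} {m : ℕ} (hm : Odd m) (hk0 : 0 < k) (hkv : k < v) (hcop : k.Coprime v)
    (hlam : (k : ℤ) * ((k : ℤ) - 1) = lam * ((v : ℤ) - 1)) (hsq : a ^ 2 = ((k : ℤ) - lam) ^ m)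
    (hsum : a + b * v = (k : ℤ) ^ m) : k = 1 ∨ k + 1 = v := by
  set n : ℤ := (k : ℤ) - lam with hn
  have hn0 : n ≠ 0 := by
    intro h0
    have h1 : lam = k := by linarith
    rw [h1] at hlam
    have h2 : ((k : ℤ) - 1) = (v : ℤ) - 1 := mul_left_cancel₀ (by exact_mod_cast hk0.ne') hlam
    have : (k : ℤ) < v := by exact_mod_cast hkv
    linarith
  obtain ⟨h, rfl⟩ := hm
  have hdvd : n ^ h ∣ a := by
    refine (Int.pow_dvd_pow_iff two_ne_zero).mp ?_
    rw [hsq, ← pow_mul]
    exact pow_dvd_pow n (by omega)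
  obtain ⟨s, hs⟩ := hdvd
  have hs2 : s ^ 2 = n := by
    have h1 : (n ^ h) ^ 2 * s ^ 2 = (n ^ h) ^ 2 * n := by
      rw [← mul_pow, ← hs, hsq, ← pow_mul, ← pow_succ, mul_comm h 2]
    exact mul_left_cancel₀ (pow_ne_zero 2 (pow_ne_zero h hn0)) h1
  have hlam0 : (k : ℤ) ^ 2 - n = lam * v := by
    rw [hn]; linarith
  -- `k ≡ s` modulo `v`
  have hdv : (v : ℤ) ∣ (k : ℤ) - s := by
    have h2 : (v : ℤ) ∣ ((k : ℤ) ^ 2) ^ h - (s ^ 2) ^ h :=
      (Dvd.intro_left lam (by rw [hs2, hlam0])).trans (sub_dvd_pow_sub_pow _ _ h)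
    have h3 : (v : ℤ) ∣ (k : ℤ) ^ (2 * h + 1) - s ^ (2 * h + 1) := by
      refine Dvd.intro b ?_
      rw [← hsum, hs, show s ^ (2 * h + 1) = n ^ h * s by rw [pow_succ, pow_mul, hs2]]
      ring
    have h4 : (v : ℤ) ∣ (k : ℤ) ^ (2 * h) * ((k : ℤ) - s) := by
      have e : (k : ℤ) ^ (2 * h) * ((k : ℤ) - s) =
          ((k : ℤ) ^ (2 * h + 1) - s ^ (2 * h + 1)) - s * (((k : ℤ) ^ 2) ^ h - (s ^ 2) ^ h) := by
        rw [← pow_mul, ← pow_mul]; ring
      rw [e]
      exact dvd_sub h3 (h2.mul_left s)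
    refine IsCoprime.dvd_of_dvd_mul_left ?_ h4
    exact (Int.isCoprime_iff_nat_coprime.mpr (by simpa using hcop.symm)).pow_right
  have hk1 : (1 : ℤ) ≤ k := by exact_mod_cast hk0
  have hkv' : (k : ℤ) + 1 ≤ v := by exact_mod_cast hkv
  have hlamnn : 0 ≤ lam := by
    by_contra hneg
    push Not at hneg
    nlinarith
  have hnk : s ^ 2 ≤ (k : ℤ) := by rw [hs2, hn]; linarith
  obtain ⟨q, hq⟩ := hdv
  rcases le_or_gt 0 s with hs0 | hs0
  · left
    have hsk : s ≤ (k : ℤ) := by nlinarith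
    have hq0 : q = 0 := by nlinarith
    rw [hq0, mul_zero, sub_eq_zero] at hq
    rw [← hq] at hnk
    have : (k : ℤ) ≤ 1 := by nlinarith
    omega
  · right
    have hsk : -s ≤ (k : ℤ) := by nlinarith
    have hq1 : q = 1 := by nlinarith
    rw [hq1, mul_one] at hq
    have hl : lam = (k : ℤ) - s ^ 2 := by rw [hs2, hn]; ring
    have hv : (v : ℤ) = k - s := hq.symm
    rw [hl, hv] at hlam
    have h5 : s * (s + 1) * ((k : ℤ) - s) = 0 := by linarith
    have h6 : (k : ℤ) - s ≠ 0 := by linarith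
    rcases mul_eq_zero.mp h5 with h7 | h7
    · rcases mul_eq_zero.mp h7 with h8 | h8
      · linarith
      · omega
    · exact absurd h7 h6

/-- The orbit lengths `1` and `v - 1`. -/
theorem card_orbit (G : Subgroup (Equiv.Perm Ω)) (h2 : MulAction.IsMultiplyPretransitive G Ω 2) (o : Ω)
    (α : MulAut G) (hα : Odd (orderOf α)) (ω : Ω)
    (hk : (Nat.card (MulAction.orbit ((MulAction.stabilizer G o).map α.toMonoidHom) ω)).Coprime (Fintype.card Ω)) :
    Nat.card (MulAction.orbit ((MulAction.stabilizer G o).map α.toMonoidHom) ω) = 1 ∨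
      Nat.card (MulAction.orbit ((MulAction.stabilizer G o).map α.toMonoidHom) ω) + 1 = Fintype.card Ω := by
  classical
  haveI := h2
  haveI htr : MulAction.IsPretransitive G Ω := MulAction.isPretransitive_of_is_two_pretransitive
  have h2' : ∀ {a b c d : Ω}, a ≠ b → c ≠ d → ∃ g : G, g • a = c ∧ g • b = d := MulAction.is_two_pretransitive_iff.mp h2
  set K := (MulAction.stabilizer G o).map α.toMonoidHom
  set Δ := MulAction.orbit K ω with hΔ
  set k := Nat.card Δ with hkdef
  set v := Fintype.card Ω with hvdef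
  have hk0 : 0 < k := by
    haveI : Nonempty Δ := ⟨⟨ω, MulAction.mem_orbit_self ω⟩⟩
    exact Nat.card_pos
  have hkle : k ≤ v := by
    rw [hkdef, hvdef, ← Nat.card_eq_fintype_card]
    exact Nat.card_le_card_of_injective _ Subtype.val_injective
  rcases hkle.eq_or_lt with hkv | hkv
  · left
    rw [hkv] at hk ⊢
    exact (Nat.coprime_self v).mp hk
  obtain ⟨o', ho'⟩ : ∃ o', o' ≠ o := Fintype.exists_ne_of_one_lt_card (by rw [← hvdef]; omega) o
  let gg : Ω → G := fun y => Classical.choose (MulAction.exists_smul_eq G o y)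
  have hgg : ∀ y, gg y • o = y := fun y => Classical.choose_spec (MulAction.exists_smul_eq G o y)
  have hKinv : ∀ c ∈ K, ∀ z, z ∈ Δ → c • z ∈ Δ := by
    rintro c hc z ⟨d, rfl⟩
    refine ⟨⟨c, hc⟩ * d, ?_⟩
    show ((⟨c, hc⟩ : K) * d) • ω = c • (d • ω)
    rw [mul_smul]; rfl
  let M : Matrix Ω Ω ℤ := Matrix.of fun x y => if (α (gg y))⁻¹ • x ∈ Δ then 1 else 0
  have hMeq : ∀ x y, ∀ g : G, g • o = y → (M x y = if (α g)⁻¹ • x ∈ Δ then 1 else 0) := by
    intro x y g hg
    have hst : (gg y)⁻¹ * g ∈ MulAction.stabilizer G o := by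
      rw [MulAction.mem_stabilizer_iff, mul_smul, hg, inv_smul_eq_iff, hgg]
    have hc : α ((gg y)⁻¹ * g) ∈ K := ⟨_, hst, rfl⟩
    have e : (α g)⁻¹ • x = (α ((gg y)⁻¹ * g))⁻¹ • ((α (gg y))⁻¹ • x) := by
      rw [← mul_smul]; congr 1; rw [map_mul, map_inv]; group
    show (if (α (gg y))⁻¹ • x ∈ Δ then (1 : ℤ) else 0) = _
    refine if_congr ⟨fun h => e ▸ hKinv _ (inv_mem hc) _ h, fun h => ?_⟩ rfl rfl
    have := hKinv _ hc _ h
    rwa [e, smul_inv_smul] at this
  have hMinv : ∀ (g : G) x y, M (α g • x) (g • y) = M x y := by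
    intro g x y
    rw [hMeq (α g • x) (g • y) (g * gg y) (by rw [mul_smul, hgg]), hMeq x y (gg y) (hgg y)]
    rw [map_mul, _root_.mul_inv_rev, mul_smul, inv_smul_smul]
  have hsurj : ∀ c : G, ∃ g, α g = c := α.surjective
  -- column and row sums
  have hcol : ∀ y, ∑ x, M x y = k := by
    intro y
    have e : ∀ x, M x y = (fun z => if z ∈ Δ then (1 : ℤ) else 0) (MulAction.toPerm (α (gg y))⁻¹ x) := fun x => rfl
    rw [Finset.sum_congr rfl fun x _ => e x, Equiv.sum_comp (MulAction.toPerm (α (gg y))⁻¹)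
      (fun z => if z ∈ Δ then (1 : ℤ) else 0), Finset.sum_boole, hkdef, Nat.card_eq_fintype_card,
      Fintype.card_subtype]
  have hrow : ∀ x, ∑ y, M x y = k := by
    have hconst : ∀ x x', ∑ y, M x y = ∑ y, M x' y := by
      intro x x'
      obtain ⟨c, hc⟩ := MulAction.exists_smul_eq G x x'
      obtain ⟨g, rfl⟩ := hsurj c
      refine Fintype.sum_equiv (MulAction.toPerm g) _ _ fun y => ?_
      rw [← hc]; exact (hMinv g x y).symm
    intro x
    have h1 : ∑ x', ∑ y, M x' y = ∑ y, ∑ x', M x' y := Finset.sum_comm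
    rw [Finset.sum_congr rfl fun x' _ => hconst x' x, Finset.sum_congr rfl fun y _ => hcol y,
      Finset.sum_const, Finset.sum_const, Finset.card_univ, nsmul_eq_mul, nsmul_eq_mul] at h1
    exact mul_left_cancel₀ (by rw [← hvdef]; exact_mod_cast (by omega : v ≠ 0)) h1
  -- `M Mᵀ`
  let F : Matrix Ω Ω ℤ := M * Mᵀ
  have hFinv : ∀ (c : G) x x', F (c • x) (c • x') = F x x' := by
    intro c x x'
    obtain ⟨g, rfl⟩ := hsurj c
    show ∑ y, M (α g • x) y * M (α g • x') y = ∑ y, M x y * M x' y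
    refine (Fintype.sum_equiv (MulAction.toPerm g) _ _ fun y => ?_).symm
    rw [← hMinv g x y, ← hMinv g x' y]; rfl
  have hFdiag : ∀ x, F x x = k := by
    intro x
    rw [← hrow x]
    show ∑ y, M x y * M x y = _
    refine Finset.sum_congr rfl fun y _ => ?_
    show (if (α (gg y))⁻¹ • x ∈ Δ then (1 : ℤ) else 0) * (if (α (gg y))⁻¹ • x ∈ Δ then (1 : ℤ) else 0) =
      if (α (gg y))⁻¹ • x ∈ Δ then (1 : ℤ) else 0
    split_ifs <;> simp
  have hinv2 : ∀ (A : Matrix Ω Ω ℤ), (∀ (c : G) x x', A (c • x) (c • x') = A x x') →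
      A = (A o o - A o o') • (1 : Matrix Ω Ω ℤ) + A o o' • Matrix.of (fun _ _ => (1 : ℤ)) := by
    intro A hA
    ext x x'
    simp only [Matrix.add_apply, Matrix.smul_apply, Matrix.of_apply, smul_eq_mul, mul_one]
    by_cases hxx : x = x'
    · subst hxx
      obtain ⟨c, hc⟩ := MulAction.exists_smul_eq G o x
      rw [Matrix.one_apply_eq, mul_one, sub_add_cancel, ← hc, hA]
    · obtain ⟨c, hc1, hc2⟩ := h2' ho'.symm hxx
      rw [Matrix.one_apply_ne hxx, mul_zero, zero_add, ← hc1, ← hc2, hA]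
  set lam := F o o'
  set J : Matrix Ω Ω ℤ := Matrix.of (fun _ _ => (1 : ℤ)) with hJ
  have hF : F = ((k : ℤ) - lam) • (1 : Matrix Ω Ω ℤ) + lam • J := by
    have := hinv2 F hFinv; rwa [hFdiag] at this
  have hMJ : M * J = (k : ℤ) • J := by
    ext x x'
    simp only [Matrix.mul_apply, hJ, Matrix.of_apply, mul_one, Matrix.smul_apply, smul_eq_mul]
    exact hrow x
  have hJM : J * Mᵀ = (k : ℤ) • J := by
    ext x x'
    simp only [Matrix.mul_apply, hJ, Matrix.of_apply, one_mul, Matrix.smul_apply, Matrix.transpose_apply,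
      smul_eq_mul, mul_one]
    exact hrow x'
  have hJJ : J * J = (v : ℤ) • J := by
    ext x x'
    simp [Matrix.mul_apply, hJ, hvdef]
  have hlam : (k : ℤ) * ((k : ℤ) - 1) = lam * ((v : ℤ) - 1) := by
    have h1 : F * J = ((k : ℤ) * k) • J := by
      have hTJ : Mᵀ * J = (k : ℤ) • J := by
        ext x x'
        simp only [Matrix.mul_apply, hJ, Matrix.of_apply, mul_one, Matrix.smul_apply, Matrix.transpose_apply,
          smul_eq_mul]
        exact hcol x
      show M * Mᵀ * J = _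
      rw [Matrix.mul_assoc, hTJ, Matrix.mul_smul, hMJ, smul_smul]
    rw [hF, Matrix.add_mul, Matrix.smul_mul, Matrix.one_mul, Matrix.smul_mul, hJJ, smul_smul, ← add_smul] at h1
    have h3 := congrFun (congrFun h1 o) o
    simp only [Matrix.smul_apply, hJ, Matrix.of_apply, smul_eq_mul, mul_one] at h3
    linarith
  -- powers of `M`
  have hpow : ∀ j : ℕ, ∃ c : ℤ, M ^ j * (M ^ j)ᵀ = (((k : ℤ) - lam) ^ j) • (1 : Matrix Ω Ω ℤ) + c • J := by
    intro j
    induction j with
    | zero => exact ⟨0, by simp⟩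
    | succ j ih =>
      obtain ⟨c, hc⟩ := ih
      refine ⟨((k : ℤ) - lam) ^ j * lam + c * ((k : ℤ) * k), ?_⟩
      rw [pow_succ' M, Matrix.transpose_mul,
        show M * M ^ j * ((M ^ j)ᵀ * Mᵀ) = M * (M ^ j * (M ^ j)ᵀ) * Mᵀ by simp only [Matrix.mul_assoc],
        hc, Matrix.mul_add, Matrix.add_mul, Matrix.mul_smul, Matrix.mul_one, Matrix.smul_mul,
        show M * Mᵀ = F from rfl, hF, Matrix.mul_smul, hMJ, Matrix.smul_mul, Matrix.smul_mul, hJM,
        smul_add, smul_smul, smul_smul, smul_smul, smul_smul, pow_succ]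
      rw [add_assoc, ← add_smul]
      congr 2
      ring
  have hpowJ : ∀ j : ℕ, M ^ j * J = ((k : ℤ) ^ j) • J := by
    intro j
    induction j with
    | zero => simp
    | succ j ih =>
      rw [pow_succ' M, Matrix.mul_assoc, ih, Matrix.mul_smul, hMJ, smul_smul, pow_succ]
  have hpowinv : ∀ (j : ℕ) (g : G) x y, (M ^ j) ((α ^ j) g • x) (g • y) = (M ^ j) x y := by
    intro j
    induction j with
    | zero =>
      intro g x y
      simp only [pow_zero, MulAut.one_apply, Matrix.one_apply, smul_left_cancel_iff]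
    | succ j ih =>
      intro g x y
      rw [pow_succ M, Matrix.mul_apply, Matrix.mul_apply]
      refine (Fintype.sum_equiv (MulAction.toPerm (α g)) _ _ fun w => ?_).symm
      show _ = (M ^ j) ((α ^ (j + 1)) g • x) (α g • w) * M (α g • w) (g • y)
      rw [hMinv, show (α ^ (j + 1)) g = (α ^ j) (α g) by rw [pow_succ]; rfl, ih]
  set m := orderOf α with hmdef
  have hA := hinv2 (M ^ m) fun c x x' => by
    have := hpowinv m c x x'
    rwa [hmdef, pow_orderOf_eq_one, MulAut.one_apply] at this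
  set a := (M ^ m) o o - (M ^ m) o o'
  set b := (M ^ m) o o'
  have hsum : a + b * v = (k : ℤ) ^ m := by
    have h1 := hpowJ m
    rw [hA, Matrix.add_mul, Matrix.smul_mul, Matrix.one_mul, Matrix.smul_mul, hJJ, smul_smul, ← add_smul] at h1
    have h3 := congrFun (congrFun h1 o) o
    simpa [hJ] using h3
  obtain ⟨c, hc⟩ := hpow m
  have hJT : Jᵀ = J := by ext; simp [hJ]
  rw [hA, Matrix.transpose_add, Matrix.transpose_smul, Matrix.transpose_smul, Matrix.transpose_one, hJT,
    Matrix.add_mul, Matrix.mul_add, Matrix.mul_add, Matrix.smul_mul, Matrix.one_mul, Matrix.smul_mul,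
    Matrix.one_mul, Matrix.smul_mul, Matrix.mul_smul, Matrix.mul_one, Matrix.smul_mul, Matrix.mul_smul, hJJ] at hc
  have hd := congrFun (congrFun hc o) o
  have he := congrFun (congrFun hc o) o'
  simp only [Matrix.add_apply, Matrix.smul_apply, hJ, Matrix.of_apply, Matrix.one_apply_eq,
    Matrix.one_apply_ne ho'.symm, smul_eq_mul] at hd he
  exact arith hα hk0 hkv hk hlam (by linarith) hsum

end CfsgLib.OddAutDesign
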