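import Cfsg.Agent.Lib.Blocks.PPrimeKernel
import Cfsg.Agent.Lib.RealOdd.Basic
import Cfsg.Agent.Lib.CharTheory.Degree
import Cfsg.Agent.Lib.Tate

/-!
# The sum of the squares of the odd character degrees

It is at least `[N : P']` for the normalizer `N` of a Sylow `2`-subgroup `P`, and equality forces
the characters of `N / P'` to extend, whence a normal complement by transfer and Tate's theorem.
-/

namespace CfsgLib.OddSum

open Cfsg CfsgLib CfsgLib.CharTheory CfsgLib.Blocks
open scoped ComplexConjugate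

set_option linter.unusedVariables false
set_option linter.unusedSectionVars false
set_option linter.style.haveILetI false

universe u

variable {G : Type u} [Group G] [Finite G] (P : Sylow 2 G)

/-- The normalizer. -/
abbrev nrm : Subgroup G := Subgroup.normalizer ((P : Subgroup G) : Set G)

/-- The Sylow subgroup inside its normalizer. -/
noncomputable abbrev pn : Sylow 2 (nrm P) := P.subtype Subgroup.le_normalizer

theorem pn_normal : ((pn P : Subgroup (nrm P))).Normal := by
  rw [Sylow.coe_subtype]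
  exact Subgroup.normal_in_normalizer

/-- The derived subgroup of the Sylow subgroup inside the normalizer. -/
noncomputable abbrev dn : Subgroup (nrm P) := ⁅(pn P : Subgroup (nrm P)), (pn P : Subgroup (nrm P))⁆

theorem dn_normal : (dn P).Normal := by
  haveI := pn_normal P
  exact inferInstance

theorem dn_map : (dn P).map (nrm P).subtype = ⁅(P : Subgroup G), (P : Subgroup G)⁆ := by
  rw [Subgroup.map_commutator, Sylow.coe_subtype, Subgroup.map_subgroupOf_eq_of_le
    Subgroup.le_normalizer]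

theorem card_dn : Nat.card (dn P) = Nat.card (commutator ↥P) := by
  rw [← Subgroup.card_map_of_injective (K := dn P) (nrm P).subtype_injective, dn_map,
    ← Subgroup.map_subtype_commutator,
    Subgroup.card_map_of_injective (P : Subgroup G).subtype_injective]
  rfl

theorem oddChar_iff (ψ : IrrCharacter (nrm P)) :
    ¬ 2 ∣ charDegree (ψ : nrm P → ℂ) ↔ ∀ d ∈ dn P, (ψ : nrm P → ℂ) d = (ψ : nrm P → ℂ) 1 := by
  haveI := dn_normal P
  haveI := Fintype.ofFinite (nrm P)
  constructor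
  · intro h d hd
    refine normalCore_le_kernel (pn P) (⊥ : Subgroup (nrm P)) (by simp) ψ h d ?_
    rw [bot_sup_eq, Subgroup.normalCore_eq_self]
    exact hd
  · intro hk h2
    obtain ⟨χ, hχ, e⟩ := exists_quotient_irr (dn P) ψ.2 hk
    obtain ⟨n, ρ, hρ, hρc⟩ := hχ
    haveI := hρ
    haveI := pn_normal P
    set A := (pn P : Subgroup (nrm P)).map (QuotientGroup.mk' (dn P)) with hA
    haveI : A.Normal := Subgroup.Normal.map inferInstance _ (QuotientGroup.mk'_surjective _)
    have hab : ∀ a ∈ A, ∀ b ∈ A, a * b = b * a := by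
      rintro _ ⟨a, ha, rfl⟩ _ ⟨b, hb, rfl⟩
      rw [← map_mul, ← map_mul]
      refine (QuotientGroup.eq (a := a * b) (b := b * a)).2 ?_
      have h1 := Subgroup.commutator_mem_commutator (inv_mem hb) (inv_mem ha)
      rw [commutatorElement_def] at h1
      show (a * b)⁻¹ * (b * a) ∈ dn P
      simp only [mul_assoc, mul_inv_rev, inv_inv] at h1 ⊢
      exact h1
    have hdvd := degree_dvd_index_of_abelian_normal ρ A hab
    have hdeg : charDegree (ψ : nrm P → ℂ) = Module.finrank ℂ (Fin n → ℂ) := by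
      refine Nat.cast_injective (R := ℂ) ?_
      rw [irr_charDegree_cast, ← ρ.char_one, hρc, e]
      rfl
    rw [← hdeg] at hdvd
    have h3 : A.index ∣ (pn P : Subgroup (nrm P)).index :=
      Subgroup.index_map_dvd _ (QuotientGroup.mk'_surjective _)
    exact (pn P).not_dvd_index ((h2.trans hdvd).trans h3)

theorem sum_odd_nrm [Fintype (IrrCharacter (nrm P))]
    [DecidablePred fun ψ : IrrCharacter (nrm P) => ¬ 2 ∣ charDegree (ψ : nrm P → ℂ)] :
    ∑ ψ ∈ Finset.univ.filter (fun ψ : IrrCharacter (nrm P) => ¬ 2 ∣ charDegree (ψ : nrm P → ℂ)),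
      charDegree (ψ : nrm P → ℂ) ^ 2 = (dn P).index := by
  classical
  haveI := dn_normal P
  haveI := Fintype.ofFinite (nrm P)
  haveI := Fintype.ofFinite (nrm P ⧸ dn P)
  have h := sum_irr_degree_sq (G := nrm P ⧸ dn P)
  rw [← Subgroup.index_eq_card] at h
  refine Nat.cast_injective (R := ℂ) ?_
  rw [← h, Nat.cast_sum, Finset.sum_subtype _
    (p := fun ψ : IrrCharacter (nrm P) =>
      ∀ d ∈ dn P, (ψ : nrm P → ℂ) d = (ψ : nrm P → ℂ) 1) (fun ψ =>
      Finset.mem_filter.trans ((and_iff_right (Finset.mem_univ _)).trans (oddChar_iff P ψ)))]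
  refine (Fintype.sum_equiv (quotientIrrEquiv (dn P)) _ _ fun χ => ?_).symm
  rw [Nat.cast_pow, irr_charDegree_cast]
  rfl

/-- An element fixing all these characters lies in the derived subgroup. -/
theorem mem_dn_of_fixed {x : nrm P}
    (h : ∀ ψ : IrrCharacter (nrm P), ¬ 2 ∣ charDegree (ψ : nrm P → ℂ) →
      (ψ : nrm P → ℂ) x = (ψ : nrm P → ℂ) 1) : x ∈ dn P := by
  classical
  haveI := dn_normal P
  haveI := Fintype.ofFinite (nrm P ⧸ dn P)
  rw [← QuotientGroup.eq_one_iff]
  refine isConj_one_right.1 (isConj_of_forall_irr fun χ => ?_).symm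
  exact h (quotientIrrEquiv (dn P) χ).1
    ((oddChar_iff P _).2 (quotientIrrEquiv (dn P) χ).2)

/-- An element fixing the characters of the normalizer modulo the Sylow subgroup lies in it. -/
theorem mem_pn_of_fixed {x : nrm P}
    (h : ∀ ψ : IrrCharacter (nrm P), (∀ q ∈ (pn P : Subgroup (nrm P)),
      (ψ : nrm P → ℂ) q = (ψ : nrm P → ℂ) 1) → (ψ : nrm P → ℂ) x = (ψ : nrm P → ℂ) 1) :
    x ∈ (pn P : Subgroup (nrm P)) := by
  classical
  haveI := pn_normal P
  haveI := Fintype.ofFinite (nrm P ⧸ (pn P : Subgroup (nrm P)))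
  rw [← QuotientGroup.eq_one_iff]
  refine isConj_one_right.1 (isConj_of_forall_irr fun χ => ?_).symm
  exact h (quotientIrrEquiv _ χ).1 (quotientIrrEquiv _ χ).2

/-- The inequality, and the extensions forced by equality. -/
theorem bound [Fintype (IrrCharacter G)]
    [DecidablePred fun χ : IrrCharacter G => ¬ 2 ∣ charDegree (χ : G → ℂ)] :
    (dn P).index ≤ ∑ χ ∈ Finset.univ.filter (fun χ : IrrCharacter G =>
        ¬ 2 ∣ charDegree (χ : G → ℂ)), charDegree (χ : G → ℂ) ^ 2 ∧
    (∑ χ ∈ Finset.univ.filter (fun χ : IrrCharacter G =>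
        ¬ 2 ∣ charDegree (χ : G → ℂ)), charDegree (χ : G → ℂ) ^ 2 = (dn P).index →
      (∀ χ : IrrCharacter G, ¬ 2 ∣ charDegree (χ : G → ℂ) →
        ∀ d ∈ dn P, (χ : G → ℂ) (d : G) = (χ : G → ℂ) 1) ∧
      ∀ ψ : IrrCharacter (nrm P), ¬ 2 ∣ charDegree (ψ : nrm P → ℂ) →
        ∃ χ : IrrCharacter G, ¬ 2 ∣ charDegree (χ : G → ℂ) ∧
          ∀ x : nrm P, (χ : G → ℂ) x = (ψ : nrm P → ℂ) x) := by
  classical
  haveI := Fintype.ofFinite G
  haveI := Fintype.ofFinite (nrm P)
  set SG := Finset.univ.filter (fun χ : IrrCharacter G => ¬ 2 ∣ charDegree (χ : G → ℂ)) with hSG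
  set SN := Finset.univ.filter (fun ψ : IrrCharacter (nrm P) =>
    ¬ 2 ∣ charDegree (ψ : nrm P → ℂ)) with hSN
  choose m hm using fun (χ : IrrCharacter G) (ψ : IrrCharacter (nrm P)) =>
    classInner_char_nat (isCharacter_restrict (isCharacter_of_irr χ.2) (nrm P))
      (isCharacter_of_irr ψ.2)
  have hdeg : ∀ χ : IrrCharacter G, charDegree (χ : G → ℂ) =
      ∑ ψ : IrrCharacter (nrm P), m χ ψ * charDegree (ψ : nrm P → ℂ) := by
    intro χ
    have h := congrFun (eq_sum_irr (isClassFunction_char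
      (isCharacter_restrict (isCharacter_of_irr χ.2) (nrm P)))) 1
    simp only [Finset.sum_apply, Pi.smul_apply, smul_eq_mul, hm, OneMemClass.coe_one,
      ← irr_charDegree_cast] at h
    exact_mod_cast h
  have hNodd : ¬ 2 ∣ (nrm P).index := fun h =>
    P.not_dvd_index (h.trans (Subgroup.index_dvd_of_le Subgroup.le_normalizer))
  have hex : ∀ ψ ∈ SN, 1 ≤ ∑ χ ∈ SG, m χ ψ ^ 2 := by
    intro ψ hψ
    have hψ2 := (Finset.mem_filter.1 hψ).2
    obtain ⟨χ, hχ, hne⟩ := RealOdd.exists_odd_constituent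
      (isCharacter_indFun (nrm P) (isCharacter_of_irr ψ.2))
      ⟨(nrm P).index * charDegree (ψ : nrm P → ℂ), by
        rw [Nat.odd_mul]
        exact ⟨Nat.not_even_iff_odd.1 fun h => hNodd h.two_dvd,
          Nat.not_even_iff_odd.1 fun h => hψ2 h.two_dvd⟩, by
        rw [indFun_apply_one, Nat.cast_mul, irr_charDegree_cast]⟩
    have hmem : χ ∈ SG := Finset.mem_filter.2 ⟨Finset.mem_univ _, fun h =>
      Nat.not_even_iff_odd.2 ((RealOdd.oddDeg_iff χ).2 hχ) (even_iff_two_dvd.2 h)⟩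
    have hm0 : m χ ψ ≠ 0 := fun h => hne (by
      rw [frobenius_reciprocity (nrm P) _ (isClassFunction_irr χ.2), ← classInner_comm, hm, h]
      simp)
    exact le_trans (Nat.one_le_iff_ne_zero.2 (pow_ne_zero 2 hm0))
      (Finset.single_le_sum (f := fun χ => m χ ψ ^ 2) (fun _ _ => Nat.zero_le _) hmem)
  have h1 : ∀ χ ∈ SG, ∑ ψ ∈ SN, (m χ ψ * charDegree (ψ : nrm P → ℂ)) ^ 2 ≤
      charDegree (χ : G → ℂ) ^ 2 := fun χ _ => by
    refine (Finset.sum_sq_le_sq_sum_of_nonneg fun _ _ => Nat.zero_le _).trans ?_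
    refine Nat.pow_le_pow_left ?_ 2
    rw [hdeg χ]
    exact Finset.sum_le_sum_of_subset (Finset.subset_univ _)
  have h2 : ∀ ψ ∈ SN, charDegree (ψ : nrm P → ℂ) ^ 2 ≤
      ∑ χ ∈ SG, (m χ ψ * charDegree (ψ : nrm P → ℂ)) ^ 2 := fun ψ hψ => by
    simp only [mul_pow, ← Finset.sum_mul]
    exact Nat.le_mul_of_pos_left _ (hex ψ hψ)
  have hle : (dn P).index ≤ ∑ χ ∈ SG, ∑ ψ ∈ SN, (m χ ψ * charDegree (ψ : nrm P → ℂ)) ^ 2 := by
    rw [Finset.sum_comm, ← sum_odd_nrm P]
    exact Finset.sum_le_sum h2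
  refine ⟨hle.trans (Finset.sum_le_sum h1), fun heq => ⟨fun χ hχ d hd => ?_, fun ψ hψ => ?_⟩⟩
  · have hχS : χ ∈ SG := Finset.mem_filter.2 ⟨Finset.mem_univ _, hχ⟩
    have e1 := (Finset.sum_eq_sum_iff_of_le h1).1
      (le_antisymm (Finset.sum_le_sum h1) (heq ▸ hle)) χ hχS
    have hzero : ∀ η ∉ SN, m χ η = 0 := by
      intro η hη
      by_contra h0
      have hlt : ∑ ψ ∈ SN, m χ ψ * charDegree (ψ : nrm P → ℂ) < charDegree (χ : G → ℂ) := by
        rw [hdeg χ]
        exact Finset.sum_lt_sum_of_subset (Finset.subset_univ _) (Finset.mem_univ η) hη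
          (Nat.mul_pos (Nat.pos_of_ne_zero h0) (irr_charDegree_pos η)) fun _ _ _ => Nat.zero_le _
      have h9 := (Finset.sum_sq_le_sq_sum_of_nonneg fun _ _ => Nat.zero_le _).trans_lt
        (Nat.pow_lt_pow_left hlt two_ne_zero)
      exact h9.ne e1
    have h := eq_sum_irr (isClassFunction_char
      (isCharacter_restrict (isCharacter_of_irr χ.2) (nrm P)))
    have hd1 := congrFun h d
    have hd2 := congrFun h 1
    simp only [Finset.sum_apply, Pi.smul_apply, smul_eq_mul, hm] at hd1 hd2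
    rw [hd1, show (χ : G → ℂ) 1 = (χ : G → ℂ) ((1 : nrm P) : G) from rfl, hd2]
    refine Finset.sum_congr rfl fun η _ => ?_
    by_cases hη : η ∈ SN
    · rw [(oddChar_iff P η).1 (Finset.mem_filter.1 hη).2 d hd]
    · rw [hzero η hη]; simp
  have hψS : ψ ∈ SN := Finset.mem_filter.2 ⟨Finset.mem_univ _, hψ⟩
  have hle2 := Finset.sum_le_sum h1
  have e1 := (Finset.sum_eq_sum_iff_of_le h1).1 (le_antisymm hle2 (heq ▸ hle))
  have e2 := (Finset.sum_eq_sum_iff_of_le h2).1 (le_antisymm (Finset.sum_le_sum h2) (by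
    rw [Finset.sum_comm, hSN, sum_odd_nrm P]
    exact hle2.trans heq.le)) ψ hψS
  have hd : 0 < charDegree (ψ : nrm P → ℂ) := irr_charDegree_pos ψ
  simp only [mul_pow, ← Finset.sum_mul] at e2
  have e3 : ∑ χ ∈ SG, m χ ψ ^ 2 = 1 := by
    refine Nat.eq_of_mul_eq_mul_right (pow_pos hd 2) ?_
    rw [one_mul]; exact e2.symm
  obtain ⟨χ, hχ, hχ0⟩ := Finset.exists_ne_zero_of_sum_ne_zero (e3.trans_ne one_ne_zero)
  refine ⟨χ, (Finset.mem_filter.1 hχ).2, ?_⟩
  have hm1 : m χ ψ = 1 := by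
    have : m χ ψ ^ 2 ≤ 1 := e3 ▸ Finset.single_le_sum (f := fun χ => m χ ψ ^ 2)
      (fun _ _ => Nat.zero_le _) hχ
    nlinarith [Nat.pos_of_ne_zero hχ0]
  have e4 := e1 χ hχ
  have hsq : ∑ η ∈ SN, m χ η * charDegree (η : nrm P → ℂ) ≤ m χ ψ * charDegree (ψ : nrm P → ℂ) := by
    rw [← Finset.add_sum_erase _ _ hψS] at e4 ⊢
    rw [add_le_iff_nonpos_right, nonpos_iff_eq_zero]
    set b := ∑ η ∈ SN.erase ψ, m χ η * charDegree (η : nrm P → ℂ) with hb
    set a := m χ ψ * charDegree (ψ : nrm P → ℂ) with ha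
    have ha0 : 0 < a := by rw [ha, hm1, one_mul]; exact hd
    have hb2 : ∑ η ∈ SN.erase ψ, (m χ η * charDegree (η : nrm P → ℂ)) ^ 2 ≤ b ^ 2 :=
      Finset.sum_sq_le_sq_sum_of_nonneg fun _ _ => Nat.zero_le _
    have hab : a + b ≤ charDegree (χ : G → ℂ) := by
      rw [ha, hb, hdeg χ, Finset.add_sum_erase SN
        (fun η => m χ η * charDegree (η : nrm P → ℂ)) hψS]
      exact Finset.sum_le_sum_of_subset (Finset.subset_univ _)
    have h5 := Nat.pow_le_pow_left hab 2
    nlinarith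
  have hdψ : charDegree (χ : G → ℂ) = charDegree (ψ : nrm P → ℂ) := by
    refine le_antisymm ?_ ?_
    · have h6 : charDegree (χ : G → ℂ) ^ 2 ≤ (charDegree (ψ : nrm P → ℂ)) ^ 2 := by
        rw [← e4]
        refine (Finset.sum_sq_le_sq_sum_of_nonneg fun _ _ => Nat.zero_le _).trans ?_
        refine Nat.pow_le_pow_left (hsq.trans ?_) 2
        rw [hm1, one_mul]
      exact (Nat.pow_le_pow_iff_left two_ne_zero).1 h6
    · rw [hdeg χ]
      refine le_trans ?_ (Finset.single_le_sum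
        (f := fun η => m χ η * charDegree (η : nrm P → ℂ)) (fun _ _ => Nat.zero_le _)
        (Finset.mem_univ ψ))
      rw [hm1, one_mul]
  have hres := isCharacter_restrict (isCharacter_of_irr χ.2) (nrm P)
  have hz := eq_zero_of_degree_zero (isCharacter_sub_irr hres ψ.2 (by rw [hm, hm1]; simp)) (by
    rw [Pi.sub_apply, OneMemClass.coe_one, ← irr_charDegree_cast, ← irr_charDegree_cast, hdψ,
      sub_self])
  intro x
  exact congrFun (sub_eq_zero.1 hz) x

/-- Extensions of all these characters give a normal complement. -/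
theorem exists_complement
    (hker : ∀ χ : IrrCharacter G, ¬ 2 ∣ charDegree (χ : G → ℂ) →
      ∀ d ∈ dn P, (χ : G → ℂ) (d : G) = (χ : G → ℂ) 1)
    (hext : ∀ ψ : IrrCharacter (nrm P), ¬ 2 ∣ charDegree (ψ : nrm P → ℂ) →
      ∃ χ : IrrCharacter G, ¬ 2 ∣ charDegree (χ : G → ℂ) ∧
        ∀ x : nrm P, (χ : G → ℂ) x = (ψ : nrm P → ℂ) x) :
    ∃ M : Subgroup G, M.Normal ∧ M ⊓ nrm P = ⊥ ∧ M ⊔ nrm P = ⊤ := by
  classical
  haveI := Fact.mk Nat.prime_two
  set PG : Subgroup G := (P : Subgroup G) with hPG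
  -- the common kernel
  set K0 : Subgroup G := ⨅ χ : {χ : IrrCharacter G // ¬ 2 ∣ charDegree (χ : G → ℂ)},
    charKernel (χ.1 : G → ℂ) (isCharacter_of_irr χ.1.2) with hK0
  haveI : K0.Normal := Subgroup.normal_iInf_normal fun χ => inferInstance
  have hK0D : ∀ x ∈ K0, x ∈ nrm P → x ∈ ⁅PG, PG⁆ := fun x hx hxN => by
    rw [hPG, ← dn_map P]
    refine ⟨⟨x, hxN⟩, mem_dn_of_fixed P fun ψ hψ => ?_, rfl⟩
    obtain ⟨χ, hχ, hres⟩ := hext ψ hψ
    rw [← hres, ← hres]
    exact (mem_charKernel _ _).1 (Subgroup.mem_iInf.1 hx ⟨χ, hχ⟩)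
  -- the normal closure of the Sylow subgroup
  set R : Subgroup G := Subgroup.normalClosure (PG : Set G) with hR
  have hPR : PG ≤ R := Subgroup.subset_normalClosure
  set H : Subgroup G := R ⊔ K0 with hH
  have hHN : ∀ x ∈ H, x ∈ nrm P → x ∈ PG := fun x hx hxN => by
    have key : (⟨x, hxN⟩ : nrm P) ∈ (pn P : Subgroup (nrm P)) := by
      refine mem_pn_of_fixed P fun ψ hψ => ?_
      have hψodd : ¬ 2 ∣ charDegree (ψ : nrm P → ℂ) := (oddChar_iff P ψ).2 fun d hd => by
        haveI := pn_normal P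
        exact hψ d (Subgroup.commutator_le_left _ _ hd)
      obtain ⟨χ, hχ, hres⟩ := hext ψ hψodd
      have hle : H ≤ charKernel (χ : G → ℂ) (isCharacter_of_irr χ.2) := by
        refine sup_le (Subgroup.normalClosure_le_normal fun q hq => ?_) (iInf_le_of_le ⟨χ, hχ⟩ le_rfl)
        rw [SetLike.mem_coe, mem_charKernel]
        have h1 := hψ (⟨q, Subgroup.le_normalizer hq⟩ : nrm P) hq
        rw [← hres, ← hres] at h1
        exact h1
      rw [← hres, ← hres]
      exact (mem_charKernel _ _).1 (hle hx)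
    exact key
  -- the quotient
  set π := QuotientGroup.mk' K0 with hπ
  have hπs := QuotientGroup.mk'_surjective K0
  set Hb := H.map π with hHb
  haveI : Hb.Normal := Subgroup.Normal.map inferInstance _ hπs
  have hPH : (P.mapSurjective hπs : Subgroup (G ⧸ K0)) ≤ Hb := by
    rw [Sylow.coe_mapSurjective]
    exact Subgroup.map_mono (hPR.trans le_sup_left)
  let PH : Sylow 2 Hb := (P.mapSurjective hπs).subtype hPH
  have hburn : HasNormalPComplement 2 Hb := by
    refine hasNormalPComplement_of_normalizer_le_centralizer PH fun y hy => ?_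
    have habel : ∀ a ∈ PG, ∀ b ∈ PG, π a * π b = π b * π a := fun a ha b hb => by
      rw [← map_mul, ← map_mul]
      refine (QuotientGroup.eq (a := a * b) (b := b * a)).2 ?_
      refine Subgroup.mem_iInf.2 fun χ => (mem_charKernel _ _).2 ?_
      have h1 : (a * b)⁻¹ * (b * a) ∈ (dn P).map (nrm P).subtype := by
        rw [dn_map]
        have h2 := Subgroup.commutator_mem_commutator (inv_mem hb) (inv_mem ha)
        rw [commutatorElement_def] at h2
        simpa [mul_assoc] using h2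
      obtain ⟨d, hd, e⟩ := h1
      rw [← e]
      exact hker χ.1 χ.2 d hd
    obtain ⟨g, hg, hgy⟩ := y.2
    set U : Subgroup G := PG ⊔ K0 with hU
    have hconj : (g • P : Sylow 2 G) ≤ U := by
      intro x hx
      rw [Sylow.coe_subgroup_smul, mem_conj_smul_iff] at hx
      have ha : (⟨π (g⁻¹ * x * g), ⟨_, (hPR.trans le_sup_left) hx, rfl⟩⟩ : Hb) ∈
          (PH : Subgroup Hb) := ⟨g⁻¹ * x * g, hx, rfl⟩
      have hb := (Subgroup.mem_normalizer_iff.1 hy _).1 ha
      have hb' : π x ∈ PG.map π := by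
        have : (y : G ⧸ K0) * π (g⁻¹ * x * g) * (y : G ⧸ K0)⁻¹ ∈ PG.map π := hb
        rw [← hgy, map_mul, map_mul, map_inv] at this
        simpa [mul_assoc] using this
      have : x ∈ (PG.map π).comap π := hb'
      rwa [Subgroup.comap_map_eq, QuotientGroup.ker_mk'] at this
    obtain ⟨u, hu⟩ := MulAction.exists_smul_eq U ((g • P : Sylow 2 G).subtype hconj)
      (P.subtype le_sup_left)
    have hug : (u : G) * g ∈ nrm P := by
      have h1 : ((u : G) * g) • P = P := by
        rw [mul_smul]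
        exact Sylow.subtype_injective ((Sylow.smul_subtype _ _).symm.trans hu)
      exact Sylow.smul_eq_iff_mem_normalizer.1 h1
    have hUH : U ≤ H := sup_le (hPR.trans le_sup_left) le_sup_right
    have hugP : (u : G) * g ∈ PG := hHN _ (H.mul_mem (hUH u.2) hg) hug
    have hgU : g ∈ U := by
      have := U.mul_mem (U.inv_mem u.2) (Subgroup.mem_sup_left (T := K0) hugP)
      rwa [inv_mul_cancel_left] at this
    have hyP : (y : G ⧸ K0) ∈ PG.map π := by
      rw [← hgy]
      have : U.map π ≤ PG.map π := by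
        rw [hU, Subgroup.map_sup, (Subgroup.map_eq_bot_iff K0).2 (by rw [QuotientGroup.ker_mk']),
          sup_bot_eq]
      exact this ⟨g, hgU, rfl⟩
    obtain ⟨a, ha, hay⟩ := hyP
    rw [Subgroup.mem_centralizer_iff]
    rintro b ⟨c, hc, hcb⟩
    refine Subtype.ext ?_
    show (b : G ⧸ K0) * (y : G ⧸ K0) = (y : G ⧸ K0) * (b : G ⧸ K0)
    rw [← hay, show (b : G ⧸ K0) = π c from hcb.symm]
    exact habel c hc a ha
  rw [hasNormalPComplement_iff_pResidual] at hburn
  set Mb := (pResidual 2 Hb).map Hb.subtype with hMb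
  haveI : Mb.Normal := inferInstance
  have hMbcard : (Nat.card Mb).Coprime 2 := by
    rwa [hMb, Subgroup.card_map_of_injective Hb.subtype_injective]
  set K1 := Mb.comap π with hK1
  have hK1H : K1 ≤ H := by
    refine (Subgroup.comap_mono (Subgroup.map_subtype_le _)).trans ?_
    rw [hHb, Subgroup.comap_map_eq, QuotientGroup.ker_mk']
    exact sup_le le_rfl le_sup_right
  have hK1P : K1 ⊓ PG ≤ ⁅PG, PG⁆ := fun x hx => by
    obtain ⟨k, hk⟩ := P.isPGroup' ⟨x, hx.2⟩
    have h1 : orderOf (π x) ∣ 2 ^ k := by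
      refine orderOf_dvd_of_pow_eq_one ?_
      rw [← map_pow, show x ^ 2 ^ k = 1 from congrArg Subtype.val hk, map_one]
    have h2 : orderOf (π x) ∣ Nat.card Mb := Subgroup.orderOf_dvd_natCard _ hx.1
    have h3 : π x = 1 := orderOf_eq_one_iff.1
      (Nat.eq_one_of_dvd_coprimes (hMbcard.pow_right k) h2 h1)
    exact hK0D x ((QuotientGroup.eq_one_iff x).1 h3) (Subgroup.le_normalizer hx.2)
  have hHK1 : H ≤ K1 ⊔ PG := by
    have htop := sylow_sup_eq_top_of_pResidual_le PH (N := pResidual 2 Hb) le_rfl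
    intro x hx
    have hxb : (⟨π x, ⟨x, hx, rfl⟩⟩ : Hb) ∈ pResidual 2 Hb ⊔ (PH : Subgroup Hb) := by
      rw [htop]; trivial
    obtain ⟨m, hm, q, hq, e⟩ := Subgroup.mem_sup_of_normal_left.1 hxb
    obtain ⟨c, hc, hcq⟩ := hq
    have h1 : x * c⁻¹ ∈ K1 := by
      refine ⟨m, hm, ?_⟩
      have e' : (m : G ⧸ K0) * (q : G ⧸ K0) = π x := congrArg Subtype.val e
      rw [map_mul, map_inv, ← e', show (q : G ⧸ K0) = π c from hcq.symm, mul_inv_cancel_right]
      rfl
    have h2 := Subgroup.mul_mem_sup h1 hc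
    rwa [inv_mul_cancel_right] at h2
  -- Tate
  have hcompl := hasNormalPComplement_of_inf_le_frattini P K1 (fun x hx => by
    have h1 := hK1P hx
    rw [← Subgroup.map_subtype_commutator] at h1
    exact Subgroup.map_mono (CfsgLib.commutator_le_frattini_pGroup P.isPGroup') h1)
  rw [hasNormalPComplement_iff_pResidual] at hcompl
  set M := (pResidual 2 K1).map K1.subtype with hM
  haveI : M.Normal := inferInstance
  have hMcard : (Nat.card M).Coprime 2 := by
    rwa [hM, Subgroup.card_map_of_injective K1.subtype_injective]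
  have hMK : M ≤ K1 := Subgroup.map_subtype_le _
  have hK1M : K1 ≤ M ⊔ PG := by
    have hq : IsPGroup 2 (K1.map (QuotientGroup.mk' M)) := by
      rintro ⟨_, x, hx, rfl⟩
      obtain ⟨k, hk⟩ := (isPGroup_quotient_of_pResidual_le (p := 2) (G := K1) le_rfl)
        ((⟨x, hx⟩ : K1) : K1 ⧸ pResidual 2 K1)
      rw [← QuotientGroup.mk_pow, QuotientGroup.eq_one_iff] at hk
      refine ⟨k, Subtype.ext ?_⟩
      show (QuotientGroup.mk' M x) ^ 2 ^ k = 1
      rw [← map_pow]
      exact (QuotientGroup.eq_one_iff _).2 ⟨_, hk, rfl⟩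
    haveI : (K1.map (QuotientGroup.mk' M)).Normal :=
      Subgroup.Normal.map inferInstance _ (QuotientGroup.mk'_surjective M)
    have h1 := hq.le_sylow_of_normal (P.mapSurjective (QuotientGroup.mk'_surjective M))
    rw [Sylow.coe_mapSurjective, Subgroup.map_le_iff_le_comap, Subgroup.comap_map_eq,
      QuotientGroup.ker_mk'] at h1
    rwa [sup_comm] at h1
  refine ⟨M, inferInstance, ?_, ?_⟩
  · rw [eq_bot_iff]
    intro x hx
    have hxP : x ∈ PG := hHN x (hK1H (hMK hx.1)) hx.2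
    obtain ⟨k, hk⟩ := P.isPGroup' ⟨x, hxP⟩
    have h1 : orderOf x ∣ 2 ^ k := orderOf_dvd_of_pow_eq_one (congrArg Subtype.val hk)
    have h2 : orderOf x ∣ Nat.card M := Subgroup.orderOf_dvd_natCard _ hx.1
    exact Subgroup.mem_bot.2 (orderOf_eq_one_iff.1
      (Nat.eq_one_of_dvd_coprimes (hMcard.pow_right k) h2 h1))
  · have hfr := Sylow.normalizer_sup_eq_top' P hPR
    rw [eq_top_iff, ← hfr]
    refine sup_le le_sup_right ?_
    calc R ≤ H := le_sup_left
      _ ≤ K1 ⊔ PG := hHK1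
      _ ≤ M ⊔ nrm P := sup_le (hK1M.trans (sup_le_sup_left Subgroup.le_normalizer M))
        (Subgroup.le_normalizer.trans le_sup_right)

/-- A normal complement makes every character of odd degree restrict irreducibly. -/
theorem sum_of_complement [Fintype (IrrCharacter G)]
    [DecidablePred fun χ : IrrCharacter G => ¬ 2 ∣ charDegree (χ : G → ℂ)]
    (K : Subgroup G) [K.Normal] (hinf : K ⊓ nrm P = ⊥) (hsup : K ⊔ nrm P = ⊤) :
    ∑ χ ∈ Finset.univ.filter (fun χ : IrrCharacter G =>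
        ¬ 2 ∣ charDegree (χ : G → ℂ)), charDegree (χ : G → ℂ) ^ 2 = (dn P).index := by
  classical
  haveI := Fact.mk Nat.prime_two
  haveI := Fintype.ofFinite G
  haveI := Fintype.ofFinite (nrm P)
  let f : nrm P →* G ⧸ K := (QuotientGroup.mk' K).comp (nrm P).subtype
  have hf : Function.Bijective f := by
    refine ⟨(injective_iff_map_eq_one f).2 fun a ha => ?_, fun q => ?_⟩
    · have h1 : (a : G) ∈ K ⊓ nrm P := ⟨(QuotientGroup.eq_one_iff _).1 ha, a.2⟩
      rw [hinf, Subgroup.mem_bot] at h1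
      exact Subtype.ext h1
    · obtain ⟨g, rfl⟩ := QuotientGroup.mk'_surjective K q
      obtain ⟨k, hk, n, hn, rfl⟩ := Subgroup.mem_sup_of_normal_left.1 (hsup ▸ Subgroup.mem_top g)
      refine ⟨⟨n, hn⟩, ?_⟩
      show QuotientGroup.mk' K n = QuotientGroup.mk' K (k * n)
      rw [map_mul, show QuotientGroup.mk' K k = 1 from (QuotientGroup.eq_one_iff k).2 hk, one_mul]
  have hker : ∀ χ : IrrCharacter G, ¬ 2 ∣ charDegree (χ : G → ℂ) →
      ∀ k ∈ K, (χ : G → ℂ) k = (χ : G → ℂ) 1 := by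
    intro χ hχ k hk
    refine normalCore_le_kernel P K ?_ χ hχ k ?_
    · rw [eq_bot_iff, ← hinf]
      exact inf_le_inf_left K (Subgroup.centralizer_le_normalizer _)
    · exact Subgroup.normal_le_normalCore.2 le_sup_left hk
  let e : nrm P ≃* G ⧸ K := MulEquiv.ofBijective f hf
  rw [← sum_odd_nrm P]
  have hlift : ∀ ψ : IrrCharacter (nrm P), IsIrrCharacter G
      (fun g => (ψ : nrm P → ℂ) (e.symm (g : G ⧸ K))) := fun ψ =>
    isIrrCharacter_comp_surjective ψ.2 (e.symm.toMonoidHom.comp (QuotientGroup.mk' K))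
      (e.symm.surjective.comp (QuotientGroup.mk'_surjective K))
  refine (Finset.sum_nbij (fun ψ => ⟨_, hlift ψ⟩) (fun ψ hψ => ?_) (fun a _ b _ hab => ?_)
    (fun χ hχ => ?_) (fun ψ _ => ?_)).symm
  · refine Finset.mem_filter.2 ⟨Finset.mem_univ _, ?_⟩
    have h1 := (Finset.mem_filter.1 hψ).2
    simpa [charDegree] using h1
  · refine Subtype.ext (funext fun x => ?_)
    have h1 := congrFun (congrArg Subtype.val hab) (x : G)
    simp only at h1
    rwa [show ((x : G) : G ⧸ K) = e x from rfl, e.symm_apply_apply] at h1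
  · have hχ' := (Finset.mem_filter.1 hχ).2
    obtain ⟨ψ, hψ, hψe⟩ := exists_quotient_irr K χ.2 (hker χ hχ')
    refine ⟨⟨_, isIrrCharacter_comp_surjective hψ e.toMonoidHom e.surjective⟩,
      Finset.mem_filter.2 ⟨Finset.mem_univ _, ?_⟩, Subtype.ext (funext fun g => ?_)⟩
    · simpa [charDegree, hψe] using hχ'
    · simp [hψe]
  · simp [charDegree]

end CfsgLib.OddSum
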