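import Cfsg.Agent.Lib.Basic
import Cfsg.Agent.Lib.Local
import Cfsg.Agent.Lib.Products

/-!
Quadratic best offenders for groups with abelian Sylow 2-subgroups.

If `X` acts faithfully on an elementary abelian 2-group `V`, the 2-subgroups of `X` are abelian and no
element of order 3 of `X` is inverted by a 2-element, then every quadratic best offender lies in
`pCore 2 X`.
-/

set_option autoImplicit false
set_option linter.unusedSectionVars false

namespace CfsgLib.OffenderTwo

open CfsgLib CfsgLib.Local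

universe u v

variable {X : Type u} [Group X] {V : Type v} [CommGroup V]

/-- The vectors fixed by all elements of `A`. -/
def fix (φ : X →* MulAut V) (A : Subgroup X) : Subgroup V where
  carrier := {v | ∀ a ∈ A, φ a v = v}
  one_mem' := fun a _ => map_one (φ a)
  mul_mem' := fun {x y} hx hy a ha => by rw [map_mul, hx a ha, hy a ha]
  inv_mem' := fun {x} hx a ha => by rw [map_inv, hx a ha]

theorem mem_fix {φ : X →* MulAut V} {A : Subgroup X} {v : V} :
    v ∈ fix φ A ↔ ∀ a ∈ A, φ a v = v := Iff.rfl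

theorem fix_anti {φ : X →* MulAut V} {A B : Subgroup X} (h : A ≤ B) : fix φ B ≤ fix φ A :=
  fun _ hv a ha => hv a (h ha)

theorem fix_map {H : Type*} [Group H] (φ : X →* MulAut V) (f : H →* X) (B : Subgroup H) :
    fix φ (B.map f) = fix (φ.comp f) B := by
  ext v
  constructor
  · intro hv b hb
    exact hv _ ⟨b, hb, rfl⟩
  · rintro hv _ ⟨b, hb, rfl⟩
    exact hv b hb

/-- The standing hypotheses on the action. -/
structure Ctx (φ : X →* MulAut V) : Prop where
  inj : Function.Injective φ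
  two : ∀ v : V, v * v = 1
  abl : ∀ P : Subgroup X, IsPGroup 2 P → ∀ x ∈ P, ∀ y ∈ P, x * y = y * x
  three : ∀ r a : X, orderOf r = 3 → (∃ k : ℕ, a ^ 2 ^ k = 1) → a * r * a⁻¹ = r⁻¹ → False

/-- A quadratic best offender. -/
structure Off (φ : X →* MulAut V) (A : Subgroup X) : Prop where
  sq : ∀ a ∈ A, a * a = 1
  quad : ∀ a ∈ A, ∀ v : V, φ a v / v ∈ fix φ A
  best : ∀ B : Subgroup X, B ≤ A →
    Nat.card B * Nat.card (fix φ B) ≤ Nat.card A * Nat.card (fix φ A)

theorem isPGroup_of_sq {A : Subgroup X} (h : ∀ a ∈ A, a * a = 1) : IsPGroup 2 A := fun a =>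
  ⟨1, Subtype.ext (by rw [SubmonoidClass.coe_pow, pow_one, sq]; exact h a a.2)⟩

theorem Ctx.restrict {φ : X →* MulAut V} (hc : Ctx φ) (H : Subgroup X) : Ctx (φ.comp H.subtype) where
  inj := hc.inj.comp H.subtype_injective
  two := hc.two
  abl := fun P hP x hx y hy => Subtype.ext
    (hc.abl (P.map H.subtype) (hP.map _) x ⟨x, hx, rfl⟩ y ⟨y, hy, rfl⟩)
  three := fun r a hr ⟨k, hk⟩ h => hc.three r a (by rwa [Subgroup.orderOf_coe])
    ⟨k, by rw [← SubmonoidClass.coe_pow, hk]; rfl⟩ (congrArg Subtype.val h)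

theorem Off.restrict {φ : X →* MulAut V} {A : Subgroup X} (ho : Off φ A) {H : Subgroup X}
    (hAH : A ≤ H) : Off (φ.comp H.subtype) (A.subgroupOf H) := by
  have hA : (A.subgroupOf H).map H.subtype = A := Subgroup.map_subgroupOf_eq_of_le hAH
  have hfix : fix (φ.comp H.subtype) (A.subgroupOf H) = fix φ A := by rw [← fix_map, hA]
  constructor
  · intro a ha
    exact Subtype.ext (ho.sq a ha)
  · intro a ha v
    rw [hfix]
    exact ho.quad a ha v
  · intro B hB
    have h := ho.best (B.map H.subtype) ((Subgroup.map_mono hB).trans_eq hA)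
    rw [Subgroup.card_map_of_injective H.subtype_injective, fix_map] at h
    rwa [hfix, Nat.card_congr (Subgroup.subgroupOfEquivOfLe hAH).toEquiv]

theorem fix_map_conj (φ : X →* MulAut V) (g : X) (A : Subgroup X) :
    fix φ (A.map (MulAut.conj g).toMonoidHom) = (fix φ A).map (φ g).toMonoidHom := by
  ext v
  constructor
  · intro hv
    refine ⟨φ g⁻¹ v, fun a ha => ?_, ?_⟩
    · have h := congrArg (φ g⁻¹) (hv (g * a * g⁻¹) ⟨a, ha, rfl⟩)
      rw [← MulAut.mul_apply, ← map_mul] at h
      simpa [mul_assoc, MulAut.mul_apply] using h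
    · change φ g (φ g⁻¹ v) = v
      rw [map_inv, MulAut.apply_inv_self]
  · rintro ⟨w, hw, rfl⟩ _ ⟨a, ha, rfl⟩
    change φ (g * a * g⁻¹) (φ g w) = φ g w
    rw [map_mul, map_mul, MulAut.mul_apply, MulAut.mul_apply, map_inv, MulAut.inv_apply_self, hw a ha]

/-! ### The reduction to a quotient -/

theorem le_pCore_of_sq [Finite X] {K : Subgroup X} [K.Normal] (h : ∀ k ∈ K, k * k = 1) :
    K ≤ Cfsg.pCore 2 X :=
  le_pCore (isPGroup_of_sq h)

theorem exists_sq_eq_one_of_isPGroup {K : Subgroup X} (hK : IsPGroup 2 K) (h : K ≠ ⊥) [Finite X] :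
    ∃ z ∈ K, orderOf z = 2 := by
  haveI : Nontrivial K := (Subgroup.nontrivial_iff_ne_bot K).2 h
  obtain ⟨n, hn, hc⟩ := hK.nontrivial_iff_card.1 this
  obtain ⟨z, hz⟩ := exists_prime_orderOf_dvd_card' (G := K) 2 (hc ▸ dvd_pow_self 2 hn.ne')
  exact ⟨z, z.2, by rwa [Subgroup.orderOf_coe]⟩

/-- The inductive statement. -/
def Good (X : Type u) [Group X] : Prop :=
  ∀ (V : Type v) [CommGroup V] [Finite V] (φ : X →* MulAut V) (A : Subgroup X),
    Ctx φ → Off φ A → A ≤ Cfsg.pCore 2 X

section step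

variable [Finite X] [Finite V] {φ : X →* MulAut V} {A : Subgroup X}
  (ih : ∀ (Y : Type u) [Group Y] [Finite Y], Nat.card Y < Nat.card X → Good.{u, v} Y)

include ih

theorem le_pCore_sub (hc : Ctx φ) (ho : Off φ A) {H : Subgroup X} (hH : H ≠ ⊤) (hAH : A ≤ H) :
    A ≤ (Cfsg.pCore 2 H).map H.subtype := by
  have hlt : Nat.card H < Nat.card X :=
    lt_of_le_of_ne (Subgroup.card_le_card_group H) fun e => hH (Subgroup.eq_top_of_card_eq H e)
  have h := ih H hlt V _ _ (hc.restrict H) (ho.restrict hAH)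
  intro a ha
  exact ⟨⟨a, hAH ha⟩, h (Subgroup.mem_subgroupOf.2 ha), rfl⟩

theorem of_central (hc : Ctx φ) (ho : Off φ A)
    (hR : ∀ k ∈ Cfsg.pCore 2 X, ∀ x : X, k * x = x * k) {z : X} (hz2 : orderOf z = 2)
    (hz : ∀ x : X, z * x = x * z) : A ≤ Cfsg.pCore 2 X := by
  set C1 := fix φ (Subgroup.zpowers z)
  have hmem : ∀ v : V, v ∈ C1 ↔ φ z v = v := by
    intro v
    constructor
    · exact fun h => h z (Subgroup.mem_zpowers z)
    · intro h a ha
      obtain ⟨k, rfl⟩ := Subgroup.mem_zpowers_iff.1 ha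
      induction k using Int.induction_on with
      | zero => simp
      | succ i hi =>
        rw [zpow_add_one, map_mul, MulAut.mul_apply, h]
        exact hi ⟨_, rfl⟩
      | pred i hi =>
        rw [zpow_sub_one, map_mul, MulAut.mul_apply, map_inv]
        conv_lhs => rw [← h]
        rw [MulAut.inv_apply_self]
        exact hi ⟨_, rfl⟩
  have hinv : ∀ (x : X) (v : C1), φ x (v : V) ∈ C1 := by
    intro x v
    rw [hmem, ← MulAut.mul_apply, ← map_mul, hz x, map_mul, MulAut.mul_apply, (hmem v).1 v.2]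
  let ψ₀ : X →* MulAut C1 :=
    { toFun := fun x =>
        { toFun := fun v => ⟨φ x v, hinv x v⟩
          invFun := fun v => ⟨φ x⁻¹ v, hinv x⁻¹ v⟩
          left_inv := fun v => Subtype.ext (by simp)
          right_inv := fun v => Subtype.ext (by simp)
          map_mul' := fun v w => Subtype.ext (map_mul (φ x) (v : V) w) }
      map_one' := by ext v; simp
      map_mul' := fun x y => by ext v; simp }
  have hψ : ∀ (x : X) (v : C1), ((ψ₀ x v : C1) : V) = φ x v := fun _ _ => rfl
  set K := ψ₀.ker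
  have hK : ∀ k ∈ K, ∀ v ∈ C1, φ k v = v := fun k hk v hv => by
    rw [← hψ k ⟨v, hv⟩, MonoidHom.mem_ker.1 hk]; rfl
  have hzz : z * z = 1 := by rw [← sq, ← hz2, pow_orderOf_eq_one]
  have hKsq : ∀ k ∈ K, k * k = 1 := by
    intro k hk
    refine hc.inj (MulEquiv.ext fun v => ?_)
    rw [map_one, MulAut.one_apply, map_mul, MulAut.mul_apply]
    have hf : φ z v / v ∈ C1 := by
      rw [hmem, map_div, ← MulAut.mul_apply, ← map_mul, hzz, map_one, MulAut.one_apply,
        div_eq_iff_eq_mul, div_mul_eq_mul_div, eq_div_iff_mul_eq', hc.two, hc.two]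
    have h1 : φ k (φ z v / v) = φ z v / v := hK k hk _ hf
    rw [map_div, ← MulAut.mul_apply, ← map_mul, ← hz k, map_mul, MulAut.mul_apply,
      div_eq_div_iff_mul_eq_mul] at h1
    have hc1 : φ k v / v ∈ C1 := by
      rw [hmem, map_div, div_eq_div_iff_mul_eq_mul, h1, mul_comm]
    have h2 : φ k (φ k v / v) = φ k v / v := hK k hk _ hc1
    rw [map_div, div_eq_iff_eq_mul] at h2
    rw [h2, div_mul_eq_mul_div, hc.two, one_div]
    exact inv_eq_of_mul_eq_one_right (hc.two v)
  have hzK : z ∈ K := MonoidHom.mem_ker.2 (MulEquiv.ext fun v => Subtype.ext ((hmem v).1 v.2))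
  have hK2 : IsPGroup 2 K := isPGroup_of_sq hKsq
  have hlt : Nat.card (X ⧸ K) < Nat.card X := by
    have h := K.card_mul_index
    have h1 : 1 < Nat.card K := by
      rw [Subgroup.one_lt_card_iff_ne_bot]
      intro e
      rw [e, Subgroup.mem_bot] at hzK
      simp [hzK] at hz2
    rw [← h, ← Subgroup.index_eq_card]
    exact lt_mul_of_one_lt_left (Nat.pos_of_ne_zero Subgroup.index_ne_zero_of_finite) h1
  set ψ : X ⧸ K →* MulAut C1 := QuotientGroup.kerLift ψ₀
  have hker : IsPGroup 2 (QuotientGroup.mk' K).ker := by rw [QuotientGroup.ker_mk']; exact hK2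
  have hc' : Ctx ψ := by
    refine ⟨QuotientGroup.kerLift_injective ψ₀, fun v => Subtype.ext (hc.two v), ?_, ?_⟩
    · intro P hP x hx y hy
      obtain ⟨a, rfl⟩ := QuotientGroup.mk'_surjective K x
      obtain ⟨b, rfl⟩ := QuotientGroup.mk'_surjective K y
      rw [← map_mul, ← map_mul,
        hc.abl (P.comap (QuotientGroup.mk' K)) (hP.comap_of_ker_isPGroup _ hker) a hx b hy]
    · intro r a hr ⟨k, hk⟩ h
      obtain ⟨x, rfl⟩ := QuotientGroup.mk'_surjective K r
      obtain ⟨y, rfl⟩ := QuotientGroup.mk'_surjective K a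
      have hrK : ((x * x : X) * (x * x) * (x * x)) ∈ K ∧ x * x * x ∈ K := by
        have h3 := pow_orderOf_eq_one (QuotientGroup.mk' K x)
        rw [hr, ← map_pow, ← MonoidHom.mem_ker, QuotientGroup.ker_mk', pow_succ, pow_two] at h3
        refine ⟨?_, h3⟩
        have := K.mul_mem h3 h3
        simpa [mul_assoc] using this
      have hx6 : (x * x * x) * (x * x * x) = 1 := hKsq _ hrK.2
      have hr3 : orderOf (x * x) = 3 := by
        refine orderOf_eq_prime (p := 3) (by simpa [pow_succ, mul_assoc] using hx6) fun e => ?_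
        have := congrArg (QuotientGroup.mk' K) e
        rw [map_mul, map_one, ← sq, ← orderOf_dvd_iff_pow_eq_one, hr] at this
        norm_num at this
      have hyk : ∃ j : ℕ, y ^ 2 ^ j = 1 := by
        rw [← map_pow, ← MonoidHom.mem_ker, QuotientGroup.ker_mk'] at hk
        exact ⟨k + 1, by rw [pow_succ, pow_mul, sq, hKsq _ hk]⟩
      set c := y * (x * x) * y⁻¹ * (x * x) with hcdef
      have hcK : c ∈ K := by
        rw [← QuotientGroup.ker_mk' K, MonoidHom.mem_ker]
        simp only [hcdef, map_mul, map_inv] at h ⊢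
        have e : QuotientGroup.mk' K y * (QuotientGroup.mk' K x * QuotientGroup.mk' K x) *
            (QuotientGroup.mk' K y)⁻¹ = (QuotientGroup.mk' K x)⁻¹ * (QuotientGroup.mk' K x)⁻¹ := by
          rw [← h]; group
        rw [e]; group
      have hccomm : Commute c ((x * x)⁻¹) := hR c ((le_pCore hK2 : K ≤ _) hcK) _
      have e1 : y * (x * x) * y⁻¹ = c * (x * x)⁻¹ := by rw [hcdef]; group
      have e2 : c ^ 3 = 1 := by
        have h3 : (y * (x * x) * y⁻¹) ^ 3 = 1 := by
          rw [conj_pow, ← hr3, pow_orderOf_eq_one, mul_one, mul_inv_cancel]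
        rw [e1, hccomm.mul_pow, inv_pow, ← hr3, pow_orderOf_eq_one, inv_one, mul_one, hr3] at h3
        exact h3
      have hc1 : c = 1 := by rwa [pow_succ, sq, hKsq c hcK, one_mul] at e2
      refine hc.three (x * x) y hr3 hyk ?_
      rw [e1, hc1, one_mul]
  have hψ' : ∀ (x : X) (v : C1), ((ψ (QuotientGroup.mk' K x) v : C1) : V) = φ x v :=
    fun _ _ => rfl
  have hfixψ : ∀ B : Subgroup X,
      (fix ψ (B.map (QuotientGroup.mk' K))).map C1.subtype = fix φ B ⊓ C1 := by
    intro B
    ext v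
    constructor
    · rintro ⟨w, hw, rfl⟩
      exact ⟨fun b hb => by
        have := congrArg Subtype.val (hw _ ⟨b, hb, rfl⟩)
        rwa [hψ'] at this, w.2⟩
    · rintro ⟨hv, hv1⟩
      refine ⟨⟨v, hv1⟩, ?_, rfl⟩
      rintro _ ⟨b, hb, rfl⟩
      exact Subtype.ext ((hψ' b ⟨v, hv1⟩).trans (hv b hb))
  have ho' : Off ψ (A.map (QuotientGroup.mk' K)) := by
    refine ⟨?_, ?_, ?_⟩
    · rintro _ ⟨a, ha, rfl⟩
      rw [← map_mul, ho.sq a ha, map_one]
    · rintro _ ⟨a, ha, rfl⟩ v _ ⟨b, hb, rfl⟩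
      refine Subtype.ext ?_
      rw [hψ', Subgroup.coe_div, hψ']
      exact ho.quad a ha v b hb
    · intro Bq hBq
      set B := Bq.comap (QuotientGroup.mk' K) ⊓ A with hB
      have hmap : B.map (QuotientGroup.mk' K) = Bq := by
        refine le_antisymm (Subgroup.map_le_iff_le_comap.2 inf_le_left) fun x hx => ?_
        obtain ⟨a, ha, rfl⟩ := hBq hx
        exact ⟨a, ⟨hx, ha⟩, rfl⟩
      have hinf : B ⊓ K = A ⊓ K := by
        refine le_antisymm (inf_le_inf_right K inf_le_right) fun x hx => ⟨⟨?_, hx.1⟩, hx.2⟩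
        have : QuotientGroup.mk' K x = 1 := (QuotientGroup.eq_one_iff x).2 hx.2
        show QuotientGroup.mk' K x ∈ Bq
        rw [this]
        exact one_mem _
      have hcard : ∀ D : Subgroup X,
          Nat.card ↥(D ⊓ K) * Nat.card (D.map (QuotientGroup.mk' K)) = Nat.card D := by
        intro D
        rw [← Subgroup.relIndex_ker, QuotientGroup.ker_mk', inf_comm]
        exact CfsgLib.Products.card_inf_mul_relIndex K D
      have e1 := CfsgLib.Products.card_mul_card_le (fix φ A) (fix φ B ⊓ C1)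
      have e2 : fix φ A ⊔ fix φ B ⊓ C1 ≤ fix φ B := sup_le (fix_anti inf_le_right) inf_le_left
      have e3 : fix φ A ⊓ (fix φ B ⊓ C1) = fix φ A ⊓ C1 := by
        rw [← inf_assoc, inf_eq_left.2 (fix_anti inf_le_right)]
      rw [e3] at e1
      have e4 := ho.best B inf_le_right
      have hcf : ∀ D : Subgroup X,
          Nat.card (fix ψ (D.map (QuotientGroup.mk' K))) = Nat.card ↥(fix φ D ⊓ C1) := fun D => by
        rw [← hfixψ D, Subgroup.card_map_of_injective C1.subtype_injective]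
      rw [← hmap, hcf, hcf]
      have hB' := hcard B
      have hA' := hcard A
      rw [hinf] at hB'
      have hlast : Nat.card B * Nat.card ↥(fix φ B ⊓ C1) ≤ Nat.card A * Nat.card ↥(fix φ A ⊓ C1) := by
        refine Nat.le_of_mul_le_mul_right ?_ (Nat.card_pos : 0 < Nat.card (fix φ A))
        calc Nat.card B * Nat.card ↥(fix φ B ⊓ C1) * Nat.card (fix φ A)
            = Nat.card B * (Nat.card (fix φ A) * Nat.card ↥(fix φ B ⊓ C1)) := by ring
          _ ≤ Nat.card B * (Nat.card (fix φ B) * Nat.card ↥(fix φ A ⊓ C1)) :=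
              Nat.mul_le_mul_left _ (e1.trans (Nat.mul_le_mul_right _ (Subgroup.card_le_of_le e2)))
          _ = Nat.card B * Nat.card (fix φ B) * Nat.card ↥(fix φ A ⊓ C1) := by ring
          _ ≤ Nat.card A * Nat.card (fix φ A) * Nat.card ↥(fix φ A ⊓ C1) := Nat.mul_le_mul_right _ e4
          _ = _ := by ring
      rw [← hB', ← hA', mul_assoc, mul_assoc] at hlast
      exact Nat.le_of_mul_le_mul_left hlast Nat.card_pos
  have hfin := ih (X ⧸ K) hlt C1 ψ _ hc' ho'
  refine le_trans ?_ (le_pCore ((isPGroup_pCore (G := X ⧸ K) 2).comap_of_ker_isPGroup _ hker))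
  exact Subgroup.map_le_iff_le_comap.1 hfin

/-- A 2-subgroup normalised by everything is contained in the `pCore`. -/
theorem normal_le_pCore {E : Subgroup X} (hE : IsPGroup 2 E)
    (h : Subgroup.normalizer (E : Set X) = ⊤) : E ≤ Cfsg.pCore 2 X :=
  haveI := Subgroup.normalizer_eq_top_iff.1 h
  le_pCore hE

theorem of_ne_bot (hc : Ctx φ) (ho : Off φ A) (hR : Cfsg.pCore 2 X ≠ ⊥) : A ≤ Cfsg.pCore 2 X := by
  set R := Cfsg.pCore 2 X
  have hR2 : IsPGroup 2 R := isPGroup_pCore 2
  have habR : ∀ P : Subgroup X, IsPGroup 2 P → P ≤ Subgroup.centralizer (R : Set X) := by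
    intro P hP x hx r hr
    exact hc.abl (R ⊔ P) (hR2.to_sup_of_normal_left hP) r (Subgroup.mem_sup_left hr) x
      (Subgroup.mem_sup_right hx)
  by_cases hC : Subgroup.centralizer (R : Set X) = ⊤
  · obtain ⟨z, hzR, hz⟩ := exists_sq_eq_one_of_isPGroup hR2 hR
    have hcen : ∀ k ∈ R, ∀ x : X, k * x = x * k := fun k hk x =>
      (show x ∈ Subgroup.centralizer (R : Set X) from hC ▸ Subgroup.mem_top x) k hk
    exact of_central ih hc ho hcen hz (hcen z hzR)
  · have h := le_pCore_sub ih hc ho hC (habR A (isPGroup_of_sq ho.sq))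
    exact h.trans (map_pCore_le 2 _)

section minimal

variable (hc : Ctx φ) (ho : Off φ A) (hA : A ≠ ⊥) (hR : Cfsg.pCore 2 X = ⊥)

include hc ho hA hR

theorem Off.conj_of (g : X) : Off φ (A.map (MulAut.conj g).toMonoidHom) := by
  refine ⟨?_, ?_, ?_⟩
  · rintro _ ⟨a, ha, rfl⟩
    rw [← map_mul, ho.sq a ha, map_one]
  · rintro _ ⟨a, ha, rfl⟩ v
    rw [fix_map_conj]
    refine ⟨φ a (φ g⁻¹ v) / φ g⁻¹ v, ho.quad a ha _, ?_⟩
    change φ g (φ a (φ g⁻¹ v) / φ g⁻¹ v) = φ (g * a * g⁻¹) v / v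
    rw [map_div, map_mul, map_mul, MulAut.mul_apply, MulAut.mul_apply, map_inv, MulAut.apply_inv_self]
  · intro B hB
    have hinj : Function.Injective (MulAut.conj g).toMonoidHom := (MulAut.conj g).injective
    have hB' : B.map (MulAut.conj g⁻¹).toMonoidHom ≤ A := by
      refine map_conj_le fun x hx => ?_
      obtain ⟨a, ha, rfl⟩ := hB hx
      simpa [mul_assoc] using ha
    have h := ho.best _ hB'
    rw [Subgroup.card_map_of_injective (MulAut.conj g⁻¹).injective, fix_map_conj,
      Subgroup.card_map_of_injective (φ g⁻¹).injective] at h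
    rw [fix_map_conj, Subgroup.card_map_of_injective hinj,
      Subgroup.card_map_of_injective (φ g).injective]
    exact h

/-- The conjugate `g A g⁻¹`. -/
abbrev cj (A : Subgroup X) (g : X) : Subgroup X := A.map (MulAut.conj g).toMonoidHom

theorem ne_top : A ≠ ⊤ := by
  intro e
  subst e
  have := le_pCore (p := 2) (N := (⊤ : Subgroup X)) (isPGroup_of_sq ho.sq)
  rw [hR, le_bot_iff] at this
  exact hA this

theorem cj_ne_bot (g : X) : cj A g ≠ ⊥ := fun e => hA
  ((Subgroup.map_eq_bot_iff_of_injective A (MulAut.conj g).injective).1 e)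

theorem cj_le_pCore {L : Subgroup X} (hL : L ≠ ⊤) {g : X} (h : cj A g ≤ L) :
    cj A g ≤ (Cfsg.pCore 2 L).map L.subtype :=
  le_pCore_sub ih hc (Off.conj_of ih hc ho hA hR g) hL h

/-- A maximal subgroup containing `A` contains a Sylow subgroup centralizing `A` and, for each Sylow
subgroup `T` inside it, is the normalizer of the join of the conjugates of `A` inside `T`. -/
theorem exists_sylow_eq {L : Subgroup X} (hL : IsCoatom L) (hAL : A ≤ L) :
    (∃ S : Sylow 2 X, (S : Subgroup X) ≤ L ∧ (S : Subgroup X) ≤ Subgroup.centralizer (A : Set X)) ∧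
    ∀ T : Sylow 2 X, (T : Subgroup X) ≤ L →
      L = Subgroup.normalizer ((⨆ g : {g : X // cj A g ≤ (T : Subgroup X)}, cj A g.1 : Subgroup X) : Set X) := by
  set E : Subgroup X := ⨆ g : {g : X // cj A g ≤ L}, cj A g.1
  set O := (Cfsg.pCore 2 L).map L.subtype
  have hEO : E ≤ O := iSup_le fun g => cj_le_pCore ih hc ho hA hR hL.1 g.2
  have hO2 : IsPGroup 2 O := (isPGroup_pCore 2).map _
  have hE2 : IsPGroup 2 E := isPGroup_of_le hEO hO2
  have h1 : cj A 1 = A := by
    ext x; simp [cj]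
  have hAE : A ≤ E := by
    conv_lhs => rw [← h1]
    exact le_iSup (fun g : {g : X // cj A g ≤ L} => cj A g.1) ⟨1, h1.le.trans hAL⟩
  have hLE : L ≤ Subgroup.normalizer (E : Set X) := by
    intro l hl
    refine mem_normalizer_of_map_conj_eq (Subgroup.eq_of_le_of_card_ge ?_
      (Subgroup.card_map_of_injective (MulAut.conj l).injective).ge)
    rw [Subgroup.map_iSup]
    refine iSup_le fun g => ?_
    have e : (cj A g.1).map (MulAut.conj l).toMonoidHom = cj A (l * g.1) := by
      rw [cj, cj, ← map_conj_mul]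
    rw [e]
    refine le_iSup (fun g : {g : X // cj A g ≤ L} => cj A g.1) ⟨l * g.1, ?_⟩
    rw [← e]
    exact map_conj_le fun x hx => L.mul_mem (L.mul_mem hl (g.2 hx)) (L.inv_mem hl)
  have hNE : Subgroup.normalizer (E : Set X) ≠ ⊤ := fun e => hA
    (le_bot_iff.1 (hR ▸ hAE.trans (normal_le_pCore ih hE2 e)))
  have hN : Subgroup.normalizer (E : Set X) = L := by
    rcases eq_or_lt_of_le hLE with h | h
    · exact h.symm
    · exact absurd (hL.2 _ h) hNE
  obtain ⟨S, hS⟩ := hO2.exists_le_sylow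
  have hSC : ∀ s ∈ (S : Subgroup X), ∀ e ∈ E, e * s = s * e := fun s hs e he =>
    hc.abl S S.2 e (hS (hEO he)) s hs
  have hSL : (S : Subgroup X) ≤ L := fun s hs => hN ▸
    Subgroup.centralizer_le_normalizer _ (fun e he => hSC s hs e he)
  refine ⟨⟨S, hSL, fun s hs a ha => hSC s hs a (hAE ha)⟩, fun T hTL => ?_⟩
  have hOT : O ≤ (T : Subgroup X) := by
    refine Subgroup.map_le_iff_le_comap.2 ?_
    exact pCore_le_sylow (T.subtype hTL)
  have heq : E = ⨆ g : {g : X // cj A g ≤ (T : Subgroup X)}, cj A g.1 := by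
    refine le_antisymm (iSup_le fun g => ?_) (iSup_le fun g => ?_)
    · exact le_iSup (fun g : {g : X // cj A g ≤ (T : Subgroup X)} => cj A g.1)
        ⟨g.1, ((le_iSup (fun g : {g : X // cj A g ≤ L} => cj A g.1) g).trans hEO).trans hOT⟩
    · exact le_iSup (fun g : {g : X // cj A g ≤ L} => cj A g.1) ⟨g.1, g.2.trans hTL⟩
  rw [← heq, hN]

theorem unique_max : ∃ M : Subgroup X, IsCoatom M ∧ A ≤ M ∧
    ∀ L : Subgroup X, IsCoatom L → A ≤ L → L = M := by
  have hC : Subgroup.centralizer (A : Set X) ≠ ⊤ := fun e => hA (le_bot_iff.1 (hR ▸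
    normal_le_pCore ih (isPGroup_of_sq ho.sq)
      (top_le_iff.1 (e ▸ Subgroup.centralizer_le_normalizer _))))
  obtain ⟨M, hM, hCM⟩ := (eq_top_or_exists_le_coatom (Subgroup.centralizer (A : Set X))).resolve_left hC
  have hAC : A ≤ Subgroup.centralizer (A : Set X) := fun a ha b hb =>
    hc.abl A (isPGroup_of_sq ho.sq) b hb a ha
  refine ⟨M, hM, hAC.trans hCM, fun L hL hAL => ?_⟩
  obtain ⟨⟨S, hSL, hSC⟩, hLS⟩ := exists_sylow_eq ih hc ho hA hR hL hAL
  rw [hLS S hSL, (exists_sylow_eq ih hc ho hA hR hM (hAC.trans hCM)).2 S (hSC.trans hCM)]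

theorem false_of_minimal : False := by
  have hsq2 : IsPGroup 2 A := isPGroup_of_sq ho.sq
  obtain ⟨M, hM, hAM, huniq⟩ := unique_max ih hc ho hA hR
  set O := (Cfsg.pCore 2 M).map M.subtype with hOdef
  have hO2 : IsPGroup 2 O := (isPGroup_pCore 2).map _
  have hAO : A ≤ O := le_pCore_sub ih hc ho hM.1 hAM
  have hOn : ∀ m ∈ M, ∀ o ∈ O, m * o * m⁻¹ ∈ O := by
    rintro m hm _ ⟨o, ho', rfl⟩
    exact ⟨⟨m, hm⟩ * o * ⟨m, hm⟩⁻¹, (inferInstance : (Cfsg.pCore 2 M).Normal).conj_mem o ho' _, rfl⟩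
  -- two-elements of `M` centralise `O`
  have hcomm2 : ∀ w ∈ M, (∃ k : ℕ, w ^ 2 ^ k = 1) → ∀ o ∈ O, o * w = w * o := by
    rintro w hw ⟨k, hk⟩ o ho'
    have hW : IsPGroup 2 (Subgroup.zpowers w) := fun x => ⟨k, Subtype.ext (by
      obtain ⟨x, hx⟩ := x
      obtain ⟨j, rfl⟩ := Subgroup.mem_zpowers_iff.1 hx
      rw [SubmonoidClass.coe_pow]
      change (w ^ j) ^ (2 ^ k) = 1
      rw [← zpow_natCast, ← zpow_mul, mul_comm, zpow_mul, zpow_natCast, hk, one_zpow])⟩
    have hWN : Subgroup.zpowers w ≤ Subgroup.normalizer (O : Set X) := (Subgroup.zpowers_le).2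
      (mem_normalizer_of_map_conj_eq (Subgroup.eq_of_le_of_card_ge (map_conj_le (hOn w hw))
        (Subgroup.card_map_of_injective (MulAut.conj w).injective).ge))
    exact hc.abl _ (hO2.to_sup_of_normal_left' hW hWN) o (Subgroup.mem_sup_left ho') w
      (Subgroup.mem_sup_right (Subgroup.mem_zpowers w))
  have hnorm : Subgroup.normalizer (M : Set X) = M := by
    rcases eq_or_lt_of_le (Subgroup.le_normalizer (H := M)) with h | h
    · exact h.symm
    · haveI : M.Normal := Subgroup.normalizer_eq_top_iff.1 (hM.2 _ h)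
      have h2 := map_pCore_le 2 M
      rw [hR] at h2
      exact absurd (le_bot_iff.1 (hAO.trans h2)) hA
  have huniq' : ∀ H : Subgroup X, H ≠ ⊤ → A ≤ H → H ≤ M := by
    intro H hH hAH
    obtain ⟨L, hL, hHL⟩ := (eq_top_or_exists_le_coatom H).resolve_left hH
    exact (huniq L hL (hAH.trans hHL)) ▸ hHL
  have hconj : ∀ g : X, cj A g ≤ M → g ∈ M := by
    intro g hg
    have hg' : g⁻¹ ∈ Subgroup.normalizer (M : Set X) := by
      refine mem_normalizer_of_map_conj_eq (huniq _ ?_ ?_)
      · exact ((OrderIso.isCoatom_iff (MulEquiv.mapSubgroup (MulAut.conj g⁻¹)) M).2 hM)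
      · intro a ha
        exact mem_map_conj.2 (by simpa [mul_assoc] using hg ⟨a, ha, rfl⟩)
    rw [hnorm] at hg'
    simpa using M.inv_mem hg'
  -- centralisers of involutions of `M`
  have hcent : ∀ w ∈ M, w * w = 1 → w ≠ 1 → ∀ y : X, y * w = w * y → y ∈ M := by
    intro w hw hw2 hw1 y hy
    refine huniq' (Subgroup.centralizer {w}) (fun e => ?_) (fun a ha => ?_) ?_
    · have hle : Subgroup.zpowers w ≤ Cfsg.pCore 2 X := by
        refine normal_le_pCore ih (fun x => ⟨1, Subtype.ext ?_⟩) (top_le_iff.1 ?_)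
        · obtain ⟨x, hx⟩ := x
          obtain ⟨j, rfl⟩ := Subgroup.mem_zpowers_iff.1 hx
          rw [SubmonoidClass.coe_pow, pow_one, sq, OneMemClass.coe_one]
          change w ^ j * w ^ j = 1
          rw [← (Commute.refl w).mul_zpow, hw2, one_zpow]
        · rw [← e, ← Subgroup.centralizer_closure, ← Subgroup.zpowers_eq_closure]
          exact Subgroup.centralizer_le_normalizer _
      rw [hR, le_bot_iff, Subgroup.zpowers_eq_bot] at hle
      exact hw1 hle
    · exact Subgroup.mem_centralizer_singleton_iff.2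
        (hcomm2 w hw ⟨1, by rw [pow_one, sq, hw2]⟩ a (hAO ha))
    · exact Subgroup.mem_centralizer_singleton_iff.2 hy
  have hSE : ∀ g : X, g ∉ M → ∀ w ∈ M, g⁻¹ * w * g ∈ M → w * w = 1 → w = 1 := by
    intro g hg w hw hwg hw2
    by_contra hw1
    refine hg (hconj g ?_)
    rintro _ ⟨a, ha, rfl⟩
    refine hcent w hw hw2 hw1 _ ?_
    have h := hcomm2 (g⁻¹ * w * g) hwg ⟨1, by
      rw [pow_one, sq]
      calc g⁻¹ * w * g * (g⁻¹ * w * g) = g⁻¹ * (w * w) * g := by group
        _ = 1 := by rw [hw2]; group⟩ a (hAO ha)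
    calc g * a * g⁻¹ * w = g * (a * (g⁻¹ * w * g)) * g⁻¹ := by group
      _ = g * ((g⁻¹ * w * g) * a) * g⁻¹ := by rw [h]
      _ = _ := by simp [mul_assoc]
  -- a conjugate outside `M`
  obtain ⟨g, hg⟩ : ∃ g : X, g ∉ M := by
    by_contra h
    push Not at h
    exact hM.1 (top_le_iff.1 fun x _ => h x)
  have hgen : ∀ g : X, g ∉ M → A ⊔ cj A g = ⊤ := by
    intro g hg
    by_contra h
    exact hg (hconj g (le_sup_right.trans (huniq' _ h le_sup_left)))
  set C0 := fix φ (⊤ : Subgroup X)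
  set P := fix φ A
  have hC0 : ∀ g : X, C0 ≤ fix φ (cj A g) := fun g => fix_anti le_top
  have hcard : ∀ g : X, Nat.card (fix φ (cj A g)) = Nat.card P := fun g => by
    rw [cj, fix_map_conj, Subgroup.card_map_of_injective (φ g).injective]
  -- the fixed spaces of distinct points meet in `C0`
  have hmeet : ∀ g h : X, g⁻¹ * h ∉ M → ∀ v ∈ fix φ (cj A g), v ∈ fix φ (cj A h) → v ∈ C0 := by
    intro g h hgh v hv hv'
    have htop : cj A g ⊔ cj A h = ⊤ := by
      have e := congrArg (fun H : Subgroup X => H.map (MulAut.conj g).toMonoidHom) (hgen _ hgh)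
      simp only [cj, Subgroup.map_sup, map_conj_mul, mul_inv_cancel_left] at e
      rw [Subgroup.map_top_of_surjective (MulAut.conj g).toMonoidHom (MulAut.conj g).surjective] at e
      exact e
    have hle : cj A g ⊔ cj A h ≤ (⊤ : Subgroup X) ⊓
        { carrier := {x | φ x v = v}
          one_mem' := by simp
          mul_mem' := fun {x y} hx hy => by
            show φ (x * y) v = v
            rw [map_mul, MulAut.mul_apply, hy, hx]
          inv_mem' := fun {x} hx => by
            show φ x⁻¹ v = v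
            conv_lhs => rw [← (hx : φ x v = v)]
            rw [map_inv, MulAut.inv_apply_self] } :=
      le_inf le_top (sup_le (fun x hx => hv x hx) (fun x hx => hv' x hx))
    intro x _
    exact (hle (htop ▸ Subgroup.mem_top x)).2
  have h1 : cj A 1 = A := by
    ext x; simp [cj]
  obtain ⟨v0, hv0, hv0C⟩ : ∃ v ∈ fix φ (cj A g), v ∉ C0 := by
    by_contra h
    push Not at h
    have hPC : P ≤ C0 := by
      have e1 : C0 = fix φ (cj A g) := le_antisymm (hC0 g) h
      refine (Subgroup.eq_of_le_of_card_ge (fix_anti le_top : C0 ≤ P) ?_).ge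
      show Nat.card P ≤ Nat.card C0
      rw [e1, hcard]
    let N : Subgroup X :=
      { carrier := {x | ∀ v : V, φ x v / v ∈ C0}
        one_mem' := fun v => by simp
        mul_mem' := fun {x y} hx hy v => by
          have e : φ (x * y) v / v = φ x (φ y v) / φ y v * (φ y v / v) := by
            rw [map_mul, MulAut.mul_apply, div_mul_div_cancel]
          rw [e]
          exact C0.mul_mem (hx _) (hy v)
        inv_mem' := fun {x} hx v => by
          have := C0.inv_mem (hx (φ x⁻¹ v))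
          simpa [map_inv] using this }
    have hNn : N.Normal := ⟨fun x hx y v => by
      have e : φ (y * x * y⁻¹) v / v = φ y (φ x (φ y⁻¹ v) / φ y⁻¹ v) := by
        rw [map_div, map_mul, map_mul, MulAut.mul_apply, MulAut.mul_apply, map_inv, MulAut.apply_inv_self]
      rw [e, (hx (φ y⁻¹ v)) y (Subgroup.mem_top y)]
      exact hx _⟩
    have hN : N ≤ Cfsg.pCore 2 X := by
      refine le_pCore (isPGroup_of_sq fun x hx => hc.inj (MulEquiv.ext fun v => ?_))
      rw [map_one, MulAut.one_apply, map_mul, MulAut.mul_apply]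
      have h2 := hx v x (Subgroup.mem_top x)
      rw [map_div, div_eq_iff_eq_mul] at h2
      rw [h2, div_mul_eq_mul_div, hc.two, one_div]
      exact inv_eq_of_mul_eq_one_right (hc.two v)
    exact hA (le_bot_iff.1 (hR ▸ le_trans (show A ≤ N from fun a ha v => hPC (ho.quad a ha v)) hN))
  have hg1 : g⁻¹ * 1 ∉ M := fun h => hg (by simpa using h)
  -- `|P| ≥ |A| |C0|`
  have hPbig : Nat.card A * Nat.card C0 ≤ Nat.card P := by
    rw [← Nat.card_prod]
    refine Nat.card_le_card_of_injective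
      (fun ac : A × C0 => (⟨φ ac.1 v0 / v0 * ac.2, P.mul_mem (ho.quad ac.1 ac.1.2 v0)
        ((fix_anti le_top : C0 ≤ P) ac.2.2)⟩ : P)) ?_
    rintro ⟨a, c⟩ ⟨b, d⟩ e
    have e' : φ a v0 / v0 * (c : V) = φ b v0 / v0 * (d : V) := congrArg Subtype.val e
    have hab : a = b := by
      by_contra hne
      have hnot : ((a : X) * g)⁻¹ * ((b : X) * g) ∉ M := by
        intro hm
        refine hne (Subtype.ext (inv_mul_eq_one.1 ?_))
        refine hSE g hg ((a : X)⁻¹ * b) (M.mul_mem (M.inv_mem (hAM a.2)) (hAM b.2)) ?_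
          (ho.sq _ (A.mul_mem (A.inv_mem a.2) b.2))
        simpa [mul_assoc] using hm
      have hmemv : ∀ a : A, φ a v0 ∈ fix φ (cj A ((a : X) * g)) := by
        intro a
        rw [cj, ← map_conj_mul, fix_map_conj]
        exact ⟨v0, hv0, rfl⟩
      have e2 : φ a v0 = φ b v0 * ((d : V) / c) := by
        rw [eq_comm, ← mul_div_assoc, div_eq_iff_eq_mul]
        rw [div_mul_eq_mul_div, div_mul_eq_mul_div, div_left_inj] at e'
        exact e'.symm
      have h3 : φ a v0 ∈ fix φ (cj A ((b : X) * g)) := by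
        rw [e2]
        exact Subgroup.mul_mem _ (hmemv b) (hC0 _ (C0.div_mem d.2 c.2))
      have h4 := hmeet _ _ hnot _ (hmemv a) h3
      refine hv0C ?_
      have := h4 ((a : X)⁻¹) (Subgroup.mem_top _)
      rw [map_inv, MulAut.inv_apply_self] at this
      rwa [this]
    subst hab
    exact Prod.ext rfl (Subtype.ext (mul_left_cancel e'))
  have hVsmall : Nat.card V ≤ Nat.card A * Nat.card P := by
    have h := ho.best ⊥ bot_le
    rwa [Subgroup.card_bot, one_mul, show fix φ (⊥ : Subgroup X) = ⊤ from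
      eq_top_iff.2 fun v _ a ha => by rw [Subgroup.mem_bot.1 ha, map_one, MulAut.one_apply],
      Subgroup.card_top] at h
  have hA2 : 2 ≤ Nat.card A := (Subgroup.one_lt_card_iff_ne_bot A).2 hA
  -- at most `|A| + 1` points
  have hcover : ∀ t : X, t ∉ M → ∃ a ∈ A, (a * g)⁻¹ * t ∈ M := by
    intro t ht
    by_contra h
    push Not at h
    let rep : Option (Option A) → X := fun o => o.elim t (fun o => o.elim 1 fun a => (a : X) * g)
    have hdis : ∀ i j, i ≠ j → (rep i)⁻¹ * rep j ∉ M := by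
      have hsym : ∀ x y : X, x⁻¹ * y ∉ M → y⁻¹ * x ∉ M := fun x y h1 h2 => h1 (by
        simpa using M.inv_mem h2)
      have hAg : ∀ a : A, (1 : X)⁻¹ * ((a : X) * g) ∉ M := by
        intro a h1
        rw [inv_one, one_mul] at h1
        exact hg (by simpa using M.mul_mem (M.inv_mem (hAM a.2)) h1)
      have hAA : ∀ a b : A, a ≠ b → ((a : X) * g)⁻¹ * ((b : X) * g) ∉ M := by
        intro a b hne hm
        refine hne (Subtype.ext (inv_mul_eq_one.1 ?_))
        refine hSE g hg ((a : X)⁻¹ * b) (M.mul_mem (M.inv_mem (hAM a.2)) (hAM b.2)) ?_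
          (ho.sq _ (A.mul_mem (A.inv_mem a.2) b.2))
        simpa [mul_assoc] using hm
      have ht1 : (1 : X)⁻¹ * t ∉ M := by simpa using ht
      rintro (_ | _ | a) (_ | _ | b) hij
      · exact absurd rfl hij
      · exact hsym _ _ ht1
      · exact hsym _ _ (h b b.2)
      · exact ht1
      · exact absurd rfl hij
      · exact hAg b
      · exact h a a.2
      · exact hsym _ _ (hAg a)
      · exact hAA a b fun e => hij (by rw [e])
    have hinj : Nat.card (Option (Option A) × {v : P // (v : V) ∉ C0}) + Nat.card C0 ≤ Nat.card V := by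
      rw [← Nat.card_sum]
      have hmove : ∀ i (v : {v : P // (v : V) ∉ C0}), φ (rep i) (v.1 : V) ∈ fix φ (cj A (rep i)) ∧
          φ (rep i) (v.1 : V) ∉ C0 := by
        intro i v
        refine ⟨by rw [cj, fix_map_conj]; exact ⟨_, v.1.2, rfl⟩, fun hC => v.2 ?_⟩
        have := hC (rep i)⁻¹ (Subgroup.mem_top _)
        rw [map_inv, MulAut.inv_apply_self] at this
        rwa [this]
      refine Nat.card_le_card_of_injective
        (Sum.elim (fun iv => φ (rep iv.1) (iv.2.1 : V)) (fun c : C0 => (c : V))) ?_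
      rintro (⟨i, v⟩ | c) (⟨j, w⟩ | d) e <;> simp only [Sum.elim_inl, Sum.elim_inr] at e
      · have hij : i = j := by
          by_contra hne
          exact (hmove i v).2 (hmeet _ _ (hdis i j hne) _ (hmove i v).1 (e ▸ (hmove j w).1))
        subst hij
        rw [Subtype.ext (Subtype.ext ((φ (rep i)).injective e))]
      · exact absurd (e ▸ d.2) (hmove i v).2
      · exact absurd (e ▸ c.2) (hmove j w).2
      · rw [Subtype.ext e]
    have hPsplit : Nat.card {v : P // (v : V) ∉ C0} + Nat.card C0 = Nat.card P := by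
      classical
      have e : Nat.card {v : P // (v : V) ∈ C0} = Nat.card C0 := Nat.card_congr
        { toFun := fun v => ⟨v.1, v.2⟩
          invFun := fun c => ⟨⟨c, (fix_anti le_top : C0 ≤ P) c.2⟩, c.2⟩
          left_inv := fun v => rfl
          right_inv := fun c => rfl }
      rw [← e, add_comm, ← Nat.card_sum]
      exact Nat.card_congr (Equiv.sumCompl _)
    rw [Nat.card_prod, Finite.card_option, Finite.card_option] at hinj
    have hc0 : 0 < Nat.card C0 := Nat.card_pos
    nlinarith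
  -- the involution pair
  obtain ⟨⟨a0, ha0⟩, ha01'⟩ := Subgroup.ne_bot_iff_exists_ne_one.1 hA
  have ha01 : a0 ≠ 1 := fun e => ha01' (Subtype.ext e)
  set t := g * a0 * g⁻¹ with htdef
  have htt : t * t = 1 := by
    calc t * t = g * (a0 * a0) * g⁻¹ := by rw [htdef]; group
      _ = 1 := by rw [ho.sq a0 ha0]; group
  have ht1 : t ≠ 1 := fun e => ha01 (by
    calc a0 = g⁻¹ * t * g := by rw [htdef]; group
      _ = 1 := by rw [e]; group)
  have hgtg : g⁻¹ * t * g = a0 := by rw [htdef]; group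
  have htM : t ∉ M := fun h => ht1 (hSE g hg t h (by rw [hgtg]; exact hAM ha0) htt)
  obtain ⟨a, ha, ham⟩ := hcover t htM
  have haa : a * a = 1 := ho.sq a ha
  have hai : a⁻¹ = a := inv_eq_of_mul_eq_one_right haa
  have hti : t⁻¹ = t := inv_eq_of_mul_eq_one_right htt
  have ha1 : a ≠ 1 := by
    intro e
    rw [e, one_mul] at ham
    -- `g⁻¹ t ∈ M` would put `t` in `M`
    have h1 : g⁻¹ * t * g * (g⁻¹ * t)⁻¹ ∈ M → False := by
      intro h
      refine hg ?_
      have h2 : g⁻¹ * t * g * (g⁻¹ * t)⁻¹ = a0 * (t⁻¹ * g) := by rw [hgtg]; group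
      rw [h2, hti] at h
      have h3 : t * g ∈ M := by simpa using M.mul_mem (M.inv_mem (hAM ha0)) h
      have h4 : t * g = g * a0 := by rw [htdef]; group
      rw [h4] at h3
      simpa using M.mul_mem h3 (M.inv_mem (hAM ha0))
    exact h1 (M.mul_mem (hgtg.symm ▸ hAM ha0) (M.inv_mem ham))
  set u := a * t with hu
  have hu1 : u ≠ 1 := by
    intro e
    have hat : a = t := by rw [hu, ← hti, mul_inv_eq_one] at e; exact e
    exact htM (hat ▸ hAM ha)
  have hau : a * u * a⁻¹ = u⁻¹ := by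
    rw [hu, mul_inv_rev, hai, hti, ← mul_assoc, haa, one_mul]
  -- the order of `u` is odd
  have hodd : ¬ 2 ∣ orderOf u := by
    intro h2
    set m := orderOf u / 2
    set w := u ^ m with hwdef
    have hpos : 0 < orderOf u := orderOf_pos u
    have hw1 : w ≠ 1 := fun e => by
      have := Nat.le_of_dvd (Nat.div_pos (Nat.le_of_dvd hpos h2) two_pos) (orderOf_dvd_of_pow_eq_one e)
      omega
    have hw2 : w * w = 1 := by
      rw [hwdef, ← pow_add, ← two_mul, Nat.mul_div_cancel' h2, pow_orderOf_eq_one]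
    have hwi : w⁻¹ = w := inv_eq_of_mul_eq_one_right hw2
    have hwa : a * w = w * a := by
      have h3 : a * w * a⁻¹ = w := by rw [hwdef, ← conj_pow, hau, inv_pow, ← hwdef, hwi]
      rwa [mul_inv_eq_iff_eq_mul] at h3
    have hwM : w ∈ M := hcent a (hAM ha) haa ha1 w hwa.symm
    have hwu : u * w = w * u := (Commute.self_pow u m).eq
    have htu : t = a * u := by rw [hu, ← mul_assoc, haa, one_mul]
    refine htM (hcent w hwM hw2 hw1 t ?_)
    rw [htu, mul_assoc, hwu, ← mul_assoc, hwa, mul_assoc]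
  -- `u` permutes three points cyclically
  have key : u * u * u ∈ M := by
    -- `t g M = g M`, `t M = a g M`, `a M = M`
    have p1 : g⁻¹ * t * g ∈ M := hgtg.symm ▸ hAM ha0
    have p2 : (a * g)⁻¹ * t ∈ M := ham
    have e : u * u * u = (a : X) * (t * (a * g)) * (g⁻¹ * t * g) * ((a * g)⁻¹ * t) := by
      simp [hu, mul_assoc, hai]
    have p3 : t * (a * g) ∈ M := by
      have : (t * (a * g)) = ((a * g)⁻¹ * t)⁻¹ := by rw [mul_inv_rev, inv_inv, hti]
      rw [this]; exact M.inv_mem p2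
    rw [e]
    exact M.mul_mem (M.mul_mem (M.mul_mem (hAM ha) p3) p1) p2
  have hu6 : u ^ 3 = 1 := by
    have hco : (orderOf u).Coprime 2 := (Nat.prime_two.coprime_iff_not_dvd.2 hodd).symm
    have hmem : (u ^ 3)⁻¹ * (u ^ 3)⁻¹ ∈ O := by
      have e : (u ^ 3)⁻¹ * (u ^ 3)⁻¹ = a * ((u ^ 3) * a * (u ^ 3)⁻¹) := by
        have h3 : a * u ^ 3 * a⁻¹ = (u ^ 3)⁻¹ := by rw [← conj_pow, hau, inv_pow]
        calc (u ^ 3)⁻¹ * (u ^ 3)⁻¹ = (a * u ^ 3 * a⁻¹) * (u ^ 3)⁻¹ := by rw [h3]
          _ = _ := by rw [hai]; group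
      rw [e]
      refine O.mul_mem (hAO ha) (hOn _ ?_ a (hAO ha))
      rwa [pow_succ, sq]
    obtain ⟨k, hk⟩ := hO2 ⟨_, hmem⟩
    have hk' : ((u ^ 3)⁻¹ * (u ^ 3)⁻¹) ^ 2 ^ k = 1 := congrArg Subtype.val hk
    rw [← mul_inv_rev, inv_pow, inv_eq_one, ← sq, ← pow_mul, ← pow_mul] at hk'
    refine orderOf_dvd_iff_pow_eq_one.1 (Nat.Coprime.dvd_of_dvd_mul_right ?_
      (orderOf_dvd_of_pow_eq_one hk'))
    exact (hco.mul_right (hco.pow_right k))
  exact hc.three u a (orderOf_eq_prime hu6 hu1) ⟨1, by rw [pow_one, sq, haa]⟩ hau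

end minimal

end step

theorem good : ∀ (X : Type u) [Group X] [Finite X], Good.{u, v} X := by
  intro X _ _
  induction hn : Nat.card X using Nat.strong_induction_on generalizing X with
  | _ n ih =>
    subst hn
    intro V _ _ φ A hc ho
    by_cases hR : Cfsg.pCore 2 X = ⊥
    · by_contra hA
      exact false_of_minimal (fun Y _ _ hY => ih _ hY Y rfl) hc ho (fun e => hA (e ▸ bot_le)) hR
    · exact of_ne_bot (fun Y _ _ hY => ih _ hY Y rfl) hc ho hR

/-- Quadratic best offenders lie in the 2-core. -/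
theorem le_pCore_of_offender [Finite X] [Finite V] {φ : X →* MulAut V} {A : Subgroup X}
    (hc : Ctx φ) (ho : Off φ A) : A ≤ Cfsg.pCore 2 X :=
  good X V φ A hc ho

end CfsgLib.OffenderTwo
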