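import Mathlib
import Cfsg.Agent.Lib.OmegaList

/-!
Orthogonal sums of quadratic forms and their reflections.
-/

set_option autoImplicit false

namespace CfsgLib.OmegaSum

open QuadraticMap CfsgLib.OmegaList
open scoped Matrix

variable {F : Type*} [Field F] {ι κ : Type} [Fintype ι] [DecidableEq ι] [Fintype κ] [DecidableEq κ]
  (Q₁ : QuadraticForm F (ι → F)) (Q₂ : QuadraticForm F (κ → F))

/-- The orthogonal sum. -/
def Qs : QuadraticForm F (ι ⊕ κ → F) :=
  Q₁.comp (LinearMap.funLeft F F Sum.inl) + Q₂.comp (LinearMap.funLeft F F Sum.inr)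

omit [Fintype ι] [DecidableEq ι] [Fintype κ] [DecidableEq κ] in
theorem Qs_apply (v : ι ⊕ κ → F) : Qs Q₁ Q₂ v = Q₁ (v ∘ Sum.inl) + Q₂ (v ∘ Sum.inr) := by
  simp [Qs, LinearMap.funLeft]

omit [Fintype ι] [DecidableEq ι] [Fintype κ] [DecidableEq κ] in
theorem polar_Qs (u v : ι ⊕ κ → F) : polar (Qs Q₁ Q₂) u v =
    polar Q₁ (u ∘ Sum.inl) (v ∘ Sum.inl) + polar Q₂ (u ∘ Sum.inr) (v ∘ Sum.inr) := by
  simp only [polar, Qs_apply]
  rw [show (u + v) ∘ Sum.inl = u ∘ Sum.inl + v ∘ Sum.inl from rfl,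
    show (u + v) ∘ Sum.inr = u ∘ Sum.inr + v ∘ Sum.inr from rfl]
  ring

omit [Fintype ι] [DecidableEq ι] [Fintype κ] [DecidableEq κ] in
theorem Qs_nondeg (h₁ : (polarBilin Q₁).Nondegenerate) (h₂ : (polarBilin Q₂).Nondegenerate) :
    (polarBilin (Qs Q₁ Q₂)).Nondegenerate := by
  have hl : ∀ u : ι ⊕ κ → F, (∀ v, polar (Qs Q₁ Q₂) u v = 0) → u = 0 := by
    intro u h
    have e1 : u ∘ Sum.inl = 0 := h₁.1 _ fun y => by
      have := h (Sum.elim y 0)
      rw [polar_Qs, Sum.elim_comp_inl, Sum.elim_comp_inr, polar_zero_right, add_zero] at this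
      exact this
    have e2 : u ∘ Sum.inr = 0 := h₂.1 _ fun y => by
      have := h (Sum.elim 0 y)
      rw [polar_Qs, Sum.elim_comp_inl, Sum.elim_comp_inr, polar_zero_right, zero_add] at this
      exact this
    funext s
    rcases s with s | s
    · exact congrFun e1 s
    · exact congrFun e2 s
  exact ⟨fun u h => hl u h, fun v h => hl v fun u => (polar_comm _ v u).trans (h u)⟩

omit [Fintype ι] [DecidableEq ι] [Fintype κ] [DecidableEq κ] in
theorem Qs_left (v : ι → F) : Qs Q₁ Q₂ (Sum.elim v 0) = Q₁ v := by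
  rw [Qs_apply, Sum.elim_comp_inl, Sum.elim_comp_inr, QuadraticMap.map_zero, add_zero]

theorem refl_left (v : ι → F) :
    Cfsg.reflectionMatrix (⇑(Qs Q₁ Q₂)) (Sum.elim v 0) =
      Matrix.fromBlocks (Cfsg.reflectionMatrix (⇑Q₁) v) 0 0 1 := by
  refine Matrix.ext_of_mulVec_single fun s => ?_
  rw [CfsgLib.PolarVec.reflection_mulVec, Qs_left, polar_Qs, Sum.elim_comp_inl, Sum.elim_comp_inr,
    polar_zero_left, add_zero, Matrix.fromBlocks_mulVec]
  funext a
  rcases a with a | a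
  · simp only [Sum.elim_inl, Matrix.zero_mulVec, add_zero, CfsgLib.PolarVec.reflection_mulVec]
    simp
  · simp only [Sum.elim_inr, Matrix.zero_mulVec, zero_add, Matrix.one_mulVec]
    simp

theorem RP_left : ∀ vs : List (ι → F),
    RP (Qs Q₁ Q₂) (vs.map fun v => Sum.elim v 0) = Matrix.fromBlocks (RP Q₁ vs) 0 0 1 := by
  intro vs
  induction vs with
  | nil => simp [RP, Matrix.fromBlocks_one]
  | cons v t ih =>
    have e1 : RP (Qs Q₁ Q₂) ((v :: t).map fun w => Sum.elim w 0) =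
        Cfsg.reflectionMatrix (⇑(Qs Q₁ Q₂)) (Sum.elim v 0) * RP (Qs Q₁ Q₂) (t.map fun w => Sum.elim w 0) := by
      simp [RP]
    have e2 : RP Q₁ (v :: t) = Cfsg.reflectionMatrix (⇑Q₁) v * RP Q₁ t := by simp [RP]
    rw [e1, ih, refl_left, Matrix.fromBlocks_multiply, e2]
    simp

omit [Fintype ι] [DecidableEq ι] [Fintype κ] [DecidableEq κ] in
theorem QP_left : ∀ vs : List (ι → F), QP (Qs Q₁ Q₂) (vs.map fun v => Sum.elim v 0) = QP Q₁ vs := by
  intro vs
  simp [QP, List.map_map, Function.comp_def, Qs_left]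

end CfsgLib.OmegaSum
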