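/-
A module spanned by the orbit of a vector fixed by a Sylow subgroup, for p-soluble groups.
-/
import Mathlib
import Cfsg.Agent.Lib.TIHall.Basic

set_option autoImplicit false

namespace CfsgLib.OrbitSpan

universe u v w

variable {k : Type u} {V : Type v} {H : Type w} [Field k] [AddCommGroup V] [Module k V] [Group H]

/-- The stabiliser of a vector. -/
def stab (ρ : Representation k H V) (v : V) : Subgroup H where
  carrier := {h | ρ h v = v}
  one_mem' := by simp
  mul_mem' {a b} (ha : ρ a v = v) (hb : ρ b v = v) := by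
    show ρ (a * b) v = v
    rw [map_mul, Module.End.mul_apply, hb, ha]
  inv_mem' {a} (ha : ρ a v = v) := by
    show ρ a⁻¹ v = v
    conv_lhs => rw [← ha]
    rw [← Module.End.mul_apply, ← map_mul, inv_mul_cancel, map_one, Module.End.one_apply]

variable [Finite H]

theorem card_orbit (ρ : Representation k H V) (v : V) :
    Nat.card {u : V | ∃ h : H, ρ h v = u} = (stab ρ v).index := by
  classical
  let f : H ⧸ stab ρ v → {u : V | ∃ h : H, ρ h v = u} := fun c =>
    Quotient.liftOn' c (fun h => ⟨ρ h v, h, rfl⟩) (fun a b hab => by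
      rw [QuotientGroup.leftRel_apply] at hab
      refine Subtype.ext ?_
      show ρ a v = ρ b v
      have h1 : ρ (a⁻¹ * b) v = v := hab
      conv_lhs => rw [← h1]
      rw [← Module.End.mul_apply, ← map_mul, mul_inv_cancel_left])
  refine (Nat.card_congr (Equiv.ofBijective f ⟨?_, ?_⟩)).symm
  · intro c d h
    induction c using QuotientGroup.induction_on with
    | H a =>
      induction d using QuotientGroup.induction_on with
      | H b =>
        have h1 : ρ a v = ρ b v := congrArg Subtype.val h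
        refine QuotientGroup.eq.mpr ?_
        show ρ (a⁻¹ * b) v = v
        rw [map_mul, Module.End.mul_apply, ← h1, ← Module.End.mul_apply, ← map_mul, inv_mul_cancel, map_one,
          Module.End.one_apply]
  · rintro ⟨_, h, rfl⟩
    exact ⟨QuotientGroup.mk h, rfl⟩

/-- Two subgroups of coprime index factorise a group. -/
theorem mul_of_coprime_index {G : Type w} [Group G] [Finite G] (X Y : Subgroup G) (h : X.index.Coprime Y.index) (g : G) :
    ∃ x ∈ X, ∃ y ∈ Y, x * y = g := by
  classical
  have hle : Y.index ≤ Y.relIndex X := by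
    refine Nat.le_of_dvd (Nat.pos_of_ne_zero Subgroup.index_ne_zero_of_finite) ?_
    refine h.symm.dvd_of_dvd_mul_right ?_
    rw [← Subgroup.inf_relIndex_right, Subgroup.relIndex_mul_index inf_le_right]
    exact Subgroup.index_dvd_of_le inf_le_left
  let f : X ⧸ Y.subgroupOf X → G ⧸ Y := fun c =>
    Quotient.liftOn' c (fun x => QuotientGroup.mk (x : G)) (fun a b hab => by
      rw [QuotientGroup.leftRel_apply] at hab
      exact QuotientGroup.eq.mpr hab)
  have hf : Function.Injective f := by
    intro c d hcd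
    induction c using QuotientGroup.induction_on with
    | H a =>
      induction d using QuotientGroup.induction_on with
      | H b => exact QuotientGroup.eq.mpr (QuotientGroup.eq.mp hcd : (a : G)⁻¹ * b ∈ Y)
  obtain ⟨c, hc⟩ := (Function.Injective.bijective_of_nat_card_le hf hle).2 (QuotientGroup.mk g)
  induction c using QuotientGroup.induction_on with
  | H a => exact ⟨a, a.2, (a : G)⁻¹ * g, QuotientGroup.eq.mp hc, by group⟩

/-- The average over the cosets of `M` in `X`. -/
noncomputable def avg (ρ : Representation k H V) (M X : Subgroup H) : V →ₗ[k] V :=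
  haveI := Fintype.ofFinite (X ⧸ M.subgroupOf X)
  ((M.relIndex X : k))⁻¹ • ∑ c : X ⧸ M.subgroupOf X, ρ (c.out : H)

theorem rep_indep (ρ : Representation k H V) {M : Subgroup H} {v : V} (hv : ∀ m ∈ M, ρ m v = v) {a b : H}
    (h : a⁻¹ * b ∈ M) : ρ a v = ρ b v := by
  conv_lhs => rw [← hv _ h]
  rw [← Module.End.mul_apply, ← map_mul, mul_inv_cancel_left]

theorem avg_fixed (ρ : Representation k H V) (M X : Subgroup H) {v : V} (hv : ∀ m ∈ M, ρ m v = v) {g : H} (hg : g ∈ X) :
    ρ g (avg ρ M X v) = avg ρ M X v := by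
  classical
  letI := Fintype.ofFinite (X ⧸ M.subgroupOf X)
  simp only [avg, LinearMap.smul_apply, LinearMap.sum_apply, map_smul, map_sum]
  congr 1
  refine Fintype.sum_equiv (MulAction.toPerm (⟨g, hg⟩ : X)) _ _ fun c => ?_
  rw [← Module.End.mul_apply, ← map_mul]
  refine rep_indep ρ hv ?_
  have h1 : (QuotientGroup.mk ((⟨g, hg⟩ : X) * c.out) : X ⧸ M.subgroupOf X) =
      QuotientGroup.mk (((⟨g, hg⟩ : X) • c).out) := by
    rw [QuotientGroup.out_eq']
    conv_rhs => rw [← QuotientGroup.out_eq' c]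
    rfl
  exact (QuotientGroup.eq.mp h1 : _)

theorem avg_of_fixed (ρ : Representation k H V) (M X : Subgroup H) {v : V} (hv : ∀ x ∈ X, ρ x v = v)
    (hne : (M.relIndex X : k) ≠ 0) : avg ρ M X v = v := by
  classical
  letI := Fintype.ofFinite (X ⧸ M.subgroupOf X)
  simp only [avg, LinearMap.smul_apply, LinearMap.sum_apply]
  rw [Finset.sum_congr rfl fun c _ => hv _ c.out.2, Finset.sum_const, Finset.card_univ,
    ← Nat.card_eq_fintype_card, ← Nat.cast_smul_eq_nsmul k, smul_smul]
  show ((M.relIndex X : k)⁻¹ * (M.relIndex X : k)) • v = v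
  rw [inv_mul_cancel₀ hne, one_smul]

theorem avg_comm (ρ : Representation k H V) (M X : Subgroup H) (hM : M.Normal) (hX : X.Normal) (g : H) {v : V}
    (hv : ∀ m ∈ M, ρ m v = v) : avg ρ M X (ρ g v) = ρ g (avg ρ M X v) := by
  classical
  letI := Fintype.ofFinite (X ⧸ M.subgroupOf X)
  simp only [avg, LinearMap.smul_apply, LinearMap.sum_apply, map_smul, map_sum]
  congr 1
  let σ : X ≃* X :=
    { toFun := fun x => ⟨g⁻¹ * x * g, by simpa using hX.conj_mem _ x.2 g⁻¹⟩
      invFun := fun x => ⟨g * x * g⁻¹, hX.conj_mem _ x.2 g⟩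
      left_inv := fun x => Subtype.ext (by group)
      right_inv := fun x => Subtype.ext (by group)
      map_mul' := fun x y => Subtype.ext (by simp [mul_assoc]) }
  have : (M.subgroupOf X).Normal := Subgroup.normal_subgroupOf
  have hσ : (M.subgroupOf X).map σ.toMonoidHom = M.subgroupOf X := by
    ext x
    rw [Subgroup.mem_map]
    constructor
    · rintro ⟨y, hy, rfl⟩
      show g⁻¹ * (y : H) * g ∈ M
      simpa using hM.conj_mem _ hy g⁻¹
    · intro hx
      refine ⟨σ.symm x, ?_, σ.apply_symm_apply x⟩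
      show g * (x : H) * g⁻¹ ∈ M
      exact hM.conj_mem _ hx g
  let e := QuotientGroup.congr (M.subgroupOf X) (M.subgroupOf X) σ hσ
  refine Fintype.sum_equiv e.toEquiv _ _ fun c => ?_
  show ρ (c.out : H) (ρ g v) = ρ g (ρ ((e c).out : H) v)
  rw [← Module.End.mul_apply, ← map_mul, ← Module.End.mul_apply, ← map_mul]
  refine rep_indep ρ hv ?_
  have h1 : (QuotientGroup.mk (σ c.out) : X ⧸ M.subgroupOf X) = QuotientGroup.mk ((e c).out) := by
    rw [QuotientGroup.out_eq']
    conv_rhs => rw [← QuotientGroup.out_eq' c]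
    rfl
  have h2 : g⁻¹ * (c.out : H)⁻¹ * g * ((e c).out : H) ∈ M := by
    have := QuotientGroup.eq.mp h1
    simpa [σ, Subgroup.mem_subgroupOf, mul_assoc] using this
  simpa [mul_assoc] using h2

/-- The average only depends on the orbit. -/
theorem avg_eq_orbit (ρ : Representation k H V) (M X : Subgroup H) {v : V} (hv : ∀ m ∈ M, ρ m v = v)
    (hne : (M.relIndex X : k) ≠ 0) (O : Finset V) (hO : ∀ u, u ∈ O ↔ ∃ x ∈ X, ρ x v = u) :
    avg ρ M X v = ((O.card : k))⁻¹ • ∑ u ∈ O, u := by
  classical
  letI := Fintype.ofFinite (X ⧸ M.subgroupOf X)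
  let φ : X ⧸ M.subgroupOf X → V := fun c => ρ (c.out : H) v
  have hφ : ∀ (g : X) c, φ (g • c) = ρ (g : H) (φ c) := fun g c => by
    show ρ ((g • c).out : H) v = ρ (g : H) (ρ (c.out : H) v)
    rw [← Module.End.mul_apply, ← map_mul]
    refine rep_indep ρ hv ?_
    have h1 : (QuotientGroup.mk ((g • c).out) : X ⧸ M.subgroupOf X) = QuotientGroup.mk (g * c.out) := by
      rw [QuotientGroup.out_eq']
      conv_lhs => rw [← QuotientGroup.out_eq' c]
      rfl
    exact (QuotientGroup.eq.mp h1 : _)
  have hmaps : ∀ c ∈ (Finset.univ : Finset (X ⧸ M.subgroupOf X)), φ c ∈ O := fun c _ =>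
    (hO _).mpr ⟨c.out, c.out.2, rfl⟩
  have hv1 : ∀ c : X ⧸ M.subgroupOf X, c = QuotientGroup.mk 1 → φ c = v := fun c hc => by
    show ρ (c.out : H) v = v
    refine hv _ ?_
    have h1 : (QuotientGroup.mk (1 : X) : X ⧸ M.subgroupOf X) = QuotientGroup.mk c.out := by rw [QuotientGroup.out_eq', hc]
    simpa [Subgroup.mem_subgroupOf] using QuotientGroup.eq.mp h1
  have hfib : ∀ u ∈ O, (Finset.univ.filter fun c => φ c = u).card = (Finset.univ.filter fun c => φ c = v).card := by
    intro u hu
    obtain ⟨x, hx, rfl⟩ := (hO u).mp hu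
    refine (Finset.card_equiv (MulAction.toPerm (⟨x, hx⟩ : X)) fun c => ?_).symm
    simp only [Finset.mem_filter, Finset.mem_univ, true_and, MulAction.toPerm_apply, hφ]
    exact ⟨fun h => by rw [h], fun h => Function.LeftInverse.injective (g := ρ x⁻¹) (fun w => by
      rw [← Module.End.mul_apply, ← map_mul, inv_mul_cancel, map_one, Module.End.one_apply]) h⟩
  set r := (Finset.univ.filter fun c => φ c = v).card with hr
  have hcard : M.relIndex X = O.card * r := by
    show Nat.card (X ⧸ M.subgroupOf X) = _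
    rw [Nat.card_eq_fintype_card, ← Finset.card_univ, Finset.card_eq_sum_card_fiberwise hmaps,
      Finset.sum_congr rfl hfib, Finset.sum_const, smul_eq_mul]
  have hsum : ∑ c : X ⧸ M.subgroupOf X, φ c = r • ∑ u ∈ O, u := by
    rw [← Finset.sum_fiberwise_of_maps_to hmaps, Finset.smul_sum]
    refine Finset.sum_congr rfl fun u hu => ?_
    rw [Finset.sum_congr rfl (fun c hc => (Finset.mem_filter.mp hc).2), Finset.sum_const, hfib u hu]
  simp only [avg, LinearMap.smul_apply, LinearMap.sum_apply]
  show ((M.relIndex X : k))⁻¹ • ∑ c : X ⧸ M.subgroupOf X, φ c = _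
  rw [hcard, Nat.cast_mul] at hne
  rw [hsum, hcard, Nat.cast_mul, ← Nat.cast_smul_eq_nsmul k, smul_smul, mul_inv, mul_assoc,
    inv_mul_cancel₀ (right_ne_zero_of_mul hne), mul_one]

/-- Normal subgroups factorise over stabilisers of coprime index. -/
theorem normal_factor {D X Y : Subgroup H} [D.Normal] (h : X.index.Coprime Y.index) {g : H} (hg : g ∈ D) :
    ∃ x ∈ X ⊓ D, ∃ y ∈ Y ⊓ D, x * y = g := by
  obtain ⟨x, hx, y, hy, e⟩ := mul_of_coprime_index (X.subgroupOf D) (Y.subgroupOf D)
    ((h.coprime_dvd_left (CfsgLib.TIHall.relIndex_dvd_index_of_normal_right X D)).coprime_dvd_right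
      (CfsgLib.TIHall.relIndex_dvd_index_of_normal_right Y D)) ⟨g, hg⟩
  exact ⟨x, ⟨hx, x.2⟩, y, ⟨hy, y.2⟩, congrArg Subtype.val e⟩

end CfsgLib.OrbitSpan
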