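import Mathlib

/-!
Groups with the same order type (same number of elements of every order).
-/

set_option autoImplicit false

namespace CfsgLib.OrderType

universe u v
variable {G : Type u} {H : Type v} [Group G] [Group H] [Finite G] [Finite H]

theorem exists_equiv (hT : ∀ m : ℕ, Nat.card {g : G // orderOf g = m} = Nat.card {h : H // orderOf h = m}) :
    ∃ e : G ≃ H, ∀ g, orderOf (e g) = orderOf g := by
  let f : ∀ m, {g : G // orderOf g = m} ≃ {h : H // orderOf h = m} := fun m =>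
    Classical.choice (Finite.card_eq.mp (hT m))
  refine ⟨((Equiv.sigmaFiberEquiv orderOf).symm.trans (Equiv.sigmaCongrRight f)).trans
    (Equiv.sigmaFiberEquiv orderOf), fun g => ?_⟩
  exact (f (orderOf g) ⟨g, rfl⟩).2

theorem of_equiv {G : Type u} {H : Type v} [Group G] [Group H] (e : G ≃ H)
    (he : ∀ g, orderOf (e g) = orderOf g) (m : ℕ) :
    Nat.card {g : G // orderOf g = m} = Nat.card {h : H // orderOf h = m} :=
  Nat.card_congr (e.subtypeEquiv fun g => by rw [he])

/-- A normal Sylow subgroup contains exactly the `p`-elements. -/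
theorem mem_sylow_iff {p : ℕ} [Fact p.Prime] (P : Sylow p G) [(P : Subgroup G).Normal] (g : G) :
    g ∈ (P : Subgroup G) ↔ ∃ k : ℕ, orderOf g = p ^ k := by
  constructor
  · intro hg
    obtain ⟨k, hk⟩ := IsPGroup.iff_orderOf.mp P.isPGroup' ⟨g, hg⟩
    exact ⟨k, by rwa [Subgroup.orderOf_mk] at hk⟩
  · rintro ⟨k, hk⟩
    obtain ⟨Q, hQ⟩ := (IsPGroup.of_card (n := k) (by rw [Nat.card_zpowers, hk]) :
      IsPGroup p (Subgroup.zpowers g)).exists_le_sylow
    obtain ⟨x, hx⟩ := MulAction.exists_smul_eq G P Q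
    rw [← hx, Sylow.smul_eq_of_normal] at hQ
    exact hQ (Subgroup.mem_zpowers g)

theorem sylow_normal {p : ℕ} [Fact p.Prime] {e : G ≃ H} (he : ∀ g, orderOf (e g) = orderOf g)
    (P : Sylow p G) [(P : Subgroup G).Normal] (Q : Sylow p H) :
    (Q : Subgroup H).Normal ∧ ∀ g, e g ∈ (Q : Subgroup H) ↔ g ∈ (P : Subgroup G) := by
  have hc : Nat.card H = Nat.card G := (Nat.card_congr e).symm
  have hset : (Q : Set H) = {h : H | ∃ k : ℕ, orderOf h = p ^ k} := by
    refine Set.eq_of_subset_of_ncard_le (fun h hh => ?_) (le_of_eq ?_) (Set.toFinite _)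
    · obtain ⟨k, hk⟩ := IsPGroup.iff_orderOf.mp Q.isPGroup' ⟨h, hh⟩
      exact ⟨k, by rwa [Subgroup.orderOf_mk] at hk⟩
    · rw [← Nat.card_coe_set_eq, ← Nat.card_coe_set_eq]
      calc Nat.card {h : H | ∃ k : ℕ, orderOf h = p ^ k} = Nat.card (P : Subgroup G) :=
            (Nat.card_congr (e.subtypeEquiv fun g => by
              rw [mem_sylow_iff P g]; simp only [Set.mem_ofPred_eq, he])).symm
        _ = Nat.card (Q : Subgroup H) := by rw [P.card_eq_multiplicity, Q.card_eq_multiplicity, hc]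
  refine ⟨⟨fun x hx g => ?_⟩, fun g => ?_⟩
  · have h1 : x ∈ (Q : Set H) := hx
    show g * x * g⁻¹ ∈ (Q : Set H)
    rw [hset] at h1 ⊢
    obtain ⟨k, hk⟩ := h1
    refine ⟨k, ?_⟩
    rw [show g * x * g⁻¹ = MulAut.conj g x from rfl, MulEquiv.orderOf_eq, hk]
  · rw [mem_sylow_iff P g]
    show e g ∈ (Q : Set H) ↔ _
    rw [hset, Set.mem_ofPred_eq, he]

theorem orderOf_mk {p : ℕ} [hp : Fact p.Prime] (P : Sylow p G) [(P : Subgroup G).Normal] (g : G) :
    orderOf (g : G ⧸ (P : Subgroup G)) = ordCompl[p] (orderOf g) := by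
  have hnd : ¬ p ∣ orderOf (g : G ⧸ (P : Subgroup G)) := fun h => P.not_dvd_index
    (h.trans (by rw [Subgroup.index_eq_card]; exact orderOf_dvd_natCard _))
  refine Nat.dvd_antisymm (Nat.dvd_ordCompl_of_dvd_not_dvd
    (orderOf_map_dvd (QuotientGroup.mk' (P : Subgroup G)) g) hnd) ?_
  have h1 : g ^ orderOf (g : G ⧸ (P : Subgroup G)) ∈ (P : Subgroup G) := by
    rw [← QuotientGroup.eq_one_iff, QuotientGroup.mk_pow, pow_orderOf_eq_one]
  obtain ⟨k, hk⟩ := (mem_sylow_iff P _).mp h1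
  have h2 : orderOf g ∣ orderOf (g : G ⧸ (P : Subgroup G)) * p ^ k := orderOf_dvd_of_pow_eq_one (by
    rw [pow_mul, ← hk, pow_orderOf_eq_one])
  exact ((Nat.coprime_ordCompl hp.out (orderOf_pos g).ne').pow_left k).symm.dvd_of_dvd_mul_right
    ((Nat.ordCompl_dvd _ _).trans h2)

/-- Quotients by normal Sylow subgroups have the same order type. -/
theorem quotient {p : ℕ} [Fact p.Prime] {e : G ≃ H} (he : ∀ g, orderOf (e g) = orderOf g)
    (P : Sylow p G) [(P : Subgroup G).Normal] (Q : Sylow p H) [(Q : Subgroup H).Normal] (m : ℕ) :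
    Nat.card {x : G ⧸ (P : Subgroup G) // orderOf x = m} =
      Nat.card {y : H ⧸ (Q : Subgroup H) // orderOf y = m} := by
  have hc : Nat.card H = Nat.card G := (Nat.card_congr e).symm
  have h1 := Nat.card_congr (QuotientGroup.preimageMkEquivSubgroupProdSet (P : Subgroup G) {x | orderOf x = m})
  have h2 := Nat.card_congr (QuotientGroup.preimageMkEquivSubgroupProdSet (Q : Subgroup H) {x | orderOf x = m})
  rw [Nat.card_prod] at h1 h2
  have h3 : Nat.card ((QuotientGroup.mk : G → G ⧸ (P : Subgroup G)) ⁻¹' {x | orderOf x = m}) =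
      Nat.card ((QuotientGroup.mk : H → H ⧸ (Q : Subgroup H)) ⁻¹' {x | orderOf x = m}) :=
    Nat.card_congr (e.subtypeEquiv fun g => by
      simp only [Set.mem_preimage, Set.mem_ofPred_eq, orderOf_mk P, orderOf_mk Q, he])
  rw [h1, h2, show Nat.card (Q : Subgroup H) = Nat.card (P : Subgroup G) by
    rw [P.card_eq_multiplicity, Q.card_eq_multiplicity, hc]] at h3
  exact mul_left_cancel₀ Nat.card_pos.ne' h3

end CfsgLib.OrderType
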