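import Mathlib

/-!
Groups with a normal Sylow subgroup and cyclic quotient.
-/

set_option autoImplicit false

namespace CfsgLib.PByCyclic

universe u

variable {G : Type u} [Group G] [Finite G] {p : ℕ} [Fact p.Prime]

/-- A p-subgroup extended by a normalizing element has normal Sylow subgroups with cyclic quotient. -/
theorem of_sup_zpowers {K : Subgroup G} (hK : IsPGroup p K) {c : G} (hc : c ∈ Subgroup.normalizer (K : Set G)) :
    (∀ S : Sylow p ↥(K ⊔ Subgroup.zpowers c), (S : Subgroup ↥(K ⊔ Subgroup.zpowers c)).Normal) ∧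
      ∀ (S : Sylow p ↥(K ⊔ Subgroup.zpowers c)) [(S : Subgroup ↥(K ⊔ Subgroup.zpowers c)).Normal],
        IsCyclic (↥(K ⊔ Subgroup.zpowers c) ⧸ (S : Subgroup ↥(K ⊔ Subgroup.zpowers c))) := by
  set H := K ⊔ Subgroup.zpowers c with hH
  set K' := K.subgroupOf H with hK'
  haveI hN : K'.Normal := (Subgroup.normal_subgroupOf_iff_le_normalizer le_sup_left).mpr
    (sup_le Subgroup.le_normalizer (Subgroup.zpowers_le.mpr hc))
  set c' : H := ⟨c, Subgroup.mem_sup_right (Subgroup.mem_zpowers c)⟩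
  have hgen : ∀ x : H, ∃ k : ℤ, (c' ^ k)⁻¹ * x ∈ K' := fun x => by
    have h1 : (x : G) ∈ ((Subgroup.zpowers c ⊔ K : Subgroup G) : Set G) := by rw [sup_comm]; exact x.2
    rw [Subgroup.coe_mul_of_left_le_normalizer_right _ _ (Subgroup.zpowers_le.mpr hc)] at h1
    obtain ⟨a, ⟨k, rfl⟩, b, hb, hab⟩ := Set.mem_mul.mp h1
    refine ⟨k, Subgroup.mem_subgroupOf.mpr ?_⟩
    show (c ^ k)⁻¹ * (x : G) ∈ K
    rw [← hab]; simpa using hb
  haveI : IsCyclic (H ⧸ K') := isCyclic_iff_exists_zpowers_eq_top.mpr ⟨(c' : H ⧸ K'), eq_top_iff.mpr fun y _ => by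
    obtain ⟨x, rfl⟩ := QuotientGroup.mk'_surjective K' y
    obtain ⟨k, hk⟩ := hgen x
    exact ⟨k, by show (c' : H ⧸ K') ^ k = _; rw [← QuotientGroup.mk_zpow]; exact QuotientGroup.eq.mpr hk⟩⟩
  have hK'p : IsPGroup p K' := hK.comap_of_injective H.subtype Subtype.val_injective
  have hle : ∀ S : Sylow p H, K' ≤ (S : Subgroup H) := fun S => hK'p.le_sylow_of_normal S
  refine ⟨fun S => ⟨fun x hx g => ?_⟩, fun S _ => ?_⟩
  · have h1 : g * x * g⁻¹ * x⁻¹ ∈ K' := by
      rw [← QuotientGroup.eq_one_iff]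
      simp only [QuotientGroup.mk_mul, QuotientGroup.mk_inv]
      letI := IsCyclic.commGroup (α := H ⧸ K')
      rw [mul_comm (g : H ⧸ K') (x : H ⧸ K')]
      group
    have h2 := mul_mem (hle S h1) hx
    rwa [inv_mul_cancel_right] at h2
  · exact isCyclic_of_surjective (QuotientGroup.map K' (S : Subgroup H) (MonoidHom.id H) (hle S))
      (fun y => by
        obtain ⟨x, rfl⟩ := QuotientGroup.mk'_surjective (S : Subgroup H) y
        exact ⟨x, rfl⟩)

/-- A central cyclic Sylow subgroup with cyclic quotient gives a cyclic group. -/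
theorem isCyclic_of_central (S : Sylow p G) [(S : Subgroup G).Normal] [hS : IsCyclic (S : Subgroup G)]
    [hQ : IsCyclic (G ⧸ (S : Subgroup G))] (hcen : ∀ s ∈ (S : Subgroup G), ∀ g : G, Commute s g) : IsCyclic G := by
  obtain ⟨⟨s, hs⟩, hso⟩ := IsCyclic.exists_ofOrder_eq_natCard (α := (S : Subgroup G))
  obtain ⟨q, hq⟩ := IsCyclic.exists_ofOrder_eq_natCard (α := G ⧸ (S : Subgroup G))
  obtain ⟨x, rfl⟩ := QuotientGroup.mk'_surjective (S : Subgroup G) q
  rw [← Subgroup.index_eq_card] at hq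
  rw [Subgroup.orderOf_mk] at hso
  have hd : (S : Subgroup G).index ∣ orderOf x := hq ▸ orderOf_map_dvd (QuotientGroup.mk' (S : Subgroup G)) x
  have hy := orderOf_pow_orderOf_div (orderOf_pos x).ne' hd
  refine isCyclic_of_orderOf_eq_card (s * x ^ (orderOf x / (S : Subgroup G).index)) ?_
  rw [(hcen s hs _).orderOf_mul_eq_mul_orderOf_of_coprime (by rw [hso, hy]; exact S.card_coprime_index), hso, hy,
    Subgroup.card_mul_index]

end CfsgLib.PByCyclic
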