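import Mathlib
import Cfsg.Agent.Lib.MaximalClass
import Cfsg.Agent.S0063

/-! Groups of order `p ^ 4`, and the commutator index over a maximal subgroup. -/

namespace CfsgLib.PGroupFour

open scoped commutatorElement
open Subgroup

universe u

variable {P : Type u} [Group P] [Finite P] {p : ℕ} [hp : Fact p.Prime]

theorem center_index_ne (h : ∃ a b : P, a * b ≠ b * a) : (center P).index ≠ 1 ∧ (center P).index ≠ p := by
  obtain ⟨a, b, hab⟩ := h
  refine ⟨fun e => ?_, fun e => ?_⟩
  · rw [index_eq_one] at e
    exact hab ((mem_center_iff.1 (e.ge (mem_top b))) a)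
  · have hq : Nat.card (P ⧸ center P) = p := e
    have : IsCyclic (P ⧸ center P) := isCyclic_of_prime_card hq
    exact hab (commutative_of_cyclic_center_quotient (QuotientGroup.mk' (center P))
      (by rw [QuotientGroup.ker_mk']) a b)

theorem card_commutator_of_center_index (h : (center P).index = p ^ 2) : Nat.card (commutator P) = p := by
  classical
  have hnc : ∃ a b : P, a * b ≠ b * a := by
    by_contra hc
    push Not at hc
    have : center P = ⊤ := eq_top_iff.2 fun g _ => mem_center_iff.2 fun x => hc x g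
    rw [this, index_top] at h
    exact (Nat.one_lt_pow two_ne_zero hp.out.one_lt).ne h
  have hq : Nat.card (P ⧸ center P) = p ^ 2 := h
  have hexp : ∀ g : P, g ^ p ∈ center P := fun g => by
    by_contra hg
    obtain ⟨a, b, hab⟩ := hnc
    obtain ⟨j, hj, hj'⟩ := (Nat.dvd_prime_pow hp.out).mp (hq ▸ orderOf_dvd_natCard (g : P ⧸ center P))
    rcases Nat.lt_or_ge j 2 with hlt | hge
    · refine hg ((QuotientGroup.eq_one_iff _).mp ?_)
      rw [QuotientGroup.mk_pow]
      refine orderOf_dvd_iff_pow_eq_one.mp ?_
      rw [hj']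
      exact (pow_dvd_pow p (show j ≤ 1 by omega)).trans (dvd_of_eq (pow_one p))
    · have : IsCyclic (P ⧸ center P) :=
        isCyclic_of_orderOf_eq_card (g : P ⧸ center P) (by rw [hj', show j = 2 by omega, hq])
      exact hab (commutative_of_cyclic_center_quotient (QuotientGroup.mk' (center P))
        (by rw [QuotientGroup.ker_mk']) a b)
  obtain ⟨a, b, hab⟩ := hnc
  -- every element is congruent to a word in `a`, `b`
  let H : Subgroup P := closure {a, b} ⊔ center P
  have hH : H = ⊤ := by
    by_contra hne
    have ha : a ∉ center P := fun hz => hab (mem_center_iff.1 hz b).symm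
    have hle : zpowers a ⊔ center P ≤ H := sup_le_sup_right (zpowers_le.2 (subset_closure (by simp))) _
    have h1 : (center P).index = (center P).relIndex H * H.index := (relIndex_mul_index le_sup_right).symm
    obtain ⟨i, hi, hi'⟩ := (Nat.dvd_prime_pow hp.out).mp (h ▸ (Dvd.intro_left _ h1.symm : H.index ∣ (center P).index))
    have hi0 : i ≠ 0 := fun e => hne (index_eq_one.1 (by rw [hi', e, pow_zero]))
    have hrel : (center P).relIndex H = p := by
      rcases Nat.lt_or_ge i 2 with hlt | hge
      · rw [hi', show i = 1 by omega, h, pow_one, pow_two] at h1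
        exact (Nat.eq_of_mul_eq_mul_right hp.out.pos h1).symm
      · exfalso
        rw [hi', show i = 2 by omega, h] at h1
        have h2 : (center P).relIndex H = 1 := (mul_eq_right₀ (pow_ne_zero 2 hp.out.ne_zero)).1 h1.symm
        exact ha (relIndex_eq_one.1 h2 (hle (mem_sup_left (mem_zpowers a))))
    -- `H` is abelian
    have hK : IsCyclic (H ⧸ (center P).subgroupOf H) := isCyclic_of_prime_card (p := p) hrel
    have hcomm := commutative_of_cyclic_center_quotient (QuotientGroup.mk' ((center P).subgroupOf H))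
      (by
        rw [QuotientGroup.ker_mk']
        intro x hx
        rw [mem_center_iff]
        intro y
        exact Subtype.ext (mem_center_iff.1 (mem_subgroupOf.1 hx) y))
      ⟨a, mem_sup_left (subset_closure (by simp))⟩ ⟨b, mem_sup_left (subset_closure (by simp))⟩
    exact hab (congrArg Subtype.val hcomm)
  have hcz : ⁅a, b⁆ ∈ center P := by
    have hab' : ∀ x y : P ⧸ center P, x * y = y * x :=
      IsPGroup.commutative_of_card_eq_prime_sq hq
    rw [← QuotientGroup.eq_one_iff, commutatorElement_def]
    simp only [QuotientGroup.mk_mul, QuotientGroup.mk_inv]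
    rw [hab' (a : P ⧸ center P) b]
    group
  -- the commutator subgroup
  let D : Subgroup P := zpowers ⁅a, b⁆
  haveI hDn : D.Normal := ⟨fun z hz y => by rwa [mem_center_iff.1 ((zpowers_le.2 hcz) hz) y, mul_inv_cancel_right]⟩
  have hD : commutator P ≤ D := by
    rw [_root_.commutator_def, commutator_le]
    intro x _ y _
    have key : ∀ g : P, (g : P ⧸ D) ∈ center (P ⧸ D) := by
      have hab2 : (a : P ⧸ D) * b = b * a := by
        have : ((⁅a, b⁆ : P) : P ⧸ D) = 1 := (QuotientGroup.eq_one_iff _).2 (mem_zpowers _)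
        exact commutatorElement_eq_one_iff_mul_comm.1 this
      have hgen : ∀ u ∈ ({a, b} : Set P), H ≤ (centralizer {(u : P ⧸ D)}).comap (QuotientGroup.mk' D) := by
        intro u hu
        refine sup_le ((closure_le _).2 fun v hv => ?_) fun v hv => ?_
        · simp only [Set.mem_insert_iff, Set.mem_singleton_iff] at hu hv
          show (v : P ⧸ D) ∈ centralizer {(u : P ⧸ D)}
          rw [mem_centralizer_singleton_iff]
          rcases hu with rfl | rfl <;> rcases hv with rfl | rfl
          · rfl
          · exact hab2.symm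
          · exact hab2
          · rfl
        · show (v : P ⧸ D) ∈ centralizer {(u : P ⧸ D)}
          rw [mem_centralizer_singleton_iff, ← QuotientGroup.mk_mul, ← QuotientGroup.mk_mul, mem_center_iff.1 hv u]
      have hall : H ≤ (center (P ⧸ D)).comap (QuotientGroup.mk' D) := by
        refine sup_le ((closure_le _).2 fun u hu => ?_) fun v hv => ?_
        · show (u : P ⧸ D) ∈ center (P ⧸ D)
          rw [mem_center_iff]
          intro q
          obtain ⟨w, rfl⟩ := QuotientGroup.mk'_surjective D q
          exact mem_centralizer_singleton_iff.1 (hgen u hu (hH.ge (mem_top w)))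
        · show (v : P ⧸ D) ∈ center (P ⧸ D)
          rw [mem_center_iff]
          intro q
          obtain ⟨w, rfl⟩ := QuotientGroup.mk'_surjective D q
          show (w : P ⧸ D) * v = v * w
          rw [← QuotientGroup.mk_mul, ← QuotientGroup.mk_mul, mem_center_iff.1 hv w]
      exact fun g => hall (hH.ge (mem_top g))
    rw [← QuotientGroup.eq_one_iff]
    exact commutatorElement_eq_one_iff_mul_comm.2 (mem_center_iff.1 (key y) (x : P ⧸ D))
  have hpow : ⁅a, b⁆ ^ p = 1 := by
    have hcm : ∀ n : ℕ, ⁅a ^ n, b⁆ = ⁅a, b⁆ ^ n := by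
      intro n
      induction n with
      | zero => simp [commutatorElement_def]
      | succ n ih =>
        rw [pow_succ', pow_succ, ← ih]
        have h1 : ⁅a * a ^ n, b⁆ = a * ⁅a ^ n, b⁆ * a⁻¹ * ⁅a, b⁆ := by simp only [commutatorElement_def]; group
        rw [h1, ih, (mem_center_iff.1 (pow_mem hcz n) a), mul_inv_cancel_right]
    rw [← hcm, commutatorElement_eq_one_iff_mul_comm]
    exact (mem_center_iff.1 (hexp a) b).symm
  have hne1 : ⁅a, b⁆ ≠ 1 := fun e => hab (commutatorElement_eq_one_iff_mul_comm.1 e)
  have hmem : ⁅a, b⁆ ∈ commutator P := commutator_mem_commutator (mem_top a) (mem_top b)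
  rw [le_antisymm hD (zpowers_le.2 hmem), Nat.card_zpowers]
  exact orderOf_eq_prime hpow hne1

theorem card_commutator_iff (hP : Nat.card P = p ^ 4) :
    Nat.card (commutator P) = p ↔ (center P).index = p ^ 2 := by
  refine ⟨fun h => ?_, card_commutator_of_center_index⟩
  have hpg : IsPGroup p P := IsPGroup.of_card hP
  have hnc : ∃ a b : P, a * b ≠ b * a := by
    by_contra hc
    push Not at hc
    have : commutator P = ⊥ := by
      rw [_root_.commutator_def, commutator_eq_bot_iff_le_centralizer]
      exact fun x _ y _ => hc y x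
    rw [this, card_bot] at h
    exact hp.out.one_lt.ne h
  haveI hnt : Nontrivial P := Finite.one_lt_card_iff_nontrivial.1 (hP ▸ Nat.one_lt_pow (by norm_num) hp.out.one_lt)
  -- the commutator subgroup is central
  have hcen : commutator P ≤ center P := by
    haveI := hpg.isNilpotent
    rw [← commutator_top_right_eq_bot_iff_le_center]
    by_contra hne
    have hle : ⁅commutator P, (⊤ : Subgroup P)⁆ ≤ commutator P := commutator_le_left _ _
    have heq : ⁅commutator P, (⊤ : Subgroup P)⁆ = commutator P := by
      refine eq_of_le_of_card_ge hle ?_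
      rcases (hp.out.eq_one_or_self_of_dvd _ (h ▸ card_dvd_of_le hle)) with e | e
      · exact absurd (card_eq_one.1 e) hne
      · rw [e, h]
    have hstab : ∀ j, (⊤ : Subgroup P).lowerCentralSeries (j + 1) = commutator P := by
      intro j
      induction j with
      | zero => exact Subgroup.top_lowerCentralSeries_one
      | succ j ih => rw [Subgroup.lowerCentralSeries_succ, ih]; exact heq
    have hb := Subgroup.lowerCentralSeries_eq_bot_iff_nilpotencyClass_le.mpr
      (Nat.le_succ (Group.nilpotencyClass P))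
    rw [hstab] at hb
    rw [hb, card_bot] at h
    exact hp.out.one_lt.ne h
  obtain ⟨a, b, hab⟩ := hnc
  -- centralisers have index at most `p`
  have hidx : ∀ g : P, (centralizer ({g} : Set P)).index ≤ p := by
    intro g
    let f : P →* commutator P :=
      { toFun := fun x => ⟨⁅x, g⁆, commutator_mem_commutator (mem_top x) (mem_top g)⟩
        map_one' := Subtype.ext (commutatorElement_one_left g)
        map_mul' := fun x y => Subtype.ext (by
          show ⁅x * y, g⁆ = ⁅x, g⁆ * ⁅y, g⁆
          have hy := mem_center_iff.1 (hcen (commutator_mem_commutator (mem_top y) (mem_top g)))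
          have h1 : ⁅x * y, g⁆ = x * ⁅y, g⁆ * x⁻¹ * ⁅x, g⁆ := by simp only [commutatorElement_def]; group
          rw [h1, hy x, mul_inv_cancel_right, ← hy]) }
    have hker : f.ker = centralizer ({g} : Set P) := by
      ext x
      rw [MonoidHom.mem_ker, mem_centralizer_singleton_iff, Subtype.ext_iff]
      exact commutatorElement_eq_one_iff_mul_comm
    rw [← hker, index_ker, ← h]
    exact card_le_card_group _
  let M : Subgroup P := centralizer ({a} : Set P) ⊓ centralizer ({b} : Set P)
  have hM : M.index ≤ p ^ 2 := by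
    calc M.index ≤ (centralizer ({a} : Set P)).index * (centralizer ({b} : Set P)).index := index_inf_le
      _ ≤ p * p := Nat.mul_le_mul (hidx a) (hidx b)
      _ = p ^ 2 := (pow_two p).symm
  obtain ⟨i, hi, hi'⟩ := (Nat.dvd_prime_pow hp.out).mp (hP ▸ (center P).index_dvd_card)
  have hne := center_index_ne (p := p) ⟨a, b, hab⟩
  rw [hi'] at hne ⊢
  congr 1
  have hi01 : i ≠ 0 ∧ i ≠ 1 := ⟨fun e => hne.1 (by rw [e, pow_zero]), fun e => hne.2 (by rw [e, pow_one])⟩
  by_contra hi2
  have hi3 : 3 ≤ i := by omega
  have hzc : Nat.card (center P) * p ^ i = p ^ 4 := by rw [← hi', card_mul_index, hP]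
  -- the centre is the commutator subgroup
  have hi34 : i = 3 := by
    have hle := card_le_of_le hcen
    rw [h] at hle
    by_contra hne3
    rw [show i = 4 by omega] at hzc
    have : Nat.card (center P) = 1 := (mul_eq_right₀ (pow_ne_zero 4 hp.out.ne_zero)).1 hzc
    have := hp.out.one_lt
    omega
  subst hi34
  have hzM : center P ≤ M := fun z hz => ⟨mem_centralizer_singleton_iff.2 (mem_center_iff.1 hz a).symm,
    mem_centralizer_singleton_iff.2 (mem_center_iff.1 hz b).symm⟩
  have ha : a ∉ center P := fun hz => hab (mem_center_iff.1 hz b).symm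
  -- `M` is the centre, a contradiction with the indices
  have hMz : M ≤ center P := by
    intro m hm
    by_contra hmz
    let L : Subgroup P := centralizer ({m} : Set P)
    have haL : a ∈ L := mem_centralizer_singleton_iff.2 (mem_centralizer_singleton_iff.1 hm.1).symm
    have hbL : b ∈ L := mem_centralizer_singleton_iff.2 (mem_centralizer_singleton_iff.1 hm.2).symm
    let Z' : Subgroup P := center P ⊔ zpowers m
    have hZ'L : Z' ≤ L := sup_le (fun z hz => mem_centralizer_singleton_iff.2 (mem_center_iff.1 hz m).symm)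
      (zpowers_le.2 (mem_centralizer_singleton_iff.2 rfl))
    have hZ'c : ∀ y ∈ L, ∀ z ∈ Z', y * z = z * y := by
      intro y hy z hz
      have : Z' ≤ centralizer ({y} : Set P) :=
        sup_le (fun v hv => mem_centralizer_singleton_iff.2 (mem_center_iff.1 hv y).symm)
          (zpowers_le.2 (mem_centralizer_singleton_iff.2 (mem_centralizer_singleton_iff.1 hy).symm))
      exact (mem_centralizer_singleton_iff.1 (this hz)).symm
    have hLne : L.index ≠ 1 := fun e => hmz (mem_center_iff.2 fun w =>
      mem_centralizer_singleton_iff.1 ((index_eq_one.1 e).ge (mem_top w)))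
    have hZne : (center P).relIndex Z' ≠ 1 := fun e =>
      hmz (relIndex_eq_one.1 e (mem_sup_right (mem_zpowers m)))
    have e1 : (center P).relIndex Z' * (Z'.relIndex L * L.index) = p ^ 3 := by
      rw [relIndex_mul_index hZ'L, relIndex_mul_index le_sup_left, hi']
    obtain ⟨u, hu, hu'⟩ := (Nat.dvd_prime_pow hp.out).mp (Dvd.intro _ e1)
    obtain ⟨r, hr, hr'⟩ := (Nat.dvd_prime_pow hp.out).mp ((Dvd.intro _ rfl).trans (Dvd.intro_left _ e1) : Z'.relIndex L ∣ p ^ 3)
    obtain ⟨s, hs, hs'⟩ := (Nat.dvd_prime_pow hp.out).mp ((Dvd.intro_left _ rfl).trans (Dvd.intro_left _ e1) : L.index ∣ p ^ 3)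
    rw [hu', hr', hs', ← pow_add, ← pow_add] at e1
    have := Nat.pow_right_injective hp.out.two_le e1
    have : u ≠ 0 := fun e => hZne (by rw [hu', e, pow_zero])
    have : s ≠ 0 := fun e => hLne (by rw [hs', e, pow_zero])
    have hZc : Z'.subgroupOf L ≤ center L := fun z hz => mem_center_iff.2 fun y =>
      Subtype.ext (hZ'c y y.2 z (mem_subgroupOf.1 hz))
    haveI : (Z'.subgroupOf L).Normal := ⟨fun z hz y => by rwa [mem_center_iff.1 (hZc hz) y, mul_inv_cancel_right]⟩
    have hcyc : IsCyclic (L ⧸ Z'.subgroupOf L) := by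
      have hcard : Nat.card (L ⧸ Z'.subgroupOf L) = p ^ r := hr'
      rcases Nat.le_one_iff_eq_zero_or_eq_one.mp (show r ≤ 1 by omega) with h0 | h0
      · rw [h0, pow_zero] at hcard
        have := (Nat.card_eq_one_iff_unique.mp hcard).1
        infer_instance
      · exact isCyclic_of_prime_card (p := p) (by rw [hcard, h0, pow_one])
    have := commutative_of_cyclic_center_quotient (QuotientGroup.mk' (Z'.subgroupOf L))
      (by rw [QuotientGroup.ker_mk']; exact hZc) ⟨a, haL⟩ ⟨b, hbL⟩
    exact hab (congrArg Subtype.val this)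
  rw [le_antisymm hMz hzM, hi'] at hM
  exact absurd hM (not_le.2 (Nat.pow_lt_pow_right hp.out.one_lt (by omega)))

theorem index_commutator_iff_class (hP : Nat.card P = p ^ 4) :
    (commutator P).index = p ^ 2 ↔ Group.nilpotencyClass P = 3 := by
  refine ⟨fun h => ?_, fun h => CfsgLib.MaximalClass.index_commutator (n := 4) (by norm_num) hP h⟩
  haveI := (IsPGroup.of_card hP).isNilpotent
  have hle : Group.nilpotencyClass P ≤ 3 := Cfsg.Agent.S0063.result p 4 hP (by norm_num)
  by_contra hne
  have h2 : Group.nilpotencyClass P ≤ 2 := by omega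
  have hc : Nat.card (commutator P) = p ^ 2 := by
    have := (commutator P).card_mul_index
    rw [h, hP, show p ^ 4 = p ^ 2 * p ^ 2 by rw [← pow_add]] at this
    exact Nat.eq_of_mul_eq_mul_right (pow_pos hp.out.pos 2) this
  have hcen : commutator P ≤ center P := by
    rw [_root_.commutator_def, commutator_le]
    intro x _ y _
    have := Subgroup.upperCentralSeries_eq_top_iff_nilpotencyClass_le.mpr h2
    have hx : x ∈ Subgroup.upperCentralSeries P 2 := this.ge (mem_top x)
    have := (Subgroup.mem_upperCentralSeries_succ_iff (n := 1) (x := x)).1 hx y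
    rw [Subgroup.upperCentralSeries_one] at this
    rw [commutatorElement_def]
    exact this
  have hnc : ∃ a b : P, a * b ≠ b * a := by
    by_contra hno
    push Not at hno
    have : commutator P = ⊥ := by
      rw [_root_.commutator_def, commutator_eq_bot_iff_le_centralizer]
      exact fun x _ y _ => hno y x
    rw [this, card_bot] at hc
    exact (Nat.one_lt_pow two_ne_zero hp.out.one_lt).ne hc
  have hne2 := center_index_ne (p := p) hnc
  obtain ⟨i, hi, hi'⟩ := (Nat.dvd_prime_pow hp.out).mp (h ▸ index_dvd_of_le hcen)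
  have : i = 2 := by
    have : i ≠ 0 := fun e => hne2.1 (by rw [hi', e, pow_zero])
    have : i ≠ 1 := fun e => hne2.2 (by rw [hi', e, pow_one])
    omega
  rw [(card_commutator_iff hP).2 (by rw [hi', this])] at hc
  exact (lt_self_pow₀ hp.out.one_lt one_lt_two).ne hc

/-- `[P : P'] = p ^ 2` read off from the action of an outside element on `N / N'`. -/
theorem index_commutator_iff_fixed (N : Subgroup P) [N.Normal] (hN : N.index = p) (x : P) (hx : x ∉ N) :
    (commutator P).index = p ^ 2 ↔
      Nat.card {n : N // x * n * x⁻¹ * (n : P)⁻¹ ∈ (commutator N).map N.subtype} = p * Nat.card (commutator N) := by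
  classical
  set D := commutator N with hD
  let cx : N →* N :=
    { toFun := fun n => ⟨x * n * x⁻¹, Subgroup.Normal.conj_mem ‹N.Normal› n n.2 x⟩
      map_one' := Subtype.ext (by simp)
      map_mul' := fun a b => Subtype.ext (by simp [mul_assoc]) }
  have hcomm : ∀ u v : N ⧸ D, u * v = v * u := fun u v => by
    obtain ⟨a, rfl⟩ := QuotientGroup.mk'_surjective D u
    obtain ⟨b, rfl⟩ := QuotientGroup.mk'_surjective D v
    show ((a : N) : N ⧸ D) * (b : N) = (b : N) * (a : N)
    rw [← QuotientGroup.mk_mul, ← QuotientGroup.mk_mul, QuotientGroup.eq]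
    rw [show (a * b)⁻¹ * (b * a) = ⁅b⁻¹, a⁻¹⁆ by rw [commutatorElement_def]; group]
    exact commutator_mem_commutator (mem_top _) (mem_top _)
  let f : N →* N ⧸ D :=
    { toFun := fun n => ((cx n * n⁻¹ : N) : N ⧸ D)
      map_one' := by simp
      map_mul' := fun a b => by
        simp only [map_mul, mul_inv_rev, QuotientGroup.mk_mul]
        rw [hcomm ((b⁻¹ : N) : N ⧸ D) ((a⁻¹ : N) : N ⧸ D)]
        simp only [mul_assoc]
        rw [← mul_assoc ((cx b : N) : N ⧸ D), hcomm ((cx b : N) : N ⧸ D) ((a⁻¹ : N) : N ⧸ D), mul_assoc] }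
  have hker : Nat.card f.ker = Nat.card {n : N // x * n * x⁻¹ * (n : P)⁻¹ ∈ D.map N.subtype} := by
    refine Nat.card_congr (Equiv.subtypeEquivRight fun n => ?_)
    rw [MonoidHom.mem_ker]
    show ((cx n * n⁻¹ : N) : N ⧸ D) = 1 ↔ _
    rw [QuotientGroup.eq_one_iff]
    exact (mem_map_iff_mem N.subtype_injective).symm
  let R : Subgroup N := f.range.comap (QuotientGroup.mk' D)
  have hDR : D ≤ R := fun d hd => by
    show (d : N ⧸ D) ∈ f.range
    rw [(QuotientGroup.eq_one_iff _).2 hd]; exact one_mem _
  have hsup : N ⊔ zpowers x = ⊤ := by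
    have hd := index_dvd_of_le (le_sup_left : N ≤ N ⊔ zpowers x)
    rw [hN] at hd
    rcases hp.out.eq_one_or_self_of_dvd _ hd with e | e
    · exact index_eq_one.1 e
    · exfalso
      by_cases he : N = N ⊔ zpowers x
      · exact hx (he ▸ mem_sup_right (mem_zpowers x))
      · have hlt := index_strictAnti (lt_of_le_of_ne le_sup_left he)
        rw [e, hN] at hlt
        exact lt_irrefl _ hlt
  have hdec : ∀ g : P, ∃ n : N, ∃ i : ℕ, g = (n : P) * x ^ i := by
    intro g
    obtain ⟨n, hn, v, hv, rfl⟩ := mem_sup_of_normal_left.1 (hsup.ge (mem_top g))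
    obtain ⟨i, rfl⟩ := (Submonoid.mem_powers_iff _ _).1 (mem_powers_iff_mem_zpowers.2 hv)
    exact ⟨⟨n, hn⟩, i, rfl⟩
  let R' : Subgroup P := R.map N.subtype
  have hRx : ∀ v ∈ R', x * v * x⁻¹ ∈ R' := by
    rintro _ ⟨r, hr, rfl⟩
    refine ⟨cx r, ?_, rfl⟩
    show ((cx r : N) : N ⧸ D) ∈ f.range
    have e : ((cx r : N) : N ⧸ D) = f r * (r : N ⧸ D) := by
      show _ = ((cx r * r⁻¹ : N) : N ⧸ D) * _
      rw [← QuotientGroup.mk_mul, inv_mul_cancel_right]
    rw [e]
    exact mul_mem ⟨r, rfl⟩ hr
  have hRn : ∀ n : N, ∀ v ∈ R', (n : P) * v * (n : P)⁻¹ ∈ R' := by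
    rintro n _ ⟨r, hr, rfl⟩
    refine ⟨n * r * n⁻¹, ?_, rfl⟩
    show ((n * r * n⁻¹ : N) : N ⧸ D) ∈ f.range
    rw [QuotientGroup.mk_mul, QuotientGroup.mk_mul, QuotientGroup.mk_inv, hcomm (n : N ⧸ D),
      mul_inv_cancel_right]
    exact hr
  haveI hRnorm : R'.Normal := by
    refine ⟨fun v hv g => ?_⟩
    obtain ⟨n, i, rfl⟩ := hdec g
    have hi : ∀ i : ℕ, x ^ i * v * (x ^ i)⁻¹ ∈ R' := by
      intro i
      induction i with
      | zero => simpa using hv
      | succ i ih =>
        have := hRx _ ih
        rw [pow_succ']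
        simpa [mul_assoc] using this
    have := hRn n _ (hi i)
    simpa [mul_assoc] using this
  have hR : commutator P = R' := by
    refine le_antisymm ?_ ?_
    · rw [_root_.commutator_def, commutator_le]
      intro g _ k _
      rw [← QuotientGroup.eq_one_iff]
      show ((⁅g, k⁆ : P) : P ⧸ R') = 1
      refine commutatorElement_eq_one_iff_mul_comm.2 (?_ : (g : P ⧸ R') * k = k * g)
      have hNN : ∀ m n : N, Commute ((m : P) : P ⧸ R') ((n : P) : P ⧸ R') := by
        intro m n
        show _ * _ = _ * _
        refine commutatorElement_eq_one_iff_mul_comm.1 ?_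
        exact (QuotientGroup.eq_one_iff _).2 (⟨⁅m, n⁆, hDR ((commutator_mem_commutator (mem_top m) (mem_top n) : ⁅m, n⁆ ∈ D)), rfl⟩ : ((m : P) * n * (m : P)⁻¹ * (n : P)⁻¹) ∈ R')
      have hxN : ∀ n : N, Commute ((x : P) : P ⧸ R') ((n : P) : P ⧸ R') := by
        intro n
        show _ * _ = _ * _
        refine commutatorElement_eq_one_iff_mul_comm.1 ?_
        exact (QuotientGroup.eq_one_iff _).2 (⟨cx n * n⁻¹, ⟨n, rfl⟩, rfl⟩ : (x * n * x⁻¹ * (n : P)⁻¹) ∈ R')
      obtain ⟨m, i, rfl⟩ := hdec g
      obtain ⟨n, j, rfl⟩ := hdec k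
      simp only [QuotientGroup.mk_mul, QuotientGroup.mk_pow]
      exact (((hNN m n).mul_right ((hxN m).symm.pow_right j)).mul_left
        (((hxN n).pow_left i).mul_right ((Commute.refl _).pow_pow i j))).eq
    · rintro _ ⟨r, hr, rfl⟩
      obtain ⟨n, hn⟩ := hr
      have hd : ((r : N) * (cx n * n⁻¹)⁻¹) ∈ D := by
        rw [← QuotientGroup.eq_one_iff, QuotientGroup.mk_mul, QuotientGroup.mk_inv]
        exact mul_inv_eq_one.2 hn.symm
      have h1 : ((r : P) * ((cx n * n⁻¹ : N) : P)⁻¹) ∈ commutator P :=
        ((Subgroup.map_commutator ⊤ ⊤ N.subtype).le.trans (commutator_mono le_top le_top) : D.map N.subtype ≤ commutator P)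
          ⟨_, hd, rfl⟩
      have h2 : ((cx n * n⁻¹ : N) : P) ∈ commutator P := by
        show x * (n : P) * x⁻¹ * (n : P)⁻¹ ∈ commutator P
        rw [← commutatorElement_def]
        exact commutator_mem_commutator (mem_top _) (mem_top _)
      have h3 := mul_mem h1 h2
      rwa [inv_mul_cancel_right] at h3
  have hRindex : R.index = f.range.index :=
    index_comap_of_surjective (H := f.range) (QuotientGroup.mk'_surjective D)
  have hri : 0 < f.range.index := Nat.pos_of_ne_zero index_ne_zero_of_finite
  have hcardR : Nat.card R = Nat.card f.range * Nat.card D := by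
    have h1 := R.card_mul_index
    rw [hRindex, ← D.card_mul_index, show D.index = Nat.card (N ⧸ D) from rfl, ← f.range.card_mul_index] at h1
    refine Nat.eq_of_mul_eq_mul_right hri (h1.trans ?_)
    ring
  have hkey : (commutator P).index * Nat.card D = p * Nat.card f.ker := by
    have h1 := (commutator P).card_mul_index
    rw [hR, show Nat.card R' = Nat.card R from card_map_of_injective N.subtype_injective, hcardR,
      ← N.card_mul_index, hN, ← f.ker.card_mul_index, index_ker] at h1
    refine Nat.eq_of_mul_eq_mul_left (Nat.card_pos (α := f.range)) ?_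
    rw [hR]
    linarith [h1]
  rw [← hker]
  constructor
  · intro h
    rw [h, pow_two, mul_assoc] at hkey
    exact (Nat.eq_of_mul_eq_mul_left hp.out.pos hkey).symm
  · intro h
    rw [h, ← mul_assoc, ← pow_two] at hkey
    exact Nat.eq_of_mul_eq_mul_right Nat.card_pos hkey

end CfsgLib.PGroupFour
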