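import Mathlib
import Cfsg.Agent.Lib.PLengthBound
import Cfsg.Agent.Lib.CentralizerMaximal

/-!
The derived length of linear `p`-groups.
-/

set_option autoImplicit false

namespace CfsgLib.PLinear

open scoped commutatorElement

universe u v w

variable {K : Type v} [Field K]

/-- The kernel condition: every element of the subgroup acts trivially. -/
def Triv {P : Type u} [Group P] {V : Type w} [AddCommGroup V] [Module K V] (ρ : P →* Module.End K V)
    (D : Subgroup P) : Prop := ∀ g ∈ D, ρ g = 1

/-- The representation on an invariant subspace. -/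
def sub {P : Type u} [Group P] {V : Type w} [AddCommGroup V] [Module K V] (ρ : P →* Module.End K V)
    (W : Submodule K V) (h : ∀ g, ∀ w ∈ W, ρ g w ∈ W) : P →* Module.End K W where
  toFun g := (ρ g).restrict (h g)
  map_one' := LinearMap.ext fun w => Subtype.ext (show ρ 1 (w : V) = (w : V) by rw [map_one]; rfl)
  map_mul' a b := LinearMap.ext fun w => Subtype.ext
    (show ρ (a * b) (w : V) = ρ a (ρ b (w : V)) by rw [map_mul]; rfl)

/-- The representation on the quotient by an invariant subspace. -/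
def quot {P : Type u} [Group P] {V : Type w} [AddCommGroup V] [Module K V] (ρ : P →* Module.End K V)
    (W : Submodule K V) (h : ∀ g, ∀ w ∈ W, ρ g w ∈ W) : P →* Module.End K (V ⧸ W) where
  toFun g := W.mapQ W (ρ g) (fun w hw => h g w hw)
  map_one' := LinearMap.ext fun y => by
    obtain ⟨u, rfl⟩ := W.mkQ_surjective y
    show W.mkQ (ρ 1 u) = W.mkQ u
    rw [map_one]; rfl
  map_mul' a b := LinearMap.ext fun y => by
    obtain ⟨u, rfl⟩ := W.mkQ_surjective y
    show W.mkQ (ρ (a * b) u) = W.mkQ (ρ a (ρ b u))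
    rw [map_mul]; rfl

section

variable {P : Type u} [Group P] {V : Type w} [AddCommGroup V] [Module K V] (ρ : P →* Module.End K V)
  {W : Submodule K V} (hW : ∀ g, ∀ w ∈ W, ρ g w ∈ W) {D : Subgroup P}

theorem fix_sub (h : Triv (sub ρ W hW) D) {g : P} (hg : g ∈ D) {w : V} (hw : w ∈ W) : ρ g w = w :=
  congrArg Subtype.val (LinearMap.congr_fun (h g hg) ⟨w, hw⟩)

theorem fix_quot (h : Triv (quot ρ W hW) D) {g : P} (hg : g ∈ D) (v : V) : ρ g v - v ∈ W :=
  (Submodule.Quotient.eq W).mp (LinearMap.congr_fun (h g hg) (W.mkQ v))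

theorem rho_mul (a b : P) (v : V) : ρ (a * b) v = ρ a (ρ b v) := by rw [map_mul]; rfl

theorem rho_inj (a : P) : Function.Injective (ρ a) := fun x y e => by
  have h : ∀ z, ρ a⁻¹ (ρ a z) = z := fun z => by rw [← rho_mul, inv_mul_cancel, map_one]; rfl
  rw [← h x, ← h y, e]

theorem triv_comm (h1 : Triv (sub ρ W hW) D) (h2 : Triv (quot ρ W hW) D) : Triv ρ ⁅D, D⁆ := by
  have hle : ⁅D, D⁆ ≤ ρ.ker := by
    rw [Subgroup.commutator_le]
    intro a ha b hb
    have hexp : ∀ {x y : P}, x ∈ D → y ∈ D → ∀ v, ρ (x * y) v = ρ x v + ρ y v - v := by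
      intro x y hx hy v
      have e : ρ x (ρ y v) = ρ x v + (ρ y v - v) := by
        rw [← fix_sub ρ hW h1 hx (fix_quot ρ hW h2 hy v), ← map_add, add_sub_cancel]
      rw [rho_mul, e]; abel
    have hab : ρ (a * b) = ρ (b * a) := LinearMap.ext fun v => by rw [hexp ha hb, hexp hb ha]; abel
    rw [MonoidHom.mem_ker, show ⁅a, b⁆ = a * b * (b * a)⁻¹ by rw [commutatorElement_def]; group, map_mul, hab,
      ← map_mul, mul_inv_cancel, map_one]
  exact fun g hg => hle hg

theorem triv_of_coprime (h1 : Triv (sub ρ W hW) D) (h2 : Triv (quot ρ W hW) D) {p : ℕ} (hp : (p : K) ≠ 0)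
    (hP : IsPGroup p P) : Triv ρ D := by
  intro g hg
  refine LinearMap.ext fun v => ?_
  have hpow : ∀ k : ℕ, ρ (g ^ k) v = v + (k : K) • (ρ g v - v) := by
    intro k
    induction k with
    | zero => simp
    | succ k ih =>
      rw [pow_succ', rho_mul, ih, map_add, map_smul, fix_sub ρ hW h1 hg (fix_quot ρ hW h2 hg v),
        Nat.cast_succ, add_smul, one_smul]
      abel
  obtain ⟨k, hk⟩ := hP g
  have h3 := hpow (p ^ k)
  rw [hk, map_one, Module.End.one_apply, left_eq_add, smul_eq_zero, Nat.cast_pow] at h3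
  rcases h3 with h3 | h3
  · exact absurd (pow_eq_zero_iff'.mp h3).1 hp
  · exact sub_eq_zero.mp h3

end

theorem derived_mono {P : Type u} [Group P] {a b : ℕ} (h : a ≤ b) : derivedSeries P b ≤ derivedSeries P a :=
  derivedSeries_antitone P h

theorem Triv.mono {P : Type u} [Group P] {V : Type w} [AddCommGroup V] [Module K V] {ρ : P →* Module.End K V}
    {D D' : Subgroup P} (h : Triv ρ D) (hle : D' ≤ D) : Triv ρ D' := fun g hg => h g (hle hg)

/-- Coprime characteristic. -/
theorem coprime_case [IsAlgClosed K] {p : ℕ} [Fact p.Prime] (hp : (p : K) ≠ 0) :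
    ∀ (n : ℕ) {P : Type u} [Group P] [Finite P] (_ : IsPGroup p P) {V : Type w} [AddCommGroup V] [Module K V]
      [FiniteDimensional K V] (ρ : P →* Module.End K V), Module.finrank K V = n →
      Triv ρ (derivedSeries P (Nat.log 2 n + 1)) := by
  intro n
  induction n using Nat.strong_induction_on with
  | _ n ih =>
    intro P _ _ hP V _ _ _ ρ hn
    by_cases hred : ∃ W : Submodule K V, W ≠ ⊥ ∧ W ≠ ⊤ ∧ ∀ g, ∀ w ∈ W, ρ g w ∈ W
    · obtain ⟨W, hW0, hW1, hW⟩ := hred
      have h1 : Module.finrank K W < n := hn ▸ Submodule.finrank_lt hW1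
      have h2 : Module.finrank K (V ⧸ W) < n := by
        have h3 := Submodule.finrank_quotient_add_finrank W
        have h4 : 0 < Module.finrank K W := by
          rw [Nat.pos_iff_ne_zero, Ne, Submodule.finrank_eq_zero]; exact hW0
        omega
      refine triv_of_coprime ρ hW ?_ ?_ hp hP
      · exact (ih _ h1 hP (sub ρ W hW) rfl).mono (derived_mono (Nat.succ_le_succ (Nat.log_mono_right h1.le)))
      · exact (ih _ h2 hP (quot ρ W hW) rfl).mono (derived_mono (Nat.succ_le_succ (Nat.log_mono_right h2.le)))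
    push Not at hred
    let S : Subgroup P :=
      { carrier := {g | ∃ c : K, ρ g = c • 1}
        one_mem' := ⟨1, by rw [map_one, one_smul]⟩
        mul_mem' := fun {a b} ⟨c, hc⟩ ⟨d, hd⟩ => ⟨c * d, by rw [map_mul, hc, hd, smul_mul_smul_comm, one_mul]⟩
        inv_mem' := fun {a} ⟨c, hc⟩ => by
          have h1 : ρ a⁻¹ * ρ a = 1 := by rw [← map_mul, inv_mul_cancel, map_one]
          by_cases hc0 : c = 0
          · rw [hc, hc0, zero_smul, mul_zero] at h1
            exact ⟨0, by rw [← mul_one (ρ a⁻¹), ← h1, mul_zero, zero_smul]⟩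
          · refine ⟨c⁻¹, ?_⟩
            rw [hc, mul_smul_comm, mul_one] at h1
            rw [← h1, smul_smul, inv_mul_cancel₀ hc0, one_smul] }
    haveI hSn : S.Normal := ⟨fun a ⟨c, hc⟩ g => ⟨c, by
      rw [map_mul, map_mul, hc, mul_smul_comm, mul_one, smul_mul_assoc, ← map_mul, mul_inv_cancel, map_one]⟩⟩
    by_cases hS : S = ⊤
    · refine Triv.mono (D := derivedSeries P 1) ?_ (derived_mono (Nat.le_add_left 1 _))
      have hle : derivedSeries P 1 ≤ ρ.ker := by
        rw [derivedSeries_one, commutator_def, Subgroup.commutator_le]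
        intro a _ b _
        obtain ⟨c, hc⟩ := (hS.ge (Subgroup.mem_top a) : a ∈ S)
        have hcomm : ρ (a * b) = ρ (b * a) := by
          rw [map_mul, map_mul, hc, smul_mul_assoc, one_mul, mul_smul_comm, mul_one]
        rw [MonoidHom.mem_ker, show ⁅a, b⁆ = a * b * (b * a)⁻¹ by rw [commutatorElement_def]; group, map_mul,
          hcomm, ← map_mul, mul_inv_cancel, map_one]
      exact fun g hg => hle hg
    haveI : Nontrivial (P ⧸ S) := QuotientGroup.nontrivial_iff.mpr hS
    haveI := (hP.to_quotient S).center_nontrivial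
    obtain ⟨⟨x, hx⟩, hx1⟩ := exists_ne (1 : Subgroup.center (P ⧸ S))
    obtain ⟨a, rfl⟩ := QuotientGroup.mk_surjective x
    have haS : a ∉ S := fun e => hx1 (Subtype.ext ((QuotientGroup.eq_one_iff a).mpr e))
    have hcomm : ∀ g : P, ∃ c : K, ρ a * ρ g = c • (ρ g * ρ a) := by
      intro g
      obtain ⟨c, hc⟩ := ((QuotientGroup.eq_one_iff _).mp (show ((a * g * (g * a)⁻¹ : P) : P ⧸ S) = 1 by
        rw [QuotientGroup.mk_mul, QuotientGroup.mk_inv, QuotientGroup.mk_mul, QuotientGroup.mk_mul,
          Subgroup.mem_center_iff.mp hx (g : P ⧸ S), mul_inv_cancel]) : a * g * (g * a)⁻¹ ∈ S)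
      refine ⟨c, ?_⟩
      have h1 : ρ (a * g * (g * a)⁻¹) * ρ (g * a) = ρ (a * g) := by rw [← map_mul]; congr 1; group
      rw [hc, smul_mul_assoc, one_mul, map_mul, map_mul] at h1
      exact h1.symm
    haveI : Nontrivial V := by
      by_contra hV
      rw [not_nontrivial_iff_subsingleton] at hV
      exact haS ⟨1, LinearMap.ext fun v => Subsingleton.elim _ _⟩
    obtain ⟨μ, hμ⟩ := Module.End.exists_eigenvalue (ρ a)
    set E := Module.End.eigenspace (ρ a) μ with hE
    have hE0 : E ≠ ⊥ := hμ
    -- the orbit of the eigenspace spans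
    let T : Submodule K V := ⨆ g : P, E.map (ρ g)
    have hT : T = ⊤ := by
      by_contra hTne
      obtain ⟨g, w, hw, hgw⟩ := hred T (fun e => hE0 (by
        rw [eq_bot_iff]
        intro v hv
        rw [← e]
        exact Submodule.mem_iSup_of_mem 1 ⟨v, hv, by rw [map_one]; rfl⟩)) hTne
      refine hgw ?_
      have hle : T ≤ T.comap (ρ g) := iSup_le fun h' => by
        rintro _ ⟨v, hv, rfl⟩
        exact Submodule.mem_iSup_of_mem (g * h') ⟨v, hv, rho_mul ρ g h' v⟩
      exact hle hw
    -- eigenspaces are moved around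
    have hmove : ∀ g : P, ∃ c : K, ∀ v ∈ E, ρ g v ∈ Module.End.eigenspace (ρ a) (c * μ) := by
      intro g
      obtain ⟨c, hc⟩ := hcomm g
      refine ⟨c, fun v hv => Module.End.mem_eigenspace_iff.mpr ?_⟩
      have := LinearMap.congr_fun hc v
      rw [Module.End.mul_apply, LinearMap.smul_apply, Module.End.mul_apply,
        Module.End.mem_eigenspace_iff.mp hv, map_smul, smul_smul] at this
      exact this
    have hhalf : 2 * Module.finrank K E ≤ n := by
      by_contra hlt
      have hinv : ∀ g, ∀ v ∈ E, ρ g v ∈ E := by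
        intro g v hv
        obtain ⟨c, hc⟩ := hmove g
        by_cases hcμ : c * μ = μ
        · have := hc v hv
          rwa [hcμ] at this
        · exfalso
          have hdis : Disjoint (Module.End.eigenspace (ρ a) (c * μ)) E :=
            (Module.End.eigenspaces_iSupIndep (ρ a)).pairwiseDisjoint hcμ
          have hle : E.map (ρ g) ≤ Module.End.eigenspace (ρ a) (c * μ) := by
            rintro _ ⟨w, hw, rfl⟩; exact hc w hw
          have h5 := Submodule.finrank_mono hle
          rw [← (Submodule.equivMapOfInjective (ρ g) (rho_inj ρ g) E).finrank_eq] at h5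
          have h6 := Submodule.finrank_add_finrank_le_of_disjoint hdis
          omega
      obtain ⟨g, w, hw, hgw⟩ := hred E hE0 (fun e => haS ⟨μ, LinearMap.ext fun v =>
        Module.End.mem_eigenspace_iff.mp (show v ∈ E from e ▸ Submodule.mem_top)⟩)
      exact hgw (hinv g w hw)
    let χ : Subgroup P :=
      { carrier := {g | ρ a * ρ g = ρ g * ρ a}
        one_mem' := by show ρ a * ρ 1 = ρ 1 * ρ a; rw [map_one, mul_one, one_mul]
        mul_mem' := fun {x y} hx hy => by
          show ρ a * ρ (x * y) = ρ (x * y) * ρ a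
          rw [map_mul, ← mul_assoc, show ρ a * ρ x = ρ x * ρ a from hx, mul_assoc,
            show ρ a * ρ y = ρ y * ρ a from hy, mul_assoc]
        inv_mem' := fun {x} hx => by
          show ρ a * ρ x⁻¹ = ρ x⁻¹ * ρ a
          calc ρ a * ρ x⁻¹ = ρ x⁻¹ * (ρ x * ρ a) * ρ x⁻¹ := by
                rw [← mul_assoc (ρ x⁻¹), ← map_mul ρ x⁻¹ x, inv_mul_cancel, map_one, one_mul]
            _ = ρ x⁻¹ * ρ a := by
                rw [← show ρ a * ρ x = ρ x * ρ a from hx, mul_assoc, mul_assoc (ρ a), ← map_mul ρ x, mul_inv_cancel, map_one, mul_one] }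
    have hχ : derivedSeries P 1 ≤ χ := by
      rw [derivedSeries_one, commutator_def, Subgroup.commutator_le]
      intro g _ k _
      obtain ⟨c, hc⟩ := hcomm g
      obtain ⟨d, hd⟩ := hcomm k
      have hgk : ρ a * ρ (g * k) = (c * d) • (ρ (g * k) * ρ a) := by
        rw [map_mul, ← mul_assoc, hc, smul_mul_assoc, mul_assoc, hd, mul_smul_comm, smul_smul, ← mul_assoc]
      have hkg : ρ a * ρ (k * g) = (c * d) • (ρ (k * g) * ρ a) := by
        rw [map_mul, ← mul_assoc, hd, smul_mul_assoc, mul_assoc, hc, mul_smul_comm, smul_smul, ← mul_assoc, mul_comm d]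
      show ρ a * ρ ⁅g, k⁆ = ρ ⁅g, k⁆ * ρ a
      have e : ⁅g, k⁆ = g * k * (k * g)⁻¹ := by rw [commutatorElement_def]; group
      rw [e, map_mul ρ (g * k), ← mul_assoc, hgk, smul_mul_assoc, mul_assoc, ← mul_smul_comm]
      have h7 : (c * d) • (ρ a * ρ (k * g)⁻¹) = ρ (k * g)⁻¹ * ρ a := by
        calc (c * d) • (ρ a * ρ (k * g)⁻¹)
            = ρ (k * g)⁻¹ * ((c * d) • (ρ (k * g) * ρ a)) * ρ (k * g)⁻¹ := by
              rw [mul_smul_comm, smul_mul_assoc, ← mul_assoc (ρ (k * g)⁻¹), ← map_mul ρ (k * g)⁻¹, inv_mul_cancel, map_one, one_mul]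
          _ = ρ (k * g)⁻¹ * ρ a := by
              rw [← hkg, mul_assoc, mul_assoc (ρ a), ← map_mul ρ (k * g), mul_inv_cancel, map_one, mul_one]
      rw [h7, mul_assoc]
    -- `D_1` acts on `E`
    have hEinv : ∀ g : χ, ∀ v ∈ E, ρ (g : P) v ∈ E := by
      intro g v hv
      refine Module.End.mem_eigenspace_iff.mpr ?_
      have := LinearMap.congr_fun (show ρ a * ρ (g : P) = ρ (g : P) * ρ a from g.2) v
      rw [Module.End.mul_apply, Module.End.mul_apply, Module.End.mem_eigenspace_iff.mp hv, map_smul] at this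
      exact this
    have hEpos : 0 < Module.finrank K E := by
      rw [Nat.pos_iff_ne_zero, Ne, Submodule.finrank_eq_zero]; exact hE0
    have h8 := ih _ (show Module.finrank K E < n by omega) (hP.to_subgroup χ) (sub (ρ.comp χ.subtype) E hEinv) rfl
    have hk : 1 + (Nat.log 2 (Module.finrank K E) + 1) ≤ Nat.log 2 n + 1 := by
      have h9 := Nat.log_mono_right (b := 2) hhalf
      rw [mul_comm, Nat.log_mul_base (by norm_num) hEpos.ne'] at h9
      omega
    have h10 : derivedSeries P (Nat.log 2 n + 1) ≤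
        (derivedSeries χ (Nat.log 2 (Module.finrank K E) + 1)).map χ.subtype :=
      (derived_mono hk).trans (CfsgLib.PLengthBound.derivedSeries_add_le χ hχ _)
    intro g hg
    refine LinearMap.ext fun v => ?_
    have hv : v ∈ T := hT.ge Submodule.mem_top
    have hle : T ≤ LinearMap.ker (ρ g - 1) := iSup_le fun k => by
      rintro _ ⟨w, hw, rfl⟩
      have hgk : k⁻¹ * g * k ∈ derivedSeries P (Nat.log 2 n + 1) := by
        simpa using (derivedSeries_normal P _).conj_mem g hg k⁻¹
      obtain ⟨y, hy, hy'⟩ := h10 hgk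
      have h11 : ρ (k⁻¹ * g * k) w = w := by
        rw [← hy']; exact fix_sub (ρ.comp χ.subtype) hEinv h8 hy hw
      rw [LinearMap.mem_ker, LinearMap.sub_apply, Module.End.one_apply, sub_eq_zero, ← rho_mul]
      conv_rhs => rw [← h11]
      rw [← rho_mul]
      congr 2
      group
    have := hle hv
    rw [LinearMap.mem_ker, LinearMap.sub_apply, sub_eq_zero] at this
    exact this

/-- A `p`-group fixes a nonzero vector in characteristic `p`. -/
theorem exists_fixed {p : ℕ} [Fact p.Prime] [CharP K p] :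
    ∀ (N : ℕ) {P : Type u} [Group P] [Finite P] (_ : IsPGroup p P), Nat.card P ≤ N →
      ∀ {V : Type w} [AddCommGroup V] [Module K V] [Nontrivial V] (ρ : P →* Module.End K V),
      ∃ v : V, v ≠ 0 ∧ ∀ g, ρ g v = v := by
  intro N
  induction N with
  | zero =>
    intro P _ _ _ h
    have := Nat.card_pos (α := P)
    omega
  | succ N ih =>
    intro P _ _ hP hN V _ _ _ ρ
    rcases subsingleton_or_nontrivial P with h | h
    · obtain ⟨v, hv⟩ := exists_ne (0 : V)
      exact ⟨v, hv, fun g => by rw [Subsingleton.elim g 1, map_one]; rfl⟩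
    obtain ⟨M, hM, -⟩ := (eq_top_or_exists_le_coatom (⊥ : Subgroup P)).resolve_left bot_ne_top
    haveI := hP.isNilpotent
    haveI : M.Normal := Subgroup.NormalizerCondition.normal_of_coatom M Group.normalizerCondition_of_isNilpotent hM
    obtain ⟨g, -, hg⟩ := SetLike.exists_of_lt hM.lt_top
    have hlt : Nat.card M < Nat.card P :=
      lt_of_le_of_ne (Subgroup.card_le_card_group M) fun e => hM.1 (Subgroup.eq_top_of_card_eq M e)
    obtain ⟨v0, hv0, hv0'⟩ := ih (hP.to_subgroup M) (by omega) (ρ.comp M.subtype)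
    obtain ⟨k, hk⟩ := hP g
    let U : Submodule K V :=
      { carrier := {v | ∀ m : M, ρ (m : P) v = v}
        zero_mem' := fun m => map_zero _
        add_mem' := fun {a b} ha hb m => by rw [map_add, ha m, hb m]
        smul_mem' := fun c a ha m => by rw [map_smul, ha m] }
    have hUg : ∀ v ∈ U, ρ g v ∈ U := fun v hv m => by
      have hm := (inferInstance : M.Normal).conj_mem m m.2 g⁻¹
      rw [inv_inv] at hm
      calc ρ (m : P) (ρ g v) = ρ (g * (g⁻¹ * m * g)) v := by rw [← rho_mul]; congr 2; group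
        _ = ρ g v := by rw [rho_mul, hv ⟨_, hm⟩]
    haveI : Nontrivial U := ⟨⟨⟨v0, fun m => hv0' m⟩, 0, fun e => hv0 (congrArg Subtype.val e)⟩⟩
    haveI : CharP (Module.End K U) p := charP_of_injective_algebraMap (FaithfulSMul.algebraMap_injective K _) p
    set φ : Module.End K U := (ρ g).restrict hUg with hφ
    have hφk : φ ^ p ^ k = 1 := by
      refine LinearMap.ext fun v => Subtype.ext ?_
      have : ∀ j : ℕ, ((φ ^ j) v : V) = ρ (g ^ j) v := by
        intro j
        induction j with
        | zero => simp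
        | succ j ihj => rw [pow_succ', Module.End.mul_apply, pow_succ', rho_mul, ← ihj]; rfl
      rw [this, hk, map_one]; rfl
    have hnil : (φ - (1 : Module.End K U)) ^ p ^ k = 0 := by
      rw [sub_pow_char_pow_of_commute (p := p) (h := Commute.one_right φ), one_pow, hφk, sub_self]
    have hker : ¬ Function.Injective ⇑(φ - (1 : Module.End K U)) := by
      intro hinj
      have h1 : Function.Injective ⇑((φ - (1 : Module.End K U)) ^ p ^ k) := by
        rw [Module.End.coe_pow]; exact hinj.iterate _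
      rw [hnil] at h1
      exact hv0 (congrArg Subtype.val (h1 (a₁ := ⟨v0, fun m => hv0' m⟩) (a₂ := 0) rfl))
    rw [← LinearMap.ker_eq_bot, Submodule.eq_bot_iff] at hker
    push Not at hker
    obtain ⟨w, hw, hw0⟩ := hker
    rw [LinearMap.mem_ker, LinearMap.sub_apply, sub_eq_zero] at hw
    refine ⟨w.1, fun e => hw0 (Subtype.ext e), fun x => ?_⟩
    let St : Subgroup P :=
      { carrier := {x | ρ x w.1 = w.1}
        one_mem' := by show ρ 1 w.1 = w.1; rw [map_one]; rfl
        mul_mem' := fun {a b} ha hb => by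
          show ρ (a * b) w.1 = w.1
          rw [rho_mul, hb, ha]
        inv_mem' := fun {a} ha => by
          show ρ a⁻¹ w.1 = w.1
          conv_lhs => rw [← (ha : ρ a w.1 = w.1)]
          rw [← rho_mul, inv_mul_cancel, map_one]; rfl }
    have hgS : g ∈ St := congrArg Subtype.val hw
    have : St = ⊤ := hM.2 _ (lt_of_le_of_ne (fun m hm => w.2 ⟨m, hm⟩) fun e => hg (e ▸ hgS))
    exact this.ge (Subgroup.mem_top x)

/-- Invariant subspaces of every dimension. -/
theorem exists_invariant {p : ℕ} [Fact p.Prime] [CharP K p] {P : Type u} [Group P] [Finite P] (hP : IsPGroup p P)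
    {V : Type w} [AddCommGroup V] [Module K V] [FiniteDimensional K V] (ρ : P →* Module.End K V) :
    ∀ m : ℕ, m ≤ Module.finrank K V → ∃ W : Submodule K V, Module.finrank K W = m ∧ ∀ g, ∀ w ∈ W, ρ g w ∈ W := by
  intro m
  induction m with
  | zero => exact fun _ => ⟨⊥, finrank_bot K V, fun g w hw => by rw [Submodule.mem_bot] at hw; rw [hw, map_zero]; exact zero_mem _⟩
  | succ m ihm =>
    intro hm
    obtain ⟨W, hWm, hW⟩ := ihm (Nat.le_of_succ_le hm)
    have hWt : W ≠ ⊤ := fun e => by rw [e, finrank_top] at hWm; omega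
    haveI : Nontrivial (V ⧸ W) := Submodule.Quotient.nontrivial_iff.mpr hWt
    obtain ⟨y, hy0, hy⟩ := exists_fixed (Nat.card P) hP le_rfl (quot ρ W hW)
    obtain ⟨u, rfl⟩ := W.mkQ_surjective y
    refine ⟨(Submodule.span K {W.mkQ u}).comap W.mkQ, ?_, fun g w hw => ?_⟩
    · have hle : W ≤ (Submodule.span K {W.mkQ u}).comap W.mkQ := fun w hw => by
        rw [Submodule.mem_comap, show W.mkQ w = 0 from (Submodule.Quotient.mk_eq_zero W).mpr hw]; exact zero_mem _
      have e := LinearMap.finrank_range_add_finrank_ker (W.mkQ.domRestrict ((Submodule.span K {W.mkQ u}).comap W.mkQ))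
      rw [LinearMap.range_domRestrict, Submodule.map_comap_eq_of_surjective W.mkQ_surjective,
        finrank_span_singleton hy0, LinearMap.ker_domRestrict, Submodule.ker_mkQ,
        LinearEquiv.finrank_eq (Submodule.comapSubtypeEquivOfLe hle), hWm] at e
      omega
    · rw [Submodule.mem_comap, Submodule.mem_span_singleton] at hw ⊢
      obtain ⟨c, hc⟩ := hw
      refine ⟨c, ?_⟩
      calc c • W.mkQ u = c • quot ρ W hW g (W.mkQ u) := by rw [hy g]
        _ = quot ρ W hW g (W.mkQ w) := by rw [← map_smul, hc]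
        _ = W.mkQ (ρ g w) := rfl

/-- Defining characteristic. -/
theorem char_case {p : ℕ} [Fact p.Prime] [CharP K p] :
    ∀ (k : ℕ) {P : Type u} [Group P] [Finite P] (_ : IsPGroup p P) {V : Type w} [AddCommGroup V] [Module K V]
      [FiniteDimensional K V] (ρ : P →* Module.End K V), Module.finrank K V ≤ 2 ^ k →
      Triv ρ (derivedSeries P k) := by
  intro k
  induction k with
  | zero =>
    intro P _ _ hP V _ _ _ ρ hn g _
    rcases Nat.eq_zero_or_pos (Module.finrank K V) with h0 | h0
    · haveI : Subsingleton V := Module.finrank_zero_iff.mp h0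
      exact LinearMap.ext fun v => Subsingleton.elim _ _
    haveI : Nontrivial V := Module.finrank_pos_iff.mp h0
    obtain ⟨v, hv0, hv⟩ := exists_fixed (Nat.card P) hP le_rfl ρ
    refine LinearMap.ext fun w => ?_
    obtain ⟨c, rfl⟩ := (finrank_eq_one_iff_of_nonzero' v hv0).mp (show Module.finrank K V = 1 by rw [pow_zero] at hn; omega) w
    rw [map_smul, hv]; rfl
  | succ k ih =>
    intro P _ _ hP V _ _ _ ρ hn
    obtain ⟨W, hWm, hW⟩ := exists_invariant hP ρ (Module.finrank K V / 2) (Nat.div_le_self _ _)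
    have h3 := Submodule.finrank_quotient_add_finrank W
    rw [pow_succ] at hn
    rw [derivedSeries_succ]
    exact triv_comm ρ hW (ih hP (sub ρ W hW) (by omega)) (ih hP (quot ρ W hW) (by omega))

/-- A finite linear `p`-group of degree `n` has derived length at most `log₂ n + 1`. -/
theorem derived_bound {p : ℕ} [Fact p.Prime] [IsAlgClosed K] {P : Type u} [Group P] [Finite P] (hP : IsPGroup p P)
    {V : Type w} [AddCommGroup V] [Module K V] [FiniteDimensional K V] (ρ : P →* Module.End K V) :
    Triv ρ (derivedSeries P (Nat.log 2 (Module.finrank K V) + 1)) := by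
  by_cases hp : (p : K) = 0
  · haveI : CharP K p := CharP.charP_iff_prime_eq_zero Fact.out |>.mpr hp
    exact char_case _ hP ρ (Nat.lt_pow_succ_log_self (by norm_num) _).le
  · exact coprime_case hp _ hP ρ rfl

end CfsgLib.PLinear
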