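import Mathlib
import Cfsg.Agent.Lib.CoprimeGen
import Cfsg.Agent.Lib.PComplement
import Cfsg.Agent.Lib.Elementary

/-!
Elements of order prime to the small linear groups centralize `p`-groups of small rank.
-/

set_option autoImplicit false

namespace CfsgLib.RankAut

open scoped commutatorElement

universe u

variable {G : Type u} [Group G] [Finite G] {p : ℕ} [Fact p.Prime]

/-- An automorphism of a `p`-group with few generators, of order prime to `p` and to `p ^ i - 1`
for all small `i`, is trivial modulo the Frattini subgroup. -/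
theorem trivial_on_quotient {V : Type u} [CommGroup V] [Finite V] {d : ℕ} (hexp : ∀ v : V, v ^ p = 1)
    (hrank : Group.rank V ≤ d) (φ : MulAut V) (hp : ¬ p ∣ orderOf φ)
    (hd : ∀ i, 1 ≤ i → i ≤ d → (orderOf φ).Coprime (p ^ i - 1)) : φ = 1 := by
  classical
  by_contra hne
  obtain ⟨r, hr, hrd⟩ := Nat.exists_prime_and_dvd (fun e => hne (orderOf_eq_one_iff.mp e) : orderOf φ ≠ 1)
  have := Fact.mk hr
  have hrp : r ≠ p := fun e => hp (e ▸ hrd)
  set ψ := φ ^ (orderOf φ / r) with hψ
  have hψo : orderOf ψ = r := orderOf_pow_orderOf_div (orderOf_pos φ).ne' hrd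
  let W : Subgroup V := MonoidHom.eqLocus ψ.toMonoidHom (MonoidHom.id V)
  have hVp : IsPGroup p V := fun v => ⟨1, by rw [pow_one]; exact hexp v⟩
  obtain ⟨e, he⟩ := IsPGroup.iff_card.mp hVp
  obtain ⟨w, hw⟩ := IsPGroup.iff_card.mp (hVp.to_subgroup W)
  have hed : e ≤ d := by
    have h1 := (card_dvd_exponent_pow_rank V).trans
      ((pow_dvd_pow_of_dvd (Monoid.exponent_dvd_of_forall_pow_eq_one hexp) _).trans (pow_dvd_pow p hrank))
    rw [he, Nat.pow_dvd_pow_iff_le_right (Fact.out : p.Prime).one_lt] at h1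
    exact h1
  have hmod : Nat.card V ≡ Nat.card W [MOD r] := by
    have hA : IsPGroup r (Subgroup.zpowers ψ) := IsPGroup.of_card (n := 1) (by rw [Nat.card_zpowers, hψo, pow_one])
    refine (hA.card_modEq_card_fixedPoints V).trans (congrArg (· % r) ?_)
    refine Nat.card_congr ⟨fun v => ⟨v.1, v.2 ⟨ψ, Subgroup.mem_zpowers ψ⟩⟩, fun v => ⟨v.1, fun g => ?_⟩, fun v => rfl, fun v => rfl⟩
    have h1 : Subgroup.zpowers ψ ≤ MulAction.stabilizer (MulAut V) (v.1 : V) := by
      rw [Subgroup.zpowers_le, MulAction.mem_stabilizer_iff]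
      exact v.2
    exact h1 g.2
  rw [he, hw] at hmod
  have hwe : w ≤ e := by
    have h1 := Subgroup.card_le_card_group W
    rw [he, hw] at h1
    exact (Nat.pow_le_pow_iff_right (Fact.out : p.Prime).one_lt).mp h1
  rcases hwe.eq_or_lt with rfl | hlt
  · have htop : W = ⊤ := Subgroup.eq_top_of_card_eq W (hw.trans he.symm)
    have : ψ = 1 := MulEquiv.ext fun v => (htop ▸ Subgroup.mem_top v : v ∈ W)
    rw [this, orderOf_one] at hψo
    exact hr.ne_one hψo.symm
  · have h2 : r ∣ p ^ w * (p ^ (e - w) - 1) := by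
      rw [Nat.mul_sub, mul_one, ← pow_add, Nat.add_sub_cancel' hwe]
      exact (Nat.modEq_iff_dvd' (Nat.pow_le_pow_right (Fact.out : p.Prime).pos hwe)).mp hmod.symm
    rcases hr.dvd_mul.mp h2 with h3 | h3
    · exact hrp ((Nat.prime_dvd_prime_iff_eq hr Fact.out).mp (hr.dvd_of_dvd_pow h3))
    · have := Nat.dvd_gcd hrd h3
      rw [(hd (e - w) (by omega) (by omega)).gcd_eq_one, Nat.dvd_one] at this
      exact hr.ne_one this

/-- A `p'`-element of order prime to `p ^ i - 1`, `i ≤ d`, centralizes every normalized `p`-subgroup of rank at most `d`. -/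
theorem mem_centralizer {Q : Subgroup G} (hQ : IsPGroup p Q) {d : ℕ} (hd : Group.rank Q ≤ d) {g : G}
    (hg : g ∈ Subgroup.normalizer (Q : Set G)) (hp : (orderOf g).Coprime p)
    (hi : ∀ i, 1 ≤ i → i ≤ d → (orderOf g).Coprime (p ^ i - 1)) :
    g ∈ Subgroup.centralizer (Q : Set G) := by
  classical
  have hAK : Subgroup.zpowers g ≤ Subgroup.normalizer (Q : Set G) := Subgroup.zpowers_le.mpr hg
  refine CfsgLib.centralize_of_trivial_mod_frattini hAK ?_ ?_ (Subgroup.mem_zpowers g)
  · rw [Nat.card_zpowers]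
    obtain ⟨k, hk⟩ := IsPGroup.iff_card.mp (hQ.to_subgroup (frattini Q))
    rw [hk]
    exact hp.pow_right k
  let θ : MulAut Q :=
    { toFun := fun x => ⟨g * x * g⁻¹, (Subgroup.mem_normalizer_iff.mp hg x).mp x.2⟩
      invFun := fun x => ⟨g⁻¹ * x * g, by
        have := (Subgroup.mem_normalizer_iff.mp (Subgroup.inv_mem _ hg) x).mp x.2
        simpa using this⟩
      left_inv := fun x => Subtype.ext (by simp [mul_assoc])
      right_inv := fun x => Subtype.ext (by simp [mul_assoc])
      map_mul' := fun x y => Subtype.ext (by simp [mul_assoc]) }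
  let V := Q ⧸ frattini Q
  have hexp' : ∀ v : V, v ^ p = 1 := fun v => by
    obtain ⟨x, rfl⟩ := QuotientGroup.mk_surjective v
    rw [← QuotientGroup.mk_pow, QuotientGroup.eq_one_iff]
    exact CfsgLib.pow_mem_frattini_pGroup hQ x
  have hcommutes : ∀ a b : V, a * b = b * a := fun a b => by
    obtain ⟨x, rfl⟩ := QuotientGroup.mk_surjective a
    obtain ⟨y, rfl⟩ := QuotientGroup.mk_surjective b
    rw [← QuotientGroup.mk_mul, ← QuotientGroup.mk_mul, QuotientGroup.eq]
    have : (x * y)⁻¹ * (y * x) = ⁅y⁻¹, x⁻¹⁆ := by rw [commutatorElement_def]; group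
    rw [this]
    exact CfsgLib.commutator_le_frattini_pGroup hQ (Subgroup.commutator_mem_commutator (Subgroup.mem_top _) (Subgroup.mem_top _))
  let : CommGroup V := { (inferInstance : Group V) with mul_comm := hcommutes }
  let φ : MulAut V := QuotientGroup.congr (frattini Q) (frattini Q) θ (Subgroup.characteristic_iff_map_eq.mp inferInstance θ)
  have hpow : ∀ (k : ℕ) (x : Q), (φ ^ k) (x : V) = ((⟨g ^ k * x * (g ^ k)⁻¹, (Subgroup.mem_normalizer_iff.mp (Subgroup.pow_mem _ hg k) x).mp x.2⟩ : Q) : V) := by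
    intro k
    induction k with
    | zero => intro x; simp
    | succ k ih =>
      intro x
      rw [pow_succ, MulAut.mul_apply]
      show (φ ^ k) ((θ x : Q) : V) = _
      rw [ih]
      congr 1
      refine Subtype.ext ?_
      show g ^ k * (g * x * g⁻¹) * (g ^ k)⁻¹ = g ^ (k + 1) * x * (g ^ (k + 1))⁻¹
      rw [pow_succ]; group
  have hdiv : orderOf φ ∣ orderOf g := by
    refine orderOf_dvd_of_pow_eq_one (MulEquiv.ext fun v => ?_)
    obtain ⟨x, rfl⟩ := QuotientGroup.mk_surjective v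
    rw [hpow, MulAut.one_apply]
    congr 1
    exact Subtype.ext (by simp [pow_orderOf_eq_one])
  have hφ : φ = 1 := trivial_on_quotient hexp'
    ((Group.rank_le_of_surjective (QuotientGroup.mk' (frattini Q)) (QuotientGroup.mk'_surjective _)).trans hd) φ
    (fun h => (Fact.out : p.Prime).coprime_iff_not_dvd.mp hp.symm (h.trans hdiv))
    (fun i h1 h2 => (hi i h1 h2).coprime_dvd_left hdiv)
  intro a ha x hx
  obtain ⟨n, rfl⟩ := mem_powers_iff_mem_zpowers.mpr ha
  refine ⟨(⟨g ^ n * x * (g ^ n)⁻¹, (Subgroup.mem_normalizer_iff.mp (Subgroup.pow_mem _ hg n) x).mp hx⟩ : Q) *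
    (⟨x, hx⟩ : Q)⁻¹, ?_, rfl⟩
  have h1 := hpow n ⟨x, hx⟩
  rw [hφ, one_pow, MulAut.one_apply] at h1
  show _ ∈ frattini Q
  rw [← QuotientGroup.eq_one_iff, QuotientGroup.mk_mul, ← h1, QuotientGroup.mk_inv, mul_inv_cancel]

end CfsgLib.RankAut
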