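import Mathlib.GroupTheory.Transfer
import Mathlib.GroupTheory.Abelianization.Defs
import Mathlib.GroupTheory.Subgroup.Simple

/-! Maximal subgroups of maximal subgroups and generation by two conjugates (Frobenius-Wielandt transfer). -/

set_option autoImplicit false
set_option linter.style.haveILetI false

namespace CfsgLib.PairGen

open scoped commutatorElement
open MulAction

variable {G : Type*} [Group G] [Finite G]

theorem mem_conj {H : Subgroup G} {t x : G} :
    x ∈ H.map (MulAut.conj t).toMonoidHom ↔ t⁻¹ * x * t ∈ H := by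
  constructor
  · rintro ⟨h, hh, rfl⟩
    simpa [MulAut.conj_apply, mul_assoc] using hh
  · intro h
    exact ⟨_, h, by simp [MulAut.conj_apply, mul_assoc]⟩

theorem le_or_sup_eq {H M L : Subgroup G} (hHM : H ≤ M) (hmax : IsCoatom (H.subgroupOf M)) (hL : H ≤ L)
    (hLM : L ≤ M) : L = H ∨ L = M := by
  rcases eq_or_lt_of_le (Subgroup.comap_mono (f := M.subtype) hL) with h | h
  · left
    refine le_antisymm (fun x hx => ?_) hL
    have : (⟨x, hLM hx⟩ : M) ∈ H.subgroupOf M := h.ge (show (⟨x, hLM hx⟩ : M) ∈ L.comap M.subtype from hx)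
    exact this
  · right
    refine le_antisymm hLM fun x hx => ?_
    have := hmax.2 _ h
    exact (this.ge (Subgroup.mem_top (⟨x, hx⟩ : M)) : _)

theorem sup_zpowers_eq {H M : Subgroup G} (hHM : H ≤ M) (hmax : IsCoatom (H.subgroupOf M)) {y : G}
    (hy : y ∈ M) (hyH : y ∉ H) : H ⊔ Subgroup.zpowers y = M :=
  (le_or_sup_eq hHM hmax le_sup_left (sup_le hHM ((Subgroup.zpowers_le).2 hy))).resolve_left
    fun h => hyH (h.le (Subgroup.mem_sup_right (Subgroup.mem_zpowers y)))

/-- Frobenius-Wielandt: `M` has a complement modulo a maximal normal subgroup `H` containing `M ∩ Mᵗ`. -/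
theorem exists_normal_inf {H M : Subgroup G} (hHM : H ≤ M) [hn : (H.subgroupOf M).Normal]
    (hmax : IsCoatom (H.subgroupOf M))
    (hTI : ∀ t ∉ M, M ⊓ M.map (MulAut.conj t).toMonoidHom ≤ H) :
    ∃ N : Subgroup G, N.Normal ∧ N ⊓ M = H ∧ ⁅(⊤ : Subgroup G), ⊤⁆ ≤ N := by
  classical
  letI : CommGroup (M ⧸ H.subgroupOf M) := { (inferInstance : Group (M ⧸ H.subgroupOf M)) with
    mul_comm := by
      intro a b
      obtain ⟨x, rfl⟩ := QuotientGroup.mk'_surjective (H.subgroupOf M) a
      obtain ⟨y, rfl⟩ := QuotientGroup.mk'_surjective (H.subgroupOf M) b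
      by_cases hx : x ∈ H.subgroupOf M
      · rw [show QuotientGroup.mk' (H.subgroupOf M) x = 1 from (QuotientGroup.eq_one_iff x).2 hx, one_mul, mul_one]
      · have htop := hmax.2 (H.subgroupOf M ⊔ Subgroup.zpowers x)
          (lt_of_le_of_ne le_sup_left fun e => hx (e.ge (Subgroup.mem_sup_right (Subgroup.mem_zpowers x))))
        obtain ⟨h, hh, z, ⟨k, rfl⟩, rfl⟩ := Subgroup.mem_sup_of_normal_left.1 (htop.ge (Subgroup.mem_top y))
        rw [map_mul, show QuotientGroup.mk' (H.subgroupOf M) h = 1 from (QuotientGroup.eq_one_iff h).2 hh, one_mul]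
        simp only [map_zpow]
        exact (Commute.self_zpow _ k).eq }
  let φ : M →* M ⧸ H.subgroupOf M := QuotientGroup.mk' _
  letI : Fintype (G ⧸ M) := Fintype.ofFinite _
  set V := MonoidHom.transfer φ
  have hV : ∀ x : M, V x = φ x := by
    intro x
    letI : Fintype (Quotient (orbitRel (Subgroup.zpowers (x : G)) (G ⧸ M))) := Fintype.ofFinite _
    rw [MonoidHom.transfer_eq_prod_quotient_orbitRel_zpowers_quot]
    have hfix : (x : G) • ((1 : G) : G ⧸ M) = ((1 : G) : G ⧸ M) :=
      QuotientGroup.eq.2 (by simp [Subgroup.inv_mem _ x.2])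
    have hone : ∀ q : Quotient (orbitRel (Subgroup.zpowers (x : G)) (G ⧸ M)), q.out.out ∈ M →
        q.out = ((1 : G) : G ⧸ M) := fun q hq => by
      rw [← q.out.out_eq]
      exact QuotientGroup.eq.2 (by simpa using M.inv_mem hq)
    set q₀ : Quotient (orbitRel (Subgroup.zpowers (x : G)) (G ⧸ M)) := Quotient.mk'' ((1 : G) : G ⧸ M)
    have hq₀ : q₀.out = ((1 : G) : G ⧸ M) := by
      obtain ⟨⟨g, k, rfl⟩, hg⟩ := Quotient.mk_out (s := orbitRel (Subgroup.zpowers (x : G)) (G ⧸ M)) ((1 : G) : G ⧸ M)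
      refine hg.symm.trans ?_
      show (x : G) ^ k • ((1 : G) : G ⧸ M) = _
      exact QuotientGroup.eq.2 (by simpa using M.inv_mem (M.zpow_mem x.2 k))
    have ht₀ : q₀.out.out ∈ M := by
      have h1 : ((1 : G) : G ⧸ M) = ((q₀.out.out : G) : G ⧸ M) := hq₀.symm.trans q₀.out.out_eq.symm
      simpa using QuotientGroup.eq.1 h1
    rw [Finset.prod_eq_single q₀]
    · have hper : Function.minimalPeriod ((x : G) • ·) q₀.out = 1 := by
        rw [hq₀]
        exact Function.minimalPeriod_eq_one_iff_isFixedPt.2 hfix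
      have e : ∀ h, (⟨q₀.out.out⁻¹ * (x : G) ^ Function.minimalPeriod ((x : G) • ·) q₀.out * q₀.out.out, h⟩ : M) =
          (⟨_, ht₀⟩ : M)⁻¹ * x * ⟨_, ht₀⟩ := fun h => Subtype.ext (by simp [hper])
      rw [e, map_mul, map_mul, map_inv, mul_comm _ (φ x), inv_mul_cancel_right]
    · intro q _ hq
      have ht : q.out.out ∉ M := fun h => hq (by rw [← q.out_eq, hone q h])
      refine (QuotientGroup.eq_one_iff _).2 ?_
      refine hTI (q.out.out)⁻¹ (fun h => ht (by simpa using M.inv_mem h)) ⟨QuotientGroup.out_conj_pow_minimalPeriod_mem M _ q.out, ?_⟩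
      refine mem_conj.2 ?_
      simp only [inv_inv, mul_assoc, mul_inv_cancel, mul_one, Subgroup.coe_subtype]
      rw [mul_inv_cancel_left]
      exact M.pow_mem x.2 _
    · exact fun h => absurd (Finset.mem_univ _) h
  refine ⟨V.ker, inferInstance, le_antisymm ?_
    (fun h hh => ⟨(hV ⟨h, hHM hh⟩).trans ((QuotientGroup.eq_one_iff _).2 hh), hHM hh⟩), ?_⟩
  · rintro g ⟨hg, hgM⟩
    have h1 : φ ⟨g, hgM⟩ = 1 := (hV ⟨g, hgM⟩).symm.trans hg
    exact (QuotientGroup.eq_one_iff (⟨g, hgM⟩ : M)).1 h1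
  · exact Abelianization.commutator_subset_ker V

theorem le_normalizer_of_conj_le {L : Subgroup G} {y : G}
    (h : ∀ x ∈ L, y * x * y⁻¹ ∈ L) : y ∈ Subgroup.normalizer (L : Set G) := by
  have h1 : L.map (MulAut.conj y).toMonoidHom = L := by
    refine Subgroup.eq_of_le_of_card_ge (by rintro _ ⟨x, hx, rfl⟩; exact h x hx) ?_
    rw [Subgroup.card_map_of_injective (K := L) (MulEquiv.injective _)]
  refine Subgroup.mem_normalizer_iff.2 fun x => ⟨h x, fun hx => ?_⟩
  obtain ⟨z, hz, e⟩ := h1.ge hx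
  have : z = x := by simpa [MulAut.conj_apply] using e
  exact this ▸ hz

theorem conj_mem_sup {H : Subgroup G} {t y : G} (hy1 : ∀ h ∈ H, y * h * y⁻¹ ∈ H)
    (hy2 : ∀ h ∈ H, (t⁻¹ * y * t) * h * (t⁻¹ * y * t)⁻¹ ∈ H) :
    y ∈ Subgroup.normalizer ((H ⊔ H.map (MulAut.conj t).toMonoidHom : Subgroup G) : Set G) := by
  refine le_normalizer_of_conj_le fun x hx => ?_
  have hle : H ⊔ H.map (MulAut.conj t).toMonoidHom ≤
      (H ⊔ H.map (MulAut.conj t).toMonoidHom).comap (MulAut.conj y).toMonoidHom := by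
    refine sup_le (fun h hh => Subgroup.mem_sup_left (hy1 h hh)) ?_
    rintro _ ⟨h, hh, rfl⟩
    refine Subgroup.mem_sup_right (mem_conj.2 ?_)
    have := hy2 h hh
    convert this using 1
    simp [MulAut.conj_apply, mul_assoc]
  exact hle hx

theorem normalClosure_inf_eq {H M : Subgroup G} (hHM : H ≤ M) [hn : (H.subgroupOf M).Normal]
    (hcl : ∀ g : G, (H ⊔ H.map (MulAut.conj g).toMonoidHom) ⊓ M = H)
    (hmaxH : IsCoatom (H.subgroupOf M)) (hmaxM : IsCoatom M) :
    Subgroup.normalClosure (H : Set G) ⊓ M = H := by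
  have hMN : M ≤ Subgroup.normalizer (H : Set G) := Subgroup.le_normalizer_of_normal_subgroupOf (hK := hn) hHM
  refine le_antisymm ?_ (le_inf (Subgroup.le_normalClosure) hHM)
  rcases eq_or_lt_of_le hMN with hN | hN
  · by_cases hTI : ∀ t ∉ M, M ⊓ M.map (MulAut.conj t).toMonoidHom ≤ H
    · obtain ⟨N, hNn, hNM, -⟩ := exists_normal_inf hHM hmaxH hTI
      refine (inf_le_inf_right M (Subgroup.normalClosure_le_normal ?_)).trans hNM.le
      exact (hNM.ge.trans inf_le_left : H ≤ N)
    · push Not at hTI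
      obtain ⟨t, htM, hle⟩ := hTI
      obtain ⟨y, ⟨hyM, hyt⟩, hyH⟩ := SetLike.not_le_iff_exists.1 hle
      set L := H ⊔ H.map (MulAut.conj t).toMonoidHom
      have hconj : ∀ m ∈ M, ∀ h ∈ H, m * h * m⁻¹ ∈ H := fun m hm h hh =>
        (Subgroup.mem_normalizer_iff.1 (hMN hm) h).1 hh
      have hyN : y ∈ Subgroup.normalizer (L : Set G) :=
        conj_mem_sup (hconj y hyM) (hconj _ (mem_conj.1 hyt))
      have hLM : ¬ L ≤ M := fun hle' => htM (hN.ge (le_normalizer_of_conj_le fun x hx => by
        have := hcl t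
        rw [inf_eq_left.2 hle'] at this
        exact this.le (Subgroup.mem_sup_right ⟨x, hx, by simp [MulAut.conj_apply]⟩)))
      have hNtop : M ⊔ L = ⊤ := hmaxM.2 _ (lt_of_le_of_ne le_sup_left fun e => hLM (e.ge.trans' le_sup_right))
      haveI : L.Normal := Subgroup.normalizer_eq_top_iff.1 (top_le_iff.1 (hNtop.ge.trans (sup_le
        ((sup_zpowers_eq hHM hmaxH hyM hyH).ge.trans (sup_le (le_sup_left.trans Subgroup.le_normalizer)
          ((Subgroup.zpowers_le).2 hyN))) Subgroup.le_normalizer)))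
      exact (inf_le_inf_right M (Subgroup.normalClosure_le_normal (le_sup_left : H ≤ L))).trans (hcl t).le
  · haveI : H.Normal := Subgroup.normalizer_eq_top_iff.1 (hmaxM.2 _ hN)
    exact inf_le_left.trans (Subgroup.normalClosure_le_normal le_rfl)

theorem two_conjugates [IsSimpleGroup G] (hG : ¬ IsMulCommutative G) {M H : Subgroup G} (hmaxM : IsCoatom M)
    (hHM : H ≤ M) [hn : (H.subgroupOf M).Normal] (hidx : (H.relIndex M).Prime) :
    ∃ g : G, H ⊔ H.map (MulAut.conj g).toMonoidHom = ⊤ := by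
  have hHne : H ≠ M := fun e => by rw [e, Subgroup.relIndex_self] at hidx; exact Nat.not_prime_one hidx
  have hmax : IsCoatom (H.subgroupOf M) := by
    refine ⟨fun e => hHne (le_antisymm hHM fun x hx => (e.ge (Subgroup.mem_top (⟨x, hx⟩ : M)) : _)), fun L hL => ?_⟩
    have h1 := Subgroup.index_dvd_of_le hL.le
    rcases (Nat.dvd_prime hidx).1 h1 with h | h
    · exact Subgroup.index_eq_one.1 h
    · refine absurd (Subgroup.eq_of_le_of_card_ge hL.le ?_) hL.ne
      have e1 := Subgroup.card_mul_index L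
      have e2 := Subgroup.card_mul_index (H.subgroupOf M)
      rw [show (H.subgroupOf M).index = L.index from h.symm] at e2
      exact (Nat.eq_of_mul_eq_mul_right (Nat.pos_of_ne_zero Subgroup.index_ne_zero_of_finite) (e1.trans e2.symm)).le
  by_contra hno
  push Not at hno
  have hM0 : M ≠ ⊥ := fun e => hHne (le_antisymm hHM (e ▸ bot_le))
  have hNM : Subgroup.normalizer (M : Set G) = M := by
    refine (eq_or_lt_of_le Subgroup.le_normalizer).elim Eq.symm fun h => ?_
    have : M.Normal := Subgroup.normalizer_eq_top_iff.1 (hmaxM.2 _ h)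
    rcases this.eq_bot_or_eq_top with h' | h'
    · exact absurd h' hM0
    · exact absurd h' hmaxM.1
  have hMN : M ≤ Subgroup.normalizer (H : Set G) := Subgroup.le_normalizer_of_normal_subgroupOf (hK := hn) hHM
  by_cases hH : H = ⊥
  · subst hH
    obtain ⟨N, hNn, hNM', hcN⟩ := exists_normal_inf hHM hmax fun t ht => by
      rintro y ⟨hyM, hyt⟩
      by_contra hy
      have h1 := sup_zpowers_eq hHM hmax hyM hy
      rw [bot_sup_eq] at h1
      refine ht (hNM.le (le_normalizer_of_conj_le fun x hx => ?_))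
      have h2 : M ≤ M.map (MulAut.conj t).toMonoidHom := h1.ge.trans ((Subgroup.zpowers_le).2 hyt)
      have h3 : M.map (MulAut.conj t).toMonoidHom = M := (Subgroup.eq_of_le_of_card_ge h2
        (Subgroup.card_map_of_injective (K := M) (MulEquiv.injective _)).le).symm
      exact h3.le ⟨x, hx, rfl⟩
    rcases hNn.eq_bot_or_eq_top with h | h
    · refine hG ⟨⟨fun a b => ?_⟩⟩
      have : ⁅a, b⁆ ∈ (⊥ : Subgroup G) :=
        h ▸ hcN (Subgroup.commutator_mem_commutator (Subgroup.mem_top a) (Subgroup.mem_top b))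
      exact commutatorElement_eq_one_iff_mul_comm.1 this
    · rw [h, top_inf_eq] at hNM'
      exact hHne hNM'.symm
  have hNH : Subgroup.normalizer (H : Set G) = M := by
    refine (eq_or_lt_of_le hMN).elim Eq.symm fun h => ?_
    have : H.Normal := Subgroup.normalizer_eq_top_iff.1 (hmaxM.2 _ h)
    rcases this.eq_bot_or_eq_top with h' | h'
    · exact absurd h' hH
    · exact absurd (top_le_iff.1 (h' ▸ hHM)) hmaxM.1
  have hconj : ∀ m ∈ M, ∀ h ∈ H, m * h * m⁻¹ ∈ H := fun m hm h hh =>
    (Subgroup.mem_normalizer_iff.1 (hMN hm) h).1 hh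
  -- weak closure of `H` in `M`
  have hwc : ∀ t : G, H.map (MulAut.conj t).toMonoidHom ≤ M → t ∈ M := by
    intro t ht
    by_contra htM
    obtain ⟨z, hzt, hzH⟩ : ∃ z ∈ H.map (MulAut.conj t).toMonoidHom, z ∉ H := by
      by_contra h
      push Not at h
      exact htM (hNH.le (le_normalizer_of_conj_le fun x hx => h _ ⟨x, hx, rfl⟩))
    have hM2 : H ⊔ H.map (MulAut.conj t).toMonoidHom = M :=
      (le_or_sup_eq hHM hmax le_sup_left (sup_le hHM ht)).resolve_left fun e => hzH (e.le (Subgroup.mem_sup_right hzt))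
    set K := M.map (MulAut.conj t⁻¹).toMonoidHom
    obtain ⟨m, hm, hmK⟩ : ∃ m ∈ M, ¬ H.map (MulAut.conj (t * m * t⁻¹)).toMonoidHom ≤ M := by
      by_contra h
      push Not at h
      have hHK : H ≤ K := fun x hx => mem_conj.2 (ht ⟨x, hx, by simp [MulAut.conj_apply]⟩)
      have hstab : ∀ m ∈ M, ∀ x ∈ K, m * x * m⁻¹ ∈ K := by
        intro m hm x hx
        have : M ≤ K.comap ((MulAut.conj m).toMonoidHom.comp (MulAut.conj t⁻¹).toMonoidHom) := by
          rw [← hM2]
          refine sup_le (fun y hy => mem_conj.2 ?_) ?_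
          · refine h m hm ⟨y, hy, ?_⟩
            simp [MulAut.conj_apply, mul_assoc]
          · rintro _ ⟨y, hy, rfl⟩
            refine hHK ?_
            have := hconj m hm y hy
            convert this using 1
            simp [MulAut.conj_apply, mul_assoc]
        obtain ⟨y, hy, rfl⟩ := hx
        exact this hy
      have hK : IsCoatom K := by
        refine ⟨fun e => hmaxM.1 ?_, fun L hL => ?_⟩
        · refine Subgroup.eq_top_of_card_eq _ ?_
          rw [← Subgroup.card_map_of_injective (K := M) (f := (MulAut.conj t⁻¹).toMonoidHom) (MulAut.conj t⁻¹).injective,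
            show M.map (MulAut.conj t⁻¹).toMonoidHom = ⊤ from e, Subgroup.card_top]
        · have h1 : M < L.comap (MulAut.conj t⁻¹).toMonoidHom := by
            refine lt_of_le_not_ge (fun x hx => hL.le ⟨x, hx, rfl⟩) fun hle => hL.not_ge fun x hx => ?_
            obtain ⟨y, rfl⟩ := (MulAut.conj t⁻¹).surjective x
            exact ⟨y, hle hx, rfl⟩
          refine top_le_iff.1 fun x _ => ?_
          obtain ⟨y, rfl⟩ := (MulAut.conj t⁻¹).surjective x
          exact (hmaxM.2 _ h1).ge (Subgroup.mem_top y)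
      rcases eq_or_lt_of_le (Subgroup.le_normalizer (H := K)) with hNK | hNK
      · have hMK : M ≤ K := fun m hm => hNK.ge (le_normalizer_of_conj_le (hstab m hm))
        refine htM (hNM.le (le_normalizer_of_conj_le fun x hx => ?_))
        have := mem_conj.1 (hMK hx)
        simpa using this
      · have : K.Normal := Subgroup.normalizer_eq_top_iff.1 (hK.2 _ hNK)
        rcases this.eq_bot_or_eq_top with h' | h'
        · exact hH (le_bot_iff.1 (h' ▸ hHK))
        · exact hK.1 h'
    set y := t * m * t⁻¹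
    set L := H ⊔ H.map (MulAut.conj y).toMonoidHom
    have hzM : z ∈ M := ht hzt
    have hz2 : y⁻¹ * z * y ∈ M := by
      refine ht (mem_conj.2 ?_)
      have := hconj m⁻¹ (M.inv_mem hm) _ (mem_conj.1 hzt)
      convert this using 1
      simp [y, mul_assoc]
    have hzN : z ∈ Subgroup.normalizer (L : Set G) := conj_mem_sup (hconj z hzM) (hconj _ hz2)
    have hLM : ¬ L ≤ M := fun h => hmK (le_sup_right.trans h)
    have hNtop : M ⊔ L = ⊤ := hmaxM.2 _ (lt_of_le_of_ne le_sup_left fun e => hLM (e.ge.trans' le_sup_right))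
    have : L.Normal := Subgroup.normalizer_eq_top_iff.1 (top_le_iff.1 (hNtop.ge.trans (sup_le
      ((sup_zpowers_eq hHM hmax hzM hzH).ge.trans (sup_le (le_sup_left.trans Subgroup.le_normalizer)
        ((Subgroup.zpowers_le).2 hzN))) Subgroup.le_normalizer)))
    rcases this.eq_bot_or_eq_top with h' | h'
    · exact hH (le_bot_iff.1 (h' ▸ le_sup_left))
    · exact hno y h'
  have hcl : ∀ g : G, (H ⊔ H.map (MulAut.conj g).toMonoidHom) ⊓ M = H := by
    intro g
    rcases le_or_sup_eq hHM hmax (le_inf le_sup_left hHM) inf_le_right with h | h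
    · exact h
    · have hle : M ≤ H ⊔ H.map (MulAut.conj g).toMonoidHom := h.ge.trans inf_le_left
      rcases eq_or_lt_of_le hle with e | e
      · have hg : g ∈ M := hwc g (le_sup_right.trans e.ge)
        have : H.map (MulAut.conj g).toMonoidHom ≤ H := by rintro _ ⟨x, hx, rfl⟩; exact hconj g hg x hx
        exact absurd (e.trans (sup_eq_left.2 this)).symm hHne
      · exact absurd (hmaxM.2 _ e) (hno g)
  have h1 := normalClosure_inf_eq hHM hcl hmax hmaxM
  rcases (Subgroup.normalClosure_normal (s := (H : Set G))).eq_bot_or_eq_top with h | h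
  · exact hH (le_bot_iff.1 (h ▸ Subgroup.le_normalClosure))
  · rw [h, top_inf_eq] at h1
    exact hHne h1.symm

end CfsgLib.PairGen
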