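import Cfsg.Prelude.Def_FusionSystem
import Cfsg.Agent.Lib.Fusion.EssentialSmall.SLTwo
import Cfsg.Agent.Lib.Fusion.EssentialSmall.Cube

/-! Essential subgroups of order nine in a `3`-group of order twenty-seven. -/

set_option autoImplicit false

namespace CfsgLib.PearlThree

open Cfsg Cfsg.FusionSystem Subgroup
open scoped MatrixGroups commutatorElement

theorem sl_facts : ∃ z : SL(2, ZMod 3), z ≠ 1 ∧ z * z = 1 ∧ (∀ M, z * M = M * z) ∧
    ∃ M N : SL(2, ZMod 3), M * N ≠ N * M := by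
  refine ⟨⟨!![2, 0; 0, 2], by decide⟩, fun h => absurd (congrArg (fun M : SL(2, ZMod 3) => M.1 0 0) h) (by decide),
    Subtype.ext (by show !![(2 : ZMod 3), 0; 0, 2] * !![2, 0; 0, 2] = 1; decide), fun M => Subtype.ext ?_,
    ⟨!![1, 1; 0, 1], by decide⟩, ⟨!![1, 0; 1, 1], by decide⟩,
    fun h => absurd (congrArg (fun M : SL(2, ZMod 3) => M.1 0 0) h) (by decide)⟩
  show !![(2 : ZMod 3), 0; 0, 2] * M.1 = M.1 * !![2, 0; 0, 2]
  ext i j
  fin_cases i <;> fin_cases j <;> simp [Matrix.mul_apply, Fin.sum_univ_two] <;> ring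

variable {Ω : Type*} [Group Ω] {S E : Subgroup Ω} [Finite S] {F : FusionSystem S}

theorem inv_mem_autGroup [Fact (Nat.Prime 3)] (hS : IsPGroup 3 S) (hF : F.IsSaturated 3) (hE : F.IsEssential 3 E)
    (hcard : Nat.card E = 9) : ∃ α ∈ F.autGroup E, ∀ e : E, (α : MulAut E) e = e⁻¹ := by
  classical
  haveI : Finite E := finite_of_le hE.1.1
  have hc9 : Nat.card E = 3 ^ 2 := by rw [hcard]; norm_num
  obtain ⟨hab, hexp⟩ := EssentialSmall.elementary_of_card_sq hS hF hE hc9
  obtain ⟨K, ⟨eK⟩⟩ := EssentialSmall.exists_sl2 hS hF hE hc9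
  obtain ⟨z0, hz1, hz2, hzc, M, N, hMN⟩ := sl_facts
  set z : MulAut E := (((eK.symm z0 : K) : F.autGroup E) : MulAut E) with hz
  refine ⟨z, SetLike.coe_mem _, ?_⟩
  let ι : SL(2, ZMod 3) →* MulAut E := ((F.autGroup E).subtype.comp K.subtype).comp eK.symm.toMonoidHom
  have hιi : Function.Injective ι :=
    ((F.autGroup E).subtype_injective.comp K.subtype_injective).comp eK.symm.injective
  have hzi : ∀ g, z * ι g = ι g * z := fun g => by
    show ι z0 * ι g = ι g * ι z0
    rw [← map_mul, ← map_mul, hzc]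
  have hzz : ∀ e : E, z (z e) = e := fun e => by
    show (ι z0 * ι z0) e = e
    rw [← map_mul, hz2, map_one]
    rfl
  have hfix : ∀ e : E, z (e * z e) = e * z e := fun e => by rw [map_mul, hzz, hab]
  by_cases hw : ∀ w : E, z w = w → w = 1
  · intro e
    exact (inv_eq_of_mul_eq_one_right (hw _ (hfix e))).symm
  exfalso
  push Not at hw
  obtain ⟨w, hw, hw1⟩ := hw
  obtain ⟨v, hv, hv1⟩ : ∃ v : E, z v = v⁻¹ ∧ v ≠ 1 := by
    obtain ⟨e, he⟩ : ∃ e : E, z e ≠ e := by
      by_contra h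
      push Not at h
      exact hz1 (hιi (show ι z0 = ι 1 by rw [map_one]; exact MulEquiv.ext h))
    refine ⟨e⁻¹ * z e, ?_, fun h => he (inv_mul_eq_one.mp h).symm⟩
    rw [map_mul, map_inv, hzz, mul_inv_rev, inv_inv]
  have hsq : ∀ e : E, e * e = 1 → e = 1 := fun e he => by
    have := hexp e
    rw [pow_succ, pow_two, he, one_mul] at this
    exact this
  let W : Subgroup E :=
    { carrier := {e | z e = e}
      one_mem' := map_one z
      mul_mem' := fun {a b} ha hb => by
        show z (a * b) = a * b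
        rw [map_mul, show z a = a from ha, show z b = b from hb]
      inv_mem' := fun {a} ha => by
        show z a⁻¹ = a⁻¹
        rw [map_inv, show z a = a from ha] }
  let V : Subgroup E :=
    { carrier := {e | z e = e⁻¹}
      one_mem' := by show z 1 = 1⁻¹; rw [map_one, inv_one]
      mul_mem' := fun {a b} ha hb => by
        show z (a * b) = (a * b)⁻¹
        rw [map_mul, show z a = a⁻¹ from ha, show z b = b⁻¹ from hb, mul_inv_rev, hab]
      inv_mem' := fun {a} ha => by
        show z a⁻¹ = a⁻¹⁻¹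
        rw [map_inv, show z a = a⁻¹ from ha] }
  have hdis : Disjoint W V := by
    rw [Subgroup.disjoint_def]
    intro e he1 he2
    refine hsq e ?_
    have h : e = e⁻¹ := (show z e = e from he1).symm.trans he2
    exact eq_inv_iff_mul_eq_one.mp h
  have hWV : Nat.card W * Nat.card V ≤ 9 := by
    rw [← hcard, ← Nat.card_prod]
    exact Nat.card_le_card_of_injective _ (Subgroup.mul_injective_of_disjoint hdis)
  have hge : ∀ U : Subgroup E, ∀ u ∈ U, u ≠ 1 → 3 ≤ Nat.card U := fun U u hu hu1 => by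
    have ho : orderOf u = 3 := orderOf_eq_prime (hexp u) hu1
    rw [← ho, ← Nat.card_zpowers]
    exact Subgroup.card_le_of_le (zpowers_le.mpr hu)
  have hW3 := hge W w hw hw1
  have hV3 := hge V v hv hv1
  have hline : ∀ (U : Subgroup E), Nat.card U ≤ 3 → ∀ k : MulAut E, (∀ u ∈ U, k u ∈ U) →
      ∀ u ∈ U, k (k u) = u := by
    intro U hU k hk u hu
    by_cases hu1 : u = 1
    · rw [hu1, map_one, map_one]
    have ho : orderOf u = 3 := orderOf_eq_prime (hexp u) hu1
    have hz' : zpowers u = U := eq_of_le_of_card_ge (zpowers_le.mpr hu) (by rw [Nat.card_zpowers, ho]; exact hU)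
    obtain ⟨i, hi⟩ := mem_zpowers_iff.mp (hz'.ge (hk u hu))
    have h3 : u ^ (3 : ℤ) = 1 := by rw [← Nat.cast_ofNat, zpow_natCast]; exact hexp u
    have him : u ^ i = u ^ (i % 3) := by
      conv_lhs => rw [← Int.emod_add_mul_ediv i 3, zpow_add, zpow_mul, h3, one_zpow, mul_one]
    rw [← hi, map_zpow, ← hi, ← zpow_mul]
    have hne : i % 3 ≠ 0 := fun h0 => hu1 (k.injective (by rw [map_one, ← hi, him, h0, zpow_zero]))
    obtain ⟨m, hm⟩ : ∃ m : ℤ, i * i = 1 + 3 * m := by
      obtain ⟨q, hq | hq⟩ : ∃ q : ℤ, i = 3 * q + 1 ∨ i = 3 * q + 2 := ⟨i / 3, by omega⟩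
      · exact ⟨3 * q * q + 2 * q, by rw [hq]; ring⟩
      · exact ⟨3 * q * q + 4 * q + 1, by rw [hq]; ring⟩
    rw [hm, zpow_add, zpow_mul, h3, one_zpow, zpow_one, mul_one]
  have hinv : ∀ g e, ι g (ι g e) = e := by
    intro g e
    have hW : ∀ u ∈ W, ι g u ∈ W := fun u hu => by
      show z (ι g u) = ι g u
      rw [← MulAut.mul_apply, hzi, MulAut.mul_apply, show z u = u from hu]
    have hV : ∀ u ∈ V, ι g u ∈ V := fun u hu => by
      show z (ι g u) = (ι g u)⁻¹
      rw [← MulAut.mul_apply, hzi, MulAut.mul_apply, show z u = u⁻¹ from hu, map_inv]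
    have hWc : Nat.card W ≤ 3 := Nat.le_of_mul_le_mul_right (le_trans (Nat.mul_le_mul_left _ hV3) hWV) (by norm_num)
    have hVc : Nat.card V ≤ 3 := Nat.le_of_mul_le_mul_left (le_trans (Nat.mul_le_mul_right _ hW3) hWV) (by norm_num)
    have h1 := hline W hWc _ hW (e * z e) (hfix e)
    have h2 := hline V hVc _ hV (e * (z e)⁻¹) (by
      show z (e * (z e)⁻¹) = (e * (z e)⁻¹)⁻¹
      rw [map_mul, map_inv, hzz, mul_inv_rev, inv_inv])
    have he : (e * z e * (e * (z e)⁻¹)) ^ 2 = e := by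
      rw [hab e (z e), mul_assoc, ← mul_assoc e e, hab (e * e), ← mul_assoc, mul_inv_cancel, one_mul, ← pow_two,
        ← pow_mul, pow_succ, hexp, one_mul]
    rw [← he, map_pow, map_pow, map_mul, map_mul, h1, h2]
  refine hMN ?_
  have hone : ∀ g : SL(2, ZMod 3), g * g = 1 := fun g => hιi (show ι (g * g) = ι 1 by
    rw [map_mul, map_one]
    exact MulEquiv.ext (hinv g))
  have hi' : ∀ g : SL(2, ZMod 3), g⁻¹ = g := fun g => inv_eq_of_mul_eq_one_right (hone g)
  rw [← hi' (M * N), mul_inv_rev, hi', hi']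

theorem order_27 [Fact (Nat.Prime 3)] (hS : IsPGroup 3 S) (hF : F.IsSaturated 3) (hE : F.IsEssential 3 E)
    (hcard : Nat.card E = 9) (hSc : Nat.card S = 27)
    (hCS : centralizer ((E.subgroupOf S : Subgroup S) : Set S) ≤ E.subgroupOf S) :
    IsExtraspecial 3 S ∧ Monoid.exponent S = 3 := by
  have hES := hE.1.1
  haveI : Finite E := finite_of_le hES
  obtain ⟨-, hexp⟩ := EssentialSmall.elementary_of_card_sq hS hF hE (by rw [hcard]; norm_num)
  have hE'c : Nat.card (E.subgroupOf S) = 9 :=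
    (Nat.card_congr (Subgroup.subgroupOfEquivOfLe hES).toEquiv).trans hcard
  have hnab : ¬ ∀ a b : S, a * b = b * a := fun hab => by
    have h : (⊤ : Subgroup S) ≤ E.subgroupOf S :=
      fun g _ => hCS (mem_centralizer_iff.mpr fun w _ => hab w g)
    have := card_le_of_le h
    rw [card_top, hSc, hE'c] at this
    omega
  obtain ⟨hext, hpow, hcomm⟩ := EssentialSmall.extraspecial_cube (p := 3) (E := S) (by rw [hSc]; norm_num) hnab
  refine ⟨hext, ?_⟩
  have hexp' : ∀ g : S, (g : Ω) ∈ E → g ^ 3 = 1 := fun g hg =>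
    Subtype.ext (congrArg Subtype.val (hexp ⟨g, hg⟩) : _)
  have hZ : ∀ c ∈ Subgroup.center S, (c : Ω) ∈ E := fun c hc =>
    hCS (mem_centralizer_iff.mpr fun w _ => mem_center_iff.mp hc w)
  have hnorm : ∀ g : S, ∀ m : S, (m : Ω) ∈ E → ((g * m * g⁻¹ : S) : Ω) ∈ E := fun g m hm => by
    have h : ⁅g, m⁆ ∈ Subgroup.center S := hcomm.le (Subgroup.commutator_mem_commutator (mem_top _) (mem_top _))
    have h2 := mul_mem (hZ _ h) hm
    rw [← Subgroup.coe_mul, commutatorElement_def, inv_mul_cancel_right] at h2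
    exact h2
  obtain ⟨α, hα, hinvα⟩ := inv_mem_autGroup hS hF hE hcard
  let φ : E →* Ω := E.subtype.comp α.toMonoidHom
  have hφ : φ ∈ F.Hom E := (F.mem_autGroup_iff hES).mp hα
  have hφE : ∀ e : E, φ e = (e : Ω)⁻¹ := fun e => congrArg Subtype.val (hinvα e)
  have hr : φ.range = E := by
    ext w
    exact ⟨fun ⟨e, he⟩ => he ▸ (α e).2, fun hw => ⟨α.symm ⟨w, hw⟩, congrArg Subtype.val (α.apply_symm_apply _)⟩⟩
  have hext' : S ≤ extender S E φ := fun g hg => by
    refine Subgroup.subset_closure ⟨hg, Subgroup.mem_normalizer_iff.mpr fun m => ⟨fun hm => ?_, fun hm => ?_⟩, g, hg,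
      fun x hx => ?_⟩
    · exact hnorm ⟨g, hg⟩ ⟨m, hES hm⟩ hm
    · have hmS : m ∈ S := by
        have := mul_mem (mul_mem (inv_mem hg) (hES hm)) hg
        simpa [mul_assoc] using this
      have := hnorm ⟨g, hg⟩⁻¹ ⟨g * m * g⁻¹, hES hm⟩ hm
      simpa [mul_assoc] using this
    · rw [hφE, hφE]
      simp [mul_assoc]
  obtain ⟨ψ, hψ, hψe⟩ := (hF.isReceptive_of_isFullyNormalized hS hE.2.1).2 E φ hφ hr
  let θ : S →* S := (ψ.comp (Subgroup.inclusion hext')).codRestrict S fun g => (F.le_of_mem hψ).2 _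
  have hθE : ∀ g : S, (g : Ω) ∈ E → θ g = g⁻¹ := fun g hg => Subtype.ext <| by
    show ψ ⟨g, _⟩ = ((g : Ω))⁻¹
    rw [hψe _ hg, hφE]
  have hshift : ∀ s : S, ((s⁻¹ * θ s : S) : Ω) ∈ E := fun s => by
    refine Subgroup.mem_subgroupOf.mp (hCS (mem_centralizer_iff.mpr fun w hw => ?_))
    have hw' : ((w⁻¹ : S) : Ω) ∈ E := inv_mem hw
    have h := hθE _ (hnorm s _ hw')
    rw [map_mul, map_mul, map_inv θ s, hθE _ hw', inv_inv, mul_inv_rev, mul_inv_rev, inv_inv, inv_inv] at h
    calc w * (s⁻¹ * θ s) = s⁻¹ * (s * (w * s⁻¹)) * θ s := by group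
      _ = s⁻¹ * (θ s * w * (θ s)⁻¹) * θ s := by rw [h]
      _ = s⁻¹ * θ s * w := by group
  have he : ∀ s : S, s ^ 3 = 1 := fun s => by
    have h1 : θ (s ^ 3) = s ^ 3 := by
      rw [map_pow, ← mul_inv_cancel_left s (θ s),
        CfsgLib.CyclicMax.mul_pow_of_central_commutators (p := 3) (by norm_num) hcomm.le
          (fun c hc => hexp' c (hZ c (hcomm.le hc))),
        hexp' _ (hshift s), mul_one]
    have hc : ((s ^ 3 : S) : Ω) ∈ E := hZ _ (hpow s)
    rw [hθE _ hc] at h1
    have h2 : (s ^ 3) ^ 3 = 1 := hexp' _ hc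
    rw [pow_succ, pow_two] at h2
    nth_rewrite 1 [← h1] at h2
    rwa [inv_mul_cancel, one_mul] at h2
  haveI : Nontrivial S := Finite.one_lt_card_iff_nontrivial.mp (by rw [hSc]; norm_num)
  exact (Monoid.exponent_eq_prime_iff Nat.prime_three).mpr fun g hg => orderOf_eq_prime (he g) hg

end CfsgLib.PearlThree

namespace CfsgLib.MaxClassPearlThree

open Subgroup

/-- A self-centralizing subgroup of order nine of a group of order at least `81` contains an element
with centralizer of order nine. -/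
theorem exists_mem_small {X : Type*} [Group X] [Finite X] [Fact (Nat.Prime 3)] {n : ℕ} (hX : Nat.card X = 3 ^ n)
    (h4 : 4 ≤ n) (A : Subgroup X) (hA : Nat.card A = 9) (hself : centralizer (A : Set X) ≤ A) :
    ∃ x ∈ A, Nat.card (centralizer ({x} : Set X)) = 3 ^ 2 := by
  have hA' : Nat.card A = 3 ^ 2 := by rw [hA]; norm_num
  have hcomm : ∀ a ∈ A, ∀ b ∈ A, a * b = b * a := fun a ha b hb =>
    congrArg Subtype.val (IsPGroup.commutative_of_card_eq_prime_sq hA' ⟨a, ha⟩ ⟨b, hb⟩)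
  have hnot : ¬ A ≤ Subgroup.center X := fun hZ => by
    have h : (⊤ : Subgroup X) ≤ A := fun g _ =>
      hself (mem_centralizer_iff.mpr fun w hw => (mem_center_iff.mp (hZ hw) g).symm)
    have h2 := card_le_of_le h
    rw [card_top, hX, hA'] at h2
    have := (Nat.pow_le_pow_iff_right (show 1 < 3 by norm_num)).mp h2
    omega
  obtain ⟨x, hxA, hxZ⟩ := SetLike.not_le_iff_exists.mp hnot
  have hPX : IsPGroup 3 X := IsPGroup.of_card hX
  have : Nontrivial X := ⟨⟨x, 1, fun e => hxZ (e ▸ one_mem _)⟩⟩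
  have hZA : Subgroup.center X ≤ A := (center_le_centralizer _).trans hself
  have hsup : Subgroup.center X ⊔ zpowers x = A := by
    refine eq_of_le_of_card_ge (sup_le hZA (zpowers_le.mpr hxA)) ?_
    have hlt : Subgroup.center X < Subgroup.center X ⊔ zpowers x :=
      lt_of_le_of_ne le_sup_left fun e => hxZ (e.ge (mem_sup_right (mem_zpowers x)))
    have h1 : 1 < Nat.card (Subgroup.center X) := Finite.one_lt_card_iff_nontrivial.mpr hPX.center_nontrivial
    have h2 : Nat.card (Subgroup.center X) < Nat.card ↥(Subgroup.center X ⊔ zpowers x) :=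
      lt_of_le_of_ne (card_le_of_le hlt.le) fun e => hlt.ne (eq_of_le_of_card_ge hlt.le e.ge)
    obtain ⟨i, -, hi⟩ := (Nat.dvd_prime_pow Nat.prime_three).mp (hX ▸ card_subgroup_dvd_card (Subgroup.center X))
    obtain ⟨j, -, hj⟩ := (Nat.dvd_prime_pow Nat.prime_three).mp
      (hX ▸ card_subgroup_dvd_card (Subgroup.center X ⊔ zpowers x))
    rw [hi, hj, Nat.pow_lt_pow_iff_right (by norm_num)] at h2
    rw [hi] at h1
    have hi0 : i ≠ 0 := by rintro rfl; simp at h1
    rw [hA', hj]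
    exact Nat.pow_le_pow_right (by norm_num) (by omega)
  refine ⟨x, hxA, ?_⟩
  rw [← hA']
  congr 2
  refine le_antisymm (fun g hg => hself (mem_centralizer_iff.mpr fun a ha => ?_))
    fun g hg => mem_centralizer_singleton_iff.mpr (hcomm g hg x hxA)
  have hle : A ≤ centralizer ({g} : Set X) := by
    rw [← hsup, sup_le_iff, zpowers_le]
    exact ⟨fun z hz => mem_centralizer_singleton_iff.mpr (mem_center_iff.mp hz g).symm,
      mem_centralizer_singleton_iff.mpr (mem_centralizer_singleton_iff.mp hg).symm⟩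
  exact mem_centralizer_singleton_iff.mp (hle ha)

end CfsgLib.MaxClassPearlThree
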