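import Mathlib
import Cfsg.Agent.Lib.NilpotentCommute

/-!
Symmetric and alternating groups have no minimal cover by nilpotent subgroups.
-/

set_option autoImplicit false
set_option linter.unusedSectionVars false

namespace CfsgLib.PermNilCover

open Equiv Finset
open scoped Nat Pointwise

variable {Γ : Type*} [Group Γ] [Finite Γ]

/-- Some element of `A` has order `p`. -/
def HasOrd (p : ℕ) (A : Subgroup Γ) : Prop := ∃ x ∈ A, orderOf x = p

theorem commute_of_mem {A : Subgroup Γ} (hA : Group.IsNilpotent A) {x y : Γ} (hx : x ∈ A) (hy : y ∈ A)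
    (h : (orderOf x).Coprime (orderOf y)) : Commute x y := by
  haveI := hA
  have h1 := CfsgLib.commute_of_nilpotent (⟨x, hx⟩ : A) ⟨y, hy⟩ (by rwa [Subgroup.orderOf_mk, Subgroup.orderOf_mk])
  exact congrArg Subtype.val h1.eq

/-- Elements of order `p` in a nilpotent subgroup. -/
theorem card_ord_le {p : ℕ} [hp : Fact p.Prime] (hsq : ¬ p ^ 2 ∣ Nat.card Γ) {A : Subgroup Γ}
    (hA : Group.IsNilpotent A) : Nat.card {x : Γ // x ∈ A ∧ orderOf x = p} ≤ p - 1 := by
  classical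
  obtain ⟨P⟩ : Nonempty (Sylow p A) := inferInstance
  haveI := ((Group.isNilpotent_of_finite_tfae (G := A)).out 0 3 rfl rfl).mp hA p hp P
  have hP : Nat.card (P : Subgroup A) ≤ p := by
    obtain ⟨e, he⟩ := P.2.exists_card_eq
    rcases Nat.lt_or_ge e 2 with h | h
    · rw [he]
      exact (Nat.pow_le_pow_right hp.out.pos (Nat.lt_succ_iff.mp h)).trans_eq (pow_one p)
    · exact absurd (((pow_dvd_pow p h).trans (he ▸ Subgroup.card_subgroup_dvd_card _)).trans
        (Subgroup.card_subgroup_dvd_card A)) hsq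
  let f : {x : Γ // x ∈ A ∧ orderOf x = p} → {a : (P : Subgroup A) // a ≠ 1} := fun x =>
    ⟨⟨⟨x, x.2.1⟩, by
      have hxp : IsPGroup p (Subgroup.zpowers (⟨x, x.2.1⟩ : A)) :=
        IsPGroup.of_card (n := 1) (by rw [Nat.card_zpowers, Subgroup.orderOf_mk, x.2.2, pow_one])
      obtain ⟨R, hR⟩ := hxp.exists_le_sylow
      haveI : Subsingleton (Sylow p A) := by
        rw [← not_nontrivial_iff_subsingleton, ← Finite.one_lt_card_iff_nontrivial, not_lt,
          Nat.card_eq_one_iff_unique.mpr ⟨⟨fun R R' => ?_⟩, ⟨P⟩⟩]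
        haveI := P.unique_of_normal inferInstance
        exact Subsingleton.elim _ _
      exact Subsingleton.elim P R ▸ hR (Subgroup.mem_zpowers _)⟩, fun h => by
      have h1 : (x : Γ) = 1 := congrArg (fun a : (P : Subgroup A) => ((a : A) : Γ)) h
      have h2 := x.2.2
      rw [h1, orderOf_one] at h2
      exact hp.out.one_lt.ne h2⟩
  refine (Nat.card_le_card_of_injective f fun x y h => Subtype.ext
    (congrArg (fun a : {a : (P : Subgroup A) // a ≠ 1} => ((a.1 : A) : Γ)) h)).trans ?_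
  haveI := Fintype.ofFinite (P : Subgroup A)
  rw [Nat.card_eq_fintype_card, Fintype.card_subtype_compl, Fintype.card_subtype_eq, ← Nat.card_eq_fintype_card]
  omega

/-- Members with an element of order `p` are many. -/
theorem card_ord_le_members {p : ℕ} [hp : Fact p.Prime] (hsq : ¬ p ^ 2 ∣ Nat.card Γ) (𝓐 : Finset (Subgroup Γ))
    (hcov : ∀ g : Γ, ∃ A ∈ 𝓐, g ∈ A) (hnil : ∀ A ∈ 𝓐, Group.IsNilpotent A)
    (S : Finset (Subgroup Γ)) (hS : ∀ A ∈ 𝓐, HasOrd p A → A ∈ S) (hSA : S ⊆ 𝓐) :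
    Nat.card {x : Γ // orderOf x = p} ≤ S.card * (p - 1) := by
  classical
  haveI := Fintype.ofFinite Γ
  have hsub : (univ.filter fun x : Γ => orderOf x = p) ⊆
      S.biUnion fun A => univ.filter fun x : Γ => x ∈ A ∧ orderOf x = p := fun x hx => by
    simp only [mem_filter, Finset.mem_univ, true_and] at hx
    obtain ⟨A, hA, hxA⟩ := hcov x
    exact mem_biUnion.mpr ⟨A, hS A hA ⟨x, hxA, hx⟩, by simp [hxA, hx]⟩
  rw [Nat.card_eq_fintype_card, Fintype.card_subtype]
  refine (card_le_card hsub).trans (card_biUnion_le_card_mul _ _ _ fun A hA => ?_)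
  rw [← Fintype.card_subtype, ← Nat.card_eq_fintype_card]
  exact card_ord_le hsq (hnil A (hSA hA))

/-- Replacing members by other proper subgroups. -/
theorem card_le_replacement (𝓐 : Finset (Subgroup Γ)) (hne : ∀ A ∈ 𝓐, A ≠ ⊤) (hcov : ∀ g : Γ, ∃ A ∈ 𝓐, g ∈ A)
    (hmin : ∀ 𝓑 : Finset (Subgroup Γ), (∀ A ∈ 𝓑, A ≠ ⊤) ∧ (∀ g : Γ, ∃ A ∈ 𝓑, g ∈ A) → 𝓐.card ≤ 𝓑.card)
    (R : Finset (Subgroup Γ)) (hR : ∀ A ∈ R, A ≠ ⊤) (S : Finset (Subgroup Γ)) (hSA : S ⊆ 𝓐)
    (hnew : ∀ g : Γ, (∃ B ∈ R, g ∈ B) ∨ ∀ A ∈ 𝓐, g ∈ A → A ∉ S) : S.card ≤ R.card := by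
  classical
  have h := hmin (R ∪ (𝓐 \ S)) ⟨fun A hA => (mem_union.mp hA).elim (hR A) fun h => hne A (sdiff_subset h),
    fun g => by
      rcases hnew g with ⟨B, hB, hg⟩ | h
      · exact ⟨B, mem_union_left _ hB, hg⟩
      · obtain ⟨A, hA, hg⟩ := hcov g
        exact ⟨A, mem_union_right _ (mem_sdiff.mpr ⟨hA, h A hA hg⟩), hg⟩⟩
  have h1 := card_union_le R (𝓐 \ S)
  have h2 := card_sdiff_add_card_eq_card hSA
  omega

theorem two_pow_le_factorial {p : ℕ} (hp : 5 ≤ p) : 2 ^ p ≤ (p + 1) * (p - 2)! := by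
  induction p, hp using Nat.le_induction with
  | base => decide
  | succ p hp ih =>
    obtain ⟨k, rfl⟩ : ∃ k, p = k + 3 := ⟨p - 3, by omega⟩
    have e1 : k + 3 + 1 - 2 = (k + 1) + 1 := by omega
    have e2 : k + 3 - 2 = k + 1 := by omega
    rw [e1, Nat.factorial_succ, pow_succ]
    rw [e2] at ih
    have h1 : (k + 3 + 1) * 2 ≤ (k + 3 + 1 + 1) * (k + 1 + 1) := by nlinarith
    calc 2 ^ (k + 3) * 2 ≤ (k + 3 + 1) * (k + 1)! * 2 := Nat.mul_le_mul_right 2 ih
      _ = (k + 3 + 1) * 2 * (k + 1)! := by ring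
      _ ≤ (k + 3 + 1 + 1) * (k + 1 + 1) * (k + 1)! := Nat.mul_le_mul_right _ h1
      _ = _ := by ring

theorem two_pow_le_choose {p n : ℕ} (hp : 5 ≤ p) (hn : p < n) (hn' : n < 2 * p) :
    2 ^ (n - 1) ≤ n.choose p * (p - 2)! := by
  induction n, hn using Nat.le_induction with
  | base => rw [Nat.succ_sub_one, Nat.choose_succ_self_right]; exact two_pow_le_factorial hp
  | succ m hm ih =>
    have h1 : 2 * m.choose p ≤ (m + 1).choose p := by
      have h := Nat.choose_mul_succ_eq m p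
      have h3 : 2 * (m + 1 - p) * m.choose p ≤ (m + 1) * m.choose p := Nat.mul_le_mul_right _ (by omega)
      have h4 : (m + 1) * m.choose p = (m + 1).choose p * (m + 1 - p) := by rw [mul_comm, h]
      have h5 : 0 < m + 1 - p := by omega
      nlinarith
    have h2 : m + 1 - 1 = (m - 1) + 1 := by omega
    rw [h2, pow_succ]
    calc 2 ^ (m - 1) * 2 ≤ m.choose p * (p - 2)! * 2 := Nat.mul_le_mul_right 2 (ih (by omega))
      _ = 2 * m.choose p * (p - 2)! := by ring
      _ ≤ _ := Nat.mul_le_mul_right _ h1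

theorem exists_prime_between {n : ℕ} (hn : 6 ≤ n) : ∃ p, p.Prime ∧ 5 ≤ p ∧ p < n ∧ n < 2 * p := by
  rcases Nat.lt_or_ge n 8 with h | h
  · exact ⟨5, Nat.prime_five, le_rfl, by omega, by omega⟩
  obtain ⟨p, hp, h1, h2⟩ := Nat.exists_prime_lt_and_le_two_mul (n / 2) (by omega)
  refine ⟨p, hp, ?_, ?_, by omega⟩
  · omega
  · rcases Nat.lt_or_ge p n with h3 | h3
    · exact h3
    · obtain rfl : p = n := by omega
      rcases hp.eq_two_or_odd with h4 | h4 <;> omega

theorem not_sq_dvd {n p : ℕ} (hp : p.Prime) (h2 : n < 2 * p) : ¬ p ^ 2 ∣ n ! := by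
  intro h
  have hlog : Nat.log p n < 2 := by
    rcases Nat.eq_zero_or_pos n with rfl | hn
    · simp
    · exact Nat.log_lt_of_lt_pow hn.ne' (h2.trans_le (by rw [pow_two]; exact Nat.mul_le_mul_right p hp.two_le))
  have h1 := (hp.pow_dvd_factorial_iff hlog).mp h
  rw [show Finset.Ico 1 2 = ({1} : Finset ℕ) from rfl, Finset.sum_singleton, pow_one] at h1
  have := (Nat.div_lt_iff_lt_mul hp.pos (x := n) (y := 2)).mpr (by omega)
  omega

theorem card_ord {n p : ℕ} (hp : p.Prime) (hpn : p ≤ n) (hn : n < 2 * p) :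
    Nat.card {g : Perm (Fin n) // orderOf g = p} = n.choose p * (p - 1)! := by
  classical
  haveI := Fact.mk hp
  have hiff : ∀ g : Perm (Fin n), orderOf g = p ↔ g.cycleType = ({p} : Multiset ℕ) := fun g => by
    refine ⟨fun h => ?_, fun h => ?_⟩
    · obtain ⟨m, hm⟩ := Perm.cycleType_prime_order (h.symm ▸ hp : (orderOf g).Prime)
      rw [h] at hm
      have h1 : g.cycleType.sum ≤ n := by
        rw [Perm.sum_cycleType]
        exact (Finset.card_le_univ _).trans_eq (Fintype.card_fin n)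
      rw [hm, Multiset.sum_replicate, smul_eq_mul] at h1
      obtain rfl : m = 0 := by nlinarith
      simpa using hm
    · rw [← Perm.lcm_cycleType, h]; simp
  rw [Nat.card_congr (Equiv.subtypeEquivRight hiff), Nat.card_eq_fintype_card, Fintype.card_subtype,
    Perm.card_of_cycleType, if_pos]
  · simp only [Multiset.sum_singleton, Multiset.prod_singleton, Fintype.card_fin, Multiset.toFinset_singleton,
      Finset.prod_singleton, Multiset.count_singleton_self, Nat.factorial_one, mul_one]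
    refine Nat.div_eq_of_eq_mul_left (Nat.mul_pos (Nat.factorial_pos _) hp.pos) ?_
    have e : p ! = p * (p - 1)! := (Nat.mul_factorial_pred hp.ne_zero).symm
    rw [← Nat.choose_mul_factorial_mul_factorial hpn, e]
    ring
  · simp [hpn, hp.two_le]

theorem eq_pow_of_commute {n : ℕ} {σ x : Perm (Fin n)} (a : Fin n) (hone : ∀ b, σ.SameCycle a b)
    (hc : Commute x σ) : ∃ i : ℕ, x = σ ^ i := by
  obtain ⟨i, hi⟩ := (hone (x a)).exists_nat_pow_eq
  refine ⟨i, Equiv.ext fun b => ?_⟩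
  obtain ⟨j, rfl⟩ := (hone b).exists_nat_pow_eq
  have h1 := Equiv.ext_iff.mp (hc.pow_right j).eq a
  rw [Perm.mul_apply, Perm.mul_apply] at h1
  rw [h1, ← hi, ← Perm.mul_apply, ← Perm.mul_apply, ← pow_add, ← pow_add, Nat.add_comm]

theorem orderOf_dvd_card {n : ℕ} {σ : Perm (Fin n)} (a : Fin n) (hone : ∀ b, σ.SameCycle a b) : orderOf σ ∣ n := by
  classical
  rcases Nat.lt_or_ge n 2 with hn | hn
  · haveI : Subsingleton (Fin n) := Fin.subsingleton_iff_le_one.mpr (by omega)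
    rw [Subsingleton.elim σ 1, orderOf_one]
    exact one_dvd _
  have hne : ∀ b, σ b ≠ b := fun b hb => by
    obtain ⟨c, hc⟩ := Fintype.exists_ne_of_one_lt_card (by rw [Fintype.card_fin]; omega) b
    obtain ⟨i, hi⟩ := ((hone b).symm.trans (hone c)).exists_nat_pow_eq
    rw [Function.IsFixedPt.perm_pow hb i] at hi
    exact hc hi.symm
  have hcyc : σ.IsCycle := ⟨a, hne a, fun b _ => hone b⟩
  rw [hcyc.orderOf, show σ.support = univ from Finset.eq_univ_of_forall fun b => Perm.mem_support.mpr (hne b),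
    Finset.card_univ, Fintype.card_fin]

/-- The general case. -/
theorem main {n : ℕ} (hn : 6 ≤ n) (ι : Γ →* Perm (Fin n)) (hι : Function.Injective ι)
    (halt : alternatingGroup (Fin n) ≤ ι.range) (𝓐 : Finset (Subgroup Γ)) (hne : ∀ A ∈ 𝓐, A ≠ ⊤)
    (hcov : ∀ g : Γ, ∃ A ∈ 𝓐, g ∈ A)
    (hmin : ∀ 𝓑 : Finset (Subgroup Γ), (∀ A ∈ 𝓑, A ≠ ⊤) ∧ (∀ g : Γ, ∃ A ∈ 𝓑, g ∈ A) → 𝓐.card ≤ 𝓑.card)
    (hnil : ∀ A ∈ 𝓐, Group.IsNilpotent A) : False := by
  classical
  obtain ⟨p, hp, hp5, hpn, hn2⟩ := exists_prime_between hn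
  haveI := Fact.mk hp
  let last : Fin n := ⟨n - 1, by omega⟩
  let T : Finset (Finset (Fin n)) := ((univ : Finset (Fin n)).erase last).powerset.erase ∅
  let R : Finset (Subgroup Γ) := T.image fun s : Finset (Fin n) =>
    (MulAction.stabilizer (Perm (Fin n)) (s : Set (Fin n))).comap ι
  have hRne : ∀ A ∈ R, A ≠ ⊤ := by
    intro A hA htop
    obtain ⟨s, hs, rfl⟩ := mem_image.mp hA
    obtain ⟨hs0, hsl⟩ := mem_erase.mp hs
    obtain ⟨a, ha⟩ := Finset.nonempty_of_ne_empty hs0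
    have hla : a ≠ last := fun h => by simpa [h] using mem_powerset.mp hsl ha
    obtain ⟨c, hca, hcl⟩ : ∃ c : Fin n, c ≠ a ∧ c ≠ last := by
      have h1 : (({a, last} : Finset (Fin n))ᶜ).Nonempty := by
        rw [← Finset.card_pos, Finset.card_compl, Finset.card_pair hla, Fintype.card_fin]; omega
      obtain ⟨c, hc⟩ := h1
      simp only [mem_compl, mem_insert, mem_singleton, not_or] at hc
      exact ⟨c, hc.1, hc.2⟩
    obtain ⟨g, hg⟩ := halt (x := swap a c * swap a last) (by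
      rw [Perm.mem_alternatingGroup, map_mul, Perm.sign_swap (Ne.symm hca), Perm.sign_swap hla]; decide)
    have h1 : ι g • (s : Set (Fin n)) = s := MulAction.mem_stabilizer_iff.mp (show ι g ∈ _ from
      (show g ∈ (MulAction.stabilizer (Perm (Fin n)) (s : Set (Fin n))).comap ι from htop ▸ Subgroup.mem_top g))
    have h2 : ι g a ∈ (s : Set (Fin n)) := h1 ▸ Set.smul_mem_smul_set (a := ι g) ha
    rw [hg, Perm.mul_apply, swap_apply_left, swap_apply_of_ne_of_ne (Ne.symm hla) (Ne.symm hcl)] at h2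
    simpa using mem_powerset.mp hsl h2
  have hRcard : R.card + 1 ≤ 2 ^ (n - 1) := by
    refine (Nat.add_le_add_right (card_image_le) 1).trans ?_
    rw [card_erase_add_one (mem_powerset.mpr (empty_subset _)), card_powerset, card_erase_of_mem (Finset.mem_univ _),
      Finset.card_univ, Fintype.card_fin]
  let S := 𝓐.filter (HasOrd p)
  have hsq : ¬ p ^ 2 ∣ Nat.card Γ := fun h => not_sq_dvd hp hn2 (h.trans (by
    have := Subgroup.card_dvd_of_injective ι hι
    rwa [Nat.card_perm, Nat.card_fin] at this))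
  have hSR : S.card ≤ R.card := by
    refine card_le_replacement 𝓐 hne hcov hmin R hRne S (filter_subset _ _) fun g => ?_
    by_cases hinv : ∃ s : Finset (Fin n), s.Nonempty ∧ s ≠ univ ∧ ∀ b ∈ s, ι g b ∈ s
    · left
      obtain ⟨s, hs0, hsu, hs⟩ := hinv
      have hset : ι g • (s : Set (Fin n)) = s := by
        have himg : s.image (ι g) = s := eq_of_subset_of_card_le (image_subset_iff.mpr hs)
          (card_image_of_injective _ (ι g).injective).ge
        rw [← Set.image_smul]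
        show (ι g) '' (s : Set (Fin n)) = s
        rw [← coe_image, himg]
      by_cases hl : last ∈ s
      · refine ⟨_, mem_image.mpr ⟨sᶜ, mem_erase.mpr ⟨fun h => hsu ?_, mem_powerset.mpr fun b hb => ?_⟩, rfl⟩, ?_⟩
        · rwa [compl_eq_empty_iff] at h
        · exact mem_erase.mpr ⟨fun h => mem_compl.mp hb (h ▸ hl), Finset.mem_univ _⟩
        · show ι g ∈ MulAction.stabilizer (Perm (Fin n)) ((sᶜ : Finset (Fin n)) : Set (Fin n))
          rw [MulAction.mem_stabilizer_iff, coe_compl, Set.smul_set_compl, hset]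
      · exact ⟨_, mem_image.mpr ⟨s, mem_erase.mpr ⟨hs0.ne_empty, mem_powerset.mpr fun b hb =>
          mem_erase.mpr ⟨fun h => hl (h ▸ hb), Finset.mem_univ _⟩⟩, rfl⟩, MulAction.mem_stabilizer_iff.mpr hset⟩
    · right
      push Not at hinv
      intro A hA hgA hAS
      obtain ⟨x, hxA, hx⟩ := (mem_filter.mp hAS).2
      have hone : ∀ b, (ι g).SameCycle last b := fun b => by
        by_contra hb
        obtain ⟨c, hc, hc'⟩ := hinv (univ.filter fun c => (ι g).SameCycle last c)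
          ⟨last, mem_filter.mpr ⟨Finset.mem_univ _, Perm.SameCycle.refl _ _⟩⟩
          (fun h => hb (mem_filter.mp (h.ge (Finset.mem_univ b))).2)
        exact hc' (mem_filter.mpr ⟨Finset.mem_univ _, Perm.sameCycle_apply_right.mpr (mem_filter.mp hc).2⟩)
      have hgn := orderOf_dvd_card last hone
      rw [orderOf_injective ι hι] at hgn
      have hnp : ¬ p ∣ n := fun h => by
        obtain ⟨k, hk⟩ := h
        rcases k with _ | _ | k
        · omega
        · omega
        · nlinarith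
      have hcop : (orderOf x).Coprime (orderOf g) := by
        rw [hx]; exact (hp.coprime_iff_not_dvd).mpr fun h => hnp (h.trans hgn)
      obtain ⟨i, hi⟩ := eq_pow_of_commute last hone ((commute_of_mem (hnil A hA) hxA hgA hcop).map ι)
      have h1 : p ∣ orderOf g := by
        rw [← hx, ← orderOf_injective ι hι x, hi, ← orderOf_injective ι hι g]
        exact orderOf_pow_dvd i
      exact hnp (h1.trans hgn)
  have hcount := card_ord_le_members hsq 𝓐 hcov hnil S (fun A hA h => mem_filter.mpr ⟨hA, h⟩) (filter_subset _ _)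
  have hperm : Nat.card {g : Perm (Fin n) // orderOf g = p} ≤ Nat.card {x : Γ // orderOf x = p} := by
    have hmem : ∀ g : {g : Perm (Fin n) // orderOf g = p}, ∃ x : Γ, ι x = g := fun g => halt (by
      rw [Perm.mem_alternatingGroup]
      have h := g.2
      have hodd : Odd (orderOf (g : Perm (Fin n))) := by rw [h]; exact hp.odd_of_ne_two (by omega)
      rcases Int.units_eq_one_or (Perm.sign (g : Perm (Fin n))) with h1 | h1
      · exact h1
      · exfalso
        have h2 := congrArg Perm.sign (pow_orderOf_eq_one (g : Perm (Fin n)))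
        rw [map_pow, h1, map_one, hodd.neg_one_pow] at h2
        exact absurd h2 (by decide))
    choose f hf using hmem
    exact Nat.card_le_card_of_injective (fun g => (⟨f g, by rw [← orderOf_injective ι hι, hf]; exact g.2⟩ :
      {x : Γ // orderOf x = p})) fun g g' h => Subtype.ext (by
        rw [← hf g, ← hf g', show f g = f g' from congrArg Subtype.val h])
  rw [card_ord hp hpn.le hn2] at hperm
  have hfac : (p - 1)! = (p - 1) * (p - 2)! := by
    rw [show p - 2 = p - 1 - 1 by omega, Nat.mul_factorial_pred (by omega)]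
  have hb := two_pow_le_choose hp5 hpn hn2
  have h3 : S.card * (p - 1) ≤ R.card * (p - 1) := Nat.mul_le_mul_right _ hSR
  have h4 : (R.card + 1) * (p - 1) ≤ n.choose p * (p - 2)! * (p - 1) :=
    Nat.mul_le_mul_right _ (hRcard.trans hb)
  rw [hfac] at hperm
  have h5 : n.choose p * ((p - 1) * (p - 2)!) = n.choose p * (p - 2)! * (p - 1) := by ring
  have h6 : (R.card + 1) * (p - 1) = R.card * (p - 1) + (p - 1) := by ring
  omega

theorem commute_mem_pow {A : Subgroup Γ} (hA : Group.IsNilpotent A) {x y : Γ} (hx : x ∈ A) (hy : y ∈ A) {a b : ℕ}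
    (hxa : orderOf x = a) (hyb : orderOf y = b) (hab : a.Coprime b) : orderOf (x * y) = a * b := by
  rw [(commute_of_mem hA hx hy (by rwa [hxa, hyb])).orderOf_mul_eq_mul_orderOf_of_coprime (by rwa [hxa, hyb]), hxa, hyb]

theorem no_order_six : ∀ σ : Perm (Fin 4), σ ^ 6 = 1 → σ ^ 2 = 1 ∨ σ ^ 3 = 1 := by decide +kernel

theorem no_order_fifteen : ∀ σ : Perm (Fin 5), σ ^ 15 = 1 → σ ^ 3 = 1 ∨ σ ^ 5 = 1 := by decide +kernel

theorem no_order_twelve : ∀ σ : Perm (Fin 5), σ ^ 12 = 1 → σ ^ 4 = 1 ∨ σ ^ 6 = 1 := by decide +kernel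

theorem no_order_twenty : ∀ σ : Perm (Fin 5), σ ^ 20 = 1 → σ ^ 4 = 1 ∨ σ ^ 10 = 1 := by decide +kernel

theorem not_order {H : Type*} [Group H] {m a b : ℕ} (hno : ∀ σ : H, σ ^ m = 1 → σ ^ a = 1 ∨ σ ^ b = 1)
    (ha : ¬ m ∣ a) (hb : ¬ m ∣ b) (σ : H) : orderOf σ ≠ m := fun h =>
  (hno σ (h ▸ pow_orderOf_eq_one σ)).elim (fun h1 => ha (h ▸ orderOf_dvd_of_pow_eq_one h1))
    fun h1 => hb (h ▸ orderOf_dvd_of_pow_eq_one h1)

theorem alt_five (𝓐 : Finset (Subgroup (alternatingGroup (Fin 5)))) (hne : ∀ A ∈ 𝓐, A ≠ ⊤)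
    (hcov : ∀ g, ∃ A ∈ 𝓐, g ∈ A)
    (hmin : ∀ 𝓑 : Finset (Subgroup (alternatingGroup (Fin 5))),
      (∀ A ∈ 𝓑, A ≠ ⊤) ∧ (∀ g, ∃ A ∈ 𝓑, g ∈ A) → 𝓐.card ≤ 𝓑.card)
    (hnil : ∀ A ∈ 𝓐, Group.IsNilpotent A) : False := by
  classical
  haveI := Fact.mk Nat.prime_three
  let R : Finset (Subgroup (alternatingGroup (Fin 5))) := (univ : Finset (Fin 5)).image fun a =>
    (MulAction.stabilizer (Perm (Fin 5)) a).comap (alternatingGroup (Fin 5)).subtype
  have hRne : ∀ A ∈ R, A ≠ ⊤ := by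
    intro A hA htop
    obtain ⟨a, -, rfl⟩ := mem_image.mp hA
    have h1 : ∀ a : Fin 5, ∃ σ : Perm (Fin 5), Perm.sign σ = 1 ∧ σ a ≠ a := by decide +kernel
    obtain ⟨σ, hσ, hσa⟩ := h1 a
    exact hσa (show (⟨σ, Perm.mem_alternatingGroup.mpr hσ⟩ : alternatingGroup (Fin 5)) ∈
      (MulAction.stabilizer (Perm (Fin 5)) a).comap (alternatingGroup (Fin 5)).subtype from htop ▸ Subgroup.mem_top _)
  have hsq : ¬ 3 ^ 2 ∣ Nat.card (alternatingGroup (Fin 5)) := fun h =>
    not_sq_dvd (n := 5) Nat.prime_three (by norm_num) (h.trans (by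
      have := Subgroup.card_subgroup_dvd_card (alternatingGroup (Fin 5))
      rwa [Nat.card_perm, Nat.card_fin] at this))
  have hdec : ∀ σ : Perm (Fin 5), Perm.sign σ = 1 → (∃ a, σ a = a) ∨ σ ^ 5 = 1 := by decide +kernel
  let S := 𝓐.filter (HasOrd 3)
  have hSR : S.card ≤ R.card := card_le_replacement 𝓐 hne hcov hmin R hRne S (filter_subset _ _) fun g => by
    by_cases hfix : ∃ a, (g : Perm (Fin 5)) a = a
    · obtain ⟨a, ha⟩ := hfix
      exact Or.inl ⟨_, mem_image.mpr ⟨a, Finset.mem_univ _, rfl⟩, ha⟩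
    · refine Or.inr fun A hA hgA hAS => ?_
      obtain ⟨x, hxA, hx⟩ := (mem_filter.mp hAS).2
      have hg5 : orderOf g = 5 := by
        haveI := Fact.mk Nat.prime_five
        refine orderOf_eq_prime (Subtype.ext ((hdec g (Perm.mem_alternatingGroup.mp g.2)).resolve_left hfix)) ?_
        rintro rfl
        exact hfix ⟨0, rfl⟩
      have h := commute_mem_pow (hnil A hA) hxA hgA hx hg5 (by norm_num)
      rw [← Subgroup.orderOf_coe] at h
      exact not_order no_order_fifteen (by norm_num) (by norm_num) _ h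
  have hcount := card_ord_le_members hsq 𝓐 hcov hnil S (fun A hA h => mem_filter.mpr ⟨hA, h⟩) (filter_subset _ _)
  have hR5 : R.card ≤ 5 := card_image_le.trans (by simp)
  have h20 : Nat.card {g : Perm (Fin 5) // orderOf g = 3} ≤ Nat.card {x : alternatingGroup (Fin 5) // orderOf x = 3} := by
    have h1 : ∀ σ : Perm (Fin 5), σ ^ 3 = 1 → Perm.sign σ = 1 := by decide +kernel
    exact Nat.card_le_card_of_injective (fun g => ⟨⟨g.1, Perm.mem_alternatingGroup.mpr (h1 g.1
      (orderOf_dvd_iff_pow_eq_one.mp g.2.dvd))⟩, by rw [← Subgroup.orderOf_coe]; exact g.2⟩)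
      fun g g' h => Subtype.ext (congrArg (fun x : {x : alternatingGroup (Fin 5) // orderOf x = 3} =>
        ((x.1 : alternatingGroup (Fin 5)) : Perm (Fin 5))) h)
  rw [card_ord Nat.prime_three (by norm_num) (by norm_num)] at h20
  have hv : Nat.choose 5 3 * (3 - 1)! = 20 := by decide
  omega

theorem sym_four (𝓐 : Finset (Subgroup (Perm (Fin 4)))) (hne : ∀ A ∈ 𝓐, A ≠ ⊤) (hcov : ∀ g, ∃ A ∈ 𝓐, g ∈ A)
    (hmin : ∀ 𝓑 : Finset (Subgroup (Perm (Fin 4))), (∀ A ∈ 𝓑, A ≠ ⊤) ∧ (∀ g, ∃ A ∈ 𝓑, g ∈ A) → 𝓐.card ≤ 𝓑.card)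
    (hnil : ∀ A ∈ 𝓐, Group.IsNilpotent A) : False := by
  classical
  haveI := Fact.mk Nat.prime_three
  let us : Finset (Perm (Fin 4)) := {swap 0 1 * swap 2 3, swap 0 2 * swap 1 3, swap 0 3 * swap 1 2}
  let R : Finset (Subgroup (Perm (Fin 4))) :=
    insert (alternatingGroup (Fin 4)) (us.image fun u => Subgroup.centralizer {u})
  have hdec : ∀ σ : Perm (Fin 4), Perm.sign σ = 1 ∨ σ * (swap 0 1 * swap 2 3) = swap 0 1 * swap 2 3 * σ ∨
      σ * (swap 0 2 * swap 1 3) = swap 0 2 * swap 1 3 * σ ∨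
      σ * (swap 0 3 * swap 1 2) = swap 0 3 * swap 1 2 * σ := by decide +kernel
  have hRne : ∀ A ∈ R, A ≠ ⊤ := by
    intro A hA htop
    have h1 : ∀ u ∈ us, ∃ σ : Perm (Fin 4), σ * u ≠ u * σ := by decide +kernel
    rcases mem_insert.mp hA with rfl | hA
    · have : swap (0 : Fin 4) 1 ∈ alternatingGroup (Fin 4) := htop ▸ Subgroup.mem_top _
      rw [Perm.mem_alternatingGroup] at this
      revert this
      decide
    · obtain ⟨u, hu, rfl⟩ := mem_image.mp hA
      obtain ⟨σ, hσ⟩ := h1 u hu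
      exact hσ (Subgroup.mem_centralizer_singleton_iff.mp (htop ▸ Subgroup.mem_top σ))
  have hR : R.card ≤ 4 := (card_insert_le _ _).trans (Nat.add_le_add_right (card_image_le.trans (by decide)) 1)
  have hsq : ¬ 3 ^ 2 ∣ Nat.card (Perm (Fin 4)) := fun h =>
    not_sq_dvd (n := 4) Nat.prime_three (by norm_num) (by rwa [Nat.card_perm, Nat.card_fin] at h)
  let S3 := 𝓐.filter (HasOrd 3)
  obtain ⟨A₂, hA₂, ht⟩ := hcov (swap 0 1)
  have hA₂3 : A₂ ∉ S3 := fun h => by
    obtain ⟨x, hxA, hx⟩ := (mem_filter.mp h).2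
    have ho : orderOf (swap (0 : Fin 4) 1) = 2 := orderOf_eq_prime (by decide +kernel) (by decide +kernel)
    exact not_order no_order_six (by norm_num) (by norm_num) _
      (commute_mem_pow (hnil A₂ hA₂) ht hxA ho hx (by norm_num) |>.trans (by norm_num))
  have hSR := card_le_replacement 𝓐 hne hcov hmin R hRne (insert A₂ S3)
    (insert_subset_iff.mpr ⟨hA₂, filter_subset _ _⟩) fun g => Or.inl (by
      rcases hdec g with h | h | h | h
      · exact ⟨_, mem_insert_self _ _, Perm.mem_alternatingGroup.mpr h⟩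
      all_goals exact ⟨_, mem_insert_of_mem (mem_image.mpr ⟨_, by simp [us], rfl⟩),
        Subgroup.mem_centralizer_singleton_iff.mpr h⟩)
  rw [card_insert_of_notMem hA₂3] at hSR
  have hcount := card_ord_le_members hsq 𝓐 hcov hnil S3 (fun A hA h => mem_filter.mpr ⟨hA, h⟩) (filter_subset _ _)
  rw [card_ord Nat.prime_three (by norm_num) (by norm_num)] at hcount
  have hv : Nat.choose 4 3 * (3 - 1)! = 8 := by decide
  omega

theorem sym_five (𝓐 : Finset (Subgroup (Perm (Fin 5)))) (hne : ∀ A ∈ 𝓐, A ≠ ⊤) (hcov : ∀ g, ∃ A ∈ 𝓐, g ∈ A)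
    (hmin : ∀ 𝓑 : Finset (Subgroup (Perm (Fin 5))), (∀ A ∈ 𝓑, A ≠ ⊤) ∧ (∀ g, ∃ A ∈ 𝓑, g ∈ A) → 𝓐.card ≤ 𝓑.card)
    (hnil : ∀ A ∈ 𝓐, Group.IsNilpotent A) : False := by
  classical
  haveI := Fact.mk Nat.prime_three
  haveI := Fact.mk Nat.prime_five
  let pairs : Finset (Fin 5 × Fin 5) := univ.filter fun ab => ab.1 < ab.2
  let R : Finset (Subgroup (Perm (Fin 5))) := insert (alternatingGroup (Fin 5))
    ((univ : Finset (Fin 5)).image (fun a => MulAction.stabilizer (Perm (Fin 5)) a) ∪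
      pairs.image fun ab => Subgroup.centralizer {swap ab.1 ab.2})
  have hdec : ∀ σ : Perm (Fin 5), Perm.sign σ = 1 ∨ (∃ a, σ a = a) ∨
      ∃ ab : Fin 5 × Fin 5, ab.1 < ab.2 ∧ σ * swap ab.1 ab.2 = swap ab.1 ab.2 * σ := by decide +kernel
  have hRne : ∀ A ∈ R, A ≠ ⊤ := by
    intro A hA htop
    have h1 : ∀ a : Fin 5, ∃ σ : Perm (Fin 5), σ a ≠ a := by decide +kernel
    have h2 : ∀ ab : Fin 5 × Fin 5, ab.1 < ab.2 → ∃ σ : Perm (Fin 5), σ * swap ab.1 ab.2 ≠ swap ab.1 ab.2 * σ := by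
      decide +kernel
    rcases mem_insert.mp hA with rfl | hA
    · have : swap (0 : Fin 5) 1 ∈ alternatingGroup (Fin 5) := htop ▸ Subgroup.mem_top _
      rw [Perm.mem_alternatingGroup] at this
      revert this
      decide
    rcases mem_union.mp hA with hA | hA
    · obtain ⟨a, -, rfl⟩ := mem_image.mp hA
      obtain ⟨σ, hσ⟩ := h1 a
      exact hσ (show σ ∈ MulAction.stabilizer (Perm (Fin 5)) a from htop ▸ Subgroup.mem_top σ)
    · obtain ⟨ab, hab, rfl⟩ := mem_image.mp hA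
      obtain ⟨σ, hσ⟩ := h2 ab (mem_filter.mp hab).2
      exact hσ (Subgroup.mem_centralizer_singleton_iff.mp (htop ▸ Subgroup.mem_top σ))
  have hR : R.card ≤ 16 := by
    refine (card_insert_le _ _).trans (Nat.add_le_add_right ((card_union_le _ _).trans ?_) 1)
    exact Nat.add_le_add (card_image_le.trans (by decide) : _ ≤ 5) (card_image_le.trans (by decide) : _ ≤ 10)
  have hsq3 : ¬ 3 ^ 2 ∣ Nat.card (Perm (Fin 5)) := fun h =>
    not_sq_dvd (n := 5) Nat.prime_three (by norm_num) (by rwa [Nat.card_perm, Nat.card_fin] at h)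
  have hsq5 : ¬ 5 ^ 2 ∣ Nat.card (Perm (Fin 5)) := fun h =>
    not_sq_dvd (n := 5) Nat.prime_five (by norm_num) (by rwa [Nat.card_perm, Nat.card_fin] at h)
  let S3 := 𝓐.filter (HasOrd 3)
  let S5 := 𝓐.filter (HasOrd 5)
  have hc4 : ∀ σ : Perm (Fin 5), σ = swap 0 1 * swap 1 2 * swap 2 3 → ¬ σ ^ 2 = 1 ∧ σ ^ 4 = 1 := by decide +kernel
  set c := swap (0 : Fin 5) 1 * swap 1 2 * swap 2 3 with hc
  have hco : orderOf c = 4 := by
    haveI := Fact.mk Nat.prime_two
    exact orderOf_eq_prime_pow (p := 2) (n := 1) (by simpa using (hc4 c rfl).1) (by simpa using (hc4 c rfl).2)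
  obtain ⟨A₄, hA₄, hcA⟩ := hcov c
  have hA₄3 : A₄ ∉ S3 := fun h => by
    obtain ⟨x, hxA, hx⟩ := (mem_filter.mp h).2
    exact not_order no_order_twelve (by norm_num) (by norm_num) _
      (commute_mem_pow (hnil A₄ hA₄) hcA hxA hco hx (by norm_num) |>.trans (by norm_num))
  have hA₄5 : A₄ ∉ S5 := fun h => by
    obtain ⟨x, hxA, hx⟩ := (mem_filter.mp h).2
    exact not_order no_order_twenty (by norm_num) (by norm_num) _
      (commute_mem_pow (hnil A₄ hA₄) hcA hxA hco hx (by norm_num) |>.trans (by norm_num))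
  have hdisj : Disjoint S3 S5 := disjoint_left.mpr fun A h3 h5 => by
    obtain ⟨x, hxA, hx⟩ := (mem_filter.mp h3).2
    obtain ⟨y, hyA, hy⟩ := (mem_filter.mp h5).2
    exact not_order no_order_fifteen (by norm_num) (by norm_num) _
      (commute_mem_pow (hnil A (mem_filter.mp h3).1) hxA hyA hx hy (by norm_num) |>.trans (by norm_num))
  have hSR := card_le_replacement 𝓐 hne hcov hmin R hRne (insert A₄ (S3 ∪ S5))
    (insert_subset_iff.mpr ⟨hA₄, union_subset (filter_subset _ _) (filter_subset _ _)⟩) fun g => Or.inl (by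
      rcases hdec g with h | ⟨a, h⟩ | ⟨ab, hab, h⟩
      · exact ⟨_, mem_insert_self _ _, Perm.mem_alternatingGroup.mpr h⟩
      · exact ⟨_, mem_insert_of_mem (mem_union_left _ (mem_image.mpr ⟨a, Finset.mem_univ _, rfl⟩)), h⟩
      · exact ⟨_, mem_insert_of_mem (mem_union_right _
          (mem_image.mpr ⟨ab, mem_filter.mpr ⟨Finset.mem_univ _, hab⟩, rfl⟩)),
          Subgroup.mem_centralizer_singleton_iff.mpr h⟩)
  rw [card_insert_of_notMem (by simp [hA₄3, hA₄5]), card_union_of_disjoint hdisj] at hSR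
  have h3 := card_ord_le_members hsq3 𝓐 hcov hnil S3 (fun A hA h => mem_filter.mpr ⟨hA, h⟩) (filter_subset _ _)
  have h5 := card_ord_le_members hsq5 𝓐 hcov hnil S5 (fun A hA h => mem_filter.mpr ⟨hA, h⟩) (filter_subset _ _)
  rw [card_ord Nat.prime_three (by norm_num) (by norm_num)] at h3
  rw [card_ord Nat.prime_five (by norm_num) (by norm_num)] at h5
  have hv3 : Nat.choose 5 3 * (3 - 1)! = 20 := by decide
  have hv5 : Nat.choose 5 5 * (5 - 1)! = 24 := by decide
  omega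

end CfsgLib.PermNilCover
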