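/-
π-closed groups: extensions in π'-homogeneous groups.
-/
import Mathlib
import Cfsg.Agent.Lib.Coprime

set_option autoImplicit false

open scoped Pointwise

namespace CfsgLib.PiClosed

universe u

variable {G : Type u} [Group G] (π : Set ℕ)

/-- Only primes of `π` divide the order. -/
def PiEl (x : G) : Prop := ∀ p : ℕ, p.Prime → p ∣ orderOf x → p ∈ π

/-- The automizer of every non-trivial `π'`-subgroup is a `π'`-group. -/
def Homog (G : Type u) [Group G] (π : Set ℕ) : Prop :=
  ∀ H : Subgroup G, H ≠ ⊥ → (∀ p : ℕ, p.Prime → p ∣ Nat.card ↥H → p ∉ π) →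
    ∀ p : ℕ, p.Prime → p ∣ (Subgroup.centralizer (H : Set G)).relIndex (Subgroup.normalizer (H : Set G)) → p ∉ π

/-- The `π`-elements of `S` are the elements of `L`. -/
def IsCore (S L : Subgroup G) : Prop := L ≤ S ∧ ∀ x ∈ S, (x ∈ L ↔ PiEl π x)

theorem piEl_conj {x : G} (hx : PiEl π x) (g : G) : PiEl π (g * x * g⁻¹) := by
  intro p hp hd
  refine hx p hp ?_
  rwa [show g * x * g⁻¹ = MulAut.conj g x from rfl, MulEquiv.orderOf_eq] at hd

theorem IsCore.normal {S L : Subgroup G} (h : IsCore π S L) (hS : S.Normal) : L.Normal :=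
  ⟨fun x hx g => (h.2 _ (hS.conj_mem x (h.1 hx) g)).mpr (piEl_conj π ((h.2 x (h.1 hx)).mp hx) g)⟩

theorem piEl_of_map {H : Type u} [Group H] (f : G →* H) {x : G} (hx : PiEl π x) : PiEl π (f x) :=
  fun p hp hd => hx p hp (hd.trans (orderOf_map_dvd f x))

theorem eq_one_of_pi_pi' {x : G} [Finite G] (hx : PiEl π x) {n : ℕ} (hn : ∀ p : ℕ, p.Prime → p ∣ n → p ∉ π)
    (hd : orderOf x ∣ n) : x = 1 := by
  rw [← orderOf_eq_one_iff]
  by_contra hne
  obtain ⟨p, hp, hpd⟩ := Nat.exists_prime_and_dvd hne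
  exact hn p hp (hpd.trans hd) (hx p hp hpd)

variable [Finite G]

/-- The quotient of `K` by the group of its `π`-elements is a `π'`-group. -/
theorem quotient_pi' {K L : Subgroup G} [L.Normal] (h : IsCore π K L) {p : ℕ} (hp : p.Prime)
    (hd : p ∣ Nat.card (K.map (QuotientGroup.mk' L))) : p ∉ π := by
  intro hpπ
  have := Fact.mk hp
  obtain ⟨⟨y, k, hk, rfl⟩, hy⟩ := exists_prime_orderOf_dvd_card' p hd
  rw [← Subgroup.orderOf_coe] at hy
  change orderOf (QuotientGroup.mk' L k) = p at hy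
  -- the `p`-part of `k`
  obtain ⟨a, c, hc, ho⟩ := Nat.exists_eq_pow_mul_and_not_dvd (orderOf_pos k).ne' p hp.one_lt.ne'
  have hkc : PiEl π (k ^ c) := by
    intro q hq hqd
    rw [orderOf_pow, ho, Nat.gcd_eq_right (Dvd.intro_left _ rfl),
      Nat.mul_div_cancel _ (Nat.pos_of_ne_zero fun e => by simp [e] at hc)] at hqd
    rwa [(Nat.prime_dvd_prime_iff_eq hq hp).mp (hq.dvd_of_dvd_pow hqd)]
  have h1 : k ^ c ∈ L := (h.2 _ (K.pow_mem hk c)).mpr hkc
  have h2 : (QuotientGroup.mk' L k) ^ c = 1 := by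
    rw [← map_pow, QuotientGroup.mk'_apply, QuotientGroup.eq_one_iff]; exact h1
  exact hc (hy ▸ orderOf_dvd_of_pow_eq_one h2)

/-- In a `π'`-homogeneous group, a `π`-element centralises `K/L`. -/
theorem centralizes_quotient (hhom : Homog G π) {K L : Subgroup G} [L.Normal] (hK : K.Normal) (h : IsCore π K L)
    {x : G} (hx : PiEl π x) :
    QuotientGroup.mk' L x ∈ Subgroup.centralizer ((K.map (QuotientGroup.mk' L) : Subgroup (G ⧸ L)) : Set (G ⧸ L)) := by
  set q := QuotientGroup.mk' L with hq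
  set Kb := K.map q with hKb
  have hKbn : Kb.Normal := hK.map _ (QuotientGroup.mk'_surjective _)
  have hLπ : ∀ r : ℕ, r.Prime → r ∣ Nat.card L → r ∈ π := by
    intro r hr hrd
    have := Fact.mk hr
    obtain ⟨y, hy⟩ := exists_prime_orderOf_dvd_card' r hrd
    exact (h.2 _ (h.1 y.2)).mp y.2 r hr (by rw [Subgroup.orderOf_coe, hy])
  set A := Subgroup.zpowers (q x) with hA
  have hAK : A ≤ Subgroup.normalizer (Kb : Set (G ⧸ L)) := by
    rw [Subgroup.normalizer_eq_top_iff.mpr hKbn]; exact le_top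
  have hcop : (Nat.card A).Coprime (Nat.card Kb) := Nat.coprime_of_dvd fun r hr hrA hrK => by
    rw [Nat.card_zpowers] at hrA
    exact quotient_pi' π h hr hrK (piEl_of_map π q hx r hr hrA)
  set Cx := Kb ⊓ Subgroup.centralizer {q x} with hCx
  suffices hle : Nat.card Kb ∣ Nat.card Cx by
    have he : Cx = Kb := Subgroup.eq_of_le_of_card_ge inf_le_left (Nat.le_of_dvd Nat.card_pos hle)
    intro y hy
    exact Subgroup.mem_centralizer_singleton_iff.mp (he.ge hy).2
  rw [Nat.dvd_iff_prime_pow_dvd_dvd]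
  intro r k hr hk
  rcases k.eq_zero_or_pos with rfl | hk0
  · simp
  have := Fact.mk hr
  have hrπ : r ∉ π := quotient_pi' π h hr ((dvd_pow_self r hk0.ne').trans hk)
  obtain ⟨R, hR⟩ := CfsgLib.coprime_exists_invariant_sylow hAK hcop (Or.inl inferInstance) r
  set R' := (R : Subgroup Kb).map Kb.subtype with hR'
  have hR'c : Nat.card R' = r ^ (Nat.card Kb).factorization r := by
    rw [Subgroup.card_map_of_injective Kb.subtype_injective, R.card_eq_multiplicity]
  refine (Nat.pow_dvd_pow r ((Nat.Prime.pow_dvd_iff_le_factorization hr Nat.card_pos.ne').mp hk)).trans ?_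
  rw [← hR'c]
  refine Subgroup.card_dvd_of_le (le_inf (Subgroup.map_subtype_le _) ?_)
  -- lift `R'` to `G`
  set T := R'.comap q with hT
  have hLT : L ≤ T := fun l hl => by
    rw [hT, Subgroup.mem_comap, hq, QuotientGroup.mk'_apply, (QuotientGroup.eq_one_iff l).mpr hl]; exact one_mem _
  have hTmap : T.map q = R' := Subgroup.map_comap_eq_self_of_surjective (QuotientGroup.mk'_surjective _) _
  have hxT : x ∈ Subgroup.normalizer (T : Set G) := by
    rw [Subgroup.mem_normalizer_iff]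
    intro y
    simp only [hT, Subgroup.mem_comap, map_mul, map_inv]
    exact Subgroup.mem_normalizer_iff.mp (hR (Subgroup.mem_zpowers _)) (q y)
  obtain ⟨P⟩ : Nonempty (Sylow r T) := inferInstance
  set P' := (P : Subgroup T).map T.subtype with hP'
  have hP'T : P' ≤ T := Subgroup.map_subtype_le _
  have hP'c : Nat.card P' = r ^ (Nat.card T).factorization r := by
    rw [Subgroup.card_map_of_injective T.subtype_injective, P.card_eq_multiplicity]
  have hTc : Nat.card T = Nat.card R' * Nat.card L := by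
    rw [← Subgroup.card_mul_index (L.subgroupOf T), Nat.card_congr (Subgroup.subgroupOfEquivOfLe hLT).toEquiv, mul_comm]
    congr 1
    have h1 := Subgroup.relIndex_map_map q L T
    rw [hTmap, (Subgroup.map_eq_bot_iff _).mpr (QuotientGroup.ker_mk' L).ge, Subgroup.relIndex_bot_left,
      hq, QuotientGroup.ker_mk', sup_idem, sup_eq_left.mpr hLT] at h1
    exact h1.symm
  have hrL : ¬ r ∣ Nat.card L := fun e => hrπ (hLπ r hr e)
  have hP'R : P'.map q = R' := by
    refine Subgroup.eq_of_le_of_card_ge ((Subgroup.map_mono hP'T).trans_eq hTmap) ?_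
    have h1 : P' ⊓ L = ⊥ := disjoint_iff.mp (Subgroup.disjoint_of_coprime_natCard (by
      rw [hP'c]; exact ((hr.coprime_iff_not_dvd).mpr hrL).pow_left _))
    have h2 : Nat.card (P'.map q) = Nat.card P' := by
      have h3 := Subgroup.relIndex_map_map q (⊥ : Subgroup G) P'
      rw [Subgroup.map_bot, Subgroup.relIndex_bot_left, bot_sup_eq, hq, QuotientGroup.ker_mk'] at h3
      rw [hq, h3, ← Subgroup.inf_relIndex_right, show L ⊓ (P' ⊔ L) = L from inf_eq_left.mpr le_sup_right,
        Subgroup.relIndex_sup_right, ← Subgroup.inf_relIndex_right, inf_comm, h1, Subgroup.relIndex_bot_left]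
    rw [h2, hP'c, hTc, Nat.factorization_mul Nat.card_pos.ne' Nat.card_pos.ne', Finsupp.add_apply,
      Nat.factorization_eq_zero_of_not_dvd hrL, add_zero, hR'c, Nat.factorization_pow_self hr]
  -- Frattini
  set Px := P'.map (MulAut.conj x).toMonoidHom with hPx
  have hPxT : Px ≤ T := by
    rintro _ ⟨y, hy, rfl⟩
    exact (Subgroup.mem_normalizer_iff.mp hxT y).mp (hP'T hy)
  let P₂ : Sylow r T := Sylow.ofCard (Px.subgroupOf T) (by
    rw [Nat.card_congr (Subgroup.subgroupOfEquivOfLe hPxT).toEquiv, hPx,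
      Subgroup.card_map_of_injective (MulAut.conj x).injective, hP'c])
  obtain ⟨t, ht⟩ := MulAction.exists_smul_eq T P P₂
  set n := (t : G)⁻¹ * x with hn
  have hconj : ∀ y ∈ P', n * y * n⁻¹ ∈ P' := by
    intro y hy
    have h1 : (⟨x * y * x⁻¹, (Subgroup.mem_normalizer_iff.mp hxT y).mp (hP'T hy)⟩ : T) ∈ (P₂ : Subgroup T) := by
      rw [Sylow.coe_ofCard, Subgroup.mem_subgroupOf]
      exact ⟨y, hy, rfl⟩
    rw [← ht, Sylow.coe_subgroup_smul, Subgroup.mem_pointwise_smul_iff_inv_smul_mem, MulAut.smul_def,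
      MulAut.conj_inv_apply] at h1
    refine ⟨_, h1, ?_⟩
    simp [hn, mul_assoc]
  have hnN : n ∈ Subgroup.normalizer (P' : Set G) := by
    exact Subgroup.mem_normalizer_fintype hconj
  -- a power of `n` prime to `π` centralises `P'`
  obtain ⟨m, hm, hmC⟩ : ∃ m : ℕ, (∀ p : ℕ, p.Prime → p ∣ m → p ∉ π) ∧ n ^ m ∈ Subgroup.centralizer (P' : Set G) := by
    by_cases hP0 : P' = ⊥
    · refine ⟨1, fun p hp hd => absurd hd hp.not_dvd_one, ?_⟩
      rw [hP0]; intro y hy; simp [Subgroup.mem_bot.mp hy]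
    · have hCn : ((Subgroup.centralizer (P' : Set G)).subgroupOf (Subgroup.normalizer (P' : Set G))).Normal := by
        rw [Subgroup.normal_subgroupOf_iff_le_normalizer (Subgroup.centralizer_le_normalizer _)]
        intro g hg
        refine Subgroup.mem_normalizer_fintype fun c hc y hy => ?_
        have h1 : g⁻¹ * y * g ∈ P' := by
          simpa using (Subgroup.mem_normalizer_iff.mp (inv_mem hg) y).mp hy
        calc y * (g * c * g⁻¹) = g * ((g⁻¹ * y * g) * c) * g⁻¹ := by group
          _ = g * (c * (g⁻¹ * y * g)) * g⁻¹ := by rw [hc _ h1]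
          _ = g * c * g⁻¹ * y := by group
      refine ⟨(Subgroup.centralizer (P' : Set G)).relIndex (Subgroup.normalizer (P' : Set G)),
        hhom P' hP0 fun p hp hd => ?_, ?_⟩
      · rw [hP'c] at hd
        rwa [(Nat.prime_dvd_prime_iff_eq hp hr).mp (hp.dvd_of_dvd_pow hd)]
      · have h1 := Subgroup.pow_index_mem
          ((Subgroup.centralizer (P' : Set G)).subgroupOf (Subgroup.normalizer (P' : Set G))) (⟨n, hnN⟩ : Subgroup.normalizer (P' : Set G))
        exact h1
  -- in the quotient `x ^ m` differs from `n ^ m` by an element of `R'`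
  have hxm : (q x) ^ m ∈ Subgroup.centralizer (R' : Set (G ⧸ L)) := by
    have hnC : (q n) ^ m ∈ Subgroup.centralizer (R' : Set (G ⧸ L)) := by
      rw [← hP'R, ← map_pow]
      rintro _ ⟨y, hy, rfl⟩
      rw [← map_mul, ← map_mul, hmC y hy]
    have htR : (q t)⁻¹ ∈ R' := R'.inv_mem t.2
    obtain ⟨s, hs, hs'⟩ : ∃ s ∈ R', (q n) ^ m = s * (q x) ^ m := by
      have hxR : q x ∈ Subgroup.normalizer (R' : Set (G ⧸ L)) := hR (Subgroup.mem_zpowers _)
      clear hmC hm hnC
      induction m with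
      | zero => exact ⟨1, one_mem _, by simp⟩
      | succ m ih =>
        obtain ⟨s, hs, hs'⟩ := ih
        refine ⟨s * ((q x) ^ m * (q t)⁻¹ * ((q x) ^ m)⁻¹), R'.mul_mem hs
          ((Subgroup.mem_normalizer_iff.mp (pow_mem hxR m) _).mp htR), ?_⟩
        rw [pow_succ, hs', hn, map_mul, map_inv, pow_succ]
        group
    -- `s` commutes with `(q x) ^ m`, and conjugation by it has order prime to itself
    have hcs : Commute s ((q x) ^ m) := by
      have h1 := hnC s hs
      rw [hs'] at h1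
      exact mul_left_cancel (a := s) (by simpa [mul_assoc] using h1)
    intro y hy
    have hs1 : s ^ orderOf (q x) ∈ Subgroup.centralizer (R' : Set (G ⧸ L)) := by
      have h2 : ((q n) ^ m) ^ orderOf (q x) = s ^ orderOf (q x) := by
        rw [hs', hcs.mul_pow, ← pow_mul _ m, mul_comm m, pow_mul, pow_orderOf_eq_one, one_pow, mul_one]
      exact h2 ▸ Subgroup.pow_mem _ hnC _
    have hs2 : s ^ r ^ (Nat.card Kb).factorization r ∈ Subgroup.centralizer (R' : Set (G ⧸ L)) := by
      rw [← hR'c, orderOf_dvd_iff_pow_eq_one.mp (Subgroup.orderOf_dvd_natCard R' hs)]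
      exact one_mem _
    have hs3 : s ∈ Subgroup.centralizer (R' : Set (G ⧸ L)) := by
      have h3 := pow_gcd_mem (Subgroup.centralizer (R' : Set (G ⧸ L))) hs1 hs2
      rwa [Nat.Coprime.gcd_eq_one, pow_one] at h3
      refine (Nat.Coprime.pow_right _ ((hr.coprime_iff_not_dvd).mpr fun e => ?_).symm)
      exact hrπ (piEl_of_map π q hx r hr e)
    have : (q x) ^ m = s⁻¹ * (q n) ^ m := by rw [hs', inv_mul_cancel_left]
    rw [this]
    exact (Subgroup.mul_mem _ (Subgroup.inv_mem _ hs3) hnC) y hy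
  intro y hy
  have hmem : q x ∈ Subgroup.centralizer (R' : Set (G ⧸ L)) := by
    have h1 : (q x) ^ orderOf (q x) ∈ Subgroup.centralizer (R' : Set (G ⧸ L)) := by
      rw [pow_orderOf_eq_one]; exact one_mem _
    have h3 := pow_gcd_mem _ h1 hxm
    rwa [Nat.Coprime.gcd_eq_one, pow_one] at h3
    exact Nat.coprime_of_dvd fun p hp hp1 hp2 => hm p hp hp2 (piEl_of_map π q hx p hp hp1)
  exact Subgroup.mem_centralizer_singleton_iff.mpr (hmem y hy)
where
  pow_gcd_mem {H : Type u} [Group H] (S : Subgroup H) {g : H} {a b : ℕ} (ha : g ^ a ∈ S) (hb : g ^ b ∈ S) :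
      g ^ Nat.gcd a b ∈ S := by
    rw [← zpow_natCast, Nat.gcd_eq_gcd_ab, zpow_add, zpow_mul, zpow_mul, zpow_natCast, zpow_natCast]
    exact S.mul_mem (S.zpow_mem ha _) (S.zpow_mem hb _)

/-- In a `π'`-homogeneous group a `π`-number extension of a `π`-closed normal subgroup is `π`-closed. -/
theorem core_step (hhom : Homog G π) {K M L : Subgroup G} (hK : K.Normal) (hM : M.Normal) (hKM : K ≤ M)
    (h : IsCore π K L) (hfac : ∀ p : ℕ, p.Prime → p ∣ K.relIndex M → p ∈ π) :
    ∃ U : Subgroup G, IsCore π M U := by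
  have := h.normal π hK
  set q := QuotientGroup.mk' L with hq
  set Kb := K.map q with hKb
  have hKbn : Kb.Normal := hK.map _ (QuotientGroup.mk'_surjective _)
  set E := M.map q ⊓ Subgroup.centralizer (Kb : Set (G ⧸ L)) with hE
  set Z := Kb.subgroupOf E with hZ
  have hZπ : ∀ p : ℕ, p.Prime → p ∣ Nat.card Z → p ∉ π := fun p hp hd =>
    quotient_pi' π h hp (hd.trans (Subgroup.card_comap_dvd_of_injective Kb E.subtype E.subtype_injective))
  have hEidx : ∀ p : ℕ, p.Prime → p ∣ Z.index → p ∈ π := by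
    intro p hp hd
    refine hfac p hp (hd.trans ?_)
    change Kb.relIndex E ∣ _
    have hLK : q.ker ≤ K := (QuotientGroup.ker_mk' L).le.trans h.1
    have h1 := Subgroup.relIndex_map_map q K M
    rw [sup_eq_left.mpr hLK, sup_eq_left.mpr (hLK.trans hKM)] at h1
    have h2 := Subgroup.relIndex_mul_relIndex Kb (E ⊔ Kb) (M.map q) le_sup_right
      (sup_le inf_le_left (Subgroup.map_mono hKM))
    rw [Subgroup.relIndex_sup_right, h1] at h2
    exact Dvd.intro _ h2
  obtain ⟨B, hB⟩ := Subgroup.exists_right_complement'_of_coprime (N := Z)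
    (Nat.coprime_of_dvd fun p hp h1 h2 => hZπ p hp h1 (hEidx p hp h2))
  refine ⟨M ⊓ (B.map E.subtype).comap q, inf_le_left, fun x hxM => ⟨fun hx p hp hd => ?_, fun hx => ?_⟩⟩
  · obtain ⟨b, hb, hbx⟩ := hx.2
    have h1 : (q x) ^ orderOf (q x) = 1 := pow_orderOf_eq_one _
    by_cases hp1 : p ∣ orderOf (q x)
    · apply hEidx p hp
      rw [hB.symm.index_eq_card]
      refine hp1.trans ?_
      rw [← show (b : G ⧸ L) = q x from hbx, Subgroup.orderOf_coe]
      exact Subgroup.orderOf_dvd_natCard B hb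
    · have h2 : x ^ orderOf (q x) ∈ L := by
        rwa [← map_pow, QuotientGroup.mk'_apply, QuotientGroup.eq_one_iff] at h1
      refine (h.2 _ (h.1 h2)).mp h2 p hp ?_
      have h3 : p.Coprime (orderOf (q x)) := (hp.coprime_iff_not_dvd).mpr hp1
      refine h3.dvd_of_dvd_mul_left (hd.trans ?_)
      exact orderOf_dvd_iff_pow_eq_one.mpr (by rw [pow_mul, pow_orderOf_eq_one])
  · refine ⟨hxM, ?_⟩
    have hxE : q x ∈ E := ⟨⟨x, hxM, rfl⟩, centralizes_quotient π hhom hK h hx⟩
    obtain ⟨⟨z, b⟩, hzb⟩ := (show Function.Surjective fun z : Z × B => (z.1 : E) * z.2 from hB.2) ⟨q x, hxE⟩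
    have hcm : Commute (z : E) (b : E) := Subtype.ext ((b : E).2.2 _ z.2)
    have hxe : PiEl π (⟨q x, hxE⟩ : E) := fun p hp hd =>
      piEl_of_map π q hx p hp (by rwa [Subgroup.orderOf_mk] at hd)
    have hz1 : (z : E) = 1 := by
      refine eq_one_of_pi_pi' π ?_ hZπ (Subgroup.orderOf_dvd_natCard Z z.2)
      intro p hp hd
      have h4 : (z : E) = (⟨q x, hxE⟩ : E) * (b : E)⁻¹ := by rw [← hzb]; simp
      have h5 : Commute (⟨q x, hxE⟩ : E) (b : E)⁻¹ := by
        rw [← hzb]; exact (hcm.mul_left (Commute.refl _)).inv_right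
      rw [h4] at hd
      rcases hp.dvd_mul.mp (hd.trans h5.orderOf_mul_dvd_mul_orderOf) with h6 | h6
      · exact hxe p hp h6
      · rw [orderOf_inv] at h6
        refine hEidx p hp ?_
        rw [hB.symm.index_eq_card]
        exact h6.trans (Subgroup.orderOf_dvd_natCard B b.2)
    refine ⟨b, b.2, ?_⟩
    have h7 := congrArg Subtype.val hzb
    simp only [hz1, one_mul] at h7
    exact h7

/-- If the factor is a `π'`-group nothing new appears. -/
theorem core_step' {K M L : Subgroup G} (hK : K.Normal) (hKM : K ≤ M)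
    (h : IsCore π K L) (hfac : ∀ p : ℕ, p.Prime → p ∣ K.relIndex M → p ∉ π) : IsCore π M L := by
  refine ⟨h.1.trans hKM, fun x hx => ⟨fun hL => (h.2 x (h.1 hL)).mp hL, fun hπ => ?_⟩⟩
  refine (h.2 x ?_).mpr hπ
  have := hK
  rw [← QuotientGroup.eq_one_iff]
  refine eq_one_of_pi_pi' π (piEl_of_map π (QuotientGroup.mk' K) hπ) (n := Nat.card (M.map (QuotientGroup.mk' K))) ?_
    (Subgroup.orderOf_dvd_natCard _ ⟨x, hx, rfl⟩)
  intro p hp hd
  refine hfac p hp ?_
  have h1 := Subgroup.relIndex_map_map (QuotientGroup.mk' K) K M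
  rw [(Subgroup.map_eq_bot_iff _).mpr (QuotientGroup.ker_mk' K).ge, Subgroup.relIndex_bot_left,
    QuotientGroup.ker_mk', sup_idem, sup_eq_left.mpr hKM] at h1
  rwa [h1] at hd

end CfsgLib.PiClosed
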