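import Mathlib

/-!
Split extensions of a linear group in characteristic 2 whose elements of odd order act fixed point
freely, by sums of copies of the natural module: same prime graph, arbitrarily large order.
-/

set_option autoImplicit false

namespace CfsgLib.PrimeGraphModule

open Matrix

variable {F : Type*} [Field F] {n : ℕ} {L : Type*} [Group L] (ρ : L →* GL (Fin n) F)

/-- `k` copies of the natural module. -/
abbrev W (F : Type*) (n k : ℕ) : Type _ := Multiplicative (Fin k → Fin n → F)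

def actFun (k : ℕ) (g : L) : MulAut (W F n k) :=
  AddEquiv.toMultiplicative
    { toFun := fun w i => (ρ g).1 *ᵥ w i
      invFun := fun w i => (ρ g⁻¹).1 *ᵥ w i
      left_inv := fun w => funext fun i => by
        show (ρ g⁻¹).1 *ᵥ ((ρ g).1 *ᵥ w i) = w i
        rw [Matrix.mulVec_mulVec, ← Units.val_mul, ← map_mul, inv_mul_cancel, map_one,
          Units.val_one, Matrix.one_mulVec]
      right_inv := fun w => funext fun i => by
        show (ρ g).1 *ᵥ ((ρ g⁻¹).1 *ᵥ w i) = w i
        rw [Matrix.mulVec_mulVec, ← Units.val_mul, ← map_mul, mul_inv_cancel, map_one,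
          Units.val_one, Matrix.one_mulVec]
      map_add' := fun u v => funext fun i => Matrix.mulVec_add _ _ _ }

theorem actFun_apply (k : ℕ) (g : L) (w : W F n k) :
    actFun ρ k g w = Multiplicative.ofAdd (fun i => (ρ g).1 *ᵥ (Multiplicative.toAdd w) i) := rfl

def act (k : ℕ) : L →* MulAut (W F n k) where
  toFun := actFun ρ k
  map_one' := MulEquiv.ext fun w => by
    simp [actFun_apply]
  map_mul' g h := MulEquiv.ext fun w => by
    rw [MulAut.mul_apply, actFun_apply, actFun_apply, actFun_apply]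
    exact congrArg Multiplicative.ofAdd (funext fun i => by
      rw [map_mul, Units.val_mul]; exact (Matrix.mulVec_mulVec _ _ _).symm)

abbrev Ext (k : ℕ) : Type _ := SemidirectProduct (W F n k) L (act ρ k)

theorem sq_inl [CharP F 2] (k : ℕ) (w : W F n k) : w ^ 2 = 1 := by
  have : Multiplicative.toAdd w + Multiplicative.toAdd w = 0 :=
    funext fun i => funext fun j => CharTwo.add_self_eq_zero _
  rw [sq]; exact Multiplicative.toAdd.injective this

theorem graph_iff [CharP F 2] (hfix : ∀ g : L, ∀ v : Fin n → F, v ≠ 0 → (ρ g).1 *ᵥ v = v →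
      ∃ a : ℕ, g ^ (2 ^ a) = 1)
    (k : ℕ) (p q : ℕ) (hp : p.Prime) (hq : q.Prime) (hpq : p ≠ q) :
    (∃ g : L, orderOf g = p * q) ↔ ∃ g : Ext ρ k, orderOf g = p * q := by
  constructor
  · rintro ⟨g, hg⟩
    exact ⟨SemidirectProduct.inr g,
      by rw [orderOf_injective _ SemidirectProduct.inr_injective, hg]⟩
  · suffices key : ∀ p q : ℕ, p.Prime → q.Prime → p ≠ q → q ≠ 2 →
        (∃ g : Ext ρ k, orderOf g = p * q) → ∃ g : L, orderOf g = p * q by
      rintro h
      by_cases h2 : q = 2
      · rw [mul_comm] at h ⊢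
        exact key q p hq hp hpq.symm (fun e => hpq (e.trans h2.symm)) h
      · exact key p q hp hq hpq h2 h
    rintro p q hp hq hpq hq2 ⟨h, hh⟩
    set π : Ext ρ k →* L := SemidirectProduct.rightHom
    set d := orderOf (π h) with hd
    have hnd : d ∣ p * q := hh ▸ orderOf_map_dvd π h
    have hker : ∀ x : Ext ρ k, π x = 1 → x ^ 2 = 1 := by
      intro x hx
      have : x = SemidirectProduct.inl x.left :=
        SemidirectProduct.ext (by simp) (by simpa [π] using hx)
      rw [this, ← map_pow, sq_inl, map_one]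
    have h2n : p * q ∣ d * 2 := by
      rw [← hh, orderOf_dvd_iff_pow_eq_one, pow_mul]
      exact hker _ (by rw [map_pow, hd, pow_orderOf_eq_one])
    have hqn : q ∣ d := ((Nat.coprime_primes hq Nat.prime_two).mpr hq2).dvd_of_dvd_mul_right
      ((dvd_mul_left q p).trans h2n)
    by_cases hpn : p ∣ d
    · exact ⟨π h, Nat.dvd_antisymm hnd
        (Nat.Coprime.mul_dvd_of_dvd_of_dvd ((Nat.coprime_primes hp hq).mpr hpq) hpn hqn)⟩
    exfalso
    have hn' : d = q := Nat.dvd_antisymm
      (((hp.coprime_iff_not_dvd.mpr hpn).symm).dvd_of_dvd_mul_left hnd) hqn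
    set t := h ^ q with ht
    have ht1 : π t = 1 := by rw [ht, map_pow, ← hn', hd, pow_orderOf_eq_one]
    have htne : t ≠ 1 := by
      intro e
      have h1 := orderOf_dvd_of_pow_eq_one e
      rw [hh] at h1
      have h2 := Nat.le_of_dvd hq.pos h1
      nlinarith [hp.two_le, hq.pos]
    have hcomm : h * t = t * h := (Commute.refl h).pow_right q
    have htl : t.left ≠ 1 := fun e => htne (SemidirectProduct.ext e (by simpa [π] using ht1))
    have hfix' := congrArg SemidirectProduct.left hcomm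
    rw [SemidirectProduct.mul_left, SemidirectProduct.mul_left, show t.right = 1 from ht1, map_one,
      MulAut.one_apply, mul_comm h.left, mul_right_cancel_iff] at hfix'
    obtain ⟨i, hi⟩ : ∃ i, (Multiplicative.toAdd t.left) i ≠ 0 := by
      by_contra hcon
      push Not at hcon
      exact htl (Multiplicative.toAdd.injective (funext hcon))
    have hfi : (ρ h.right).1 *ᵥ (Multiplicative.toAdd t.left) i = (Multiplicative.toAdd t.left) i :=
      congrArg (fun w : W F n k => Multiplicative.toAdd w i) hfix'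
    obtain ⟨a, ha⟩ := hfix _ _ hi hfi
    have h1 := orderOf_dvd_of_pow_eq_one (x := π h) ha
    rw [← hd, hn'] at h1
    exact hq2 ((Nat.prime_dvd_prime_iff_eq hq Nat.prime_two).mp (hq.dvd_of_dvd_pow h1))

theorem exists_small {H : Type*} [Group H] [Finite H] :
    ∃ (H₀ : Type) (_ : Group H₀) (_ : Fintype H₀), Nonempty (H₀ ≃* H) := by
  let e := (Finite.equivFin H).symm
  letI : Group (Fin (Nat.card H)) := e.group
  exact ⟨Fin (Nat.card H), inferInstance, inferInstance, ⟨e.mulEquiv⟩⟩

theorem exists_large [Fintype F] [CharP F 2] [Finite L] (hn : 0 < n) (h2 : 2 ∣ Nat.card L)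
    (hfix : ∀ g : L, ∀ v : Fin n → F, v ≠ 0 → (ρ g).1 *ᵥ v = v → ∃ a : ℕ, g ^ (2 ^ a) = 1)
    (N : ℕ) : ∃ (H : Type) (_ : Group H) (_ : Fintype H), N < Fintype.card H ∧
      (∀ p : ℕ, p.Prime → (p ∣ Nat.card L ↔ p ∣ Nat.card H)) ∧
      (∀ p q : ℕ, p.Prime → q.Prime → p ≠ q →
        ((∃ g : L, orderOf g = p * q) ↔ ∃ g : H, orderOf g = p * q)) := by
  haveI : Finite (Ext ρ (N + 1)) := Finite.of_equiv _ SemidirectProduct.equivProd.symm
  obtain ⟨H, iG, iF, ⟨e⟩⟩ := exists_small (H := Ext ρ (N + 1))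
  have hc : Nat.card H = (Fintype.card F ^ n) ^ (N + 1) * Nat.card L := by
    rw [Nat.card_congr e.toEquiv, Nat.card_congr SemidirectProduct.equivProd, Nat.card_prod]
    congr 1
    rw [show Nat.card (W F n (N + 1)) = Nat.card (Fin (N + 1) → Fin n → F) from rfl, Nat.card_fun,
      Nat.card_fun, Nat.card_fin, Nat.card_fin, Nat.card_eq_fintype_card]
  refine ⟨H, iG, iF, ?_, fun p hp => ?_, fun p q hp hq hpq => ?_⟩
  · rw [← Nat.card_eq_fintype_card, hc]
    calc N < 2 ^ (N + 1) := lt_of_lt_of_le (by omega) Nat.lt_two_pow_self.le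
      _ ≤ (Fintype.card F ^ n) ^ (N + 1) :=
          Nat.pow_le_pow_left ((Fintype.one_lt_card (α := F)).trans_le (Nat.le_self_pow hn.ne' _)) _
      _ ≤ _ := Nat.le_mul_of_pos_right _ Nat.card_pos
  · rw [hc]
    refine ⟨fun h => h.mul_left _, fun h => ?_⟩
    rcases hp.dvd_mul.mp h with h | h
    · obtain ⟨m, -, hm⟩ := FiniteField.card F 2
      rw [hm] at h
      rw [(Nat.prime_dvd_prime_iff_eq hp Nat.prime_two).1
        (hp.dvd_of_dvd_pow (hp.dvd_of_dvd_pow (hp.dvd_of_dvd_pow h)))]
      exact h2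
    · exact h
  · rw [graph_iff ρ hfix (N + 1) p q hp hq hpq]
    exact ⟨fun ⟨g, hg⟩ => ⟨e.symm g, by rw [MulEquiv.orderOf_eq, hg]⟩,
      fun ⟨g, hg⟩ => ⟨e g, by rw [MulEquiv.orderOf_eq, hg]⟩⟩

end CfsgLib.PrimeGraphModule
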