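import Mathlib
import Cfsg.Prelude.Def_HallClasses

/-! Pronormality of overgroups of Sylow subgroups in extensions. -/

set_option autoImplicit false

namespace CfsgLib.PronSyl

variable {G H : Type*} [Group G] [Group H]

/-- Conjugate subgroup. -/
abbrev cj (g : G) (K : Subgroup G) : Subgroup G := K.map (MulAut.conj g).toMonoidHom

theorem mem_cj {g x : G} {K : Subgroup G} : x ∈ cj g K ↔ g⁻¹ * x * g ∈ K := by
  constructor
  · rintro ⟨k, hk, rfl⟩; simpa [mul_assoc] using hk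
  · exact fun h => ⟨_, h, by simp [mul_assoc]⟩

theorem cj_mul (a b : G) (K : Subgroup G) : cj (a * b) K = cj a (cj b K) := by
  ext x; simp only [mem_cj, mul_inv_rev, mul_assoc]

theorem cj_one (K : Subgroup G) : cj 1 K = K := by
  ext x; simp [mem_cj]

theorem cj_eq_iff {g : G} {K : Subgroup G} : cj g K = K ↔ g ∈ Subgroup.normalizer (K : Set G) := by
  rw [← inv_mem_iff (x := g), SetLike.ext_iff, Subgroup.mem_normalizer_iff]
  refine forall_congr' fun x => ?_
  rw [mem_cj, inv_inv]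
  exact iff_comm

theorem cj_eq_self {g : G} {K : Subgroup G} (h : g ∈ K) : cj g K = K :=
  cj_eq_iff.mpr (Subgroup.le_normalizer h)

theorem cj_le_of_mem {g : G} {K L : Subgroup G} (hg : g ∈ L) (hK : K ≤ L) : cj g K ≤ L := by
  intro x hx
  have h := L.mul_mem (L.mul_mem hg (hK (mem_cj.mp hx))) (L.inv_mem hg)
  simpa [mul_assoc] using h

theorem cj_inv_mul_mem {x g : G} {K : Subgroup G} (h : cj g K = cj x K) :
    x⁻¹ * g ∈ Subgroup.normalizer (K : Set G) := by
  rw [← cj_eq_iff, cj_mul, h, ← cj_mul, inv_mul_cancel, cj_one]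

theorem map_cj (f : G →* H) (g : G) (K : Subgroup G) : (cj g K).map f = cj (f g) (K.map f) := by
  simp only [cj, Subgroup.map_map]
  congr 1
  ext x
  simp

theorem pronormal_map (f : G →* H) (hf : Function.Surjective f) {K : Subgroup G}
    (h : Cfsg.IsPronormal K) : Cfsg.IsPronormal (K.map f) := by
  intro g'
  obtain ⟨g, rfl⟩ := hf g'
  obtain ⟨x, hx, e⟩ := h g
  change cj g K = cj x K at e
  refine ⟨f x, ?_, ?_⟩
  · change f x ∈ K.map f ⊔ cj (f g) (K.map f)
    rw [← map_cj, ← Subgroup.map_sup]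
    exact Subgroup.mem_map_of_mem f hx
  · change cj (f g) (K.map f) = cj (f x) (K.map f)
    rw [← map_cj, ← map_cj, e]

theorem pronormal_of_map (f : G →* H) (hf : Function.Injective f) {K : Subgroup G}
    (h : Cfsg.IsPronormal (K.map f)) : Cfsg.IsPronormal K := by
  intro g
  obtain ⟨x', hx, e⟩ := h (f g)
  change cj (f g) (K.map f) = cj x' (K.map f) at e
  change x' ∈ K.map f ⊔ cj (f g) (K.map f) at hx
  rw [← map_cj, ← Subgroup.map_sup] at hx
  obtain ⟨x, hx, rfl⟩ := hx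
  refine ⟨x, hx, Subgroup.map_injective hf ?_⟩
  rw [← map_cj, ← map_cj] at e
  exact e

variable [Finite G] {p : ℕ} [Fact p.Prime]

theorem exists_conj_of_maximal {B T T' : Subgroup G} (hT : IsPGroup p T) (hT' : IsPGroup p T')
    (hmax : ∀ X : Subgroup G, X ≤ B → IsPGroup p X → T ≤ X → X = T)
    (hTB : T ≤ B) (hT'B : T' ≤ B) (hcard : Nat.card T' = Nat.card T) :
    ∃ b ∈ B, T' = cj b T := by
  classical
  have h1 : IsPGroup p (T.subgroupOf B) := hT.of_equiv (Subgroup.subgroupOfEquivOfLe hTB).symm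
  have h2 : IsPGroup p (T'.subgroupOf B) := hT'.of_equiv (Subgroup.subgroupOfEquivOfLe hT'B).symm
  obtain ⟨Q, hQ⟩ := h1.exists_le_sylow
  obtain ⟨Q', hQ'⟩ := h2.exists_le_sylow
  have eQ : (Q : Subgroup B).map B.subtype = T := by
    refine hmax _ (Subgroup.map_subtype_le _) (Q.2.map _) ?_
    intro x hx
    exact ⟨⟨x, hTB hx⟩, hQ (show (⟨x, hTB hx⟩ : B) ∈ T.subgroupOf B from hx), rfl⟩
  obtain ⟨b, hb⟩ := MulAction.exists_smul_eq B Q Q'
  have hb' : ((Q' : Sylow p B) : Subgroup B) = cj b (Q : Subgroup B) := by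
    rw [← hb, Sylow.coe_subgroup_smul, Subgroup.pointwise_smul_def]; rfl
  refine ⟨b, b.2, ?_⟩
  refine Subgroup.eq_of_le_of_card_ge ?_ ?_
  · intro x hx
    have := hQ' (show (⟨x, hT'B hx⟩ : B) ∈ T'.subgroupOf B from hx)
    rw [hb', mem_cj] at this
    rw [mem_cj, ← eQ]
    exact ⟨_, this, rfl⟩
  · rw [hcard, Subgroup.card_map_of_injective (MulAut.conj (b : G)).injective]

theorem criterion (A : Subgroup G) [A.Normal]
    (hA : ∀ K : Subgroup ↥A, (∃ P : Sylow p ↥A, (P : Subgroup ↥A) ≤ K) → Cfsg.IsPronormal K)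
    (hQ : ∀ K : Subgroup (G ⧸ A), (∃ P : Sylow p (G ⧸ A), (P : Subgroup (G ⧸ A)) ≤ K) →
      Cfsg.IsPronormal K)
    (T : Subgroup G) (hT : ∃ P : Sylow p ↥A, (P : Subgroup ↥A).map A.subtype = T)
    [(T.subgroupOf (Subgroup.normalizer (T : Set G))).Normal]
    (hN : ∀ K : Subgroup (↥(Subgroup.normalizer (T : Set G)) ⧸
        T.subgroupOf (Subgroup.normalizer (T : Set G))),
      (∃ P : Sylow p (↥(Subgroup.normalizer (T : Set G)) ⧸
        T.subgroupOf (Subgroup.normalizer (T : Set G))),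
        (P : Subgroup (↥(Subgroup.normalizer (T : Set G)) ⧸
        T.subgroupOf (Subgroup.normalizer (T : Set G)))) ≤ K) → Cfsg.IsPronormal K)
    (hF : ∀ K : Subgroup G, (∃ P : Sylow p G, (P : Subgroup G) ≤ K) →
      Subgroup.normalizer ((K.map (QuotientGroup.mk' A) : Subgroup (G ⧸ A)) : Set (G ⧸ A)) ≤
        (Subgroup.normalizer (K : Set G)).map (QuotientGroup.mk' A))
    (K : Subgroup G) (hK : ∃ P : Sylow p G, (P : Subgroup G) ≤ K) :
    Cfsg.IsPronormal K := by
  classical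
  obtain ⟨PA, rfl⟩ := hT
  set T : Subgroup G := (PA : Subgroup A).map A.subtype with hTdef
  set N := Subgroup.normalizer (T : Set G) with hNdef
  have hTA : T ≤ A := Subgroup.map_subtype_le _
  have hTp : IsPGroup p T := PA.2.map _
  have hTmax : ∀ X : Subgroup G, X ≤ A → IsPGroup p X → T ≤ X → X = T := by
    intro X hXA hX hTX
    have : X.subgroupOf A = (PA : Subgroup A) := by
      refine PA.3 (hX.of_equiv (Subgroup.subgroupOfEquivOfLe hXA).symm) fun x hx => ?_
      exact hTX ⟨x, hx, rfl⟩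
    rw [hTdef, ← this, Subgroup.subgroupOf_map_subtype, inf_eq_left.mpr hXA]
  obtain ⟨P0, hP0⟩ := hTp.exists_le_sylow
  have hP0A : (P0 : Subgroup G) ⊓ A = T :=
    hTmax _ inf_le_right (P0.2.to_le inf_le_left) (le_inf hP0 hTA)
  have hP0N : (P0 : Subgroup G) ≤ N := by
    intro x hx
    rw [← cj_eq_iff]
    refine Subgroup.eq_of_le_of_card_ge ?_ (Subgroup.card_map_of_injective (MulAut.conj x).injective).ge
    intro y hy
    rw [← hP0A]
    rw [mem_cj, ← hP0A] at hy
    obtain ⟨h1, h2⟩ := Subgroup.mem_inf.mp hy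
    refine Subgroup.mem_inf.mpr ⟨?_, ?_⟩
    · have := mul_mem (mul_mem hx h1) (inv_mem hx)
      simpa [mul_assoc] using this
    · have := (inferInstance : A.Normal).conj_mem _ h2 x
      simpa [mul_assoc] using this
  -- reduce to `P0 ≤ K`
  suffices main : ∀ K : Subgroup G, (P0 : Subgroup G) ≤ K → Cfsg.IsPronormal K by
    obtain ⟨P, hP⟩ := hK
    obtain ⟨h, hh⟩ := MulAction.exists_smul_eq G P P0
    have hc : (P0 : Subgroup G) = cj h (P : Subgroup G) := by
      rw [← hh, Sylow.coe_subgroup_smul, Subgroup.pointwise_smul_def]; rfl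
    have := main (cj h K) (hc.le.trans (Subgroup.map_mono hP))
    have h2 := pronormal_map (MulAut.conj h⁻¹).toMonoidHom (MulAut.conj h⁻¹).surjective this
    have e : cj h⁻¹ (cj h K) = K := by rw [← cj_mul, inv_mul_cancel, cj_one]
    change Cfsg.IsPronormal (cj h⁻¹ (cj h K)) at h2
    rwa [e] at h2
  clear hK K
  intro K hPK
  set B := K ⊓ A with hB
  have hTB : T ≤ B := le_inf (hP0.trans hPK) hTA
  have hKB : K ≤ Subgroup.normalizer (B : Set G) := fun k hk => by
    rw [Subgroup.mem_normalizer_iff]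
    intro x
    simp only [hB, Subgroup.mem_inf]
    refine ⟨fun ⟨h1, h2⟩ => ⟨mul_mem (mul_mem hk h1) (inv_mem hk),
      (inferInstance : A.Normal).conj_mem _ h2 k⟩, fun ⟨h1, h2⟩ => ?_⟩
    have h1' := mul_mem (mul_mem (inv_mem hk) h1) hk
    have h2' := (inferInstance : A.Normal).conj_mem _ h2 k⁻¹
    simp only [mul_assoc, inv_inv, inv_mul_cancel_left, inv_mul_cancel, mul_one] at h1' h2'
    exact ⟨h1', h2'⟩
  have hTconj : ∀ g : G, cj g T ≤ B → ∃ b ∈ B, cj g T = cj b T := fun g hg =>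
    exists_conj_of_maximal hTp (hTp.map _) (fun X hX hXp hTX =>
      hTmax X (hX.trans inf_le_right) hXp hTX) hTB hg
      (Subgroup.card_map_of_injective (MulAut.conj g).injective)
  -- Frattini argument inside `K`
  have hKF : K = B ⊔ (K ⊓ N) := by
    refine le_antisymm (fun k hk => ?_) (sup_le inf_le_left inf_le_left)
    obtain ⟨b, hb, e⟩ := hTconj k ((Subgroup.map_mono hTB).trans (cj_eq_iff.mpr (hKB hk)).le)
    have hn := cj_inv_mul_mem e
    have hkn : b⁻¹ * k ∈ K ⊓ N := ⟨K.mul_mem (K.inv_mem hb.1) hk, hn⟩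
    simpa using Subgroup.mul_mem_sup hb hkn
  -- the case `a ∈ N(T) ∩ N(B)`
  have step3 : ∀ a ∈ N, a ∈ Subgroup.normalizer (B : Set G) →
      ∃ y ∈ K ⊔ cj a K, cj a K = cj y K := by
    intro a haN haB
    set m := QuotientGroup.mk' (T.subgroupOf N) with hm
    set J := (K ⊓ N).subgroupOf N with hJ
    have hJmap : J.map N.subtype = K ⊓ N := by
      rw [hJ, Subgroup.subgroupOf_map_subtype, inf_eq_left.mpr inf_le_right]
    have hker : m.ker ≤ J := by
      intro x hx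
      rw [hm, QuotientGroup.ker_mk', Subgroup.mem_subgroupOf] at hx
      exact ⟨(hP0.trans hPK) hx, x.2⟩
    have hpr := hN (J.map m) ⟨(P0.subtype hP0N).mapSurjective (QuotientGroup.mk'_surjective _), by
      rw [Sylow.coe_mapSurjective]
      refine Subgroup.map_mono fun x hx => ?_
      exact ⟨hPK hx, x.2⟩⟩
    obtain ⟨z', hz', e⟩ := hpr (m ⟨a, haN⟩)
    change cj (m ⟨a, haN⟩) (J.map m) = cj z' (J.map m) at e
    change z' ∈ J.map m ⊔ cj (m ⟨a, haN⟩) (J.map m) at hz'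
    rw [← map_cj, ← Subgroup.map_sup] at hz'
    obtain ⟨z, hz, rfl⟩ := hz'
    rw [← map_cj, ← map_cj] at e
    have hnorm : (m.ker).Normal := inferInstance
    have hker' : ∀ g : N, m.ker ≤ cj g J := fun g x hx => by
      rw [mem_cj]
      have := hnorm.conj_mem x hx g⁻¹
      rw [inv_inv] at this
      exact hker this
    have e' : cj (⟨a, haN⟩ : N) J = cj z J := by
      have := congrArg (Subgroup.comap m) e
      rwa [Subgroup.comap_map_eq_self (hker' _), Subgroup.comap_map_eq_self (hker' _)] at this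
    have eG : cj a (K ⊓ N) = cj (z : G) (K ⊓ N) := by
      have := congrArg (Subgroup.map N.subtype) e'
      rw [map_cj, map_cj, hJmap] at this
      exact this
    have hzL : (z : G) ∈ K ⊔ cj a K := by
      have : (z : G) ∈ (J ⊔ cj (⟨a, haN⟩ : N) J).map N.subtype := ⟨z, hz, rfl⟩
      rw [Subgroup.map_sup, map_cj, hJmap] at this
      exact sup_le_sup inf_le_left (Subgroup.map_mono inf_le_left) this
    have hLB : K ⊔ cj a K ≤ Subgroup.normalizer (B : Set G) :=
      sup_le hKB (cj_le_of_mem haB hKB)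
    refine ⟨z, hzL, ?_⟩
    rw [hKF]
    simp only [cj, Subgroup.map_sup]
    change cj a B ⊔ cj a (K ⊓ N) = cj (z : G) B ⊔ cj (z : G) (K ⊓ N)
    rw [eG, cj_eq_iff.mpr haB, cj_eq_iff.mpr (hLB hzL)]
  -- the case `a ∈ A`
  have step1 : ∀ a ∈ A, ∃ y ∈ K ⊔ cj a K, cj a K = cj y K := by
    intro a ha
    set L := K ⊔ cj a K with hL
    have hBA := hA (B.subgroupOf A) ⟨PA, fun x hx => hTB ⟨x, hx, rfl⟩⟩
    obtain ⟨y, hy, e⟩ := hBA ⟨a, ha⟩
    change cj (⟨a, ha⟩ : A) (B.subgroupOf A) = cj y (B.subgroupOf A) at e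
    have hBmap : (B.subgroupOf A).map A.subtype = B := by
      rw [Subgroup.subgroupOf_map_subtype, inf_eq_left.mpr inf_le_right]
    have eB : cj a B = cj (y : G) B := by
      have := congrArg (Subgroup.map A.subtype) e
      rw [map_cj, map_cj, hBmap] at this
      exact this
    have hyL : (y : G) ∈ L := by
      have : (y : G) ∈ (B.subgroupOf A ⊔ cj (⟨a, ha⟩ : A) (B.subgroupOf A)).map A.subtype :=
        ⟨y, hy, rfl⟩
      rw [Subgroup.map_sup, map_cj, hBmap] at this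
      exact sup_le_sup inf_le_left (Subgroup.map_mono inf_le_left) this
    set a' := (y : G)⁻¹ * a with ha'
    have ha'B := cj_inv_mul_mem eB
    obtain ⟨b, hb, eT⟩ := hTconj a' ((Subgroup.map_mono hTB).trans (cj_eq_iff.mpr ha'B).le)
    set a'' := b⁻¹ * a' with ha''
    have ha''N : a'' ∈ N := cj_inv_mul_mem eT
    have ha''B : a'' ∈ Subgroup.normalizer (B : Set G) :=
      mul_mem (inv_mem (Subgroup.le_normalizer hb)) ha'B
    obtain ⟨z, hz, ez⟩ := step3 a'' ha''N ha''B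
    have hbL : b ∈ L := Subgroup.mem_sup_left hb.1
    have hea : a = (y : G) * b * a'' := by rw [ha'', ha']; group
    have h1 : cj a'' K ≤ L := by
      have : cj a'' K = cj ((y : G) * b)⁻¹ (cj a K) := by
        rw [← cj_mul]; congr 1; rw [hea]; group
      rw [this]
      exact cj_le_of_mem (inv_mem (mul_mem hyL hbL)) le_sup_right
    refine ⟨(y : G) * b * z, mul_mem (mul_mem hyL hbL) (sup_le le_sup_left h1 hz), ?_⟩
    rw [hea, cj_mul, ez, ← cj_mul]
  intro g
  change ∃ x ∈ K ⊔ cj g K, cj g K = cj x K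
  set π := QuotientGroup.mk' A with hπ
  obtain ⟨x', hx', e⟩ := hQ (K.map π) ⟨P0.mapSurjective (QuotientGroup.mk'_surjective _), by
    rw [Sylow.coe_mapSurjective]; exact Subgroup.map_mono hPK⟩ (π g)
  change cj (π g) (K.map π) = cj x' (K.map π) at e
  change x' ∈ K.map π ⊔ cj (π g) (K.map π) at hx'
  rw [← map_cj, ← Subgroup.map_sup] at hx'
  obtain ⟨x, hx, rfl⟩ := hx'
  have hn := cj_inv_mul_mem e
  rw [← map_inv, ← map_mul] at hn
  obtain ⟨n, hn, en⟩ := hF K ⟨P0, hPK⟩ hn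
  set a := x⁻¹ * g * n⁻¹ with ha
  have haA : a ∈ A := by
    rw [← QuotientGroup.eq_one_iff]
    change π a = 1
    rw [ha, map_mul, map_inv, en, mul_inv_cancel]
  have hga : cj a K = cj x⁻¹ (cj g K) := by
    rw [ha, cj_mul _ n⁻¹, cj_eq_iff.mpr (inv_mem hn), cj_mul]
  obtain ⟨y, hy, ey⟩ := step1 a haA
  have hle : K ⊔ cj a K ≤ K ⊔ cj g K :=
    sup_le le_sup_left (hga.le.trans (cj_le_of_mem (inv_mem hx) le_sup_right))
  refine ⟨x * y, mul_mem hx (hle hy), ?_⟩
  rw [cj_mul, ← ey, hga, ← cj_mul, mul_inv_cancel, cj_one]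

omit [Finite G] in
theorem frattini {K : Subgroup G} (A : Subgroup G) [A.Normal] (h : Cfsg.IsPronormal K) :
    Subgroup.normalizer ((K.map (QuotientGroup.mk' A) : Subgroup (G ⧸ A)) : Set (G ⧸ A)) ≤
      (Subgroup.normalizer (K : Set G)).map (QuotientGroup.mk' A) := by
  intro g' hg'
  obtain ⟨g, rfl⟩ := QuotientGroup.mk'_surjective A g'
  obtain ⟨x, hx, e⟩ := h g
  change cj g K = cj x K at e
  change x ∈ K ⊔ cj g K at hx
  have hKA : cj g K ≤ A ⊔ K := by
    intro z hz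
    have hzm : (QuotientGroup.mk' A) z ∈ cj (QuotientGroup.mk' A g) (K.map (QuotientGroup.mk' A)) := by
      rw [← map_cj]; exact ⟨z, hz, rfl⟩
    rw [cj_eq_iff.mpr hg'] at hzm
    obtain ⟨k, hk, ek⟩ := hzm
    have : z * k⁻¹ ∈ A := by
      rw [← QuotientGroup.eq_one_iff]
      change QuotientGroup.mk' A (z * k⁻¹) = 1
      rw [map_mul, map_inv, ek, mul_inv_cancel]
    simpa using Subgroup.mul_mem_sup this hk
  obtain ⟨a, ha, k, hk, rfl⟩ := Subgroup.mem_sup_of_normal_left.mp (sup_le le_sup_right hKA hx)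
  refine ⟨k * ((a * k)⁻¹ * g), mul_mem (Subgroup.le_normalizer hk) (cj_inv_mul_mem e), ?_⟩
  have : QuotientGroup.mk' A a = 1 := (QuotientGroup.eq_one_iff a).mpr ha
  simp only [map_mul, map_inv, this, one_mul, mul_inv_cancel_left]

theorem quotient_pronormal
    (hG : ∀ K : Subgroup G, (∃ P : Sylow p G, (P : Subgroup G) ≤ K) → Cfsg.IsPronormal K)
    (N : Subgroup G) (P0 : Sylow p G) (hPN : (P0 : Subgroup G) ≤ N) (M : Subgroup N) [M.Normal]
    (K : Subgroup (N ⧸ M)) (hK : ∃ P : Sylow p (N ⧸ M), (P : Subgroup (N ⧸ M)) ≤ K) :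
    Cfsg.IsPronormal K := by
  obtain ⟨P, hP⟩ := hK
  have hsurj := QuotientGroup.mk'_surjective M
  obtain ⟨u, hu⟩ := MulAction.exists_smul_eq (N ⧸ M) ((P0.subtype hPN).mapSurjective hsurj) P
  obtain ⟨n, rfl⟩ := hsurj u
  set K' := K.comap (QuotientGroup.mk' M) with hK'
  have hKeq : K'.map (QuotientGroup.mk' M) = K := Subgroup.map_comap_eq_self_of_surjective hsurj K
  rw [← hKeq]
  refine pronormal_map _ hsurj (pronormal_of_map N.subtype Subtype.coe_injective (hG _ ⟨(n : G) • P0, ?_⟩))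
  intro x hx
  rw [Sylow.coe_subgroup_smul, Subgroup.pointwise_smul_def] at hx
  obtain ⟨y, hy, rfl⟩ := hx
  refine ⟨n * ⟨y, hPN hy⟩ * n⁻¹, hP ?_, by simp⟩
  rw [← hu, Sylow.coe_subgroup_smul, Subgroup.pointwise_smul_def]
  refine ⟨QuotientGroup.mk' M ⟨y, hPN hy⟩, ?_, by simp⟩
  rw [SetLike.mem_coe, Sylow.coe_mapSurjective]
  exact ⟨⟨y, hPN hy⟩, hy, rfl⟩

theorem exists_sylow_le_normalizer (A : Subgroup G) [A.Normal] (T : Subgroup G)
    (hT : ∃ P : Sylow p ↥A, (P : Subgroup ↥A).map A.subtype = T) :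
    ∃ P0 : Sylow p G, (P0 : Subgroup G) ≤ Subgroup.normalizer (T : Set G) := by
  obtain ⟨PA, rfl⟩ := hT
  obtain ⟨P0, hP0⟩ := (PA.2.map A.subtype).exists_le_sylow
  refine ⟨P0, fun x hx => ?_⟩
  have hsub : (P0 : Subgroup G).subgroupOf A = (PA : Subgroup A) :=
    PA.3 ((P0.2.to_le inf_le_left).of_equiv
      (Subgroup.subgroupOfEquivOfLe (inf_le_right : (P0 : Subgroup G) ⊓ A ≤ A)).symm |>.to_le
        (fun y hy => (⟨hy, y.2⟩ : (y : G) ∈ (P0 : Subgroup G) ⊓ A)))
      (fun y hy => hP0 ⟨y, hy, rfl⟩)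
  rw [← hsub, Subgroup.subgroupOf_map_subtype, ← cj_eq_iff]
  rw [cj, Subgroup.map_inf _ _ _ (by exact (MulAut.conj x).injective)]
  exact congrArg₂ (· ⊓ ·) (cj_eq_self hx)
    (cj_eq_iff.mpr (Subgroup.normalizer_eq_top (H := A) ▸ Subgroup.mem_top x))

end CfsgLib.PronSyl
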