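import Cfsg.Prelude.Def_LocalEven
import Cfsg.Prelude.Def_Solvable
import Cfsg.Agent.Lib.Basic
import Cfsg.Agent.Lib.SL2Sylow

/-!
The affine group `F² ⋊ SL₂(F)` inside `SL₃(F)`.
-/

set_option autoImplicit false
set_option linter.unusedSectionVars false

namespace CfsgLib.QdOver

open Matrix CfsgLib.SL2Sylow

variable {F : Type*} [Field F]

local notation "SL2" => Matrix.SpecialLinearGroup (Fin 2) F
local notation "SL3" => Matrix.SpecialLinearGroup (Fin 3) F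

/-- The matrices with last row `(0, 0, 1)`. -/
def aff (F : Type*) [Field F] : Subgroup (Matrix.SpecialLinearGroup (Fin 3) F) where
  carrier := {M | M.1 2 0 = 0 ∧ M.1 2 1 = 0 ∧ M.1 2 2 = 1}
  one_mem' := by simp
  mul_mem' := fun {a b} ha hb => by
    obtain ⟨a0, a1, a2⟩ := ha
    obtain ⟨b0, b1, b2⟩ := hb
    refine ⟨?_, ?_, ?_⟩ <;>
    · show (a.1 * b.1) _ _ = _
      rw [Matrix.mul_apply, Fin.sum_univ_three, a0, a1, a2]
      simp [b0, b1, b2]
  inv_mem' := fun {a} ha => by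
    obtain ⟨a0, a1, a2⟩ := ha
    have h : (a⁻¹ * a).1 = 1 := by rw [inv_mul_cancel]; rfl
    have hd := a.2
    rw [Matrix.det_fin_three, a0, a1, a2] at hd
    refine ⟨?_, ?_, ?_⟩ <;>
    · show (Matrix.adjugate a.1) _ _ = _
      simp [Matrix.adjugate_fin_three, a0, a1, a2]
      try linear_combination hd

theorem eq_aff : Cfsg.qdOver F = aff F := Subgroup.closure_eq (aff F)

theorem last_row (M : Cfsg.qdOver F) : M.1.1 2 0 = 0 ∧ M.1.1 2 1 = 0 ∧ M.1.1 2 2 = 1 :=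
  (eq_aff (F := F) ▸ M.2 : M.1 ∈ aff F)

/-- The linear part. -/
def lin : Cfsg.qdOver F →* SL2 where
  toFun M := ⟨!![M.1.1 0 0, M.1.1 0 1; M.1.1 1 0, M.1.1 1 1], by
    obtain ⟨h0, h1, h2⟩ := last_row M
    have hd := M.1.2
    rw [Matrix.det_fin_three, h0, h1, h2] at hd
    rw [Matrix.det_fin_two_of]
    linear_combination hd⟩
  map_one' := Subtype.ext (by
    ext i j
    fin_cases i <;> fin_cases j <;> simp)
  map_mul' M N := Subtype.ext (by
    obtain ⟨h0, h1, h2⟩ := last_row N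
    show (!![(M.1.1 * N.1.1) 0 0, (M.1.1 * N.1.1) 0 1; (M.1.1 * N.1.1) 1 0, (M.1.1 * N.1.1) 1 1] :
      Matrix (Fin 2) (Fin 2) F) = !![M.1.1 0 0, M.1.1 0 1; M.1.1 1 0, M.1.1 1 1] *
      !![N.1.1 0 0, N.1.1 0 1; N.1.1 1 0, N.1.1 1 1]
    ext i j
    fin_cases i <;> fin_cases j <;> simp [Matrix.mul_apply, Fin.sum_univ_two, Fin.sum_univ_three, h0, h1])

/-- The block embedding. -/
def blk : SL2 →* Cfsg.qdOver F where
  toFun A := ⟨⟨!![A.1 0 0, A.1 0 1, 0; A.1 1 0, A.1 1 1, 0; 0, 0, 1], by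
      have hd := A.2
      rw [Matrix.det_fin_two] at hd
      rw [Matrix.det_fin_three]
      simp
      linear_combination hd⟩, Subgroup.subset_closure ⟨rfl, rfl, rfl⟩⟩
  map_one' := Subtype.ext (Subtype.ext (by
    ext i j
    fin_cases i <;> fin_cases j <;> simp))
  map_mul' A B := Subtype.ext (Subtype.ext (by
    show (!![(A.1 * B.1) 0 0, (A.1 * B.1) 0 1, 0; (A.1 * B.1) 1 0, (A.1 * B.1) 1 1, 0; 0, 0, 1] :
      Matrix (Fin 3) (Fin 3) F) = !![A.1 0 0, A.1 0 1, 0; A.1 1 0, A.1 1 1, 0; 0, 0, 1] *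
      !![B.1 0 0, B.1 0 1, 0; B.1 1 0, B.1 1 1, 0; 0, 0, 1]
    ext i j
    fin_cases i <;> fin_cases j <;> simp [Matrix.mul_apply, Fin.sum_univ_two, Fin.sum_univ_three]))

theorem lin_blk (A : SL2) : lin (blk A) = A := Subtype.ext (by
  ext i j
  fin_cases i <;> fin_cases j <;> rfl)

theorem blk_mem_iff (M : Cfsg.qdOver F) : M ∈ (blk (F := F)).range ↔ M.1.1 0 2 = 0 ∧ M.1.1 1 2 = 0 := by
  constructor
  · rintro ⟨A, rfl⟩
    exact ⟨rfl, rfl⟩
  · rintro ⟨h02, h12⟩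
    refine ⟨lin M, Subtype.ext (Subtype.ext ?_)⟩
    obtain ⟨h0, h1, h2⟩ := last_row M
    ext i j
    fin_cases i <;> fin_cases j
    all_goals first | rfl | exact h02.symm | exact h12.symm | exact h0.symm | exact h1.symm | exact h2.symm

theorem ker_iff (M : Cfsg.qdOver F) :
    M ∈ (lin (F := F)).ker ↔ M.1.1 0 0 = 1 ∧ M.1.1 0 1 = 0 ∧ M.1.1 1 0 = 0 ∧ M.1.1 1 1 = 1 := by
  rw [MonoidHom.mem_ker]
  constructor
  · intro h
    have e := congrArg Subtype.val h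
    exact ⟨congrFun (congrFun e 0) 0, congrFun (congrFun e 0) 1, congrFun (congrFun e 1) 0, congrFun (congrFun e 1) 1⟩
  · rintro ⟨h00, h01, h10, h11⟩
    apply Subtype.ext
    ext i j
    fin_cases i <;> fin_cases j
    exacts [h00, h01, h10, h11]

theorem ker_mul {M N : Cfsg.qdOver F} (hM : M ∈ (lin (F := F)).ker) :
    (M * N).1.1 0 2 = N.1.1 0 2 + M.1.1 0 2 ∧ (M * N).1.1 1 2 = N.1.1 1 2 + M.1.1 1 2 := by
  obtain ⟨h00, h01, h10, h11⟩ := (ker_iff M).mp hM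
  obtain ⟨n0, n1, n2⟩ := last_row N
  constructor <;>
  · show (M.1.1 * N.1.1) _ _ = _
    simp [Matrix.mul_apply, Fin.sum_univ_three, h00, h01, h10, h11, n2]

/-- Translation. -/
def tr (a : Fin 2 → F) : Cfsg.qdOver F :=
  ⟨⟨!![1, 0, a 0; 0, 1, a 1; 0, 0, 1], by simp [Matrix.det_fin_three]⟩, Subgroup.subset_closure ⟨rfl, rfl, rfl⟩⟩

theorem tr_mem (a : Fin 2 → F) : tr a ∈ (lin (F := F)).ker := (ker_iff _).mpr ⟨rfl, rfl, rfl, rfl⟩

theorem ker_ext {M N : Cfsg.qdOver F} (hM : M ∈ (lin (F := F)).ker) (hN : N ∈ (lin (F := F)).ker)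
    (h0 : M.1.1 0 2 = N.1.1 0 2) (h1 : M.1.1 1 2 = N.1.1 1 2) : M = N := by
  obtain ⟨m00, m01, m10, m11⟩ := (ker_iff M).mp hM
  obtain ⟨n00, n01, n10, n11⟩ := (ker_iff N).mp hN
  obtain ⟨a0, a1, a2⟩ := last_row M
  obtain ⟨b0, b1, b2⟩ := last_row N
  apply Subtype.ext
  apply Subtype.ext
  ext i j
  fin_cases i <;> fin_cases j
  exacts [m00.trans n00.symm, m01.trans n01.symm, h0, m10.trans n10.symm, m11.trans n11.symm, h1,
    a0.trans b0.symm, a1.trans b1.symm, a2.trans b2.symm]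

/-- Coordinates on the translations. -/
def kerEquiv : Additive (lin (F := F)).ker ≃+ (Fin 2 → F) where
  toFun M := ![(Additive.toMul M).1.1.1 0 2, (Additive.toMul M).1.1.1 1 2]
  invFun a := Additive.ofMul ⟨tr a, tr_mem a⟩
  left_inv M := by
    apply Additive.toMul.injective
    exact Subtype.ext (ker_ext (tr_mem _) (Additive.toMul M).2 rfl rfl)
  right_inv a := by
    ext i
    fin_cases i <;> rfl
  map_add' M N := by
    obtain ⟨e0, e1⟩ := ker_mul (N := (Additive.toMul N).1) (Additive.toMul M).2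
    ext i
    fin_cases i
    · exact e0.trans (add_comm _ _)
    · exact e1.trans (add_comm _ _)

theorem conj_ker (K M : Cfsg.qdOver F) (hM : M ∈ (lin (F := F)).ker) :
    (K * M * K⁻¹).1.1 0 2 = (lin K).1.mulVec ![M.1.1 0 2, M.1.1 1 2] 0 ∧
      (K * M * K⁻¹).1.1 1 2 = (lin K).1.mulVec ![M.1.1 0 2, M.1.1 1 2] 1 := by
  have hM' : K * M * K⁻¹ ∈ (lin (F := F)).ker := (MonoidHom.normal_ker _).conj_mem M hM K
  obtain ⟨e0, e1⟩ := ker_mul (N := K) hM'
  rw [inv_mul_cancel_right] at e0 e1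
  obtain ⟨m00, m01, m10, m11⟩ := (ker_iff M).mp hM
  obtain ⟨n0, n1, n2⟩ := last_row M
  constructor
  · have : (K * M).1.1 0 2 = K.1.1 0 0 * M.1.1 0 2 + K.1.1 0 1 * M.1.1 1 2 + K.1.1 0 2 := by
      show (K.1.1 * M.1.1) 0 2 = _
      simp [Matrix.mul_apply, Fin.sum_univ_three, n2]
    rw [this] at e0
    rw [show (lin K).1 = !![K.1.1 0 0, K.1.1 0 1; K.1.1 1 0, K.1.1 1 1] from rfl]
    simp [Matrix.mulVec, dotProduct, Fin.sum_univ_two]
    linear_combination -e0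
  · have : (K * M).1.1 1 2 = K.1.1 1 0 * M.1.1 0 2 + K.1.1 1 1 * M.1.1 1 2 + K.1.1 1 2 := by
      show (K.1.1 * M.1.1) 1 2 = _
      simp [Matrix.mul_apply, Fin.sum_univ_three, n2]
    rw [this] at e1
    rw [show (lin K).1 = !![K.1.1 0 0, K.1.1 0 1; K.1.1 1 0, K.1.1 1 1] from rfl]
    simp [Matrix.mulVec, dotProduct, Fin.sum_univ_two]
    linear_combination -e1

theorem normal_pGroup_eq_bot [Fintype F] {p : ℕ} [Fact p.Prime] [CharP F p] (N : Subgroup SL2) [hN : N.Normal]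
    (hNp : IsPGroup p N) : N = ⊥ := by
  obtain ⟨P, hP⟩ := hNp.exists_le_sylow
  obtain ⟨g, hg⟩ := sylow_SL p P
  have hU : ∀ x ∈ N, ∃ t : F, x = us (Multiplicative.ofAdd t) := by
    intro x hx
    have h1 := hP (hN.conj_mem x hx g)
    rw [hg] at h1
    obtain ⟨_, ⟨t, rfl⟩, ht⟩ := h1
    exact ⟨t.toAdd, (mul_left_cancel (mul_right_cancel ht)).symm⟩
  rw [eq_bot_iff]
  intro x hx
  obtain ⟨t, rfl⟩ := hU x hx
  let W : SL2 := ⟨!![0, 1; -1, 0], by simp [Matrix.det_fin_two_of]⟩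
  obtain ⟨s, hs⟩ := hU _ (hN.conj_mem _ hx W)
  have h2 : (W * us (Multiplicative.ofAdd t)).1 = (us (Multiplicative.ofAdd s) * W).1 := by
    rw [← hs, inv_mul_cancel_right]
  have h3 : (!![0, 1; -1, 0] * !![1, t; 0, 1] : Matrix (Fin 2) (Fin 2) F) 1 1 =
    (!![1, s; 0, 1] * !![0, 1; -1, 0] : Matrix (Fin 2) (Fin 2) F) 1 1 := congrFun (congrFun h2 1) 1
  simp [Matrix.mul_apply, Fin.sum_univ_two] at h3
  rw [Subgroup.mem_bot, h3]
  exact map_one us

theorem pCore_eq [Fintype F] {p : ℕ} [Fact p.Prime] [CharP F p] :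
    Cfsg.pCore p (Cfsg.qdOver F) = (lin (F := F)).ker := by
  refine le_antisymm ?_ (le_sSup ⟨MonoidHom.normal_ker _, fun z => ⟨1, ?_⟩⟩)
  · have h := normal_pGroup_eq_bot (p := p) ((Cfsg.pCore p (Cfsg.qdOver F)).map lin)
      (hN := (inferInstance : (Cfsg.pCore p (Cfsg.qdOver F)).Normal).map _ fun A => ⟨blk A, lin_blk A⟩)
      ((CfsgLib.isPGroup_pCore p).map _)
    exact (Subgroup.map_eq_bot_iff _).mp h
  · apply Subtype.ext
    have h1 : ∀ n : ℕ, kerEquiv (Additive.ofMul (z ^ n)) = n • kerEquiv (Additive.ofMul z) := fun n => by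
      rw [ofMul_pow, map_nsmul]
    have h2 := h1 (p ^ 1)
    rw [nsmul_eq_mul] at h2
    have h0 : ((p ^ 1 : ℕ) : Fin 2 → F) = 0 := by
      ext i
      simp
    rw [h0, zero_mul, ← map_zero (kerEquiv (F := F))] at h2
    exact congrArg Subtype.val (congrArg Additive.toMul (kerEquiv.injective h2))

end CfsgLib.QdOver
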