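import Cfsg.Agent.Lib.PowerOrbits.Main
import Cfsg.Agent.Lib.Coprime

/-!
# Groups in which all elements of `q`-power order have classes of prime power size
-/

namespace CfsgLib.QBaer

open Cfsg CfsgLib.CopClass
open scoped Pointwise
open scoped commutatorElement

set_option linter.unusedVariables false
set_option linter.style.haveILetI false
set_option linter.unusedSectionVars false

universe u

variable {G : Type u} [Group G] [Finite G] {q : ℕ} [Fact q.Prime]

/-- The hypothesis. -/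
def Baer (q : ℕ) (G : Type u) [Group G] : Prop :=
  ∀ x : G, (∃ k : ℕ, orderOf x = q ^ k) → ∃ (r : ℕ) (a : ℕ), r.Prime ∧
    (Subgroup.centralizer ({x} : Set G)).index = r ^ a

/-- An element of order prime to `q` acting trivially on a `q`-group modulo its derived subgroup
centralises it. -/
theorem centralises_of_mod_commutator {Q : Subgroup G} (hQ : IsPGroup q Q) {h : G}
    (hn : h ∈ Subgroup.normalizer (Q : Set G)) (hh : ¬ q ∣ orderOf h)
    (hmod : ∀ u ∈ Q, u * h * u⁻¹ * h⁻¹ ∈ ⁅Q, Q⁆) : ∀ u ∈ Q, h * u = u * h := by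
  classical
  haveI := hQ.isNilpotent
  have hcop : (Nat.card (Subgroup.zpowers h)).Coprime (Nat.card Q) := by
    obtain ⟨e, he⟩ := IsPGroup.iff_card.1 hQ
    rw [Nat.card_zpowers, he]
    exact ((Nat.Prime.coprime_iff_not_dvd Fact.out).2 hh).symm.pow_right e
  set A := Subgroup.zpowers h with hA
  have hAQ : A ≤ Subgroup.normalizer (Q : Set G) := Subgroup.zpowers_le.2 hn
  have hQQ : ⁅Q, Q⁆ ≤ Q := Subgroup.commutator_le.2 fun a ha b hb => by
    rw [commutatorElement_def]
    exact Q.mul_mem (Q.mul_mem (Q.mul_mem ha hb) (Q.inv_mem ha)) (Q.inv_mem hb)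
  have hle : ⁅Q, A⁆ ≤ ⁅Q, Q⁆ := by
    rw [Subgroup.commutator_le]
    intro u hu a ha
    -- the stabiliser of the cosets is a subgroup
    have hnD : ∀ d ∈ ⁅Q, Q⁆, h * d * h⁻¹ ∈ ⁅Q, Q⁆ := by
      intro d hd
      have h1 : (MulAut.conj h) d ∈ (⁅Q, Q⁆).map (MulAut.conj h).toMonoidHom := ⟨d, hd, rfl⟩
      rw [Subgroup.map_commutator] at h1
      refine (Subgroup.commutator_mono ?_ ?_ : _ ≤ ⁅Q, Q⁆) h1 <;>
      · rintro _ ⟨w, hw, rfl⟩
        exact (Subgroup.mem_normalizer_iff.1 hn w).1 hw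
    obtain ⟨n, hn'⟩ := mem_powers_iff_mem_zpowers.2 ha
    have hn'' : h ^ n = a := hn'
    rw [← hn'', commutatorElement_def]
    clear hn' hn'' ha
    induction n generalizing u with
    | zero => simp
    | succ n ih =>
      have e : u * h ^ (n + 1) * u⁻¹ * (h ^ (n + 1))⁻¹ =
          (u * h * u⁻¹ * h⁻¹) * (h * (u * h ^ n * u⁻¹ * (h ^ n)⁻¹) * h⁻¹) := by
        rw [pow_succ']; group
      rw [e]
      exact mul_mem (hmod u hu) (hnD _ (ih u hu))
  set C := (Q ⊓ Subgroup.centralizer (A : Set G)).subgroupOf Q with hC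
  have hsup : C ⊔ commutator Q = ⊤ := by
    rw [eq_top_iff]
    rintro ⟨u, hu⟩ -
    obtain ⟨x, hx, c, hc, rfl⟩ := CfsgLib.coprime_decomp hAQ hcop (Or.inl inferInstance) hu
    have hxQ : x ∈ Q := hQQ (hle hx)
    have hcQ : c ∈ Q := hc.1
    rw [show (⟨x * c, hu⟩ : Q) = ⟨x, hxQ⟩ * ⟨c, hcQ⟩ from rfl]
    refine mul_mem (Subgroup.mem_sup_right ?_) (Subgroup.mem_sup_left hc)
    have h1 : x ∈ (commutator Q).map Q.subtype := by
      rw [Subgroup.map_subtype_commutator]
      exact hle hx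
    obtain ⟨y, hy, hyx⟩ := h1
    rwa [show y = ⟨x, hxQ⟩ from Subtype.ext hyx] at hy
  have hCtop : C = ⊤ := by
    apply frattini_nongenerating
    refine top_le_iff.1 (hsup ▸ sup_le_sup_left ?_ C)
    exact CfsgLib.commutator_le_frattini_pGroup hQ
  intro u hu
  have h1 : (⟨u, hu⟩ : Q) ∈ C := hCtop ▸ Subgroup.mem_top _
  exact Subgroup.mem_centralizer_iff.1 h1.2 h (Subgroup.mem_zpowers h)

theorem relIndex_eq_one_of_coprime {p a : ℕ} (hp : p.Prime) (hpq : p ≠ q) {M : Subgroup G}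
    [M.Normal] (hM : IsPGroup q M) {x : G}
    (hx : (Subgroup.centralizer ({x} : Set G)).index = p ^ a) :
    M ≤ Subgroup.centralizer ({x} : Set G) := by
  obtain ⟨e, he⟩ := IsPGroup.iff_card.1 hM
  exact Subgroup.relIndex_eq_one.1 (Nat.eq_one_of_dvd_coprimes
    (Nat.Coprime.pow a e ((Nat.coprime_primes hp Fact.out).2 hpq))
    (hx ▸ CfsgLib.Kazarin.relIndex_dvd_index _) (he ▸ Subgroup.index_dvd_card _))

/-- A central element has index `1`. -/
theorem index_pos_exp {x : G} {r a : ℕ} (h : (Subgroup.centralizer ({x} : Set G)).index = r ^ a)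
    (hne : (Subgroup.centralizer ({x} : Set G)).index ≠ 1) : a ≠ 0 := fun h0 => hne (by
  rw [h, h0, pow_zero])

/-- Elements of `q`-power index and of index a power of another prime do not both exist. -/
theorem no_mixed (hB : Baer q G) {x y : G} (hx : ∃ k, orderOf x = q ^ k)
    (hy : ∃ k, orderOf y = q ^ k) {a b s : ℕ} (hs : s.Prime) (hsq : s ≠ q) (ha : a ≠ 0)
    (hb : b ≠ 0) (hxi : cs x = q ^ a) (hyi : cs y = s ^ b) : False := by
  classical
  have hq : q.Prime := Fact.out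
  set M := pCore q G with hM
  haveI : M.Normal := Subgroup.normal_of_characteristic _
  obtain ⟨k, hk⟩ := hx
  have hxM : x ∈ M := CfsgLib.Kazarin.mem_pCore_of_class hk hxi
  obtain ⟨Q⟩ : Nonempty (Sylow q G) := inferInstance
  have hdich : ∀ u ∈ (Q : Subgroup G), u ∈ M ∨ M ≤ cz u := by
    intro u hu
    obtain ⟨l, hl⟩ := IsPGroup.iff_orderOf.1 Q.2 ⟨u, hu⟩
    rw [← Subgroup.orderOf_coe] at hl
    obtain ⟨r, c, hr, hc⟩ := hB u ⟨l, hl⟩
    by_cases hrq : r = q
    · subst hrq
      exact Or.inl (CfsgLib.Kazarin.mem_pCore_of_class hl hc)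
    · exact Or.inr (relIndex_eq_one_of_coprime hr hrq (CfsgLib.isPGroup_pCore q) hc)
  have hQM : (Q : Subgroup G) ≤ M := by
    by_contra hnot
    obtain ⟨u0, hu0, hu0M⟩ := SetLike.not_le_iff_exists.1 hnot
    have hQx : (Q : Subgroup G) ≤ cz x := by
      intro u hu
      by_cases huM : u ∈ M
      · have h1 := (hdich (u0 * u) (mul_mem hu0 hu)).resolve_left fun h =>
          hu0M ((M.mul_mem_cancel_right huM).1 h)
        have h2 := (hdich u0 hu0).resolve_left hu0M
        have e1 := mem_cz.1 (h1 hxM)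
        have e2 := mem_cz.1 (h2 hxM)
        rw [mem_cz]
        have : u0 * (u * x) = u0 * (x * u) := by
          rw [← mul_assoc, ← e1, ← mul_assoc, ← mul_assoc, e2]
        exact mul_left_cancel this
      · exact mem_cz.2 (mem_cz.1 ((hdich u hu).resolve_left huM hxM)).symm
    have h1 := Subgroup.index_dvd_of_le hQx
    rw [show (cz x).index = q ^ a from hxi] at h1
    exact Q.not_dvd_index ((dvd_pow_self q ha).trans h1)
  have hQ : (Q : Subgroup G) = M := le_antisymm hQM (CfsgLib.pCore_le_sylow Q)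
  -- classes in `Q`
  set D := ⁅M, M⁆ with hD
  haveI : D.Normal := Subgroup.commutator_normal M M
  let F : Subgroup G :=
    { carrier := {u | u ∈ M ∧ ∀ g : G, g * u * g⁻¹ * u⁻¹ ∈ D}
      one_mem' := ⟨M.one_mem, fun g => by simp⟩
      mul_mem' := fun {u v} hu hv => ⟨M.mul_mem hu.1 hv.1, fun g => by
        rw [show g * (u * v) * g⁻¹ * (u * v)⁻¹ =
          (g * u * g⁻¹ * u⁻¹) * (u * (g * v * g⁻¹ * v⁻¹) * u⁻¹) by group]
        exact D.mul_mem (hu.2 g) ((inferInstance : D.Normal).conj_mem _ (hv.2 g) u)⟩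
      inv_mem' := fun {u} hu => ⟨M.inv_mem hu.1, fun g => by
        rw [show g * u⁻¹ * g⁻¹ * u⁻¹⁻¹ = u⁻¹ * (g * u * g⁻¹ * u⁻¹)⁻¹ * u⁻¹⁻¹ by group]
        exact (inferInstance : D.Normal).conj_mem _ (D.inv_mem (hu.2 g)) u⁻¹⟩ }
  have hMdich : ∀ u ∈ M, M ≤ cz u ∨ u ∈ F := by
    intro u hu
    obtain ⟨l, hl⟩ := IsPGroup.iff_orderOf.1 (CfsgLib.isPGroup_pCore q) ⟨u, hu⟩
    rw [← Subgroup.orderOf_coe] at hl
    obtain ⟨r, c, hr, hc⟩ := hB u ⟨l, hl⟩
    by_cases hrq : r = q
    · subst hrq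
      refine Or.inr ⟨hu, fun g => ?_⟩
      obtain ⟨d, hd, v, hv, rfl⟩ := exists_eq_mul (A := cz u) (B := (Q : Subgroup G))
        (by show Nat.Coprime (cz u).index _
            rw [show (cz u).index = r ^ c from hc]
            exact Nat.Coprime.pow_left c ((hr.coprime_iff_not_dvd).2 Q.not_dvd_index)) g
      rw [show v * d * u * (v * d)⁻¹ * u⁻¹ = v * (d * u * d⁻¹) * v⁻¹ * u⁻¹ by group,
        mem_cz_iff_conj.1 hd, ← commutatorElement_def]
      exact Subgroup.commutator_mem_commutator (hQM hv) hu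
    · exact Or.inl (relIndex_eq_one_of_coprime hr hrq (CfsgLib.isPGroup_pCore q) hc)
  have hFM : M ≤ F := by
    by_contra hnot
    obtain ⟨u0, hu0, hu0F⟩ := SetLike.not_le_iff_exists.1 hnot
    have hMx : M ≤ cz x := by
      intro v hv
      have h2 := (hMdich u0 hu0).resolve_right hu0F
      by_cases hxF : x ∈ F
      · have h1 := (hMdich (u0 * x) (M.mul_mem hu0 hxM)).resolve_right fun h =>
          hu0F ((F.mul_mem_cancel_right hxF).1 h)
        have e1 := mem_cz.1 (h1 hv)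
        have e2 := mem_cz.1 (h2 hv)
        rw [mem_cz]
        have : u0 * (v * x) = u0 * (x * v) := by
          rw [← mul_assoc, ← e2, mul_assoc, e1, mul_assoc]
        exact mul_left_cancel this
      · exact (hMdich x hxM).resolve_right hxF hv
    have h1 := Subgroup.index_dvd_of_le (hQ.le.trans hMx)
    rw [show (cz x).index = q ^ a from hxi] at h1
    exact Q.not_dvd_index ((dvd_pow_self q ha).trans h1)
  obtain ⟨l, hl⟩ := hy
  have hyM : y ∈ M := by
    obtain ⟨R, hR⟩ := (IsPGroup.of_card (n := l) (show Nat.card (Subgroup.zpowers y) = q ^ l by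
      rw [Nat.card_zpowers, hl])).exists_le_sylow
    haveI : (Q : Subgroup G).Normal := by rw [hQ]; infer_instance
    obtain ⟨g, hg⟩ := MulAction.exists_smul_eq G Q R
    have : (R : Subgroup G) = M := by
      rw [← hg, Sylow.smul_eq_of_normal, hQ]
    exact this ▸ hR (Subgroup.mem_zpowers y)
  haveI := Fact.mk hs
  obtain ⟨S⟩ : Nonempty (Sylow s G) := inferInstance
  have hSy : (S : Subgroup G) ≤ cz y := by
    intro h hh
    obtain ⟨e, he⟩ := IsPGroup.iff_orderOf.1 S.2 ⟨h, hh⟩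
    rw [← Subgroup.orderOf_coe] at he
    have hnq : ¬ q ∣ orderOf h := by
      simp only at he
      rw [he]
      exact fun hd => hsq ((Nat.prime_dvd_prime_iff_eq hq hs).1 (hq.dvd_of_dvd_pow hd)).symm
    have hnor : h ∈ Subgroup.normalizer (M : Set G) := by
      rw [Subgroup.normalizer_eq_top]; exact Subgroup.mem_top h
    refine mem_cz.2 (centralises_of_mod_commutator (CfsgLib.isPGroup_pCore q) hnor hnq ?_ y hyM)
    intro u hu
    have h1 := (hFM hu).2 h
    rw [show u * h * u⁻¹ * h⁻¹ = (h * u * h⁻¹ * u⁻¹)⁻¹ by group]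
    exact inv_mem h1
  have h1 := Subgroup.index_dvd_of_le hSy
  rw [show (cz y).index = s ^ b from hyi] at h1
  exact S.not_dvd_index ((dvd_pow_self s hb).trans h1)

/-- The element with the smaller of two coprime class sizes is central. -/
theorem central_of_translate {a b : G} (hab : (cs a).Coprime (cs b)) (he : cs (a * b) = cs b)
    {r e : ℕ} (hr : r.Prime) (hrq : r ≠ q) (hb : cs b = r ^ e) (hao : ∃ k, orderOf a = q ^ k) :
    a ∈ Subgroup.center G := by
  obtain ⟨-, hdvd⟩ := kk_translate hab he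
  obtain ⟨z, hz, k, hk, hazk⟩ := exists_center_mul (hab.symm.coprime_dvd_left hdvd)
  obtain ⟨m, hm⟩ : ∃ m, m = Nat.card (kk a) := ⟨_, rfl⟩
  have hpow : a ^ m ∈ Subgroup.center G := by
    have hkz : Commute z k := (Subgroup.mem_center_iff.1 hz k).symm
    rw [hazk, hkz.mul_pow]
    refine mul_mem (pow_mem hz m) ?_
    rw [show k ^ m = 1 from hm ▸ congrArg Subtype.val
      (pow_card_eq_one' (x := (⟨k, hk⟩ : kk a)))]
    exact one_mem _
  obtain ⟨l, hl⟩ := hao
  have hcop : m.Coprime (orderOf a) := by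
    rw [hl, hm]
    refine Nat.Coprime.coprime_dvd_left (hb ▸ hdvd) ?_
    exact Nat.Coprime.pow e l ((Nat.coprime_primes hr Fact.out).2 hrq)
  obtain ⟨j, hj⟩ := exists_pow_eq_self_of_coprime hcop
  rw [← hj]
  exact pow_mem hpow j

/-- Two different primes other than `q` do not both occur. -/
theorem no_two (hB : Baer q G) {x y : G} (hx : ∃ k, orderOf x = q ^ k)
    (hy : ∃ k, orderOf y = q ^ k) {a b r s : ℕ} (hr : r.Prime) (hs : s.Prime) (hrq : r ≠ q)
    (hsq : s ≠ q) (hrs : r ≠ s) (ha : a ≠ 0) (hb : b ≠ 0) (hxi : cs x = r ^ a)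
    (hyi : cs y = s ^ b) : False := by
  classical
  have hq : q.Prime := Fact.out
  -- a conjugate of `y` commuting with `x`
  obtain ⟨k, hk⟩ := hx
  obtain ⟨Q0, hQ0⟩ := (IsPGroup.of_card (n := k) (show Nat.card (Subgroup.zpowers x) = q ^ k by
    rw [Nat.card_zpowers, hk])).exists_le_sylow
  obtain ⟨Qy, hQy⟩ : ∃ Qy : Sylow q G, (Qy : Subgroup G) ≤ cz y := by
    obtain ⟨T⟩ : Nonempty (Sylow q (cz y)) := inferInstance
    have hT : IsPGroup q ((T : Subgroup (cz y)).map (cz y).subtype) := T.2.map _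
    have hidx : ¬ q ∣ ((T : Subgroup (cz y)).map (cz y).subtype).index := by
      rw [Subgroup.index_map_subtype]
      intro h
      rcases (Nat.Prime.dvd_mul hq).1 h with h' | h'
      · exact T.not_dvd_index h'
      · rw [show (cz y).index = s ^ b from hyi] at h'
        exact hsq ((Nat.prime_dvd_prime_iff_eq hq hs).1 (hq.dvd_of_dvd_pow h')).symm
    exact ⟨hT.toSylow hidx, Subgroup.map_subtype_le _⟩
  obtain ⟨g, hg⟩ := MulAction.exists_smul_eq G Qy Q0
  set y' := g * y * g⁻¹ with hy'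
  have hyo : ∃ l, orderOf y' = q ^ l := by
    obtain ⟨l, hl⟩ := hy
    exact ⟨l, by rw [hy', ← MulAut.conj_apply, MulEquiv.orderOf_eq, hl]⟩
  have hyi' : cs y' = s ^ b := by rw [hy', cs_conj, hyi]
  have hcomm : Commute x y' := by
    have h1 : x ∈ MulAut.conj g • (Qy : Subgroup G) := by
      rw [← Sylow.pointwise_smul_def, ← Sylow.smul_def, hg]
      exact hQ0 (Subgroup.mem_zpowers x)
    obtain ⟨w, hw, hwx⟩ := h1
    have e : w * y = y * w := mem_cz.1 (hQy hw)
    rw [← hwx, hy']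
    show g * w * g⁻¹ * (g * y * g⁻¹) = g * y * g⁻¹ * (g * w * g⁻¹)
    rw [show g * w * g⁻¹ * (g * y * g⁻¹) = g * (w * y) * g⁻¹ by group, e]
    group
  have hcop : (cs x).Coprime (cs y') := by
    rw [hxi, hyi']
    exact Nat.Coprime.pow a b ((Nat.coprime_primes hr hs).2 hrs)
  have hord : ∃ l, orderOf (x * y') = q ^ l := by
    obtain ⟨l, hl⟩ := hyo
    obtain ⟨c, -, hc⟩ := (Nat.dvd_prime_pow hq).1
      ((hcomm.orderOf_mul_dvd_lcm).trans (Nat.lcm_dvd
        (show orderOf x ∣ q ^ (k + l) from hk ▸ pow_dvd_pow q (Nat.le_add_right k l))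
        (hl ▸ pow_dvd_pow q (Nat.le_add_left l k))))
    exact ⟨c, hc⟩
  obtain ⟨t, c, ht, hc⟩ := hB _ hord
  have hc' : cs (x * y') = t ^ c := hc
  have hdvd := cs_mul_dvd hcop
  have hge1 := cs_mul_ge hcop
  have hge2 := cs_mul_ge' hcop
  rw [hc'] at hdvd hge1 hge2
  rw [hxi, hyi'] at hdvd
  rw [hxi] at hge2
  rw [hyi'] at hge1
  have hc0 : c ≠ 0 := fun h0 => by
    rw [h0, pow_zero] at hge1
    exact absurd hge1 (not_le.2 (Nat.one_lt_pow hb hs.one_lt))
  have htr : t = r ∨ t = s := by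
    rcases (Nat.Prime.dvd_mul ht).1 ((dvd_pow_self t hc0).trans hdvd) with h | h
    · exact Or.inl ((Nat.prime_dvd_prime_iff_eq ht hr).1 (ht.dvd_of_dvd_pow h))
    · exact Or.inr ((Nat.prime_dvd_prime_iff_eq ht hs).1 (ht.dvd_of_dvd_pow h))
  have hne : ∀ {u : G} {d e : ℕ}, d.Prime → cs u = d ^ e → e ≠ 0 → u ∉ Subgroup.center G := by
    intro u d e hd hu he hmem
    rw [cs_one_iff.2 hmem] at hu
    exact (Nat.one_lt_pow he hd.one_lt).ne hu
  rcases htr with rfl | rfl
  · have hle : t ^ c ≤ t ^ a := Nat.le_of_dvd (pow_pos ht.pos a)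
      ((Nat.Coprime.pow c b ((Nat.coprime_primes ht hs).2 hrs)).dvd_of_dvd_mul_right hdvd)
    have he : cs (y' * x) = cs x := by
      rw [cs_mul_comm, hc', hxi]
      exact le_antisymm hle hge2
    exact hne hs hyi' hb (central_of_translate hcop.symm he ht hrq hxi hyo)
  · have hle : t ^ c ≤ t ^ b := Nat.le_of_dvd (pow_pos ht.pos b)
      ((Nat.Coprime.pow c a ((Nat.coprime_primes ht hr).2 hrs.symm)).dvd_of_dvd_mul_left hdvd)
    have he : cs (x * y') = cs y' := by
      rw [hc', hyi']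
      exact le_antisymm hle hge1
    exact hne hr hxi ha (central_of_translate hcop he ht hsq hyi' ⟨k, hk⟩)

/-- A single prime occurs. -/
theorem exists_prime (hB : Baer q G) : ∃ p : ℕ, p.Prime ∧
    ∀ x : G, (∃ k : ℕ, orderOf x = q ^ k) → ∃ a : ℕ, cs x = p ^ a := by
  by_cases hall : ∀ x : G, (∃ k : ℕ, orderOf x = q ^ k) → cs x = 1
  · exact ⟨q, Fact.out, fun x hx => ⟨0, by rw [hall x hx, pow_zero]⟩⟩
  push Not at hall
  obtain ⟨x, hx, hx1⟩ := hall
  obtain ⟨p, a, hp, hxi⟩ := hB x hx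
  refine ⟨p, hp, fun y hy => ?_⟩
  obtain ⟨s, b, hs, hyi⟩ := hB y hy
  by_cases hb : b = 0
  · exact ⟨0, by rw [show cs y = s ^ b from hyi, hb, pow_zero, pow_zero]⟩
  by_cases hsp : s = p
  · exact ⟨b, hsp ▸ hyi⟩
  exfalso
  have ha : a ≠ 0 := index_pos_exp hxi hx1
  by_cases hpq : p = q
  · subst hpq
    exact no_mixed hB hx hy hs hsp ha hb hxi hyi
  by_cases hsq : s = q
  · subst hsq
    exact no_mixed hB hy hx hp hpq hb ha hyi hxi
  exact no_two hB hx hy hp hs hpq hsq (Ne.symm hsp) ha hb hxi hyi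

/-- All `q`-elements of `q`-power class size. -/
theorem sylow_direct (Q : Sylow q G)
    (h : ∀ x : G, (∃ k : ℕ, orderOf x = q ^ k) → ∃ a : ℕ, cs x = q ^ a) :
    (Q : Subgroup G).Normal ∧ ∃ N : Subgroup G, N.Normal ∧ N.IsComplement' (Q : Subgroup G) := by
  classical
  have hQM : (Q : Subgroup G) = pCore q G := by
    refine le_antisymm (fun u hu => ?_) (CfsgLib.pCore_le_sylow Q)
    obtain ⟨l, hl⟩ := IsPGroup.iff_orderOf.1 Q.2 ⟨u, hu⟩
    rw [← Subgroup.orderOf_coe] at hl
    obtain ⟨a, ha⟩ := h u ⟨l, hl⟩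
    exact CfsgLib.Kazarin.mem_pCore_of_class hl ha
  haveI hQn : (Q : Subgroup G).Normal := by
    rw [hQM]
    exact Subgroup.normal_of_characteristic _
  refine ⟨hQn, ?_⟩
  obtain ⟨e, he⟩ := IsPGroup.iff_card.1 Q.2
  have hcop : Nat.Coprime (Nat.card (Q : Subgroup G)) (Q : Subgroup G).index := by
    rw [show Nat.card (Q : Subgroup G) = q ^ e from he]
    exact Nat.Coprime.pow_left e (((Fact.out : q.Prime).coprime_iff_not_dvd).2 Q.not_dvd_index)
  obtain ⟨N, hN⟩ := Subgroup.exists_right_complement'_of_coprime (N := (Q : Subgroup G)) hcop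
  have hcent : ∀ n ∈ N, ∀ u ∈ (Q : Subgroup G), n * u = u * n := by
    intro n hn
    refine centralises_of_mod_commutator Q.2
      (by rw [Subgroup.normalizer_eq_top]; exact Subgroup.mem_top n) ?_ ?_
    · intro hd
      apply Q.not_dvd_index
      rw [hN.symm.index_eq_card]
      exact hd.trans (Subgroup.orderOf_dvd_natCard N hn)
    intro u hu
    obtain ⟨l, hl⟩ := IsPGroup.iff_orderOf.1 Q.2 ⟨u, hu⟩
    rw [← Subgroup.orderOf_coe] at hl
    obtain ⟨a, ha⟩ := h u ⟨l, hl⟩
    obtain ⟨d, hd, v, hv, hnv⟩ := exists_eq_mul (A := cz u) (B := (Q : Subgroup G))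
      (by show Nat.Coprime (cz u).index _
          rw [show (cz u).index = q ^ a from ha]
          exact Nat.Coprime.pow_left a
            (((Fact.out : q.Prime).coprime_iff_not_dvd).2 Q.not_dvd_index)) n
    rw [show u * n * u⁻¹ * n⁻¹ = (n * u * n⁻¹ * u⁻¹)⁻¹ by group, hnv,
      show v * d * u * (v * d)⁻¹ * u⁻¹ = v * (d * u * d⁻¹) * v⁻¹ * u⁻¹ by group,
      mem_cz_iff_conj.1 hd, ← commutatorElement_def]
    exact inv_mem (Subgroup.commutator_mem_commutator hv hu)
  refine ⟨N, ⟨fun n hn g => ?_⟩, hN.symm⟩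
  obtain ⟨u, hu, m, hm, rfl⟩ : ∃ u ∈ (Q : Subgroup G), ∃ m ∈ N, u * m = g := by
    obtain ⟨⟨⟨u, hu⟩, ⟨m, hm⟩⟩, e⟩ := hN.2 g
    exact ⟨u, hu, m, hm, e⟩
  have h1 : m * n * m⁻¹ ∈ N := mul_mem (mul_mem hm hn) (inv_mem hm)
  rw [show u * m * n * (u * m)⁻¹ = u * (m * n * m⁻¹) * u⁻¹ by group, ← hcent _ h1 u hu,
    mul_inv_cancel_right]
  exact h1

/-- All `q`-elements of `p`-power class size, `p ≠ q`. -/
theorem sylow_abelian (Q : Sylow q G) {p : ℕ} [Fact p.Prime] (hpq : p ≠ q)
    (h : ∀ x : G, (∃ k : ℕ, orderOf x = q ^ k) → ∃ a : ℕ, cs x = p ^ a) :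
    IsMulCommutative (Q : Subgroup G) ∧ (pCore p G ⊔ (Q : Subgroup G)).Normal := by
  classical
  set f := QuotientGroup.mk' (pCore p G) with hf
  have hsurj : Function.Surjective f := QuotientGroup.mk'_surjective _
  set Qb := (Q : Subgroup G).map f with hQb
  have hQbp : IsPGroup q Qb := Q.2.map f
  have hle : Qb ≤ pCore q (G ⧸ pCore p G) := by
    rintro _ ⟨x, hx, rfl⟩
    obtain ⟨l, hl⟩ := IsPGroup.iff_orderOf.1 Q.2 ⟨x, hx⟩
    rw [← Subgroup.orderOf_coe] at hl
    obtain ⟨a, ha⟩ := h x ⟨l, hl⟩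
    -- the normal closure of the image is an abelian `q`-group
    set A := Subgroup.normalClosure ({f x} : Set (G ⧸ pCore p G)) with hA
    haveI : A.Normal := Subgroup.normalClosure_normal
    refine CfsgLib.le_pCore (N := A) ?_ (Subgroup.subset_normalClosure rfl)
    have hcomm : ∀ s ∈ Group.conjugatesOfSet ({f x} : Set (G ⧸ pCore p G)),
        ∀ t ∈ Group.conjugatesOfSet ({f x} : Set (G ⧸ pCore p G)), s * t = t * s := by
      intro s hs t ht
      obtain ⟨w, hw, hws⟩ := Group.mem_conjugatesOfSet_iff.1 hs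
      obtain ⟨w', hw', hwt⟩ := Group.mem_conjugatesOfSet_iff.1 ht
      rw [Set.mem_singleton_iff] at hw hw'
      subst hw hw'
      obtain ⟨g', rfl⟩ := isConj_iff.1 hws
      obtain ⟨h', rfl⟩ := isConj_iff.1 hwt
      obtain ⟨g, rfl⟩ := hsurj g'
      obtain ⟨g1, rfl⟩ := hsurj h'
      have h1 := (QuotientGroup.eq_one_iff _).2
        (CfsgLib.Kazarin.commutator_mem_pCore (p := p) x ha g g1)
      have h2 : f (g * x * g⁻¹ * (g1 * x * g1⁻¹) * (g * x * g⁻¹)⁻¹ * (g1 * x * g1⁻¹)⁻¹) = 1 := h1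
      simp only [map_mul, map_inv] at h2
      rw [mul_inv_eq_one, mul_inv_eq_iff_eq_mul] at h2
      exact h2
    haveI : IsMulCommutative A := Subgroup.isMulCommutative_closure hcomm
    intro z
    refine ⟨l, ?_⟩
    obtain ⟨z, hz⟩ := z
    refine Subtype.ext ?_
    show z ^ q ^ l = 1
    induction hz using Subgroup.closure_induction with
    | mem y hy =>
      obtain ⟨w, hw, hwy⟩ := Group.mem_conjugatesOfSet_iff.1 hy
      rw [Set.mem_singleton_iff] at hw
      subst hw
      obtain ⟨g', rfl⟩ := isConj_iff.1 hwy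
      have : x ^ q ^ l = 1 := orderOf_dvd_iff_pow_eq_one.1 (by simp only at hl; rw [hl])
      rw [conj_pow, ← map_pow, this, map_one, mul_one, mul_inv_cancel]
    | one => exact one_pow _
    | mul y w hy hw ih1 ih2 =>
      rw [(show Commute y w from congrArg Subtype.val
        ((inferInstance : IsMulCommutative A).1.1 ⟨y, hy⟩ ⟨w, hw⟩)).mul_pow, ih1, ih2, one_mul]
    | inv y _ ih => rw [inv_pow, ih, inv_one]
  have hidx : ¬ q ∣ Qb.index := fun hd =>
    Q.not_dvd_index (hd.trans (Subgroup.index_map_dvd _ hsurj))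
  have hQbeq : Qb = pCore q (G ⧸ pCore p G) :=
    le_antisymm hle (CfsgLib.pCore_le_sylow (hQbp.toSylow hidx))
  haveI hQbn : Qb.Normal := by
    rw [hQbeq]
    exact Subgroup.normal_of_characteristic _
  have hcomap : Qb.comap f = pCore p G ⊔ (Q : Subgroup G) := by
    rw [hQb, Subgroup.comap_map_eq, hf, QuotientGroup.ker_mk', sup_comm]
  refine ⟨⟨⟨fun a b => ?_⟩⟩, hcomap ▸ (inferInstance : (Qb.comap f).Normal)⟩
  obtain ⟨a, ha⟩ := a
  obtain ⟨b, hb⟩ := b
  refine Subtype.ext ?_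
  show a * b = b * a
  obtain ⟨l, hl⟩ := IsPGroup.iff_orderOf.1 Q.2 ⟨a, ha⟩
  rw [← Subgroup.orderOf_coe] at hl
  obtain ⟨c, hc⟩ := h a ⟨l, hl⟩
  have hdv := CfsgLib.Kazarin.index_map_dvd_of_surjective f hsurj a
  rw [show (Subgroup.centralizer ({a} : Set G)).index = p ^ c from hc] at hdv
  obtain ⟨d, -, hd⟩ := (Nat.dvd_prime_pow (Fact.out : p.Prime)).1 hdv
  have h1 : f b * f a = f a * f b :=
    mem_cz.1 (relIndex_eq_one_of_coprime (Fact.out : p.Prime) hpq hQbp hd ⟨b, hb, rfl⟩)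
  have hmem : a * b * a⁻¹ * b⁻¹ ∈ pCore p G ⊓ (Q : Subgroup G) := by
    refine ⟨(QuotientGroup.eq_one_iff _).1 ?_,
      (Q : Subgroup G).mul_mem ((Q : Subgroup G).mul_mem ((Q : Subgroup G).mul_mem ha hb)
        ((Q : Subgroup G).inv_mem ha)) ((Q : Subgroup G).inv_mem hb)⟩
    show f _ = 1
    rw [map_mul, map_mul, map_mul, map_inv, map_inv, ← h1]
    group
  rw [disjoint_iff.1 (IsPGroup.disjoint_of_ne p q hpq _ _ (CfsgLib.isPGroup_pCore p) Q.2),
    Subgroup.mem_bot, mul_inv_eq_one, mul_inv_eq_iff_eq_mul] at hmem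
  exact hmem

/-- A coprime automorphism fixing the elements of order `q` of an abelian `q`-group is trivial. -/
theorem fixes_of_fixes_omega {Q : Subgroup G} (hQ : IsPGroup q Q) (hQn : Q.Normal)
    (hab : IsMulCommutative Q) {h : G} (hh : ¬ q ∣ orderOf h)
    (hfix : ∀ x ∈ Q, x ^ q = 1 → h * x * h⁻¹ = x) :
    ∀ (n : ℕ) (x : G), x ∈ Q → x ^ q ^ n = 1 → h * x * h⁻¹ = x := by
  intro n
  induction n with
  | zero => intro x _ hx; rw [pow_zero, pow_one] at hx; subst hx; group
  | succ n ih =>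
    intro x hx hxn
    have hxq := ih (x ^ q) (Q.pow_mem hx q) (by rw [← pow_mul, ← pow_succ', hxn])
    set w := x⁻¹ * (h * x * h⁻¹) with hw
    have hwQ : w ∈ Q := Q.mul_mem (Q.inv_mem hx) (hQn.conj_mem x hx h)
    have hxw : Commute x⁻¹ (h * x * h⁻¹) := congrArg Subtype.val
      (hab.1.1 ⟨x⁻¹, Q.inv_mem hx⟩ ⟨_, hQn.conj_mem x hx h⟩)
    have hwq : w ^ q = 1 := by
      rw [hw, hxw.mul_pow, conj_pow, hxq, inv_pow, inv_mul_cancel]
    have hwfix := hfix w hwQ hwq
    have hit : ∀ m : ℕ, h ^ m * x * (h ^ m)⁻¹ = x * w ^ m := by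
      intro m
      induction m with
      | zero => simp
      | succ m ihm =>
        rw [pow_succ' h, show h * h ^ m * x * (h * h ^ m)⁻¹ = h * (h ^ m * x * (h ^ m)⁻¹) * h⁻¹ by
          group, ihm, show h * (x * w ^ m) * h⁻¹ = (h * x * h⁻¹) * (h * w ^ m * h⁻¹) by group,
          ← conj_pow, hwfix, pow_succ', ← mul_assoc]
        congr 1
        rw [hw, mul_inv_cancel_left]
    have h1 := hit (orderOf h)
    rw [pow_orderOf_eq_one, one_mul, inv_one, mul_one, left_eq_mul] at h1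
    have hwo : orderOf w = 1 := Nat.eq_one_of_dvd_coprimes
      ((Nat.Prime.coprime_iff_not_dvd Fact.out).2 hh) (orderOf_dvd_of_pow_eq_one hwq)
      (orderOf_dvd_of_pow_eq_one h1)
    rw [orderOf_eq_one_iff, hw, inv_mul_eq_one] at hwo
    exact hwo.symm

/-- Additive maps are linear over the prime field. -/
def endLin {W : Type u} [AddCommGroup W] [Module (ZMod q) W] :
    AddMonoid.End W →* Module.End (ZMod q) W where
  toFun φ := ⟨⟨φ, fun a b => map_add φ a b⟩, fun c x => ZMod.map_smul φ c x⟩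
  map_one' := LinearMap.ext fun x => rfl
  map_mul' a b := LinearMap.ext fun x => rfl

/-- The solvability criterion for an action on an elementary abelian `q`-group. -/
theorem solvable_of_action {H : Type u} [Group H] [Finite H] {W : Type u} [AddCommGroup W]
    [Finite W] (hW : ∀ x : W, q • x = 0) (c : H →* AddMonoid.End W) {p : ℕ} [Fact p.Prime]
    (hc : ∀ x : W, ∃ S : Subgroup H, (∀ g, g ∈ S ↔ c g x = x) ∧ ∃ a : ℕ, S.index = p ^ a)
    (N : Subgroup H) [N.Normal] (hN : ∀ g, g ∈ N ↔ ∀ x, c g x = x) (hidx : ¬ q ∣ N.index) :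
    Group.IsSolvable (H ⧸ N) := by
  letI : Module (ZMod q) W := AddCommGroup.zmodModule (n := q) hW
  let ρ : Representation (ZMod q) H W := MonoidHom.comp (endLin (q := q)) c
  have hρ : ∀ g x, ρ g x = c g x := fun g x => rfl
  obtain ⟨N', hN', σ, hσ, hσo, hσN⟩ :=
    PowerOrbits.exists_faithful_quotient (q := q) (Fact.out : p.Prime) ρ fun x => by
      obtain ⟨S, hS, a, ha⟩ := hc x
      refine ⟨a, ?_⟩
      rw [← ha]
      exact congrArg Subgroup.index (Subgroup.ext fun g => (hS g).symm)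
  haveI := hN'
  have hNe : N' = N := by
    ext g
    rw [hN]
    constructor
    · intro hg x
      have := hσN g x
      rw [(QuotientGroup.eq_one_iff g).2 hg, map_one, hρ] at this
      exact this.symm
    · intro hg
      rw [← QuotientGroup.eq_one_iff]
      refine hσ ?_
      rw [map_one]
      exact LinearMap.ext fun x => (hσN g x).trans ((hρ g x).trans (hg x))
  subst hNe
  exact PowerOrbits.isSolvable_of_powerOrbit σ hσ
    (by rwa [← Subgroup.index_eq_card]) hσo

/-- The quotient by the `q'`-core is solvable. -/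
theorem solvable_quotient (Q : Sylow q G) {p : ℕ} [Fact p.Prime] (hpq : p ≠ q)
    (h : ∀ x : G, (∃ k : ℕ, orderOf x = q ^ k) → ∃ a : ℕ, cs x = p ^ a)
    (hR : (pPrimeCore q G).Normal) : Group.IsSolvable (G ⧸ pPrimeCore q G) := by
  classical
  haveI := hR
  set f := QuotientGroup.mk' (pPrimeCore q G) with hf
  have hsurj : Function.Surjective f := QuotientGroup.mk'_surjective _
  obtain ⟨habQ, hnQ⟩ := sylow_abelian Q hpq h
  haveI := habQ
  haveI := hnQ
  set Qb := (Q : Subgroup G).map f with hQb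
  have hQbp : IsPGroup q Qb := Q.2.map f
  have hidx : ¬ q ∣ Qb.index := fun hd =>
    Q.not_dvd_index (hd.trans (Subgroup.index_map_dvd _ hsurj))
  have hcore : pCore p G ≤ pPrimeCore q G := by
    obtain ⟨e, he⟩ := IsPGroup.iff_card.1 (CfsgLib.isPGroup_pCore (G := G) p)
    exact CfsgLib.le_pPrimeCore (by
      rw [he]
      exact Nat.Coprime.pow_left e ((Nat.coprime_primes Fact.out Fact.out).2 hpq))
  haveI hQbn : Qb.Normal := by
    have : (pCore p G ⊔ (Q : Subgroup G)).map f = Qb := by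
      rw [Subgroup.map_sup, show (pCore p G).map f = ⊥ from by
        rw [Subgroup.map_eq_bot_iff, hf, QuotientGroup.ker_mk']; exact hcore, bot_sup_eq]
    rw [← this]
    exact hnQ.map f hsurj
  haveI habb : IsMulCommutative Qb := ⟨⟨fun ⟨_, a, ha, rfl⟩ ⟨_, b, hb, rfl⟩ => Subtype.ext (by
    show f a * f b = f b * f a
    rw [← map_mul, ← map_mul]
    exact congrArg f (congrArg Subtype.val (habQ.1.1 ⟨a, ha⟩ ⟨b, hb⟩)))⟩⟩
  -- the Sylow subgroup is self-centralising
  set C := Subgroup.centralizer (Qb : Set (G ⧸ pPrimeCore q G)) with hC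
  haveI : C.Normal := by rw [hC]; infer_instance
  have hQC : Qb ≤ C := fun a ha => Subgroup.mem_centralizer_iff.2 fun b hb =>
    congrArg Subtype.val (habb.1.1 ⟨b, hb⟩ ⟨a, ha⟩)
  have hCQ : ∀ c ∈ C, ¬ q ∣ orderOf c → c = 1 := by
    obtain ⟨e, he⟩ := IsPGroup.iff_card.1 hQbp
    haveI : (Qb.subgroupOf C).Normal := inferInstance
    have hcard : Nat.card (Qb.subgroupOf C) = q ^ e := by
      rw [Nat.card_congr (Subgroup.subgroupOfEquivOfLe hQC).toEquiv, he]
    have hrel : ¬ q ∣ (Qb.subgroupOf C).index := fun hd =>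
      hidx (hd.trans (Subgroup.relIndex_dvd_index_of_le hQC))
    obtain ⟨K, hK⟩ := Subgroup.exists_right_complement'_of_coprime (N := Qb.subgroupOf C) (by
      rw [hcard]
      exact Nat.Coprime.pow_left e (((Fact.out : q.Prime).coprime_iff_not_dvd).2 hrel))
    haveI hKn : K.Normal := ⟨fun n hn g => by
      obtain ⟨⟨⟨u, hu⟩, ⟨m, hm⟩⟩, e⟩ := hK.2 g
      have e' : u * m = g := e
      rw [← e', show u * m * n * (u * m)⁻¹ = u * (m * n * m⁻¹) * u⁻¹ by group]
      have hc : u * (m * n * m⁻¹) = (m * n * m⁻¹) * u := Subtype.ext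
        (Subgroup.mem_centralizer_iff.1 (m * n * m⁻¹).2 _ hu)
      rw [hc, mul_inv_cancel_right]
      exact mul_mem (mul_mem hm hn) (inv_mem hm)⟩
    have hKcop : (Nat.card K).Coprime q := by
      rw [← hK.symm.index_eq_card]
      exact (((Fact.out : q.Prime).coprime_iff_not_dvd).2 hrel).symm
    have hKbot : K = ⊥ := by
      have h1 : K ≤ pPrimeCore q C := CfsgLib.le_pPrimeCore hKcop
      haveI := CfsgLib.pPrimeCore_characteristic (G := C) q
      have h2 : (pPrimeCore q C).map C.subtype ≤ pPrimeCore q (G ⧸ pPrimeCore q G) := by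
        haveI : ((pPrimeCore q C).map C.subtype).Normal :=
          ConjAct.normal_of_characteristic_of_normal
        exact CfsgLib.le_pPrimeCore (by
          rw [Subgroup.card_map_of_injective C.subtype_injective]
          exact CfsgLib.card_pPrimeCore_coprime q)
      rw [CfsgLib.pPrimeCore_quotient_eq_bot] at h2
      rw [eq_bot_iff]
      exact h1.trans (le_of_eq ((Subgroup.map_eq_bot_iff_of_injective _ C.subtype_injective).1
        (le_bot_iff.1 h2)))
    have htop : Qb.subgroupOf C = ⊤ := by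
      have := hK.sup_eq_top
      rwa [hKbot, sup_bot_eq] at this
    intro c hc hord
    have hcQ : c ∈ Qb := Subgroup.mem_subgroupOf.1 (htop ▸ Subgroup.mem_top (⟨c, hc⟩ : C))
    obtain ⟨l, hl⟩ := IsPGroup.iff_orderOf.1 hQbp ⟨c, hcQ⟩
    rw [← Subgroup.orderOf_coe] at hl
    simp only at hl
    rcases Nat.eq_zero_or_pos l with rfl | hl0
    · rw [pow_zero, orderOf_eq_one_iff] at hl; exact hl
    · exact absurd (hl ▸ dvd_pow_self q hl0.ne') hord
  -- the action on the elements of order `q`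
  let V : Subgroup (G ⧸ pPrimeCore q G) :=
    { carrier := {x | x ∈ Qb ∧ x ^ q = 1}
      one_mem' := ⟨Qb.one_mem, one_pow q⟩
      mul_mem' := fun {a b} ha hb => ⟨Qb.mul_mem ha.1 hb.1, by
        rw [(show Commute a b from congrArg Subtype.val
          (habb.1.1 ⟨a, ha.1⟩ ⟨b, hb.1⟩)).mul_pow, ha.2, hb.2, one_mul]⟩
      inv_mem' := fun {a} ha => ⟨Qb.inv_mem ha.1, by rw [inv_pow, ha.2, inv_one]⟩ }
  haveI : V.Normal := ⟨fun x hx g => ⟨hQbn.conj_mem x hx.1 g, by rw [conj_pow, hx.2]; group⟩⟩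
  letI : CommGroup V :=
    { (inferInstance : Group V) with
      mul_comm := fun a b => Subtype.ext
        (congrArg Subtype.val (habb.1.1 ⟨a, a.2.1⟩ ⟨b, b.2.1⟩) :) }
  have hq0 : ∀ x : Additive V, q • x = 0 := fun x => by
    apply Additive.toMul.injective
    rw [toMul_nsmul, toMul_zero]
    exact Subtype.ext x.toMul.2.2
  let conjHom : (G ⧸ pPrimeCore q G) →* AddMonoid.End (Additive V) :=
    { toFun := fun g =>
        { toFun := fun x => Additive.ofMul (⟨g * ((x.toMul : V) : G ⧸ pPrimeCore q G) * g⁻¹,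
            (inferInstance : V.Normal).conj_mem _ x.toMul.2 g⟩ : V)
          map_zero' := by
            apply Additive.toMul.injective
            refine Subtype.ext ?_
            simp
          map_add' := fun x y => by
            apply Additive.toMul.injective
            refine Subtype.ext ?_
            simp [mul_assoc] }
      map_one' := AddMonoidHom.ext fun x => by
        apply Additive.toMul.injective
        refine Subtype.ext ?_
        show (1 : G ⧸ pPrimeCore q G) * ((x.toMul : V) : G ⧸ pPrimeCore q G) * (1 : G ⧸ pPrimeCore q G)⁻¹ =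
          ((x.toMul : V) : G ⧸ pPrimeCore q G)
        simp
      map_mul' := fun a b => AddMonoidHom.ext fun x => by
        apply Additive.toMul.injective
        refine Subtype.ext ?_
        show a * b * ((x.toMul : V) : G ⧸ pPrimeCore q G) * (a * b)⁻¹ =
          a * (b * ((x.toMul : V) : G ⧸ pPrimeCore q G) * b⁻¹) * a⁻¹
        group }
  have hval : ∀ (g : G ⧸ pPrimeCore q G) (x : Additive V), (conjHom g x = x ↔
      g * ((x.toMul : V) : G ⧸ pPrimeCore q G) * g⁻¹ = ((x.toMul : V) : G ⧸ pPrimeCore q G)) :=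
    fun g x => ⟨fun e => congrArg (fun z : Additive V => ((z.toMul : V) : G ⧸ pPrimeCore q G)) e,
      fun e => Additive.toMul.injective (Subtype.ext e)⟩
  haveI : Finite (Additive V) := Finite.of_equiv V Additive.ofMul
  -- the kernel
  let K : Subgroup (G ⧸ pPrimeCore q G) := Subgroup.centralizer (V : Set (G ⧸ pPrimeCore q G))
  haveI : K.Normal := by show (Subgroup.centralizer _).Normal; infer_instance
  have hKQ : K ≤ Qb := by
    have hpK : IsPGroup q K := by
      intro k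
      obtain ⟨z, w, hzw, -, ⟨l, hl⟩, hw, hzk, hwk⟩ :=
        CfsgLib.Blocks.exists_pPart (Fact.out : q.Prime) (k : G ⧸ pPrimeCore q G)
      have hwker : w ∈ K := (Subgroup.zpowers_le.2 k.2) hwk
      have hwC : w ∈ C := by
        rw [hC, Subgroup.mem_centralizer_iff]
        intro y hy
        obtain ⟨m, hm⟩ := hQbp ⟨y, hy⟩
        have := fixes_of_fixes_omega hQbp hQbn habb hw (fun v hv hvq => by
          have e := Subgroup.mem_centralizer_iff.1 hwker v ⟨hv, hvq⟩
          rw [← e, mul_inv_cancel_right]) m y hy (congrArg Subtype.val hm)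
        exact (mul_inv_eq_iff_eq_mul.1 this).symm
      have hw1 := hCQ w hwC hw
      rw [hw1, mul_one] at hzw
      refine ⟨l, Subtype.ext ?_⟩
      show (k : G ⧸ pPrimeCore q G) ^ q ^ l = 1
      rw [← hzw, ← hl, pow_orderOf_eq_one]
    have h1 : K ≤ pCore q (G ⧸ pPrimeCore q G) := CfsgLib.le_pCore hpK
    exact h1.trans (CfsgLib.pCore_le_sylow (hQbp.toSylow hidx))
  have hQK : Qb ≤ K := fun g hg => Subgroup.mem_centralizer_iff.2 fun v hv =>
    congrArg Subtype.val (habb.1.1 ⟨v, hv.1⟩ ⟨g, hg⟩)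
  have hKe : K = Qb := le_antisymm hKQ hQK
  haveI hsolq := solvable_of_action hq0 conjHom (p := p) (fun x => by
      obtain ⟨u, hu, hux⟩ := x.toMul.2.1
      obtain ⟨l, hl⟩ := IsPGroup.iff_orderOf.1 Q.2 ⟨u, hu⟩
      rw [← Subgroup.orderOf_coe] at hl
      obtain ⟨a, ha⟩ := h u ⟨l, hl⟩
      have hdv := CfsgLib.Kazarin.index_map_dvd_of_surjective f hsurj u
      rw [show (Subgroup.centralizer ({u} : Set G)).index = p ^ a from ha] at hdv
      obtain ⟨b, -, hb⟩ := (Nat.dvd_prime_pow (Fact.out : p.Prime)).1 hdv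
      refine ⟨cz (f u), fun g => ?_, b, hb⟩
      rw [hval, mem_cz_iff_conj, hux]) K (fun g => by
      rw [Subgroup.mem_centralizer_iff]
      constructor
      · intro hg x
        rw [hval, ← hg _ x.toMul.2, mul_inv_cancel_right]
      · intro hg v hv
        exact (mul_inv_eq_iff_eq_mul.1 ((hval g (Additive.ofMul ⟨v, hv⟩)).1 (hg _))).symm)
    (by rw [hKe]; exact hidx)
  haveI : Group.IsSolvable K := Group.isSolvable_of_comm fun a b =>
    Subtype.ext (congrArg Subtype.val (habb.1.1 ⟨a, hKQ a.2⟩ ⟨b, hKQ b.2⟩) :)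
  exact (Group.isSolvable_iff_subgroup_quotient K).mpr ⟨inferInstance, hsolq⟩

end CfsgLib.QBaer
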