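import Mathlib

/-!
Arithmetic end game of Brauer's order formula for semidihedral Sylow 2-subgroups, used for S0484.
`q = p ^ n = 3 mod 4`, `N` is the (odd) index of the centraliser of an involution, `B` and `C` the two
degrees of the principal block.  No regularity is assumed: the two theorems leave `q^2 + q + 1`, the
`M11` series, and kill the case of a trivial intersection Sylow `p`-subgroup.
-/

namespace Cfsg.Agent.QDArith

/-- If `e ^ 2 ∣ a ^ 3 * (c * e - a)` then `e ∣ a ^ 2`. -/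
lemma dvd_sq_of_dvd {e a c : ℤ} (he : e ≠ 0) (h : e ^ 2 ∣ a ^ 3 * (c * e - a)) : e ∣ a ^ 2 := by
  obtain ⟨g, hg, e1, a1, hco, he1, ha1⟩ :
      ∃ g : ℤ, g ≠ 0 ∧ ∃ e1 a1 : ℤ, IsCoprime e1 a1 ∧ e = e1 * g ∧ a = a1 * g := by
    have hg : 0 < Int.gcd e a := Int.gcd_pos_of_ne_zero_left a he
    obtain ⟨e1, a1, h1, he1, ha1⟩ := Int.exists_gcd_one hg
    exact ⟨(Int.gcd e a : ℤ), by omega, e1, a1, Int.isCoprime_iff_gcd_eq_one.mpr h1, he1, ha1⟩
  subst he1 ha1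
  have h2 : e1 ^ 2 ∣ g ^ 2 * (a1 ^ 3 * (c * e1 - a1)) := by
    refine Int.dvd_of_mul_dvd_mul_left (pow_ne_zero 2 hg) ?_
    rw [show g ^ 2 * e1 ^ 2 = (e1 * g) ^ 2 by ring,
      show g ^ 2 * (g ^ 2 * (a1 ^ 3 * (c * e1 - a1))) = (a1 * g) ^ 3 * (c * (e1 * g) - a1 * g) by
        ring]
    exact h
  have h3 : IsCoprime (e1 ^ 2) (a1 ^ 3 * (c * e1 - a1)) := by
    refine IsCoprime.mul_right (hco.pow) ?_
    have : IsCoprime e1 (c * e1 - a1) := by
      rw [show c * e1 - a1 = -a1 + e1 * c by ring]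
      exact hco.neg_right.add_mul_left_right c
    exact this.pow_left
  have h4 : e1 ∣ g := (Int.pow_dvd_pow_iff (by norm_num : (2 : ℕ) ≠ 0)).mp (h3.dvd_of_dvd_mul_right h2)
  obtain ⟨t, rfl⟩ := h4
  exact ⟨a1 ^ 2 * t, by ring⟩

/-- The common reduced equation: `N e^2 = c a^3 (k e - a)` gives a factorisation `e g = a^2`. -/
lemma reduce {N e a k c : ℤ} (he : e ≠ 0) (ha : a ≠ 0) (hc : IsCoprime e c)
    (h : N * e ^ 2 = c * (a ^ 3 * (k * e - a))) :
    ∃ g : ℤ, e * g = a ^ 2 ∧ N = c * g * (k * a - g) := by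
  obtain ⟨g, hg⟩ := dvd_sq_of_dvd he
    (hc.pow_left.dvd_of_dvd_mul_left ⟨N, by rw [← h]; ring⟩)
  refine ⟨g, hg.symm, ?_⟩
  have h2 : (a * e ^ 2) * N = (a * e ^ 2) * (c * g * (k * a - g)) := by
    calc (a * e ^ 2) * N = a * (N * e ^ 2) := by ring
      _ = c * ((a ^ 2) ^ 2 * (k * e - a)) := by rw [h]; ring
      _ = c * ((e * g) ^ 2 * (k * e - a)) := by rw [hg]
      _ = c * (e ^ 2 * g * (k * (e * g) - g * a)) := by ring
      _ = (a * e ^ 2) * (c * g * (k * a - g)) := by rw [← hg]; ring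
  exact mul_left_cancel₀ (mul_ne_zero ha (pow_ne_zero 2 he)) h2

variable {p n : ℕ}

lemma val_eq {N k : ℕ} {u w : ℤ} (hp : p.Prime) (hu : ¬ (p : ℤ) ∣ u) (hw : ¬ (p : ℤ) ∣ w)
    (h : (N : ℤ) * u = (p : ℤ) ^ k * w) : padicValNat p N = k := by
  have : Fact p.Prime := ⟨hp⟩
  have hP : Prime (p : ℤ) := Nat.prime_iff_prime_int.mp hp
  have h1 : (p : ℤ) ^ k ∣ (N : ℤ) :=
    (hP.pow_dvd_of_dvd_mul_right k hu ⟨w, h⟩)
  obtain ⟨m, hm⟩ := h1
  have h2 : m * u = w := by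
    rw [hm, mul_assoc] at h
    exact mul_left_cancel₀ (pow_ne_zero k hP.ne_zero) h
  have hm' : ¬ (p : ℤ) ∣ m := fun hd => hw (h2 ▸ hd.mul_right u)
  have hN0 : N ≠ 0 := by
    rintro rfl
    rcases mul_eq_zero.mp hm.symm with h0 | h0
    · exact pow_ne_zero k hP.ne_zero h0
    · exact hm' (h0 ▸ dvd_zero _)
  have d1 : p ^ k ∣ N := Int.natCast_dvd_natCast.mp (by push_cast; exact ⟨m, hm⟩)
  have d2 : ¬ p ^ (k + 1) ∣ N := by
    intro hd
    have hd' : (p : ℤ) ^ (k + 1) ∣ (N : ℤ) := by exact_mod_cast hd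
    rw [hm, pow_succ] at hd'
    exact hm' ((mul_dvd_mul_iff_left (pow_ne_zero k hP.ne_zero)).mp hd')
  rw [padicValNat_dvd_iff k N] at d1
  rw [padicValNat_dvd_iff (k + 1) N] at d2
  omega

/-- The three possibilities left by the order formula. -/
theorem qd_cases {q N : ℕ} {B C : ℤ} (hp : p.Prime) (hq : q = p ^ n) (hq4 : q % 4 = 3)
    (h7 : 7 ≤ q) (hN : Odd N)
    (hv : padicValNat p N = 0 ∨ padicValNat p N = n ∨ padicValNat p N = 2 * n)
    (hC : C * ((q : ℤ) ^ 2 - B) = (q : ℤ) ^ 2 * (B - 1))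
    (heq : (N : ℤ) * (B + q) ^ 2 = q * ((q : ℤ) + 1) ^ 3 * B * (B - 1)) :
    (B = (q : ℤ) ^ 2 + q + 1 ∧ N = q ^ 2 * (q ^ 2 + q + 1)) ∨
    (B = (q : ℤ) ^ 2 * (q + 2) ∧ (N : ℤ) = q * ((q : ℤ) + 2) * ((q : ℤ) ^ 2 + q - 1)) ∨
    (¬ p ∣ N ∧ ∃ d e g : ℤ, B = q * (q + d) ∧ e = q + 1 + d ∧ e * g = ((q : ℤ) + 1) ^ 2 ∧
      d ∣ (q : ℤ) ^ 2 - 1 ∧ (N : ℤ) = (e - 1) * g * (q * ((q : ℤ) + 1) - g)) := by
  have hP : Prime (p : ℤ) := Nat.prime_iff_prime_int.mp hp
  set Q : ℤ := (q : ℤ) with hQ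
  have hQ7 : 7 ≤ Q := by omega
  have hQp : Q = (p : ℤ) ^ n := by simp [hQ, hq]
  have hn : n ≠ 0 := by rintro rfl; simp at hq; omega
  have hpQ : (p : ℤ) ∣ Q := hQp ▸ dvd_pow_self _ hn
  have hNodd : Odd (N : ℤ) := by exact_mod_cast hN
  have hN0 : (N : ℤ) ≠ 0 := fun h => by rw [h] at hNodd; exact by simp at hNodd
  have hB0 : B ≠ 0 := by
    rintro rfl
    simp at heq
    rcases heq with h | h <;> omega
  have hB1 : B ≠ 1 := by
    rintro rfl
    simp at heq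
    rcases heq with h | h <;> omega
  have hpQ1 : ¬ (p : ℤ) ∣ Q + 1 := fun h => hP.not_dvd_one ((Int.dvd_add_right hpQ).mp h)
  have hp1 : ∀ {x : ℤ}, (p : ℤ) ∣ x → ¬ (p : ℤ) ∣ x - 1 := fun {x} hx h =>
    hP.not_dvd_one (by simpa using dvd_sub hx h)
  have hpm : ∀ {x y z : ℤ}, ¬ (p : ℤ) ∣ x → ¬ (p : ℤ) ∣ y → z = x * y → ¬ (p : ℤ) ∣ z :=
    fun {x y z} hx hy hz h => (hP.dvd_or_dvd (hz ▸ h)).elim hx hy
  obtain ⟨D, rfl⟩ : ∃ D, B = Q ^ 2 + D := ⟨B - Q ^ 2, by ring⟩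
  have hD : D ≠ 0 := by
    rintro rfl
    have : Q ^ 2 * (Q ^ 2 - 1) = 0 := by linear_combination (norm := ring_nf) -hC
    rcases mul_eq_zero.mp this with h | h <;> nlinarith
  have hDdvd : D ∣ Q ^ 2 * (Q ^ 2 - 1) := ⟨-C - Q ^ 2, by linear_combination -hC⟩
  obtain ⟨i, d, hd, rfl⟩ := (Int.finiteMultiplicity_iff.mpr
    ⟨by simpa using hp.ne_one, hD⟩ : FiniteMultiplicity (p : ℤ) D).exists_eq_pow_mul_and_not_dvd
    |> fun ⟨c, hc1, hc2⟩ => (⟨multiplicity (p : ℤ) D, c, hc2, hc1⟩ :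
      ∃ i c, ¬ (p : ℤ) ∣ c ∧ D = (p : ℤ) ^ i * c)
  have hd2 : d ∣ Q ^ 2 - 1 := by
    have : IsCoprime d (Q ^ 2) := by
      rw [hQp, ← pow_mul]
      exact ((hP.coprime_iff_not_dvd.mpr hd).symm).pow_right
    exact this.dvd_of_dvd_mul_left (dvd_trans (dvd_mul_left d _) hDdvd)
  have hi : i ≤ 2 * n := by
    by_contra hi
    have h1 : (p : ℤ) ^ (2 * n + 1) ∣ Q ^ 2 * (Q ^ 2 - 1) :=
      dvd_trans (Dvd.dvd.mul_right (pow_dvd_pow _ (by omega)) d) hDdvd
    rw [pow_succ, hQp, ← pow_mul, mul_comm n 2] at h1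
    have h2 := (mul_dvd_mul_iff_left (pow_ne_zero _ hP.ne_zero)).mp h1
    rw [mul_comm 2 n, pow_mul, ← hQp] at h2
    exact hp1 (dvd_pow hpQ two_ne_zero) h2
  rcases Nat.eq_zero_or_pos i with rfl | hi0
  · -- `p` does not divide `D`
    left
    simp only [pow_zero, one_mul] at *
    have hf : (Q ^ 2 + d + Q) ≠ 0 := fun h =>
      hd ((Int.dvd_add_right (dvd_pow hpQ two_ne_zero)).mp (by
        have : Q ^ 2 + d = -Q := by linarith
        rw [this]; exact hpQ.neg_right))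
    have hco : IsCoprime (Q ^ 2 + d + Q) (Q * (Q ^ 2 + d)) := by
      have h1 : IsCoprime (Q ^ 2 + d + Q) Q := by
        have : IsCoprime d Q := by
          rw [hQp]; exact (hP.coprime_iff_not_dvd.mpr hd).symm.pow_right
        rw [show Q ^ 2 + d + Q = d + (Q + 1) * Q by ring]
        exact this.add_mul_right_left (Q + 1)
      refine h1.mul_right ?_
      have := (h1.neg_right).add_mul_left_right 1
      rwa [show -Q + (Q ^ 2 + d + Q) * 1 = Q ^ 2 + d by ring] at this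
    obtain ⟨g, hg, hNg⟩ := reduce (N := (N : ℤ)) (a := Q + 1) (k := 1)
      hf (by omega) hco (by rw [heq]; ring)
    have hgodd : Odd g := by
      rw [hNg] at hNodd
      exact (Int.odd_mul.mp (Int.odd_mul.mp hNodd).1).2
    have hg0 : g ≠ 0 := fun h => hN0 (by rw [hNg, h]; ring)
    obtain ⟨m, hm⟩ := hd2
    have hkey : g * (Q - 1) = m * (Q + 1 - Q * g) := by
      apply mul_left_cancel₀ (show Q + 1 ≠ 0 by omega)
      linear_combination g * hm + m * hg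
    have hg1 : g = 1 := by
      rcases lt_trichotomy g 0 with hneg | h | hpos
      · rcases lt_or_ge m 0 with hm0 | hm0
        · have : 0 < Q + 1 - Q * g := by nlinarith
          nlinarith
        · have : 0 ≤ m * (Q + 1 - Q * g) := mul_nonneg hm0 (by nlinarith)
          nlinarith
      · exact absurd h hg0
      · by_contra hne
        have h2 : 3 ≤ g := by obtain ⟨t, ht⟩ := hgodd; omega
        have hw : 0 < Q * g - Q - 1 := by nlinarith
        rcases lt_trichotomy m (-1) with hm1 | hm1 | hm1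
        · nlinarith
        · subst hm1
          have : g = Q + 1 := by linarith
          rw [this] at hgodd
          obtain ⟨t, ht⟩ := hgodd
          omega
        · rcases lt_or_eq_of_le (show (0 : ℤ) ≤ m by omega) with h | h
          · nlinarith
          · subst h; nlinarith
    subst hg1
    have hd1 : d = Q + 1 := by linarith
    refine ⟨by rw [hd1]; ring, ?_⟩
    have : (N : ℤ) = Q ^ 2 * (Q ^ 2 + Q + 1) := by rw [hNg, hd1]; ring
    rw [hQ] at this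
    exact_mod_cast this
  rcases lt_or_ge i n with hlt | hge
  · exfalso
    obtain ⟨k, rfl⟩ := Nat.exists_eq_add_of_lt hlt
    set P : ℤ := (p : ℤ) ^ (k + 1) with hPk
    have hQ' : Q = (p : ℤ) ^ i * P := by rw [hQp, hPk, ← pow_add, add_assoc]
    have hpP : (p : ℤ) ∣ P := dvd_pow_self _ (by omega)
    have h1 : ¬ (p : ℤ) ∣ (Q + 1) * P + d := fun h =>
      hd ((Int.dvd_add_right (hpP.mul_left _)).mp h)
    have h2 : ¬ (p : ℤ) ∣ Q * P + d := fun h => hd ((Int.dvd_add_right (hpP.mul_left _)).mp h)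
    have h3 : ¬ (p : ℤ) ∣ Q ^ 2 + (p : ℤ) ^ i * d - 1 :=
      hp1 (dvd_add (dvd_pow hpQ two_ne_zero) (Dvd.dvd.mul_right (dvd_pow_self _ (by omega)) d))
    have h4 : padicValNat p N = k + 1 := by
      refine val_eq hp (hpm h1 h1 rfl)
        (hpm (hpm (fun h => hpQ1 (hP.dvd_of_dvd_pow h)) h2 rfl) h3 rfl :
          ¬ (p : ℤ) ∣ (Q + 1) ^ 3 * (Q * P + d) * (Q ^ 2 + (p : ℤ) ^ i * d - 1)) ?_
      apply mul_left_cancel₀ (pow_ne_zero 2 (pow_ne_zero i hP.ne_zero))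
      rw [← hPk]
      rw [hQ'] at heq ⊢
      linear_combination heq
    omega
  rcases eq_or_lt_of_le hge with heqi | hgt
  · -- `i = n`
    subst heqi
    right; right
    rw [← hQp] at heq
    have h1 : ¬ (p : ℤ) ∣ Q + d := fun h => hd ((Int.dvd_add_right hpQ).mp h)
    have h3 : ¬ (p : ℤ) ∣ Q ^ 2 + Q * d - 1 :=
      hp1 (dvd_add (dvd_pow hpQ two_ne_zero) (hpQ.mul_right d))
    have hR : (N : ℤ) * (Q + 1 + d) ^ 2 =
        (Q + d) * ((Q + 1) ^ 3 * (Q * (Q + 1 + d) - (Q + 1))) := by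
      apply mul_left_cancel₀ (show Q ^ 2 ≠ 0 by positivity)
      linear_combination heq
    have hp0 : ¬ (p : ℤ) ∣ (N : ℤ) * (Q + 1 + d) ^ 2 :=
      hpm h1 (hpm (x := (Q + 1) ^ 3) (fun h => hpQ1 (hP.dvd_of_dvd_pow h)) h3 (by ring)) hR
    have he : Q + 1 + d ≠ 0 := fun h => hp0 (by simp [h])
    have hco : IsCoprime (Q + 1 + d) (Q + d) := ⟨1, -1, by ring⟩
    obtain ⟨g, hg, hNg⟩ := reduce he (by omega) hco hR
    exact ⟨fun h => hp0 (Dvd.dvd.mul_right (by exact_mod_cast h) _),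
      d, Q + 1 + d, g, by rw [← hQp]; ring, rfl, hg, hd2, by rw [hNg]; ring⟩
  obtain ⟨k, rfl⟩ := Nat.exists_eq_add_of_lt hgt
  rcases lt_or_eq_of_le hi with hlt2 | heq2
  · exfalso
    set P : ℤ := (p : ℤ) ^ (k + 1) with hPk
    have hD' : (p : ℤ) ^ (n + k + 1) = Q * P := by rw [hQp, hPk, ← pow_add, add_assoc]
    rw [hD'] at heq
    obtain ⟨l, hl⟩ := Nat.exists_eq_add_of_lt (show k + 1 < n by omega)
    set R : ℤ := (p : ℤ) ^ (l + 1) with hRl
    have hQR : Q = P * R := by rw [hQp, hPk, hRl, ← pow_add]; congr 1 <;> omega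
    have hpP : (p : ℤ) ∣ P := dvd_pow_self _ (by omega)
    have hpR : (p : ℤ) ∣ R := dvd_pow_self _ (by omega)
    have h1 : ¬ (p : ℤ) ∣ Q + 1 + P * d := fun h =>
      hpQ1 ((Int.dvd_add_left (hpP.mul_right d)).mp h)
    have h2 : ¬ (p : ℤ) ∣ R + d := fun h => hd ((Int.dvd_add_right hpR).mp h)
    have h3 : ¬ (p : ℤ) ∣ Q ^ 2 + Q * P * d - 1 :=
      hp1 (dvd_add (dvd_pow hpQ two_ne_zero) ((hpQ.mul_right P).mul_right d))
    have h4 : padicValNat p N = k + 1 := by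
      refine val_eq hp (hpm h1 h1 rfl)
        (hpm (hpm (fun h => hpQ1 (hP.dvd_of_dvd_pow h)) h2 rfl) h3 rfl :
          ¬ (p : ℤ) ∣ (Q + 1) ^ 3 * (R + d) * (Q ^ 2 + Q * P * d - 1)) ?_
      apply mul_left_cancel₀ (show Q ^ 2 ≠ 0 by positivity)
      rw [← hPk]
      have e1 : Q ^ 2 + Q * P * d = Q * P * (R + d) := by rw [hQR]; ring
      have e2 : Q ^ 2 + Q * P * d - 1 = Q * P * (R + d) - 1 := by rw [e1]
      rw [e2]
      rw [e1] at heq
      linear_combination (norm := skip) heq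
      rw [hQR]; ring
    omega
  -- `i = 2 n`: the M11 series
  right; left
  have hD' : (p : ℤ) ^ (n + k + 1) = Q ^ 2 := by rw [heq2, hQp, ← pow_mul, mul_comm n 2]
  rw [hD'] at heq ⊢
  clear hD' heq2 hgt
  obtain ⟨u, rfl⟩ : ∃ u, d = u - 1 := ⟨d + 1, by ring⟩
  have hR : (N : ℤ) * (Q * u + 1) ^ 2 =
      (Q * u) * ((Q + 1) ^ 3 * (Q * (Q * u + 1) - (Q + 1))) := by
    apply mul_left_cancel₀ (show Q ^ 2 ≠ 0 by positivity)
    linear_combination heq
  have he : Q * u + 1 ≠ 0 := fun h => hP.not_dvd_one (by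
    have h' : (1 : ℤ) = -(Q * u) := by linarith
    rw [h']; exact (hpQ.mul_right u).neg_right)
  obtain ⟨g, hg, hNg⟩ := reduce he (by omega) ⟨1, -1, by ring⟩ hR
  have hgodd : Odd g := by
    rw [hNg] at hNodd
    exact (Int.odd_mul.mp (Int.odd_mul.mp hNodd).1).2
  have hu : u ≠ 0 := fun h => hN0 (by rw [hNg, h]; ring)
  obtain ⟨w, hw⟩ : ∃ w, g = 1 + w * Q := ⟨Q + 2 - u * g, by linear_combination hg⟩
  subst hw
  have hsum : (u * w - 1) * Q = 2 - u - w := by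
    apply mul_left_cancel₀ (show Q ≠ 0 by omega)
    linear_combination hg
  have hw0 : w = 0 := by
    by_contra hw0
    rcases lt_trichotomy (u * w) 1 with h | h | h
    · have h1 : u * w ≤ -1 := by
        have : u * w ≠ 0 := mul_ne_zero hu hw0
        omega
      have : u + w ≤ -(u * w) + 1 := by
        rcases lt_or_gt_of_ne hu with h' | h' <;> rcases lt_or_gt_of_ne hw0 with h'' | h'' <;>
          nlinarith
      nlinarith
    · rcases Int.mul_eq_one_iff_eq_one_or_neg_one.mp h with ⟨rfl, rfl⟩ | ⟨rfl, rfl⟩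
      · obtain ⟨t, ht⟩ := hgodd
        omega
      · norm_num at hsum
    · have : -(u * w + 1) ≤ u + w := by
        rcases lt_or_gt_of_ne hu with h' | h' <;> rcases lt_or_gt_of_ne hw0 with h'' | h'' <;>
          nlinarith
      nlinarith
  subst hw0
  have hu2 : u = Q + 2 := by linarith
  exact ⟨by rw [hu2]; ring, by rw [hNg, hu2]; ring⟩

/-- The case of a trivial intersection Sylow `p`-subgroup of order `q` does not occur.
`hS` is the Sylow congruence, `hL` the bound `v_r |G| ≤ 3 v_r (q + 1)`. -/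
theorem qd_ti_false {q N : ℕ} {d e g : ℤ} (hq4 : q % 4 = 3) (hN : Odd N)
    (he : e = (q : ℤ) + 1 + d) (heg : e * g = ((q : ℤ) + 1) ^ 2)
    (hd : d ∣ (q : ℤ) ^ 2 - 1)
    (hNeq : (N : ℤ) = (e - 1) * g * (q * ((q : ℤ) + 1) - g))
    (hS : (N : ℤ) ≡ 1 [ZMOD q])
    (hL : ∀ r : ℕ, r.Prime → r ≠ 2 → r ∣ q + 1 →
      padicValNat r N ≤ 2 * padicValNat r (q + 1)) : False := by
  set Q : ℤ := (q : ℤ) with hQ
  have hQ3 : 3 ≤ Q := by omega
  have hNodd : Odd (N : ℤ) := by exact_mod_cast hN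
  have hN0 : N ≠ 0 := fun h => by rw [h] at hN; simp at hN
  have hgodd : Odd g := by
    rw [hNeq] at hNodd
    exact (Int.odd_mul.mp (Int.odd_mul.mp hNodd).1).2
  have hg0 : g ≠ 0 := fun h => by subst h; simp at hgodd
  -- no prime power beyond the bound divides `N`
  have hbound : ∀ r : ℕ, r.Prime → r ≠ 2 → r ∣ q + 1 → ∀ k,
      (r : ℤ) ^ k ∣ (N : ℤ) → k ≤ 2 * padicValNat r (q + 1) := by
    intro r hr h2 hrd k hk
    have : Fact r.Prime := ⟨hr⟩
    have hk' : r ^ k ∣ N := by exact_mod_cast hk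
    rw [padicValNat_dvd_iff k N] at hk'
    exact (hk'.resolve_left hN0).trans (hL r hr h2 hrd)
  have hpd : ∀ r : ℕ, r.Prime → (r : ℤ) ^ padicValNat r (q + 1) ∣ Q + 1 := by
    intro r hr
    have : Fact r.Prime := ⟨hr⟩
    have h := Int.natCast_dvd_natCast.mpr (pow_padicValNat_dvd (p := r) (n := q + 1))
    push_cast at h
    exact h
  -- Step 1: `g` divides `q + 1`
  have hgdvd : g ∣ Q + 1 := by
    rw [← Int.natAbs_dvd_natAbs]
    have : (Q + 1).natAbs = q + 1 := by omega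
    rw [this, Nat.dvd_iff_prime_pow_dvd_dvd]
    intro r k hr hrk
    have : Fact r.Prime := ⟨hr⟩
    rw [padicValNat_dvd_iff k (q + 1)]
    right
    by_contra hk
    set α := padicValNat r (q + 1) with hα
    have hk1 : (r : ℤ) ^ (α + 1) ∣ g := by
      rw [← Int.natAbs_dvd_natAbs, Int.natAbs_pow, Int.natAbs_natCast]
      exact (pow_dvd_pow r (by omega)).trans hrk
    have hr2 : r ≠ 2 := by
      rintro rfl
      have : (2 : ℤ) ∣ g := (dvd_pow_self _ (by omega)).trans hk1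
      obtain ⟨t, ht⟩ := hgodd
      obtain ⟨s, hs⟩ := this
      omega
    have hrd : r ∣ q + 1 := by
      have h1 : (r : ℤ) ∣ (Q + 1) ^ 2 :=
        (dvd_pow_self _ (by omega)).trans (hk1.trans ⟨e, by rw [← heg]; ring⟩)
      have h2 : (r : ℤ) ∣ Q + 1 := (Nat.prime_iff_prime_int.mp hr).dvd_of_dvd_pow h1
      exact Int.natCast_dvd_natCast.mp (by push_cast; exact h2)
    have hN' : (r : ℤ) ^ (α + 1 + α) ∣ (N : ℤ) := by
      rw [hNeq, pow_add]
      exact mul_dvd_mul (hk1.mul_left _)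
        (dvd_sub ((hpd r hr).mul_left _) ((pow_dvd_pow _ (by omega)).trans hk1))
    have := hbound r hr hr2 hrd _ hN'
    omega
  obtain ⟨j, hj⟩ := hgdvd
  have hej : e = (Q + 1) * j := by
    apply mul_right_cancel₀ hg0
    rw [heg, hj]; ring
  -- Step 2: `g` is prime to `j + 1`
  have hcop : Int.gcd g (j + 1) = 1 := by
    by_contra hne
    obtain ⟨r, hr, hrd⟩ := Nat.exists_prime_and_dvd hne
    have hrg : (r : ℤ) ∣ g := dvd_trans (by exact_mod_cast hrd) (Int.gcd_dvd_left g (j + 1))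
    have hrj : (r : ℤ) ∣ j + 1 := dvd_trans (by exact_mod_cast hrd) (Int.gcd_dvd_right g (j + 1))
    have hR : Prime (r : ℤ) := Nat.prime_iff_prime_int.mp hr
    have hrQ : (r : ℤ) ∣ Q + 1 := hj ▸ hrg.mul_right j
    have hrnj : ¬ (r : ℤ) ∣ j := fun h => hR.not_dvd_one ((Int.dvd_add_right h).mp hrj)
    have hr2 : r ≠ 2 := by
      rintro rfl
      obtain ⟨t, ht⟩ := hgodd
      obtain ⟨s, hs⟩ := hrg
      omega
    set α := padicValNat r (q + 1) with hα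
    have hαg : (r : ℤ) ^ α ∣ g := hR.pow_dvd_of_dvd_mul_right α hrnj (hj ▸ hpd r hr)
    have hN' : (r : ℤ) ^ (α + α + 1) ∣ (N : ℤ) := by
      have h3 : (N : ℤ) = (g * g * (Q * j - 1)) * (e - 1) := by rw [hNeq, hj]; ring
      rw [h3]
      refine Dvd.dvd.mul_right ?_ _
      rw [pow_succ, pow_add]
      refine mul_dvd_mul (mul_dvd_mul hαg hαg) ?_
      have h4 : Q * j - 1 = (Q + 1) * j - (j + 1) := by ring
      rw [h4]; exact dvd_sub (hrQ.mul_right j) hrj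
    have := hbound r hr hr2 (Int.natCast_dvd_natCast.mp (by push_cast; exact hrQ)) _ hN'
    omega
  -- Step 3: the two divisibilities
  obtain ⟨s0, hs0⟩ : (j - 1) ∣ g - 2 := by
    have h1 : (Q + 1) * (j - 1) ∣ (Q + 1) * (Q - 1) := by
      obtain ⟨t, ht⟩ := hd
      exact ⟨t, by linear_combination ht + (hej - he) * t⟩
    obtain ⟨t, ht⟩ := (mul_dvd_mul_iff_left (show Q + 1 ≠ 0 by omega)).mp h1
    exact ⟨t - g, by linear_combination ht - hj⟩
  obtain ⟨k, hk⟩ : Q ∣ j ^ 2 + j - 1 := by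
    obtain ⟨t, ht⟩ := (Int.modEq_iff_dvd.mp hS)
    -- `N = g^2 - g` modulo `Q`
    have h1 : Q ∣ g * g - g - 1 := by
      refine ⟨-t - ((Q + 1) * (e - 1) * g - g * (Q + 2)), ?_⟩
      linear_combination -ht - hNeq + g * heg
    obtain ⟨s, hs⟩ := h1
    exact ⟨Q + 2 - j - j ^ 2 * s, by linear_combination -j ^ 2 * hs - (g * j + (Q + 1) - j) * hj⟩
  -- Step 4: the end game
  obtain ⟨m, rfl⟩ : ∃ m, k = 1 + m * j :=
    ⟨k * g - j - 1, by linear_combination hk + k * hj⟩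
  have hj0 : j ≠ 0 := fun h => by subst h; simp at hj; omega
  have hm : j + 1 + m = g * (1 + m * j) := by
    apply mul_left_cancel₀ hj0
    linear_combination hk + (1 + m * j) * hj
  obtain ⟨s, rfl⟩ : ∃ s, m = (j - 1) * s :=
    ⟨1 - 2 * m - s0 * (1 + m * j), by linear_combination -hm - (1 + m * j) * hs0⟩
  have h4j : (4 : ℤ) ∣ j := by
    have h4 : (4 : ℤ) ∣ g * j := hj ▸ (by omega)
    have : IsCoprime (4 : ℤ) g := by
      obtain ⟨t, ht⟩ := hgodd
      exact ⟨t * (t + 1) * (-1), g, by rw [ht]; ring⟩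
    exact this.dvd_of_dvd_mul_left h4
  rcases eq_or_ne s 0 with rfl | hs
  · have hgj : g = j + 1 := by linarith
    rw [hgj, Int.gcd_self] at hcop
    omega
  · have h1 : |1 + (j - 1) * s * j| ≤ |j + 1 + (j - 1) * s| := by
      rw [hm, abs_mul]
      exact le_mul_of_one_le_left (abs_nonneg _) (Int.one_le_abs hg0)
    have h2 : |(j - 1) * s * j| ≤ |1 + (j - 1) * s * j| + 1 := by
      have := abs_sub (1 + (j - 1) * s * j) 1
      simpa using this
    have h3 : |j + 1 + (j - 1) * s| ≤ |j + 1| + |(j - 1) * s| := abs_add_le _ _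
    have h5 : |j + 1| ≤ |j| + 1 := by
      have := abs_add_le j 1; simpa using this
    have h6 : 4 ≤ |j| := Int.le_of_dvd (abs_pos.mpr hj0) ((dvd_abs 4 j).mpr h4j)
    have h7 : 3 ≤ |j - 1| := by
      have := abs_sub_abs_le_abs_sub j 1; simp at this; omega
    have h8 : |j| - 1 ≤ |(j - 1) * s| := by
      rw [abs_mul]
      have := abs_sub_abs_le_abs_sub j 1; simp at this
      nlinarith [Int.one_le_abs hs]
    have h9 : |(j - 1) * s * j| = |(j - 1) * s| * |j| := abs_mul _ _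
    nlinarith

/-- The Sylow congruence kills the `M11` series: `|G : N(Q)| ≡ -1` modulo `p`. -/
theorem m11_series_false {q np : ℕ} (hp : p.Prime) (hpq : p ∣ q) (h2 : p ≠ 2)
    (hnp : 2 * (np : ℤ) = ((q : ℤ) + 1) * ((q : ℤ) + 2) * ((q : ℤ) ^ 2 + q - 1))
    (hS : np ≡ 1 [MOD p]) : False := by
  have hq : (p : ℤ) ∣ (q : ℤ) := by exact_mod_cast hpq
  have h1 : (p : ℤ) ∣ 2 * (np : ℤ) + 2 := by
    rw [hnp]
    exact hq.trans ⟨(q : ℤ) ^ 3 + 4 * (q : ℤ) ^ 2 + 4 * q - 1, by ring⟩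
  have h3 : (p : ℤ) ∣ (np : ℤ) - 1 := by
    have := (Nat.modEq_iff_dvd.mp hS.symm)
    simpa using this
  have h4 : (p : ℤ) ∣ ((4 : ℕ) : ℤ) := by
    have := dvd_sub h1 (h3.mul_left 2)
    have e : 2 * (np : ℤ) + 2 - 2 * ((np : ℤ) - 1) = ((4 : ℕ) : ℤ) := by push_cast; ring
    rwa [e] at this
  have h5 : p ∣ 2 ^ 2 := by exact_mod_cast h4
  exact h2 ((Nat.prime_dvd_prime_iff_eq hp Nat.prime_two).mp (hp.dvd_of_dvd_pow h5))

end Cfsg.Agent.QDArith
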