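import Mathlib
import Cfsg.Agent.Lib.Large
import Cfsg.Agent.Lib.PResidual
import Cfsg.Prelude.Def_BaumannBlocks

/-!
`O^p` of subgroups, and of the weak closure of a weakly closed `p`-subgroup.
-/

set_option autoImplicit false
set_option linter.unusedVariables false

namespace CfsgLib.WeakResidual

open Cfsg CfsgLib
open scoped commutatorElement

variable {G : Type*} [Group G] [Finite G] {p : ℕ} [Fact p.Prime]

omit [Finite G] [Fact p.Prime] in
theorem res_le (W : Subgroup G) : pResidualOf p W ≤ W := Subgroup.map_subtype_le _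

theorem res_le_of_pow {W C : Subgroup G} (h : ∀ x ∈ pResidualOf p W, ∃ k : ℕ, x ^ p ^ k ∈ C) : pResidualOf p W ≤ C := by
  rw [pResidualOf, Subgroup.map_le_iff_le_comap]
  refine (Subgroup.closure_le _).2 fun g hg => ?_
  obtain ⟨k, hk⟩ := h g ⟨g, Subgroup.subset_closure hg, rfl⟩
  exact PResidual.mem_of_pow_mem (G := ↥W) (N := C.comap W.subtype) hg (k := k) (Subgroup.mem_comap.mpr (by rw [map_pow]; exact hk))

theorem exists_pow_mem {W : Subgroup G} {x : G} (hx : x ∈ W) : ∃ k : ℕ, x ^ p ^ k ∈ pResidualOf p W := by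
  obtain ⟨k, hk⟩ := PResidual.pow_mem_pResidual (p := p) (⟨x, hx⟩ : ↥W)
  exact ⟨k, ⟨_, hk, by simp⟩⟩

theorem res_mono {V W : Subgroup G} (h : V ≤ W) : pResidualOf p V ≤ pResidualOf p W :=
  res_le_of_pow fun x hx => exists_pow_mem (h (res_le V hx))

theorem normalizer_le (W : Subgroup G) :
    Subgroup.normalizer (W : Set G) ≤ Subgroup.normalizer (pResidualOf p W : Set G) := by
  intro g hg
  refine Local.mem_normalizer_of_map_conj_eq (Subgroup.eq_of_le_of_card_ge ?_
    (Subgroup.card_map_of_injective (MulEquiv.injective (MulAut.conj g))).ge)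
  rw [Subgroup.map_le_iff_le_comap]
  refine res_le_of_pow fun x hx => ?_
  have h1 : g * x * g⁻¹ ∈ W := (Subgroup.mem_normalizer_iff.mp hg x).mp (res_le W hx)
  obtain ⟨k, hk⟩ := exists_pow_mem (p := p) h1
  exact ⟨k, by rw [Subgroup.mem_comap, map_pow]; exact hk⟩

omit [Fact p.Prime] in
/-- A `p`-power of an element of `C P` lies in `C`. -/
theorem exists_pow_mem_of_mem_sup {C P : Subgroup G} (hPC : P ≤ Subgroup.normalizer (C : Set G)) (hP : IsPGroup p ↥P)
    {x : G} (hx : x ∈ C ⊔ P) : ∃ k : ℕ, x ^ p ^ k ∈ C := by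
  rw [← SetLike.mem_coe, Subgroup.coe_mul_of_right_le_normalizer_left C P hPC] at hx
  obtain ⟨c, hc, u, hu, rfl⟩ := hx
  have key : ∀ n : ℕ, ∃ d ∈ C, (c * u) ^ n = d * u ^ n := by
    intro n
    induction n with
    | zero => exact ⟨1, C.one_mem, by simp⟩
    | succ n ih =>
      obtain ⟨d, hd, e⟩ := ih
      refine ⟨d * (u ^ n * c * (u ^ n)⁻¹), C.mul_mem hd (Large.conj_mem hPC (P.pow_mem hu n) hc), ?_⟩
      rw [pow_succ, e, pow_succ]; group
  obtain ⟨i, hi⟩ := hP ⟨u, hu⟩
  obtain ⟨d, hd, e⟩ := key (p ^ i)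
  refine ⟨i, ?_⟩
  dsimp only
  rw [e, show u ^ p ^ i = 1 from congrArg Subtype.val hi, mul_one]
  exact hd

theorem res_le_of_le_sup {W C P : Subgroup G} (hPC : P ≤ Subgroup.normalizer (C : Set G)) (hP : IsPGroup p ↥P)
    (h : pResidualOf p W ≤ C ⊔ P) : pResidualOf p W ≤ C :=
  res_le_of_pow fun _ hx => exists_pow_mem_of_mem_sup hPC hP (h hx)

variable {Q : Subgroup G}

/-- The weak closure is `Q` times its `O^p`. -/
theorem weakClosure_le_sup (hwc : Large.PWC p Q) (hQp : IsPGroup p ↥Q) {L : Subgroup G} (hQL : Q ≤ L) :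
    weakClosure Q L ≤ Q ⊔ pResidualOf p (weakClosure Q L) := by
  set W := weakClosure Q L
  have hQW : Q ≤ W := Large.le_weakClosure hQL
  have hWR : W ≤ Subgroup.normalizer (pResidualOf p W : Set G) := Subgroup.le_normalizer.trans (normalizer_le W)
  refine iSup_le fun g => ?_
  obtain ⟨k, hk, e⟩ := Large.conj_of_pwc hwc hQp hQW (Large.conj_le_weakClosure g.2)
  rw [e]
  obtain ⟨T, hT⟩ := (hQp.comap_of_injective W.subtype W.subtype_injective).exists_le_sylow
  have hTp : IsPGroup p ↥((T : Subgroup ↥W).map W.subtype) := T.2.map _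
  have hTQ := Large.le_normalizer_of_pwc hwc hTp (fun q hq => ⟨⟨q, hQW hq⟩, hT hq, rfl⟩)
  haveI : (Cfsg.pResidual p ↥W).Normal := PResidual.pResidual_normal
  have hk' : (⟨k, hk⟩ : ↥W) ∈ Cfsg.pResidual p ↥W ⊔ (T : Subgroup ↥W) := by
    rw [sup_comm, PResidual.pResidual_sup_sylow]; exact Subgroup.mem_top _
  obtain ⟨r, hr, t, ht, ert⟩ := Subgroup.mem_sup_of_normal_left.1 hk'
  have hrt : k = (r : G) * t := congrArg Subtype.val ert.symm
  rw [hrt, ← Local.map_conj_mul, Local.map_conj_eq_of_mem_normalizer (hTQ (show (t : G) ∈ (T : Subgroup ↥W).map W.subtype from ⟨t, ht, rfl⟩))]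
  rintro _ ⟨q, hq, rfl⟩
  have hrR : (r : G) ∈ pResidualOf p W := ⟨r, hr, rfl⟩
  show (r : G) * q * (r : G)⁻¹ ∈ _
  rw [show (r : G) * q * (r : G)⁻¹ = (r * (q * (r : G)⁻¹ * q⁻¹)) * q by group]
  exact Subgroup.mul_mem _ (Subgroup.mem_sup_right (Subgroup.mul_mem _ hrR
    (Large.conj_mem hWR (hQW hq) ((pResidualOf p W).inv_mem hrR)))) (Subgroup.mem_sup_left hq)

/-- `O^p(W) = [O^p(W), Q]` for a weak closure `W` of `Q`. -/
theorem commutator_res (hwc : Large.PWC p Q) (hQp : IsPGroup p ↥Q) {L : Subgroup G} (hQL : Q ≤ L) :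
    ⁅pResidualOf p (weakClosure Q L), Q⁆ = pResidualOf p (weakClosure Q L) := by
  set W := weakClosure Q L with hW
  set K := pResidualOf p W
  set C := ⁅K, Q⁆
  have hQW : Q ≤ W := Large.le_weakClosure hQL
  have hWK : W ≤ Subgroup.normalizer (K : Set G) := Subgroup.le_normalizer.trans (normalizer_le W)
  have hCK : C ≤ K := Subgroup.commutator_le.mpr fun k hk q hq => by
    rw [commutatorElement_def, show k * q * k⁻¹ * q⁻¹ = k * (q * k⁻¹ * q⁻¹) by group]
    exact K.mul_mem hk (Large.conj_mem hWK (hQW hq) (K.inv_mem hk))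
  refine le_antisymm hCK (res_le_of_le_sup (P := Q) (Subgroup.normalizer_commutator_ge_right K Q) hQp ?_)
  intro x hx
  have hKN : K ≤ Subgroup.normalizer ((C ⊔ Q : Subgroup G) : Set G) := Large.le_normalizer_of fun k hk a ha => by
    have : C ⊔ Q ≤ (C ⊔ Q).comap (MulAut.conj k).toMonoidHom := sup_le
      (fun c hc => Subgroup.mem_sup_left (Large.conj_mem (Subgroup.normalizer_commutator_ge_left K Q) hk hc))
      (fun q hq => by
        show k * q * k⁻¹ ∈ (C ⊔ Q : Subgroup G)
        rw [show k * q * k⁻¹ = ⁅k, q⁆ * q by rw [commutatorElement_def]; group]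
        exact Subgroup.mul_mem _ (Subgroup.mem_sup_left (Subgroup.commutator_mem_commutator hk hq)) (Subgroup.mem_sup_right hq))
    exact this ha
  have hWsup : W ≤ Subgroup.normalizer ((C ⊔ Q : Subgroup G) : Set G) :=
    (weakClosure_le_sup hwc hQp hQL).trans (sup_le (le_sup_right.trans Subgroup.le_normalizer) hKN)
  have hWle : W ≤ C ⊔ Q := iSup_le fun g => by
    obtain ⟨k, hk, e⟩ := Large.conj_of_pwc hwc hQp hQW (Large.conj_le_weakClosure g.2)
    rw [e]
    exact Local.map_conj_le fun q hq => Large.conj_mem hWsup hk (Subgroup.mem_sup_right hq)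
  exact hWle (res_le W hx)

theorem le_normalizer_weakClosure {L : Subgroup G} : L ≤ Subgroup.normalizer (weakClosure Q L : Set G) := by
  intro l hl
  refine Local.mem_normalizer_of_map_conj_eq (Subgroup.eq_of_le_of_card_ge ?_
    (Subgroup.card_map_of_injective (MulEquiv.injective (MulAut.conj l))).ge)
  rw [weakClosure, Subgroup.map_iSup]
  refine iSup_le fun g => ?_
  rw [Local.map_conj_mul]
  refine Large.conj_le_weakClosure ?_
  rw [← Local.map_conj_mul]
  exact Local.map_conj_le fun x hx => L.mul_mem (L.mul_mem hl (g.2 hx)) (L.inv_mem hl)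

end CfsgLib.WeakResidual
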