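import Mathlib
import Cfsg.Agent.Lib.Elementary
import Cfsg.Agent.Lib.RankFrattini

/-!
Two-groups of order at least `2 ^ 14` whose fourth centre has order 16, with the centralizer `W` of
the third centre having small Frattini subgroup: the basic shape.
-/

set_option autoImplicit false

namespace CfsgLib.RudvalisW

open Subgroup
open scoped commutatorElement

variable {T : Type*} [Group T]

/-- The standing hypotheses on the group and the centralizer of its third centre. -/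
structure Hyp (W : Subgroup T) : Prop where
  pg : IsPGroup 2 T
  big : 2 ^ 14 ≤ Nat.card T
  z4 : Nat.card ↥(Subgroup.upperCentralSeries T 4) = 16
  cent : W = Subgroup.centralizer ((Subgroup.upperCentralSeries T 3 : Subgroup T) : Set T)
  small : Nat.card ↥(frattini ↥W) ≤ 8
  key : ∀ U : Subgroup ↥W, U.index ≤ 16 → frattini ↥W ≤ U

local notation "Z" => Subgroup.upperCentralSeries T

open Classical in
/-- The indicator of the complement of a subgroup. -/
noncomputable def ind (H : Subgroup T) (x : T) : ZMod 2 := if x ∈ H then 0 else 1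

theorem ind_eq_zero {H : Subgroup T} {x : T} : ind H x = 0 ↔ x ∈ H := by
  unfold ind; split <;> simp_all

theorem ind_of_not {H : Subgroup T} {x : T} (h : x ∉ H) : ind H x = 1 := by simp [ind, h]

theorem ind_of_mem {H : Subgroup T} {x : T} (h : x ∈ H) : ind H x = 0 := ind_eq_zero.2 h

theorem ind_mul {H : Subgroup T} {x y : T} (h : x ∉ H → y ∉ H → x * y ∈ H) :
    ind H (x * y) = ind H x + ind H y := by
  by_cases hx : x ∈ H
  · rw [ind_of_mem hx, zero_add]
    by_cases hy : y ∈ H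
    · rw [ind_of_mem hy, ind_of_mem (mul_mem hx hy)]
    · rw [ind_of_not hy, ind_of_not fun hm => hy ((Subgroup.mul_mem_cancel_left H hx).1 hm)]
  · rw [ind_of_not hx]
    by_cases hy : y ∈ H
    · rw [ind_of_mem hy, add_zero, ind_of_not fun hm => hx ((Subgroup.mul_mem_cancel_right H hy).1 hm)]
    · rw [ind_of_not hy, ind_of_mem (h hx hy)]; decide

theorem card_hom {A B : Type*} [Group A] [Group B] (f : A →* B) :
    Nat.card A = Nat.card f.ker * Nat.card f.range := by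
  rw [← Subgroup.index_ker, Subgroup.card_mul_index]

variable [Finite T]

theorem two_mul_card_le {H K : Subgroup T} (h : H < K) : 2 * Nat.card H ≤ Nat.card K := by
  obtain ⟨c, hc⟩ := Subgroup.card_dvd_of_le h.le
  have h1 : 0 < Nat.card H := Nat.card_pos
  have h2 : 0 < Nat.card K := Nat.card_pos
  rcases Nat.lt_or_ge c 2 with h3 | h3
  · exfalso
    interval_cases c
    · omega
    · exact h.ne (Subgroup.eq_of_le_of_card_ge h.le (by omega))
  · calc 2 * Nat.card H ≤ c * Nat.card H := Nat.mul_le_mul_right _ h3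
      _ = Nat.card K := by rw [hc, mul_comm]

theorem mul_mem_of_double {H K : Subgroup T} (hle : H ≤ K) (hc : Nat.card K ≤ 2 * Nat.card H) {x y : T}
    (hx : x ∈ K) (hy : y ∈ K) (hxH : x ∉ H) (hyH : y ∉ H) : x * y ∈ H := by
  have h1 : Nat.card ↥(H.subgroupOf K) * (H.subgroupOf K).index = Nat.card K := Subgroup.card_mul_index _
  rw [Nat.card_congr (Subgroup.subgroupOfEquivOfLe hle).toEquiv] at h1
  have hne : (H.subgroupOf K).index ≠ 1 := fun e =>
    hxH (Subgroup.mem_subgroupOf.1 ((Subgroup.index_eq_one.1 e).symm ▸ Subgroup.mem_top (⟨x, hx⟩ : ↥K)))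
  have h0 : (H.subgroupOf K).index ≠ 0 := Subgroup.index_ne_zero_of_finite
  have h2 : (H.subgroupOf K).index ≤ 2 := by
    by_contra hlt
    have : Nat.card H * 3 ≤ Nat.card H * (H.subgroupOf K).index := Nat.mul_le_mul_left _ (by omega)
    have := Nat.card_pos (α := ↥H)
    omega
  have h2' : (H.subgroupOf K).index = 2 := by omega
  have h3 := (Subgroup.mul_mem_iff_of_index_two h2' (a := (⟨x, hx⟩ : ↥K)) (b := ⟨y, hy⟩))
  simp only [Subgroup.mem_subgroupOf, Subgroup.coe_mul] at h3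
  exact h3.2 (by simp [hxH, hyH])

theorem card_inf_of_le {H K : Subgroup T} : Nat.card ↥(H.subgroupOf K) = Nat.card ↥(H ⊓ K) := by
  rw [← Subgroup.inf_subgroupOf_right]
  exact Nat.card_congr (Subgroup.subgroupOfEquivOfLe inf_le_right).toEquiv

omit [Finite T] in
theorem z_mono {i j : ℕ} (h : i ≤ j) : Z i ≤ Z j := Subgroup.upperCentralSeries_mono T h

omit [Finite T] in
theorem conj_div_mem {i : ℕ} {x : T} (hx : x ∈ Z (i + 1)) (g : T) : g * x * g⁻¹ * x⁻¹ ∈ Z i := by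
  have h := inv_mem ((Subgroup.mem_upperCentralSeries_succ_iff).1 hx g)
  simp only [commutatorElement_def, mul_inv_rev, inv_inv, mul_assoc] at h ⊢
  exact h

omit [Finite T] in
theorem fix_z1 {c : T} (hc : c ∈ Z 1) (g : T) : g * c * g⁻¹ = c := by
  rw [Subgroup.upperCentralSeries_one] at hc
  rw [Subgroup.mem_center_iff.1 hc g, mul_inv_cancel_right]

variable {W : Subgroup T}

theorem Hyp.z_lt (h : Hyp W) {i : ℕ} (hi : i < 4) : Z i < Z (i + 1) := by
  refine lt_of_le_of_ne (z_mono (by omega)) fun e => ?_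
  have hst : ∀ n, i ≤ n → Z n = Z i := by
    intro n hn
    induction n, hn using Nat.le_induction with
    | base => rfl
    | succ n hn ih =>
      refine Eq.trans ?_ e.symm
      ext x
      simp only [Subgroup.mem_upperCentralSeries_succ_iff, ih]
  haveI : Fact (Nat.Prime 2) := ⟨Nat.prime_two⟩
  haveI := h.pg.isNilpotent
  obtain ⟨n, hn⟩ := Group.IsNilpotent.nilpotent T
  have h1 : Z (max n i) = ⊤ := top_le_iff.1 (hn ▸ z_mono (le_max_left n i))
  have h4 : Z 4 = ⊤ := by rw [hst 4 hi.le, ← hst _ (le_max_right n i), h1]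
  have := h.z4
  rw [h4, Subgroup.card_top] at this
  have := h.big
  omega

theorem Hyp.card_z (h : Hyp W) {i : ℕ} (hi : i ≤ 4) : Nat.card ↥(Z i) = 2 ^ i := by
  have h1 := two_mul_card_le (h.z_lt (i := 0) (by norm_num))
  have h2 := two_mul_card_le (h.z_lt (i := 1) (by norm_num))
  have h3 := two_mul_card_le (h.z_lt (i := 2) (by norm_num))
  have h4 := two_mul_card_le (h.z_lt (i := 3) (by norm_num))
  have h5 := h.z4
  have h0 : Nat.card ↥(Z 0) = 1 := by rw [Subgroup.upperCentralSeries_zero, Subgroup.card_bot]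
  interval_cases i <;> norm_num at * <;> omega

theorem Hyp.z_two (h : Hyp W) {i : ℕ} (hi : i < 4) {x y : T} (hx : x ∈ Z (i + 1)) (hy : y ∈ Z (i + 1))
    (hx' : x ∉ Z i) (hy' : y ∉ Z i) : x * y ∈ Z i :=
  mul_mem_of_double (z_mono (by omega)) (by rw [h.card_z hi, h.card_z hi.le, pow_succ, mul_comm]) hx hy hx' hy'

theorem Hyp.z_le_of_step (h : Hyp W) {i : ℕ} (hi : i < 4) {S : Subgroup T} (hS : Z i ≤ S) {x : T}
    (hx : x ∈ Z (i + 1)) (hx' : x ∉ Z i) (hxS : x ∈ S) : Z (i + 1) ≤ S := by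
  intro y hy
  by_cases hy' : y ∈ Z i
  · exact hS hy'
  · exact (Subgroup.mul_mem_cancel_left S hxS).1 (hS (h.z_two hi hx hy hx' hy'))

theorem Hyp.z_le_of_normal (h : Hyp W) (N : Subgroup T) [N.Normal] :
    ∀ j : ℕ, j < 4 → ¬ N ≤ Z j → Z (j + 1) ≤ N := by
  intro j
  induction j using Nat.strong_induction_on with
  | _ j ih =>
    intro hj hN
    have hjN : Z j ≤ N := by
      rcases j with _ | i
      · rw [Subgroup.upperCentralSeries_zero]; exact bot_le
      · exact ih i (Nat.lt_succ_self i) (by omega) fun e => hN (e.trans (z_mono (Nat.le_succ i)))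
    haveI : Fact (Nat.Prime 2) := ⟨Nat.prime_two⟩
    haveI := h.pg.isNilpotent
    classical
    have hex : ∃ k, ¬ N ⊓ Z k ≤ Z j := by
      obtain ⟨n, hn⟩ := Group.IsNilpotent.nilpotent T
      exact ⟨n, by rw [hn, inf_top_eq]; exact hN⟩
    obtain ⟨x, hx, hxj⟩ := SetLike.not_le_iff_exists.1 (Nat.find_spec hex)
    rcases hk : Nat.find hex with _ | k
    · rw [hk, Subgroup.upperCentralSeries_zero, inf_bot_eq, Subgroup.mem_bot] at hx
      exact absurd (hx ▸ one_mem (Z j)) hxj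
    · rw [hk] at hx
      have hmin : N ⊓ Z k ≤ Z j := not_not.1 (Nat.find_min hex (by omega))
      refine h.z_le_of_step hj hjN ?_ hxj hx.1
      refine Subgroup.mem_upperCentralSeries_succ_iff.2 fun y => hmin ⟨?_, ?_⟩
      · show x * y * x⁻¹ * y⁻¹ ∈ N
        rw [show x * y * x⁻¹ * y⁻¹ = x * (y * x⁻¹ * y⁻¹) by group]
        exact N.mul_mem hx.1 (‹N.Normal›.conj_mem _ (inv_mem hx.1) y)
      · exact Subgroup.mem_upperCentralSeries_succ_iff.1 hx.2 y

theorem Hyp.z4_le (h : Hyp W) (N : Subgroup T) [N.Normal] (hN : 8 < Nat.card N) : Z 4 ≤ N :=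
  h.z_le_of_normal N 3 (by norm_num) fun e => by
    have := Subgroup.card_le_of_le e
    rw [h.card_z (by norm_num)] at this
    omega

theorem Hyp.normal_small (h : Hyp W) (N : Subgroup T) [N.Normal] (hN : Nat.card N ≤ 8) :
    ∃ k ≤ 3, N = Z k := by
  classical
  have h3 : N ≤ Z 3 := by
    by_contra hc
    have := Subgroup.card_le_of_le (h.z_le_of_normal N 3 (by norm_num) hc)
    rw [h.card_z (by norm_num)] at this
    omega
  have hex : ∃ k, N ≤ Z k := ⟨3, h3⟩
  have hle : Nat.find hex ≤ 3 := Nat.find_min' hex h3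
  refine ⟨Nat.find hex, hle, le_antisymm (Nat.find_spec hex) ?_⟩
  rcases hk : Nat.find hex with _ | k
  · rw [Subgroup.upperCentralSeries_zero]; exact bot_le
  · exact h.z_le_of_normal N k (by omega) (Nat.find_min hex (by omega))

omit [Finite T] in
theorem Hyp.normalW (h : Hyp W) : W.Normal := by
  rw [h.cent]; infer_instance

omit [Finite T] in
theorem Hyp.mem_W (h : Hyp W) {x : T} : x ∈ W ↔ ∀ c ∈ Z 3, x * c * x⁻¹ = c := by
  rw [h.cent, Subgroup.mem_centralizer_iff]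
  refine forall₂_congr fun c _ => ?_
  constructor
  · intro e; rw [← e, mul_inv_cancel_right]
  · intro e; exact (mul_inv_eq_iff_eq_mul.1 e).symm

theorem Hyp.exists_ab (h : Hyp W) :
    ∃ a b : T, a ∈ Z 2 ∧ a ∉ Z 1 ∧ b ∈ Z 3 ∧ b ∉ Z 2 := by
  obtain ⟨a, ha, ha'⟩ := SetLike.exists_of_lt (h.z_lt (i := 1) (by norm_num))
  obtain ⟨b, hb, hb'⟩ := SetLike.exists_of_lt (h.z_lt (i := 2) (by norm_num))
  exact ⟨a, b, ha, ha', hb, hb'⟩

omit [Finite T] in
theorem mem_cent_singleton {g c : T} : c ∈ Subgroup.centralizer ({g} : Set T) ↔ g * c * g⁻¹ = c := by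
  rw [Subgroup.mem_centralizer_singleton_iff]
  constructor
  · intro e; rw [← e, mul_inv_cancel_right]
  · intro e; exact (mul_inv_eq_iff_eq_mul.1 e).symm

theorem Hyp.fix_z2 (h : Hyp W) {a g : T} (ha : a ∈ Z 2) (ha' : a ∉ Z 1) (hga : g * a * g⁻¹ = a) :
    ∀ c ∈ Z 2, g * c * g⁻¹ = c := fun _ hc =>
  mem_cent_singleton.1 (h.z_le_of_step (i := 1) (by norm_num)
    (fun _ hx => mem_cent_singleton.2 (fix_z1 hx g)) ha ha' (mem_cent_singleton.2 hga) hc)

theorem Hyp.mem_W_of_fix (h : Hyp W) {g b : T} (h2 : ∀ c ∈ Z 2, g * c * g⁻¹ = c) (hb : b ∈ Z 3)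
    (hb' : b ∉ Z 2) (hgb : g * b * g⁻¹ = b) : g ∈ W :=
  h.mem_W.2 fun _ hc => mem_cent_singleton.1 (h.z_le_of_step (i := 2) (by norm_num)
    (fun x hx => mem_cent_singleton.2 (h2 x hx)) hb hb' (mem_cent_singleton.2 hgb) hc)

theorem Hyp.act_unique (h : Hyp W) {a b : T} (ha : a ∈ Z 2) (ha' : a ∉ Z 1) (hb : b ∈ Z 3)
    (hb' : b ∉ Z 2) {g k : T} (h1 : g * a * g⁻¹ = k * a * k⁻¹) (h2 : g * b * g⁻¹ = k * b * k⁻¹) :
    (g : T ⧸ W) = (k : T ⧸ W) := by
  refine QuotientGroup.eq.2 ?_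
  have e : ∀ c, g * c * g⁻¹ = k * c * k⁻¹ → g⁻¹ * k * c * (g⁻¹ * k)⁻¹ = c := by
    intro c hc
    calc g⁻¹ * k * c * (g⁻¹ * k)⁻¹ = g⁻¹ * (k * c * k⁻¹) * g := by group
      _ = c := by rw [← hc]; group
  exact h.mem_W_of_fix (h.fix_z2 ha ha' (e a h1)) hb hb' (e b h2)

theorem Hyp.index_le (h : Hyp W) : W.index ≤ 8 := by
  obtain ⟨a, b, ha, ha', hb, hb'⟩ := h.exists_ab
  have hinj : Function.Injective (fun q : T ⧸ W =>
      ((⟨q.out * a * q.out⁻¹ * a⁻¹, conj_div_mem ha _⟩ : ↥(Z 1)),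
       (⟨q.out * b * q.out⁻¹ * b⁻¹, conj_div_mem hb _⟩ : ↥(Z 2)))) := by
    intro p q hpq
    simp only [Prod.mk.injEq, Subtype.mk.injEq, mul_left_inj] at hpq
    rw [← QuotientGroup.out_eq' p, ← QuotientGroup.out_eq' q]
    exact h.act_unique ha ha' hb hb' hpq.1 hpq.2
  have := Nat.card_le_card_of_injective _ hinj
  rw [Nat.card_prod, h.card_z (by norm_num), h.card_z (by norm_num), ← Subgroup.index_eq_card] at this
  simpa using this

theorem Hyp.card_W_ge (h : Hyp W) : 2 ^ 11 ≤ Nat.card W := by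
  have h1 := Subgroup.card_mul_index W
  have h2 : Nat.card W * W.index ≤ Nat.card W * 8 := Nat.mul_le_mul_left _ h.index_le
  have := h.big
  omega

theorem Hyp.z4_le_W (h : Hyp W) : Z 4 ≤ W := by
  haveI := h.normalW
  exact h.z4_le W (by have := h.card_W_ge; omega)

theorem Hyp.z3_le_W (h : Hyp W) : Z 3 ≤ W := (z_mono (by norm_num)).trans h.z4_le_W

theorem Hyp.z3_comm (h : Hyp W) {x c : T} (hx : x ∈ W) (hc : c ∈ Z 3) : x * c = c * x :=
  mul_inv_eq_iff_eq_mul.1 (h.mem_W.1 hx c hc)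

/-- A subgroup of index two of `W` containing the commutators. -/
structure Pre (W L : Subgroup T) : Prop where
  normal : W.Normal
  le : L ≤ W
  two : ∀ x ∈ W, ∀ y ∈ W, x ∉ L → y ∉ L → x * y ∈ L
  comm : ∀ g : T, ∀ x ∈ W, ∀ y ∈ W, g * (x * y * x⁻¹ * y⁻¹) * g⁻¹ ∈ L

/-- The values of the conjugates of `x` on the character given by `L`. -/
noncomputable def lam (W L : Subgroup T) (x : T) : T ⧸ W → ZMod 2 := fun q => ind L (q.out * x * q.out⁻¹)

variable {L : Subgroup T}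

omit [Finite T] in
theorem Pre.lam_mk (p : Pre W L) {x : T} (hx : x ∈ W) (g : T) :
    lam W L x (g : T ⧸ W) = ind L (g * x * g⁻¹) := by
  haveI := p.normal
  obtain ⟨w, hw⟩ := QuotientGroup.mk_out_eq_mul W g
  unfold lam
  rw [hw]
  have e : g * w * x * (g * w)⁻¹ = g * ((w : T) * x * (w : T)⁻¹ * x⁻¹) * g⁻¹ * (g * x * g⁻¹) := by group
  have hm := p.comm g _ w.2 x hx
  rw [e, ind_mul (fun h _ => absurd hm h), ind_of_mem hm, zero_add]

omit [Finite T] in
theorem Pre.lam_mul (p : Pre W L) {x y : T} (hx : x ∈ W) (hy : y ∈ W) :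
    lam W L (x * y) = lam W L x + lam W L y := by
  haveI := p.normal
  funext q
  have e : q.out * (x * y) * q.out⁻¹ = (q.out * x * q.out⁻¹) * (q.out * y * q.out⁻¹) := by group
  simp only [lam, Pi.add_apply]
  rw [e]
  exact ind_mul fun h1 h2 => p.two _ (p.normal.conj_mem x hx _) _ (p.normal.conj_mem y hy _) h1 h2

omit [Finite T] in
theorem Pre.lam_conj (p : Pre W L) {x : T} (hx : x ∈ W) (g u : T) :
    lam W L (g * x * g⁻¹) (u : T ⧸ W) = lam W L x ((u * g : T) : T ⧸ W) := by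
  rw [p.lam_mk (p.normal.conj_mem x hx g), p.lam_mk hx]
  congr 1
  group

omit [Finite T] in
theorem Pre.lam_eq_zero (p : Pre W L) {x : T} (hx : x ∈ W) :
    lam W L x = 0 ↔ x ∈ L.normalCore := by
  constructor
  · intro e g
    have := congrFun e (g : T ⧸ W)
    rw [p.lam_mk hx, Pi.zero_apply, ind_eq_zero] at this
    exact this
  · intro hc
    funext q
    exact ind_of_mem (hc q.out)

/-- The values as a homomorphism. -/
noncomputable def Pre.lamHom (p : Pre W L) (H : Subgroup T) (hH : H ≤ W) :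
    ↥H →* Multiplicative (T ⧸ W → ZMod 2) :=
  MonoidHom.mk' (fun x => Multiplicative.ofAdd (lam W L (x : T))) fun x y => by
    simp only [Subgroup.coe_mul, p.lam_mul (hH x.2) (hH y.2), ofAdd_add]

omit [Finite T] in
theorem Pre.ker_lamHom (p : Pre W L) (H : Subgroup T) (hH : H ≤ W) :
    (p.lamHom H hH).ker = L.normalCore.subgroupOf H := by
  ext x
  rw [MonoidHom.mem_ker, Subgroup.mem_subgroupOf, ← p.lam_eq_zero (hH x.2)]
  exact ofAdd_eq_one

theorem card_fun {X : Type*} [Finite X] :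
    Nat.card (Multiplicative (X → ZMod 2)) = 2 ^ Nat.card X := by
  show Nat.card (X → ZMod 2) = _
  rw [Nat.card_fun, Nat.card_zmod]

theorem Hyp.sq_mem_frattini (h : Hyp W) {x : T} (hx : x ∈ W) : x * x ∈ (frattini ↥W).map W.subtype := by
  haveI : Fact (Nat.Prime 2) := ⟨Nat.prime_two⟩
  refine ⟨⟨x, hx⟩ ^ 2, CfsgLib.pow_mem_frattini_pGroup (h.pg.to_subgroup W) _, ?_⟩
  rw [map_pow, sq]
  rfl

theorem Hyp.comm_mem_frattini (h : Hyp W) {x y : T} (hx : x ∈ W) (hy : y ∈ W) :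
    x * y * x⁻¹ * y⁻¹ ∈ (frattini ↥W).map W.subtype := by
  haveI : Fact (Nat.Prime 2) := ⟨Nat.prime_two⟩
  exact ⟨⁅(⟨x, hx⟩ : ↥W), ⟨y, hy⟩⁆, CfsgLib.commutator_le_frattini_pGroup (h.pg.to_subgroup W)
    (Subgroup.commutator_mem_commutator (Subgroup.mem_top _) (Subgroup.mem_top _)), by
      simp [commutatorElement_def]⟩

theorem Hyp.card_map_frattini (h : Hyp W) : Nat.card ↥((frattini ↥W).map W.subtype) ≤ 8 := by
  rw [Nat.card_congr ((frattini ↥W).equivMapOfInjective W.subtype W.subtype_injective).toEquiv.symm]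
  exact h.small

theorem Hyp.basic (h : Hyp W) :
    (frattini ↥W).map W.subtype = Z 3 ∧ Nat.card W = 2 ^ 11 ∧ W.index = 8 ∧
      ∃ (L : Subgroup T) (e : T), Pre W L ∧ e ∈ Z 4 ∧ e ∉ L ∧ Z 3 ≤ L := by
  haveI := h.normalW
  haveI : Fact (Nat.Prime 2) := ⟨Nat.prime_two⟩
  set F := (frattini ↥W).map W.subtype with hF
  obtain ⟨k, hk, hFk⟩ := h.normal_small F h.card_map_frattini
  obtain ⟨e, he, he'⟩ := SetLike.exists_of_lt (h.z_lt (i := k) (by omega))
  have heW : e ∈ W := h.z4_le_W (z_mono (by omega) he)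
  have heF : (⟨e, heW⟩ : ↥W) ∉ frattini ↥W := fun hm => he' (hFk ▸ ⟨_, hm, rfl⟩)
  obtain ⟨M, hM, -, hΦM, heM⟩ := CfsgLib.RankFrattini.exists_maximal_avoiding (h.pg.to_subgroup W)
    (frattini ↥W) heF
    (fun a b => CfsgLib.commutator_le_frattini_pGroup (h.pg.to_subgroup W)
      (Subgroup.commutator_mem_commutator (Subgroup.mem_top _) (Subgroup.mem_top _)))
    (fun a => CfsgLib.pow_mem_frattini_pGroup (h.pg.to_subgroup W) a)
  obtain ⟨-, hMi⟩ := CfsgLib.index_coatom_pGroup (h.pg.to_subgroup W) hM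
  set L := M.map W.subtype with hL
  have hLW : L ≤ W := Subgroup.map_subtype_le M
  have hmem : ∀ {x : T} (hx : x ∈ W), x ∈ L ↔ (⟨x, hx⟩ : ↥W) ∈ M := fun {x} hx =>
    ⟨fun ⟨m, hm, hme⟩ => (Subtype.ext hme : m = ⟨x, hx⟩) ▸ hm, fun hm => ⟨_, hm, rfl⟩⟩
  have hFL : F ≤ L := Subgroup.map_mono hΦM
  have pre : Pre W L := by
    refine ⟨inferInstance, hLW, fun x hx y hy hxL hyL => ?_, fun g x hx y hy => ?_⟩
    · rw [hmem (mul_mem hx hy)]
      refine (Subgroup.mul_mem_iff_of_index_two hMi (a := (⟨x, hx⟩ : ↥W)) (b := ⟨y, hy⟩)).2 ?_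
      rw [hmem hx] at hxL
      rw [hmem hy] at hyL
      simp [hxL, hyL]
    · refine hFL ?_
      exact (Subgroup.Normal.conj_mem inferInstance _ (h.comm_mem_frattini hx hy) g)
  have heL : e ∉ L := fun hm => heM ((hmem heW).1 hm)
  have hcore : L.normalCore = Z k := by
    refine le_antisymm ?_ (Subgroup.normal_le_normalCore.2 (hFk ▸ hFL))
    by_contra hc
    exact heL (L.normalCore_le (h.z_le_of_normal L.normalCore k (by omega) hc he))
  have hcard := card_hom (pre.lamHom W le_rfl)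
  rw [pre.ker_lamHom, hcore, Nat.card_congr (Subgroup.subgroupOfEquivOfLe
    ((z_mono (by omega)).trans h.z4_le_W)).toEquiv, h.card_z (by omega)] at hcard
  have hrange : Nat.card (pre.lamHom W le_rfl).range ≤ 2 ^ W.index := by
    refine (Subgroup.card_le_card_group _).trans ?_
    rw [card_fun, Subgroup.index_eq_card]
  have hW1 := h.card_W_ge
  have hi := h.index_le
  have hprod := Subgroup.card_mul_index W
  have hbig := h.big
  have hb : Nat.card W ≤ 2 ^ (k + W.index) := by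
    rw [hcard, pow_add]; exact Nat.mul_le_mul_left _ hrange
  have hk3 : k = 3 := by
    by_contra hne
    have : 2 ^ (k + W.index) ≤ 2 ^ 10 := Nat.pow_le_pow_right (by norm_num) (by omega)
    omega
  subst hk3
  have hidx : W.index = 8 := by
    by_contra hne
    have : 2 ^ (3 + W.index) ≤ 2 ^ 10 := Nat.pow_le_pow_right (by norm_num) (by omega)
    omega
  refine ⟨hFk, ?_, hidx, L, e, pre, he, heL, hFk ▸ hFL⟩
  rw [hidx] at hb
  omega

theorem Hyp.card_W (h : Hyp W) : Nat.card W = 2 ^ 11 := h.basic.2.1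

theorem Hyp.index_W (h : Hyp W) : W.index = 8 := h.basic.2.2.1

theorem Hyp.card_T (h : Hyp W) : Nat.card T = 2 ^ 14 := by
  rw [← Subgroup.card_mul_index W, h.card_W, h.index_W]; rfl

theorem Hyp.sq_mem (h : Hyp W) {x : T} (hx : x ∈ W) : x * x ∈ Z 3 := h.basic.1 ▸ h.sq_mem_frattini hx

theorem Hyp.comm_mem (h : Hyp W) {x y : T} (hx : x ∈ W) (hy : y ∈ W) : x * y * x⁻¹ * y⁻¹ ∈ Z 3 :=
  h.basic.1 ▸ h.comm_mem_frattini hx hy

/-- A character of `W` whose conjugates separate the classes modulo the third centre. -/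
structure Pick (W L : Subgroup T) (e : T) : Prop where
  pre : Pre W L
  eW : e ∈ W
  e4 : e ∈ Z 4
  eL : e ∉ L
  zL : Z 3 ≤ L

theorem Hyp.exists_pick (h : Hyp W) : ∃ (L : Subgroup T) (e : T), Pick W L e := by
  obtain ⟨-, -, -, L, e, p, he, heL, hz⟩ := h.basic
  exact ⟨L, e, p, h.z4_le_W he, he, heL, hz⟩

variable {e : T}

theorem Pick.core (pk : Pick W L e) (h : Hyp W) : L.normalCore = Z 3 := by
  refine le_antisymm ?_ (Subgroup.normal_le_normalCore.2 pk.zL)
  by_contra hc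
  exact pk.eL (L.normalCore_le (h.z_le_of_normal L.normalCore 3 (by norm_num) hc pk.e4))

theorem Pick.lam_eq_zero (pk : Pick W L e) (h : Hyp W) {x : T} (hx : x ∈ W) :
    lam W L x = 0 ↔ x ∈ Z 3 := by rw [pk.pre.lam_eq_zero hx, pk.core h]

theorem Pick.card_lam (pk : Pick W L e) (h : Hyp W) {H : Subgroup T} (hH : H ≤ W) :
    Nat.card H = Nat.card ↥(H ⊓ Z 3) * Nat.card (pk.pre.lamHom H hH).range := by
  have := card_hom (pk.pre.lamHom H hH)
  rwa [pk.pre.ker_lamHom, pk.core h, card_inf_of_le, inf_comm] at this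

theorem Pick.lam_surj (pk : Pick W L e) (h : Hyp W) (φ : T ⧸ W → ZMod 2) :
    ∃ x ∈ W, lam W L x = φ := by
  have h1 := pk.card_lam h le_rfl
  rw [h.card_W, inf_eq_right.2 h.z3_le_W, h.card_z (by norm_num)] at h1
  have h2 : (pk.pre.lamHom W le_rfl).range = ⊤ := Subgroup.eq_top_of_card_eq _ (by
    rw [card_fun, ← Subgroup.index_eq_card, h.index_W]; omega)
  obtain ⟨x, hx⟩ := h2.symm ▸ Subgroup.mem_top (Multiplicative.ofAdd φ)
  exact ⟨x, x.2, Multiplicative.ofAdd.injective hx⟩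

theorem Pick.lam_inv (pk : Pick W L e) {x : T} (hx : x ∈ W) : lam W L x⁻¹ = lam W L x := by
  have h1 := pk.pre.lam_mul hx (inv_mem hx)
  rw [mul_inv_cancel] at h1
  have h0 : lam W L (1 : T) = 0 := funext fun q => ind_of_mem (by simp)
  rw [h0] at h1
  funext q
  have h2 := congrFun h1 q
  simp only [Pi.add_apply, Pi.zero_apply] at h2
  revert h2
  generalize lam W L x q = u
  generalize lam W L x⁻¹ q = v
  revert u v
  decide

/-- Counting commutators with an element outside `W` whose square is in `W`. -/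
theorem Hyp.shift_bound (h : Hyp W) {x : T} (hx : x ∉ W) (hx2 : x * x ∈ W) {H M : Subgroup T}
    (hH : H ≤ W) (hM : M ≤ W) (hsub : ∀ i ∈ H, x * i * x⁻¹ * i⁻¹ ∈ M) :
    Nat.card H * Nat.card ↥(M ⊓ Z 3) ≤ 2 ^ 7 * Nat.card M := by
  haveI := h.normalW
  obtain ⟨L, e, pk⟩ := h.exists_pick
  have hconj : ∀ i ∈ H, x * i * x⁻¹ ∈ W := fun i hi => h.normalW.conj_mem i (hH hi) x
  let η : ↥H →* Multiplicative (T ⧸ W → ZMod 2) := MonoidHom.mk'
    (fun i => Multiplicative.ofAdd (lam W L (x * (i : T) * x⁻¹) + lam W L (i : T))) fun i j => by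
      rw [← ofAdd_add]
      congr 1
      rw [Subgroup.coe_mul, show x * ((i : T) * (j : T)) * x⁻¹ = (x * i * x⁻¹) * (x * j * x⁻¹) by group,
        pk.pre.lam_mul (hH i.2) (hH j.2), pk.pre.lam_mul (hconj _ i.2) (hconj _ j.2)]
      abel
  have hη : η.range ≤ (pk.pre.lamHom M hM).range := by
    rintro _ ⟨i, rfl⟩
    refine ⟨⟨_, hsub i i.2⟩, congrArg Multiplicative.ofAdd ?_⟩
    show lam W L (x * (i : T) * x⁻¹ * (i : T)⁻¹) = _
    rw [pk.pre.lam_mul (hconj _ i.2) (inv_mem (hH i.2)), pk.lam_inv (hH i.2)]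
  set xq : T ⧸ W := (x : T ⧸ W) with hxq
  have hord : orderOf xq = 2 := orderOf_eq_prime
    (by rw [sq, hxq, ← QuotientGroup.mk_mul, QuotientGroup.eq_one_iff]; exact hx2)
    (by rw [hxq, Ne, QuotientGroup.eq_one_iff]; exact hx)
  have hQ : Nat.card ((T ⧸ W) ⧸ Subgroup.zpowers xq) = 4 := by
    have := Subgroup.card_eq_card_quotient_mul_card_subgroup (Subgroup.zpowers xq)
    rw [Nat.card_zpowers, hord, ← Subgroup.index_eq_card, h.index_W] at this
    omega
  let κ : ↥η.ker →* Multiplicative ((T ⧸ W) ⧸ Subgroup.zpowers xq → ZMod 2) := MonoidHom.mk'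
    (fun i => Multiplicative.ofAdd fun r : (T ⧸ W) ⧸ Subgroup.zpowers xq => lam W L ((i : ↥H) : T) r.out) fun i j => by
      rw [← ofAdd_add]
      congr 1
      funext r
      simp only [Subgroup.coe_mul, pk.pre.lam_mul (hH i.1.2) (hH j.1.2), Pi.add_apply]
  have hker : ∀ i ∈ κ.ker, ((i : ↥H) : T) ∈ Z 3 := by
    intro i hi
    have h0 : ∀ r : (T ⧸ W) ⧸ Subgroup.zpowers xq, lam W L ((i : ↥H) : T) r.out = 0 := fun r => congrFun (ofAdd_eq_one.1 hi) r
    have h1 : lam W L (x * ((i : ↥H) : T) * x⁻¹) + lam W L ((i : ↥H) : T) = 0 := ofAdd_eq_one.1 i.2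
    have hinv : ∀ q, lam W L ((i : ↥H) : T) (q * xq) = lam W L ((i : ↥H) : T) q := by
      intro q
      obtain ⟨g, rfl⟩ := QuotientGroup.mk_surjective q
      have h2 := congrFun h1 (g : T ⧸ W)
      rw [Pi.add_apply, Pi.zero_apply, pk.pre.lam_conj (hH i.1.2)] at h2
      rw [hxq, ← QuotientGroup.mk_mul]
      revert h2
      generalize lam W L ((i : ↥H) : T) ((g * x : T) : T ⧸ W) = u
      generalize lam W L ((i : ↥H) : T) (g : T ⧸ W) = v
      revert u v
      decide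
    let S : Subgroup (T ⧸ W) :=
      { carrier := {y | ∀ q, lam W L ((i : ↥H) : T) (q * y) = lam W L ((i : ↥H) : T) q}
        one_mem' := fun q => by rw [mul_one]
        mul_mem' := fun {y z} hy hz q => by rw [← mul_assoc, hz, hy]
        inv_mem' := fun {y} hy q => by rw [← hy (q * y⁻¹), inv_mul_cancel_right] }
    have hS : Subgroup.zpowers xq ≤ S := Subgroup.zpowers_le.2 hinv
    refine (pk.lam_eq_zero h (hH i.1.2)).1 (funext fun q => ?_)
    obtain ⟨y, hy⟩ := QuotientGroup.mk_out_eq_mul (Subgroup.zpowers xq) q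
    have := h0 ((q : (T ⧸ W) ⧸ Subgroup.zpowers xq))
    rw [hy, hS y.2 q] at this
    exact this
  have hk1 : Nat.card κ.ker ≤ 2 ^ 3 := by
    rw [← h.card_z (i := 3) (by norm_num)]
    refine Nat.card_le_card_of_injective (fun i => (⟨((i : ↥η.ker) : ↥H), hker i i.2⟩ : ↥(Z 3))) ?_
    intro i j hij
    exact Subtype.ext (Subtype.ext (Subtype.ext (congrArg (fun z : ↥(Z 3) => (z : T)) hij)))
  have hk2 : Nat.card κ.range ≤ 2 ^ 4 := by
    refine (Subgroup.card_le_card_group _).trans ?_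
    rw [card_fun, hQ]
  have hk : Nat.card η.ker ≤ 2 ^ 7 := by
    rw [card_hom κ, show 2 ^ 7 = 2 ^ 3 * 2 ^ 4 by norm_num]
    exact Nat.mul_le_mul hk1 hk2
  rw [card_hom η, pk.card_lam h hM, mul_assoc, mul_comm (Nat.card ↥(M ⊓ Z 3)) (Nat.card ↥(MonoidHom.range _))]
  exact Nat.mul_le_mul hk (Nat.mul_le_mul_right _ (Subgroup.card_le_of_le hη))

/-- No large subgroup of `W` has all its commutators in the second centre. -/
theorem Hyp.no_isotropic (h : Hyp W) (A : Subgroup T) (hA : A ≤ W) (h3 : Z 3 ≤ A)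
    (hc : 2 ^ 9 ≤ Nat.card A) (hcomm : ∀ x ∈ A, ∀ y ∈ A, x * y * x⁻¹ * y⁻¹ ∈ Z 2) : False := by
  haveI : Fact (Nat.Prime 2) := ⟨Nat.prime_two⟩
  obtain ⟨b, hb, hb'⟩ := SetLike.exists_of_lt (h.z_lt (i := 2) (by norm_num))
  have h2A : Z 2 ≤ A := (z_mono (by norm_num)).trans h3
  have hmem : ∀ {x : T}, x ∈ Z 2 ↔ (x : T ⧸ Z 2) = 1 := fun {x} => (QuotientGroup.eq_one_iff x).symm
  have hcm : ∀ x ∈ A, ∀ y ∈ A, (x : T ⧸ Z 2) * (y : T ⧸ Z 2) = (y : T ⧸ Z 2) * (x : T ⧸ Z 2) := by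
    intro x hx y hy
    have := hmem.1 (hcomm x hx y hy)
    simp only [QuotientGroup.mk_mul, QuotientGroup.mk_inv] at this
    rwa [mul_inv_eq_one, mul_inv_eq_iff_eq_mul] at this
  have hsq : ∀ x ∈ A, ∀ y ∈ A, ((x * y * (x * y) : T) : T ⧸ Z 2) = ((x * x * (y * y) : T) : T ⧸ Z 2) := by
    intro x hx y hy
    simp only [QuotientGroup.mk_mul]
    rw [show (x : T ⧸ Z 2) * y * (x * y) = x * ((y : T ⧸ Z 2) * x) * y by group, hcm y hy x hx]
    group
  let A0 : Subgroup T :=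
    { carrier := {x | x ∈ A ∧ x * x ∈ Z 2}
      one_mem' := ⟨one_mem A, by simp⟩
      mul_mem' := fun {x y} hx hy => ⟨mul_mem hx.1 hy.1, hmem.2 <| by
        rw [hsq x hx.1 y hy.1]; exact hmem.1 (mul_mem hx.2 hy.2)⟩
      inv_mem' := fun {x} hx => ⟨inv_mem hx.1, by rw [← mul_inv_rev]; exact inv_mem hx.2⟩ }
  have hA0 : ∀ {x : T}, x ∈ A0 ↔ x ∈ A ∧ x * x ∈ Z 2 := Iff.rfl
  have hbA0 : b ∈ A0 := hA0.2 ⟨h3 hb, h.z_two (by norm_num) hb hb hb' hb'⟩
  have h20 : Z 2 ≤ A0 := fun x hx => hA0.2 ⟨h2A hx, mul_mem hx hx⟩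
  have hidx : (A0.subgroupOf A).index ≤ 2 := by
    classical
    have hinj : Function.Injective (fun q : ↥A ⧸ A0.subgroupOf A => decide (q.out ∈ A0.subgroupOf A)) := by
      intro p q hpq
      simp only [decide_eq_decide] at hpq
      rw [← QuotientGroup.out_eq' p, ← QuotientGroup.out_eq' q, QuotientGroup.eq]
      by_cases hp : p.out ∈ A0.subgroupOf A
      · exact mul_mem (inv_mem hp) (hpq.1 hp)
      · have hq : q.out ∉ A0.subgroupOf A := fun hq => hp (hpq.2 hq)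
        have hx : ∀ x : ↥A, x ∉ A0.subgroupOf A → (x : T) * x ∈ Z 3 ∧ (x : T) * x ∉ Z 2 := fun x hx =>
          ⟨h.sq_mem (hA x.2), fun hm => hx (Subgroup.mem_subgroupOf.2 (hA0.2 ⟨x.2, hm⟩))⟩
        have hp' := hx p.out⁻¹ fun hm => hp ((Subgroup.inv_mem_iff _).1 hm)
        have hq' := hx q.out hq
        rw [Subgroup.mem_subgroupOf, hA0]
        refine ⟨(p.out⁻¹ * q.out).2, hmem.2 ?_⟩
        rw [Subgroup.coe_mul, hsq _ (p.out⁻¹).2 _ q.out.2]
        exact hmem.1 (h.z_two (by norm_num) hp'.1 hq'.1 hp'.2 hq'.2)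
    have := Nat.card_le_card_of_injective _ hinj
    rwa [← Subgroup.index_eq_card, Nat.card_eq_fintype_card (α := Bool), Fintype.card_bool] at this
  have hcA0 : 2 ^ 8 ≤ Nat.card A0 := by
    have h1 := Subgroup.card_mul_index (A0.subgroupOf A)
    rw [Nat.card_congr (Subgroup.subgroupOfEquivOfLe (fun x hx => (hA0.1 hx).1 : A0 ≤ A)).toEquiv] at h1
    have : Nat.card A0 * (A0.subgroupOf A).index ≤ Nat.card A0 * 2 := Nat.mul_le_mul_left _ hidx
    omega
  obtain ⟨U0, hU0, -, hzU, hbU⟩ := CfsgLib.RankFrattini.exists_maximal_avoiding (h.pg.to_subgroup A0)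
    ((Z 2).subgroupOf A0) (x := (⟨b, hbA0⟩ : ↥A0)) hb'
    (fun x y => Subgroup.mem_subgroupOf.2 (by
      simpa [commutatorElement_def] using hcomm x (hA0.1 x.2).1 y (hA0.1 y.2).1))
    (fun x => Subgroup.mem_subgroupOf.2 (by rw [Subgroup.coe_pow, sq]; exact (hA0.1 x.2).2))
  obtain ⟨-, hUi⟩ := CfsgLib.index_coatom_pGroup (h.pg.to_subgroup A0) hU0
  set U := U0.map A0.subtype with hU
  have hUW : U ≤ W := (Subgroup.map_subtype_le U0).trans fun x hx => hA (hA0.1 hx).1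
  have hcU : 2 ^ 7 ≤ Nat.card U := by
    have h1 := Subgroup.card_mul_index U0
    rw [hUi] at h1
    rw [hU, Nat.card_congr (U0.equivMapOfInjective A0.subtype A0.subtype_injective).toEquiv.symm]
    omega
  have hUidx : (U.subgroupOf W).index ≤ 16 := by
    have h1 := Subgroup.card_mul_index (U.subgroupOf W)
    rw [Nat.card_congr (Subgroup.subgroupOfEquivOfLe hUW).toEquiv, h.card_W] at h1
    have : 2 ^ 7 * (U.subgroupOf W).index ≤ Nat.card U * (U.subgroupOf W).index := Nat.mul_le_mul_right _ hcU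
    omega
  have hbΦ : b ∈ (frattini ↥W).map W.subtype := h.basic.1.symm ▸ hb
  obtain ⟨w, hw, hwb⟩ := hbΦ
  have hbU' : b ∈ U := by rw [← hwb]; exact h.key _ hUidx hw
  obtain ⟨u, hu, hub⟩ := hbU'
  exact hbU ((Subtype.ext hub : u = ⟨b, hbA0⟩) ▸ hu)

end CfsgLib.RudvalisW
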