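import Mathlib
import Cfsg.Agent.Lib.RudvalisW
import Cfsg.Agent.Lib.DihedralShape

/-!
Two-groups of order `2 ^ 14` with the shape of `RudvalisW`: derived subgroup, quotient and centre of
the centralizer of the third centre.
-/

set_option autoImplicit false

namespace CfsgLib.RudvalisW

open Subgroup
open scoped commutatorElement

variable {T : Type*} [Group T] [Finite T] {W L : Subgroup T} {e : T}

local notation "Z" => Subgroup.upperCentralSeries T

theorem Hyp.commutator_eq (h : Hyp W) : (commutator ↥W).map W.subtype = Z 3 := by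
  haveI := h.normalW
  haveI : Fact (Nat.Prime 2) := ⟨Nat.prime_two⟩
  haveI : ((commutator ↥W).map W.subtype).Normal := inferInstance
  have hle : (commutator ↥W).map W.subtype ≤ Z 3 := by
    rw [← h.basic.1]
    exact Subgroup.map_mono (CfsgLib.commutator_le_frattini_pGroup (h.pg.to_subgroup W))
  obtain ⟨k, hk, hk'⟩ := h.normal_small ((commutator ↥W).map W.subtype)
    (by have := Subgroup.card_le_of_le hle; rw [h.card_z (by norm_num)] at this; omega)
  by_contra hne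
  have hk2 : k ≤ 2 := by
    by_contra hk2
    exact hne (hk'.trans (by rw [show k = 3 by omega]))
  refine h.no_isotropic W le_rfl h.z3_le_W (by rw [h.card_W]; norm_num) fun x hx y hy => ?_
  refine z_mono hk2 (hk' ▸ ⟨⁅(⟨x, hx⟩ : ↥W), ⟨y, hy⟩⁆, Subgroup.commutator_mem_commutator
    (Subgroup.mem_top _) (Subgroup.mem_top _), ?_⟩)
  simp [commutatorElement_def]

theorem Hyp.z3_sq (h : Hyp W) {c : T} (hc : c ∈ Z 3) : c * c = 1 := by
  rw [← h.commutator_eq] at hc
  obtain ⟨u, hu, rfl⟩ := hc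
  rw [commutator_def, Subgroup.commutator_def, SetLike.mem_coe] at hu
  suffices u * u = 1 ∧ (u : T) ∈ Z 3 from by
    show (u : T) * u = 1
    rw [← Subgroup.coe_mul, this.1, Subgroup.coe_one]
  refine Subgroup.closure_induction (p := fun (u : ↥W) _ => u * u = 1 ∧ (u : T) ∈ Z 3) ?_ ?_ ?_ ?_ hu
  · rintro _ ⟨x, -, y, -, rfl⟩
    have hm : ((⁅x, y⁆ : ↥W) : T) ∈ Z 3 := by
      simpa [commutatorElement_def] using h.comm_mem x.2 y.2
    refine ⟨Subtype.ext ?_, hm⟩
    simp only [Subgroup.coe_mul, Subgroup.coe_one]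
    simp only [commutatorElement_def, Subgroup.coe_mul, Subgroup.coe_inv] at hm ⊢
    generalize hc : (x : T) * y * (x : T)⁻¹ * (y : T)⁻¹ = c at hm ⊢
    -- `x²` is central in `W`, and so is the commutator
    have h1 : (x : T) * c = c * x := h.z3_comm x.2 hm
    have h2 : (x : T) * x * y = y * (x * x) := (h.z3_comm y.2 (h.sq_mem x.2)).symm
    have h3 : (x : T) * y * (x : T)⁻¹ = c * y := by rw [← hc]; group
    calc c * c = (c * (x * c * (x : T)⁻¹)) := by rw [h1]; group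
      _ = (x * c * (x : T)⁻¹) * c := by rw [h1]; group
      _ = x * (x * y * (x : T)⁻¹) * (x : T)⁻¹ * (y : T)⁻¹ := by rw [← hc]; group
      _ = (x * x * y) * ((x : T)⁻¹ * (x : T)⁻¹ * (y : T)⁻¹) := by group
      _ = 1 := by rw [h2]; group
  · exact ⟨one_mul 1, one_mem _⟩
  · rintro x y - - ⟨hx1, hx2⟩ ⟨hy1, hy2⟩
    refine ⟨?_, mul_mem hx2 hy2⟩
    have hxy : y * x = x * y := Subtype.ext (h.z3_comm y.2 hx2)
    calc x * y * (x * y) = x * (y * x) * y := by group
      _ = (x * x) * (y * y) := by rw [hxy]; group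
      _ = 1 := by rw [hx1, hy1, one_mul]
  · rintro x - ⟨hx1, hx2⟩
    exact ⟨by rw [← mul_inv_rev, hx1, inv_one], inv_mem hx2⟩

theorem Hyp.card_commutator_quotient (h : Hyp W) : Nat.card (↥W ⧸ commutator ↥W) = 2 ^ 8 := by
  have h1 := Subgroup.card_eq_card_quotient_mul_card_subgroup (commutator ↥W)
  rw [h.card_W, Nat.card_congr ((commutator ↥W).equivMapOfInjective W.subtype W.subtype_injective).toEquiv,
    h.commutator_eq, h.card_z (by norm_num)] at h1
  omega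

theorem Hyp.sq_commutator_quotient (h : Hyp W) (q : ↥W ⧸ commutator ↥W) : q ^ 2 = 1 := by
  obtain ⟨x, rfl⟩ := QuotientGroup.mk_surjective q
  rw [sq, ← QuotientGroup.mk_mul, QuotientGroup.eq_one_iff]
  have h1 : ((x * x : ↥W) : T) ∈ (commutator ↥W).map W.subtype := h.commutator_eq.symm ▸ h.sq_mem x.2
  obtain ⟨u, hu, hux⟩ := h1
  have hux' : u = x * x := W.subtype_injective (hux.trans rfl)
  rwa [← hux']

/-- Every pair of possible displacements of a basis is realized. -/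
theorem Hyp.exists_act (h : Hyp W) {a b : T} (ha : a ∈ Z 2) (ha' : a ∉ Z 1) (hb : b ∈ Z 3) (hb' : b ∉ Z 2)
    {α β : T} (hα : α ∈ Z 1) (hβ : β ∈ Z 2) :
    ∃ u : T, u * a * u⁻¹ = α * a ∧ u * b * u⁻¹ = β * b := by
  set f := fun q : T ⧸ W =>
      ((⟨q.out * a * q.out⁻¹ * a⁻¹, conj_div_mem ha _⟩ : ↥(Z 1)),
       (⟨q.out * b * q.out⁻¹ * b⁻¹, conj_div_mem hb _⟩ : ↥(Z 2))) with hf
  have hinj : Function.Injective f := by
    intro p q hpq
    simp only [hf, Prod.mk.injEq, Subtype.mk.injEq, mul_left_inj] at hpq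
    rw [← QuotientGroup.out_eq' p, ← QuotientGroup.out_eq' q]
    exact h.act_unique ha ha' hb hb' hpq.1 hpq.2
  have hbij := (Nat.bijective_iff_injective_and_card f).2 ⟨hinj, by
    rw [← Subgroup.index_eq_card, h.index_W, Nat.card_prod, h.card_z (by norm_num), h.card_z (by norm_num)]
    norm_num⟩
  obtain ⟨q, hq⟩ := hbij.2 (⟨α, hα⟩, ⟨β, hβ⟩)
  simp only [hf, Prod.mk.injEq, Subtype.mk.injEq] at hq
  exact ⟨q.out, eq_mul_of_mul_inv_eq hq.1, eq_mul_of_mul_inv_eq hq.2⟩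

theorem Hyp.exists_z1 (h : Hyp W) : ∃ z1 ∈ Z 1, z1 ∉ Z 0 ∧ z1 ≠ 1 := by
  obtain ⟨z, hz, hz'⟩ := SetLike.exists_of_lt (h.z_lt (i := 0) (by norm_num))
  exact ⟨z, hz, hz', fun e => hz' (e ▸ one_mem _)⟩

/-- A standard basis of the third centre. -/
structure Frame (W : Subgroup T) (z1 a b : T) : Prop where
  hz : z1 ∈ Z 1
  hz' : z1 ≠ 1
  ha : a ∈ Z 2
  ha' : a ∉ Z 1
  hb : b ∈ Z 3
  hb' : b ∉ Z 2

theorem Hyp.exists_frame (h : Hyp W) : ∃ z1 a b : T, Frame W z1 a b := by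
  obtain ⟨a, b, h1, h2, h3, h4⟩ := h.exists_ab
  obtain ⟨z, hz, -, hz'⟩ := h.exists_z1
  exact ⟨z, a, b, hz, hz', h1, h2, h3, h4⟩

variable {z1 a b : T}

theorem Frame.z1_cases (fr : Frame W z1 a b) (h : Hyp W) {x : T} (hx : x ∈ Z 1) : x = 1 ∨ x = z1 := by
  by_contra hc
  rw [not_or] at hc
  have h0 : Z 0 = ⊥ := Subgroup.upperCentralSeries_zero T
  have h1 := h.z_two (i := 0) (by norm_num) hx fr.hz (by rw [h0, Subgroup.mem_bot]; exact hc.1)
    (by rw [h0, Subgroup.mem_bot]; exact fr.hz')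
  rw [h0, Subgroup.mem_bot] at h1
  exact hc.2 (by rw [eq_inv_of_mul_eq_one_left h1, inv_eq_of_mul_eq_one_left (h.z3_sq (z_mono (by norm_num) fr.hz))])

theorem Frame.z2_cases (fr : Frame W z1 a b) (h : Hyp W) {x : T} (hx : x ∈ Z 2) :
    x = 1 ∨ x = z1 ∨ x = a ∨ x = z1 * a := by
  by_cases hx1 : x ∈ Z 1
  · rcases fr.z1_cases h hx1 with r | r
    · exact Or.inl r
    · exact Or.inr (Or.inl r)
  · have hxa := h.z_two (i := 1) (by norm_num) hx fr.ha hx1 fr.ha'
    have hia : a⁻¹ = a := inv_eq_of_mul_eq_one_left (h.z3_sq (z_mono (by norm_num) fr.ha))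
    rcases fr.z1_cases h hxa with r | r
    · exact Or.inr (Or.inr (Or.inl (by rw [eq_inv_of_mul_eq_one_left r, hia])))
    · exact Or.inr (Or.inr (Or.inr (by rw [← r, mul_assoc, h.z3_sq (z_mono (by norm_num) fr.ha), mul_one])))

omit [Finite T] in
theorem conj_trans {u v c d d' : T} (h1 : v * c * v⁻¹ = d) (h2 : u * d * u⁻¹ = d') :
    (u * v) * c * (u * v)⁻¹ = d' := by
  rw [← h2, ← h1]; group

omit [Finite T] in
theorem conj_mul' {u c d c' d' : T} (h1 : u * c * u⁻¹ = c') (h2 : u * d * u⁻¹ = d') :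
    u * (c * d) * u⁻¹ = c' * d' := by
  rw [← h1, ← h2]; group

theorem Hyp.dihedral (h : Hyp W) [W.Normal] : Nonempty (T ⧸ W ≃* DihedralGroup 4) := by
  obtain ⟨z1, a, b, fr⟩ := h.exists_frame
  have hz3 : z1 * z1 = 1 := h.z3_sq (z_mono (by norm_num) fr.hz)
  have ha3 : a * a = 1 := h.z3_sq (z_mono (by norm_num) fr.ha)
  obtain ⟨r, hra, hrb⟩ := h.exists_act fr.ha fr.ha' fr.hb fr.hb' fr.hz fr.ha
  obtain ⟨s, hsa, hsb⟩ := h.exists_act fr.ha fr.ha' fr.hb fr.hb' fr.hz (one_mem _)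
  rw [one_mul] at hsb
  have hW : ∀ u : T, u * a * u⁻¹ = a → u * b * u⁻¹ = b → (u : T ⧸ W) = 1 := fun u h1 h2 =>
    (QuotientGroup.eq_one_iff u).2 (h.mem_W_of_fix (h.fix_z2 fr.ha fr.ha' h1) fr.hb fr.hb' h2)
  have hfix := fun u : T => fix_z1 fr.hz u
  -- conjugation by `r * r`
  have h2a : (r * r) * a * (r * r)⁻¹ = a :=
    conj_trans hra (by rw [conj_mul' (hfix r) hra, ← mul_assoc, hz3, one_mul])
  have h2b : (r * r) * b * (r * r)⁻¹ = z1 * b :=
    conj_trans hrb (by rw [conj_mul' hra hrb, mul_assoc, ← mul_assoc a, ha3, one_mul])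
  have h4a : (r * r * (r * r)) * a * (r * r * (r * r))⁻¹ = a := conj_trans h2a h2a
  have h4b : (r * r * (r * r)) * b * (r * r * (r * r))⁻¹ = b :=
    conj_trans h2b (by rw [conj_mul' (hfix _) h2b, ← mul_assoc, hz3, one_mul])
  have hr2 : ((r : T ⧸ W)) ^ 2 ≠ 1 := by
    rw [sq, ← QuotientGroup.mk_mul, Ne, QuotientGroup.eq_one_iff]
    intro hm
    have := h.mem_W.1 hm b fr.hb
    rw [h2b] at this
    exact fr.hz' (mul_eq_right.1 this)
  have hord : orderOf (r : T ⧸ W) = 2 ^ 2 := by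
    refine orderOf_eq_prime_pow (p := 2) (n := 1) (by rwa [pow_one]) ?_
    rw [show (2 : ℕ) ^ (1 + 1) = 2 + 2 by norm_num, pow_add, sq, ← QuotientGroup.mk_mul, ← QuotientGroup.mk_mul]
    exact hW _ h4a h4b
  have hs2 : (s : T ⧸ W) * s = 1 := by
    rw [← QuotientGroup.mk_mul]
    exact hW _ (conj_trans hsa (by rw [conj_mul' (hfix s) hsa, ← mul_assoc, hz3, one_mul])) (conj_trans hsb hsb)
  have hsr : (s : T ⧸ W) * r * s * r = 1 := by
    simp only [← QuotientGroup.mk_mul]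
    have hflip : s * (z1 * a) * s⁻¹ = a := by rw [conj_mul' (hfix s) hsa, ← mul_assoc, hz3, one_mul]
    have hflip' : r * (z1 * a) * r⁻¹ = a := by rw [conj_mul' (hfix r) hra, ← mul_assoc, hz3, one_mul]
    refine hW _ ?_ ?_
    · -- on `a`
      exact conj_trans hra (conj_trans hflip (conj_trans hra hflip))
    · -- on `b`
      refine conj_trans hrb (conj_trans (conj_mul' hsa hsb) (conj_trans
        (conj_mul' hflip' hrb) (d' := b) ?_))
      rw [show a * (a * b) = b by rw [← mul_assoc, ha3, one_mul], hsb]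
  have hinv : (s : T ⧸ W) * r * (s : T ⧸ W)⁻¹ = (r : T ⧸ W)⁻¹ := by
    rw [inv_eq_of_mul_eq_one_left hs2]
    exact eq_inv_of_mul_eq_one_left hsr
  refine CfsgLib.DihedralShape.equiv_dihedral hord ?_ hs2 ?_ hinv
  · rw [← Subgroup.index_eq_card, h.index_W]
  · intro hm
    obtain ⟨i, hi⟩ := hm
    have hcm : (s : T ⧸ W) * r = r * s := hi ▸ ((Commute.refl (r : T ⧸ W)).zpow_left i).eq
    rw [hcm, mul_inv_cancel_right] at hinv
    exact hr2 (by rw [sq]; exact eq_inv_iff_mul_eq_one.1 hinv)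

end CfsgLib.RudvalisW
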