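import Mathlib
import Cfsg.Agent.Lib.RudvalisWCenter

/-!
Two-groups of order `2 ^ 14` with the shape of `RudvalisW`: the commutator form on the centralizer
of the third centre, and its centre.
-/

set_option autoImplicit false

namespace CfsgLib.RudvalisW

open Subgroup
open scoped commutatorElement

variable {T : Type*} [Group T] [Finite T] {W L : Subgroup T} {e : T}

local notation "Z" => Subgroup.upperCentralSeries T

/-- The commutator form modulo the second centre. -/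
noncomputable def form (x y : T) : ZMod 2 := ind (Z 2) (x * y * x⁻¹ * y⁻¹)

/-- The zero set on `W` of an additive function. -/
def zeroSet (W : Subgroup T) (φ : T → ZMod 2) (hφ : ∀ x ∈ W, ∀ y ∈ W, φ (x * y) = φ x + φ y) :
    Subgroup T where
  carrier := {x | x ∈ W ∧ φ x = 0}
  one_mem' := ⟨one_mem W, by
    have := hφ 1 (one_mem W) 1 (one_mem W)
    rw [mul_one] at this
    exact left_eq_add.1 this⟩
  mul_mem' {x y} hx hy := ⟨mul_mem hx.1 hy.1, by rw [hφ x hx.1 y hy.1, hx.2, hy.2, add_zero]⟩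
  inv_mem' {x} hx := ⟨inv_mem hx.1, by
    have h1 := hφ 1 (one_mem W) 1 (one_mem W)
    rw [mul_one] at h1
    have := hφ x hx.1 x⁻¹ (inv_mem hx.1)
    rwa [mul_inv_cancel, left_eq_add.1 h1, hx.2, zero_add, eq_comm] at this⟩

theorem Hyp.ind_z2_mul (h : Hyp W) {x y : T} (hx : x ∈ Z 3) (hy : y ∈ Z 3) :
    ind (Z 2) (x * y) = ind (Z 2) x + ind (Z 2) y :=
  ind_mul (h.z_two (by norm_num) hx hy)

theorem Hyp.form_mul_right (h : Hyp W) {x y v : T} (hx : x ∈ W) (hy : y ∈ W) (hv : v ∈ W) :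
    form x (y * v) = form x y + form x v := by
  have hc := h.comm_mem hx hv
  have e : x * (y * v) * x⁻¹ * (y * v)⁻¹ =
      (x * y * x⁻¹ * y⁻¹) * (y * (x * v * x⁻¹ * v⁻¹) * y⁻¹) := by group
  unfold form
  rw [e, h.mem_W.1 hy _ hc, h.ind_z2_mul (h.comm_mem hx hy) hc]

theorem Hyp.form_comm (h : Hyp W) {x y : T} (hx : x ∈ W) (hy : y ∈ W) : form x y = form y x := by
  unfold form
  rw [show y * x * y⁻¹ * x⁻¹ = (x * y * x⁻¹ * y⁻¹)⁻¹ by group,
    inv_eq_of_mul_eq_one_left (h.z3_sq (h.comm_mem hx hy))]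

theorem Hyp.form_mul_left (h : Hyp W) {x y v : T} (hx : x ∈ W) (hy : y ∈ W) (hv : v ∈ W) :
    form (x * y) v = form x v + form y v := by
  rw [h.form_comm (mul_mem hx hy) hv, h.form_mul_right hv hx hy, h.form_comm hv hx, h.form_comm hv hy]

theorem Hyp.form_z3 (h : Hyp W) {x c : T} (hx : x ∈ W) (hc : c ∈ Z 3) : form x c = 0 :=
  ind_of_mem (by rw [h.mem_W.1 hx c hc, mul_inv_cancel]; exact one_mem _)

omit [Finite T] in
theorem form_self (x : T) : form x x = 0 :=
  ind_of_mem (by rw [mul_inv_cancel_right, mul_inv_cancel]; exact one_mem _)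

omit [Finite T] in
theorem form_conj (g x y : T) : form (g * x * g⁻¹) (g * y * g⁻¹) = form x y := by
  unfold form
  have e : g * x * g⁻¹ * (g * y * g⁻¹) * (g * x * g⁻¹)⁻¹ * (g * y * g⁻¹)⁻¹ =
      g * (x * y * x⁻¹ * y⁻¹) * g⁻¹ := by group
  rw [e]
  by_cases hm : x * y * x⁻¹ * y⁻¹ ∈ Z 2
  · rw [ind_of_mem hm, ind_of_mem (Subgroup.Normal.conj_mem inferInstance _ hm g)]
  · rw [ind_of_not hm, ind_of_not fun hg => hm ?_]
    have := Subgroup.Normal.conj_mem inferInstance _ hg g⁻¹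
    simpa [mul_assoc] using this

/-- Conjugating an argument by an element of `W` does not change the form. -/
theorem Hyp.form_conj_mem (h : Hyp W) {x y v : T} (hx : x ∈ W) (hy : y ∈ W) (hv : v ∈ W) :
    form x (v * y * v⁻¹) = form x y := by
  rw [show v * y * v⁻¹ = (v * y * v⁻¹ * y⁻¹) * y by group,
    h.form_mul_right hx (h.z3_le_W (h.comm_mem hv hy)) hy, h.form_z3 hx (h.comm_mem hv hy), zero_add]

theorem Hyp.form_cross (h : Hyp W) {w : T} (hw : w ∈ W) {g k : T} :
    form (g * w * g⁻¹) (k * w * k⁻¹) = form w ((g⁻¹ * k) * w * (g⁻¹ * k)⁻¹) := by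
  rw [← form_conj g w]
  congr 1
  group

theorem Hyp.form_inv (h : Hyp W) {w : T} (hw : w ∈ W) (u : T) :
    form w (u⁻¹ * w * u⁻¹⁻¹) = form w (u * w * u⁻¹) := by
  rw [← form_conj u w, h.form_comm hw (h.normalW.conj_mem w hw u)]
  congr 1
  group

theorem Hyp.form_congr (h : Hyp W) {w : T} (hw : w ∈ W) {u v : T} (huv : (u : T ⧸ W) = (v : T ⧸ W)) :
    form w (u * w * u⁻¹) = form w (v * w * v⁻¹) := by
  have hn := h.normalW
  have hm : v * u⁻¹ ∈ W := by
    have := hn.conj_mem _ (QuotientGroup.eq.1 huv) u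
    simpa [mul_assoc] using this
  rw [show v * w * v⁻¹ = (v * u⁻¹) * (u * w * u⁻¹) * (v * u⁻¹)⁻¹ by group,
    h.form_conj_mem hw (hn.conj_mem w hw u) hm]

open Classical in
theorem Hyp.gen (h : Hyp W) (pk : Pick W L e) {w : T} (hw : w ∈ W)
    (hδ : ∀ g : T, lam W L w (g : T ⧸ W) = if (g : T ⧸ W) = ((1 : T) : T ⧸ W) then 1 else 0)
    (K : Subgroup T) (hK : K ≤ W) (h3 : Z 3 ≤ K) (hc : ∀ g : T, g * w * g⁻¹ ∈ K) : W ≤ K := by
  classical
  haveI := h.normalW
  haveI : Fintype (T ⧸ W) := Fintype.ofFinite _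
  have hall : ∀ φ : T ⧸ W → ZMod 2, ∃ x ∈ K, lam W L x = φ := by
    intro φ
    rw [← Finset.univ_sum_single φ (I := T ⧸ W)]
    refine Finset.sum_induction _ (fun φ => ∃ x ∈ K, lam W L x = φ) ?_ ?_ ?_
    · rintro φ ψ ⟨x, hx, rfl⟩ ⟨y, hy, rfl⟩
      exact ⟨x * y, mul_mem hx hy, pk.pre.lam_mul (hK hx) (hK hy)⟩
    · exact ⟨1, one_mem _, funext fun q => ind_of_mem (by simp)⟩
    · intro q _
      obtain ⟨g, rfl⟩ := QuotientGroup.mk_surjective q
      rcases (by decide : ∀ c : ZMod 2, c = 0 ∨ c = 1) (φ (g : T ⧸ W)) with r | r <;> rw [r]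
      · refine ⟨1, one_mem _, ?_⟩
        rw [Pi.single_zero]
        exact funext fun q => ind_of_mem (by simp)
      · refine ⟨g⁻¹ * w * g⁻¹⁻¹, hc g⁻¹, funext fun u' => ?_⟩
        obtain ⟨u, rfl⟩ := QuotientGroup.mk_surjective u'
        rw [pk.pre.lam_conj hw, hδ, Pi.single_apply]
        congr 1
        rw [eq_iff_iff, QuotientGroup.mk_mul, QuotientGroup.mk_inv, QuotientGroup.mk_one, mul_inv_eq_one]
  intro x hx
  obtain ⟨y, hy, hxy⟩ := hall (lam W L x)
  have : x * y⁻¹ ∈ Z 3 := (pk.lam_eq_zero h (mul_mem hx (inv_mem (hK hy)))).1 (by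
    rw [pk.pre.lam_mul hx (inv_mem (hK hy)), pk.lam_inv (hK hy), hxy]
    funext q
    exact CharTwo.add_self_eq_zero _)
  simpa using K.mul_mem (h3 this) hy

/-- The centre of `W` is the third centre. -/
theorem Hyp.center_eq (h : Hyp W) : (Subgroup.center ↥W).map W.subtype = Z 3 := by
  classical
  haveI := h.normalW
  haveI : Fintype (T ⧸ W) := Fintype.ofFinite _
  have hmem : ∀ {x : T} (hx : x ∈ W),
      x ∈ (Subgroup.center ↥W).map W.subtype ↔ ∀ y ∈ W, y * x = x * y := by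
    intro x hx
    constructor
    · rintro ⟨u, hu, rfl⟩ y hy
      exact congrArg Subtype.val (Subgroup.mem_center_iff.1 hu ⟨y, hy⟩)
    · exact fun hc => ⟨⟨x, hx⟩, Subgroup.mem_center_iff.2 fun y => Subtype.ext (hc y y.2), rfl⟩
  have hle : Z 3 ≤ (Subgroup.center ↥W).map W.subtype := fun c hc =>
    (hmem (h.z3_le_W hc)).2 fun y hy => h.z3_comm hy hc
  by_contra hne
  have h4 : Z 4 ≤ (Subgroup.center ↥W).map W.subtype := by
    refine h.z4_le _ (lt_of_not_ge fun hc => hne (Subgroup.eq_of_le_of_card_ge hle ?_).symm)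
    rw [h.card_z (by norm_num)]
    exact hc
  obtain ⟨L, e, pk⟩ := h.exists_pick
  have he : ∀ y ∈ W, y * e = e * y := (hmem pk.eW).1 (h4 pk.e4)
  obtain ⟨z1, a, b, fr⟩ := h.exists_frame
  obtain ⟨w, hw, hwδ⟩ := pk.lam_surj h (fun q => if q = ((1 : T) : T ⧸ W) then 1 else 0)
  have hδ : ∀ g : T, lam W L w (g : T ⧸ W) = if (g : T ⧸ W) = ((1 : T) : T ⧸ W) then 1 else 0 :=
    fun g => congrFun hwδ g
  set f : T → ZMod 2 := fun u => form w (u * w * u⁻¹) with hf
  have hcong : ∀ {u v : T}, (u : T ⧸ W) = (v : T ⧸ W) → f u = f v := fun huv => h.form_congr hw huv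
  have hz3 : z1 * z1 = 1 := h.z3_sq (z_mono (by norm_num) fr.hz)
  have hfix := fun u : T => fix_z1 fr.hz u
  -- elements fixing the second centre
  have hfix2 : ∀ u : T, u * a * u⁻¹ = a → f u = 0 := by
    intro u hua
    have h2 := h.fix_z2 fr.ha fr.ha' hua
    have hβm : u * b * u⁻¹ * b⁻¹ ∈ Z 2 := conj_div_mem fr.hb u
    have hub : u * b * u⁻¹ = u * b * u⁻¹ * b⁻¹ * b := by group
    generalize u * b * u⁻¹ * b⁻¹ = β at hβm hub
    have hu2 : u * u ∈ W := by
      refine h.mem_W_of_fix (fun c hc => conj_trans (h2 c hc) (h2 c hc)) fr.hb fr.hb' (conj_trans hub ?_)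
      rw [conj_mul' (h2 β hβm) hub, ← mul_assoc, h.z3_sq (z_mono (by norm_num) hβm), one_mul]
    by_contra hne0
    have hx := h.normalW.conj_mem w hw u
    have hcm := h.comm_mem hw hx
    have hc2 : w * (u * w * u⁻¹) * w⁻¹ * (u * w * u⁻¹)⁻¹ ∉ Z 2 := fun hm => hne0 (ind_of_mem hm)
    have hcs := h.z3_sq hcm
    have huc : u * (w * (u * w * u⁻¹) * w⁻¹ * (u * w * u⁻¹)⁻¹) * u⁻¹ =
        w * (u * w * u⁻¹) * w⁻¹ * (u * w * u⁻¹)⁻¹ := by
      have hd : (u * u) * w * (u * u)⁻¹ * w⁻¹ ∈ Z 3 := h.comm_mem hu2 hw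
      generalize hdd : (u * u) * w * (u * u)⁻¹ * w⁻¹ = d at hd
      have e2 : u * (u * w * u⁻¹) * u⁻¹ = d * w := by rw [← hdd]; group
      calc u * (w * (u * w * u⁻¹) * w⁻¹ * (u * w * u⁻¹)⁻¹) * u⁻¹
          = (u * w * u⁻¹) * (u * (u * w * u⁻¹) * u⁻¹) * (u * w * u⁻¹)⁻¹ * (u * (u * w * u⁻¹) * u⁻¹)⁻¹ := by group
        _ = (u * w * u⁻¹) * d * w * (u * w * u⁻¹)⁻¹ * w⁻¹ * d⁻¹ := by rw [e2]; group
        _ = d * ((u * w * u⁻¹) * w * (u * w * u⁻¹)⁻¹ * w⁻¹) * d⁻¹ := by rw [h.z3_comm hx hd]; group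
        _ = ((u * w * u⁻¹) * w * (u * w * u⁻¹)⁻¹ * w⁻¹) := h.mem_W.1 (h.z3_le_W hd) _ (h.comm_mem hx hw)
        _ = (w * (u * w * u⁻¹) * w⁻¹ * (u * w * u⁻¹)⁻¹)⁻¹ := by group
        _ = _ := inv_eq_of_mul_eq_one_left hcs
    have huW : u ∈ W := h.mem_W_of_fix h2 hcm hc2 huc
    exact hne0 ((hcong (v := 1) (by rw [QuotientGroup.eq]; simpa using huW)).trans
      (by simp only [hf, one_mul, inv_one, mul_one]; exact form_self w))
  obtain ⟨z, hza, hzb⟩ := h.exists_act fr.ha fr.ha' fr.hb fr.hb' (one_mem (Z 1))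
    (z_mono (by norm_num) fr.hz : z1 ∈ Z 2)
  rw [one_mul] at hza
  obtain ⟨s, hsa, hsb⟩ := h.exists_act fr.ha fr.ha' fr.hb fr.hb' fr.hz (one_mem (Z 2))
  rw [one_mul] at hsb
  obtain ⟨r, hra, hrb⟩ := h.exists_act fr.ha fr.ha' fr.hb fr.hb' fr.hz fr.ha
  have hclass : ∀ {u v : T}, u * a * u⁻¹ = v * a * v⁻¹ → u * b * u⁻¹ = v * b * v⁻¹ →
      (u : T ⧸ W) = (v : T ⧸ W) := fun h1 h2 => h.act_unique fr.ha fr.ha' fr.hb fr.hb' h1 h2
  have hz_a : ∀ {u : T} {c : T}, u * a * u⁻¹ = c → c ∈ Z 2 → (z * u) * a * (z * u)⁻¹ = c :=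
    fun h1 h2 => conj_trans h1 (h.fix_z2 fr.ha fr.ha' hza _ h2)
  have hz1a : z1 * a ∈ Z 2 := mul_mem (z_mono (by norm_num) fr.hz) fr.ha
  have hzs_a : (z * s) * a * (z * s)⁻¹ = z1 * a := hz_a hsa hz1a
  have hzs_b : (z * s) * b * (z * s)⁻¹ = z1 * b := conj_trans hsb hzb
  have hzr_a : (z * r) * a * (z * r)⁻¹ = z1 * a := hz_a hra hz1a
  have hzr_b : (z * r) * b * (z * r)⁻¹ = (z1 * a) * b := by
    refine conj_trans hrb ?_
    rw [conj_mul' hza hzb, ← mul_assoc, ← h.z3_comm (h.z3_le_W (z_mono (by norm_num) fr.hz))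
      (z_mono (by norm_num) fr.ha)]
  -- the only possibly non-zero values
  have hfr : f r = f (z * r) := by
    have hflip : r * (z1 * a) * r⁻¹ = a := by rw [conj_mul' (hfix r) hra, ← mul_assoc, hz3, one_mul]
    have h1 : ((r⁻¹ : T) : T ⧸ W) = ((z * r : T) : T ⧸ W) := by
      refine hclass ?_ ?_
      · rw [hzr_a]
        calc r⁻¹ * a * r⁻¹⁻¹ = r⁻¹ * (r * (z1 * a) * r⁻¹) * r := by rw [hflip]; group
          _ = z1 * a := by group
      · rw [hzr_b]
        have : r * ((z1 * a) * b) * r⁻¹ = b := by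
          rw [conj_mul' hflip hrb, ← mul_assoc, h.z3_sq (z_mono (by norm_num) fr.ha), one_mul]
        calc r⁻¹ * b * r⁻¹⁻¹ = r⁻¹ * (r * (z1 * a * b) * r⁻¹) * r := by rw [this]; group
          _ = z1 * a * b := by group
    rw [← hcong h1, hf]
    exact (h.form_inv hw r).symm
  have hsum : ∀ x ∈ W, form w x = ∑ q : T ⧸ W, lam W L x q * f q.out := by
    have hadd : ∀ x ∈ W, ∀ y ∈ W, (form w (x * y) + ∑ q : T ⧸ W, lam W L (x * y) q * f q.out) =
        (form w x + ∑ q : T ⧸ W, lam W L x q * f q.out) + (form w y + ∑ q : T ⧸ W, lam W L y q * f q.out) := by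
      intro x hx y hy
      rw [h.form_mul_right hw hx hy, pk.pre.lam_mul hx hy]
      simp only [Pi.add_apply, add_mul, Finset.sum_add_distrib]
      abel
    have hK := h.gen pk hw hδ
      (zeroSet W (fun x => form w x + ∑ q : T ⧸ W, lam W L x q * f q.out) hadd) (fun x hx => hx.1)
      (fun c hc => ⟨h.z3_le_W hc, by
        simp only [h.form_z3 hw hc, (pk.lam_eq_zero h (h.z3_le_W hc)).2 hc, Pi.zero_apply, zero_mul,
          Finset.sum_const_zero, add_zero]⟩)
      (fun g => ⟨h.normalW.conj_mem w hw g, by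
        dsimp only
        rw [Finset.sum_eq_single ((g⁻¹ : T) : T ⧸ W)]
        · rw [pk.pre.lam_conj hw, hδ, if_pos (by simp), one_mul,
            hcong (QuotientGroup.out_eq' ((g⁻¹ : T) : T ⧸ W))]
          show form w (g * w * g⁻¹) + form w (g⁻¹ * w * g⁻¹⁻¹) = 0
          rw [h.form_inv hw g]
          exact CharTwo.add_self_eq_zero _
        · intro q _ hq
          obtain ⟨u, rfl⟩ := QuotientGroup.mk_surjective q
          rw [pk.pre.lam_conj hw, hδ, if_neg, zero_mul]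
          intro hu
          refine hq ?_
          rw [QuotientGroup.mk_mul, QuotientGroup.mk_one] at hu
          rw [QuotientGroup.mk_inv]
          exact eq_inv_of_mul_eq_one_left hu
        · exact fun hn => absurd (Finset.mem_univ _) hn⟩)
    intro x hx
    exact CharTwo.add_eq_zero.1 (hK hx).2
  have hsz : f s + f (z * s) = 0 := by
    have he0 : form w e = 0 := ind_of_mem (by
      rw [he w hw, mul_inv_cancel_right, mul_inv_cancel]; exact one_mem _)
    have hlam : ∀ q : T ⧸ W, lam W L e q = 1 := fun q => ind_of_not fun hm => pk.eL (by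
      have hd : q.out * e * q.out⁻¹ * e⁻¹ ∈ L := pk.zL (conj_div_mem pk.e4 _)
      have := L.mul_mem (inv_mem hd) hm
      simpa [mul_assoc] using this)
    have h0 := hsum e pk.eW
    simp only [he0, hlam, one_mul] at h0
    rw [← Finset.sum_subset (Finset.subset_univ
      ({(s : T ⧸ W), ((z * s : T) : T ⧸ W), (r : T ⧸ W), ((z * r : T) : T ⧸ W)} : Finset (T ⧸ W)))] at h0
    · have hne : ∀ {u v β γ : T}, u * b * u⁻¹ = β * b → v * b * v⁻¹ = γ * b → β ≠ γ →
          (u : T ⧸ W) ≠ (v : T ⧸ W) := by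
        intro u v β γ hu hv hβγ huv
        have hm := h.mem_W.1 (QuotientGroup.eq.1 huv) b fr.hb
        refine hβγ (mul_right_cancel (b := b) ?_)
        rw [← hu, ← hv]
        calc u * b * u⁻¹ = u * (u⁻¹ * v * b * (u⁻¹ * v)⁻¹) * u⁻¹ := by rw [hm]
          _ = v * b * v⁻¹ := by group
      have hsb' : s * b * s⁻¹ = 1 * b := by rw [one_mul]; exact hsb
      have ha1 : a ≠ 1 := fun e => fr.ha' (e ▸ one_mem _)
      have hz1a1 : z1 * a ≠ 1 := fun e => fr.ha' (by
        rw [eq_inv_of_mul_eq_one_right e]; exact inv_mem fr.hz)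
      have n1 := hne hsb' hzs_b fr.hz'.symm
      have n2 := hne hsb' hrb ha1.symm
      have n3 := hne hsb' hzr_b hz1a1.symm
      have n4 := hne hzs_b hrb fun e => fr.ha' (e ▸ fr.hz)
      have n5 := hne hzs_b hzr_b fun e => ha1 (left_eq_mul.1 e)
      have n6 := hne hrb hzr_b fun e => fr.hz' (right_eq_mul.1 e)
      rw [Finset.sum_insert (by simp only [Finset.mem_insert, Finset.mem_singleton, not_or]; exact ⟨n1, n2, n3⟩), Finset.sum_insert (by simp only [Finset.mem_insert, Finset.mem_singleton, not_or]; exact ⟨n4, n5⟩),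
        Finset.sum_insert (by simp only [Finset.mem_insert, Finset.mem_singleton, not_or]; exact n6), Finset.sum_singleton,
        hcong (QuotientGroup.out_eq' (s : T ⧸ W)), hcong (QuotientGroup.out_eq' ((z * s : T) : T ⧸ W)),
        hcong (QuotientGroup.out_eq' (r : T ⧸ W)), hcong (QuotientGroup.out_eq' ((z * r : T) : T ⧸ W)),
        ← hfr, CharTwo.add_self_eq_zero, add_zero] at h0
      exact h0.symm
    · intro q _ hq
      obtain ⟨u, rfl⟩ := QuotientGroup.mk_surjective q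
      rw [hcong (QuotientGroup.out_eq' (u : T ⧸ W))]
      refine hfix2 u ?_
      by_contra hua
      have hα : u * a * u⁻¹ = z1 * a := by
        rcases fr.z1_cases h (conj_div_mem fr.ha u) with e | e
        · exact absurd (mul_inv_eq_one.1 e) hua
        · exact eq_mul_of_mul_inv_eq e
      refine hq ?_
      simp only [Finset.mem_insert, Finset.mem_singleton]
      rcases fr.z2_cases h (conj_div_mem fr.hb u) with e | e | e | e
      · exact Or.inl (hclass (by rw [hα, hsa]) (by rw [mul_inv_eq_one.1 e, hsb]))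
      · exact Or.inr (Or.inl (hclass (by rw [hα, hzs_a]) (by rw [eq_mul_of_mul_inv_eq e, hzs_b])))
      · exact Or.inr (Or.inr (Or.inl (hclass (by rw [hα, hra]) (by rw [eq_mul_of_mul_inv_eq e, hrb]))))
      · exact Or.inr (Or.inr (Or.inr (hclass (by rw [hα, hzr_a]) (by rw [eq_mul_of_mul_inv_eq e, hzr_b]))))
  have hpair : ∀ u : T, f u + f (z * u) = 0 := by
    intro u
    have hβm := conj_div_mem fr.hb u
    have hub : u * b * u⁻¹ = u * b * u⁻¹ * b⁻¹ * b := by group
    rcases fr.z1_cases h (conj_div_mem fr.ha u) with e | e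
    · have hua := mul_inv_eq_one.1 e
      rw [hfix2 u hua, hfix2 (z * u) (hz_a hua fr.ha), add_zero]
    · have hua := eq_mul_of_mul_inv_eq e
      have hzua := hz_a hua hz1a
      generalize u * b * u⁻¹ * b⁻¹ = β at hβm hub
      have hzub : (z * u) * b * (z * u)⁻¹ = β * (z1 * b) :=
        conj_trans hub (conj_mul' (h.fix_z2 fr.ha fr.ha' hza β hβm) hzb)
      rcases fr.z2_cases h hβm with e' | e' | e' | e' <;> rw [e'] at hub hzub
      · rw [hcong (hclass (by rw [hua, hsa]) (by rw [hub, one_mul, hsb]) : (u : T ⧸ W) = (s : T ⧸ W)),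
          hcong (hclass (by rw [hzua, hzs_a]) (by rw [hzub, one_mul, hzs_b]) :
            ((z * u : T) : T ⧸ W) = ((z * s : T) : T ⧸ W))]
        exact hsz
      · rw [hcong (hclass (by rw [hua, hzs_a]) (by rw [hub, hzs_b]) : (u : T ⧸ W) = ((z * s : T) : T ⧸ W)),
          hcong (hclass (by rw [hzua, hsa]) (by rw [hzub, ← mul_assoc, hz3, one_mul, hsb]) :
            ((z * u : T) : T ⧸ W) = (s : T ⧸ W)), add_comm]
        exact hsz
      · rw [hcong (hclass (by rw [hua, hra]) (by rw [hub, hrb]) : (u : T ⧸ W) = (r : T ⧸ W)),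
          hcong (hclass (by rw [hzua, hzr_a]) (by
            rw [hzub, hzr_b, ← mul_assoc, ← h.z3_comm (h.z3_le_W (z_mono (by norm_num) fr.hz))
              (z_mono (by norm_num) fr.ha)]) : ((z * u : T) : T ⧸ W) = ((z * r : T) : T ⧸ W)), ← hfr]
        exact CharTwo.add_self_eq_zero _
      · rw [hcong (hclass (by rw [hua, hzr_a]) (by rw [hub, hzr_b]) : (u : T ⧸ W) = ((z * r : T) : T ⧸ W)),
          hcong (hclass (by rw [hzua, hra]) (by
            rw [hzub, hrb, h.z3_comm (h.z3_le_W (z_mono (by norm_num) fr.hz)) (z_mono (by norm_num) fr.ha),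
              mul_assoc, ← mul_assoc z1, hz3, one_mul]) : ((z * u : T) : T ⧸ W) = (r : T ⧸ W)), ← hfr]
        exact CharTwo.add_self_eq_zero _
  -- the form is invariant under `z`
  have hzn : ∀ g : T, ((z * g : T) : T ⧸ W) = ((g * z : T) : T ⧸ W) := by
    intro g
    refine hclass ?_ ?_
    · rw [hz_a rfl (Subgroup.Normal.conj_mem inferInstance a fr.ha g), conj_trans hza rfl]
    · have hβm := conj_div_mem fr.hb g
      have hgb : g * b * g⁻¹ = g * b * g⁻¹ * b⁻¹ * b := by group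
      generalize g * b * g⁻¹ * b⁻¹ = β at hβm hgb
      rw [conj_trans hgb (conj_mul' (h.fix_z2 fr.ha fr.ha' hza β hβm) hzb),
        conj_trans hzb (conj_mul' (hfix g) hgb), ← mul_assoc, ← mul_assoc,
        h.z3_comm (h.z3_le_W (z_mono (by norm_num) hβm)) (z_mono (by norm_num) fr.hz)]
  have hγ : ∀ x ∈ W, ∀ y ∈ W, form x y + form (z * x * z⁻¹) y = 0 := by
    intro x hx
    have hzx := h.normalW.conj_mem x hx z
    have haddy : ∀ u ∈ W, ∀ v ∈ W, form x (u * v) + form (z * x * z⁻¹) (u * v) =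
        (form x u + form (z * x * z⁻¹) u) + (form x v + form (z * x * z⁻¹) v) := by
      intro u hu v hv
      rw [h.form_mul_right hx hu hv, h.form_mul_right hzx hu hv]
      abel
    refine fun y hy => (h.gen pk hw hδ (zeroSet W (fun y => form x y + form (z * x * z⁻¹) y) haddy)
      (fun v hv => hv.1) (fun c hc => ⟨h.z3_le_W hc, by
        simp only [h.form_z3 hx hc, h.form_z3 hzx hc, add_zero]⟩)
      (fun k => ⟨h.normalW.conj_mem w hw k, ?_⟩) hy).2
    have hk := h.normalW.conj_mem w hw k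
    have haddx : ∀ u ∈ W, ∀ v ∈ W,
        form (u * v) (k * w * k⁻¹) + form (z * (u * v) * z⁻¹) (k * w * k⁻¹) =
        (form u (k * w * k⁻¹) + form (z * u * z⁻¹) (k * w * k⁻¹)) +
          (form v (k * w * k⁻¹) + form (z * v * z⁻¹) (k * w * k⁻¹)) := by
      intro u hu v hv
      rw [show z * (u * v) * z⁻¹ = (z * u * z⁻¹) * (z * v * z⁻¹) by group, h.form_mul_left hu hv hk,
        h.form_mul_left (h.normalW.conj_mem u hu z) (h.normalW.conj_mem v hv z) hk]
      abel
    refine (h.gen pk hw hδ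
      (zeroSet W (fun x => form x (k * w * k⁻¹) + form (z * x * z⁻¹) (k * w * k⁻¹)) haddx)
      (fun v hv => hv.1) (fun c hc => ⟨h.z3_le_W hc, ?_⟩)
      (fun g => ⟨h.normalW.conj_mem w hw g, ?_⟩) hx).2
    · have hzc : z * c * z⁻¹ ∈ Z 3 := Subgroup.Normal.conj_mem inferInstance c hc z
      show form c _ + form (z * c * z⁻¹) _ = 0
      rw [h.form_comm (h.z3_le_W hc) hk, h.form_z3 hk hc, h.form_comm (h.z3_le_W hzc) hk, h.form_z3 hk hzc,
        add_zero]
    · show form (g * w * g⁻¹) _ + form (z * (g * w * g⁻¹) * z⁻¹) _ = 0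
      rw [show z * (g * w * g⁻¹) * z⁻¹ = (z * g) * w * (z * g)⁻¹ by group, h.form_cross hw, h.form_cross hw]
      show f (g⁻¹ * k) + f ((z * g)⁻¹ * k) = 0
      have hzz : ((z * z : T) : T ⧸ W) = ((1 : T) : T ⧸ W) := by
        refine hclass ?_ ?_
        · rw [conj_trans hza hza]; group
        · rw [conj_trans hzb (conj_mul' (hfix z) hzb), ← mul_assoc, hz3, one_mul]; group
      rw [QuotientGroup.mk_mul, QuotientGroup.mk_one] at hzz
      rw [hcong (v := z * (g⁻¹ * k)) (u := (z * g)⁻¹ * k) (by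
        simp only [QuotientGroup.mk_mul, QuotientGroup.mk_inv, mul_inv_rev]
        rw [eq_inv_of_mul_eq_one_left hzz |>.symm]
        have := hzn g⁻¹
        simp only [QuotientGroup.mk_mul, QuotientGroup.mk_inv] at this
        rw [← this, mul_assoc])]
      exact hpair _
  -- a large radical
  let R : Subgroup T :=
    { carrier := {x | x ∈ W ∧ ∀ y ∈ W, form x y = 0}
      one_mem' := ⟨one_mem W, fun y _ => ind_of_mem (by simp)⟩
      mul_mem' := fun {x y} hx hy => ⟨mul_mem hx.1 hy.1, fun v hv => by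
        rw [h.form_mul_left hx.1 hy.1 hv, hx.2 v hv, hy.2 v hv, add_zero]⟩
      inv_mem' := fun {x} hx => ⟨inv_mem hx.1, fun v hv => by
        have := h.form_mul_left hx.1 (inv_mem hx.1) hv
        rw [mul_inv_cancel, hx.2 v hv, zero_add] at this
        rw [← this]
        exact ind_of_mem (by simp)⟩ }
  have hR3 : Z 3 ≤ R := fun c hc => ⟨h.z3_le_W hc, fun y hy => by
    rw [h.form_comm (h.z3_le_W hc) hy, h.form_z3 hy hc]⟩
  have hRW : R ≤ W := fun x hx => hx.1
  have hzW : z ∉ W := fun hm => fr.hz' (mul_eq_right.1 (hzb.symm.trans (h.mem_W.1 hm b fr.hb)))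
  have hz2W : z * z ∈ W := by
    refine h.mem_W_of_fix (h.fix_z2 fr.ha fr.ha' (conj_trans hza hza)) fr.hb fr.hb' (conj_trans hzb ?_)
    rw [conj_mul' (hfix z) hzb, ← mul_assoc, hz3, one_mul]
  have hR : 2 ^ 7 ≤ Nat.card R := by
    have := h.shift_bound hzW hz2W (H := W) le_rfl hRW fun i hi => ⟨mul_mem (h.normalW.conj_mem i hi z)
      (inv_mem hi), fun y hy => by
        have h1 := h.form_mul_left (h.normalW.conj_mem i hi z) (inv_mem hi) hy
        have h2 := h.form_mul_left hi (inv_mem hi) hy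
        have h3 : form (1 : T) y = 0 := ind_of_mem (by simp)
        rw [mul_inv_cancel, h3] at h2
        rw [h1, ← CharTwo.add_eq_zero.1 h2.symm, add_comm]
        exact hγ i hi y hy⟩
    rw [inf_eq_right.2 hR3, h.card_W, h.card_z (by norm_num)] at this
    omega
  -- enlarge the radical to a large totally isotropic subgroup
  have hext : ∀ (A : Subgroup T) (y : T), A ≤ W → y ∈ W → y ∉ A → (∀ u ∈ A, ∀ v ∈ A, form u v = 0) →
      (∀ u ∈ A, form u y = 0) → ∃ A' : Subgroup T, A ≤ A' ∧ A' ≤ W ∧ 2 * Nat.card A ≤ Nat.card A' ∧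
        (∀ u ∈ A', ∀ v ∈ A', form u v = 0) ∧ ∀ v ∈ W, (∀ u ∈ A, form v u = 0) → form v y = 0 →
          ∀ u ∈ A', form v u = 0 := by
    intro A y hA hy hyA hAA hAy
    set A' := A ⊔ Subgroup.zpowers y with hA'
    have hA'W : A' ≤ W := sup_le hA (Subgroup.zpowers_le.2 hy)
    have horth : ∀ v ∈ W, (∀ u ∈ A, form v u = 0) → form v y = 0 → ∀ u ∈ A', form v u = 0 := by
      intro v hv h1 h2 u hu
      have hsub : A' ≤ zeroSet W (form v) fun p hp q hq => h.form_mul_right hv hp hq :=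
        sup_le (fun p hp => ⟨hA hp, h1 p hp⟩) (Subgroup.zpowers_le.2 ⟨hy, h2⟩)
      exact (hsub hu).2
    refine ⟨A', le_sup_left, hA'W, two_mul_card_le (lt_of_le_of_ne le_sup_left fun e => hyA ?_), ?_, horth⟩
    · rw [e]
      exact Subgroup.mem_sup_right (Subgroup.mem_zpowers y)
    · intro u hu v hv
      refine horth u (hA'W hu) (fun p hp => ?_) ?_ v hv
      · rw [h.form_comm (hA'W hu) (hA hp)]
        exact horth p (hA hp) (hAA p hp) (hAy p hp) u hu
      · rw [h.form_comm (hA'W hu) hy]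
        exact horth y hy (fun p hp => by rw [h.form_comm hy (hA hp)]; exact hAy p hp) (form_self y) u hu
  have hfin : ∀ A : Subgroup T, R ≤ A → A ≤ W → 2 ^ 9 ≤ Nat.card A →
      (∀ u ∈ A, ∀ v ∈ A, form u v = 0) → False := fun A hRA hA hc hAA =>
    h.no_isotropic A hA (hR3.trans hRA) hc fun u hu v hv => ind_eq_zero.1 (hAA u hu v hv)
  have hRR : ∀ u ∈ R, ∀ v ∈ R, form u v = 0 := fun u hu v hv => hu.2 v (hRW hv)
  by_cases hR9 : 2 ^ 9 ≤ Nat.card R
  · exact hfin R le_rfl hRW hR9 hRR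
  obtain ⟨x, hx, hxR⟩ := SetLike.exists_of_lt (lt_of_le_of_ne hRW fun e => hR9 (by rw [e, h.card_W]; norm_num))
  obtain ⟨A1, hRA1, hA1W, hcA1, hA1, hperp⟩ := hext R x hRW hx hxR hRR fun u hu => hu.2 x hx
  by_cases h19 : 2 ^ 9 ≤ Nat.card A1
  · exact hfin A1 hRA1 hA1W h19 hA1
  set K := zeroSet W (form x) fun p hp q hq => h.form_mul_right hx hp hq with hK
  have hKc : 2 ^ 10 ≤ Nat.card K := by
    let φ : ↥W →* Multiplicative (ZMod 2) := MonoidHom.mk' (fun u => Multiplicative.ofAdd (form x (u : T)))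
      fun u v => by rw [Subgroup.coe_mul, h.form_mul_right hx u.2 v.2, ofAdd_add]
    have h1 := card_hom φ
    have h2 : Nat.card φ.range ≤ 2 := (Subgroup.card_le_card_group _).trans (by
      show Nat.card (ZMod 2) ≤ 2
      rw [Nat.card_zmod])
    have h3 : Nat.card φ.ker ≤ Nat.card K := Nat.card_le_card_of_injective
      (fun u => (⟨((u : ↥W) : T), (u : ↥W).2, ofAdd_eq_one.1 u.2⟩ : ↥K)) (by
        intro u v huv
        exact Subtype.ext (Subtype.ext (congrArg (fun t : ↥K => (t : T)) huv)))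
    rw [h.card_W] at h1
    have : Nat.card φ.ker * Nat.card φ.range ≤ Nat.card K * 2 := Nat.mul_le_mul h3 h2
    omega
  obtain ⟨y, hy, hyA1⟩ := SetLike.not_le_iff_exists.1 (fun hle : K ≤ A1 => by
    have := Subgroup.card_le_of_le hle; omega)
  obtain ⟨A2, hA12, hA2W, hcA2, hA2, -⟩ := hext A1 y hA1W hy.1 hyA1 hA1 fun u hu => by
    rw [h.form_comm (hA1W hu) hy.1]
    exact hperp y hy.1 (fun p hp => by rw [h.form_comm hy.1 (hRW hp)]; exact hp.2 y hy.1)
      (by rw [h.form_comm hy.1 hx]; exact hy.2) u hu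
  exact hfin A2 (hRA1.trans hA12) hA2W (by omega) hA2

end CfsgLib.RudvalisW
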