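import Mathlib
import Cfsg.Agent.Lib.RudvalisWForm

/-!
Two-groups of order `2 ^ 14` with the shape of `RudvalisW`: automorphisms of odd order, and subgroups
looking like the centralizer of the third centre.
-/

set_option autoImplicit false

namespace CfsgLib.RudvalisW

open Subgroup
open scoped commutatorElement

variable {T : Type*} [Group T] [Finite T] {W : Subgroup T}

local notation "Z" => Subgroup.upperCentralSeries T

theorem Hyp.eq_one_of_odd_pow (h : Hyp W) {y : T} {n : ℕ} (hn : Odd n) (hy : y ^ n = 1) : y = 1 := by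
  haveI : Fact (Nat.Prime 2) := ⟨Nat.prime_two⟩
  obtain ⟨k, hk⟩ := IsPGroup.iff_orderOf.1 h.pg y
  have hc : (orderOf y).Coprime n := hk ▸ Nat.Coprime.pow_left k (Nat.coprime_two_left.2 hn)
  exact orderOf_eq_one_iff.1 (Nat.dvd_one.1 (hc ▸ Nat.dvd_gcd dvd_rfl (orderOf_dvd_of_pow_eq_one hy)))

theorem aut_iter {φ : MulAut T} {x y : T} (hy : φ y = y) (hxy : φ x = x * y) (m : ℕ) :
    (φ ^ m) x = x * y ^ m := by
  induction m with
  | zero => simp
  | succ m ih =>
    rw [pow_succ', MulAut.mul_apply, ih, map_mul, map_pow, hy, hxy, pow_succ', mul_assoc]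

theorem Hyp.fix_step (h : Hyp W) {φ : MulAut T} {n : ℕ} (hn : Odd n) (hφ : φ ^ n = 1) {x y : T}
    (hy : φ y = y) (hxy : φ x = x * y) : φ x = x := by
  have h1 := aut_iter hy hxy n
  rw [hφ, MulAut.one_apply, left_eq_mul] at h1
  rw [hxy, h.eq_one_of_odd_pow hn h1, mul_one]

/-- An automorphism of odd order is trivial. -/
theorem Hyp.aut_trivial (h : Hyp W) {φ : MulAut T} {n : ℕ} (hn : Odd n) (hφ : φ ^ n = 1) : φ = 1 := by
  haveI := h.normalW
  obtain ⟨L, e, pk⟩ := h.exists_pick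
  have hchar : ∀ (i : ℕ) (x : T), x ∈ Z i → φ x ∈ Z i := fun i x hx => by
    rw [← (Subgroup.characteristic_iff_comap_eq.1 (inferInstance : (Z i).Characteristic)) φ] at hx
    exact hx
  have hZ : ∀ i : ℕ, i ≤ 4 → ∀ x ∈ Z i, φ x = x := by
    intro i
    induction i with
    | zero =>
      intro _ x hx
      rw [Subgroup.upperCentralSeries_zero, Subgroup.mem_bot] at hx
      rw [hx, map_one]
    | succ i ih =>
      intro hi x hx
      by_cases hx' : x ∈ Z i
      · exact ih (by omega) x hx'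
      have hφx' : φ x ∉ Z i := fun hm => by
        have := ih (by omega) _ hm
        exact hx' (φ.injective this ▸ hm)
      have hy : x⁻¹ * φ x ∈ Z i :=
        h.z_two (by omega) (inv_mem hx) (hchar _ x hx) (fun hm => hx' ((Subgroup.inv_mem_iff _).1 hm)) hφx'
      exact h.fix_step hn hφ (ih (by omega) _ hy) (by rw [mul_inv_cancel_left])
  have hfix3 := hZ 3 (by norm_num)
  have hq : ∀ g : T, g⁻¹ * φ g ∈ W := fun g => h.mem_W.2 fun c hc => by
    have h1 : φ g * c * (φ g)⁻¹ = g * c * g⁻¹ := by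
      calc φ g * c * (φ g)⁻¹ = φ (g * c * g⁻¹) := by rw [map_mul, map_mul, map_inv, hfix3 c hc]
        _ = g * c * g⁻¹ := hfix3 _ (Subgroup.Normal.conj_mem inferInstance c hc g)
    calc g⁻¹ * φ g * c * (g⁻¹ * φ g)⁻¹ = g⁻¹ * (φ g * c * (φ g)⁻¹) * g := by group
      _ = c := by rw [h1]; group
  have hφW : ∀ x ∈ W, φ x ∈ W := fun x hx => by simpa using W.mul_mem hx (hq x)
  have hq' : ∀ g : T, ((φ g : T) : T ⧸ W) = (g : T ⧸ W) := fun g => (QuotientGroup.eq.2 (hq g)).symm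
  -- the displacement subgroup
  let N : Subgroup T :=
    { carrier := {t | t ∈ W ∧ ∃ x ∈ W, lam W L t = lam W L (φ x) + lam W L x}
      one_mem' := ⟨one_mem W, 1, one_mem W, by
        rw [map_one]; funext q; exact (ind_of_mem (by simp)).trans (CharTwo.add_self_eq_zero _).symm⟩
      mul_mem' := fun {s t} hs ht => by
        obtain ⟨x, hx, hx'⟩ := hs.2
        obtain ⟨y, hy, hy'⟩ := ht.2
        refine ⟨mul_mem hs.1 ht.1, x * y, mul_mem hx hy, ?_⟩
        rw [pk.pre.lam_mul hs.1 ht.1, map_mul, pk.pre.lam_mul (hφW x hx) (hφW y hy),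
          pk.pre.lam_mul hx hy, hx', hy']
        abel
      inv_mem' := fun {t} ht => by
        obtain ⟨x, hx, hx'⟩ := ht.2
        exact ⟨inv_mem ht.1, x, hx, by rw [pk.lam_inv ht.1, hx']⟩ }
  haveI : N.Normal := ⟨fun t ht g => by
    obtain ⟨x, hx, hx'⟩ := ht.2
    refine ⟨h.normalW.conj_mem t ht.1 g, g * x * g⁻¹, h.normalW.conj_mem x hx g, funext fun q => ?_⟩
    obtain ⟨u, rfl⟩ := QuotientGroup.mk_surjective q
    rw [Pi.add_apply, map_mul, map_mul, map_inv, pk.pre.lam_conj ht.1, pk.pre.lam_conj (hφW x hx),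
      pk.pre.lam_conj hx, hx']
    rw [show ((u * φ g : T) : T ⧸ W) = ((u * g : T) : T ⧸ W) by
      rw [QuotientGroup.mk_mul, QuotientGroup.mk_mul, hq']]
    rfl⟩
  have hWfix : ∀ x ∈ W, φ x = x := by
    intro x hx
    have hd : lam W L (φ x) = lam W L x := by
      by_contra hne
      have hm : x⁻¹ * φ x ∈ N := ⟨hq x, x, hx, by
        rw [pk.pre.lam_mul (inv_mem hx) (hφW x hx), pk.lam_inv hx, add_comm]⟩
      have hN : ¬ N ≤ Z 3 := fun hle => by
        have h0 := (pk.lam_eq_zero h (hq x)).2 (hle hm)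
        rw [pk.pre.lam_mul (inv_mem hx) (hφW x hx), pk.lam_inv hx] at h0
        exact hne (funext fun q => (CharTwo.add_eq_zero.1 (congrFun h0 q)).symm)
      obtain ⟨-, y, hy, hye⟩ := h.z_le_of_normal N 3 (by norm_num) hN pk.e4
      have hf : (y * e)⁻¹ * φ y ∈ Z 3 := by
        refine (pk.lam_eq_zero h (mul_mem (inv_mem (mul_mem hy pk.eW)) (hφW y hy))).1 ?_
        rw [pk.pre.lam_mul (inv_mem (mul_mem hy pk.eW)) (hφW y hy), pk.lam_inv (mul_mem hy pk.eW),
          pk.pre.lam_mul hy pk.eW, hye]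
        funext q
        simp only [Pi.add_apply, Pi.zero_apply]
        generalize lam W L y q = u
        generalize lam W L (φ y) q = v
        revert u v
        decide
      have hefix : φ (e * ((y * e)⁻¹ * φ y)) = e * ((y * e)⁻¹ * φ y) := by
        rw [map_mul, hZ 4 le_rfl e pk.e4, hfix3 _ hf]
      have h1 := aut_iter hefix (show φ y = y * (e * ((y * e)⁻¹ * φ y)) by group) n
      rw [hφ, MulAut.one_apply, left_eq_mul] at h1
      have h2 : e ∈ Z 3 := by
        have h3 := h.eq_one_of_odd_pow hn h1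
        rw [mul_eq_one_iff_eq_inv] at h3
        exact h3 ▸ inv_mem hf
      exact pk.eL (pk.zL h2)
    refine h.fix_step hn hφ (y := x⁻¹ * φ x) (hfix3 _ ?_) (by rw [mul_inv_cancel_left])
    refine (pk.lam_eq_zero h (hq x)).1 ?_
    rw [pk.pre.lam_mul (inv_mem hx) (hφW x hx), pk.lam_inv hx, hd]
    exact funext fun q => CharTwo.add_self_eq_zero _
  refine MulEquiv.ext fun g => ?_
  rw [MulAut.one_apply]
  exact h.fix_step hn hφ (hWfix _ (hq g)) (by rw [mul_inv_cancel_left])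

/-- A subgroup with the internal shape of `W` is `W`. -/
theorem Hyp.eq_of_shape (h : Hyp W) {W1 P : Subgroup T} (hcard : Nat.card W1 = 2 ^ 11)
    (hP1 : P ≤ W1) (hPc : Nat.card P = 8)
    (hcomm : ∀ x ∈ W1, ∀ y ∈ W1, x * y * x⁻¹ * y⁻¹ ∈ P)
    (hcent : ∀ x ∈ P, ∀ y ∈ W1, x * y = y * x)
    (hcen : ∀ x ∈ W1, (∀ y ∈ W1, x * y = y * x) → x ∈ P) : W1 = W := by
  haveI := h.normalW
  obtain ⟨z1, a, b, fr⟩ := h.exists_frame
  have hmap : Nat.card W1 = Nat.card ↥(W ⊓ W1) * (W.subgroupOf W1).index := by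
    rw [← card_inf_of_le, Subgroup.card_mul_index]
  have hrel : (W.subgroupOf W1).index ≤ 8 := by
    rw [← h.index_W]
    exact Nat.le_of_dvd (by rw [h.index_W]; norm_num) (Subgroup.relIndex_dvd_index_of_normal W W1)
  by_cases hcase : ∃ x ∈ W1, x ∉ W ∧ x * a * x⁻¹ = a
  · exfalso
    obtain ⟨x, hx, hxW, hxa⟩ := hcase
    have hP2 : ∀ c ∈ P, c ∈ Z 3 → c ∈ Z 2 := by
      intro c hc hc3
      by_contra hc2
      refine hxW (h.mem_W_of_fix (h.fix_z2 fr.ha fr.ha' hxa) hc3 hc2 ?_)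
      rw [← hcent c hc x hx, mul_inv_cancel_right]
    set A := (W ⊓ W1) ⊔ Z 3 with hA
    have hAW : A ≤ W := sup_le inf_le_left h.z3_le_W
    have hAcomm : ∀ u ∈ A, ∀ v ∈ A, u * v * u⁻¹ * v⁻¹ ∈ Z 2 := by
      intro u hu v hv
      obtain ⟨i, hi, c, hc, rfl⟩ := Subgroup.mem_sup_of_normal_right.1 hu
      obtain ⟨j, hj, d, hd, rfl⟩ := Subgroup.mem_sup_of_normal_right.1 hv
      have hic := h.z3_comm hi.1 hc
      have hjc := h.z3_comm hj.1 hc
      have hid := h.z3_comm hi.1 hd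
      have hcd := h.z3_comm (h.z3_le_W hc) hd
      have e1 : i * c * (j * d) * (i * c)⁻¹ * (j * d)⁻¹ = i * j * i⁻¹ * j⁻¹ := by
        calc i * c * (j * d) * (i * c)⁻¹ * (j * d)⁻¹ = i * (c * j) * d * c⁻¹ * i⁻¹ * d⁻¹ * j⁻¹ := by group
          _ = i * j * (c * d) * c⁻¹ * i⁻¹ * d⁻¹ * j⁻¹ := by rw [← hjc]; group
          _ = i * j * d * i⁻¹ * d⁻¹ * j⁻¹ := by rw [hcd]; group
          _ = i * j * i⁻¹ * (i * d) * i⁻¹ * d⁻¹ * j⁻¹ := by group
          _ = i * j * i⁻¹ * j⁻¹ := by rw [hid]; group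
      rw [e1]
      exact hP2 _ (hcomm i hi.2 j hj.2) (h.comm_mem hi.1 hj.1)
    refine h.no_isotropic A hAW le_sup_right ?_ hAcomm
    by_contra hlt
    have hI : Nat.card ↥(W ⊓ W1) ≤ Nat.card A := Subgroup.card_le_of_le le_sup_left
    have hI8 : 2 ^ 8 ≤ Nat.card ↥(W ⊓ W1) := by
      have : Nat.card ↥(W ⊓ W1) * (W.subgroupOf W1).index ≤ Nat.card ↥(W ⊓ W1) * 8 :=
        Nat.mul_le_mul_left _ hrel
      omega
    have hIA : W ⊓ W1 = A := by
      by_contra hne
      have hlt' : W ⊓ W1 < A := lt_of_le_of_ne le_sup_left hne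
      have := two_mul_card_le hlt'
      omega
    have hI256 : Nat.card ↥(W ⊓ W1) = 2 ^ 8 := by
      haveI : Fact (Nat.Prime 2) := ⟨Nat.prime_two⟩
      obtain ⟨k, hk⟩ := IsPGroup.iff_card.1 (h.pg.to_subgroup (W ⊓ W1))
      rcases le_or_gt k 8 with hk' | hk'
      · have : 2 ^ k ≤ 2 ^ 8 := Nat.pow_le_pow_right (by norm_num) hk'
        omega
      · have : 2 ^ 9 ≤ 2 ^ k := Nat.pow_le_pow_right (by norm_num) hk'
        omega
    have hfull : ∀ g : T, ∃ y ∈ W1, (y : T ⧸ W) = (g : T ⧸ W) := by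
      intro g
      have h8 : (W.subgroupOf W1).index = 8 := by
        by_contra hne
        have : Nat.card ↥(W ⊓ W1) * (W.subgroupOf W1).index ≤ Nat.card ↥(W ⊓ W1) * 7 :=
          Nat.mul_le_mul_left _ (by omega)
        omega
      let f : ↥W1 →* T ⧸ W := (QuotientGroup.mk' W).comp W1.subtype
      have hker : f.ker = W.subgroupOf W1 := by
        ext u
        simp [f, Subgroup.mem_subgroupOf]
      have hrange : f.range = ⊤ := Subgroup.eq_top_of_card_eq _ (by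
        rw [← Subgroup.index_ker, hker, h8, ← Subgroup.index_eq_card, h.index_W])
      obtain ⟨y, hy⟩ := hrange.symm ▸ Subgroup.mem_top (g : T ⧸ W)
      exact ⟨y, y.2, hy⟩
    have hb1 : b ∈ W1 := by
      have : b ∈ W ⊓ W1 := hIA.symm ▸ Subgroup.mem_sup_right fr.hb
      exact this.2
    obtain ⟨t, hta, htb⟩ := h.exists_act fr.ha fr.ha' fr.hb fr.hb' (one_mem (Z 1)) fr.ha
    obtain ⟨s, hsa, -⟩ := h.exists_act fr.ha fr.ha' fr.hb fr.hb' fr.hz (one_mem (Z 2))
    have hact : ∀ {u v : T}, (u : T ⧸ W) = (v : T ⧸ W) → ∀ c ∈ Z 3, u * c * u⁻¹ = v * c * v⁻¹ := by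
      intro u v huv c hc
      have := h.mem_W.1 (QuotientGroup.eq.1 huv) c hc
      calc u * c * u⁻¹ = u * (u⁻¹ * v * c * (u⁻¹ * v)⁻¹) * u⁻¹ := by rw [this]
        _ = v * c * v⁻¹ := by group
    obtain ⟨y, hy, hyt⟩ := hfull t
    obtain ⟨y', hy', hys⟩ := hfull s
    have haP : a ∈ P := by
      have := hcomm y hy b hb1
      rwa [hact hyt b fr.hb, htb, mul_inv_cancel_right] at this
    have h1 : y' * a * y'⁻¹ = a := by rw [← hcent a haP y' hy', mul_inv_cancel_right]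
    rw [hact hys a (z_mono (by norm_num) fr.ha), hsa] at h1
    exact fr.hz' (mul_eq_right.1 h1)
  · push Not at hcase
    by_contra hne
    obtain ⟨x, hx, hxW⟩ := SetLike.not_le_iff_exists.1
      (fun hle : W1 ≤ W => hne (Subgroup.eq_of_le_of_card_ge hle (by rw [hcard, h.card_W])))
    have hmove : ∀ u ∈ W1, u ∉ W → u * a * u⁻¹ = z1 * a := by
      intro u hu huW
      rcases fr.z1_cases h (conj_div_mem fr.ha u) with r | r
      · exact absurd (mul_inv_eq_one.1 r) (hcase u hu huW)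
      · exact eq_mul_of_mul_inv_eq r
    have hprod : ∀ u ∈ W1, ∀ v ∈ W1, u ∉ W → v ∉ W → u * v ∈ W := by
      intro u hu v hv huW hvW
      by_contra hm
      refine hcase _ (mul_mem hu hv) hm (conj_trans (hmove v hv hvW) ?_)
      rw [conj_mul' (fix_z1 fr.hz u) (hmove u hu huW), ← mul_assoc,
        h.z3_sq (z_mono (by norm_num) fr.hz), one_mul]
    have hI : 2 ^ 10 ≤ Nat.card ↥(W ⊓ W1) := by
      have hdec : ∀ u : ↥W1, (u : T) ∈ W ∨ x⁻¹ * u ∈ W := fun u => by
        by_cases hu : (u : T) ∈ W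
        · exact Or.inl hu
        · exact Or.inr (hprod _ (inv_mem hx) _ u.2 (fun hm => hxW ((Subgroup.inv_mem_iff _).1 hm)) hu)
      classical
      have hinj : Function.Injective (fun u : ↥W1 => if hu : (u : T) ∈ W
          then (Sum.inl ⟨u, hu, u.2⟩ : ↥(W ⊓ W1) ⊕ ↥(W ⊓ W1))
          else Sum.inr ⟨x⁻¹ * u, (hdec u).resolve_left hu, W1.mul_mem (W1.inv_mem hx) u.2⟩) := by
        intro u v huv
        dsimp only at huv
        split at huv <;> split at huv
        · exact Subtype.ext (congrArg Subtype.val (Sum.inl.inj huv) : _)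
        · exact absurd huv (by simp)
        · exact absurd huv (by simp)
        · exact Subtype.ext (mul_left_cancel (congrArg Subtype.val (Sum.inr.inj huv) : _))
      have := Nat.card_le_card_of_injective _ hinj
      rw [Nat.card_sum, hcard] at this
      omega
    have hxx : x * x ∈ W := hprod x hx x hx hxW hxW
    have hsb := h.shift_bound hxW hxx (H := W ⊓ W1) (M := P ⊓ W) inf_le_left inf_le_right fun i hi =>
      ⟨hcomm x hx i hi.2, W.mul_mem (h.normalW.conj_mem i hi.1 x) (W.inv_mem hi.1)⟩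
    have hPW : Nat.card ↥(P ⊓ W) ≤ 8 := hPc ▸ Subgroup.card_le_of_le inf_le_left
    have hP3 : Nat.card ↥(P ⊓ W ⊓ Z 3) = 1 := by
      have h1 : 2 ^ 10 * Nat.card ↥(P ⊓ W ⊓ Z 3) ≤ Nat.card ↥(W ⊓ W1) * Nat.card ↥(P ⊓ W ⊓ Z 3) :=
        Nat.mul_le_mul_right _ hI
      have := Nat.card_pos (α := ↥(P ⊓ W ⊓ Z 3))
      omega
    have hbot := Subgroup.eq_bot_of_card_eq _ hP3
    have hone : ∀ c ∈ P, c ∈ Z 3 → c = 1 := fun c hc hc3 => by
      rw [← Subgroup.mem_bot, ← hbot]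
      exact ⟨⟨hc, h.z3_le_W hc3⟩, hc3⟩
    have hc1 : ∀ c ∈ Z 3, c ∈ W1 → c = 1 := by
      intro c hc hc1
      refine hone c (hcen c hc1 fun u hu => ?_) hc
      by_cases huW : u ∈ W
      · exact (h.z3_comm huW hc).symm
      · have hm : u * c * u⁻¹ * c⁻¹ ∈ P := hcomm u hu c hc1
        have := hone _ hm ((Z 3).mul_mem (Subgroup.Normal.conj_mem inferInstance c hc u) ((Z 3).inv_mem hc))
        exact (mul_inv_eq_iff_eq_mul.1 (mul_inv_eq_one.1 this)).symm
    -- `W ⊓ W1` meets the third centre non-trivially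
    have hinj : Function.Injective (fun p : ↥(W ⊓ W1) × ↥(Z 3) =>
        (⟨(p.1 : T) * p.2, mul_mem p.1.2.1 (h.z3_le_W p.2.2)⟩ : ↥W)) := by
      intro p q hpq
      have e : (p.1 : T) * p.2 = q.1 * q.2 := congrArg (fun w : ↥W => (w : T)) hpq
      have hd : (q.1 : T)⁻¹ * p.1 = (q.2 : T) * (p.2 : T)⁻¹ := by
        rw [eq_mul_inv_iff_mul_eq, mul_assoc, e, inv_mul_cancel_left]
      have h1 : (q.1 : T)⁻¹ * p.1 = 1 :=
        hc1 _ (hd ▸ mul_mem q.2.2 (inv_mem p.2.2)) (mul_mem (inv_mem q.1.2.2) p.1.2.2)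
      have h2 : (p.1 : T) = q.1 := (inv_mul_eq_one.1 h1).symm
      rw [h2] at e
      exact Prod.ext (Subtype.ext h2) (Subtype.ext (mul_left_cancel e))
    have := Nat.card_le_card_of_injective _ hinj
    rw [Nat.card_prod, h.card_W, h.card_z (by norm_num)] at this
    omega

/-- An embedded copy of `W` in the group is `W`. -/
theorem Hyp.range_eq (h : Hyp W) (ψ : ↥W →* T) (hinj : Function.Injective ψ) : ψ.range = W := by
  refine h.eq_of_shape (W1 := ψ.range) (P := ((Z 3).subgroupOf W).map ψ) ?_ ?_ ?_ ?_ ?_ ?_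
  · rw [← Nat.card_congr (MonoidHom.ofInjective hinj).toEquiv, h.card_W]
  · exact MonoidHom.range_eq_map ψ ▸ Subgroup.map_mono le_top
  · rw [← Nat.card_congr (Subgroup.equivMapOfInjective _ ψ hinj).toEquiv,
      Nat.card_congr (Subgroup.subgroupOfEquivOfLe h.z3_le_W).toEquiv, h.card_z (by norm_num)]
    rfl
  · rintro _ ⟨u, rfl⟩ _ ⟨v, rfl⟩
    rw [show ψ u * ψ v * (ψ u)⁻¹ * (ψ v)⁻¹ = ψ (u * v * u⁻¹ * v⁻¹) by simp only [map_mul, map_inv]]
    refine Subgroup.mem_map_of_mem ψ (Subgroup.mem_subgroupOf.2 ?_)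
    simpa only [Subgroup.coe_mul, Subgroup.coe_inv] using h.comm_mem u.2 v.2
  · rintro _ ⟨u, hu, rfl⟩ _ ⟨v, rfl⟩
    rw [← map_mul, ← map_mul]
    refine congrArg ψ (Subtype.ext ?_)
    simpa only [Subgroup.coe_mul] using (h.z3_comm v.2 (Subgroup.mem_subgroupOf.1 hu)).symm
  · rintro _ ⟨u, rfl⟩ hcen
    have hu : u ∈ Subgroup.center ↥W := Subgroup.mem_center_iff.2 fun v => hinj (by
      rw [map_mul, map_mul]
      exact (hcen _ ⟨v, rfl⟩).symm)
    refine Subgroup.mem_map_of_mem ψ (Subgroup.mem_subgroupOf.2 ?_)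
    rw [← h.center_eq]
    exact Subgroup.mem_map_of_mem W.subtype hu

end CfsgLib.RudvalisW
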