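import Mathlib

/-!
A subgroup `P` and an automorphism `φ` with `P ⊓ φ • P` normal of prime index `p` in `φ • P`, and no
non-identity `φ`-invariant normal subgroup in `P`: then `P` is a `p`-group of order `p ^ t` generated by
consecutive shifts of one element, and the first non-commuting gap `a` satisfies `2 * t ≤ 3 * a`.
-/

set_option autoImplicit false

namespace Cfsg.Agent.ShiftedPGroup

open Subgroup
open scoped Pointwise commutatorElement

variable {G : Type*} [Group G] [Finite G]

theorem card_smul (φ : MulAut G) (H : Subgroup G) :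
    Nat.card ↥(φ • H : Subgroup G) = Nat.card ↥H :=
  Nat.card_congr (Subgroup.equivSMul φ H).toEquiv.symm

theorem smul_le_smul (φ : MulAut G) {H K : Subgroup G} (h : H ≤ K) : φ • H ≤ φ • K :=
  Subgroup.pointwise_smul_le_pointwise_smul_iff.2 h

theorem smul_zpowers (φ : MulAut G) (y : G) : φ • Subgroup.zpowers y = Subgroup.zpowers (φ y) := by
  rw [Subgroup.zpowers_eq_closure, Subgroup.zpowers_eq_closure, Subgroup.smul_closure,
    Set.smul_set_singleton]
  rfl

theorem between {p : ℕ} (hp : p.Prime) {A B C : Subgroup G} (hAB : A ≤ B) (hBC : B ≤ C)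
    (hc : Nat.card C = p * Nat.card A) : B = A ∨ B = C := by
  obtain ⟨k, hk⟩ := Subgroup.card_dvd_of_le hAB
  obtain ⟨l, hl⟩ := Subgroup.card_dvd_of_le hBC
  have hA : 0 < Nat.card A := Nat.card_pos
  have hkl : k * l = p := by
    have h1 : Nat.card A * (k * l) = Nat.card A * p := by
      rw [← mul_assoc, ← hk, ← hl, hc, mul_comm]
    exact Nat.eq_of_mul_eq_mul_left hA h1
  rcases (Nat.dvd_prime hp).1 ⟨l, hkl.symm⟩ with h | h
  · left
    rw [h, mul_one] at hk
    exact (Subgroup.eq_of_le_of_card_ge hAB hk.le).symm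
  · right
    have hl1 : l = 1 := by
      rw [h] at hkl
      exact Nat.eq_of_mul_eq_mul_left hp.pos (by rw [hkl, mul_one])
    rw [hl1, mul_one] at hl
    exact Subgroup.eq_of_le_of_card_ge hBC hl.le

theorem le_normalizer_of_card {p : ℕ} (hp : p.Prime) {A B : Subgroup G} (hAB : A ≤ B) {k : ℕ}
    (hB : Nat.card B = p ^ (k + 1)) (hA : Nat.card A = p ^ k) :
    B ≤ Subgroup.normalizer (A : Set G) := by
  have hi : (A.subgroupOf B).index = p := by
    have h1 := (A.subgroupOf B).card_mul_index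
    rw [Nat.card_congr (Subgroup.subgroupOfEquivOfLe hAB).toEquiv, hA, hB, pow_succ] at h1
    exact Nat.eq_of_mul_eq_mul_left (pow_pos hp.pos k) h1
  haveI : (A.subgroupOf B).Normal := by
    apply Subgroup.normal_of_index_eq_minFac_card
    rw [hi, hB, Nat.pow_minFac (Nat.succ_ne_zero k), hp.minFac_eq]
  exact Subgroup.le_normalizer_of_normal_subgroupOf hAB

theorem zpowers_le_centralizer {y z : G} (h : Commute y z) :
    Subgroup.zpowers y ≤ Subgroup.centralizer (Subgroup.zpowers z : Set G) := by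
  rw [Subgroup.zpowers_le]
  intro w hw
  obtain ⟨i, rfl⟩ := Subgroup.mem_zpowers_iff.1 hw
  exact ((h.zpow_right i).symm).eq

theorem le_centralizer_zpowers {H : Subgroup G} {z : G}
    (h : H ≤ Subgroup.centralizer ({z} : Set G)) :
    H ≤ Subgroup.centralizer (Subgroup.zpowers z : Set G) := by
  intro y hy w hw
  obtain ⟨i, rfl⟩ := Subgroup.mem_zpowers_iff.1 hw
  exact ((Subgroup.mem_centralizer_singleton_iff.1 (h hy) : y * z = z * y) |>
    fun e => ((show Commute y z from e).zpow_right i).symm).eq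

/-- The intervals generated by consecutive shifts of `x₀`. -/
def I (φ : MulAut G) (x₀ : G) (m l : ℕ) : Subgroup G :=
  Subgroup.closure ((fun i => (φ ^ i) x₀) '' Set.Ico m (m + l))

omit [Finite G] in
theorem I_succ (φ : MulAut G) (x₀ : G) (m l : ℕ) :
    I φ x₀ m (l + 1) = I φ x₀ m l ⊔ Subgroup.zpowers ((φ ^ (m + l)) x₀) := by
  unfold I
  rw [Subgroup.zpowers_eq_closure, ← Subgroup.closure_union]
  congr 1
  rw [← Set.image_singleton (f := fun i => (φ ^ i) x₀), ← Set.image_union]
  congr 1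
  ext i
  simp only [Set.mem_Ico, Set.mem_union, Set.mem_singleton_iff]
  omega

omit [Finite G] in
theorem mem_I (φ : MulAut G) (x₀ : G) {m l i : ℕ} (h1 : m ≤ i) (h2 : i < m + l) :
    (φ ^ i) x₀ ∈ I φ x₀ m l :=
  Subgroup.subset_closure ⟨i, ⟨h1, h2⟩, rfl⟩

omit [Finite G] in
theorem I_le (φ : MulAut G) (x₀ : G) {m l : ℕ} {H : Subgroup G}
    (h : ∀ i, m ≤ i → i < m + l → (φ ^ i) x₀ ∈ H) : I φ x₀ m l ≤ H := by
  unfold I
  rw [Subgroup.closure_le]
  rintro _ ⟨i, ⟨h1, h2⟩, rfl⟩
  exact h i h1 h2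

omit [Finite G] in
theorem I_zero (φ : MulAut G) (x₀ : G) (m : ℕ) : I φ x₀ m 0 = ⊥ :=
  le_bot_iff.1 (I_le φ x₀ (fun i h1 h2 => absurd h2 (by omega)))

omit [Finite G] in
theorem smul_I (φ : MulAut G) (x₀ : G) (k m l : ℕ) :
    (φ ^ k) • I φ x₀ m l = I φ x₀ (k + m) l := by
  unfold I
  rw [Subgroup.smul_closure, ← Set.image_smul, Set.image_image]
  congr 1
  ext y
  simp only [Set.mem_image, Set.mem_Ico, MulAut.smul_def]
  constructor
  · rintro ⟨i, ⟨h1, h2⟩, rfl⟩
    exact ⟨k + i, ⟨by omega, by omega⟩, by rw [pow_add]; rfl⟩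
  · rintro ⟨i, ⟨h1, h2⟩, rfl⟩
    refine ⟨i - k, ⟨by omega, by omega⟩, ?_⟩
    rw [← MulAut.mul_apply, ← pow_add]
    congr 2
    omega

/-- The descending chain `P`, `φ • P ⊓ P`, ... -/
def chain (P : Subgroup G) (φ : MulAut G) : ℕ → Subgroup G
  | 0 => P
  | j + 1 => φ • chain P φ j ⊓ P

/-- The structure of a shifted pair: `P` is generated by `t` consecutive shifts. -/
theorem structure_exists (P : Subgroup G) (φ : MulAut G) {p : ℕ} (hp : p.Prime)
    (hN : ((P ⊓ φ • P).subgroupOf (φ • P)).Normal)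
    (hidx : (P ⊓ φ • P).relIndex (φ • P) = p)
    (h1 : ∀ R : Subgroup G, R ≤ P → P ≤ Subgroup.normalizer (R : Set G) → φ • R = R → R = ⊥) :
    ∃ (t : ℕ) (x₀ : G), 1 ≤ t ∧ P = I φ x₀ 0 t ∧
      (∀ l ≤ t, Nat.card ↥(I φ x₀ 0 l) = p ^ l) ∧
      (∀ l, 1 ≤ l → l ≤ t → φ • I φ x₀ 0 l ≠ I φ x₀ 0 l) := by
  classical
  set Q : ℕ → Subgroup G := chain P φ with hQdef
  have Q0 : Q 0 = P := by rw [hQdef]; rfl
  have Qs : ∀ j, Q (j + 1) = φ • Q j ⊓ P := fun _ => by rw [hQdef]; rfl
  have QP : ∀ j, Q j ≤ P := by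
    intro j; cases j with
    | zero => exact le_rfl
    | succ j => rw [Qs]; exact inf_le_right
  have Qanti : ∀ j, Q (j + 1) ≤ Q j := by
    intro j; induction j with
    | zero => rw [Q0]; exact QP 1
    | succ j ih => rw [Qs (j + 1), Qs j]; exact inf_le_inf_right P (smul_le_smul φ ih)
  set D : Subgroup G := P ⊓ φ • P with hD
  have Qinter : ∀ j, Q (j + 1) = D ⊓ φ • Q j := by
    intro j
    have h : φ • Q j ≤ φ • P := smul_le_smul φ (QP j)
    rw [Qs, hD, inf_assoc, inf_eq_right.2 h, inf_comm]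
  have Qnorm : ∀ j, φ • Q j ≤ Subgroup.normalizer (Q (j + 1) : Set G) := by
    intro j g hg
    have hgP : g ∈ φ • P := smul_le_smul φ (QP j) hg
    haveI := hN
    have hgD := Subgroup.le_normalizer_of_normal_subgroupOf (inf_le_right : D ≤ φ • P) hgP
    rw [Subgroup.mem_normalizer_iff] at hgD ⊢
    intro y
    rw [Qinter]
    simp only [Subgroup.mem_inf]
    rw [← hgD y]
    constructor
    · exact fun h => ⟨h.1, mul_mem (mul_mem hg h.2) (inv_mem hg)⟩
    · intro h
      refine ⟨h.1, ?_⟩
      have h3 := mul_mem (mul_mem (inv_mem hg) h.2) hg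
      simpa [mul_assoc] using h3
  have Qstep : ∀ j, Nat.card ↥(φ • Q j : Subgroup G) = Nat.card ↥(Q (j + 1)) ∨
      Nat.card ↥(φ • Q j : Subgroup G) = p * Nat.card ↥(Q (j + 1)) := by
    intro j
    have hle : φ • Q j ≤ φ • P := smul_le_smul φ (QP j)
    have hdvd : D.relIndex (φ • Q j) ∣ p := by
      haveI := hN
      have h := Subgroup.relIndex_dvd_index_of_normal (D.subgroupOf (φ • P))
        ((φ • Q j).subgroupOf (φ • P))
      rwa [Subgroup.relIndex_subgroupOf hle, ← Subgroup.relIndex, hidx] at h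
    have hmul : Nat.card ↥(Q (j + 1)) * D.relIndex (φ • Q j) = Nat.card ↥(φ • Q j : Subgroup G) := by
      rw [← Subgroup.inf_relIndex_right D (φ • Q j), ← Qinter,
        ← Subgroup.relIndex_bot_left (Q (j + 1)), ← Subgroup.relIndex_bot_left (φ • Q j)]
      exact Subgroup.relIndex_mul_relIndex _ _ _ bot_le (by rw [Qs]; exact inf_le_left)
    rcases (Nat.dvd_prime hp).1 hdvd with h | h
    · left; rw [h, mul_one] at hmul; exact hmul.symm
    · right; rw [h, mul_comm] at hmul; exact hmul.symm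
  have Qfix : ∀ j, Nat.card ↥(φ • Q j : Subgroup G) = Nat.card ↥(Q (j + 1)) →
      φ • Q j = Q j := by
    intro j h
    have e : Q (j + 1) = φ • Q j :=
      Subgroup.eq_of_le_of_card_ge (by rw [Qs]; exact inf_le_left) h.le
    have e2 : φ • Q j ≤ Q j := e ▸ Qanti j
    exact Subgroup.eq_of_le_of_card_ge e2 (card_smul φ (Q j)).ge
  have hex : ∃ j, φ • Q j = Q j := by
    by_contra hc
    push Not at hc
    have : ∀ j, Nat.card ↥(Q j) + j ≤ Nat.card ↥P := by
      intro j
      induction j with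
      | zero => simp [Q0]
      | succ j ih =>
        rcases Qstep j with h | h
        · exact absurd (Qfix j h) (hc j)
        · rw [card_smul] at h
          have h2 := hp.two_le
          have h3 : 0 < Nat.card ↥(Q (j + 1)) := Nat.card_pos
          have h4 : 2 * Nat.card ↥(Q (j + 1)) ≤ Nat.card ↥(Q j) := by
            rw [h]; exact Nat.mul_le_mul_right _ h2
          omega
    have h := this (Nat.card ↥P)
    have h3 : 0 < Nat.card ↥(Q (Nat.card ↥P)) := Nat.card_pos
    omega
  let t := Nat.find hex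
  have htfix : φ • Q t = Q t := Nat.find_spec hex
  have htmin : ∀ j < t, φ • Q j ≠ Q j := fun j hj => Nat.find_min hex hj
  have Qcard : ∀ j < t, Nat.card ↥(Q j) = p * Nat.card ↥(Q (j + 1)) := by
    intro j hj
    rcases Qstep j with h | h
    · exact absurd (Qfix j h) (htmin j hj)
    · rwa [card_smul] at h
  have ht : 1 ≤ t := by
    by_contra h0
    have h00 : t = 0 := by omega
    have e : φ • P = P := by rw [h00, Q0] at htfix; exact htfix
    rw [hD, e, inf_idem, Subgroup.relIndex_self] at hidx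
    exact hp.ne_one hidx.symm
  let N : ℕ → Subgroup G := fun l => ((φ⁻¹) ^ (t - l)) • Q (t - l)
  have hshift : ∀ l < t, ∀ H : Subgroup G,
      ((φ⁻¹) ^ (t - l)) • (φ • H) = ((φ⁻¹) ^ (t - (l + 1))) • H := by
    intro l hl H
    rw [← mul_smul]
    congr 1
    obtain ⟨k, hk⟩ : ∃ k, t - l = k + 1 := ⟨t - l - 1, by omega⟩
    rw [hk, show t - (l + 1) = k by omega, pow_succ]
    group
  have Nmono : ∀ l < t, N l ≤ N (l + 1) := by
    intro l hl
    show _ ≤ ((φ⁻¹) ^ (t - (l + 1))) • Q (t - (l + 1))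
    rw [← hshift l hl]
    apply smul_le_smul
    rw [show t - l = t - (l + 1) + 1 by omega, Qs]
    exact inf_le_left
  have Nshift : ∀ l < t, φ • N l ≤ N (l + 1) := by
    intro l hl
    have e : φ • N l = ((φ⁻¹) ^ (t - (l + 1))) • Q (t - l) := by
      show φ • ((φ⁻¹) ^ (t - l)) • Q (t - l) = _
      rw [← mul_smul]
      congr 1
      obtain ⟨k, hk⟩ : ∃ k, t - l = k + 1 := ⟨t - l - 1, by omega⟩
      rw [hk, show t - (l + 1) = k by omega, pow_succ']
      group
    rw [e]
    apply smul_le_smul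
    rw [show t - l = t - (l + 1) + 1 by omega]
    exact Qanti _
  have Ncard : ∀ l < t, Nat.card ↥(N (l + 1)) = p * Nat.card ↥(N l) := by
    intro l hl
    show Nat.card ↥(((φ⁻¹) ^ (t - (l + 1))) • Q (t - (l + 1)) : Subgroup G) =
      p * Nat.card ↥(((φ⁻¹) ^ (t - l)) • Q (t - l) : Subgroup G)
    rw [card_smul, card_smul, show t - l = t - (l + 1) + 1 by omega]
    exact Qcard _ (by omega)
  have Nfix : ∀ l, 1 ≤ l → l ≤ t → φ • N l ≠ N l := by
    intro l hl1 hl2 h
    apply htmin (t - l) (by omega)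
    have hc : φ * (φ⁻¹) ^ (t - l) = (φ⁻¹) ^ (t - l) * φ :=
      ((Commute.inv_right (Commute.refl φ)).pow_right (t - l)).eq
    have h' : ((φ⁻¹) ^ (t - l)) • (φ • Q (t - l)) = ((φ⁻¹) ^ (t - l)) • Q (t - l) := by
      rw [← mul_smul, ← hc, mul_smul]; exact h
    exact smul_left_cancel _ h'
  have Npow : ∀ k : ℕ, (φ ^ k) • Q t = Q t := by
    intro k; induction k with
    | zero => simp
    | succ k ih => rw [pow_succ', mul_smul, ih, htfix]
  have N0 : N 0 = Q t := by
    show ((φ⁻¹) ^ (t - 0)) • Q (t - 0) = Q t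
    rw [Nat.sub_zero, inv_pow, inv_smul_eq_iff, Npow]
  have Nt : N t = P := by
    show ((φ⁻¹) ^ (t - t)) • Q (t - t) = P
    rw [Nat.sub_self, pow_zero, one_smul, Q0]
  obtain ⟨x₀, hx0, hx0'⟩ : ∃ x₀, x₀ ∈ N 1 ∧ x₀ ∉ N 0 := by
    by_contra hc
    push Not at hc
    have h := Subgroup.card_le_of_le (show N 1 ≤ N 0 from fun y hy => hc y hy)
    rw [Ncard 0 (by omega)] at h
    have h3 : 0 < Nat.card ↥(N 0) := Nat.card_pos
    have h2 : 2 * Nat.card ↥(N 0) ≤ p * Nat.card ↥(N 0) := Nat.mul_le_mul_right _ hp.two_le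
    omega
  have hxmem : ∀ l < t, (φ ^ l) x₀ ∈ N (l + 1) := by
    intro l hl
    induction l with
    | zero => simpa using hx0
    | succ l ih =>
      apply Nshift (l + 1) hl
      have h := Subgroup.smul_mem_pointwise_smul _ φ _ (ih (by omega))
      rw [MulAut.smul_def, ← MulAut.mul_apply, ← pow_succ'] at h
      exact h
  have Ngen : ∀ l ≤ t, N l = N 0 ⊔ I φ x₀ 0 l := by
    intro l hl
    induction l with
    | zero => rw [I_zero, sup_bot_eq]
    | succ l ih =>
      have ihl := ih (by omega)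
      set B := N l ⊔ Subgroup.zpowers ((φ ^ l) x₀) with hB
      have hBle : B ≤ N (l + 1) :=
        sup_le (Nmono l (by omega)) (Subgroup.zpowers_le.2 (hxmem l (by omega)))
      have hfin : B = N (l + 1) := by
        rcases between hp (le_sup_left : N l ≤ B) hBle (Ncard l (by omega)) with h | h
        · exfalso
          have hx : (φ ^ l) x₀ ∈ N l :=
            h ▸ (le_sup_right : _ ≤ B) (Subgroup.mem_zpowers _)
          rcases Nat.eq_zero_or_pos l with h0 | h0
          · subst h0; exact hx0' (by simpa using hx)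
          apply Nfix l h0 (by omega)
          have hle : φ • N l ≤ N l := by
            rw [ihl, Subgroup.smul_sup, show φ • N 0 = N 0 by rw [N0, htfix]]
            have e := smul_I φ x₀ 1 0 l
            rw [pow_one] at e
            rw [e]
            refine sup_le le_sup_left (I_le φ x₀ fun i h1' h2' => ?_)
            rw [← ihl]
            by_cases hi : i = l
            · subst hi; exact hx
            · rw [ihl]; exact le_sup_right (a := N 0) (mem_I φ x₀ (Nat.zero_le i) (by omega))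
          exact Subgroup.eq_of_le_of_card_ge hle (card_smul φ (N l)).ge
        · exact h
      rw [← hfin, hB, ihl, I_succ, Nat.zero_add, sup_assoc]
  have hR : Q t = ⊥ := by
    apply h1 (Q t) (QP t) ?_ htfix
    obtain ⟨s, hs⟩ : ∃ s, t = s + 1 := ⟨t - 1, by omega⟩
    have hnx : x₀ ∈ Subgroup.normalizer (Q t : Set G) := by
      have h := Qnorm s
      rw [← hs] at h
      have hy : (φ ^ t) x₀ ∈ φ • Q s := by
        have h' := Subgroup.smul_mem_pointwise_smul _ (φ ^ t) _ hx0
        rw [MulAut.smul_def] at h'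
        have e : (φ ^ t) • N 1 = φ • Q s := by
          show (φ ^ t) • ((φ⁻¹) ^ (t - 1)) • Q (t - 1) = _
          rw [← mul_smul, show t - 1 = s by omega, hs, pow_succ', inv_pow]
          congr 1
          group
        rwa [e] at h'
      have hn := h hy
      rw [Subgroup.mem_normalizer_iff] at hn ⊢
      intro z
      have hz : ∀ w : G, w ∈ Q t ↔ (φ ^ t) w ∈ Q t := by
        intro w
        rw [← Subgroup.smul_mem_pointwise_smul_iff (a := φ ^ t), Npow, MulAut.smul_def]
      rw [hz z, hz (x₀ * z * x₀⁻¹), hn ((φ ^ t) z), map_mul, map_mul, map_inv]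
    have hninv : ∀ i : ℕ, (φ ^ i) x₀ ∈ Subgroup.normalizer (Q t : Set G) := by
      intro i
      rw [Subgroup.mem_normalizer_iff] at hnx ⊢
      intro z
      obtain ⟨w, rfl⟩ : ∃ w, (φ ^ i) w = z := (φ ^ i).surjective z
      have hz : ∀ w : G, (φ ^ i) w ∈ Q t ↔ w ∈ Q t := by
        intro w
        conv_lhs => rw [← Npow i, ← MulAut.smul_def]
        exact Subgroup.smul_mem_pointwise_smul_iff
      rw [← map_inv, ← map_mul, ← map_mul, hz, hz, hnx w]
    rw [← Nt, Ngen t le_rfl, N0]
    exact sup_le Subgroup.le_normalizer (I_le φ x₀ fun i _ _ => hninv i)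
  have NI : ∀ l ≤ t, N l = I φ x₀ 0 l := by
    intro l hl
    rw [Ngen l hl, N0, hR, bot_sup_eq]
  refine ⟨t, x₀, ht, ?_, ?_, ?_⟩
  · rw [← NI t le_rfl, Nt]
  · intro l hl
    induction l with
    | zero => rw [I_zero]; simp
    | succ l ih => rw [← NI (l + 1) hl, Ncard l (by omega), NI l (by omega), ih (by omega), pow_succ']
  · intro l h1' h2'
    rw [← NI l h2']
    exact Nfix l h1' h2'

/-- The bound on the first non-commuting gap. -/
theorem two_mul_le_three_mul (φ : MulAut G) (x₀ : G) {p t a : ℕ} (hp : p.Prime)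
    (hcard : ∀ l ≤ t, Nat.card ↥(I φ x₀ 0 l) = p ^ l)
    (hfix : ∀ l, 1 ≤ l → l ≤ t → φ • I φ x₀ 0 l ≠ I φ x₀ 0 l)
    (hne : ¬ Commute x₀ ((φ ^ a) x₀))
    (hlt : ∀ d < a, Commute x₀ ((φ ^ d) x₀)) :
    2 * t ≤ 3 * a := by
  by_cases hat : t ≤ a
  · omega
  have ha1 : 1 ≤ a := by
    rcases Nat.eq_zero_or_pos a with h | h
    · subst h; exact absurd (by simp) hne
    · exact h
  let x : ℕ → G := fun i => (φ ^ i) x₀
  have hsh : ∀ k i, (φ ^ k) (x i) = x (k + i) := by
    intro k i; show (φ ^ k) ((φ ^ i) x₀) = _; rw [← MulAut.mul_apply, ← pow_add]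
  have hcomm : ∀ i j : ℕ, i < j + a → j < i + a → Commute (x i) (x j) := by
    intro i j h1 h2
    rcases le_total i j with hij | hij
    · have h := (hlt (j - i) (by omega)).map (φ ^ i : MulAut G)
      rw [← MulAut.mul_apply, ← pow_add, Nat.add_sub_cancel' hij] at h
      exact h
    · have h := (hlt (i - j) (by omega)).map (φ ^ j : MulAut G)
      rw [← MulAut.mul_apply, ← pow_add, Nat.add_sub_cancel' hij] at h
      exact h.symm
  have hgap : ∀ i, ¬ Commute (x i) (x (i + a)) := by
    intro i h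
    apply hne
    have h' := h.map ((φ ^ i)⁻¹ : MulAut G)
    have e1 : ((φ ^ i)⁻¹ : MulAut G) (x i) = x₀ := by
      show ((φ ^ i)⁻¹ * φ ^ i : MulAut G) x₀ = x₀
      rw [inv_mul_cancel]; rfl
    have e2 : ((φ ^ i)⁻¹ : MulAut G) (x (i + a)) = (φ ^ a) x₀ := by
      show ((φ ^ i)⁻¹ * φ ^ (i + a) : MulAut G) x₀ = _
      rw [pow_add, inv_mul_cancel_left]
    rwa [e1, e2] at h'
  have hIcard : ∀ m, ∀ l ≤ t, Nat.card ↥(I φ x₀ m l) = p ^ l := by
    intro m l hl
    rw [show I φ x₀ m l = (φ ^ m) • I φ x₀ 0 l by rw [smul_I, Nat.add_zero], card_smul, hcard l hl]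
  -- commutators fall in the interior
  have hbr : ∀ j, 1 ≤ j → j + 1 ≤ t →
      ⁅Subgroup.zpowers x₀, Subgroup.zpowers (x j)⁆ ≤ I φ x₀ 1 (j - 1) := by
    intro j hj1 hj2
    set A := I φ x₀ 0 j with hA
    set B := I φ x₀ 1 j with hB
    have hBA : φ • A = B := by
      have e := smul_I φ x₀ 1 0 j
      rwa [pow_one] at e
    have hAC : A ≤ I φ x₀ 0 (j + 1) := I_le φ x₀ fun i h1 h2 => mem_I φ x₀ h1 (by omega)
    have hBC : B ≤ I φ x₀ 0 (j + 1) := I_le φ x₀ fun i h1 h2 => mem_I φ x₀ (by omega) (by omega)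
    have hnA := le_normalizer_of_card hp hAC (hcard (j + 1) hj2) (hcard j (by omega))
    have hnB := le_normalizer_of_card hp hBC (hcard (j + 1) hj2) (hIcard 1 j (by omega))
    have hx0A : x₀ ∈ A := by simpa using mem_I φ x₀ (le_refl 0) (show 0 < 0 + j by omega)
    have hxjB : x j ∈ B := mem_I φ x₀ hj1 (by omega)
    have hinf : A ⊓ B = I φ x₀ 1 (j - 1) := by
      have hle : I φ x₀ 1 (j - 1) ≤ A ⊓ B :=
        le_inf (I_le φ x₀ fun i h1 h2 => mem_I φ x₀ (Nat.zero_le i) (by omega))
          (I_le φ x₀ fun i h1 h2 => mem_I φ x₀ h1 (by omega))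
      have hc : Nat.card A = p * Nat.card ↥(I φ x₀ 1 (j - 1)) := by
        rw [hcard j (by omega), hIcard 1 (j - 1) (by omega), ← pow_succ',
          show j - 1 + 1 = j by omega]
      rcases between hp hle inf_le_left hc with h | h
      · exact h
      · exfalso
        apply hfix j hj1 (by omega)
        rw [hBA]
        refine (Subgroup.eq_of_le_of_card_ge (inf_eq_left.1 h) ?_).symm
        rw [hcard j (by omega), hIcard 1 j (by omega)]
    rw [← hinf, Subgroup.commutator_le]
    intro u hu v hv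
    have huA : u ∈ A := Subgroup.zpowers_le.2 hx0A hu
    have hvB : v ∈ B := Subgroup.zpowers_le.2 hxjB hv
    rw [commutatorElement_def]
    refine Subgroup.mem_inf.2 ⟨?_, ?_⟩
    · have h := (Subgroup.mem_normalizer_iff.1 (hnA (hBC hvB)) u⁻¹).1 (inv_mem huA)
      have := mul_mem huA h
      simpa [mul_assoc] using this
    · have h := (Subgroup.mem_normalizer_iff.1 (hnB (hAC huA)) v).1 hvB
      exact mul_mem h (inv_mem hvB)
  -- the commutator at the first gap
  set w : G := ⁅x₀, x a⁆ with hw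
  have hw1 : w ≠ 1 := fun h => hne (commutatorElement_eq_one_iff_commute.1 h)
  have hwI : w ∈ I φ x₀ 1 (a - 1) :=
    hbr a ha1 (by omega) (Subgroup.commutator_mem_commutator (Subgroup.mem_zpowers _)
      (Subgroup.mem_zpowers _))
  -- lower end
  obtain ⟨r, hr1, hra, hwr, hwr'⟩ : ∃ r, 1 ≤ r ∧ r < a ∧ w ∈ I φ x₀ r (a - r) ∧
      w ∉ I φ x₀ (r + 1) (a - (r + 1)) := by
    by_contra hc
    push Not at hc
    have : ∀ r, 1 ≤ r → r ≤ a → w ∈ I φ x₀ r (a - r) := by
      intro r h1 h2
      induction r with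
      | zero => omega
      | succ r ih =>
        rcases Nat.eq_zero_or_pos r with h0 | h0
        · subst h0; exact hwI
        · exact hc r h0 (by omega) (ih h0 (by omega))
    have h := this a ha1 le_rfl
    rw [Nat.sub_self, I_zero, Subgroup.mem_bot] at h
    exact hw1 h
  have hlow : t ≤ r + a := by
    by_contra hc
    push Not at hc
    apply hwr'
    set C := Subgroup.centralizer ({x (r + a)} : Set G) with hC
    have hwC : w ∈ C := by
      have key : ⁅⁅Subgroup.zpowers x₀, Subgroup.zpowers (x a)⁆, Subgroup.zpowers (x (r + a))⁆ = ⊥ := by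
        refine Subgroup.commutator_commutator_eq_bot_of_rotate ?_ ?_
        · have : ⁅Subgroup.zpowers (x a), Subgroup.zpowers (x (r + a))⁆ = ⊥ :=
            Subgroup.commutator_eq_bot_iff_le_centralizer.2
              (zpowers_le_centralizer (hcomm a (r + a) (by omega) (by omega)))
          rw [this, Subgroup.commutator_bot_left]
        · rw [Subgroup.commutator_eq_bot_iff_le_centralizer, Subgroup.commutator_comm]
          refine (hbr (r + a) (by omega) (by omega)).trans (le_centralizer_zpowers ?_)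
          refine I_le φ x₀ fun i h1 h2 => Subgroup.mem_centralizer_singleton_iff.2 ?_
          exact (hcomm i a (by omega) (by omega)).eq
      have h := Subgroup.commutator_eq_bot_iff_le_centralizer.1 key
        (Subgroup.commutator_mem_commutator (Subgroup.mem_zpowers x₀) (Subgroup.mem_zpowers (x a)))
      exact Subgroup.mem_centralizer_singleton_iff.2 (h _ (Subgroup.mem_zpowers _)).symm
    have hle : I φ x₀ (r + 1) (a - (r + 1)) ≤ I φ x₀ r (a - r) ⊓ C :=
      le_inf (I_le φ x₀ fun i h1 h2 => mem_I φ x₀ (by omega) (by omega))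
        (I_le φ x₀ fun i h1 h2 => Subgroup.mem_centralizer_singleton_iff.2
          (hcomm i (r + a) (by omega) (by omega)).eq)
    have hcd : Nat.card ↥(I φ x₀ r (a - r)) = p * Nat.card ↥(I φ x₀ (r + 1) (a - (r + 1))) := by
      rw [hIcard r _ (by omega), hIcard (r + 1) _ (by omega), ← pow_succ',
        show a - (r + 1) + 1 = a - r by omega]
    rcases between hp hle inf_le_left hcd with h | h
    · rw [← h]; exact ⟨hwr, hwC⟩
    · exfalso
      have hxr : x r ∈ I φ x₀ r (a - r) ⊓ C := by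
        rw [h]; exact mem_I φ x₀ le_rfl (by omega)
      exact hgap r (Subgroup.mem_centralizer_singleton_iff.1 hxr.2)
  -- upper end
  obtain ⟨s, hs1, hs2, hws, hws'⟩ : ∃ s, r ≤ s ∧ s < a ∧ w ∈ I φ x₀ r (s + 1 - r) ∧
      w ∉ I φ x₀ r (s - r) := by
    by_contra hc
    push Not at hc
    have : ∀ d, d ≤ a - r → w ∈ I φ x₀ r (a - r - d) := by
      intro d hd
      induction d with
      | zero => exact hwr
      | succ d ih =>
        have e1 : a - 1 - d + 1 - r = a - r - d := by omega
        have e2 : a - 1 - d - r = a - r - (d + 1) := by omega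
        have h := hc (a - 1 - d) (by omega) (by omega) (by rw [e1]; exact ih (by omega))
        rwa [e2] at h
    have h := this (a - r) le_rfl
    rw [Nat.sub_self, I_zero, Subgroup.mem_bot] at h
    exact hw1 h
  have hup : t + s ≤ 2 * a := by
    by_contra hc
    push Not at hc
    apply hws'
    set m := a - s with hm
    set C := Subgroup.centralizer ({x₀} : Set G) with hC
    have hmw : (φ ^ m) w = ⁅x m, x (m + a)⁆ := by
      rw [hw, map_commutatorElement, hsh]
    have hwC : (φ ^ m) w ∈ C := by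
      rw [hmw]
      have key : ⁅⁅Subgroup.zpowers (x m), Subgroup.zpowers (x (m + a))⁆, Subgroup.zpowers x₀⁆ = ⊥ := by
        refine Subgroup.commutator_commutator_eq_bot_of_rotate ?_ ?_
        · rw [Subgroup.commutator_eq_bot_iff_le_centralizer, Subgroup.commutator_comm]
          refine (hbr (m + a) (by omega) (by omega)).trans (le_centralizer_zpowers ?_)
          refine I_le φ x₀ fun i h1 h2 => Subgroup.mem_centralizer_singleton_iff.2 ?_
          exact (hcomm i m (by omega) (by omega)).eq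
        · have : ⁅Subgroup.zpowers x₀, Subgroup.zpowers (x m)⁆ = ⊥ :=
            Subgroup.commutator_eq_bot_iff_le_centralizer.2
              (zpowers_le_centralizer (hlt m (by omega)))
          rw [this, Subgroup.commutator_bot_left]
      have h := Subgroup.commutator_eq_bot_iff_le_centralizer.1 key
        (Subgroup.commutator_mem_commutator (Subgroup.mem_zpowers (x m))
          (Subgroup.mem_zpowers (x (m + a))))
      exact Subgroup.mem_centralizer_singleton_iff.2 (h _ (Subgroup.mem_zpowers _)).symm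
    have hwm : (φ ^ m) w ∈ I φ x₀ (m + r) (s + 1 - r) := by
      rw [← smul_I]
      exact Subgroup.smul_mem_pointwise_smul _ _ _ hws
    have hle : I φ x₀ (m + r) (s - r) ≤ I φ x₀ (m + r) (s + 1 - r) ⊓ C :=
      le_inf (I_le φ x₀ fun i h1 h2 => mem_I φ x₀ h1 (by omega))
        (I_le φ x₀ fun i h1 h2 => Subgroup.mem_centralizer_singleton_iff.2
          (hlt i (by omega)).symm.eq)
    have hcd : Nat.card ↥(I φ x₀ (m + r) (s + 1 - r)) =
        p * Nat.card ↥(I φ x₀ (m + r) (s - r)) := by
      rw [hIcard _ _ (by omega), hIcard _ _ (by omega), ← pow_succ',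
        show s - r + 1 = s + 1 - r by omega]
    rcases between hp hle inf_le_left hcd with h | h
    · have h' : (φ ^ m) w ∈ (φ ^ m) • I φ x₀ r (s - r) := by
        rw [smul_I, ← h]; exact ⟨hwm, hwC⟩
      exact Subgroup.smul_mem_pointwise_smul_iff.1 h'
    · exfalso
      have hxa : x a ∈ I φ x₀ (m + r) (s + 1 - r) ⊓ C := by
        rw [h]; exact mem_I φ x₀ (by omega) (by omega)
      exact hne (Subgroup.mem_centralizer_singleton_iff.1 hxa.2).symm
  omega

end Cfsg.Agent.ShiftedPGroup
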