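import Mathlib.FieldTheory.Finite.GaloisField
import Mathlib.LinearAlgebra.Matrix.Charpoly.Coeff
import Mathlib.LinearAlgebra.Matrix.GeneralLinearGroup.Defs
import Mathlib.RingTheory.Norm.Basic

/-! The determinant is surjective on a Singer cyclic subgroup of `GL_n(q)`. -/

set_option autoImplicit false

namespace CfsgLib.SingerDet

open Matrix Polynomial

variable {F : Type*} [Field F] [Fintype F] {n : ℕ}

theorem exists_det_pow (hn : 1 ≤ n) (c : GL (Fin n) F)
    (hc : orderOf c = Fintype.card F ^ n - 1) (a : F) (ha : a ≠ 0) :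
    ∃ i : ℕ, ((c ^ i : GL (Fin n) F) : Matrix (Fin n) (Fin n) F).det = a := by
  classical
  set M : Matrix (Fin n) (Fin n) F := c.1
  haveI : Nonempty (Fin n) := ⟨⟨0, hn⟩⟩
  let B : Subalgebra F (Matrix (Fin n) (Fin n) F) := Algebra.adjoin F {M}
  have hMB : M ∈ B := Algebra.self_mem_adjoin_singleton F M
  -- at most `q ^ n` elements
  let g : (Fin n → F) → B := fun v => ⟨∑ i : Fin n, v i • M ^ (i : ℕ),
    B.sum_mem fun i _ => B.smul_mem (B.pow_mem hMB _) _⟩
  have hgs : Function.Surjective g := by
    rintro ⟨b, hb⟩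
    have hb' : b ∈ (Polynomial.aeval M : F[X] →ₐ[F] _).range := by
      rw [← Algebra.adjoin_singleton_eq_range_aeval]; exact hb
    obtain ⟨P, rfl⟩ := hb'
    refine ⟨fun i => (P %ₘ M.charpoly).coeff i, Subtype.ext ?_⟩
    show ∑ i : Fin n, (P %ₘ M.charpoly).coeff i • M ^ (i : ℕ) = aeval M P
    conv_rhs => rw [← Polynomial.modByMonic_add_div P M.charpoly, map_add, map_mul,
      Matrix.aeval_self_charpoly, zero_mul, add_zero]
    have hdeg : (P %ₘ M.charpoly).natDegree < n := by
      have := Polynomial.natDegree_modByMonic_lt P M.charpoly_monic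
        (fun h => by have := congrArg Polynomial.natDegree h; simp at this; omega)
      simpa [Matrix.charpoly_natDegree_eq_dim] using this
    rw [Polynomial.aeval_eq_sum_range' hdeg, Finset.sum_range]
  haveI : Finite B := Finite.of_surjective g hgs
  haveI : Fintype B := Fintype.ofFinite B
  have hB : Nat.card B ≤ Fintype.card F ^ n := by
    refine (Nat.card_le_card_of_surjective g hgs).trans ?_
    simp [Nat.card_eq_fintype_card]
  set N := Fintype.card F ^ n - 1 with hN
  have hNpos : 0 < N := by
    have : 1 < Fintype.card F ^ n := Nat.one_lt_pow (by omega) Fintype.one_lt_card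
    omega
  -- the nonzero elements are the powers of `c`
  have hpow : ∀ b : B, b ≠ 0 → ∃ i : Fin N, (b : Matrix (Fin n) (Fin n) F) = M ^ (i : ℕ) := by
    let φ : Fin N → {b : B // b ≠ 0} := fun i => ⟨⟨M ^ (i : ℕ), B.pow_mem hMB _⟩, fun h => by
      have h' : M ^ (i : ℕ) = 0 := congrArg Subtype.val h
      exact not_isUnit_zero (h' ▸ (c.isUnit.pow (i : ℕ)))⟩
    have hinj : Function.Injective φ := by
      intro i j h
      have h' : (c ^ (i : ℕ) : GL (Fin n) F) = c ^ (j : ℕ) :=
        Units.ext (by simpa [φ, M] using h)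
      exact Fin.ext (pow_injOn_Iio_orderOf (by simp [hc]) (by simp [hc]) h')
    have hsurj : Function.Surjective φ := by
      refine ((Fintype.bijective_iff_injective_and_card φ).2 ⟨hinj, ?_⟩).2
      rw [Fintype.card_fin, Fintype.card_subtype_compl, Fintype.card_subtype_eq]
      have h1 : Fintype.card B ≤ Fintype.card F ^ n := by rwa [← Nat.card_eq_fintype_card]
      have h2 := Fintype.card_le_of_injective φ hinj
      rw [Fintype.card_fin, Fintype.card_subtype_compl, Fintype.card_subtype_eq] at h2
      omega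
    intro b hb
    obtain ⟨i, hi⟩ := hsurj ⟨b, hb⟩
    exact ⟨i, (congrArg (fun x : {b : B // b ≠ 0} => ((x.1 : B) : Matrix (Fin n) (Fin n) F)) hi).symm⟩
  have hcomm : ∀ x y : B, x * y = y * x := by
    intro x y
    rcases eq_or_ne x 0 with rfl | hx
    · simp
    rcases eq_or_ne y 0 with rfl | hy
    · simp
    obtain ⟨i, hi⟩ := hpow x hx
    obtain ⟨j, hj⟩ := hpow y hy
    exact Subtype.ext (by simp only [Subalgebra.coe_mul, hi, hj, ← pow_add, add_comm])
  have hF : IsField B := by
    refine ⟨⟨0, 1, ?_⟩, hcomm, fun {x} hx => ?_⟩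
    · intro h
      exact zero_ne_one (congrArg Subtype.val h : (0 : Matrix (Fin n) (Fin n) F) = 1)
    · obtain ⟨i, hi⟩ := hpow x hx
      refine ⟨⟨M ^ (N - i), B.pow_mem hMB _⟩, Subtype.ext ?_⟩
      simp only [Subalgebra.coe_mul, hi, ← pow_add, OneMemClass.coe_one]
      rw [show (i : ℕ) + (N - i) = N from Nat.add_sub_cancel' i.isLt.le, ← Units.val_pow_eq_pow_val,
        ← hc, pow_orderOf_eq_one, Units.val_one]
  letI : Field B := hF.toField
  -- evaluation at a vector identifies the action with the regular one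
  let v : Fin n → F := Pi.single ⟨0, hn⟩ 1
  have hv : v ≠ 0 := fun h => by simpa [v] using congrFun h ⟨0, hn⟩
  let ev : B →ₗ[F] (Fin n → F) :=
    { toFun := fun b => (b : Matrix (Fin n) (Fin n) F) *ᵥ v
      map_add' := fun x y => by simp [add_mulVec]
      map_smul' := fun t x => by simp [smul_mulVec] }
  have hevi : Function.Injective ev := by
    rw [injective_iff_map_eq_zero]
    intro b hb
    by_contra h0
    obtain ⟨i, hi⟩ := hpow b h0
    have h1 : M ^ (i : ℕ) *ᵥ v = 0 := by rw [← hi]; exact hb
    have h2 := congrArg (fun w => ((c ^ (i : ℕ))⁻¹ : GL (Fin n) F).1 *ᵥ w) h1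
    simp only [mulVec_mulVec, mulVec_zero] at h2
    rw [show M ^ (i : ℕ) = (c ^ (i : ℕ)).1 from (Units.val_pow_eq_pow_val c i).symm,
      ← Units.val_mul, inv_mul_cancel, Units.val_one, one_mulVec] at h2
    exact hv h2
  have hevb : Function.Bijective ev := by
    refine ⟨hevi, fun w => ?_⟩
    have hsurj : Function.Surjective (ev ∘ g) := by
      refine Finite.surjective_of_injective (fun a b hab => ?_)
      have hab' := hevi hab
      have hbij : Function.Bijective g := by
        rw [Fintype.bijective_iff_surjective_and_card]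
        refine ⟨hgs, le_antisymm ?_ (Fintype.card_le_of_surjective g hgs)⟩
        rw [Fintype.card_fun, Fintype.card_fin]
        have h2 : Fintype.card {b : B // b ≠ 0} = N := by
          refine le_antisymm ?_ ?_
          · rw [Fintype.card_subtype_compl, Fintype.card_subtype_eq]
            have := hB
            rw [Nat.card_eq_fintype_card] at this
            omega
          · refine (Fintype.card_fin N).symm.le.trans (Fintype.card_le_of_injective
              (fun i : Fin N => (⟨⟨M ^ (i : ℕ), B.pow_mem hMB _⟩, fun h => ?_⟩ : {b : B // b ≠ 0})) ?_)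
            · have h' : M ^ (i : ℕ) = 0 := congrArg Subtype.val h
              exact not_isUnit_zero (h' ▸ (c.isUnit.pow (i : ℕ)))
            · intro i j h
              have h' : (c ^ (i : ℕ) : GL (Fin n) F) = c ^ (j : ℕ) :=
                Units.ext (by simpa [M] using h)
              exact Fin.ext (pow_injOn_Iio_orderOf (by simp [hc]) (by simp [hc]) h')
        rw [Fintype.card_subtype_compl, Fintype.card_subtype_eq] at h2
        omega
      exact hbij.1 hab'
    obtain ⟨a, ha⟩ := hsurj w
    exact ⟨g a, ha⟩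
  obtain ⟨b, hb⟩ := FiniteField.norm_surjective F B a
  have hb0 : b ≠ 0 := by
    rintro rfl
    exact ha (by rw [← hb, Algebra.norm_zero])
  obtain ⟨i, hi⟩ := hpow b hb0
  refine ⟨i, ?_⟩
  rw [← hb, Algebra.norm_apply, Units.val_pow_eq_pow_val, ← hi,
    ← LinearMap.det_toLin', ← LinearMap.det_conj (Algebra.lmul F B b) (LinearEquiv.ofBijective ev hevb)]
  congr 1
  apply LinearMap.ext
  intro w
  obtain ⟨u, rfl⟩ := hevb.2 w
  simp only [LinearMap.comp_apply, LinearEquiv.coe_coe]
  rw [show (LinearEquiv.ofBijective ev hevb).symm (ev u) = u from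
    (LinearEquiv.ofBijective ev hevb).symm_apply_apply u]
  show (b : Matrix (Fin n) (Fin n) F) *ᵥ ((u : Matrix (Fin n) (Fin n) F) *ᵥ v) = ev (b * u)
  rw [mulVec_mulVec]
  rfl

end CfsgLib.SingerDet
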