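/-
The subgroup generated by the elements of smallest class size.
-/
import Mathlib

set_option autoImplicit false

open scoped commutatorElement

namespace CfsgLib.SmallClasses

universe u

variable {G : Type u} [Group G] [Finite G]

/-- `[A, x]` is central when `x` has minimal non-trivial class size and `A` is abelian normal. -/
theorem commutator_central (A : Subgroup G) [hAn : A.Normal] (hA : ∀ a ∈ A, ∀ b ∈ A, a * b = b * a)
    (x : G) (hmin : ∀ y : G, 1 < (Subgroup.centralizer ({y} : Set G)).index →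
      (Subgroup.centralizer ({x} : Set G)).index ≤ (Subgroup.centralizer ({y} : Set G)).index)
    (a : G) (ha : a ∈ A) : ⁅a, x⁆ ∈ Subgroup.center G := by
  classical
  set C := Subgroup.centralizer ({x} : Set G) with hC
  set S := C ⊔ A with hS
  have hmemA : ∀ b ∈ A, ⁅b, x⁆ ∈ A := fun b hb => by
    rw [commutatorElement_def, mul_assoc, mul_assoc, ← mul_assoc x]
    exact A.mul_mem hb (hAn.conj_mem _ (A.inv_mem hb) x)
  let f : A →* A := MonoidHom.mk' (fun b => ⟨⁅(b : G), x⁆, hmemA b b.2⟩) (fun b c => Subtype.ext (by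
    show ⁅(b : G) * c, x⁆ = ⁅(b : G), x⁆ * ⁅(c : G), x⁆
    rw [hA _ (hmemA b b.2) _ (hmemA c c.2)]
    rw [show ⁅(b : G) * c, x⁆ = ((b : G) * ⁅(c : G), x⁆ * (b : G)⁻¹) * ⁅(b : G), x⁆ by simp only [commutatorElement_def]; group,
      hA _ b.2 _ (hmemA c c.2), mul_inv_cancel_right]))
  set K := f.range.map A.subtype with hK
  -- conjugation by `S` preserves `K`
  have hSK : S ≤ Subgroup.normalizer (K : Set G) := by
    refine Subgroup.le_normalizer_iff.mpr fun s hs k hk => ?_
    obtain ⟨c, hc, b, hb, rfl⟩ := Subgroup.mem_sup_of_normal_right.mp hs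
    obtain ⟨_, ⟨d, rfl⟩, rfl⟩ := hk
    have hb' : b * ⁅(d : G), x⁆ * b⁻¹ = ⁅(d : G), x⁆ := by
      rw [hA b hb _ (hmemA d d.2), mul_inv_cancel_right]
    refine ⟨f ⟨c * d * c⁻¹, hAn.conj_mem _ d.2 c⟩, ⟨_, rfl⟩, ?_⟩
    show ⁅c * (d : G) * c⁻¹, x⁆ = c * b * ⁅(d : G), x⁆ * (c * b)⁻¹
    rw [show c * b * ⁅(d : G), x⁆ * (c * b)⁻¹ = c * (b * ⁅(d : G), x⁆ * b⁻¹) * c⁻¹ by group, hb']
    rw [show c * ⁅(d : G), x⁆ * c⁻¹ = ⁅c * (d : G) * c⁻¹, c * x * c⁻¹⁆ by simp only [commutatorElement_def]; group,
      show c * x * c⁻¹ = x by rw [Subgroup.mem_centralizer_singleton_iff.mp hc, mul_inv_cancel_right]]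
  -- the order of `K`
  have hKcard : Nat.card K = C.relIndex A := by
    rw [hK, Subgroup.card_map_of_injective A.subtype_injective, ← Nat.card_congr (QuotientGroup.quotientKerEquivRange f).toEquiv]
    have hker : f.ker = C.subgroupOf A := by
      ext b
      rw [MonoidHom.mem_ker, Subgroup.mem_subgroupOf, hC, Subgroup.mem_centralizer_singleton_iff]
      constructor
      · intro h
        exact commutatorElement_eq_one_iff_mul_comm.mp (congrArg Subtype.val h)
      · intro h
        exact Subtype.ext (commutatorElement_eq_one_iff_mul_comm.mpr h)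
    rw [hker]; rfl
  have hrel : C.relIndex S = C.relIndex A := by
    have e1 := Subgroup.relIndex_mul_relIndex (C ⊓ A) C S inf_le_left le_sup_left
    have e2 := Subgroup.relIndex_mul_relIndex (C ⊓ A) A S inf_le_right le_sup_right
    rw [Subgroup.inf_relIndex_left] at e1
    rw [Subgroup.inf_relIndex_right, hS, Subgroup.relIndex_sup_right, ← hS, ← e1, mul_comm (C.relIndex A)] at e2
    exact (Nat.eq_of_mul_eq_mul_left (Nat.pos_of_ne_zero Subgroup.index_ne_zero_of_finite) e2).symm
  set y := ⁅a, x⁆ with hy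
  by_contra hyc
  have hy1 : y ≠ 1 := fun e => hyc (e ▸ one_mem _)
  have hyK : y ∈ K := ⟨f ⟨a, ha⟩, ⟨_, rfl⟩, rfl⟩
  set D := Subgroup.centralizer ({y} : Set G) with hD
  -- the orbit of `y` under `S`
  have horb : D.relIndex S < Nat.card K := by
    let g : S ⧸ D.subgroupOf S → {z : K // (z : G) ≠ 1} := fun q =>
      ⟨⟨(q.out : G) * y * (q.out : G)⁻¹, (Subgroup.mem_normalizer_iff.mp (hSK q.out.2) y).mp hyK⟩,
        fun e => hy1 (conj_eq_one_iff.mp e)⟩
    have hg : Function.Injective g := by
      intro q r h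
      have h' : (q.out : G) * y * (q.out : G)⁻¹ = (r.out : G) * y * (r.out : G)⁻¹ := congrArg (fun z => ((z.1 : K) : G)) h
      rw [← QuotientGroup.out_eq' q, ← QuotientGroup.out_eq' r, QuotientGroup.eq, Subgroup.mem_subgroupOf]
      refine Subgroup.mem_centralizer_singleton_iff.mpr ?_
      simp only [Subgroup.coe_mul, Subgroup.coe_inv]
      calc (q.out : G)⁻¹ * r.out * y = (q.out : G)⁻¹ * ((r.out : G) * y * (r.out : G)⁻¹) * r.out := by group
        _ = (q.out : G)⁻¹ * ((q.out : G) * y * (q.out : G)⁻¹) * r.out := by rw [h']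
        _ = y * ((q.out : G)⁻¹ * r.out) := by group
    refine (Nat.card_le_card_of_injective g hg).trans_lt ?_
    exact Finite.card_subtype_lt (p := fun z : K => (z : G) ≠ 1) (x := 1) (by simp)
  have hD1 : 1 < D.index := by
    refine Subgroup.one_lt_index_of_ne_top fun e => hyc ?_
    rw [Subgroup.mem_center_iff]
    intro g
    exact Subgroup.mem_centralizer_singleton_iff.mp (e ▸ Subgroup.mem_top g : g ∈ D)
  have h1 := hmin y hD1
  have h2 : D.index ≤ D.relIndex S * S.index := by
    rw [← Subgroup.inf_relIndex_right, Subgroup.relIndex_mul_index inf_le_right]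
    exact Nat.le_of_dvd (Nat.pos_of_ne_zero Subgroup.index_ne_zero_of_finite) (Subgroup.index_dvd_of_le inf_le_left)
  have h3 : C.index = Nat.card K * S.index := by
    rw [hKcard, ← hrel, Subgroup.relIndex_mul_index le_sup_left]
  have h4 : D.relIndex S * S.index < Nat.card K * S.index :=
    Nat.mul_lt_mul_of_pos_right horb (Nat.pos_of_ne_zero Subgroup.index_ne_zero_of_finite)
  have h5 := (h1.trans h2).trans_lt h4
  rw [← h3] at h5
  exact lt_irrefl _ h5

/-- Isaacs: with a self-centralising normal abelian subgroup, the elements of the two smallest class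
sizes generate a subgroup of class at most three. -/
theorem class_le_three (A : Subgroup G) [A.Normal] (hA : ∀ a ∈ A, ∀ b ∈ A, a * b = b * a)
    (hCA : Subgroup.centralizer (A : Set G) ≤ A) (m : ℕ)
    (hmin : ∀ x : G, 1 < (Subgroup.centralizer ({x} : Set G)).index → m ≤ (Subgroup.centralizer ({x} : Set G)).index) :
    Subgroup.upperCentralSeries ↥(Subgroup.closure {x : G | (Subgroup.centralizer ({x} : Set G)).index = 1 ∨ (Subgroup.centralizer ({x} : Set G)).index = m}) 3 = ⊤ := by
  set M := Subgroup.closure {x : G | (Subgroup.centralizer ({x} : Set G)).index = 1 ∨ (Subgroup.centralizer ({x} : Set G)).index = m} with hM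
  have hAM : ∀ a ∈ A, ∀ z ∈ M, ⁅a, z⁆ ∈ Subgroup.center G := by
    intro a ha z hz
    have key : ∀ g ∈ M, ∀ a ∈ A, ⁅a, g⁆ ∈ Subgroup.center G := by
      intro g hg
      induction hg using Subgroup.closure_induction with
      | mem g hg =>
        intro a ha
        rcases hg with h | h
        · have hgc : Commute a g := (Subgroup.mem_centralizer_singleton_iff.mp
            ((Subgroup.index_eq_one.mp h).symm ▸ Subgroup.mem_top a : a ∈ Subgroup.centralizer {g}))
          rw [commutatorElement_eq_one_iff_commute.mpr hgc]; exact one_mem _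
        · exact commutator_central A hA g (fun y hy => h ▸ hmin y hy) a ha
      | one => intro a _; rw [commutatorElement_one_right]; exact one_mem _
      | mul g k _ _ h1 h2 =>
        intro a ha
        rw [show ⁅a, g * k⁆ = ⁅a, g⁆ * (g * ⁅a, k⁆ * g⁻¹) by simp only [commutatorElement_def]; group]
        exact mul_mem (h1 a ha) ((inferInstance : (Subgroup.center G).Normal).conj_mem _ (h2 a ha) g)
      | inv g _ h1 =>
        intro a ha
        rw [show ⁅a, g⁻¹⁆ = g⁻¹ * ⁅a, g⁆⁻¹ * g⁻¹⁻¹ by simp only [commutatorElement_def]; group]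
        exact (inferInstance : (Subgroup.center G).Normal).conj_mem _ (inv_mem (h1 a ha)) g⁻¹
    exact key z hz a ha
  have h1 : ⁅A, M⁆ ≤ Subgroup.center G := Subgroup.commutator_le.mpr hAM
  have h2 : ⁅⁅M, M⁆, A⁆ = ⊥ := by
    have h3 : ⁅⁅A, M⁆, M⁆ = ⊥ := Subgroup.commutator_eq_bot_iff_le_centralizer.mpr
      (h1.trans (Subgroup.center_le_centralizer _))
    refine Subgroup.commutator_commutator_eq_bot_of_rotate ?_ ?_
    · rw [Subgroup.commutator_comm M A]; exact h3
    · exact h3
  have h4 : ⁅M, M⁆ ≤ A := (Subgroup.commutator_eq_bot_iff_le_centralizer.mp h2).trans hCA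
  have h5 : M.lowerCentralSeries 3 = ⊥ := by
    show ⁅⁅⁅M, M⁆, M⁆, M⁆ = ⊥
    exact Subgroup.commutator_eq_bot_iff_le_centralizer.mpr
      ((Subgroup.commutator_mono h4 le_rfl).trans (h1.trans (Subgroup.center_le_centralizer _)))
  rw [← Subgroup.lowerCentralSeries_eq_bot_iff_upperCentralSeries_eq_top]
  rw [← Subgroup.top_subtype_lowerCentralSeries] at h5
  exact (Subgroup.map_eq_bot_iff_of_injective _ M.subtype_injective).mp h5

end CfsgLib.SmallClasses
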