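/-
Counts in S(3,6,22) needed for the two strongly regular graphs.
-/
import Cfsg.Agent.Lib.SteinerCount

set_option autoImplicit false

namespace CfsgSteiner

open Cfsg

variable {α : Type*} [Fintype α] [DecidableEq α]

theorem card_disjoint_322 (hα : Fintype.card α = 22) {B : Set (Finset α)} (hB : IsSteinerSystem 3 6 B)
    {b : Finset α} (hb : b ∈ B) : ((blocks B).filter fun d => Disjoint b d).card = 16 := by
  rw [← ncard_setOf B (fun d => Disjoint b d),
    card_disjoint_eq (by rw [hB.1 b hb]; norm_num)]
  exact (dist_3_6_22 hα hB hb).1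

theorem card_through_point_322 (hα : Fintype.card α = 22) {B : Set (Finset α)} (hB : IsSteinerSystem 3 6 B)
    (a : α) : ((blocks B).filter fun d => a ∈ d).card = 21 := by
  rw [← lambda_eq hB hα (s := {a}) (by simp) (by norm_num) (L := 21) (by simp; decide)]
  congr 1; exact Finset.filter_congr fun d _ => by simp

theorem card_through_two_322 (hα : Fintype.card α = 22) {B : Set (Finset α)} (hB : IsSteinerSystem 3 6 B)
    {a a' : α} (h : a ≠ a') : ((blocks B).filter fun d => a ∈ d ∧ a' ∈ d).card = 5 := by
  rw [← lambda_eq hB hα (s := {a, a'}) (by simp [h]) (by norm_num) (L := 5) (by simp [h])]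
  congr 1; exact Finset.filter_congr fun d _ => by simp [Finset.insert_subset_iff]

theorem card_through_disjoint_322 (hα : Fintype.card α = 22) {B : Set (Finset α)} (hB : IsSteinerSystem 3 6 B)
    {b : Finset α} (hb : b ∈ B) {a : α} (ha : a ∉ b) :
    ((blocks B).filter fun d => a ∈ d ∧ Disjoint b d).card = 6 := by
  have key := fun (i L : ℕ) (hi : i ≤ 2) (hL : L * Nat.choose (6 - (1 + i)) (3 - (1 + i)) = Nat.choose (22 - (1 + i)) (3 - (1 + i))) =>
    moment_split hB hα (by norm_num) (S := {a}) (A := b) (Finset.disjoint_singleton_left.mpr ha) ∅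
      (Finset.empty_subset _) (m := 3) (i := i) (L := L)
      (fun d hd _ => by
        simp only [Finset.mem_filter, mem_blocks] at hd
        refine inter_card_lt hB hd.1 hb ?_
        rintro rfl; exact ha (hd.2 (Finset.mem_singleton_self a)))
      (by simp; omega) (by simpa using hL)
  have e0 := key 0 21 (by norm_num) (by decide)
  have e1 := key 1 5 (by norm_num) (by decide)
  have e2 := key 2 1 (by norm_num) (by decide)
  have h1 : ((((blocks B).filter (({a} : Finset α) ⊆ ·)) \ ∅).filter fun d => (d ∩ b).card = 1).card = 0 := by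
    rw [Finset.card_eq_zero, Finset.filter_eq_empty_iff]
    intro d hd he
    simp only [Finset.sdiff_empty, Finset.mem_filter, mem_blocks, Finset.singleton_subset_iff] at hd
    have := inter_3_6_22 hα hB hd.1 hb (fun h => ha (h ▸ hd.2))
    omega
  simp [-Finset.card_eq_zero, Finset.sum_range_succ, hB.1 b hb, Nat.choose_eq_descFactorial_div_factorial,
    Nat.descFactorial, Nat.factorial] at e0 e1 e2 h1
  have h0 : (((blocks B).filter fun x => a ∈ x).filter fun d => (d ∩ b).card = 0) =
      (blocks B).filter fun d => a ∈ d ∧ Disjoint b d := by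
    rw [Finset.filter_filter]
    refine Finset.filter_congr fun d _ => ?_
    rw [Finset.card_eq_zero, ← Finset.disjoint_iff_inter_eq_empty, disjoint_comm]
  rw [← h0]
  omega

theorem card_disjoint_both_322 (hα : Fintype.card α = 22) {B : Set (Finset α)} (hB : IsSteinerSystem 3 6 B)
    {b c : Finset α} (hb : b ∈ B) (hc : c ∈ B) (hne : b ≠ c) :
    ((blocks B).filter fun d => Disjoint b d ∧ Disjoint c d).card = if Disjoint b c then 0 else 4 := by
  set F := (blocks B).filter fun d => ¬ d = b ∧ ¬ d = c with hF
  let z := fun d : Finset α => (d ∩ (b ∩ c)).card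
  have hsplit : ∀ d, (d ∩ (b ∪ c)).card + z d = (d ∩ b).card + (d ∩ c).card := by
    intro d
    rw [Finset.inter_union_distrib_left]
    have hz : z d = ((d ∩ b) ∩ (d ∩ c)).card := by
      refine congrArg Finset.card ?_
      ext x; simp; tauto
    rw [hz]
    exact Finset.card_union_add_card_inter _ _
  have hEsub : ({b, c} : Finset (Finset α)) ⊆ (blocks B).filter ((∅ : Finset α) ⊆ ·) := by
    simp [Finset.insert_subset_iff, hb, hc]
  have hval : ∀ d ∈ B, d ≠ b → d ≠ c →
      (d ∩ (b ∪ c)).card ≤ 4 ∧ (d ∩ (b ∪ c)).card ≠ 1 ∧ (Disjoint b c → (d ∩ (b ∪ c)).card ≠ 3) := by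
    intro d hd h1 h2
    have := inter_3_6_22 hα hB hd hb h1
    have := inter_3_6_22 hα hB hd hc h2
    have := hsplit d
    have hz1 : z d ≤ (d ∩ b).card := Finset.card_le_card fun x hx => by simp at hx ⊢; tauto
    have hz2 : z d ≤ (d ∩ c).card := Finset.card_le_card fun x hx => by simp at hx ⊢; tauto
    refine ⟨by omega, by omega, fun hdj => ?_⟩
    have hz : z d = 0 := by simp [z, Finset.disjoint_iff_inter_eq_empty.mp hdj]
    omega
  have key := fun (i L : ℕ) (hi : i ≤ 3) (hL : L * Nat.choose (6 - i) (3 - i) = Nat.choose (22 - i) (3 - i)) =>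
    moment_split hB hα (by norm_num) (S := ∅) (A := b ∪ c) (Finset.disjoint_empty_left _) {b, c}
      hEsub (m := 5) (i := i) (L := L)
      (fun d hd hne' => by
        simp only [Finset.mem_filter, mem_blocks, Finset.mem_insert, Finset.mem_singleton, not_or] at hd hne'
        have := (hval d hd.1 hne'.1 hne'.2).1
        omega)
      (by simp; omega) (by simpa using hL)
  have e0 := key 0 77 (by norm_num) (by decide)
  have e1 := key 1 21 (by norm_num) (by decide)
  have e2 := key 2 5 (by norm_num) (by decide)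
  have e3 := key 3 1 (by norm_num) (by decide)
  have hu : (b ∪ c).card + (b ∩ c).card = 12 := by
    rw [Finset.card_union_add_card_inter, hB.1 b hb, hB.1 c hc]
  have hbA : b ∩ (b ∪ c) = b := Finset.inter_eq_left.mpr Finset.subset_union_left
  have hcA : c ∩ (b ∪ c) = c := Finset.inter_eq_left.mpr Finset.subset_union_right
  have h1 : ((((blocks B).filter ((∅ : Finset α) ⊆ ·)) \ {b, c}).filter fun d => (d ∩ (b ∪ c)).card = 1).card = 0 := by
    rw [Finset.card_eq_zero, Finset.filter_eq_empty_iff]
    intro d hd he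
    simp only [Finset.mem_sdiff, Finset.mem_filter, mem_blocks, Finset.mem_insert, Finset.mem_singleton, not_or] at hd
    exact (hval d hd.1.1 hd.2.1 hd.2.2).2.1 he
  have h3 : Disjoint b c →
      ((((blocks B).filter ((∅ : Finset α) ⊆ ·)) \ {b, c}).filter fun d => (d ∩ (b ∪ c)).card = 3).card = 0 := by
    intro hdj
    rw [Finset.card_eq_zero, Finset.filter_eq_empty_iff]
    intro d hd he
    simp only [Finset.mem_sdiff, Finset.mem_filter, mem_blocks, Finset.mem_insert, Finset.mem_singleton, not_or] at hd
    exact (hval d hd.1.1 hd.2.1 hd.2.2).2.2 hdj he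
  have h0 : ((((blocks B).filter ((∅ : Finset α) ⊆ ·)) \ {b, c}).filter fun d => (d ∩ (b ∪ c)).card = 0) =
      (blocks B).filter fun d => Disjoint b d ∧ Disjoint c d := by
    ext d
    simp only [Finset.mem_sdiff, Finset.mem_filter, mem_blocks, Finset.mem_insert, Finset.mem_singleton, not_or,
      Finset.empty_subset, and_true, Finset.card_eq_zero, ← Finset.disjoint_iff_inter_eq_empty,
      Finset.disjoint_union_right]
    constructor
    · rintro ⟨⟨hd, -⟩, hdb, hdc⟩; exact ⟨hd, hdb.symm, hdc.symm⟩
    · rintro ⟨hd, hdb, hdc⟩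
      refine ⟨⟨hd, fun h => ?_, fun h => ?_⟩, hdb.symm, hdc.symm⟩
      · subst h; have := hB.1 d hd; simp at hdb; simp [hdb] at this
      · subst h; have := hB.1 d hd; simp at hdc; simp [hdc] at this
  rw [← h0]
  rw [Finset.sum_pair hne, hbA, hcA, hB.1 b hb, hB.1 c hc] at e0 e1 e2 e3
  simp only [Finset.sum_range_succ, Finset.sum_range_zero, zero_add] at e0 e1 e2 e3
  simp only [Finset.empty_subset, Finset.filter_true] at h1 h3 e0 e1 e2 e3 ⊢
  rcases inter_3_6_22 hα hB hb hc hne with hi | hi
  · have hdj : Disjoint b c := Finset.disjoint_iff_inter_eq_empty.mpr (Finset.card_eq_zero.mp hi)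
    have := h3 hdj
    rw [show (b ∪ c).card = 12 by omega] at e0 e1 e2 e3
    norm_num [-Finset.card_eq_zero, Nat.choose_eq_descFactorial_div_factorial, Nat.descFactorial, Nat.factorial] at e0 e1 e2 e3
    rw [if_pos hdj]
    omega
  · have hdj : ¬ Disjoint b c := fun h => by simp [Finset.disjoint_iff_inter_eq_empty.mp h] at hi
    rw [show (b ∪ c).card = 10 by omega] at e0 e1 e2 e3
    norm_num [-Finset.card_eq_zero, Nat.choose_eq_descFactorial_div_factorial, Nat.descFactorial, Nat.factorial] at e0 e1 e2 e3
    rw [if_neg hdj]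
    omega

end CfsgSteiner
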