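/-
Subnormalisers of p-subgroups.
-/
import Mathlib
import Cfsg.Prelude.Def_Solvable
import Cfsg.Agent.Lib.Basic
import Cfsg.Agent.Lib.Components
import Cfsg.Agent.Lib.Subnormal

set_option autoImplicit false

open Cfsg

namespace CfsgLib.Subnormalizer

universe u

variable {G : Type u} [Group G] [Finite G]

/-- `H` is subnormal in `⟨H, g⟩` iff `g` normalises a `p`-radical subgroup containing `H`. -/
theorem isSubnormal_iff_radical (p : ℕ) [Fact p.Prime] (H : Subgroup G) (hH : IsPGroup p H) (g : G) :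
    ((H).subgroupOf (H ⊔ Subgroup.zpowers g)).IsSubnormal ↔
      ∃ R : Subgroup G, H ≤ R ∧ (Cfsg.pCore p (Subgroup.normalizer (R : Set G))).map (Subgroup.normalizer (R : Set G)).subtype = R ∧ g ∈ Subgroup.normalizer (R : Set G) := by
  constructor
  · intro hs
    set A := H ⊔ Subgroup.zpowers g with hA
    have h0 := CfsgLib.isSubnormal_isPGroup_le_pCore hs
      (hH.of_equiv (Subgroup.subgroupOfEquivOfLe (le_sup_left : H ≤ A)).symm)
    set R₀ := (pCore p A).map A.subtype with hR₀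
    have hHR₀ : H ≤ R₀ := by
      rw [← Subgroup.map_subgroupOf_eq_of_le (le_sup_left : H ≤ A)]
      exact Subgroup.map_mono h0
    have hgR₀ : g ∈ Subgroup.normalizer (R₀ : Set G) := by
      refine Subgroup.mem_normalizer_fintype ?_
      rintro _ ⟨y, hy, rfl⟩
      refine ⟨⟨g, Subgroup.mem_sup_right (Subgroup.mem_zpowers g)⟩ * y *
        ⟨g, Subgroup.mem_sup_right (Subgroup.mem_zpowers g)⟩⁻¹, ?_, rfl⟩
      exact (inferInstance : (pCore p A).Normal).conj_mem y hy _
    obtain ⟨R, ⟨hRp, hR, hgR⟩, hmax⟩ := (Set.toFinite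
      {R : Subgroup G | IsPGroup p R ∧ R₀ ≤ R ∧ g ∈ Subgroup.normalizer (R : Set G)}).exists_maximal
      ⟨R₀, (CfsgLib.isPGroup_pCore p).map _, le_rfl, hgR₀⟩
    refine ⟨R, hHR₀.trans hR, ?_, hgR⟩
    set N := Subgroup.normalizer (R : Set G) with hN
    have hRN : R ≤ N := Subgroup.le_normalizer
    have hle : R ≤ (pCore p N).map N.subtype := by
      have : (R.subgroupOf N).Normal := Subgroup.normal_in_normalizer
      rw [← Subgroup.map_subgroupOf_eq_of_le hRN]
      exact Subgroup.map_mono (CfsgLib.le_pCore (hRp.of_equiv (Subgroup.subgroupOfEquivOfLe hRN).symm))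
    refine le_antisymm (hmax ⟨(CfsgLib.isPGroup_pCore p).map _, hR.trans hle, ?_⟩ hle) hle
    refine Subgroup.mem_normalizer_fintype ?_
    rintro _ ⟨y, hy, rfl⟩
    exact ⟨(⟨g, hgR⟩ : N) * y * (⟨g, hgR⟩ : N)⁻¹, (inferInstance : (pCore p N).Normal).conj_mem y hy _, rfl⟩
  · rintro ⟨R, hHR, hReq, hgR⟩
    have hRp : IsPGroup p R := hReq ▸ (CfsgLib.isPGroup_pCore p).map _
    set A := H ⊔ Subgroup.zpowers g with hA
    have hAN : A ≤ Subgroup.normalizer (R : Set G) :=
      sup_le (hHR.trans Subgroup.le_normalizer) (Subgroup.zpowers_le.mpr hgR)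
    have hTn : (R.subgroupOf A).Normal := by
      constructor
      intro x hx y
      exact (Subgroup.mem_normalizer_iff.mp (hAN y.2) x).mp hx
    have hTp : IsPGroup p (R.subgroupOf A) := hRp.of_injective (A.subtype.subgroupComap R) (fun a b h =>
      Subtype.ext (Subtype.ext (congrArg (fun t : R => (t : G)) h)))
    have := hTp.isNilpotent
    exact Subgroup.IsSubnormal.trans (K := R.subgroupOf A) (Subgroup.comap_mono hHR)
      (CfsgLib.isSubnormal_of_nilpotent _) hTn.isSubnormal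

/-- A `p`-radical subgroup is an intersection of Sylow subgroups. -/
theorem radical_ge_sInf (p : ℕ) [Fact p.Prime] (H R : Subgroup G) (hHR : H ≤ R)
    (hR : (Cfsg.pCore p (Subgroup.normalizer (R : Set G))).map (Subgroup.normalizer (R : Set G)).subtype = R) :
    sInf {K : Subgroup G | ∃ Q : Sylow p G, H ≤ (Q : Subgroup G) ∧ K = (Q : Subgroup G)} ≤ R := by
  have hRp : IsPGroup p R := hR ▸ (CfsgLib.isPGroup_pCore p).map _
  set X := sInf {K : Subgroup G | ∃ Q : Sylow p G, R ≤ (Q : Subgroup G) ∧ K = (Q : Subgroup G)} with hX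
  refine le_trans (sInf_le_sInf ?_) (le_of_eq_of_le (rfl : X = X) ?_)
  · rintro _ ⟨Q, hQ, rfl⟩; exact ⟨Q, hHR.trans hQ, rfl⟩
  obtain ⟨Q₀, hQ₀⟩ := hRp.exists_le_sylow
  have hXQ : X ≤ (Q₀ : Subgroup G) := sInf_le ⟨Q₀, hQ₀, rfl⟩
  have hRX : R ≤ X := le_sInf (by rintro _ ⟨Q, hQ, rfl⟩; exact hQ)
  have hXp : IsPGroup p X := Q₀.isPGroup'.to_le hXQ
  set N := Subgroup.normalizer (R : Set G) with hN
  have hXN : X ⊓ N ≤ R := by
    intro x hx
    rw [← hR]
    refine ⟨⟨x, hx.2⟩, ?_, rfl⟩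
    -- `X ∩ N` lies in every Sylow subgroup of `N`, so in its core
    have hTn : ((⨅ T : Sylow p N, (T : Subgroup N))).Normal := by
      refine ⟨fun y hy z => ?_⟩
      rw [Subgroup.mem_iInf] at hy ⊢
      intro T
      have h1 := hy (z⁻¹ • T)
      rw [Sylow.coe_subgroup_smul, Subgroup.mem_pointwise_smul_iff_inv_smul_mem, MulAut.smul_def,
        MulAut.conj_inv_apply] at h1
      simpa using h1
    obtain ⟨T₀⟩ : Nonempty (Sylow p N) := inferInstance
    refine CfsgLib.le_pCore (T₀.isPGroup'.to_le (iInf_le _ T₀)) (Subgroup.mem_iInf.mpr fun T => ?_)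
    -- `T` extends to a Sylow subgroup containing `R`
    have hRT : R.subgroupOf N ≤ T := by
      have : (R.subgroupOf N).Normal := Subgroup.normal_in_normalizer
      exact (hRp.of_equiv (Subgroup.subgroupOfEquivOfLe Subgroup.le_normalizer).symm).le_sylow_of_normal T
    obtain ⟨S, hS⟩ := (T.isPGroup'.map N.subtype).exists_le_sylow
    have hRS : R ≤ (S : Subgroup G) := by
      refine le_trans ?_ hS
      rw [← Subgroup.map_subgroupOf_eq_of_le (Subgroup.le_normalizer : R ≤ N)]
      exact Subgroup.map_mono hRT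
    have h2 : (T : Subgroup N) ≤ (S : Subgroup G).subgroupOf N := fun y hy => hS ⟨y, hy, rfl⟩
    have h3 := T.is_maximal' (S.isPGroup'.comap_of_injective N.subtype N.subtype_injective) h2
    have h4 : x ∈ (S : Subgroup G) := (sInf_le ⟨S, hRS, rfl⟩ : X ≤ (S : Subgroup G)) hx.1
    exact h3.le (show (⟨x, hx.2⟩ : N) ∈ (S : Subgroup G).subgroupOf N from h4)
  by_contra hne
  have hlt : R.subgroupOf X < ⊤ := lt_top_iff_ne_top.mpr fun e => hne (Subgroup.subgroupOf_eq_top.mp e)
  refine (Group.normalizerCondition_of_isNilpotent (h := hXp.isNilpotent) _ hlt).not_ge fun y hy => ?_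
  refine hXN ⟨y.2, ?_⟩
  refine Subgroup.mem_normalizer_fintype fun z hz => ?_
  exact (Subgroup.mem_normalizer_iff.mp hy ⟨z, hRX hz⟩).mp hz

end CfsgLib.Subnormalizer
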