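import Cfsg.Agent.Lib.Subnormalizer

/-!
The number of elements of a subnormalizer of a `p`-subgroup.

For an element `g` the weights `wt` invert the order relation on the invariant `p`-subgroups; their
totals over a normalizer vanish except at Sylow subgroups.
-/

set_option autoImplicit false

namespace CfsgLib.SubnCount

variable {G : Type*} [Group G] [Finite G] {p : ℕ}

noncomputable local instance : Fintype (Subgroup G) := Fintype.ofFinite _

noncomputable local instance : Fintype G := Fintype.ofFinite _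

open scoped Classical in
/-- The invariant `p`-subgroups of `M`. -/
noncomputable def inv (p : ℕ) (M : Subgroup G) (g : G) : Finset (Subgroup G) :=
  Finset.univ.filter fun R => R ≤ M ∧ IsPGroup p R ∧ g ∈ Subgroup.normalizer (R : Set G)

theorem mem_inv {M : Subgroup G} {g : G} {R : Subgroup G} :
    R ∈ inv p M g ↔ R ≤ M ∧ IsPGroup p R ∧ g ∈ Subgroup.normalizer (R : Set G) := by
  simp [inv]

open scoped Classical in
/-- The weights. -/
noncomputable def wt (p : ℕ) (M : Subgroup G) (g : G) (K : Subgroup G) : ℤ :=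
  1 - ∑ R ∈ ((inv p M g).filter fun R => K < R).attach, wt p M g R.1
termination_by Nat.card G - Nat.card K
decreasing_by
  have hlt : K < R.1 := (Finset.mem_filter.mp R.2).2
  have h1 : Nat.card K < Nat.card R.1 := Set.ncard_lt_ncard (SetLike.coe_ssubset_coe.mpr hlt) (Set.toFinite _)
  have h2 := Subgroup.card_le_card_group R.1
  omega

open scoped Classical in
theorem wt_eq (M : Subgroup G) (g : G) (K : Subgroup G) :
    wt p M g K = 1 - ∑ R ∈ (inv p M g).filter (fun R => K < R), wt p M g R := by
  rw [wt, Finset.sum_attach _ (fun R => wt p M g R)]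

open scoped Classical in
theorem sum_ge {M : Subgroup G} {g : G} {K : Subgroup G} (hK : K ∈ inv p M g) :
    ∑ R ∈ (inv p M g).filter (fun R => K ≤ R), wt p M g R = 1 := by
  have h : (inv p M g).filter (fun R => K ≤ R) = insert K ((inv p M g).filter fun R => K < R) := by
    ext R
    simp only [Finset.mem_filter, Finset.mem_insert]
    constructor
    · rintro ⟨h1, h2⟩
      rcases eq_or_lt_of_le h2 with h3 | h3
      · exact Or.inl h3.symm
      · exact Or.inr ⟨h1, h3⟩
    · rintro (rfl | ⟨h1, h2⟩)
      · exact ⟨hK, le_rfl⟩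
      · exact ⟨h1, h2.le⟩
  rw [h, Finset.sum_insert (by simp), wt_eq M g K]
  ring

open scoped Classical in
/-- The weight of a subgroup is computed inside its normalizer. -/
theorem wt_local [Fact p.Prime] {M : Subgroup G} {g : G} {K : Subgroup G} (hK : K ∈ inv p M g) :
    wt p M g K = wt p (M ⊓ Subgroup.normalizer (K : Set G)) g K := by
  set N := M ⊓ Subgroup.normalizer (K : Set G) with hN
  let r : Subgroup G → Subgroup G := fun R => R ⊓ Subgroup.normalizer (K : Set G)
  have hgK := (mem_inv.mp hK).2.2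
  have hr : ∀ R ∈ (inv p M g).filter (fun R => K < R), r R ∈ (inv p N g).filter (fun R => K < R) := by
    intro R hR
    obtain ⟨hR, hlt⟩ := Finset.mem_filter.mp hR
    obtain ⟨hRM, hRp, hgR⟩ := mem_inv.mp hR
    refine Finset.mem_filter.mpr ⟨mem_inv.mpr ⟨inf_le_inf_right _ hRM, hRp.to_le inf_le_left, ?_⟩, ?_⟩
    · refine Subgroup.mem_normalizer_iff.mpr fun x => ?_
      simp only [r, Subgroup.mem_inf]
      refine and_congr (Subgroup.mem_normalizer_iff.mp hgR x) ⟨fun hx => ?_, fun hx => ?_⟩
      · exact mul_mem (mul_mem hgK hx) (inv_mem hgK)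
      · have := mul_mem (mul_mem (inv_mem hgK) hx) hgK
        simpa [mul_assoc] using this
    · refine lt_of_le_of_ne (le_inf hlt.le Subgroup.le_normalizer) fun he => ?_
      have hnc : Group.IsNilpotent R := hRp.isNilpotent
      have hne : K.subgroupOf R < ⊤ := lt_top_iff_ne_top.mpr fun h => hlt.not_ge (Subgroup.subgroupOf_eq_top.mp h)
      have := normalizerCondition_of_isNilpotent _ hne
      apply this.ne
      refine le_antisymm Subgroup.le_normalizer fun x hx => ?_
      rw [Subgroup.mem_subgroupOf, he]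
      refine ⟨x.2, Subgroup.mem_normalizer_iff.mpr fun y => ?_⟩
      constructor
      · intro hy
        exact (Subgroup.mem_normalizer_iff.mp hx (⟨y, hlt.le hy⟩ : R)).mp hy
      · intro hy
        have hyR : y ∈ R := by
          have := mul_mem (mul_mem (R.inv_mem x.2) (hlt.le hy)) x.2
          simpa [mul_assoc] using this
        exact (Subgroup.mem_normalizer_iff.mp hx (⟨y, hyR⟩ : R)).mpr hy
  let u : Subgroup G → ℤ := fun R =>
    ∑ T ∈ ((inv p M g).filter fun T => K < T).filter (fun T => r T = R), wt p M g T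
  have hu : ∀ R ∈ (inv p N g).filter (fun R => K < R),
      ∑ R' ∈ (inv p N g).filter (fun T => R ≤ T), u R' = 1 := by
    intro R hR
    obtain ⟨hR, hlt⟩ := Finset.mem_filter.mp hR
    obtain ⟨hRN, hRp, hgR⟩ := mem_inv.mp hR
    have hRM : R ∈ inv p M g := mem_inv.mpr ⟨hRN.trans inf_le_left, hRp, hgR⟩
    have hset : (inv p M g).filter (fun T => R ≤ T) =
        ((inv p M g).filter fun T => K < T).filter
          (fun T => r T ∈ (inv p N g).filter (fun T' => R ≤ T')) := by
      ext T
      constructor
      · intro hT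
        obtain ⟨hT, hRT⟩ := Finset.mem_filter.mp hT
        have hKT : T ∈ (inv p M g).filter (fun T => K < T) := Finset.mem_filter.mpr ⟨hT, lt_of_lt_of_le hlt hRT⟩
        exact Finset.mem_filter.mpr ⟨hKT, Finset.mem_filter.mpr
          ⟨(Finset.mem_filter.mp (hr T hKT)).1, le_inf hRT (hRN.trans inf_le_right)⟩⟩
      · intro hT
        obtain ⟨hT, hT'⟩ := Finset.mem_filter.mp hT
        exact Finset.mem_filter.mpr ⟨(Finset.mem_filter.mp hT).1,
          ((Finset.mem_filter.mp hT').2.trans inf_le_left : R ≤ T)⟩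
    rw [← sum_ge hRM, hset]
    exact Finset.sum_fiberwise_eq_sum_filter _ _ _ _
  have huw : ∀ n, ∀ R ∈ (inv p N g).filter (fun R => K < R), Nat.card G - Nat.card R = n → u R = wt p N g R := by
    intro n
    induction n using Nat.strong_induction_on with
    | _ n ih =>
      intro R hR hn
      have h1 := hu R hR
      obtain ⟨hRi, hlt⟩ := Finset.mem_filter.mp hR
      have h2 := sum_ge hRi
      have hsplit : (inv p N g).filter (fun T => R ≤ T) = insert R ((inv p N g).filter fun T => R < T) := by
        ext T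
        simp only [Finset.mem_filter, Finset.mem_insert]
        constructor
        · rintro ⟨h1, h2⟩
          rcases eq_or_lt_of_le h2 with h3 | h3
          · exact Or.inl h3.symm
          · exact Or.inr ⟨h1, h3⟩
        · rintro (rfl | ⟨h1, h2⟩)
          · exact ⟨hRi, le_rfl⟩
          · exact ⟨h1, h2.le⟩
      rw [hsplit, Finset.sum_insert (by simp)] at h1 h2
      have hrest : ∑ T ∈ (inv p N g).filter (fun T => R < T), u T =
          ∑ T ∈ (inv p N g).filter (fun T => R < T), wt p N g T := by
        refine Finset.sum_congr rfl fun T hT => ?_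
        obtain ⟨hTi, hRT⟩ := Finset.mem_filter.mp hT
        have h3 : Nat.card R < Nat.card T := Set.ncard_lt_ncard (SetLike.coe_ssubset_coe.mpr hRT) (Set.toFinite _)
        have h4 := Subgroup.card_le_card_group T
        exact ih _ (by omega) T (Finset.mem_filter.mpr ⟨hTi, hlt.trans hRT⟩) rfl
      linarith
  rw [wt_eq M g K, wt_eq N g K, ← Finset.sum_fiberwise_of_maps_to hr]
  congr 1
  exact Finset.sum_congr rfl fun R hR => huw _ R hR rfl

open scoped Classical in
/-- The total weight of a subgroup. -/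
noncomputable def total (p : ℕ) (M K : Subgroup G) : ℤ :=
  ∑ g : G, if g ∈ M ⊓ Subgroup.normalizer (K : Set G) then wt p M g K else 0

open scoped Classical in
theorem total_eq [Fact p.Prime] (K : Subgroup G) : ∀ M : Subgroup G, K ≤ M → IsPGroup p K →
    total p M K = if ∀ R : Subgroup G, R ≤ M → IsPGroup p R → K ≤ R → R = K then
      (Nat.card ↥(M ⊓ Subgroup.normalizer (K : Set G)) : ℤ) else 0 := by
  generalize hn : Nat.card G - Nat.card K = n
  induction n using Nat.strong_induction_on generalizing K with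
  | _ n ih =>
    intro M hKM hKp
    set N := M ⊓ Subgroup.normalizer (K : Set G) with hN
    have hKN : K ≤ N := le_inf hKM Subgroup.le_normalizer
    have hloc : total p M K = ∑ g : G, if g ∈ N then wt p N g K else 0 := by
      refine Finset.sum_congr rfl fun g _ => ?_
      by_cases hg : g ∈ N
      · rw [if_pos hg, if_pos hg, wt_local (mem_inv.mpr ⟨hKM, hKp, hg.2⟩)]
      · rw [if_neg hg, if_neg hg]
    -- the elements of the normalizer
    have hone : ∀ g, g ∈ N → wt p N g K = 1 - ∑ R ∈ (inv p N g).filter (fun R => K < R), wt p N g R :=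
      fun g _ => wt_eq N g K
    let Z : Finset (Subgroup G) := Finset.univ.filter fun R => K < R ∧ R ≤ N ∧ IsPGroup p R
    have hsum : ∑ g : G, (if g ∈ N then ∑ R ∈ (inv p N g).filter (fun R => K < R), wt p N g R else 0) =
        ∑ R ∈ Z, total p N R := by
      simp only [total]
      rw [Finset.sum_comm]
      refine Finset.sum_congr rfl fun g _ => ?_
      by_cases hg : g ∈ N
      · rw [if_pos hg, ← Finset.sum_filter]
        refine Finset.sum_congr ?_ fun _ _ => rfl
        ext R
        simp only [Finset.mem_filter, mem_inv, Z, Finset.mem_univ, true_and, Subgroup.mem_inf]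
        constructor
        · rintro ⟨⟨a, b, c⟩, d⟩; exact ⟨⟨d, a, b⟩, hg, c⟩
        · rintro ⟨⟨d, a, b⟩, -, c⟩; exact ⟨⟨a, b, c⟩, d⟩
      · rw [if_neg hg]
        refine (Finset.sum_eq_zero fun R _ => if_neg fun h => hg h.1).symm
    have hcardN : ∑ g : G, (if g ∈ N then (1 : ℤ) else 0) = Nat.card N := by
      rw [Finset.sum_boole, Nat.card_eq_fintype_card, Fintype.card_subtype]
    have htot : total p M K = Nat.card N - ∑ R ∈ Z, total p N R := by
      rw [hloc, ← hsum, ← hcardN, ← Finset.sum_sub_distrib]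
      refine Finset.sum_congr rfl fun g _ => ?_
      by_cases hg : g ∈ N
      · rw [if_pos hg, if_pos hg, if_pos hg, hone g hg]
      · rw [if_neg hg, if_neg hg, if_neg hg, sub_zero]
    have hih : ∀ R ∈ Z, total p N R = if ∀ T : Subgroup G, T ≤ N → IsPGroup p T → R ≤ T → T = R then
        (Nat.card ↥(N ⊓ Subgroup.normalizer (R : Set G)) : ℤ) else 0 := by
      intro R hR
      obtain ⟨hlt, hRN, hRp⟩ := (Finset.mem_filter.mp hR).2
      have h1 : Nat.card K < Nat.card R := Set.ncard_lt_ncard (SetLike.coe_ssubset_coe.mpr hlt) (Set.toFinite _)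
      have h2 := Subgroup.card_le_card_group R
      exact ih _ (by omega) R rfl N hRN hRp
    rw [htot, Finset.sum_congr rfl hih]
    by_cases hmax : ∀ R : Subgroup G, R ≤ M → IsPGroup p R → K ≤ R → R = K
    · rw [if_pos hmax]
      have hZ : Z = ∅ := Finset.eq_empty_of_forall_notMem fun R hR => by
        obtain ⟨hlt, hRN, hRp⟩ := (Finset.mem_filter.mp hR).2
        exact hlt.ne' (hmax R (hRN.trans inf_le_left) hRp hlt.le)
      rw [hZ, Finset.sum_empty, sub_zero]
    · rw [if_neg hmax]
      push Not at hmax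
      obtain ⟨R₀, hR₀M, hR₀p, hKR₀, hne⟩ := hmax
      -- some larger subgroup inside the normalizer
      have hlt₀ : K < R₀ := lt_of_le_of_ne hKR₀ (Ne.symm hne)
      have hbig : K < R₀ ⊓ Subgroup.normalizer (K : Set G) := by
        refine lt_of_le_of_ne (le_inf hKR₀ Subgroup.le_normalizer) fun he => ?_
        haveI : Group.IsNilpotent R₀ := hR₀p.isNilpotent
        have hlt' : K.subgroupOf R₀ < ⊤ := lt_top_iff_ne_top.mpr fun h => hlt₀.not_ge (Subgroup.subgroupOf_eq_top.mp h)
        have := normalizerCondition_of_isNilpotent _ hlt'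
        apply this.ne
        refine le_antisymm Subgroup.le_normalizer fun x hx => ?_
        rw [Subgroup.mem_subgroupOf, he]
        refine ⟨x.2, Subgroup.mem_normalizer_iff.mpr fun y => ?_⟩
        constructor
        · intro hy
          exact (Subgroup.mem_normalizer_iff.mp hx (⟨y, hKR₀ hy⟩ : R₀)).mp hy
        · intro hy
          have hyR : y ∈ R₀ := by
            have := mul_mem (mul_mem (R₀.inv_mem x.2) (hKR₀ hy)) x.2
            simpa [mul_assoc] using this
          exact (Subgroup.mem_normalizer_iff.mp hx (⟨y, hyR⟩ : R₀)).mpr hy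
      -- Sylow subgroups of the normalizer
      have hKsyl : ∀ Q : Sylow p N, K < (Q : Subgroup N).map N.subtype := by
        haveI hKn : (K.subgroupOf N).Normal :=
          (Subgroup.normal_subgroupOf_iff_le_normalizer hKN).mpr inf_le_right
        intro Q
        have hle : K ≤ (Q : Subgroup N).map N.subtype := by
          rw [← Subgroup.map_subgroupOf_eq_of_le hKN]
          have hKp' : IsPGroup p (K.subgroupOf N) := hKp.of_equiv (Subgroup.subgroupOfEquivOfLe hKN).symm
          exact Subgroup.map_mono (hKp'.le_sylow_of_normal Q)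
        refine lt_of_le_of_ne hle fun he => ?_
        have hB : IsPGroup p ((R₀ ⊓ Subgroup.normalizer (K : Set G)).subgroupOf N) :=
          (hR₀p.to_le inf_le_left).comap_of_injective N.subtype N.subtype_injective
        obtain ⟨Q', hQ'⟩ := hB.exists_le_sylow
        have h1 : Nat.card ((R₀ ⊓ Subgroup.normalizer (K : Set G) : Subgroup G)) ≤ Nat.card (Q' : Subgroup N) := by
          rw [← Nat.card_congr (Subgroup.subgroupOfEquivOfLe
            (show R₀ ⊓ Subgroup.normalizer (K : Set G) ≤ N from inf_le_inf_right _ hR₀M)).toEquiv]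
          exact Subgroup.card_le_of_le hQ'
        have hcm : Nat.card ((Q : Subgroup N).map N.subtype) = Nat.card (Q : Subgroup N) :=
          Subgroup.card_map_of_injective N.subtype_injective
        rw [Q'.card_eq_multiplicity, ← Q.card_eq_multiplicity, ← hcm, ← he] at h1
        have h2 : Nat.card K < Nat.card ↥(R₀ ⊓ Subgroup.normalizer (K : Set G)) :=
          Set.ncard_lt_ncard (SetLike.coe_ssubset_coe.mpr hbig) (Set.toFinite _)
        omega
      let f : Sylow p N → Subgroup G := fun Q => (Q : Subgroup N).map N.subtype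
      have hf : Function.Injective f := fun Q Q' h =>
        Sylow.ext (Subgroup.map_injective N.subtype_injective h)
      haveI : Fintype (Sylow p N) := Fintype.ofFinite _
      have himage : Z.filter (fun R => ∀ T : Subgroup G, T ≤ N → IsPGroup p T → R ≤ T → T = R) =
          Finset.univ.image f := by
        ext R
        rw [Finset.mem_filter, Finset.mem_image]
        constructor
        · rintro ⟨hR, hRmax⟩
          obtain ⟨hlt, hRN, hRp⟩ := (Finset.mem_filter.mp hR).2
          obtain ⟨Q, hQ⟩ := (hRp.comap_of_injective N.subtype N.subtype_injective).exists_le_sylow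
          refine ⟨Q, Finset.mem_univ _, hRmax (f Q) (Subgroup.map_subtype_le _) (Q.2.map _) ?_⟩
          rw [← Subgroup.map_subgroupOf_eq_of_le hRN]
          exact Subgroup.map_mono hQ
        · rintro ⟨Q, -, rfl⟩
          refine ⟨Finset.mem_filter.mpr ⟨Finset.mem_univ _, hKsyl Q, Subgroup.map_subtype_le _, Q.2.map _⟩,
            fun T hTN hTp hle => ?_⟩
          have h1 : T.subgroupOf N = (Q : Subgroup N) := Q.3 (hTp.comap_of_injective N.subtype N.subtype_injective)
            (fun x hx => hle ⟨x, hx, rfl⟩)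
          show T = (Q : Subgroup N).map N.subtype
          rw [← h1, Subgroup.map_subgroupOf_eq_of_le hTN]
      have hnorm : ∀ Q : Sylow p N, Nat.card ↥(N ⊓ Subgroup.normalizer ((f Q : Subgroup G) : Set G)) *
          Nat.card (Sylow p N) = Nat.card N := by
        intro Q
        have he : N ⊓ Subgroup.normalizer ((f Q : Subgroup G) : Set G) =
            (Subgroup.normalizer ((Q : Subgroup N) : Set N)).map N.subtype := by
          ext x
          constructor
          · rintro ⟨hxN, hx⟩
            refine ⟨⟨x, hxN⟩, Subgroup.mem_normalizer_iff.mpr fun y => ?_, rfl⟩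
            have := Subgroup.mem_normalizer_iff.mp hx (y : G)
            simp only [f, Subgroup.mem_map] at this
            constructor
            · intro hy
              obtain ⟨z, hz, hze⟩ := this.mp ⟨y, hy, rfl⟩
              rwa [show (⟨x, hxN⟩ : N) * y * (⟨x, hxN⟩ : N)⁻¹ = z from Subtype.ext hze.symm]
            · intro hy
              obtain ⟨z, hz, hze⟩ := this.mpr ⟨_, hy, rfl⟩
              rwa [← Subtype.ext (a1 := z) (a2 := y) hze]
          · rintro ⟨y, hy, rfl⟩
            refine ⟨y.2, Subgroup.mem_normalizer_iff.mpr fun z => ?_⟩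
            simp only [f, Subgroup.mem_map]
            constructor
            · rintro ⟨w, hw, rfl⟩
              exact ⟨y * w * y⁻¹, (Subgroup.mem_normalizer_iff.mp hy w).mp hw, rfl⟩
            · rintro ⟨w, hw, hwe⟩
              refine ⟨y⁻¹ * w * y, (Subgroup.mem_normalizer_iff.mp hy _).mpr (by simpa [mul_assoc] using hw), ?_⟩
              simp only [map_mul, map_inv, Subgroup.coe_subtype]
              rw [show N.subtype w = (w : G) from rfl] at hwe
              show (y : G)⁻¹ * (w : G) * (y : G) = z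
              rw [hwe]
              simp [mul_assoc]
        rw [he, Subgroup.card_map_of_injective N.subtype_injective, Q.card_eq_index_normalizer]
        exact (Subgroup.normalizer ((Q : Subgroup N) : Set N)).card_mul_index
      have hcast : (Nat.card N : ℤ) = ∑ Q : Sylow p N,
          (Nat.card ↥(N ⊓ Subgroup.normalizer ((f Q : Subgroup G) : Set G)) : ℤ) := by
        obtain ⟨Q₀⟩ := (inferInstance : Nonempty (Sylow p N))
        have hc : ∀ Q : Sylow p N, Nat.card ↥(N ⊓ Subgroup.normalizer ((f Q : Subgroup G) : Set G)) =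
            Nat.card ↥(N ⊓ Subgroup.normalizer ((f Q₀ : Subgroup G) : Set G)) := fun Q =>
          Nat.eq_of_mul_eq_mul_right Nat.card_pos ((hnorm Q).trans (hnorm Q₀).symm)
        rw [Finset.sum_congr rfl (fun Q _ => by rw [hc Q]), Finset.sum_const, Finset.card_univ,
          ← Nat.card_eq_fintype_card, nsmul_eq_mul, ← hnorm Q₀]
        push_cast
        ring
      rw [← Finset.sum_filter, himage, Finset.sum_image (fun a _ b _ h => hf h), hcast, sub_self]

open scoped Classical in
/-- Casolo's formula. -/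
theorem card_subnormalizer [Fact p.Prime] (H : Subgroup G) (hH : IsPGroup p H) (P : Sylow p G) :
    Nat.card {g : G // ((H).subgroupOf (H ⊔ Subgroup.zpowers g)).IsSubnormal} =
      Nat.card {Q : Sylow p G // H ≤ (Q : Subgroup G)} *
        Nat.card (Subgroup.normalizer ((P : Subgroup G) : Set G)) := by
  have hiff : ∀ g : G, ((H).subgroupOf (H ⊔ Subgroup.zpowers g)).IsSubnormal ↔
      ∃ R ∈ inv p ⊤ g, H ≤ R := by
    intro g
    constructor
    · intro h
      obtain ⟨R, hHR, hR, hgR⟩ := (CfsgLib.Subnormalizer.isSubnormal_iff_radical p H hH g).mp h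
      exact ⟨R, mem_inv.mpr ⟨le_top, hR ▸ (CfsgLib.isPGroup_pCore p).map _, hgR⟩, hHR⟩
    · rintro ⟨R, hR, hHR⟩
      obtain ⟨-, hRp, hgR⟩ := mem_inv.mp hR
      set A := H ⊔ Subgroup.zpowers g with hA
      have hAN : A ≤ Subgroup.normalizer (R : Set G) :=
        sup_le (hHR.trans Subgroup.le_normalizer) (Subgroup.zpowers_le.mpr hgR)
      have hTn : (R.subgroupOf A).Normal := ⟨fun x hx y => (Subgroup.mem_normalizer_iff.mp (hAN y.2) x).mp hx⟩
      have hTp : IsPGroup p (R.subgroupOf A) := hRp.comap_of_injective A.subtype A.subtype_injective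
      have := hTp.isNilpotent
      exact Subgroup.IsSubnormal.trans (K := R.subgroupOf A) (Subgroup.comap_mono hHR)
        (CfsgLib.isSubnormal_of_nilpotent _) hTn.isSubnormal
  have hind : ∀ g : G, (if ((H).subgroupOf (H ⊔ Subgroup.zpowers g)).IsSubnormal then (1 : ℤ) else 0) =
      ∑ R ∈ (inv p ⊤ g).filter (fun R => H ≤ R), wt p ⊤ g R := by
    intro g
    by_cases hs : ((H).subgroupOf (H ⊔ Subgroup.zpowers g)).IsSubnormal
    · rw [if_pos hs]
      obtain ⟨R₁, hR₁, hHR₁⟩ := (hiff g).mp hs
      obtain ⟨K, ⟨hK, hHK⟩, hKmin⟩ := (Set.toFinite {R : Subgroup G | R ∈ inv p ⊤ g ∧ H ≤ R}).exists_minimal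
        ⟨R₁, hR₁, hHR₁⟩
      rw [← sum_ge hK]
      refine Finset.sum_congr (Finset.filter_congr fun R hR => ⟨fun h => hHK.trans h, fun h => ?_⟩) fun _ _ => rfl
      obtain ⟨-, hKp, hgK⟩ := mem_inv.mp hK
      obtain ⟨-, -, hgR⟩ := mem_inv.mp hR
      refine le_trans (hKmin ⟨mem_inv.mpr ⟨le_top, hKp.to_le inf_le_left, ?_⟩, le_inf hHK h⟩ inf_le_left) inf_le_right
      refine Subgroup.mem_normalizer_iff.mpr fun x => ?_
      simp only [Subgroup.mem_inf]
      exact and_congr (Subgroup.mem_normalizer_iff.mp hgK x) (Subgroup.mem_normalizer_iff.mp hgR x)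
    · rw [if_neg hs, Finset.sum_eq_zero]
      intro R hR
      exact absurd ((hiff g).mpr ⟨R, (Finset.mem_filter.mp hR).1, (Finset.mem_filter.mp hR).2⟩) hs
  let Z : Finset (Subgroup G) := Finset.univ.filter fun R => H ≤ R ∧ IsPGroup p R
  have hswap : (Nat.card {g : G // ((H).subgroupOf (H ⊔ Subgroup.zpowers g)).IsSubnormal} : ℤ) =
      ∑ R ∈ Z, total p ⊤ R := by
    rw [Nat.card_eq_fintype_card, Fintype.card_subtype, ← Finset.sum_boole]
    simp only [total]
    rw [Finset.sum_comm]
    refine Finset.sum_congr rfl fun g _ => ?_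
    rw [hind g, ← Finset.sum_filter]
    refine Finset.sum_congr ?_ fun _ _ => rfl
    ext R
    simp only [Finset.mem_filter, mem_inv, Z, Finset.mem_univ, true_and, Subgroup.mem_inf, Subgroup.mem_top, le_top]
    constructor
    · rintro ⟨⟨b, c⟩, d⟩; exact ⟨⟨d, b⟩, c⟩
    · rintro ⟨⟨d, b⟩, c⟩; exact ⟨⟨b, c⟩, d⟩
  haveI : Fintype (Sylow p G) := Fintype.ofFinite _
  have himage : Z.filter (fun R => ∀ T : Subgroup G, T ≤ ⊤ → IsPGroup p T → R ≤ T → T = R) =
      (Finset.univ.filter fun Q : Sylow p G => H ≤ (Q : Subgroup G)).image (fun Q : Sylow p G => (Q : Subgroup G)) := by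
    ext R
    rw [Finset.mem_filter, Finset.mem_image]
    constructor
    · rintro ⟨hR, hRmax⟩
      obtain ⟨hHR, hRp⟩ := (Finset.mem_filter.mp hR).2
      obtain ⟨Q, hQ⟩ := hRp.exists_le_sylow
      exact ⟨Q, Finset.mem_filter.mpr ⟨Finset.mem_univ _, hHR.trans hQ⟩, hRmax _ le_top Q.2 hQ⟩
    · rintro ⟨Q, hQ, rfl⟩
      exact ⟨Finset.mem_filter.mpr ⟨Finset.mem_univ _, (Finset.mem_filter.mp hQ).2, Q.2⟩,
        fun T _ hT hle => Q.3 hT hle⟩
  have hc : ∀ Q : Sylow p G, Nat.card ↥(⊤ ⊓ Subgroup.normalizer ((Q : Subgroup G) : Set G)) =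
      Nat.card (Subgroup.normalizer ((P : Subgroup G) : Set G)) := by
    intro Q
    rw [top_inf_eq]
    refine Nat.eq_of_mul_eq_mul_right (Nat.card_pos (α := Sylow p G)) ?_
    conv_lhs => rw [Q.card_eq_index_normalizer]
    conv_rhs => rw [P.card_eq_index_normalizer]
    exact (Subgroup.card_mul_index _).trans (Subgroup.card_mul_index _).symm
  have key : (Nat.card {g : G // ((H).subgroupOf (H ⊔ Subgroup.zpowers g)).IsSubnormal} : ℤ) =
      (Nat.card {Q : Sylow p G // H ≤ (Q : Subgroup G)} : ℤ) *
        Nat.card (Subgroup.normalizer ((P : Subgroup G) : Set G)) := by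
    rw [hswap, Finset.sum_congr rfl (fun R hR => total_eq R ⊤ le_top (Finset.mem_filter.mp hR).2.2),
      ← Finset.sum_filter, himage, Finset.sum_image (fun a _ b _ h => Sylow.ext h),
      Finset.sum_congr rfl (fun Q _ => by rw [hc Q]), Finset.sum_const, nsmul_eq_mul,
      Nat.card_eq_fintype_card (α := {Q : Sylow p G // H ≤ (Q : Subgroup G)}), Fintype.card_subtype]
  exact_mod_cast key

open scoped Classical in
/-- Double counting of Sylow subgroups and conjugates. -/
theorem card_through_mul [Fact p.Prime] (H : Subgroup G) (P : Sylow p G) :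
    Nat.card {Q : Sylow p G // H ≤ (Q : Subgroup G)} * Nat.card (Subgroup.normalizer ((P : Subgroup G) : Set G)) =
      Nat.card {K : Subgroup G // K ≤ (P : Subgroup G) ∧ ∃ g : G, K = H.map (MulAut.conj g).toMonoidHom} *
        Nat.card (Subgroup.normalizer (H : Set G)) := by
  -- both sides count the elements moving `H` into `P`
  have h1 : Nat.card {g : G // H.map (MulAut.conj g).toMonoidHom ≤ (P : Subgroup G)} =
      Nat.card {Q : Sylow p G // H ≤ (Q : Subgroup G)} * Nat.card (Subgroup.normalizer ((P : Subgroup G) : Set G)) := by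
    have hmem : ∀ (g : G) (Q : Sylow p G), g • Q = P →
        (H.map (MulAut.conj g).toMonoidHom ≤ (P : Subgroup G) ↔ H ≤ (Q : Subgroup G)) := by
      intro g Q hg
      rw [← hg, Sylow.coe_subgroup_smul, Subgroup.pointwise_smul_def]
      exact Subgroup.map_le_map_iff_of_injective (MulAut.conj g).injective
    have hex : ∀ Q : Sylow p G, ∃ g : G, g • Q = P := fun Q => MulAction.exists_smul_eq G Q P
    choose c hc using hex
    rw [← Nat.card_prod]
    refine Nat.card_congr
      { toFun := fun g => (⟨g.1⁻¹ • P, (hmem g.1 _ (smul_inv_smul _ _)).mp g.2⟩,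
          ⟨g.1 * (c (g.1⁻¹ • P))⁻¹, ?_⟩)
        invFun := fun x => ⟨x.2.1 * c x.1.1, (hmem _ x.1.1 ?_).mpr x.1.2⟩
        left_inv := fun g => Subtype.ext (inv_mul_cancel_right _ _)
        right_inv := fun x => ?_ }
    · refine Sylow.smul_eq_iff_mem_normalizer.mp ?_
      rw [mul_smul]
      rw [show (c (g.1⁻¹ • P))⁻¹ • P = g.1⁻¹ • P from inv_smul_eq_iff.mpr (hc _).symm, smul_inv_smul]
    · rw [mul_smul, hc, Sylow.smul_eq_iff_mem_normalizer.mpr x.2.2]
    · have hQ : (x.2.1 * c x.1.1)⁻¹ • P = x.1.1 := by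
        rw [inv_smul_eq_iff, mul_smul, hc, Sylow.smul_eq_iff_mem_normalizer.mpr x.2.2]
      refine Prod.ext (Subtype.ext hQ) (Subtype.ext ?_)
      show x.2.1 * c x.1.1 * (c ((x.2.1 * c x.1.1)⁻¹ • P))⁻¹ = x.2.1
      rw [hQ, mul_inv_cancel_right]
  have h2 : Nat.card {g : G // H.map (MulAut.conj g).toMonoidHom ≤ (P : Subgroup G)} =
      Nat.card {K : Subgroup G // K ≤ (P : Subgroup G) ∧ ∃ g : G, K = H.map (MulAut.conj g).toMonoidHom} *
        Nat.card (Subgroup.normalizer (H : Set G)) := by
    choose c hc using fun K : {K : Subgroup G // K ≤ (P : Subgroup G) ∧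
      ∃ g : G, K = H.map (MulAut.conj g).toMonoidHom} => K.2.2
    have hn : ∀ a b : G, H.map (MulAut.conj a).toMonoidHom = H.map (MulAut.conj b).toMonoidHom →
        a⁻¹ * b ∈ Subgroup.normalizer (H : Set G) := by
      intro a b h
      refine Subgroup.mem_normalizer_iff.mpr fun x => ?_
      constructor
      · intro hx
        obtain ⟨y, hy, e⟩ := h.ge ⟨x, hx, rfl⟩
        have e' : a * y * a⁻¹ = b * x * b⁻¹ := e
        have : a⁻¹ * b * x * (a⁻¹ * b)⁻¹ = y := by
          rw [show a⁻¹ * b * x * (a⁻¹ * b)⁻¹ = a⁻¹ * (b * x * b⁻¹) * a by group, ← e']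
          group
        rwa [this]
      · intro hx
        obtain ⟨y, hy, e⟩ := h.le ⟨_, hx, rfl⟩
        have e' : b * y * b⁻¹ = a * (a⁻¹ * b * x * (a⁻¹ * b)⁻¹) * a⁻¹ := e
        have : y = x := mul_left_cancel (a := b) (mul_right_cancel (b := b⁻¹) (by rw [e']; group))
        rwa [← this]
    have hn' : ∀ (a n : G), n ∈ Subgroup.normalizer (H : Set G) →
        H.map (MulAut.conj (a * n)).toMonoidHom = H.map (MulAut.conj a).toMonoidHom := by
      intro a n hn1
      ext y
      simp only [Subgroup.mem_map]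
      constructor
      · rintro ⟨x, hx, rfl⟩
        exact ⟨n * x * n⁻¹, (Subgroup.mem_normalizer_iff.mp hn1 x).mp hx, by simp [mul_assoc]⟩
      · rintro ⟨x, hx, rfl⟩
        refine ⟨n⁻¹ * x * n, (Subgroup.mem_normalizer_iff.mp hn1 _).mpr (by simpa [mul_assoc] using hx), ?_⟩
        simp [mul_assoc]
    rw [← Nat.card_prod]
    refine Nat.card_congr
      { toFun := fun g => (⟨_, g.2, g.1, rfl⟩, ⟨(c ⟨_, g.2, g.1, rfl⟩)⁻¹ * g.1, hn _ _ (hc ⟨_, g.2, g.1, rfl⟩).symm⟩)
        invFun := fun x => ⟨c x.1 * x.2.1, by rw [hn' _ _ x.2.2, ← hc]; exact x.1.2.1⟩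
        left_inv := fun g => Subtype.ext (mul_inv_cancel_left _ _)
        right_inv := fun x => ?_ }
    have hK : (⟨H.map (MulAut.conj (c x.1 * x.2.1)).toMonoidHom, by rw [hn' _ _ x.2.2, ← hc]; exact x.1.2.1,
        c x.1 * x.2.1, rfl⟩ : {K : Subgroup G // K ≤ (P : Subgroup G) ∧
          ∃ g : G, K = H.map (MulAut.conj g).toMonoidHom}) = x.1 :=
      Subtype.ext ((hn' _ _ x.2.2).trans (hc x.1).symm)
    refine Prod.ext hK (Subtype.ext ?_)
    show (c _)⁻¹ * (c x.1 * x.2.1) = x.2.1
    rw [hK, inv_mul_cancel_left]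
  omega

end CfsgLib.SubnCount
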