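import Mathlib
import Cfsg.Prelude.Def_Solvable
import Cfsg.Agent.Lib.Subnormalizer

/-! Counting the subnormaliser of a `p`-subgroup along normal sections. -/

set_option autoImplicit false

namespace CfsgLib.SubnFiber

variable {p : ℕ} [Fact p.Prime]
variable {A B : Type*} [Group A] [Group B]

/-- Counting via constant fibres. -/
theorem card_subtype_fibers {α β : Type*} [Finite α] [Finite β] (f : α → β) (P : α → Prop)
    (Q : β → Prop) (c : ℕ) (hPQ : ∀ a, P a → Q (f a))
    (h : ∀ b, Q b → Nat.card {a : α // P a ∧ f a = b} = c) :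
    Nat.card {a : α // P a} = c * Nat.card {b : β // Q b} := by
  classical
  have := Fintype.ofFinite α
  have := Fintype.ofFinite β
  have e : Nat.card {a : α // P a} = Nat.card (Σ b : {b : β // Q b}, {a : α // P a ∧ f a = b}) :=
    Nat.card_congr
      { toFun := fun a => ⟨⟨f a, hPQ a a.2⟩, ⟨a, a.2, rfl⟩⟩
        invFun := fun x => ⟨x.2, x.2.2.1⟩
        left_inv := fun a => rfl
        right_inv := fun x => Sigma.subtype_ext (Subtype.ext x.2.2.2) rfl }
  rw [e, Nat.card_sigma]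
  simp only [fun b : {b : β // Q b} => h b.1 b.2]
  rw [Finset.sum_const, smul_eq_mul, Finset.card_univ, Nat.card_eq_fintype_card, mul_comm]

/-- Preimage of a set under a surjective homomorphism. -/
theorem card_preimage [Finite A] [Finite B] (f : A →* B) (hf : Function.Surjective f) (Q : B → Prop) :
    Nat.card {a : A // Q (f a)} = Nat.card f.ker * Nat.card {b : B // Q b} := by
  refine card_subtype_fibers f _ Q _ (fun a h => h) fun b hb => ?_
  obtain ⟨a₀, rfl⟩ := hf b
  exact Nat.card_congr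
    { toFun := fun a => ⟨a₀⁻¹ * a.1, by rw [MonoidHom.mem_ker, map_mul, map_inv, a.2.2, inv_mul_cancel]⟩
      invFun := fun k => ⟨a₀ * k, by
        have : f (a₀ * k) = f a₀ := by rw [map_mul, k.2, mul_one]
        exact ⟨this ▸ hb, this⟩⟩
      left_inv := fun a => by simp
      right_inv := fun k => by simp }

/-- `g` normalises some `p`-subgroup containing `H`. -/
def W (p : ℕ) {G : Type*} [Group G] (H : Subgroup G) (g : G) : Prop :=
  ∃ R : Subgroup G, IsPGroup p R ∧ H ≤ R ∧ g ∈ Subgroup.normalizer (R : Set G)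

theorem subnormal_iff_W {G : Type*} [Group G] [Finite G] {H : Subgroup G} (hH : IsPGroup p H) (g : G) :
    (H.subgroupOf (H ⊔ Subgroup.zpowers g)).IsSubnormal ↔ W p H g := by
  constructor
  · intro h
    obtain ⟨R, hHR, hR, hg⟩ := (CfsgLib.Subnormalizer.isSubnormal_iff_radical p H hH g).mp h
    exact ⟨R, hR ▸ (CfsgLib.isPGroup_pCore p).map _, hHR, hg⟩
  · rintro ⟨R, hRp, hHR, hgR⟩
    set A := H ⊔ Subgroup.zpowers g with hA
    have hAN : A ≤ Subgroup.normalizer (R : Set G) :=
      sup_le (hHR.trans Subgroup.le_normalizer) (Subgroup.zpowers_le.mpr hgR)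
    have hTn : (R.subgroupOf A).Normal := by
      constructor
      intro x hx y
      exact (Subgroup.mem_normalizer_iff.mp (hAN y.2) x).mp hx
    have hTp : IsPGroup p (R.subgroupOf A) := hRp.of_injective (A.subtype.subgroupComap R) (fun a b h =>
      Subtype.ext (Subtype.ext (congrArg (fun t : R => (t : G)) h)))
    have := hTp.isNilpotent
    exact Subgroup.IsSubnormal.trans (K := R.subgroupOf A) (Subgroup.comap_mono hHR)
      (CfsgLib.isSubnormal_of_nilpotent _) hTn.isSubnormal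

theorem W_map (f : A →* B) {H : Subgroup A} {g : A} (h : W p H g) : W p (H.map f) (f g) := by
  obtain ⟨R, hR, hHR, hg⟩ := h
  exact ⟨R.map f, hR.map f, Subgroup.map_mono hHR, Subgroup.le_normalizer_map f ⟨g, hg, rfl⟩⟩

variable [Finite A] [Finite B]

theorem card_of_pgroup_ker (f : A →* B) (hf : Function.Surjective f) (hker : IsPGroup p f.ker)
    (H : Subgroup A) :
    Nat.card {g // W p H g} = Nat.card f.ker * Nat.card {g // W p (H.map f) g} := by
  rw [← card_preimage f hf]
  refine Nat.card_congr (Equiv.subtypeEquivRight fun g => ⟨W_map f, ?_⟩)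
  rintro ⟨R, hR, hHR, hg⟩
  refine ⟨R.comap f, hR.comap_of_ker_isPGroup f hker, Subgroup.map_le_iff_le_comap.mp hHR, ?_⟩
  rw [Subgroup.mem_normalizer_iff]
  intro x
  rw [Subgroup.mem_comap, Subgroup.mem_comap, map_mul, map_mul, map_inv]
  exact Subgroup.mem_normalizer_iff.mp hg (f x)

theorem eq_of_le_of_map_eq (f : A →* B) {R C : Subgroup A} (hRC : R ≤ C)
    (hC : ∀ x ∈ C, f x = 1 → x = 1) (he : R.map f = C.map f) : R = C := by
  refine le_antisymm hRC fun c hc => ?_
  obtain ⟨r, hr, e⟩ : f c ∈ R.map f := he ▸ ⟨c, hc, rfl⟩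
  have := hC (r⁻¹ * c) (C.mul_mem (C.inv_mem (hRC hr)) hc) (by rw [map_mul, map_inv, e, inv_mul_cancel])
  rw [inv_mul_eq_one] at this
  exact this ▸ hr

/-- Conjugate subgroup. -/
abbrev cj {G : Type*} [Group G] (g : G) (K : Subgroup G) : Subgroup G :=
  K.map (MulAut.conj g).toMonoidHom

omit [Finite A] [Finite B] in
theorem cj_mul (a b : A) (K : Subgroup A) : cj (a * b) K = cj a (cj b K) := by
  rw [cj, cj, cj, Subgroup.map_map]; congr 1; ext x; simp

omit [Finite A] [Finite B] in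
theorem cj_one (K : Subgroup A) : cj 1 K = K := by
  rw [cj, show (MulAut.conj (1 : A)).toMonoidHom = MonoidHom.id A from MonoidHom.ext fun x => by simp,
    Subgroup.map_id]

omit [Finite A] [Finite B] in
theorem map_cj (f : A →* B) (g : A) (K : Subgroup A) : (cj g K).map f = cj (f g) (K.map f) := by
  rw [cj, cj, Subgroup.map_map, Subgroup.map_map]; congr 1; ext x; simp

theorem cj_eq_of_mem_normalizer {g : A} {K : Subgroup A} (hg : g ∈ Subgroup.normalizer (K : Set A)) :
    cj g K = K := by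
  refine Subgroup.eq_of_le_of_card_ge ?_ (Subgroup.card_map_of_injective (MulAut.conj g).injective).ge
  rintro _ ⟨c, hc, rfl⟩
  exact (Subgroup.mem_normalizer_iff.mp hg c).mp hc

omit [Finite A] [Finite B] in
theorem mem_normalizer_of_cj_eq {g : A} {K : Subgroup A} (hg : cj g K = K) :
    g ∈ Subgroup.normalizer (K : Set A) := by
  rw [Subgroup.mem_normalizer_iff]
  intro x
  refine ⟨fun hx => ?_, fun hx => ?_⟩
  · exact hg.le ⟨x, hx, rfl⟩
  · obtain ⟨y, hy, e⟩ := hg.ge hx
    have : y = x := (MulAut.conj g).injective e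
    exact this ▸ hy

/-- The least subgroup containing `H` invariant under `g`. -/
def hull {G : Type*} [Group G] (g : G) (H : Subgroup G) : Subgroup G := ⨆ k : ℤ, cj (g ^ k) H

omit [Finite A] [Finite B] in
theorem le_hull (g : A) (H : Subgroup A) : H ≤ hull g H :=
  le_iSup_of_le 0 (by rw [zpow_zero, cj_one])

theorem hull_le {g : A} {H C : Subgroup A} (hC : H ≤ C) (hg : g ∈ Subgroup.normalizer (C : Set A)) :
    hull g H ≤ C :=
  iSup_le fun k => (Subgroup.map_mono hC).trans (cj_eq_of_mem_normalizer (zpow_mem hg k)).le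

theorem cj_hull (g : A) (H : Subgroup A) : cj g (hull g H) = hull g H := by
  refine Subgroup.eq_of_le_of_card_ge ?_ (Subgroup.card_map_of_injective (MulAut.conj g).injective).ge
  rw [cj, hull, Subgroup.map_iSup]
  exact iSup_le fun k => le_iSup_of_le (1 + k) (by rw [zpow_one_add, cj_mul])

omit [Finite A] [Finite B] in
theorem map_hull (f : A →* B) (g : A) (H : Subgroup A) : (hull g H).map f = hull (f g) (H.map f) := by
  simp only [hull, Subgroup.map_iSup, map_cj, map_zpow]

theorem card_fiber_coprime (f : A →* B) (hf : Function.Surjective f)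
    (hker : (Nat.card f.ker).Coprime p) (H : Subgroup A) (hH : IsPGroup p H) (b : B)
    (hb : W p (H.map f) b) :
    Nat.card {g : A // W p H g ∧ f g = b} =
      Nat.card (f.ker ⊓ Subgroup.centralizer (H : Set A) : Subgroup A) := by
  classical
  -- a `p`-element in the kernel is trivial
  have htriv : ∀ C : Subgroup A, IsPGroup p C → ∀ x ∈ C, f x = 1 → x = 1 := by
    intro C hC x hx hfx
    obtain ⟨k, hk⟩ := hC ⟨x, hx⟩
    have hk' : x ^ p ^ k = 1 := by simpa using congrArg Subtype.val hk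
    have h1 : orderOf x ∣ p ^ k := orderOf_dvd_of_pow_eq_one hk'
    have h2 : orderOf x ∣ Nat.card f.ker := Subgroup.orderOf_dvd_natCard _ (MonoidHom.mem_ker.mpr hfx)
    exact orderOf_eq_one_iff.mp (Nat.eq_one_of_dvd_coprimes (hker.pow_right k).symm h1 h2)
  obtain ⟨Rb0, hRb0, hHRb0, hbRb0⟩ := hb
  set Rb : Subgroup B := hull b (H.map f) with hRbdef
  have hRbp : IsPGroup p Rb := hRb0.to_le (hull_le hHRb0 hbRb0)
  set D := Rb.comap f with hD
  have hHD : H ≤ D := Subgroup.map_le_iff_le_comap.mp (le_hull _ _)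
  obtain ⟨C0, hC0⟩ := (hH.of_equiv (Subgroup.subgroupOfEquivOfLe hHD).symm).exists_le_sylow
  set C₀ : Subgroup A := (C0 : Subgroup D).map D.subtype with hC₀
  have hC₀p : IsPGroup p C₀ := C0.2.map _
  have hC₀H : H ≤ C₀ := fun h hh => ⟨⟨h, hHD hh⟩, hC0 hh, rfl⟩
  have hC₀map : C₀.map f = Rb := by
    have hs : Function.Surjective (f.subgroupComap Rb) := by
      rintro ⟨y, hy⟩
      obtain ⟨x, rfl⟩ := hf y
      exact ⟨⟨x, hy⟩, rfl⟩
    have htop : ((C0.mapSurjective hs : Sylow p Rb) : Subgroup Rb) = ⊤ :=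
      ((C0.mapSurjective hs).3 (hRbp.to_subgroup ⊤) le_top).symm
    rw [Sylow.coe_mapSurjective] at htop
    have := congrArg (Subgroup.map Rb.subtype) htop
    rw [Subgroup.map_map, ← MonoidHom.range_eq_map, Subgroup.range_subtype] at this
    rw [hC₀, Subgroup.map_map]
    exact this
  have hconj : ∀ C : Subgroup A, IsPGroup p C → C.map f = Rb → ∃ n ∈ f.ker, C = cj n C₀ := by
    intro C hC hCmap
    have hCD : C ≤ D := Subgroup.map_le_iff_le_comap.mp hCmap.le
    obtain ⟨S, hS⟩ := (hC.of_equiv (Subgroup.subgroupOfEquivOfLe hCD).symm).exists_le_sylow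
    obtain ⟨d, hd⟩ := MulAction.exists_smul_eq D C0 S
    have hS' : (S : Subgroup D).map D.subtype = cj (d : A) C₀ := by
      rw [← hd, Sylow.coe_subgroup_smul, Subgroup.pointwise_smul_def, hC₀]
      change ((C0 : Subgroup D).map (MulAut.conj d).toMonoidHom).map D.subtype = _
      rw [cj, Subgroup.map_map, Subgroup.map_map]
      congr 1
    have hCS : C = cj (d : A) C₀ := by
      refine eq_of_le_of_map_eq f ?_ (htriv _ (hC₀p.map _)) ?_
      · rw [← hS']; intro c hc; exact ⟨⟨c, hCD hc⟩, hS hc, rfl⟩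
      · have hdRb : f (d : A) ∈ Rb := d.2
        rw [hCmap, map_cj, hC₀map, cj_eq_of_mem_normalizer (Subgroup.le_normalizer hdRb)]
    obtain ⟨c, hc, e⟩ : f (d : A) ∈ C₀.map f := by rw [hC₀map]; exact d.2
    refine ⟨(d : A) * c⁻¹, by rw [MonoidHom.mem_ker, map_mul, map_inv, e, mul_inv_cancel], ?_⟩
    rw [cj_mul, cj_eq_of_mem_normalizer (inv_mem (Subgroup.le_normalizer hc)), hCS]
  have hcent : ∀ n ∈ f.ker, H ≤ cj n C₀ → n ∈ Subgroup.centralizer (H : Set A) := by
    intro n hn hHn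
    refine Subgroup.mem_centralizer_iff.mpr fun h hh => ?_
    obtain ⟨y, hy, ey⟩ := hHn hh
    have hy' : y = n⁻¹ * h * n := by rw [← ey]; simp [mul_assoc]
    have h3 : h⁻¹ * n⁻¹ * h * n ∈ C₀ := by
      have := C₀.mul_mem (C₀.inv_mem (hC₀H hh)) hy
      rw [hy'] at this
      simpa [mul_assoc] using this
    have h4 := htriv _ hC₀p _ h3 (by simp [MonoidHom.mem_ker.mp hn])
    calc h * n = n * h * (h⁻¹ * n⁻¹ * h * n) := by group
      _ = n * h := by rw [h4, mul_one]
  -- a base point normalising `C₀`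
  obtain ⟨g₀, hg₀b, hg₀⟩ : ∃ g₀ : A, f g₀ = b ∧ cj g₀ C₀ = C₀ := by
    obtain ⟨g, hg⟩ := hf b
    obtain ⟨n, hn, e⟩ := hconj (cj g C₀) (hC₀p.map _) (by rw [map_cj, hC₀map, hg, cj_hull])
    refine ⟨n⁻¹ * g, ?_, by rw [cj_mul, e, ← cj_mul, inv_mul_cancel, cj_one]⟩
    rw [map_mul, map_inv, MonoidHom.mem_ker.mp hn, inv_one, one_mul, hg]
  have huniq : ∀ (g : A) (C : Subgroup A), f g = b → IsPGroup p C → H ≤ C → C.map f = Rb →
      cj g C = C → hull g H = C := by
    intro g C hgb hC hHC hCmap hgC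
    refine eq_of_le_of_map_eq f (hull_le hHC (mem_normalizer_of_cj_eq hgC)) (htriv C hC) ?_
    rw [map_hull, hgb, hCmap]
  let 𝒞 := {C : Subgroup A // IsPGroup p C ∧ H ≤ C ∧ C.map f = Rb}
  let K0 := {k : A // k ∈ f.ker ∧ cj k C₀ = C₀}
  choose ν hνker hν using fun C : 𝒞 => hconj C.1 C.2.1 C.2.2.2
  have e1 : Nat.card {g : A // W p H g ∧ f g = b} = Nat.card (𝒞 × K0) := by
    refine (Nat.card_congr (Equiv.ofBijective (fun x : 𝒞 × K0 =>
      (⟨ν x.1 * (g₀ * x.2.1) * (ν x.1)⁻¹, ?_, ?_⟩ : {g : A // W p H g ∧ f g = b})) ⟨?_, ?_⟩)).symm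
    · refine ⟨x.1.1, x.1.2.1, x.1.2.2.1, mem_normalizer_of_cj_eq ?_⟩
      rw [hν x.1, ← cj_mul, inv_mul_cancel_right, cj_mul, cj_mul g₀, x.2.2.2, hg₀]
    · rw [map_mul, map_mul, map_mul, map_inv, MonoidHom.mem_ker.mp (hνker x.1),
        MonoidHom.mem_ker.mp x.2.2.1, hg₀b]
      simp
    · rintro ⟨C, k⟩ ⟨C', k'⟩ he
      have he' : ν C * (g₀ * k.1) * (ν C)⁻¹ = ν C' * (g₀ * k'.1) * (ν C')⁻¹ := congrArg Subtype.val he
      have key : ∀ (C : 𝒞) (k : K0), hull (ν C * (g₀ * k.1) * (ν C)⁻¹) H = C.1 := by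
        intro C k
        refine huniq _ _ ?_ C.2.1 C.2.2.1 C.2.2.2 ?_
        · rw [map_mul, map_mul, map_mul, map_inv, MonoidHom.mem_ker.mp (hνker C),
            MonoidHom.mem_ker.mp k.2.1, hg₀b]
          simp
        · rw [hν C, ← cj_mul, inv_mul_cancel_right, cj_mul, cj_mul g₀, k.2.2, hg₀]
      have hC : C = C' := Subtype.ext (by rw [← key C k, ← key C' k', he'])
      subst hC
      simp only [mul_left_inj, mul_right_inj] at he'
      exact Prod.ext rfl (Subtype.ext he')
    · rintro ⟨g, ⟨R, hR, hHR, hgR⟩, hgb⟩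
      let C : 𝒞 := ⟨hull g H, hR.to_le (hull_le hHR hgR), le_hull _ _, by rw [map_hull, hgb]⟩
      refine ⟨⟨C, ⟨g₀⁻¹ * ((ν C)⁻¹ * g * ν C), ?_, ?_⟩⟩, Subtype.ext (by group)⟩
      · rw [MonoidHom.mem_ker, map_mul, map_mul, map_mul, map_inv, map_inv,
          MonoidHom.mem_ker.mp (hνker C), hg₀b, hgb]
        simp
      · have h1 : cj g C.1 = C.1 := cj_hull g H
        rw [hν C] at h1
        rw [cj_mul, mul_assoc, cj_mul (ν C)⁻¹, cj_mul g, h1, ← cj_mul (ν C)⁻¹ (ν C), inv_mul_cancel, cj_one]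
        calc cj g₀⁻¹ C₀ = cj g₀⁻¹ (cj g₀ C₀) := by rw [hg₀]
          _ = C₀ := by rw [← cj_mul, inv_mul_cancel, cj_one]
  have e2 : Nat.card (f.ker ⊓ Subgroup.centralizer (H : Set A) : Subgroup A) = Nat.card (𝒞 × K0) := by
    refine (Nat.card_congr (Equiv.ofBijective (fun x : 𝒞 × K0 =>
      (⟨ν x.1 * x.2.1, ?_⟩ : (f.ker ⊓ Subgroup.centralizer (H : Set A) : Subgroup A))) ⟨?_, ?_⟩)).symm
    · have hk := mul_mem (hνker x.1) x.2.2.1
      exact ⟨hk, hcent _ hk (by rw [cj_mul, x.2.2.2, ← hν x.1]; exact x.1.2.2.1)⟩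
    · rintro ⟨C, k⟩ ⟨C', k'⟩ he
      have he' : ν C * k.1 = ν C' * k'.1 := congrArg Subtype.val he
      have key : ∀ (C : 𝒞) (k : K0), cj (ν C * k.1) C₀ = C.1 := fun C k => by
        rw [cj_mul, k.2.2, ← hν C]
      have hC : C = C' := Subtype.ext (by rw [← key C k, ← key C' k', he'])
      subst hC
      exact Prod.ext rfl (Subtype.ext (mul_left_cancel he'))
    · rintro ⟨n, hn, hnc⟩
      let C : 𝒞 := ⟨cj n C₀, hC₀p.map _, fun h hh => ⟨h, hC₀H hh, by
          simp [← Subgroup.mem_centralizer_iff.mp hnc h hh]⟩,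
        by
          rw [map_cj, hC₀map, MonoidHom.mem_ker.mp hn, cj_one]⟩
      refine ⟨⟨C, ⟨(ν C)⁻¹ * n, mul_mem (inv_mem (hνker C)) hn, ?_⟩⟩, Subtype.ext (by simp)⟩
      rw [cj_mul, show cj n C₀ = C.1 from rfl, hν C, ← cj_mul, inv_mul_cancel, cj_one]
  rw [e1, e2]

theorem card_of_coprime_ker (f : A →* B) (hf : Function.Surjective f)
    (hker : (Nat.card f.ker).Coprime p) (H : Subgroup A) (hH : IsPGroup p H) :
    Nat.card {g // W p H g} =
      Nat.card (f.ker ⊓ Subgroup.centralizer (H : Set A) : Subgroup A) *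
        Nat.card {g // W p (H.map f) g} :=
  card_subtype_fibers f _ _ _ (fun _ h => W_map f h) fun b hb =>
    card_fiber_coprime f hf hker H hH b hb

end CfsgLib.SubnFiber

namespace CfsgLib.SubnFiber

variable {p : ℕ} [Fact p.Prime] {G : Type*} [Group G] [Finite G]

/-- The count in the quotient by a normal subgroup. -/
noncomputable def quotCount (p : ℕ) (H M : Subgroup G) [M.Normal] : ℕ :=
  Nat.card {q : G ⧸ M // W p (H.map (QuotientGroup.mk' M)) q}

theorem quotCount_step (H : Subgroup G) (hH : IsPGroup p H) (M N : Subgroup G) [M.Normal] [N.Normal]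
    (hMN : M ≤ N) (hfac : (∃ m : ℕ, M.relIndex N = p ^ m) ∨ (M.relIndex N).Coprime p) :
    quotCount p H M = (if (M.relIndex N).Coprime p then
        Nat.card {u : G // u ∈ N ∧ ∀ h ∈ H, h * u * h⁻¹ * u⁻¹ ∈ M} / Nat.card M
      else M.relIndex N) * quotCount p H N := by
  let f : G ⧸ M →* G ⧸ N := QuotientGroup.map M N (MonoidHom.id G) hMN
  have hfmk : f.comp (QuotientGroup.mk' M) = QuotientGroup.mk' N := MonoidHom.ext fun x => rfl
  have hf : Function.Surjective f := fun y => by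
    obtain ⟨x, rfl⟩ := QuotientGroup.mk'_surjective N y
    exact ⟨QuotientGroup.mk' M x, rfl⟩
  have hker : f.ker = N.map (QuotientGroup.mk' M) := by
    ext y
    obtain ⟨x, rfl⟩ := QuotientGroup.mk'_surjective M y
    constructor
    · intro hy
      exact ⟨x, (QuotientGroup.eq_one_iff x).mp hy, rfl⟩
    · rintro ⟨z, hz, e⟩
      rw [MonoidHom.mem_ker, ← e]
      exact (QuotientGroup.eq_one_iff z).mpr hz
  have hcard : Nat.card f.ker = M.relIndex N := by
    have h1 : Nat.card (G ⧸ M) = Nat.card f.ker * Nat.card (G ⧸ N) := by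
      rw [Subgroup.card_eq_card_quotient_mul_card_subgroup f.ker,
        Nat.card_congr (QuotientGroup.quotientKerEquivOfSurjective f hf).toEquiv, mul_comm]
    rw [← Subgroup.index_eq_card, ← Subgroup.index_eq_card, ← Subgroup.relIndex_mul_index hMN] at h1
    exact (Nat.eq_of_mul_eq_mul_right (Nat.pos_of_ne_zero Subgroup.index_ne_zero_of_finite) h1).symm
  have himg : (H.map (QuotientGroup.mk' M)).map f = H.map (QuotientGroup.mk' N) := by
    rw [Subgroup.map_map, hfmk]
  unfold quotCount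
  split_ifs with hco
  · rw [card_of_coprime_ker f hf (hcard ▸ hco) _ (hH.map _), himg]
    congr 1
    have hC : Nat.card {u : G // u ∈ N ∧ ∀ h ∈ H, h * u * h⁻¹ * u⁻¹ ∈ M} =
        Nat.card M * Nat.card (f.ker ⊓ Subgroup.centralizer
          (H.map (QuotientGroup.mk' M) : Set (G ⧸ M)) : Subgroup (G ⧸ M)) := by
      have hM : Nat.card M = Nat.card (QuotientGroup.mk' M).ker := by rw [QuotientGroup.ker_mk']
      rw [hM]
      rw [← card_preimage (QuotientGroup.mk' M) (QuotientGroup.mk'_surjective M)]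
      refine Nat.card_congr (Equiv.subtypeEquivRight fun u => ?_)
      rw [Subgroup.mem_inf, hker, Subgroup.mem_centralizer_iff]
      refine and_congr ⟨fun hu => ⟨u, hu, rfl⟩, ?_⟩ ⟨?_, ?_⟩
      · rintro ⟨z, hz, e⟩
        have : z⁻¹ * u ∈ M := QuotientGroup.eq.mp e
        simpa using N.mul_mem hz (hMN this)
      · rintro hu _ ⟨h, hh, rfl⟩
        rw [← map_mul, ← map_mul]
        refine (QuotientGroup.eq_iff_div_mem).mpr ?_
        rw [div_eq_mul_inv, mul_inv_rev, ← mul_assoc]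
        exact hu h hh
      · intro hu h hh
        have := hu (QuotientGroup.mk' M h) ⟨h, hh, rfl⟩
        rw [← map_mul, ← map_mul] at this
        have := (QuotientGroup.eq_iff_div_mem).mp this
        rwa [div_eq_mul_inv, mul_inv_rev, ← mul_assoc] at this
    rw [hC, Nat.mul_div_cancel_left _ Nat.card_pos]
  · rcases hfac with ⟨m, hm⟩ | h
    · rw [card_of_pgroup_ker f hf (IsPGroup.of_card (hcard.trans hm)) _, himg, hcard]
    · exact absurd h hco

theorem quotCount_top (H : Subgroup G) : quotCount p H ⊤ = 1 := by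
  unfold quotCount
  haveI : Subsingleton (G ⧸ (⊤ : Subgroup G)) := QuotientGroup.subsingleton_quotient_top
  rw [Nat.card_eq_one_iff_unique]
  exact ⟨⟨fun a b => Subtype.ext (Subsingleton.elim _ _)⟩,
    ⟨⟨1, ⊥, IsPGroup.of_bot, (Subgroup.eq_bot_of_subsingleton _).le, one_mem _⟩⟩⟩

theorem quotCount_bot (H : Subgroup G) (hH : IsPGroup p H) :
    quotCount p H ⊥ = Nat.card {g : G // (H.subgroupOf (H ⊔ Subgroup.zpowers g)).IsSubnormal} := by
  let e : G ⧸ (⊥ : Subgroup G) ≃* G := QuotientGroup.quotientBot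
  unfold quotCount
  refine Nat.card_congr (Equiv.subtypeEquiv e.toEquiv fun q => ?_)
  rw [subnormal_iff_W hH]
  obtain ⟨x, rfl⟩ := QuotientGroup.mk'_surjective (⊥ : Subgroup G) q
  constructor
  · intro h
    have := W_map (p := p) e.toMonoidHom h
    rwa [Subgroup.map_map, show e.toMonoidHom.comp (QuotientGroup.mk' (⊥ : Subgroup G)) = MonoidHom.id G
      from MonoidHom.ext fun y => rfl, Subgroup.map_id] at this
  · intro h
    exact W_map (QuotientGroup.mk' (⊥ : Subgroup G)) h

theorem telescope {n : ℕ} (F : Fin (n + 1) → ℕ) (c : Fin n → ℕ)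
    (h : ∀ i : Fin n, F i.castSucc = c i * F i.succ) : F 0 = (∏ i, c i) * F (Fin.last n) := by
  induction n with
  | zero => simp
  | succ n ih =>
    have h2 : F (Fin.succ 0) = (∏ i : Fin n, c i.succ) * F (Fin.last (n + 1)) := by
      rw [← Fin.succ_last]
      exact ih (fun i : Fin (n + 1) => F i.succ) (fun i : Fin n => c i.succ) (fun i => by
        rw [← Fin.castSucc_succ]
        exact h i.succ)
    rw [Fin.prod_univ_succ, mul_assoc, ← h2]
    exact h 0

end CfsgLib.SubnFiber
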