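import Mathlib
import Cfsg.Agent.Lib.S3Amalgam.Local
import Cfsg.Agent.Lib.S3Amalgam.Shape
import Cfsg.Agent.Lib.DihedralShape

/-!
Primitive groups with a suborbit of length three: the point stabilisers, from the bipartite double
cover of the orbital digraph and the classification of the amalgams with residues of degree three.
-/

set_option autoImplicit false

namespace CfsgLib.SuborbitThree

open MulAction

variable {G Ω : Type*} [Group G] [MulAction G Ω]

/-- An orbital of out-degree three which generates. -/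
structure Hyp (G : Type*) [Group G] {Ω : Type*} [MulAction G Ω] (a b : Ω) : Prop where
  fin : Finite G
  trans : IsPretransitive G Ω
  gen : stabilizer G a ⊔ stabilizer G b = ⊤
  faith : FaithfulSMul G Ω
  three : Nat.card (orbit (stabilizer G a) b) = 3

/-- The orbital. -/
def Arc (G : Type*) [Group G] {Ω : Type*} [MulAction G Ω] (a b x y : Ω) : Prop :=
  ∃ g : G, g • a = x ∧ g • b = y

/-- Adjacency in the double cover. -/
def DAdj (G : Type*) [Group G] {Ω : Type*} [MulAction G Ω] (a b : Ω) : Ω ⊕ Ω → Ω ⊕ Ω → Prop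
  | .inl x, .inr y => Arc G a b x y
  | .inr y, .inl x => Arc G a b x y
  | _, _ => False

variable {a b : Ω}

theorem Arc.smul (g : G) {x y : Ω} (h : Arc G a b x y) : Arc G a b (g • x) (g • y) := by
  obtain ⟨k, rfl, rfl⟩ := h
  exact ⟨g * k, mul_smul g k a, mul_smul g k b⟩

theorem arc_base (G : Type*) [Group G] {Ω : Type*} [MulAction G Ω] (a b : Ω) : Arc G a b a b :=
  ⟨1, one_smul _ _, one_smul _ _⟩

/-- The edge stabiliser. -/
def T (G : Type*) [Group G] {Ω : Type*} [MulAction G Ω] (a b : Ω) : Subgroup G :=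
  stabilizer G a ⊓ stabilizer G b

theorem mem_T {g : G} : g ∈ T G a b ↔ g • a = a ∧ g • b = b := Iff.rfl

theorem Hyp.three_out (h : Hyp G a b) :
    ∃ p q r : Ω, p ≠ q ∧ p ≠ r ∧ q ≠ r ∧ ∀ y, Arc G a b a y ↔ y = p ∨ y = q ∨ y = r := by
  have hc := h.three
  rw [Nat.card_coe_set_eq, Set.ncard_eq_three] at hc
  obtain ⟨p, q, r, hpq, hpr, hqr, he⟩ := hc
  refine ⟨p, q, r, hpq, hpr, hqr, fun y => ?_⟩
  have : Arc G a b a y ↔ y ∈ orbit (stabilizer G a) b := by
    constructor
    · rintro ⟨g, hg, rfl⟩; exact ⟨⟨g, hg⟩, rfl⟩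
    · rintro ⟨⟨g, hg⟩, rfl⟩; exact ⟨g, hg, rfl⟩
  rw [this, he]
  simp

theorem Hyp.card_stab (h : Hyp G a b) : Nat.card (stabilizer G a) = 3 * Nat.card (T G a b) := by
  haveI := h.fin
  have h1 := Subgroup.card_mul_index (stabilizer (stabilizer G a) b)
  rw [MulAction.index_stabilizer, ← Nat.card_coe_set_eq, h.three] at h1
  rw [← h1, mul_comm]
  refine congrArg (3 * ·) (Nat.card_congr ?_)
  exact { toFun := fun g => ⟨(g : stabilizer G a), (g : stabilizer G a).2, g.2⟩
          invFun := fun g => ⟨⟨(g : G), g.2.1⟩, g.2.2⟩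
          left_inv := fun g => rfl
          right_inv := fun g => rfl }

theorem Hyp.conj_stab (h : Hyp G a b) : ∃ g : G, g • a = b ∧ Nat.card (stabilizer G b) = Nat.card (stabilizer G a) := by
  haveI := h.trans
  obtain ⟨g, rfl⟩ := exists_smul_eq G a b
  refine ⟨g, rfl, ?_⟩
  rw [stabilizer_smul_eq_stabilizer_map_conj]
  exact Nat.card_congr (Subgroup.equivMapOfInjective _ _ (MulAut.conj g).injective).toEquiv.symm

theorem Hyp.three_in (h : Hyp G a b) :
    ∃ p q r : Ω, p ≠ q ∧ p ≠ r ∧ q ≠ r ∧ ∀ x, Arc G a b x b ↔ x = p ∨ x = q ∨ x = r := by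
  haveI := h.fin
  obtain ⟨g, -, hcard⟩ := h.conj_stab
  have h1 := Subgroup.card_mul_index (stabilizer (stabilizer G b) a)
  rw [MulAction.index_stabilizer, hcard, h.card_stab] at h1
  have h2 : Nat.card (stabilizer (stabilizer G b) a) = Nat.card (T G a b) := Nat.card_congr
    { toFun := fun g => ⟨(g : stabilizer G b), g.2, (g : stabilizer G b).2⟩
      invFun := fun g => ⟨⟨(g : G), g.2.2⟩, g.2.1⟩
      left_inv := fun g => rfl
      right_inv := fun g => rfl }
  rw [h2] at h1
  have h3 : (orbit (stabilizer G b) a).ncard = 3 := by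
    have := Nat.card_pos (α := T G a b)
    rw [mul_comm 3] at h1
    exact Nat.eq_of_mul_eq_mul_left this h1
  obtain ⟨p, q, r, hpq, hpr, hqr, he⟩ := Set.ncard_eq_three.1 h3
  refine ⟨p, q, r, hpq, hpr, hqr, fun x => ?_⟩
  have : Arc G a b x b ↔ x ∈ orbit (stabilizer G b) a := by
    constructor
    · rintro ⟨g, rfl, hg⟩; exact ⟨⟨g, hg⟩, rfl⟩
    · rintro ⟨⟨g, hg⟩, rfl⟩; exact ⟨g, rfl, hg⟩
  rw [this, he]
  simp

theorem dadj_symm : ∀ {u v : Ω ⊕ Ω}, DAdj G a b u v → DAdj G a b v u := by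
  rintro (x | x) (y | y) h <;> exact h

theorem dadj_smul (g : G) : ∀ {u v : Ω ⊕ Ω}, DAdj G a b u v → DAdj G a b (g • u) (g • v) := by
  rintro (x | x) (y | y) h <;> simp only [Sum.smul_inl, Sum.smul_inr, DAdj] at h ⊢
  · exact h.smul g
  · exact h.smul g

theorem dadj_inl {x : Ω} {v : Ω ⊕ Ω} : DAdj G a b (.inl x) v ↔ ∃ y, v = .inr y ∧ Arc G a b x y := by
  rcases v with y | y <;> simp [DAdj]

theorem dadj_inr {y : Ω} {v : Ω ⊕ Ω} : DAdj G a b (.inr y) v ↔ ∃ x, v = .inl x ∧ Arc G a b x y := by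
  rcases v with x | x <;> simp [DAdj]

theorem inlEq {g : G} {x y : Ω} (h : g • x = y) : g • (Sum.inl x : Ω ⊕ Ω) = .inl y := congrArg Sum.inl h

theorem inrEq {g : G} {x y : Ω} (h : g • x = y) : g • (Sum.inr x : Ω ⊕ Ω) = .inr y := congrArg Sum.inr h

theorem inlInj {g : G} {x y : Ω} (h : g • (Sum.inl x : Ω ⊕ Ω) = .inl y) : g • x = y := Sum.inl.inj h

theorem inrInj {g : G} {x y : Ω} (h : g • (Sum.inr x : Ω ⊕ Ω) = .inr y) : g • x = y := Sum.inr.inj h

theorem four_three {α : Type*} {p q r v w z t : α} (ha : v = p ∨ v = q ∨ v = r) (hb : w = p ∨ w = q ∨ w = r)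
    (hc : z = p ∨ z = q ∨ z = r) (hd : t = p ∨ t = q ∨ t = r) (h1 : w ≠ v) (h2 : z ≠ v) (h3 : z ≠ w)
    (h4 : t ≠ v) (h5 : t ≠ w) : t = z := by
  grind

/-- Every vertex is an image of an end of the base edge. -/
theorem Hyp.vertex (h : Hyp G a b) (u : Ω ⊕ Ω) :
    ∃ g : G, g • (Sum.inl a : Ω ⊕ Ω) = u ∨ g • (Sum.inr b : Ω ⊕ Ω) = u := by
  haveI := h.trans
  rcases u with x | x
  · obtain ⟨g, hg⟩ := exists_smul_eq G a x
    exact ⟨g, Or.inl (congrArg Sum.inl hg)⟩
  · obtain ⟨g, hg⟩ := exists_smul_eq G b x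
    exact ⟨g, Or.inr (congrArg Sum.inr hg)⟩

theorem Hyp.three_nbr (h : Hyp G a b) (u : Ω ⊕ Ω) :
    ∃ p q r, p ≠ q ∧ p ≠ r ∧ q ≠ r ∧ ∀ v, DAdj G a b u v ↔ v = p ∨ v = q ∨ v = r := by
  obtain ⟨g, rfl | rfl⟩ := h.vertex u
  · obtain ⟨p, q, r, h1, h2, h3, he⟩ := h.three_out
    refine ⟨g • .inr p, g • .inr q, g • .inr r, fun e => h1 (Sum.inr.inj (smul_left_cancel g e)),
      fun e => h2 (Sum.inr.inj (smul_left_cancel g e)), fun e => h3 (Sum.inr.inj (smul_left_cancel g e)),
      fun v => ?_⟩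
    rw [← smul_inv_smul g v]
    constructor
    · intro hv
      have := dadj_smul g⁻¹ hv
      rw [inv_smul_smul, inv_smul_smul, dadj_inl] at this
      obtain ⟨y, hy, harc⟩ := this
      rw [hy]
      rcases (he y).1 harc with rfl | rfl | rfl <;> simp
    · intro hv
      simp only [smul_left_cancel_iff] at hv
      refine dadj_smul g (dadj_inl.2 ?_)
      rcases hv with e | e | e <;> exact ⟨_, e, (he _).2 (by simp)⟩
  · obtain ⟨p, q, r, h1, h2, h3, he⟩ := h.three_in
    refine ⟨g • .inl p, g • .inl q, g • .inl r, fun e => h1 (Sum.inl.inj (smul_left_cancel g e)),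
      fun e => h2 (Sum.inl.inj (smul_left_cancel g e)), fun e => h3 (Sum.inl.inj (smul_left_cancel g e)),
      fun v => ?_⟩
    rw [← smul_inv_smul g v]
    constructor
    · intro hv
      have := dadj_smul g⁻¹ hv
      rw [inv_smul_smul, inv_smul_smul, dadj_inr] at this
      obtain ⟨y, hy, harc⟩ := this
      rw [hy]
      rcases (he y).1 harc with rfl | rfl | rfl <;> simp
    · intro hv
      simp only [smul_left_cancel_iff] at hv
      refine dadj_smul g (dadj_inr.2 ?_)
      rcases hv with e | e | e <;> exact ⟨_, e, (he _).2 (by simp)⟩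

/-- A fixed edge of an element of odd order spreads to the neighbours. -/
theorem Hyp.spread (h : Hyp G a b) {g : G} (hg : Odd (orderOf g)) {u v w : Ω ⊕ Ω}
    (huv : DAdj G a b u v) (huw : DAdj G a b u w) (hu : g • u = u) (hv : g • v = v) : g • w = w := by
  obtain ⟨p, q, r, -, -, -, he⟩ := h.three_nbr u
  have hmv : ∀ z, DAdj G a b u z → DAdj G a b u (g • z) := fun z hz => by
    have := dadj_smul g hz
    rwa [hu] at this
  by_contra hne
  have hwv : w ≠ v := fun e => hne (e ▸ hv)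
  have hgv : g • w ≠ v := fun e => hwv (smul_left_cancel g (e.trans hv.symm))
  have h2 : g • g • w = w := by
    have ha := (he _).1 huv
    have hb := (he _).1 huw
    have hc := (he _).1 (hmv _ huw)
    have hd := (he _).1 (hmv _ (hmv _ huw))
    have hgg : g • g • w ≠ v := fun e => hgv (smul_left_cancel g (e.trans hv.symm))
    have hgg' : g • g • w ≠ g • w := fun e => hne (smul_left_cancel g e)
    grind
  obtain ⟨k, hk⟩ := hg
  have : g = (g ^ 2) ^ (k + 1) := by
    rw [← pow_mul, show 2 * (k + 1) = orderOf g + 1 by omega, pow_add, pow_orderOf_eq_one, pow_one, one_mul]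
  refine hne ?_
  have h3 : ∀ m : ℕ, (g ^ 2) ^ m • w = w := by
    intro m
    induction m with
    | zero => simp
    | succ m ih => rw [pow_succ, mul_smul, sq, mul_smul, h2, ← sq, ih]
  conv_lhs => rw [this]
  exact h3 _

/-- An element of odd order in an edge stabiliser is trivial. -/
theorem Hyp.odd_trivial (h : Hyp G a b) {g : G} (hg : g ∈ T G a b) (ho : Odd (orderOf g)) : g = 1 := by
  have hall : ∀ k : G, g • (k • (Sum.inl a : Ω ⊕ Ω)) = k • .inl a ∧ g • (k • (Sum.inr b : Ω ⊕ Ω)) = k • .inr b := by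
    intro k
    have hk : k ∈ stabilizer G a ⊔ stabilizer G b := by rw [h.gen]; trivial
    rw [← Subgroup.closure_eq (stabilizer G a), ← Subgroup.closure_eq (stabilizer G b),
      ← Subgroup.closure_union] at hk
    induction hk using Subgroup.closure_induction_right with
    | one => simp only [one_smul]; exact ⟨congrArg Sum.inl hg.1, congrArg Sum.inr hg.2⟩
    | mul_right x _ y hy ih =>
      rcases hy with hy | hy
      · have e : (x * y) • (Sum.inl a : Ω ⊕ Ω) = x • .inl a := by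
          rw [mul_smul]; exact congrArg (x • ·) (congrArg Sum.inl (show y • a = a from hy))
        refine ⟨by rw [e]; exact ih.1, h.spread ho (u := x • .inl a) (v := x • .inr b) ?_ ?_ ih.1 ih.2⟩
        · exact dadj_smul x (arc_base G a b)
        · rw [← e]; exact dadj_smul (x * y) (arc_base G a b)
      · have e : (x * y) • (Sum.inr b : Ω ⊕ Ω) = x • .inr b := by
          rw [mul_smul]; exact congrArg (x • ·) (congrArg Sum.inr (show y • b = b from hy))
        refine ⟨h.spread ho (u := x • .inr b) (v := x • .inl a) ?_ ?_ ih.2 ih.1, by rw [e]; exact ih.2⟩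
        · exact dadj_smul x (arc_base G a b)
        · rw [← e]; exact dadj_smul (x * y) (dadj_symm (arc_base G a b : DAdj G a b (.inl a) (.inr b)))
    | mul_inv_cancel x _ y hy ih =>
      rcases hy with hy | hy
      · have e : (x * y⁻¹) • (Sum.inl a : Ω ⊕ Ω) = x • .inl a := by
          rw [mul_smul]; exact congrArg (x • ·) (congrArg Sum.inl (show y⁻¹ • a = a from inv_mem hy))
        refine ⟨by rw [e]; exact ih.1, h.spread ho (u := x • .inl a) (v := x • .inr b) ?_ ?_ ih.1 ih.2⟩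
        · exact dadj_smul x (arc_base G a b)
        · rw [← e]; exact dadj_smul (x * y⁻¹) (arc_base G a b)
      · have e : (x * y⁻¹) • (Sum.inr b : Ω ⊕ Ω) = x • .inr b := by
          rw [mul_smul]; exact congrArg (x • ·) (congrArg Sum.inr (show y⁻¹ • b = b from inv_mem hy))
        refine ⟨h.spread ho (u := x • .inr b) (v := x • .inl a) ?_ ?_ ih.2 ih.1, by rw [e]; exact ih.2⟩
        · exact dadj_smul x (arc_base G a b)
        · rw [← e]; exact dadj_smul (x * y⁻¹) (dadj_symm (arc_base G a b : DAdj G a b (.inl a) (.inr b)))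
  haveI := h.faith
  haveI := h.trans
  refine FaithfulSMul.eq_of_smul_eq_smul (α := Ω) fun x => ?_
  obtain ⟨k, rfl⟩ := exists_smul_eq G a x
  rw [one_smul]
  exact Sum.inl.inj (hall k).1

theorem Hyp.two_group (h : Hyp G a b) : IsPGroup 2 (T G a b) := by
  haveI := h.fin
  intro g
  obtain ⟨k, m, hm, hk⟩ := Nat.exists_eq_two_pow_mul_odd (orderOf_pos (g : G)).ne'
  refine ⟨k, Subtype.ext ?_⟩
  refine h.odd_trivial (g ^ 2 ^ k).2 ?_
  rw [Subgroup.coe_pow, orderOf_pow' _ (by positivity), hk, Nat.gcd_mul_right_left,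
    Nat.mul_div_cancel_left _ (by positivity)]
  exact hm

/-- A conjugating element preserving the edge stabiliser. -/
theorem Hyp.exists_shift (h : Hyp G a b) : ∃ γ : G, γ • a = b ∧ ∀ t, γ * t * γ⁻¹ ∈ T G a b ↔ t ∈ T G a b := by
  haveI := h.fin
  haveI : Fact (Nat.Prime 2) := ⟨Nat.prime_two⟩
  obtain ⟨g, hg, -⟩ := h.conj_stab
  set T' := (T G a b).map (MulAut.conj g).toMonoidHom with hT'
  have hT'b : T' ≤ stabilizer G b := by
    rintro _ ⟨t, ht, rfl⟩
    show (g * t * g⁻¹) • b = b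
    rw [← hg, mul_smul, mul_smul, inv_smul_smul, (mem_T.1 ht).1]
  let O := orbit (stabilizer G b) a
  letI : MulAction T' O := MulAction.compHom O (Subgroup.inclusion hT'b)
  have hO : Nat.card O = 3 := by
    obtain ⟨p, q, r, h1, h2, h3, he⟩ := h.three_in
    rw [Nat.card_coe_set_eq, Set.ncard_eq_three]
    refine ⟨p, q, r, h1, h2, h3, Set.ext fun x => ?_⟩
    have : Arc G a b x b ↔ x ∈ O := by
      constructor
      · rintro ⟨k, rfl, hk⟩; exact ⟨⟨k, hk⟩, rfl⟩
      · rintro ⟨⟨k, hk⟩, rfl⟩; exact ⟨k, rfl, hk⟩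
    rw [← this, he]
    simp
  haveI : Finite O := Nat.finite_of_card_ne_zero (by omega)
  have hp : IsPGroup 2 T' := h.two_group.map _
  obtain ⟨⟨x, hx⟩, hfix⟩ := hp.nonempty_fixed_point_of_prime_not_dvd_card O (by rw [hO]; norm_num)
  obtain ⟨⟨k, hk⟩, rfl⟩ := hx
  have hle : ∀ t ∈ T G a b, (k⁻¹ * g) * t * (k⁻¹ * g)⁻¹ ∈ T G a b := by
    intro t ht
    have hmem : g * t * g⁻¹ ∈ T' := ⟨t, ht, rfl⟩
    have h1 : (g * t * g⁻¹) • k • a = k • a := congrArg Subtype.val (hfix ⟨_, hmem⟩)
    have h2 : (g * t * g⁻¹) • b = b := hT'b hmem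
    have hkb : k • b = b := hk
    have e : k⁻¹ * g * t * (k⁻¹ * g)⁻¹ = k⁻¹ * (g * t * g⁻¹) * k := by group
    rw [e, mem_T]
    refine ⟨by rw [mul_smul, mul_smul, h1, inv_smul_smul], ?_⟩
    rw [mul_smul, mul_smul, hkb, h2, inv_smul_eq_iff, hkb]
  refine ⟨k⁻¹ * g, by rw [mul_smul, hg]; exact inv_smul_eq_iff.2 hk.symm, fun t => ⟨fun ht => ?_, hle t⟩⟩
  let f : T G a b → T G a b := fun t => ⟨_, hle t t.2⟩
  have hf : Function.Injective f := fun t t' e => Subtype.ext
    (mul_left_cancel (mul_right_cancel (congrArg Subtype.val e)))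
  obtain ⟨t', ht'⟩ := (Finite.injective_iff_surjective.1 hf) ⟨_, ht⟩
  rw [← (mul_left_cancel (mul_right_cancel (congrArg Subtype.val ht')) : (t' : G) = t)]
  exact t'.2

/-- The core of the edge stabiliser in a vertex stabiliser. -/
def core (G : Type*) [Group G] {Ω : Type*} [MulAction G Ω] (a b c : Ω) : Subgroup G where
  carrier := {g | g • c = c ∧ ∀ k : G, k • c = c → k * g * k⁻¹ ∈ T G a b}
  one_mem' := ⟨one_smul _ _, fun k _ => by simp⟩
  mul_mem' {g g'} hg hg' := ⟨by rw [mul_smul, hg'.1, hg.1], fun k hk => by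
    rw [show k * (g * g') * k⁻¹ = (k * g * k⁻¹) * (k * g' * k⁻¹) by group]
    exact mul_mem (hg.2 k hk) (hg'.2 k hk)⟩
  inv_mem' {g} hg := ⟨inv_smul_eq_iff.2 hg.1.symm, fun k hk => by
    rw [show k * g⁻¹ * k⁻¹ = (k * g * k⁻¹)⁻¹ by group]
    exact inv_mem (hg.2 k hk)⟩

theorem core_le {c : Ω} : core G a b c ≤ T G a b := fun g hg => by simpa using hg.2 1 (one_smul _ _)

theorem core_conj {c : Ω} {g k : G} (hg : g ∈ core G a b c) (hk : k • c = c) : k * g * k⁻¹ ∈ core G a b c :=
  ⟨by rw [mul_smul, mul_smul, inv_smul_eq_iff.2 hk.symm, hg.1, hk], fun l hl => by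
    rw [show l * (k * g * k⁻¹) * l⁻¹ = (l * k) * g * (l * k)⁻¹ by group]
    exact hg.2 _ (by rw [mul_smul, hk, hl])⟩

theorem mem_core_out {g : G} : g ∈ core G a b a ↔ g • a = a ∧ ∀ y, Arc G a b a y → g • y = y := by
  constructor
  · rintro ⟨h1, h2⟩
    refine ⟨h1, ?_⟩
    rintro _ ⟨k, hk, rfl⟩
    have := (h2 k⁻¹ (inv_smul_eq_iff.2 hk.symm)).2
    have e : (k⁻¹ * g * k⁻¹⁻¹) • b = b := this
    rwa [inv_inv, mul_smul, mul_smul, inv_smul_eq_iff] at e
  · rintro ⟨h1, h2⟩
    refine ⟨h1, fun k hk => mem_T.2 ⟨by rw [mul_smul, mul_smul, inv_smul_eq_iff.2 hk.symm, h1, hk], ?_⟩⟩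
    have hk' : k⁻¹ • a = a := inv_smul_eq_iff.2 hk.symm
    rw [mul_smul, mul_smul, h2 _ ⟨k⁻¹, hk', rfl⟩, smul_inv_smul]

theorem mem_core_in {g : G} : g ∈ core G a b b ↔ g • b = b ∧ ∀ x, Arc G a b x b → g • x = x := by
  constructor
  · rintro ⟨h1, h2⟩
    refine ⟨h1, ?_⟩
    rintro _ ⟨k, rfl, hk⟩
    have e : (k⁻¹ * g * k⁻¹⁻¹) • a = a := (h2 k⁻¹ (inv_smul_eq_iff.2 hk.symm)).1
    rwa [inv_inv, mul_smul, mul_smul, inv_smul_eq_iff] at e
  · rintro ⟨h1, h2⟩
    refine ⟨h1, fun k hk => mem_T.2 ⟨?_, by rw [mul_smul, mul_smul, inv_smul_eq_iff.2 hk.symm, h1, hk]⟩⟩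
    have hk' : k⁻¹ • b = b := inv_smul_eq_iff.2 hk.symm
    rw [mul_smul, mul_smul, h2 _ ⟨k⁻¹, rfl, hk'⟩, smul_inv_smul]

theorem core_shift {γ : G} (hγa : γ • a = b) (hγT : ∀ t, γ * t * γ⁻¹ ∈ T G a b ↔ t ∈ T G a b) (g : G) :
    γ * g * γ⁻¹ ∈ core G a b b ↔ g ∈ core G a b a := by
  have hst : ∀ k : G, (γ * k * γ⁻¹) • b = b ↔ k • a = a := fun k => by
    rw [← hγa, mul_smul, mul_smul, inv_smul_smul, smul_left_cancel_iff]
  constructor
  · rintro ⟨h1, h2⟩
    refine ⟨(hst g).1 h1, fun k hk => ?_⟩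
    rw [← hγT, show γ * (k * g * k⁻¹) * γ⁻¹ = (γ * k * γ⁻¹) * (γ * g * γ⁻¹) * (γ * k * γ⁻¹)⁻¹ by group]
    exact h2 _ ((hst k).2 hk)
  · rintro ⟨h1, h2⟩
    refine ⟨(hst g).2 h1, fun k hk => ?_⟩
    have hk' : (γ⁻¹ * k * γ) • a = a := (hst _).1 (by simpa [mul_assoc] using hk)
    rw [show k * (γ * g * γ⁻¹) * k⁻¹ = γ * ((γ⁻¹ * k * γ) * g * (γ⁻¹ * k * γ)⁻¹) * γ⁻¹ by group, hγT]
    exact h2 _ hk'

theorem Hyp.eq_bot (h : Hyp G a b) {N : Subgroup G} (hN : N ≤ T G a b)
    (ha : ∀ k : G, k • a = a → ∀ n ∈ N, k * n * k⁻¹ ∈ N)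
    (hb : ∀ k : G, k • b = b → ∀ n ∈ N, k * n * k⁻¹ ∈ N) : N = ⊥ := by
  have hle : stabilizer G a ⊔ stabilizer G b ≤ Subgroup.normalizer (N : Set G) := by
    haveI := h.fin
    refine sup_le (fun k hk => ?_) (fun k hk => ?_) <;> rw [Subgroup.mem_normalizer_iff]
    · refine fun n => ⟨fun hn => ha k hk n hn, fun hn => ?_⟩
      have := ha k⁻¹ (inv_smul_eq_iff.2 (show k • a = a from hk).symm) _ hn
      simpa [mul_assoc] using this
    · refine fun n => ⟨fun hn => hb k hk n hn, fun hn => ?_⟩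
      have := hb k⁻¹ (inv_smul_eq_iff.2 (show k • b = b from hk).symm) _ hn
      simpa [mul_assoc] using this
  rw [h.gen] at hle
  rw [Subgroup.eq_bot_iff_forall]
  intro n hn
  haveI := h.faith
  haveI := h.trans
  refine FaithfulSMul.eq_of_smul_eq_smul (α := Ω) fun x => ?_
  obtain ⟨g, rfl⟩ := exists_smul_eq G a x
  have h1 : (g⁻¹ * n * g) ∈ N := by
    have := (Subgroup.mem_normalizer_iff.1 (hle (Subgroup.mem_top g⁻¹)) n).1 hn
    simpa using this
  have h2 : (g⁻¹ * n * g) • a = a := (hN h1).1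
  rw [one_smul]
  calc n • g • a = g • (g⁻¹ * n * g) • a := by simp [mul_smul]
    _ = g • a := by rw [h2]

/-- The vertex action. -/
theorem Hyp.exists_phi (h : Hyp G a b) : ∃ φ : stabilizer G a →* Equiv.Perm (Fin 3),
    φ.ker = (core G a b a).subgroupOf (stabilizer G a) ∧ 3 ∣ Nat.card φ.range := by
  haveI := h.fin
  let O := orbit (stabilizer G a) b
  haveI : Finite O := Nat.finite_of_card_ne_zero (by rw [h.three]; omega)
  let e : O ≃ Fin 3 := Finite.equivFinOfCardEq h.three
  let φ₀ := MulAction.toPermHom (stabilizer G a) O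
  refine ⟨e.permCongrHom.toMonoidHom.comp φ₀, ?_, ?_⟩
  · ext g
    rw [MonoidHom.mem_ker, MonoidHom.comp_apply, MulEquiv.coe_toMonoidHom, MulEquiv.map_eq_one_iff,
      Subgroup.mem_subgroupOf, mem_core_out]
    constructor
    · intro hg
      refine ⟨g.2, ?_⟩
      rintro _ ⟨k, hk, rfl⟩
      exact congrArg Subtype.val (DFunLike.congr_fun hg (⟨k • b, ⟨⟨k, hk⟩, rfl⟩⟩ : O))
    · rintro ⟨-, hg⟩
      ext ⟨_, ⟨k, hk⟩, rfl⟩
      exact hg _ ⟨k, hk, rfl⟩
  · set φ := e.permCongrHom.toMonoidHom.comp φ₀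
    have h1 := Subgroup.card_mul_index (stabilizer φ.range (e ⟨b, mem_orbit_self b⟩))
    rw [MulAction.index_stabilizer] at h1
    have h2 : orbit φ.range (e ⟨b, mem_orbit_self b⟩) = Set.univ := by
      refine Set.eq_univ_of_forall fun i => ?_
      obtain ⟨k, hk⟩ : (e.symm i : Ω) ∈ O := (e.symm i).2
      refine ⟨⟨φ k, k, rfl⟩, ?_⟩
      show φ k (e ⟨b, mem_orbit_self b⟩) = i
      rw [← e.apply_symm_apply i]
      simp only [φ, MonoidHom.comp_apply, MulEquiv.coe_toMonoidHom]
      show e (k • e.symm (e ⟨b, mem_orbit_self b⟩)) = _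
      rw [Equiv.symm_apply_apply]
      exact congrArg e (Subtype.ext hk)
    rw [h2, Set.ncard_univ, Nat.card_eq_fintype_card (α := Fin 3), Fintype.card_fin] at h1
    exact Dvd.intro_left _ h1

theorem Hyp.inl_nbr_iff {x : Ω} {g : G} :
    (∀ v, DAdj G a b (.inl x) v → g • v = v) ↔ ∀ y, Arc G a b x y → g • y = y := by
  constructor
  · intro h y hy; exact Sum.inr.inj (h (.inr y) hy)
  · intro h v hv
    obtain ⟨y, rfl, hy⟩ := dadj_inl.1 hv
    exact congrArg Sum.inr (h y hy)

theorem Hyp.inr_nbr_iff {y : Ω} {g : G} :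
    (∀ v, DAdj G a b (.inr y) v → g • v = v) ↔ ∀ x, Arc G a b x y → g • x = x := by
  constructor
  · intro h x hx; exact Sum.inl.inj (h (.inl x) hx)
  · intro h v hv
    obtain ⟨x, rfl, hx⟩ := dadj_inr.1 hv
    exact congrArg Sum.inl (h x hx)

/-- The five groups. -/
def Shape (P : Type*) [Group P] : Prop :=
  Nonempty (P ≃* Multiplicative (ZMod 3)) ∨ Nonempty (P ≃* Equiv.Perm (Fin 3)) ∨
    Nonempty (P ≃* DihedralGroup 6) ∨ Nonempty (P ≃* Equiv.Perm (Fin 4)) ∨
      Nonempty (P ≃* Equiv.Perm (Fin 4) × Multiplicative (ZMod 2))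

/-- Point stabilisers of an orbital of out-degree three. -/
theorem Hyp.shape (h : Hyp G a b) : Shape (stabilizer G a) := by
  classical
  haveI := h.fin
  haveI : Fact (Nat.Prime 2) := ⟨Nat.prime_two⟩
  haveI : Fact (Nat.Prime 3) := ⟨Nat.prime_three⟩
  obtain ⟨γ, hγa, hγT⟩ := h.exists_shift
  have hγst : ∀ k : G, (γ * k * γ⁻¹) • b = b ↔ k • a = a := fun k => by
    rw [← hγa, mul_smul, mul_smul, inv_smul_smul, smul_left_cancel_iff]
  have hγst' : ∀ k : G, k • b = b ↔ (γ⁻¹ * k * γ) • a = a := fun k => by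
    rw [← hγst, show γ * (γ⁻¹ * k * γ) * γ⁻¹ = k by group]
  have hTa : T G a b ≤ stabilizer G a := inf_le_left
  have hca := h.card_stab
  -- a subgroup properly containing the edge stabiliser
  have hmax : ∀ H : Subgroup G, T G a b ≤ H → ∀ g ∈ H, g • a = a → g ∉ T G a b → stabilizer G a ≤ H := by
    intro H hTH g hgH hga hgT
    have hsub : T G a b ≤ H ⊓ stabilizer G a := le_inf hTH hTa
    obtain ⟨i, hi⟩ := Subgroup.card_dvd_of_le hsub
    have h2 : Nat.card ↥(H ⊓ stabilizer G a) ∣ 3 * Nat.card (T G a b) :=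
      hca ▸ Subgroup.card_dvd_of_le inf_le_right
    have hne : i ≠ 1 := fun e => hgT ((Subgroup.eq_of_le_of_card_ge hsub (by rw [hi, e, mul_one])).symm ▸ ⟨hgH, hga⟩)
    rw [hi, mul_comm 3] at h2
    have hi3 : i ∣ 3 := Nat.dvd_of_mul_dvd_mul_left Nat.card_pos h2
    rcases (Nat.dvd_prime Nat.prime_three).1 hi3 with r | r
    · exact absurd r hne
    · exact (Subgroup.eq_of_le_of_card_ge inf_le_right (by rw [hi, r, hca, mul_comm])).symm.le.trans inf_le_left
  by_cases hQ : core G a b a = T G a b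
  · -- local action of order three
    have hTn : T G a b = ⊥ := by
      refine h.eq_bot le_rfl (fun k hk n hn => (hQ ▸ hn : n ∈ core G a b a).2 k hk) (fun k hk n hn => ?_)
      have hn' : γ⁻¹ * n * γ ∈ core G a b a := by
        rw [hQ, ← hγT, show γ * (γ⁻¹ * n * γ) * γ⁻¹ = n by group]; exact hn
      have := ((core_shift hγa hγT _).2 hn').2 k hk
      rwa [show γ * (γ⁻¹ * n * γ) * γ⁻¹ = n by group] at this
    have h3 : Nat.card (stabilizer G a) = 3 := by rw [hca, hTn, Subgroup.card_bot]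
    haveI : IsCyclic (stabilizer G a) := isCyclic_of_prime_card h3
    exact Or.inl ⟨mulEquivOfCyclicCardEq (by
      rw [h3, Nat.card_congr Multiplicative.toAdd, Nat.card_zmod])⟩
  obtain ⟨φ, hker, hdiv⟩ := h.exists_phi
  obtain ⟨s, hsT, hsQ⟩ := SetLike.exists_of_lt (lt_of_le_of_ne core_le hQ)
  have hφs : φ ⟨s, hTa hsT⟩ ≠ 1 := fun e => hsQ (Subgroup.mem_subgroupOf.1 (hker ▸ (MonoidHom.mem_ker.2 e)))
  have hS3 : Nat.card (Equiv.Perm (Fin 3)) = 6 := by
    rw [Nat.card_eq_fintype_card, Fintype.card_perm, Fintype.card_fin]; rfl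
  have hcQ : Nat.card φ.ker = Nat.card (core G a b a) := by
    rw [hker]; exact Nat.card_congr (Subgroup.subgroupOfEquivOfLe (core_le.trans hTa)).toEquiv
  have hfirst : Nat.card (stabilizer G a) = Nat.card (core G a b a) * Nat.card φ.range := by
    rw [← hcQ, ← Subgroup.index_ker, Subgroup.card_mul_index]
  have hlt : Nat.card (core G a b a) < Nat.card (T G a b) := by
    refine lt_of_le_of_ne (Subgroup.card_le_of_le core_le) fun e => hQ (Subgroup.eq_of_le_of_card_ge core_le e.ge)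
  have hr6 : Nat.card φ.range = 6 := by
    have hle := Subgroup.card_le_card_group φ.range
    rw [hS3] at hle
    obtain ⟨d, hd⟩ := hdiv
    have : Nat.card (core G a b a) * 3 < Nat.card (core G a b a) * Nat.card φ.range := by
      rw [← hfirst, hca]; omega
    have := Nat.lt_of_mul_lt_mul_left this
    omega
  have hsurj : Function.Surjective φ := by
    rw [← MonoidHom.range_eq_top]
    exact Subgroup.eq_top_of_card_eq _ (by rw [hr6, hS3])
  have hT2 : Nat.card (T G a b) = 2 * Nat.card (core G a b a) := by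
    rw [hr6, hca] at hfirst; omega
  -- index two
  have htwo : ∀ {x y : G}, x ∈ T G a b → y ∈ T G a b → x ∉ core G a b a → y ∉ core G a b a →
      x * y ∈ core G a b a := by
    intro x y hx hy hxQ hyQ
    have hidx : ((core G a b a).subgroupOf (T G a b)).index = 2 := by
      have h1 := Subgroup.card_mul_index ((core G a b a).subgroupOf (T G a b))
      rw [Nat.card_congr (Subgroup.subgroupOfEquivOfLe core_le).toEquiv, hT2, mul_comm 2] at h1
      exact Nat.eq_of_mul_eq_mul_left Nat.card_pos h1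
    have := (Subgroup.mul_mem_iff_of_index_two hidx (a := ⟨x, hx⟩) (b := ⟨y, hy⟩)).2
      (by simp [Subgroup.mem_subgroupOf, hxQ, hyQ])
    exact Subgroup.mem_subgroupOf.1 this
  by_cases hcent : ∀ g : G, g • a = a → (∀ q ∈ core G a b a, g * q = q * g) → g ∈ core G a b a
  · -- the amalgam
    have hnc : ∃ z : G, z ∈ T G a b ∧ z * z = 1 ∧ (∀ t ∈ T G a b, t * z = z * t) ∧
        ∃ g : G, g • a = a ∧ g * z ≠ z * g := by
      by_contra hno
      simp only [not_exists, not_and, not_not] at hno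
      let N : Subgroup G :=
        { carrier := {z | z ∈ T G a b ∧ z * z = 1 ∧ ∀ t ∈ T G a b, t * z = z * t}
          one_mem' := ⟨one_mem _, one_mul 1, fun t _ => by rw [mul_one, one_mul]⟩
          mul_mem' := fun {x y} hx hy => ⟨mul_mem hx.1 hy.1, by
              have e : y * x = x * y := hx.2.2 y hy.1
              calc x * y * (x * y) = x * (y * x) * y := by group
                _ = x * (x * y) * y := by rw [e]
                _ = (x * x) * (y * y) := by group
                _ = 1 := by rw [hx.2.1, hy.2.1, one_mul],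
            fun t ht => by rw [← mul_assoc, hx.2.2 t ht, mul_assoc, hy.2.2 t ht, mul_assoc]⟩
          inv_mem' := fun {x} hx => by
            rw [show x⁻¹ = x from inv_eq_of_mul_eq_one_left hx.2.1]; exact hx }
      have hNbot : N = ⊥ := by
        refine h.eq_bot (fun z hz => hz.1) (fun k hk n hn => ?_) (fun k hk n hn => ?_)
        · rw [hno n hn.1 hn.2.1 hn.2.2 k hk, mul_inv_cancel_right]; exact hn
        · have hn' : γ⁻¹ * n * γ ∈ N := by
            refine ⟨by rw [← hγT, show γ * (γ⁻¹ * n * γ) * γ⁻¹ = n by group]; exact hn.1,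
              by rw [show γ⁻¹ * n * γ * (γ⁻¹ * n * γ) = γ⁻¹ * (n * n) * γ by group, hn.2.1]; group,
              fun t ht => ?_⟩
            have := hn.2.2 _ ((hγT t).2 ht)
            calc t * (γ⁻¹ * n * γ) = γ⁻¹ * (γ * t * γ⁻¹ * n) * γ := by group
              _ = γ⁻¹ * (n * (γ * t * γ⁻¹)) * γ := by rw [this]
              _ = γ⁻¹ * n * γ * t := by group
          have e := hno _ hn'.1 hn'.2.1 hn'.2.2 _ ((hγst' k).1 hk)
          have e' : k * n = n * k := by
            calc k * n = γ * ((γ⁻¹ * k * γ) * (γ⁻¹ * n * γ)) * γ⁻¹ := by group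
              _ = γ * ((γ⁻¹ * n * γ) * (γ⁻¹ * k * γ)) * γ⁻¹ := by rw [e]
              _ = n * k := by group
          rw [e', mul_inv_cancel_right]; exact hn
      haveI : Nontrivial (T G a b) := Finite.one_lt_card_iff_nontrivial.1 (by
        have := Nat.card_pos (α := core G a b a); omega)
      haveI := h.two_group.center_nontrivial
      obtain ⟨z, hz⟩ := exists_ne (1 : Subgroup.center (T G a b))
      obtain ⟨k, hk⟩ := IsPGroup.iff_orderOf.1 (h.two_group.to_subgroup (Subgroup.center (T G a b))) z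
      rcases k with _ | k
      · rw [pow_zero, orderOf_eq_one_iff] at hk; exact hz hk
      · set w := z ^ 2 ^ k with hw
        have hw1 : w ≠ 1 := fun e => by
          have := orderOf_le_of_pow_eq_one (pow_pos two_pos k) e
          rw [hk, pow_succ] at this
          have := pow_pos (two_pos : (0:ℕ) < 2) k
          omega
        have hw2 : w * w = 1 := by
          rw [hw, ← pow_add, ← two_mul, ← pow_succ', ← hk, pow_orderOf_eq_one]
        have hm : ((w : T G a b) : G) ∈ N := ⟨(w : T G a b).2,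
          congrArg (fun u : Subgroup.center (T G a b) => ((u : T G a b) : G)) hw2,
          fun t ht => congrArg Subtype.val (Subgroup.mem_center_iff.1 w.2 ⟨t, ht⟩)⟩
        rw [hNbot, Subgroup.mem_bot] at hm
        exact hw1 (Subtype.ext (Subtype.ext hm))
    -- swapping
    obtain ⟨s', hs'T, hs'Q⟩ : ∃ s' ∈ T G a b, s' ∉ core G a b b :=
      ⟨γ * s * γ⁻¹, (hγT s).2 hsT, fun hm => hsQ ((core_shift hγa hγT s).1 hm)⟩
    have hswap0 : ∀ {u : Ω ⊕ Ω} {v w : Ω ⊕ Ω} (t : G), DAdj G a b u v → DAdj G a b u w → w ≠ v →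
        t • u = u → t • v = v → (∃ z, DAdj G a b u z ∧ t • z ≠ z) → t • w ≠ w := by
      intro u v w t huv huw hne htu htv hz e
      obtain ⟨z, huz, hzne⟩ := hz
      obtain ⟨p, q, r, -, -, -, he⟩ := h.three_nbr u
      have huz' : DAdj G a b u (t • z) := by
        have := dadj_smul t huz
        rwa [htu] at this
      have hzv : z ≠ v := fun e' => hzne (e' ▸ htv)
      have hzw : z ≠ w := fun e' => hzne (e' ▸ e)
      have hzv' : t • z ≠ v := fun e' => hzv (smul_left_cancel t (e'.trans htv.symm))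
      have hzw' : t • z ≠ w := fun e' => hzw (smul_left_cancel t (e'.trans e.symm))
      have ha := (he _).1 huv
      have hb := (he _).1 huw
      have hc := (he _).1 huz
      have hd := (he _).1 huz'
      exact hzne (four_three ha hb hc hd hne hzv hzw hzv' hzw')
    let loc : Ω ⊕ Ω → Prop := fun x =>
      (∀ {y z}, DAdj G a b x y → DAdj G a b x z → ∃ g : G, g • x = x ∧ g • y = z) ∧
      (∀ {y z}, DAdj G a b x y → DAdj G a b x z → z ≠ y → ∃ g : G, g • x = x ∧ g • y = y ∧ g • z ≠ z) ∧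
      (∀ g : G, g • x = x → (∀ q : G, q • x = x → (∀ y, DAdj G a b x y → q • y = y) → g * q = q * g) →
        ∀ y, DAdj G a b x y → g • y = y) ∧
      (∀ {y}, DAdj G a b x y → ∃ z : G, z • x = x ∧ z • y = y ∧ z * z = 1 ∧
        (∀ k : G, k • x = x → k • y = y → k * z = z * k) ∧ ∃ g : G, g • x = x ∧ g * z ≠ z * g)
    have hla : loc (.inl a) := by
      refine ⟨fun {y z} hy hz => ?_, fun {y z} hy hz hne => ?_, fun g hg hq => ?_, fun {y} hy => ?_⟩
      · obtain ⟨y, rfl, k, hk, rfl⟩ := dadj_inl.1 hy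
        obtain ⟨z, rfl, l, hl, rfl⟩ := dadj_inl.1 hz
        exact ⟨l * k⁻¹, inlEq (by rw [mul_smul, inv_smul_eq_iff.2 hk.symm, hl]),
          inrEq (by rw [← mul_smul, inv_mul_cancel_right])⟩
      · obtain ⟨y, rfl, k, hk, rfl⟩ := dadj_inl.1 hy
        have hk' : k⁻¹ • a = a := inv_smul_eq_iff.2 hk.symm
        have hta : (k * s * k⁻¹) • a = a := by rw [mul_smul, mul_smul, hk', hsT.1, hk]
        refine ⟨k * s * k⁻¹, inlEq hta, inrEq (by rw [mul_smul, mul_smul, inv_smul_smul, hsT.2]), ?_⟩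
        refine hswap0 _ hy hz hne (inlEq hta)
          (inrEq (by rw [mul_smul, mul_smul, inv_smul_smul, hsT.2])) ?_
        by_contra hno
        simp only [not_exists, not_and, not_not] at hno
        have hm : k * s * k⁻¹ ∈ core G a b a := mem_core_out.2 ⟨hta, Hyp.inl_nbr_iff.1 hno⟩
        have := core_conj hm hk'
        exact hsQ (by simpa [mul_assoc] using this)
      · refine Hyp.inl_nbr_iff.2 (mem_core_out.1 (hcent g (inlInj hg) fun q hqm => ?_)).2
        exact hq q (inlEq (mem_core_out.1 hqm).1) (Hyp.inl_nbr_iff.2 (mem_core_out.1 hqm).2)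
      · obtain ⟨y, rfl, k, hk, rfl⟩ := dadj_inl.1 hy
        obtain ⟨z, hzT, hz2, hzc, g, hga, hgz⟩ := hnc
        have hk' : k⁻¹ • a = a := inv_smul_eq_iff.2 hk.symm
        refine ⟨k * z * k⁻¹, inlEq (by rw [mul_smul, mul_smul, hk', hzT.1, hk]),
          inrEq (by rw [mul_smul, mul_smul, inv_smul_smul, hzT.2]),
          by rw [show k * z * k⁻¹ * (k * z * k⁻¹) = k * (z * z) * k⁻¹ by group, hz2]; group,
          fun l hl1 hl2 => ?_, k * g * k⁻¹, inlEq (by rw [mul_smul, mul_smul, hk', hga, hk]),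
          fun e => hgz ?_⟩
        · have hm : k⁻¹ * l * k ∈ T G a b := mem_T.2
            ⟨by rw [mul_smul, mul_smul, hk, inlInj hl1, hk'],
             by rw [mul_smul, mul_smul, inrInj hl2, inv_smul_smul]⟩
          calc l * (k * z * k⁻¹) = k * ((k⁻¹ * l * k) * z) * k⁻¹ := by group
            _ = k * (z * (k⁻¹ * l * k)) * k⁻¹ := by rw [hzc _ hm]
            _ = k * z * k⁻¹ * l := by group
        · calc g * z = k⁻¹ * ((k * g * k⁻¹) * (k * z * k⁻¹)) * k := by group
            _ = k⁻¹ * ((k * z * k⁻¹) * (k * g * k⁻¹)) * k := by rw [e]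
            _ = z * g := by group
    have hlb : loc (.inr b) := by
      refine ⟨fun {y z} hy hz => ?_, fun {y z} hy hz hne => ?_, fun g hg hq => ?_, fun {y} hy => ?_⟩
      · obtain ⟨y, rfl, k, rfl, hk⟩ := dadj_inr.1 hy
        obtain ⟨z, rfl, l, rfl, hl⟩ := dadj_inr.1 hz
        exact ⟨l * k⁻¹, inrEq (by rw [mul_smul, inv_smul_eq_iff.2 hk.symm, hl]),
          inlEq (by rw [← mul_smul, inv_mul_cancel_right])⟩
      · obtain ⟨y, rfl, k, rfl, hk⟩ := dadj_inr.1 hy
        have hk' : k⁻¹ • b = b := inv_smul_eq_iff.2 hk.symm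
        have htb : (k * s' * k⁻¹) • b = b := by rw [mul_smul, mul_smul, hk', hs'T.2, hk]
        refine ⟨k * s' * k⁻¹, inrEq htb, inlEq (by rw [mul_smul, mul_smul, inv_smul_smul, hs'T.1]), ?_⟩
        refine hswap0 _ hy hz hne (inrEq htb)
          (inlEq (by rw [mul_smul, mul_smul, inv_smul_smul, hs'T.1])) ?_
        by_contra hno
        simp only [not_exists, not_and, not_not] at hno
        have hm : k * s' * k⁻¹ ∈ core G a b b := mem_core_in.2 ⟨htb, Hyp.inr_nbr_iff.1 hno⟩
        have := core_conj hm hk'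
        exact hs'Q (by simpa [mul_assoc] using this)
      · refine Hyp.inr_nbr_iff.2 (mem_core_in.1 ?_).2
        rw [show g = γ * (γ⁻¹ * g * γ) * γ⁻¹ by group, core_shift hγa hγT]
        refine hcent _ ((hγst' g).1 (inrInj hg)) fun q hqm => ?_
        have hq' := (core_shift hγa hγT q).2 hqm
        have e := hq _ (inrEq (mem_core_in.1 hq').1) (Hyp.inr_nbr_iff.2 (mem_core_in.1 hq').2)
        calc γ⁻¹ * g * γ * q = γ⁻¹ * (g * (γ * q * γ⁻¹)) * γ := by group
          _ = γ⁻¹ * ((γ * q * γ⁻¹) * g) * γ := by rw [e]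
          _ = q * (γ⁻¹ * g * γ) := by group
      · obtain ⟨y, rfl, k, rfl, hk⟩ := dadj_inr.1 hy
        obtain ⟨z, hzT, hz2, hzc, g, hga, hgz⟩ := hnc
        have hk' : k⁻¹ • b = b := inv_smul_eq_iff.2 hk.symm
        have hz' := (hγT z).2 hzT
        refine ⟨k * (γ * z * γ⁻¹) * k⁻¹, inrEq ?_, inlEq ?_, ?_, fun l hl1 hl2 => ?_,
          k * (γ * g * γ⁻¹) * k⁻¹, inrEq ?_, fun e => hgz ?_⟩
        · rw [mul_smul, hk', mul_smul, hz'.2, hk]
        · rw [mul_smul, inv_smul_smul, mul_smul, hz'.1]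
        · rw [show k * (γ * z * γ⁻¹) * k⁻¹ * (k * (γ * z * γ⁻¹) * k⁻¹) = k * γ * (z * z) * γ⁻¹ * k⁻¹ by group,
            hz2]
          group
        · have hm : γ⁻¹ * (k⁻¹ * l * k) * γ ∈ T G a b := by
            rw [← hγT, show γ * (γ⁻¹ * (k⁻¹ * l * k) * γ) * γ⁻¹ = k⁻¹ * l * k by group, mem_T]
            exact ⟨by rw [mul_smul, mul_smul, inlInj hl2, inv_smul_smul],
              by rw [mul_smul, mul_smul, hk, inrInj hl1, hk']⟩
          calc l * (k * (γ * z * γ⁻¹) * k⁻¹) = k * γ * ((γ⁻¹ * (k⁻¹ * l * k) * γ) * z) * γ⁻¹ * k⁻¹ := by group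
            _ = k * γ * (z * (γ⁻¹ * (k⁻¹ * l * k) * γ)) * γ⁻¹ * k⁻¹ := by rw [hzc _ hm]
            _ = k * (γ * z * γ⁻¹) * k⁻¹ * l := by group
        · rw [mul_smul, hk', mul_smul, (hγst g).2 hga, hk]
        · calc g * z = γ⁻¹ * k⁻¹ * ((k * (γ * g * γ⁻¹) * k⁻¹) * (k * (γ * z * γ⁻¹) * k⁻¹)) * k * γ := by group
            _ = γ⁻¹ * k⁻¹ * ((k * (γ * z * γ⁻¹) * k⁻¹) * (k * (γ * g * γ⁻¹) * k⁻¹)) * k * γ := by rw [e]
            _ = z * g := by group
    have hmove : ∀ (g : G) (x : Ω ⊕ Ω), loc x → loc (g • x) := by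
      intro g x hx
      obtain ⟨l1, l2, l3, l4⟩ := hx
      have hd : ∀ {y}, DAdj G a b (g • x) y → DAdj G a b x (g⁻¹ • y) := fun {y} hy => by
        have := dadj_smul g⁻¹ hy
        rwa [inv_smul_smul] at this
      have hfx : ∀ {k : G} {u : Ω ⊕ Ω}, k • u = u → (g * k * g⁻¹) • g • u = g • u := fun {k u} e => by
        rw [mul_smul, inv_smul_smul, mul_smul, e]
      refine ⟨fun {y z} hy hz => ?_, fun {y z} hy hz hne => ?_, fun k hk hq y hy => ?_, fun {y} hy => ?_⟩
      · obtain ⟨k, hk, hkyz⟩ := l1 (hd hy) (hd hz)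
        exact ⟨g * k * g⁻¹, hfx hk, by rw [mul_smul, mul_smul, hkyz, smul_inv_smul]⟩
      · obtain ⟨k, hk, hky, hkz⟩ := l2 (hd hy) (hd hz) fun e => hne (smul_left_cancel _ e)
        refine ⟨g * k * g⁻¹, hfx hk, by rw [mul_smul, mul_smul, hky, smul_inv_smul], fun e => hkz ?_⟩
        rw [mul_smul, mul_smul, ← eq_inv_smul_iff] at e
        exact e
      · have := l3 (g⁻¹ * k * g) (by rw [mul_smul, mul_smul, hk, inv_smul_smul]) (fun q hqx hqy => ?_) _ (hd hy)
        · rw [mul_smul, mul_smul, smul_inv_smul, smul_left_cancel_iff] at this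
          exact this
        · have e := hq (g * q * g⁻¹) (hfx hqx) fun u hu => by
            rw [mul_smul, mul_smul, hqy _ (hd hu), smul_inv_smul]
          calc g⁻¹ * k * g * q = g⁻¹ * (k * (g * q * g⁻¹)) * g := by group
            _ = g⁻¹ * ((g * q * g⁻¹) * k) * g := by rw [e]
            _ = q * (g⁻¹ * k * g) := by group
      · obtain ⟨z, hzx, hzy, hz2, hzc, k, hk, hkz⟩ := l4 (hd hy)
        refine ⟨g * z * g⁻¹, hfx hzx, by rw [mul_smul, mul_smul, hzy, smul_inv_smul],
          by rw [show g * z * g⁻¹ * (g * z * g⁻¹) = g * (z * z) * g⁻¹ by group, hz2]; group,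
          fun l hl1 hl2 => ?_, g * k * g⁻¹, hfx hk, fun e => hkz ?_⟩
        · have := hzc (g⁻¹ * l * g) (by rw [mul_smul, mul_smul, hl1, inv_smul_smul])
            (by rw [mul_smul, mul_smul, smul_inv_smul, hl2])
          calc l * (g * z * g⁻¹) = g * ((g⁻¹ * l * g) * z) * g⁻¹ := by group
            _ = g * (z * (g⁻¹ * l * g)) * g⁻¹ := by rw [this]
            _ = g * z * g⁻¹ * l := by group
        · calc k * z = g⁻¹ * ((g * k * g⁻¹) * (g * z * g⁻¹)) * g := by group
            _ = g⁻¹ * ((g * z * g⁻¹) * (g * k * g⁻¹)) * g := by rw [e]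
            _ = z * k := by group
    have hloc : ∀ x, loc x := fun x => by
      obtain ⟨g, rfl | rfl⟩ := h.vertex x
      exacts [hmove g _ hla, hmove g _ hlb]
    let D : CfsgLib.S3Amalgam.Am G (Ω ⊕ Ω) :=
      { Adj := DAdj G a b
        symm := dadj_symm
        equiv := fun g {x y} hxy => dadj_smul g hxy
        fin := fun x => inferInstance
        nbr := h.three_nbr
        trans := fun {x y z} hy hz => (hloc x).1 hy hz
        swap := fun {x y z} hy hz hne => (hloc x).2.1 hy hz hne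
        edge := by
          intro x y u v hxy huv
          have key : ∀ {x y : Ω ⊕ Ω}, DAdj G a b x y →
              ∃ g : G, (g • (Sum.inl a : Ω ⊕ Ω) = x ∧ g • (Sum.inr b : Ω ⊕ Ω) = y) ∨
                (g • (Sum.inl a : Ω ⊕ Ω) = y ∧ g • (Sum.inr b : Ω ⊕ Ω) = x) := by
            rintro (x | x) (y | y) hh
            · exact hh.elim
            · obtain ⟨g, rfl, rfl⟩ := hh; exact ⟨g, Or.inl ⟨rfl, rfl⟩⟩
            · obtain ⟨g, rfl, rfl⟩ := hh; exact ⟨g, Or.inr ⟨rfl, rfl⟩⟩
            · exact hh.elim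
          obtain ⟨g, hg⟩ := key hxy
          obtain ⟨k, hk⟩ := key huv
          refine ⟨k * g⁻¹, ?_⟩
          rcases hg with ⟨rfl, rfl⟩ | ⟨rfl, rfl⟩ <;> rcases hk with ⟨h1, h2⟩ | ⟨h1, h2⟩ <;>
            simp [mul_smul, h1, h2, -Sum.smul_inl, -Sum.smul_inr]
        gen := by
          intro x y hxy
          have hi : stabilizer G (Sum.inl a : Ω ⊕ Ω) = stabilizer G a := by ext g; simp
          have hj : stabilizer G (Sum.inr b : Ω ⊕ Ω) = stabilizer G b := by ext g; simp
          have key : ∀ g : G, stabilizer G (g • (Sum.inl a : Ω ⊕ Ω)) ⊔ stabilizer G (g • (Sum.inr b : Ω ⊕ Ω)) = ⊤ := by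
            intro g
            rw [stabilizer_smul_eq_stabilizer_map_conj, stabilizer_smul_eq_stabilizer_map_conj,
              ← Subgroup.map_sup, hi, hj, h.gen]
            exact Subgroup.map_top_of_surjective _ (MulAut.conj g).surjective
          rcases x with x | x <;> rcases y with y | y
          · exact hxy.elim
          · obtain ⟨g, rfl, rfl⟩ := hxy; exact key g
          · obtain ⟨g, rfl, rfl⟩ := hxy; rw [sup_comm]; exact key g
          · exact hxy.elim
        faith := fun g hg => by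
          haveI := h.faith
          exact FaithfulSMul.eq_of_smul_eq_smul (α := Ω) fun x => by rw [one_smul]; exact Sum.inl.inj (hg (.inl x))
        cent := fun x g hg hq => (hloc x).2.2.1 g hg hq
        nc := fun {x y} hxy => (hloc x).2.2.2 hxy }
    obtain ⟨hsq, hcomm, hcard, -, w, hwx, hwQ, hw2⟩ :=
      D.vertex_shape (x := .inl a) (y := .inr b) (arc_base G a b)
    have hQeq : ∀ g : G, g ∈ D.Q (.inl a) ↔ g ∈ core G a b a := fun g => by
      rw [mem_core_out]
      exact and_congr ⟨Sum.inl.inj, congrArg Sum.inl⟩ Hyp.inl_nbr_iff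
    have hQeq' : D.Q (.inl a) = core G a b a := Subgroup.ext hQeq
    have hQc : Nat.card ((core G a b a).subgroupOf (stabilizer G a)) = Nat.card (core G a b a) :=
      Nat.card_congr (Subgroup.subgroupOfEquivOfLe (core_le.trans hTa)).toEquiv
    rw [hQeq'] at hcard hsq hcomm hwQ
    have hmain := CfsgLib.S3Amalgam.shape ((core G a b a).subgroupOf (stabilizer G a)) φ hsurj hker
      (fun q hq => Subtype.ext (hsq q hq)) (fun q hq r hr => Subtype.ext (hcomm q hq r hr))
      (fun g hg => hcent g g.2 fun q hq => congrArg Subtype.val (hg ⟨q, hTa (core_le hq)⟩ hq))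
      (by
        rw [hQc]
        refine hcard.imp_right fun ⟨e, c, hc, hc1, hcc⟩ => ⟨e, ⟨c, hTa (core_le hc)⟩, hc,
          fun e => hc1 (congrArg Subtype.val e), fun g => Subtype.ext (hcc g (congrArg Sum.inl g.2))⟩)
      (w := ⟨w, Sum.inl.inj hwx⟩) hwQ (Subtype.ext hw2)
    rcases hcard with e | ⟨e, -⟩
    · exact Or.inr (Or.inr (Or.inr (Or.inl (hmain.1 (by rw [hQc]; exact e)))))
    · obtain ⟨i⟩ := hmain.2 (by rw [hQc]; exact e)
      exact Or.inr (Or.inr (Or.inr (Or.inr ⟨i.trans MulEquiv.prodComm⟩)))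
  · -- centralised kernel
    simp only [not_forall] at hcent
    obtain ⟨g₀, hg₀a, hg₀c, hg₀Q⟩ := hcent
    obtain ⟨g, hga, hgc, hgT⟩ : ∃ g : G, g • a = a ∧ (∀ q ∈ core G a b a, g * q = q * g) ∧ g ∉ T G a b := by
      by_contra hno
      simp only [not_exists, not_and, not_not] at hno
      refine hg₀Q ⟨hg₀a, fun k hk => hno _ (by
        rw [mul_smul, mul_smul, inv_smul_eq_iff.2 hk.symm, hg₀a, hk]) fun q hq => ?_⟩
      have hk' : k⁻¹ • a = a := inv_smul_eq_iff.2 hk.symm
      have := hg₀c _ (core_conj hq hk')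
      rw [inv_inv] at this
      calc k * g₀ * k⁻¹ * q = k * (g₀ * (k⁻¹ * q * k)) * k⁻¹ := by group
        _ = k * ((k⁻¹ * q * k) * g₀) * k⁻¹ := by rw [this]
        _ = q * (k * g₀ * k⁻¹) := by group
    set N := core G a b a ⊓ core G a b b with hNdef
    have hNT : ∀ k ∈ T G a b, ∀ n ∈ N, k * n * k⁻¹ ∈ N := fun k hk n hn =>
      ⟨core_conj hn.1 hk.1, core_conj hn.2 hk.2⟩
    have hgN : ∀ n ∈ N, g * n * g⁻¹ = n := fun n hn => by rw [hgc n hn.1, mul_inv_cancel_right]
    have hN : N = ⊥ := by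
      have hA : stabilizer G a ≤ Subgroup.normalizer (N : Set G) := by
        refine hmax _ (fun k hk => ?_) g ?_ hga hgT <;> rw [Subgroup.mem_normalizer_iff]
        · refine fun n => ⟨fun hn => hNT k hk n hn, fun hn => ?_⟩
          simpa [mul_assoc] using hNT k⁻¹ (inv_mem hk) _ hn
        · refine fun n => ⟨fun hn => (hgN n hn).symm ▸ hn, fun hn => ?_⟩
          have e := hgN _ hn
          have : g * n * g⁻¹ = n := by
            have e2 : g * (g * n * g⁻¹) = g * n * g⁻¹ * g := mul_inv_eq_iff_eq_mul.1 e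
            simpa [mul_assoc] using e2
          rwa [this] at hn
      have hB : stabilizer G b ≤ Subgroup.normalizer (N : Set G) := by
        intro k hk
        have hk' : γ⁻¹ * k * γ ∈ stabilizer G a := (hγst' k).1 hk
        have hmem : γ⁻¹ * k * γ ∈ (Subgroup.normalizer (N : Set G)).comap (MulAut.conj γ).toMonoidHom := by
          refine hmax _ (fun t ht => ?_) g ?_ hga hgT hk'
          · rw [Subgroup.mem_comap, Subgroup.mem_normalizer_iff]
            have ht' : γ * t * γ⁻¹ ∈ T G a b := (hγT t).2 ht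
            refine fun n => ⟨fun hn => hNT _ ht' n hn, fun hn => ?_⟩
            simpa [mul_assoc] using hNT _ (inv_mem ht') _ hn
          · rw [Subgroup.mem_comap, Subgroup.mem_normalizer_iff]
            have hfix : ∀ n ∈ N, γ * g * γ⁻¹ * n * (γ * g * γ⁻¹)⁻¹ = n := by
              intro n hn
              have hn' : γ⁻¹ * n * γ ∈ core G a b a := by
                rw [← core_shift hγa hγT, show γ * (γ⁻¹ * n * γ) * γ⁻¹ = n by group]; exact hn.2
              calc γ * g * γ⁻¹ * n * (γ * g * γ⁻¹)⁻¹ = γ * (g * (γ⁻¹ * n * γ) * g⁻¹) * γ⁻¹ := by group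
                _ = γ * (γ⁻¹ * n * γ) * γ⁻¹ := by rw [hgc _ hn', mul_inv_cancel_right]
                _ = n := by group
            intro n
            simp only [MulEquiv.coe_toMonoidHom, MulAut.conj_apply]
            refine ⟨fun hn => (hfix n hn).symm ▸ hn, fun hn => ?_⟩
            have e := hfix _ hn
            generalize γ * g * γ⁻¹ = u at e hn ⊢
            have : u * n * u⁻¹ = n := by
              have e2 : u * (u * n * u⁻¹) = u * n * u⁻¹ * u := mul_inv_eq_iff_eq_mul.1 e
              simpa [mul_assoc] using e2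
            rwa [this] at hn
        rw [Subgroup.mem_comap] at hmem
        simpa [mul_assoc] using hmem
      exact h.eq_bot (inf_le_left.trans core_le)
        (fun k hk n hn => (Subgroup.mem_normalizer_iff.1 (hA hk) n).1 hn)
        (fun k hk n hn => (Subgroup.mem_normalizer_iff.1 (hB hk) n).1 hn)
    have hNmem : ∀ x ∈ core G a b a, x ∈ core G a b b → x = 1 := fun x hx hx' =>
      Subgroup.mem_bot.1 (hN ▸ (⟨hx, hx'⟩ : x ∈ N))
    -- the core has order at most two
    have hQb : ∀ {x y : G}, x ∈ T G a b → y ∈ T G a b → x ∉ core G a b b → y ∉ core G a b b →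
        x * y ∈ core G a b b := by
      intro x y hx hy hxQ hyQ
      have hx' : γ⁻¹ * x * γ ∈ T G a b := by rw [← hγT, show γ * (γ⁻¹ * x * γ) * γ⁻¹ = x by group]; exact hx
      have hy' : γ⁻¹ * y * γ ∈ T G a b := by rw [← hγT, show γ * (γ⁻¹ * y * γ) * γ⁻¹ = y by group]; exact hy
      have := (core_shift hγa hγT _).2 (htwo hx' hy'
        (fun hm => hxQ (by have := (core_shift hγa hγT _).2 hm; rwa [show γ * (γ⁻¹ * x * γ) * γ⁻¹ = x by group] at this))
        (fun hm => hyQ (by have := (core_shift hγa hγT _).2 hm; rwa [show γ * (γ⁻¹ * y * γ) * γ⁻¹ = y by group] at this)))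
      rwa [show γ * (γ⁻¹ * x * γ * (γ⁻¹ * y * γ)) * γ⁻¹ = x * y by group] at this
    by_cases hQ1 : core G a b a = ⊥
    · refine Or.inr (Or.inl ⟨MulEquiv.ofBijective φ ⟨?_, hsurj⟩⟩)
      rw [← MonoidHom.ker_eq_bot_iff, hker, hQ1, Subgroup.bot_subgroupOf]
    · obtain ⟨q, hq, hq1⟩ := (Subgroup.bot_or_exists_ne_one (core G a b a)).resolve_left hQ1
      have hqb : q ∉ core G a b b := fun hm => hq1 (hNmem q hq hm)
      have hall : ∀ x ∈ core G a b a, x ≠ 1 → x = q := by
        intro x hx hx1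
        have hxb : x⁻¹ ∉ core G a b b := fun hm => hx1 (inv_eq_one.1 (hNmem _ (inv_mem hx) hm))
        have := hNmem _ (mul_mem (inv_mem hx) hq) (hQb (core_le (inv_mem hx)) (core_le hq) hxb hqb)
        exact inv_mul_eq_one.1 this
      have hQc2 : Nat.card (core G a b a) = 2 := by
        refine le_antisymm ?_ (Finite.one_lt_card_iff_nontrivial.2 ⟨⟨⟨q, hq⟩, 1, fun e => hq1 (congrArg Subtype.val e)⟩⟩)
        have hinj : Function.Injective (fun x : core G a b a => decide (x = 1)) := by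
          intro x y hxy
          by_cases hx1 : x = 1
          · simp only [hx1, decide_true, eq_comm (a := true), decide_eq_true_eq] at hxy
            rw [hx1, hxy]
          · simp only [decide_eq_decide] at hxy
            exact Subtype.ext ((hall x x.2 fun e => hx1 (Subtype.ext e)).trans
              (hall y y.2 fun e => hx1 (hxy.2 (Subtype.ext e))).symm)
        refine (Nat.card_le_card_of_injective _ hinj).trans ?_
        rw [Nat.card_eq_fintype_card, Fintype.card_bool]
      have h12 : Nat.card (stabilizer G a) = 12 := by rw [hca, hT2, hQc2]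
      have hqq : q * q = 1 := by
        by_contra hne
        exact hq1 (mul_eq_left.1 (hall _ (mul_mem hq hq) hne))
      set q' := γ * q * γ⁻¹ with hq'
      have hq'b : q' ∈ core G a b b := (core_shift hγa hγT q).2 hq
      have hq'T : q' ∈ T G a b := core_le hq'b
      have hq'1 : q' ≠ 1 := fun e => hq1 (by rwa [hq', mul_inv_eq_one, mul_eq_left] at e)
      have hq'Q : q' ∉ core G a b a := fun hm => hq'1 (hNmem _ hm hq'b)
      have hq'2 : q' * q' = 1 := by rw [hq', show γ * q * γ⁻¹ * (γ * q * γ⁻¹) = γ * (q * q) * γ⁻¹ by group, hqq]; group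
      have hconjq : ∀ k : G, k • a = a → k * q = q * k := by
        intro k hk
        have := hall _ (core_conj hq hk) (fun e => hq1 (by rwa [mul_inv_eq_one, mul_eq_left] at e))
        exact mul_inv_eq_iff_eq_mul.1 this
      -- an element of order three
      obtain ⟨d, hd⟩ := exists_prime_orderOf_dvd_card' (G := stabilizer G a) 3 (by rw [h12]; norm_num)
      have hd3 : d ^ 3 = 1 := hd ▸ pow_orderOf_eq_one d
      set qs : stabilizer G a := ⟨q, hTa (core_le hq)⟩
      set ts : stabilizer G a := ⟨q', hTa hq'T⟩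
      have hqs2 : qs ^ 2 = 1 := by rw [sq]; exact Subtype.ext hqq
      have hcm : Commute d qs := Subtype.ext (hconjq d d.2)
      have hφd : φ d ≠ 1 := by
        intro e
        have hm : (d : G) ∈ core G a b a := Subgroup.mem_subgroupOf.1 (hker ▸ MonoidHom.mem_ker.2 e)
        by_cases hd1 : (d : G) = 1
        · rw [show d = 1 from Subtype.ext hd1, orderOf_one] at hd
          omega
        · have : d * d = 1 := Subtype.ext (by rw [Subgroup.coe_mul, hall _ hm hd1, hqq]; rfl)
          rw [← sq] at this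
          have := orderOf_le_of_pow_eq_one two_pos this
          omega
      have hφt : φ ts ≠ 1 := fun e => hq'Q (Subgroup.mem_subgroupOf.1 (hker ▸ MonoidHom.mem_ker.2 e))
      have hts2 : ts * ts = 1 := Subtype.ext hq'2
      have hflip : φ ts * φ d * φ ts = φ d * φ d :=
        (CfsgLib.S3Amalgam.perm_three_facts (φ d) (φ ts) (by rw [← map_mul, ← map_mul, ← sq, ← pow_succ, hd3, map_one])
          hφd (by rw [← map_mul, hts2, map_one]) hφt).1
      have hinv : ts * d * ts = d⁻¹ := by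
        have hm : ts * d * ts * d ∈ φ.ker := by
          rw [MonoidHom.mem_ker, map_mul, map_mul, map_mul, hflip, ← map_mul, ← map_mul, ← sq, ← pow_succ, hd3, map_one]
        rw [hker, Subgroup.mem_subgroupOf] at hm
        by_cases he : ts * d * ts * d = 1
        · exact eq_inv_of_mul_eq_one_left he
        · exfalso
          have heq : ts * d * ts * d = qs := Subtype.ext (hall _ hm fun e => he (Subtype.ext e))
          have h1 : ts * d * ts = qs * d⁻¹ := eq_mul_inv_of_mul_eq heq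
          have h2 : (ts * d * ts) ^ 3 = 1 := by
            rw [show ts * d * ts = ts * d * ts⁻¹ by rw [inv_eq_of_mul_eq_one_left hts2], conj_pow, hd3,
              mul_one, mul_inv_cancel]
          rw [h1, hcm.symm.inv_right.mul_pow, inv_pow, hd3, inv_one, mul_one, pow_succ, hqs2, one_mul] at h2
          exact hq1 (congrArg Subtype.val h2)
      have hc6 : orderOf (d * qs) = 6 := by
        rw [hcm.orderOf_mul_eq_mul_orderOf_of_coprime] <;>
          rw [hd, orderOf_eq_prime hqs2 fun e => hq1 (congrArg Subtype.val e)]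
        norm_num
      refine Or.inr (Or.inr (Or.inl (CfsgLib.DihedralShape.equiv_dihedral hc6 h12 hts2 ?_ ?_)))
      · intro hm
        obtain ⟨i, hi⟩ := hm
        have hcd : Commute (d * qs) d := (Commute.refl d).mul_left hcm.symm
        have h1 : ts * d = d * ts := hi ▸ (hcd.zpow_left i).eq
        have h2 : d⁻¹ = d := by rw [← hinv, h1, mul_assoc, hts2, mul_one]
        have : d ^ 2 = 1 := by rw [sq]; exact (eq_inv_iff_mul_eq_one.1 h2.symm)
        have := orderOf_le_of_pow_eq_one two_pos this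
        omega
      · rw [inv_eq_of_mul_eq_one_left hts2, mul_inv_rev, show qs⁻¹ = qs from inv_eq_of_mul_eq_one_left
          (by rw [← sq]; exact hqs2)]
        have hqt : ts * qs = qs * ts := Subtype.ext (hconjq q' hq'T.1)
        calc ts * (d * qs) * ts = ts * d * (qs * ts) := by group
          _ = ts * d * (ts * qs) := by rw [hqt]
          _ = (ts * d * ts) * qs := by group
          _ = d⁻¹ * qs := by rw [hinv]
          _ = qs * d⁻¹ := hcm.inv_left.eq

theorem Shape.card {P : Type*} [Group P] (h : Shape P) : ∃ k ≤ 4, Nat.card P = 2 ^ k * 3 := by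
  rcases h with ⟨⟨e⟩⟩ | ⟨⟨e⟩⟩ | ⟨⟨e⟩⟩ | ⟨⟨e⟩⟩ | ⟨⟨e⟩⟩
  · exact ⟨0, by norm_num, by rw [Nat.card_congr (e.toEquiv.trans Multiplicative.toAdd), Nat.card_zmod]; rfl⟩
  · exact ⟨1, by norm_num, by rw [Nat.card_congr e.toEquiv, Nat.card_perm, Nat.card_fin]; rfl⟩
  · exact ⟨2, by norm_num, by rw [Nat.card_congr e.toEquiv, DihedralGroup.nat_card]; rfl⟩
  · exact ⟨3, by norm_num, by rw [Nat.card_congr e.toEquiv, Nat.card_perm, Nat.card_fin]; rfl⟩
  · exact ⟨4, le_rfl, by
      rw [Nat.card_congr e.toEquiv, Nat.card_prod, Nat.card_perm, Nat.card_fin,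
        Nat.card_congr Multiplicative.toAdd, Nat.card_zmod]
      rfl⟩

theorem hyp_of_primitive [Finite G] [FaithfulSMul G Ω] (hprim : IsPreprimitive G Ω)
    (h3 : Nat.card (orbit (stabilizer G a) b) = 3) : Hyp G a b := by
  haveI := hprim
  have hne : a ≠ b := by
    rintro rfl
    have : orbit (stabilizer G a) a = {a} := by
      ext x
      exact ⟨fun ⟨g, hg⟩ => hg ▸ g.2, fun hx => by rw [Set.mem_singleton_iff] at hx; rw [hx]; exact mem_orbit_self _⟩
    rw [Nat.card_coe_set_eq, this, Set.ncard_singleton] at h3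
    omega
  haveI : Nontrivial Ω := ⟨a, b, hne⟩
  refine ⟨inferInstance, inferInstance, ?_, inferInstance, h3⟩
  have hco := IsPreprimitive.isCoatom_stabilizer_of_isPreprimitive G a
  rcases hco.le_iff.1 (le_sup_left : stabilizer G a ≤ stabilizer G a ⊔ stabilizer G b) with e | e
  · exact e
  · exfalso
    have hle : stabilizer G b ≤ stabilizer G a := by rw [← e]; exact le_sup_right
    obtain ⟨g, hg⟩ := exists_smul_eq G a b
    have hcard : Nat.card (stabilizer G b) = Nat.card (stabilizer G a) := by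
      rw [← hg, stabilizer_smul_eq_stabilizer_map_conj]
      exact Nat.card_congr (Subgroup.equivMapOfInjective _ _ (MulAut.conj g).injective).toEquiv.symm
    have heq := Subgroup.eq_of_le_of_card_ge hle hcard.ge
    have : orbit (stabilizer G a) b = {b} := by
      ext x
      exact ⟨fun ⟨k, hk⟩ => hk ▸ heq.ge k.2, fun hx => by rw [Set.mem_singleton_iff] at hx; rw [hx]; exact mem_orbit_self _⟩
    rw [Nat.card_coe_set_eq, this, Set.ncard_singleton] at h3
    omega

end CfsgLib.SuborbitThree
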