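import Mathlib
import Cfsg.Prelude.Def_SylowChains
import Cfsg.Agent.Lib.StrongFusion.Chain
import Cfsg.Agent.Lib.Local

/-!
Chains of Sylow subgroups through members of a family, for the statements on control of Sylow intersections.
-/

set_option autoImplicit false
set_option linter.unusedVariables false

namespace CfsgLib.SylowChains

open Cfsg

variable {G : Type*} [Group G] {p : ℕ}

/-- `R` is a Sylow `p`-subgroup of the subgroup `M`, seen in the ambient group. -/
def SylIn (p : ℕ) (R M : Subgroup G) : Prop := ∃ P : Sylow p ↥M, (P : Subgroup ↥M).map M.subtype = R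

theorem SylIn.le {R M : Subgroup G} (h : SylIn p R M) : R ≤ M := by
  obtain ⟨P, rfl⟩ := h
  exact Subgroup.map_subtype_le _

theorem SylIn.isPGroup {R M : Subgroup G} (h : SylIn p R M) : IsPGroup p ↥R := by
  obtain ⟨P, rfl⟩ := h
  exact P.2.map _

theorem SylIn.card [Finite G] [Fact p.Prime] {R M : Subgroup G} (h : SylIn p R M) :
    Nat.card ↥R = p ^ (Nat.card ↥M).factorization p := by
  obtain ⟨P, rfl⟩ := h
  rw [Subgroup.card_map_of_injective M.subtype_injective]
  exact P.card_eq_multiplicity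

theorem SylIn.eq_of_le [Finite G] [Fact p.Prime] {R M T : Subgroup G} (h : SylIn p R M) (hT : IsPGroup p ↥T)
    (hTM : T ≤ M) (hRT : R ≤ T) : R = T := by
  obtain ⟨P, rfl⟩ := h
  have e : T.subgroupOf M = P := P.is_maximal' (hT.of_equiv (Subgroup.subgroupOfEquivOfLe hTM).symm)
    fun x hx => hRT ⟨x, hx, rfl⟩
  rw [← e, Subgroup.map_subgroupOf_eq_of_le hTM]

theorem exists_sylIn_ge [Finite G] [Fact p.Prime] {A M : Subgroup G} (hA : IsPGroup p ↥A) (hAM : A ≤ M) :
    ∃ R, SylIn p R M ∧ A ≤ R := by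
  obtain ⟨P, hP⟩ := (hA.of_equiv (Subgroup.subgroupOfEquivOfLe hAM).symm : IsPGroup p ↥(A.subgroupOf M)).exists_le_sylow
  exact ⟨_, ⟨P, rfl⟩, fun a ha => ⟨⟨a, hAM ha⟩, hP ha, rfl⟩⟩

theorem card_le_sylIn [Finite G] [Fact p.Prime] {A M R : Subgroup G} (hA : IsPGroup p ↥A) (hAM : A ≤ M)
    (hR : SylIn p R M) : Nat.card ↥A ≤ Nat.card ↥R := by
  obtain ⟨R', hR', hle⟩ := exists_sylIn_ge hA hAM
  rw [hR.card, ← hR'.card]
  exact Subgroup.card_le_of_le hle

theorem sylIn_of_card [Finite G] [Fact p.Prime] {A M R : Subgroup G} (hA : IsPGroup p ↥A) (hAM : A ≤ M)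
    (hR : SylIn p R M) (h : Nat.card ↥R ≤ Nat.card ↥A) : SylIn p A M := by
  obtain ⟨R', hR', hle⟩ := exists_sylIn_ge hA hAM
  have e : A = R' := Subgroup.eq_of_le_of_card_ge hle (by rw [hR'.card, ← hR.card]; exact h)
  rwa [e]

/-- A Sylow subgroup above a Sylow subgroup of `M` meets `M` in it. -/
theorem SylIn.inf_eq [Finite G] [Fact p.Prime] {R M : Subgroup G} (h : SylIn p R M) (S : Sylow p G)
    (hRS : R ≤ (S : Subgroup G)) : (S : Subgroup G) ⊓ M = R :=
  (h.eq_of_le (S.2.to_le inf_le_left) inf_le_right (le_inf hRS h.le)).symm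

theorem sylIn_inf_of_le (S : Sylow p G) {M : Subgroup G} (h : (S : Subgroup G) ≤ M) :
    SylIn p ((S : Subgroup G) ⊓ M) M :=
  ⟨S.subtype h, by rw [Sylow.coe_subtype, Subgroup.map_subgroupOf_eq_of_le h, inf_eq_left.mpr h]⟩

/-- One link of a chain, keeping `D` inside. -/
def Step (p : ℕ) (fam : Set (Subgroup G)) (D : Subgroup G) (A B : Sylow p G) : Prop :=
  ∃ (X : Subgroup G) (x : G), X ∈ sylowMembers p fam (A : Subgroup G) ∧ X ∈ sylowMembers p fam (B : Subgroup G) ∧
    x ∈ X ∧ subgroupConjRight x (B : Subgroup G) = (A : Subgroup G) ∧ D ≤ (B : Subgroup G) ⊓ X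

/-- Connectedness by chains keeping `D` inside. -/
abbrev Conn (p : ℕ) (fam : Set (Subgroup G)) (D : Subgroup G) : Sylow p G → Sylow p G → Prop :=
  Relation.ReflTransGen (Step p fam D)

theorem Conn.mono {fam : Set (Subgroup G)} {D D' : Subgroup G} (hD : D ≤ D') {A B : Sylow p G}
    (h : Conn p fam D' A B) : Conn p fam D A B :=
  by
  induction h with
  | refl => exact Relation.ReflTransGen.refl
  | tail _ hab ih =>
    obtain ⟨X, x, h1, h2, h3, h4, h5⟩ := hab
    exact ih.tail ⟨X, x, h1, h2, h3, h4, hD.trans h5⟩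

theorem controls_of_conn {fam : Set (Subgroup G)}
    (h : ∀ S T : Sylow p G, (S : Subgroup G) ⊓ (T : Subgroup G) ≠ ⊥ →
      Conn p fam ((S : Subgroup G) ⊓ (T : Subgroup G)) S T) :
    ControlsSylowIntersections p fam := by
  intro S T _ hD
  have key : ∀ A B : Sylow p G, Conn p fam ((S : Subgroup G) ⊓ (T : Subgroup G)) A B →
      ∃ (n : ℕ) (c : Fin (n + 1) → Sylow p G) (X : Fin n → Subgroup G) (x : Fin n → G),
        c 0 = A ∧ c (Fin.last n) = B ∧ ∀ i : Fin n,
          X i ∈ sylowMembers p fam (c i.castSucc : Subgroup G) ∧ X i ∈ sylowMembers p fam (c i.succ : Subgroup G) ∧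
          x i ∈ X i ∧ subgroupConjRight (x i) (c i.succ : Subgroup G) = (c i.castSucc : Subgroup G) ∧
          (S : Subgroup G) ⊓ (T : Subgroup G) ≤ (c i.succ : Subgroup G) ⊓ X i := by
    intro A B hAB
    induction hAB using Relation.ReflTransGen.head_induction_on with
    | refl => exact ⟨0, fun _ => B, Fin.elim0, Fin.elim0, rfl, rfl, fun i => i.elim0⟩
    | @head a b hab _ ih =>
      obtain ⟨n, c, X, x, h0, hn, hs⟩ := ih
      obtain ⟨Y, y, h1, h2, h3, h4, h5⟩ := hab
      refine ⟨n + 1, Fin.cons a c, Fin.cons Y X, Fin.cons y x, by simp, ?_, fun i => ?_⟩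
      · rw [← Fin.succ_last, Fin.cons_succ]; exact hn
      · induction i using Fin.cases with
        | zero =>
          simp only [Fin.cons_zero, Fin.cons_succ, Fin.castSucc_zero]
          rw [h0]
          exact ⟨h1, h2, h3, h4, h5⟩
        | succ j =>
          simp only [← Fin.succ_castSucc, Fin.cons_succ]
          exact hs j
  exact key S T (h S T hD)

/-- One link inside a regular subgroup `M`. -/
def StepIn (p : ℕ) (f : Subgroup G → Set (Subgroup G)) (D M A B : Subgroup G) : Prop :=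
  SylIn p A M ∧ SylIn p B M ∧ D ≤ A ∧ D ≤ B ∧ ∃ (P F : Subgroup G) (x : G), SylIn p P M ∧ F ∈ f P ∧
    A ≤ Subgroup.normalizer (F : Set G) ∧ B ≤ Subgroup.normalizer (F : Set G) ∧
    x ∈ Subgroup.normalizer (F : Set G) ∧ B.map (MulAut.conj x⁻¹).toMonoidHom = A

theorem member_of_sylowMembers [Finite G] [Fact p.Prime] {M X : Subgroup G} {fam : Set (Subgroup ↥M)} {P : Sylow p ↥M}
    (hPX : (P : Subgroup ↥M) ≤ X.subgroupOf M) {c : Sylow p ↥M}
    (h : X.subgroupOf M ∈ sylowMembers p fam (c : Subgroup ↥M)) :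
    (c : Subgroup ↥M).map M.subtype ≤ X := by
  obtain ⟨-, Q, hQ⟩ := h
  have h1 : Nat.card ↥(c : Subgroup ↥M) ≤ Nat.card ↥((c : Subgroup ↥M) ⊓ X.subgroupOf M : Subgroup ↥M) := by
    rw [← hQ, Subgroup.card_map_of_injective (Subgroup.subtype_injective _)]
    exact le_of_eq ((c.card_eq_multiplicity.trans P.card_eq_multiplicity.symm).trans
      ((Nat.card_congr (Subgroup.subgroupOfEquivOfLe hPX).toEquiv).symm.trans
        ((P.subtype hPX).card_eq_multiplicity.trans Q.card_eq_multiplicity.symm)))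
  have e := Subgroup.eq_of_le_of_card_ge inf_le_left h1
  rintro _ ⟨z, hz, rfl⟩
  rw [SetLike.mem_coe, ← e] at hz
  exact Subgroup.mem_subgroupOf.mp hz.2

theorem stepIn_of_regular [Finite G] [Fact p.Prime] {f : Subgroup G → Set (Subgroup G)}
    (hf : IsNormalizerFunctor p f) {M : Subgroup G} (hM : IsFunctorRegular p f M) {D R R' : Subgroup G}
    (hR : SylIn p R M) (hR' : SylIn p R' M) (hD : D ≠ ⊥) (hDR : D ≤ R) (hDR' : D ≤ R') :
    Relation.ReflTransGen (StepIn p f D M) R R' := by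
  obtain ⟨S, rfl⟩ := hR
  obtain ⟨T, rfl⟩ := hR'
  by_cases hST : S = T
  · rw [hST]
  have hne : (S : Subgroup ↥M) ⊓ (T : Subgroup ↥M) ≠ ⊥ := by
    intro h
    refine hD (le_bot_iff.mp ?_)
    have h1 := le_inf hDR hDR'
    rwa [← Subgroup.map_inf _ _ _ M.subtype_injective, h, Subgroup.map_bot] at h1
  obtain ⟨n, c, X, x, h0, hn, hs⟩ := hM S T hST hne
  have hD' : D ≤ ((S : Subgroup ↥M) ⊓ (T : Subgroup ↥M)).map M.subtype := by
    rw [Subgroup.map_inf _ _ _ M.subtype_injective]; exact le_inf hDR hDR'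
  have hDc : ∀ i : Fin (n + 1), D ≤ (c i : Subgroup ↥M).map M.subtype := by
    intro i
    induction i using Fin.cases with
    | zero => rw [h0]; exact hDR
    | succ j => exact hD'.trans (Subgroup.map_mono ((hs j).2.2.2.2.trans inf_le_left))
  have hstep : ∀ i : Fin n, StepIn p f D M ((c i.castSucc : Subgroup ↥M).map M.subtype)
      ((c i.succ : Subgroup ↥M).map M.subtype) := by
    intro i
    obtain ⟨hA, hB, hx, hc, -⟩ := hs i
    obtain ⟨Y, ⟨P, F, hF, rfl⟩, hY⟩ := hA.1
    dsimp only at hY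
    rw [← hY] at hA hB hx
    have hPF : (P : Subgroup ↥M) ≤ (M ⊓ Subgroup.normalizer (F : Set G)).subgroupOf M := fun z hz =>
      Subgroup.mem_subgroupOf.mpr ⟨z.2, ((hf _ (P.2.map _)).1 F hF).2 (Subgroup.le_normalizer ⟨z, hz, rfl⟩)⟩
    refine ⟨⟨_, rfl⟩, ⟨_, rfl⟩, hDc _, hDc _, _, F, (x i : G), ⟨P, rfl⟩, hF,
      (member_of_sylowMembers hPF hA).trans inf_le_right, (member_of_sylowMembers hPF hB).trans inf_le_right,
      (Subgroup.mem_subgroupOf.mp hx).2, ?_⟩
    rw [← hc, Cfsg.subgroupConjRight, Subgroup.map_map, Subgroup.map_map]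
    congr 1
  have : ∀ i : ℕ, ∀ h : i < n + 1, Relation.ReflTransGen (StepIn p f D M) ((S : Subgroup ↥M).map M.subtype)
      ((c ⟨i, h⟩ : Subgroup ↥M).map M.subtype) := by
    intro i
    induction i with
    | zero => intro h; rw [show (⟨0, h⟩ : Fin (n + 1)) = 0 from rfl, h0]
    | succ j ih => intro h; exact (ih (Nat.lt_of_succ_lt h)).tail (hstep ⟨j, Nat.lt_of_succ_lt_succ h⟩)
  rw [← hn]
  exact this n (Nat.lt_succ_self n)

/-- A link in a subgroup holding a Sylow subgroup of `G` is a link for the family of `G`. -/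
theorem step_of_stepIn [Finite G] [Fact p.Prime] {f : Subgroup G → Set (Subgroup G)}
    {fam : Set (Subgroup G)} (hfam : functorFamily p f ⊤ ⊆ fam) {D M A B : Subgroup G}
    (h : StepIn p f D M A B) {U : Sylow p G} (hU : SylIn p (U : Subgroup G) M) (SA SB : Sylow p G)
    (hA : A ≤ (SA : Subgroup G)) (hB : B ≤ (SB : Subgroup G)) : Step p fam D SA SB := by
  obtain ⟨hAM, hBM, hDA, hDB, P, F, x, hP, hF, hAF, hBF, hx, hxB⟩ := h
  have key : ∀ (C : Subgroup G) (S : Sylow p G), SylIn p C M → C ≤ (S : Subgroup G) → C = S := fun C S hC hle =>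
    Subgroup.eq_of_le_of_card_ge hle (le_of_eq (by
      rw [hC.card, ← hU.card, S.card_eq_multiplicity, U.card_eq_multiplicity]))
  have eA := key A SA hAM hA
  have eB := key B SB hBM hB
  subst eA eB
  obtain ⟨SP, hSP⟩ := hP.isPGroup.exists_le_sylow
  have eP := key P SP hP hSP
  have hmem : ⊤ ⊓ Subgroup.normalizer (F : Set G) ∈ fam := hfam ⟨SP.subtype le_top, F, by
    rw [Sylow.coe_subtype, Subgroup.map_subgroupOf_eq_of_le le_top, ← eP]; exact hF, rfl⟩
  have hSAF : (SA : Subgroup G) ≤ ⊤ ⊓ Subgroup.normalizer (F : Set G) := le_inf le_top hAF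
  have hSBF : (SB : Subgroup G) ≤ ⊤ ⊓ Subgroup.normalizer (F : Set G) := le_inf le_top hBF
  exact ⟨⊤ ⊓ Subgroup.normalizer (F : Set G), x, ⟨hmem, sylIn_inf_of_le SA hSAF⟩, ⟨hmem, sylIn_inf_of_le SB hSBF⟩,
    ⟨Subgroup.mem_top x, hx⟩, hxB, le_inf hDB (hDB.trans hSBF)⟩

/-- Inside a regular subgroup holding Sylow subgroups of `G`, two of them are connected. -/
theorem conn_of_regular_full [Finite G] [Fact p.Prime] {f : Subgroup G → Set (Subgroup G)}
    (hf : IsNormalizerFunctor p f) {fam : Set (Subgroup G)} (hfam : functorFamily p f ⊤ ⊆ fam) {M : Subgroup G}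
    (hM : IsFunctorRegular p f M) {D : Subgroup G} (hD : D ≠ ⊥) (S T : Sylow p G) (hS : (S : Subgroup G) ≤ M)
    (hT : (T : Subgroup G) ≤ M) (hDS : D ≤ (S : Subgroup G)) (hDT : D ≤ (T : Subgroup G)) :
    Conn p fam D S T := by
  have hSi : SylIn p (S : Subgroup G) M := by simpa [inf_eq_left.mpr hS] using sylIn_inf_of_le S hS
  have hTi : SylIn p (T : Subgroup G) M := by simpa [inf_eq_left.mpr hT] using sylIn_inf_of_le T hT
  suffices h : ∀ A : Subgroup G, Relation.ReflTransGen (StepIn p f D M) (S : Subgroup G) A →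
      ∀ SA : Sylow p G, A = SA → Conn p fam D S SA from h _ (stepIn_of_regular hf hM hSi hTi hD hDS hDT) T rfl
  intro A hA
  induction hA with
  | refl => intro SA h; rw [Sylow.ext h]
  | @tail a b _ hab ih =>
    intro SB h
    obtain ⟨SA, hSA⟩ := hab.1.isPGroup.exists_le_sylow
    have e : a = SA := Subgroup.eq_of_le_of_card_ge hSA (le_of_eq (by
      rw [hab.1.card, ← hSi.card, SA.card_eq_multiplicity, S.card_eq_multiplicity]))
    exact (ih SA e).tail (step_of_stepIn hfam hab hSi SA SB hSA h.le)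

theorem functorFamily_top_conj [Finite G] [Fact p.Prime] {f : Subgroup G → Set (Subgroup G)}
    (hf : IsNormalizerFunctor p f) : IsNormalSet (functorFamily p f ⊤) := by
  rintro X ⟨P, F, hF, rfl⟩ g
  set Q := (P : Subgroup ↥(⊤ : Subgroup G)).map (⊤ : Subgroup G).subtype with hQ
  have hcard : Nat.card ↥(Q.map (MulAut.conj g⁻¹).toMonoidHom) = p ^ (Nat.card G).factorization p := by
    rw [Subgroup.card_map_of_injective (MulEquiv.injective (MulAut.conj g⁻¹)), SylIn.card (M := ⊤) (R := Q) ⟨P, rfl⟩, Subgroup.card_top]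
  refine ⟨(Sylow.ofCard _ hcard).subtype le_top, F.map (MulAut.conj g⁻¹).toMonoidHom, ?_, ?_⟩
  · rw [Sylow.coe_subtype, Subgroup.map_subgroupOf_eq_of_le le_top, Sylow.coe_ofCard, (hf Q (P.2.map _)).2 g⁻¹]
    exact ⟨F, hF, rfl⟩
  · rw [Cfsg.subgroupConjRight, Subgroup.map_inf _ _ _ (MulEquiv.injective (MulAut.conj g⁻¹)),
      Subgroup.map_equiv_normalizer_eq]
    congr 1
    exact Subgroup.map_top_of_surjective _ (MulEquiv.surjective (MulAut.conj g⁻¹))

theorem Step.conj [Finite G] [Fact p.Prime] {fam : Set (Subgroup G)} (hfam : IsNormalSet fam) {D : Subgroup G}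
    {A B : Sylow p G} (h : Step p fam D A B) (g : G) :
    Step p fam (D.map (MulAut.conj g).toMonoidHom) (g • A) (g • B) := by
  obtain ⟨X, x, h1, h2, h3, h4, h5⟩ := h
  have e : ∀ S : Sylow p G, ((g • S : Sylow p G) : Subgroup G) = (S : Subgroup G).map (MulAut.conj g).toMonoidHom :=
    fun S => by rw [Sylow.coe_subgroup_smul]; rfl
  have hm : ∀ S : Sylow p G, X ∈ sylowMembers p fam (S : Subgroup G) →
      X.map (MulAut.conj g).toMonoidHom ∈ sylowMembers p fam ((g • S : Sylow p G) : Subgroup G) := by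
    rintro S ⟨hX, P, hP⟩
    refine ⟨by simpa [Cfsg.subgroupConjRight] using hfam X hX g⁻¹, ?_⟩
    set φ := X.equivMapOfInjective (MulAut.conj g).toMonoidHom (MulEquiv.injective (MulAut.conj g)) with hφ
    refine ⟨P.mapSurjective (f := φ.toMonoidHom) φ.surjective, ?_⟩
    show ((P : Subgroup ↥X).map φ.toMonoidHom).map _ = _
    rw [e, ← Subgroup.map_inf _ _ _ (MulEquiv.injective (MulAut.conj g)), ← hP, Subgroup.map_map, Subgroup.map_map]
    congr 1
  refine ⟨X.map (MulAut.conj g).toMonoidHom, g * x * g⁻¹, hm A h1, hm B h2, ⟨x, h3, rfl⟩, ?_, ?_⟩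
  · rw [e, e, ← h4, Cfsg.subgroupConjRight, Cfsg.subgroupConjRight, Local.map_conj_mul, Local.map_conj_mul]
    congr 2
    congr 1
    group
  · rw [e, ← Subgroup.map_inf _ _ _ (MulEquiv.injective (MulAut.conj g))]
    exact Subgroup.map_mono h5

end CfsgLib.SylowChains
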