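import Mathlib

/-!
The fixed-point ratio of a Sylow `p`-subgroup: if every point of a finite `G`-set is moved by
some Sylow `p`-subgroup, then a Sylow `p`-subgroup fixes at most `(p-1)/(2p-1)` of the points.

Put `wt = -p` on fixed and `p - 1` on moved points; the claim is that the total weight is
non-negative. The induction is on `|G|`, together with: if the total weight is at most `d * p`
then any `k` points, `k + d ≤ p - 1`, have a common fixing Sylow subgroup.
-/

set_option autoImplicit false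

open scoped Pointwise

namespace Cfsg.Agent.SylowFixedRatio

universe u

variable {G : Type u} [Group G] {p : ℕ} {Ω : Type u} [MulAction G Ω]

/-- The Sylow `p`-subgroups fixing a point. -/
def fixSyl (p : ℕ) (G : Type u) [Group G] {Ω : Type u} [MulAction G Ω] (a : Ω) :
    Set (Sylow p G) :=
  {P | (P : Subgroup G) ≤ MulAction.stabilizer G a}

theorem mem_fixSyl {a : Ω} {P : Sylow p G} :
    P ∈ fixSyl p G a ↔ ∀ x ∈ (P : Subgroup G), x • a = a := Iff.rfl

theorem smul_mem_fixSyl_smul {a : Ω} {P : Sylow p G} (g : G) (h : P ∈ fixSyl p G a) :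
    g • P ∈ fixSyl p G (g • a) := by
  intro x hx
  have hx' : x ∈ MulAut.conj g • (P : Subgroup G) := by
    rwa [← Sylow.coe_subgroup_smul]
  rw [Subgroup.mem_pointwise_smul_iff_inv_smul_mem] at hx'
  have h2 := mem_fixSyl.mp h _ hx'
  show x • g • a = g • a
  have e : (MulAut.conj g)⁻¹ • x = g⁻¹ * x * g := by simp [MulAut.smul_def]
  rw [e, mul_smul, mul_smul, inv_smul_eq_iff] at h2
  exact h2

theorem smul_mem_fixSyl_iff {a : Ω} {P : Sylow p G} (g : G) :
    g • P ∈ fixSyl p G (g • a) ↔ P ∈ fixSyl p G a := by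
  refine ⟨fun h => ?_, smul_mem_fixSyl_smul g⟩
  simpa using smul_mem_fixSyl_smul g⁻¹ h

theorem fixSyl_smul (g : G) (a : Ω) : fixSyl p G (g • a) = g • fixSyl p G a := by
  ext P
  rw [Set.mem_smul_set_iff_inv_smul_mem]
  conv_lhs => rw [← smul_inv_smul g P]
  exact smul_mem_fixSyl_iff g

theorem ncard_fixSyl_smul (g : G) (a : Ω) :
    (fixSyl p G (g • a)).ncard = (fixSyl p G a).ncard := by
  rw [fixSyl_smul]
  exact Set.ncard_image_of_injective _ (MulAction.injective g)

open Classical in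
/-- Weight `-p` for a point fixed by `P`, and `p - 1` for a moved one. -/
noncomputable def wt (P : Sylow p G) (a : Ω) : ℤ :=
  if P ∈ fixSyl p G a then -(p : ℤ) else (p : ℤ) - 1

variable [Finite G] [Fact p.Prime]

theorem wt_smul (P : Sylow p G) (g : G) (a : Ω) : wt (g • P) (g • a) = wt P a := by
  by_cases h : P ∈ fixSyl p G a <;> simp [wt, smul_mem_fixSyl_iff, h]

/-- The weight of an invariant set does not depend on the Sylow subgroup. -/
theorem sum_wt_indep (s : Finset Ω) (hs : ∀ g : G, ∀ a ∈ s, g • a ∈ s) (P Q : Sylow p G) :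
    ∑ a ∈ s, wt P a = ∑ a ∈ s, wt Q a := by
  obtain ⟨g, rfl⟩ := MulAction.exists_smul_eq G P Q
  refine Finset.sum_nbij' (fun a => g • a) (fun a => g⁻¹ • a) (fun a ha => hs g a ha)
    (fun a ha => hs _ a ha) (fun a _ => inv_smul_smul g a) (fun a _ => smul_inv_smul g a) ?_
  intro a _
  rw [wt_smul]

open Classical in
theorem dvd_card_moved (s : Finset Ω) (hs : ∀ g : G, ∀ a ∈ s, g • a ∈ s) (P : Sylow p G) :
    p ∣ (s.filter fun a => P ∉ fixSyl p G a).card := by
  let M : SubMulAction (P : Subgroup G) Ω :=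
    { carrier := {a | a ∈ s ∧ P ∉ fixSyl p G a}
      smul_mem' := by
        intro x a ha
        refine ⟨hs _ a ha.1, fun h => ha.2 ?_⟩
        have h' := smul_mem_fixSyl_smul ((x : G)⁻¹) h
        have e1 : ((x : G)⁻¹) • P = P := Sylow.smul_eq_iff_mem_normalizer.mpr
          (Subgroup.le_normalizer (inv_mem x.2))
        have e2 : ((x : G)⁻¹) • (x • a) = a := inv_smul_smul (x : G) a
        rwa [e1, e2] at h' }
  have hfin : Set.Finite {a | a ∈ s ∧ P ∉ fixSyl p G a} :=
    s.finite_toSet.subset fun a ha => ha.1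
  haveI : Finite M := hfin.to_subtype
  have h := P.2.card_modEq_card_fixedPoints M
  have hempty : IsEmpty (MulAction.fixedPoints (P : Subgroup G) M) := by
    refine ⟨fun b => b.1.2.2 (mem_fixSyl.mpr fun x hx => ?_)⟩
    have := congrArg Subtype.val (b.2 ⟨x, hx⟩)
    exact this
  rw [Nat.card_of_isEmpty (α := MulAction.fixedPoints (P : Subgroup G) M)] at h
  have hc : Nat.card M = (s.filter fun a => P ∉ fixSyl p G a).card := by
    rw [← Nat.card_eq_finsetCard]
    refine Nat.card_congr (Equiv.subtypeEquivRight fun a => ?_)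
    simp only [Finset.mem_filter]
    exact Iff.rfl
  rw [← hc]
  exact Nat.modEq_zero_iff_dvd.mp h

theorem dvd_sum_wt (s : Finset Ω) (hs : ∀ g : G, ∀ a ∈ s, g • a ∈ s) (P : Sylow p G) :
    (p : ℤ) ∣ ∑ a ∈ s, wt P a := by
  classical
  rw [← Finset.sum_filter_add_sum_filter_not s (fun a => P ∈ fixSyl p G a)]
  apply dvd_add
  · refine Finset.dvd_sum fun a ha => ?_
    rw [wt, if_pos (Finset.mem_filter.mp ha).2, dvd_neg]
  · rw [Finset.sum_congr rfl fun a ha =>
      show wt P a = (p : ℤ) - 1 by rw [wt, if_neg (Finset.mem_filter.mp ha).2],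
      Finset.sum_const, nsmul_eq_mul]
    exact dvd_mul_of_dvd_left (Int.natCast_dvd_natCast.mpr (dvd_card_moved s hs P)) _

/-- A non-empty `fixSyl p G a` is stabilised only by its own members. -/
theorem mem_fixSyl_fixSyl {a : Ω} (hne : (fixSyl p G a).Nonempty) (P : Sylow p G) :
    P ∈ fixSyl p G (fixSyl p G a) ↔ P ∈ fixSyl p G a := by
  have back : ∀ R ∈ fixSyl p G a, R ∈ fixSyl p G (fixSyl p G a) := by
    intro R hR x hx
    show x • fixSyl p G a = fixSyl p G a
    rw [← fixSyl_smul, mem_fixSyl.mp hR x hx]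
  refine ⟨fun hP => ?_, back P⟩
  obtain ⟨Q, hQ⟩ := hne
  have hQ' : (Q : Subgroup G) ≤ MulAction.stabilizer G (fixSyl p G a) := back Q hQ
  have hP' : (P : Subgroup G) ≤ MulAction.stabilizer G (fixSyl p G a) := hP
  obtain ⟨n, hn⟩ := MulAction.exists_smul_eq (MulAction.stabilizer G (fixSyl p G a))
    (Q.subtype hQ') (P.subtype hP')
  rw [Sylow.smul_subtype] at hn
  have h := Sylow.subtype_injective hn
  rw [← h]
  have h2 : (n : G) • Q ∈ (n : G) • fixSyl p G a := Set.smul_mem_smul_set hQ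
  rwa [show (n : G) • fixSyl p G a = fixSyl p G a from n.2] at h2

/-- The statement proved by induction on `|G|`. -/
def HypA (p : ℕ) (G : Type u) [Group G] : Prop :=
  ∀ (Ω : Type u) [MulAction G Ω] (s : Finset Ω), (∀ g : G, ∀ a ∈ s, g • a ∈ s) →
    (∀ a ∈ s, ∃ P : Sylow p G, P ∉ fixSyl p G a) → ∀ P : Sylow p G, 0 ≤ ∑ a ∈ s, wt P a

theorem exists_lift {H : Subgroup G} {P₀ : Sylow p G} (h₀ : (P₀ : Subgroup G) ≤ H)
    (R : Sylow p H) : ∃ (P : Sylow p G) (hP : (P : Subgroup G) ≤ H), P.subtype hP = R := by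
  obtain ⟨h, hh⟩ := MulAction.exists_smul_eq H (P₀.subtype h₀) R
  rw [Sylow.smul_subtype] at hh
  exact ⟨_, _, hh⟩

theorem mem_fixSyl_subtype {H : Subgroup G} {P : Sylow p G} (hP : (P : Subgroup G) ≤ H) (b : Ω) :
    P.subtype hP ∈ fixSyl p H b ↔ P ∈ fixSyl p G b :=
  ⟨fun h x hx => mem_fixSyl.mp h ⟨x, hP hx⟩ hx, fun h x hx => mem_fixSyl.mp h x.1 hx⟩

theorem wt_subtype {H : Subgroup G} {P : Sylow p G} (hP : (P : Subgroup G) ≤ H) (b : Ω) :
    wt (P.subtype hP) b = wt P b := by
  by_cases h : P ∈ fixSyl p G b <;> simp [wt, mem_fixSyl_subtype hP b, h]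

/-- Removing a point `c` with `a ↦ fixSyl a` separating: nothing else is fixed by all of the
Sylow subgroups of the stabiliser of `c`. -/
theorem moved_of_sep {c c' : Ω} (hne : (fixSyl p G c).Nonempty)
    (h : ¬ fixSyl p G c ⊆ fixSyl p G c') :
    ∃ R : Sylow p (MulAction.stabilizer G c), R ∉ fixSyl p (MulAction.stabilizer G c) c' := by
  obtain ⟨P, hP, hP'⟩ := Set.not_subset.mp h
  exact ⟨P.subtype hP, fun h' => hP' ((mem_fixSyl_subtype hP c').mp h')⟩

/-- The weight of the image under `fixSyl`, with multiplicities, is the weight. -/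
theorem sum_wt_image [DecidableEq (Set (Sylow p G))] (s : Finset Ω)
    (hne : ∀ a ∈ s, (fixSyl p G a).Nonempty) (P : Sylow p G) :
    ∑ a ∈ s, wt P a = ∑ c ∈ s.image (fixSyl p G),
      ((s.filter fun a => fixSyl p G a = c).card : ℤ) * wt P c := by
  rw [← Finset.sum_fiberwise_of_maps_to (g := fixSyl p G) (t := s.image (fixSyl p G))
    (fun a ha => Finset.mem_image_of_mem _ ha)]
  refine Finset.sum_congr rfl fun c hc => ?_
  rw [← nsmul_eq_mul, ← Finset.sum_const]
  refine Finset.sum_congr rfl fun a ha => ?_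
  obtain ⟨ha', e⟩ := Finset.mem_filter.mp ha
  subst e
  by_cases h : P ∈ fixSyl p G a <;> simp [wt, mem_fixSyl_fixSyl (hne a ha') P, h]

theorem image_invariant [DecidableEq (Set (Sylow p G))] (s : Finset Ω)
    (hs : ∀ g : G, ∀ a ∈ s, g • a ∈ s) :
    ∀ g : G, ∀ c ∈ s.image (fixSyl p G), g • c ∈ s.image (fixSyl p G) := by
  intro g c hc
  obtain ⟨a, ha, rfl⟩ := Finset.mem_image.mp hc
  rw [← fixSyl_smul]
  exact Finset.mem_image_of_mem _ (hs g a ha)

theorem card_fiber_smul [DecidableEq (Set (Sylow p G))] (s : Finset Ω)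
    (hs : ∀ g : G, ∀ a ∈ s, g • a ∈ s) (g : G) (c : Set (Sylow p G)) :
    (s.filter fun a => fixSyl p G a = g • c).card = (s.filter fun a => fixSyl p G a = c).card := by
  refine Finset.card_nbij' (fun a => g⁻¹ • a) (fun a => g • a) (fun a ha => ?_) (fun a ha => ?_)
    (fun a _ => smul_inv_smul g a) (fun a _ => inv_smul_smul g a)
  · obtain ⟨ha, e⟩ := Finset.mem_filter.mp ha
    refine Finset.mem_filter.mpr ⟨hs _ a ha, ?_⟩
    rw [fixSyl_smul, e, inv_smul_smul]
  · obtain ⟨ha, e⟩ := Finset.mem_filter.mp ha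
    refine Finset.mem_filter.mpr ⟨hs _ a ha, ?_⟩
    rw [fixSyl_smul, e]

/-- The weight does not increase on passing to the image of `fixSyl`. -/
theorem sum_image_le (hA : HypA p G) [DecidableEq (Set (Sylow p G))] (s : Finset Ω)
    (hs : ∀ g : G, ∀ a ∈ s, g • a ∈ s) (hne : ∀ a ∈ s, (fixSyl p G a).Nonempty)
    (hng : ∀ a ∈ s, ∃ P : Sylow p G, P ∉ fixSyl p G a) (P : Sylow p G) :
    ∑ c ∈ s.image (fixSyl p G), wt P c ≤ ∑ a ∈ s, wt P a := by
  classical
  set Q := s.image (fixSyl p G) with hQ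
  set m : Set (Sylow p G) → ℕ := fun c => (s.filter fun a => fixSyl p G a = c).card
  have hm1 : ∀ c ∈ Q, 1 ≤ m c := by
    intro c hc
    obtain ⟨a, ha, rfl⟩ := Finset.mem_image.mp hc
    exact Finset.card_pos.mpr ⟨a, Finset.mem_filter.mpr ⟨ha, rfl⟩⟩
  have key : 0 ≤ ∑ j ∈ Finset.range s.card, ∑ c ∈ Q.filter (fun c => j + 1 < m c), wt P c := by
    refine Finset.sum_nonneg fun j _ => hA _ _ ?_ ?_ P
    · intro g c hc
      obtain ⟨hc, hj⟩ := Finset.mem_filter.mp hc
      refine Finset.mem_filter.mpr ⟨image_invariant s hs g c hc, ?_⟩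
      show j + 1 < (s.filter fun a => fixSyl p G a = g • c).card
      rwa [card_fiber_smul s hs g c]
    · intro c hc
      obtain ⟨a, ha, rfl⟩ := Finset.mem_image.mp (Finset.mem_filter.mp hc).1
      obtain ⟨R, hR⟩ := hng a ha
      exact ⟨R, fun h => hR ((mem_fixSyl_fixSyl (hne a ha) R).mp h)⟩
  have e : ∑ j ∈ Finset.range s.card, ∑ c ∈ Q.filter (fun c => j + 1 < m c), wt P c
      = ∑ c ∈ Q, ((m c : ℤ) - 1) * wt P c := by
    simp only [Finset.sum_filter]
    rw [Finset.sum_comm]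
    refine Finset.sum_congr rfl fun c hc => ?_
    rw [← Finset.sum_filter, Finset.sum_const, nsmul_eq_mul]
    congr 1
    have : (Finset.range s.card).filter (fun j => j + 1 < m c) = Finset.range (m c - 1) := by
      ext j
      have hle : m c ≤ s.card := Finset.card_filter_le _ _
      simp only [Finset.mem_filter, Finset.mem_range]
      omega
    rw [this, Finset.card_range, Nat.cast_sub (hm1 c hc), Nat.cast_one]
  rw [sum_wt_image s hne P]
  rw [e] at key
  have : ∑ c ∈ Q, ((m c : ℤ) - 1) * wt P c = ∑ c ∈ Q, (m c : ℤ) * wt P c - ∑ c ∈ Q, wt P c := by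
    rw [← Finset.sum_sub_distrib]
    exact Finset.sum_congr rfl fun c _ => by ring
  linarith

omit [Finite G] in
theorem hypB (N : ℕ)
    (hA : ∀ (K : Type u) [Group K] [Finite K], Nat.card K ≤ N → HypA p K) :
    ∀ (k : ℕ) (G : Type u) [Group G] [Finite G], Nat.card G ≤ N →
    ∀ (Ω : Type u) [MulAction G Ω] (s : Finset Ω), (∀ g : G, ∀ a ∈ s, g • a ∈ s) →
      (∀ a ∈ s, ∃ P : Sylow p G, P ∉ fixSyl p G a) →
      ∀ (d : ℕ) (P : Sylow p G), ∑ a ∈ s, wt P a ≤ (d : ℤ) * p →
      ∀ S : Finset Ω, S ⊆ s → S.card ≤ k → k + d ≤ p - 1 →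
      ∃ R : Sylow p G, ∀ a ∈ S, R ∈ fixSyl p G a := by
  intro k
  induction k with
  | zero =>
    intro G _ _ _ Ω _ s _ _ d P _ S _ hS _
    exact ⟨P, fun a ha => by simp [Finset.card_eq_zero.mp (Nat.le_zero.mp hS)] at ha⟩
  | succ k ih =>
    intro G _ _ hG Ω _ s hs hng d P hsum S hSs hS hkd
    classical
    rcases S.eq_empty_or_nonempty with rfl | hSne
    · exact ⟨P, fun a ha => by simp at ha⟩
    have hp := (Fact.out : p.Prime).two_le
    -- every point is fixed by some Sylow subgroup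
    have hne : ∀ a ∈ s, (fixSyl p G a).Nonempty := by
      by_contra hcon
      push_neg at hcon
      obtain ⟨a, ha, hae⟩ := hcon
      set Z := s.filter fun a => fixSyl p G a = ∅ with hZ
      have hZs : ∀ g : G, ∀ b ∈ Z, g • b ∈ Z := by
        intro g b hb
        obtain ⟨hb, e⟩ := Finset.mem_filter.mp hb
        refine Finset.mem_filter.mpr ⟨hs g b hb, ?_⟩
        rw [fixSyl_smul, e, Set.smul_set_empty]
      have hrest : 0 ≤ ∑ b ∈ s.filter (fun a => ¬ fixSyl p G a = ∅), wt P b := by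
        refine hA G hG Ω _ ?_ (fun b hb => hng b (Finset.mem_filter.mp hb).1) P
        intro g b hb
        obtain ⟨hb, e⟩ := Finset.mem_filter.mp hb
        refine Finset.mem_filter.mpr ⟨hs g b hb, ?_⟩
        rw [fixSyl_smul, Set.smul_set_eq_empty]
        exact e
      have hsplit := Finset.sum_filter_add_sum_filter_not s (fun a => fixSyl p G a = ∅)
        (fun a => wt P a)
      have hval : ∀ b ∈ Z, wt P b = (p : ℤ) - 1 := fun b hb => by
        rw [wt, if_neg]
        rw [(Finset.mem_filter.mp hb).2]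
        exact id
      have hZsum : ∑ b ∈ Z, wt P b = (Z.card : ℤ) * ((p : ℤ) - 1) := by
        rw [Finset.sum_congr rfl hval, Finset.sum_const, nsmul_eq_mul]
      have hdvd : p ∣ Z.card := by
        have h := dvd_card_moved Z hZs P
        rwa [Finset.filter_true_of_mem] at h
        intro b hb
        rw [(Finset.mem_filter.mp hb).2]
        exact id
      have hpos : 0 < Z.card := Finset.card_pos.mpr ⟨a, Finset.mem_filter.mpr ⟨ha, hae⟩⟩
      have hge : (p : ℤ) ≤ Z.card := by exact_mod_cast Nat.le_of_dvd hpos hdvd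
      have hd : (d : ℤ) ≤ (p : ℤ) - 2 := by omega
      have h1 : (Z.card : ℤ) * ((p : ℤ) - 1) ≤ (d : ℤ) * p := by rw [← hZsum]; linarith
      have h2 : (p : ℤ) * ((p : ℤ) - 1) ≤ (Z.card : ℤ) * ((p : ℤ) - 1) :=
        mul_le_mul_of_nonneg_right hge (by omega)
      have h3 : (d : ℤ) * p ≤ ((p : ℤ) - 2) * p := mul_le_mul_of_nonneg_right hd (by omega)
      nlinarith
    -- pass to the image
    set Q := s.image (fixSyl p G) with hQ
    have hQinv := image_invariant (p := p) s hs
    have hQP : ∀ c ∈ Q, ∀ R : Sylow p G, R ∈ fixSyl p G c ↔ R ∈ c := by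
      intro c hc R
      obtain ⟨a, ha, rfl⟩ := Finset.mem_image.mp hc
      exact mem_fixSyl_fixSyl (hne a ha) R
    have hQng : ∀ c ∈ Q, ∃ R : Sylow p G, R ∉ fixSyl p G c := by
      intro c hc
      obtain ⟨a, ha, rfl⟩ := Finset.mem_image.mp hc
      obtain ⟨R, hR⟩ := hng a ha
      exact ⟨R, fun h => hR ((mem_fixSyl_fixSyl (hne a ha) R).mp h)⟩
    have hQsum : ∑ c ∈ Q, wt P c ≤ (d : ℤ) * p :=
      (sum_image_le (hA G hG) s hs hne hng P).trans hsum
    set T := S.image (fixSyl p G) with hT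
    have hTQ : T ⊆ Q := Finset.image_subset_image hSs
    obtain ⟨c, hcT, hmax⟩ := T.exists_max_image Set.ncard (hSne.image _)
    -- keep the orbits meeting `T`
    set Q' := Q.filter fun x => ∃ t ∈ T, x ∈ MulAction.orbit G t with hQ'
    have hQ'inv : ∀ g : G, ∀ x ∈ Q', g • x ∈ Q' := by
      intro g x hx
      obtain ⟨hx, t, ht, hxt⟩ := Finset.mem_filter.mp hx
      exact Finset.mem_filter.mpr ⟨hQinv g x hx, t, ht,
        (MulAction.mem_orbit_iff).mpr (by
          obtain ⟨h, rfl⟩ := hxt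
          exact ⟨g * h, mul_smul g h t⟩)⟩
    have hTQ' : T ⊆ Q' := fun t ht =>
      Finset.mem_filter.mpr ⟨hTQ ht, t, ht, MulAction.mem_orbit_self t⟩
    have hrest : 0 ≤ ∑ x ∈ Q.filter (fun x => ¬ ∃ t ∈ T, x ∈ MulAction.orbit G t), wt P x := by
      refine hA G hG _ _ ?_ (fun x hx => hQng x (Finset.mem_filter.mp hx).1) P
      intro g x hx
      obtain ⟨hx, hn⟩ := Finset.mem_filter.mp hx
      refine Finset.mem_filter.mpr ⟨hQinv g x hx, fun ⟨t, ht, h, hh⟩ => hn ⟨t, ht, g⁻¹ * h, ?_⟩⟩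
      show (g⁻¹ * h) • t = x
      rw [mul_smul, show h • t = g • x from hh, inv_smul_smul]
    have hQ'sum : ∑ x ∈ Q', wt P x ≤ (d : ℤ) * p := by
      have := Finset.sum_filter_add_sum_filter_not Q
        (fun x => ∃ t ∈ T, x ∈ MulAction.orbit G t) (fun x => wt P x)
      linarith
    obtain ⟨P₀, hP₀⟩ : c.Nonempty := by
      obtain ⟨a, ha, rfl⟩ := Finset.mem_image.mp (hTQ hcT)
      exact hne a ha
    set H := MulAction.stabilizer G c with hH
    have hP₀H : (P₀ : Subgroup G) ≤ H := (hQP c (hTQ hcT) P₀).mpr hP₀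
    have hinv'' : ∀ h : H, ∀ x ∈ Q'.erase c, h • x ∈ Q'.erase c := by
      intro h x hx
      obtain ⟨hne', hx⟩ := Finset.mem_erase.mp hx
      refine Finset.mem_erase.mpr ⟨fun e => hne' ?_, hQ'inv h x hx⟩
      have e' : (h : G) • x = (h : G) • c := e.trans h.2.symm
      exact MulAction.injective (h : G) e'
    have hng'' : ∀ x ∈ Q'.erase c, ∃ R : Sylow p H, R ∉ fixSyl p H x := by
      intro x hx
      obtain ⟨hxc, hx⟩ := Finset.mem_erase.mp hx
      obtain ⟨hxQ, t, ht, g, rfl⟩ := Finset.mem_filter.mp hx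
      refine moved_of_sep ⟨P₀, hP₀H⟩ fun hsub => hxc ?_
      have hsub' : c ⊆ g • t := fun R hR =>
        (hQP _ hxQ R).mp (hsub ((hQP c (hTQ hcT) R).mpr hR))
      have hle : (g • t).ncard ≤ c.ncard := by
        have : (g • t).ncard = t.ncard := Set.ncard_image_of_injective _ (MulAction.injective g)
        rw [this]
        exact hmax t ht
      exact (Set.eq_of_subset_of_ncard_le hsub' hle (Set.toFinite _)).symm
    have hsum'' : ∑ x ∈ Q'.erase c, wt (P₀.subtype hP₀H) x ≤ ((d + 1 : ℕ) : ℤ) * p := by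
      have e : ∑ x ∈ Q'.erase c, wt (P₀.subtype hP₀H) x = ∑ x ∈ Q'.erase c, wt P₀ x :=
        Finset.sum_congr rfl fun x _ => wt_subtype hP₀H x
      have e2 := Finset.add_sum_erase Q' (fun x => wt P₀ x) (hTQ' hcT)
      have e3 : wt P₀ c = -(p : ℤ) := by
        have hP₀c : P₀ ∈ fixSyl p G c := hP₀H
        rw [wt, if_pos hP₀c]
      have e4 := sum_wt_indep Q' hQ'inv P₀ P
      rw [e]
      push_cast
      linarith
    have hG' : Nat.card H ≤ N := H.card_le_card_group.trans hG
    obtain ⟨R, hR⟩ := ih H hG' _ (Q'.erase c) hinv'' hng'' (d + 1) (P₀.subtype hP₀H) hsum''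
      (T.erase c) (Finset.erase_subset_erase _ hTQ')
      (by
        have h1 := Finset.card_erase_of_mem hcT
        have h2 : T.card ≤ S.card := Finset.card_image_le
        omega) (by omega)
    obtain ⟨R', hR', rfl⟩ := exists_lift hP₀H R
    refine ⟨R', fun a ha => ?_⟩
    have haT : fixSyl p G a ∈ T := Finset.mem_image_of_mem _ ha
    apply (mem_fixSyl_fixSyl (hne a (hSs ha)) R').mp
    by_cases hc : fixSyl p G a = c
    · rw [hc]
      exact hR'
    · exact (mem_fixSyl_subtype hR' _).mp (hR _ (Finset.mem_erase.mpr ⟨hc, haT⟩))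

/-- A `p`-element stabilising a finite set which some Sylow subgroup fixes pointwise fixes it
pointwise. -/
theorem fixes_of_setwise (C : Set Ω) (y : G) (hy : IsPGroup p (Subgroup.zpowers y))
    (hyC : y • C = C) (P : Sylow p G) (hP : ∀ c ∈ C, P ∈ fixSyl p G c) :
    ∀ c ∈ C, y • c = c := by
  set N := MulAction.stabilizer G C with hN
  have hPN : (P : Subgroup G) ≤ N := by
    intro x hx
    show x • C = C
    ext b
    constructor
    · rintro ⟨c, hc, rfl⟩
      show x • c ∈ C
      rwa [mem_fixSyl.mp (hP c hc) x hx]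
    · exact fun hb => ⟨b, hb, mem_fixSyl.mp (hP b hb) x hx⟩
  have hyN : Subgroup.zpowers y ≤ N := Subgroup.zpowers_le.mpr hyC
  obtain ⟨R, hR⟩ := (hy.of_equiv (Subgroup.subgroupOfEquivOfLe hyN).symm).exists_le_sylow
  obtain ⟨P', hP', rfl⟩ := exists_lift hPN R
  obtain ⟨n, hn⟩ := MulAction.exists_smul_eq N (P.subtype hPN) (P'.subtype hP')
  rw [Sylow.smul_subtype] at hn
  have e := Sylow.subtype_injective hn
  intro c hc
  have hyP' : y ∈ (P' : Subgroup G) :=
    hR (show (⟨y, hyC⟩ : N) ∈ (Subgroup.zpowers y).subgroupOf N from Subgroup.mem_zpowers y)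
  have hnc : (n : G)⁻¹ • c ∈ C := by
    have h1 : (n : G)⁻¹ • C = C := by rw [inv_smul_eq_iff]; exact n.2.symm
    rw [← h1]
    exact Set.smul_mem_smul_set hc
  have h2 := smul_mem_fixSyl_smul (n : G) (hP _ hnc)
  rw [smul_inv_smul] at h2
  rw [show (n : G) • P = P' from e] at h2
  exact mem_fixSyl.mp h2 y hyP'

omit [Finite G] in
/-- Some power of a `p`-element moving a point has a cycle of length exactly `p`. -/
theorem exists_cycle {x : G} {m : ℕ} {c : Ω} (hm : x ^ p ^ m • c = c) (hc : x • c ≠ c) :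
    ∃ j : ℕ, x ^ p ^ j • c ≠ c ∧ x ^ p ^ (j + 1) • c = c := by
  induction m with
  | zero => simp at hm; exact absurd hm hc
  | succ m ih =>
    by_cases h : x ^ p ^ m • c = c
    · exact ih h
    · exact ⟨m, h, hm⟩

theorem hypA_sep (hA : ∀ (K : Type u) [Group K] [Finite K], Nat.card K < Nat.card G → HypA p K)
    (Q : Finset Ω) (hinv : ∀ g : G, ∀ c ∈ Q, g • c ∈ Q)
    (hng : ∀ c ∈ Q, ∃ R : Sylow p G, R ∉ fixSyl p G c)
    (htr : ∀ c ∈ Q, ∀ c' ∈ Q, ∃ g : G, g • c = c')
    (hsep : ∀ c ∈ Q, ∀ c' ∈ Q, fixSyl p G c = fixSyl p G c' → c = c')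
    (P : Sylow p G) : 0 ≤ ∑ c ∈ Q, wt P c := by
  classical
  by_contra hneg
  push_neg at hneg
  obtain ⟨c, hcQ, hPc⟩ : ∃ c ∈ Q, P ∈ fixSyl p G c := by
    by_contra hnone
    push_neg at hnone
    have : 0 ≤ ∑ c ∈ Q, wt P c := Finset.sum_nonneg fun c hc => by
      rw [wt, if_neg (hnone c hc)]
      have := (Fact.out : p.Prime).two_le
      omega
    omega
  obtain ⟨P₁, hP₁⟩ := hng c hcQ
  obtain ⟨x, hxP, hxc⟩ : ∃ x ∈ (P₁ : Subgroup G), x • c ≠ c := by
    by_contra h
    push_neg at h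
    exact hP₁ (mem_fixSyl.mpr h)
  obtain ⟨m, hm⟩ := P₁.2 ⟨x, hxP⟩
  have hm' : x ^ p ^ m • c = c := by
    rw [show x ^ p ^ m = 1 from congrArg Subtype.val hm, one_smul]
  obtain ⟨j, hj, hj'⟩ := exists_cycle hm' hxc
  set y := x ^ p ^ j with hy
  have hyp : y ^ p • c = c := by rwa [hy, ← pow_mul, ← pow_succ]
  have hmod : ∀ i, y ^ (i % p) • c = y ^ i • c := by
    intro i
    have hq : ∀ q, (y ^ p) ^ q • c = c := by
      intro q
      induction q with
      | zero => simp
      | succ q ih => rw [pow_succ, mul_smul, hyp, ih]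
    conv_rhs => rw [← Nat.mod_add_div i p, pow_add, pow_mul, mul_smul, hq]
  set C := (Finset.range p).image fun i => y ^ i • c with hC
  have hp := (Fact.out : p.Prime).pos
  have hCcard : C.card ≤ p := Finset.card_image_le.trans_eq (Finset.card_range p)
  have hcC : c ∈ C := Finset.mem_image.mpr ⟨0, Finset.mem_range.mpr hp, by simp⟩
  have hCQ : C ⊆ Q := by
    intro b hb
    obtain ⟨i, _, rfl⟩ := Finset.mem_image.mp hb
    exact hinv _ c hcQ
  have hyC : ∀ b ∈ C, y • b ∈ C := by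
    intro b hb
    obtain ⟨i, _, rfl⟩ := Finset.mem_image.mp hb
    refine Finset.mem_image.mpr ⟨(i + 1) % p, Finset.mem_range.mpr (Nat.mod_lt _ hp), ?_⟩
    rw [hmod, pow_succ', mul_smul]
  set H := MulAction.stabilizer G c with hH
  have hPH : (P : Subgroup G) ≤ H := hPc
  have hlt : Nat.card H < Nat.card G := by
    rcases lt_or_eq_of_le H.card_le_card_group with h | h
    · exact h
    · exfalso
      exact hP₁ (show (P₁ : Subgroup G) ≤ H by rw [Subgroup.eq_top_of_card_eq H h]; exact le_top)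
  have hinv' : ∀ h : H, ∀ b ∈ Q.erase c, h • b ∈ Q.erase c := by
    intro h b hb
    obtain ⟨hne', hb⟩ := Finset.mem_erase.mp hb
    refine Finset.mem_erase.mpr ⟨fun e => hne' ?_, hinv h b hb⟩
    have e' : (h : G) • b = (h : G) • c := e.trans h.2.symm
    exact MulAction.injective (h : G) e'
  have hng' : ∀ b ∈ Q.erase c, ∃ R : Sylow p H, R ∉ fixSyl p H b := by
    intro b hb
    obtain ⟨hbc, hb⟩ := Finset.mem_erase.mp hb
    refine moved_of_sep ⟨P, hPc⟩ fun hsub => hbc (hsep b hb c hcQ ?_)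
    obtain ⟨g, rfl⟩ := htr c hcQ b hb
    exact (Set.eq_of_subset_of_ncard_le hsub (ncard_fixSyl_smul g c).le (Set.toFinite _)).symm
  have hzero : ∑ b ∈ Q.erase c, wt (P.subtype hPH) b ≤ ((0 : ℕ) : ℤ) * p := by
    have e : ∑ b ∈ Q.erase c, wt (P.subtype hPH) b = ∑ b ∈ Q.erase c, wt P b :=
      Finset.sum_congr rfl fun b _ => wt_subtype hPH b
    have e2 := Finset.add_sum_erase Q (fun b => wt P b) hcQ
    have e3 : wt P c = -(p : ℤ) := by rw [wt, if_pos hPc]
    obtain ⟨t, ht⟩ := dvd_sum_wt Q hinv P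
    have hpz : (0 : ℤ) < p := by exact_mod_cast hp
    have ht' : t ≤ -1 := by nlinarith
    have hpt : (p : ℤ) * t ≤ (p : ℤ) * (-1) := mul_le_mul_of_nonneg_left ht' hpz.le
    rw [e]
    push_cast
    linarith
  obtain ⟨R, hR⟩ := hypB (Nat.card H) (fun K _ _ hK => hA K (lt_of_le_of_lt hK hlt)) (p - 1) H
    le_rfl Ω (Q.erase c) hinv' hng' 0 (P.subtype hPH) hzero (C.erase c)
    (Finset.erase_subset_erase _ hCQ)
    (by have := Finset.card_erase_of_mem hcC; omega) (by omega)
  obtain ⟨R', hR', rfl⟩ := exists_lift hPH R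
  have hfix : ∀ b ∈ (C : Set Ω), R' ∈ fixSyl p G b := by
    intro b hb
    by_cases e : b = c
    · subst e; exact hR'
    · exact (mem_fixSyl_subtype hR' b).mp (hR b (Finset.mem_erase.mpr ⟨e, hb⟩))
  have hyCset : y • (C : Set Ω) = (C : Set Ω) := by
    refine Set.eq_of_subset_of_ncard_le ?_ ?_ C.finite_toSet
    · rintro _ ⟨b, hb, rfl⟩
      exact hyC b hb
    · exact (Set.ncard_image_of_injective _ (MulAction.injective y)).ge
  have hypg : IsPGroup p (Subgroup.zpowers y) :=
    P₁.2.to_le (Subgroup.zpowers_le.mpr (pow_mem hxP _))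
  exact hj (fixes_of_setwise (C : Set Ω) y hypg hyCset R' hfix c hcC)

omit [Finite G] in
theorem hypA : ∀ (n : ℕ) (G : Type u) [Group G] [Finite G], Nat.card G = n → HypA p G := by
  intro n
  induction n using Nat.strong_induction_on with
  | _ n ihG =>
  intro G _ _ hn Ω _ s
  induction s using Finset.strongInductionOn with
  | _ s ihs =>
  intro hs hng P
  classical
  rcases s.eq_empty_or_nonempty with rfl | ⟨a, ha⟩
  · simp
  by_cases htr : ∀ b ∈ s, b ∈ MulAction.orbit G a
  · -- one orbit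
    by_cases hf : ∃ b ∈ s, P ∈ fixSyl p G b
    · obtain ⟨b₀, hb₀, hPb₀⟩ := hf
      have htr' : ∀ b ∈ s, ∀ b' ∈ s, ∃ g : G, g • b = b' := by
        intro b hb b' hb'
        obtain ⟨g, rfl⟩ := htr b hb
        obtain ⟨g', rfl⟩ := htr b' hb'
        exact ⟨g' * g⁻¹, by rw [mul_smul, inv_smul_smul]⟩
      have hne : ∀ b ∈ s, (fixSyl p G b).Nonempty := by
        intro b hb
        obtain ⟨g, rfl⟩ := htr' b₀ hb₀ b hb
        exact ⟨g • P, smul_mem_fixSyl_smul g hPb₀⟩
      set Q := s.image (fixSyl p G) with hQ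
      have hQP : ∀ c ∈ Q, ∀ R : Sylow p G, R ∈ fixSyl p G c ↔ R ∈ c := by
        intro c hc R
        obtain ⟨b, hb, rfl⟩ := Finset.mem_image.mp hc
        exact mem_fixSyl_fixSyl (hne b hb) R
      set M := (s.filter fun x => fixSyl p G x = fixSyl p G b₀).card with hM
      have key : 0 ≤ ∑ c ∈ Q, wt P c := by
        refine hypA_sep (fun K _ _ hK => ihG (Nat.card K) (hn ▸ hK) K rfl) Q
          (image_invariant s hs) ?_ ?_ ?_ P
        · intro c hc
          obtain ⟨b, hb, rfl⟩ := Finset.mem_image.mp hc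
          obtain ⟨R, hR⟩ := hng b hb
          exact ⟨R, fun h => hR ((mem_fixSyl_fixSyl (hne b hb) R).mp h)⟩
        · intro c hc c' hc'
          obtain ⟨b, hb, rfl⟩ := Finset.mem_image.mp hc
          obtain ⟨b', hb', rfl⟩ := Finset.mem_image.mp hc'
          obtain ⟨g, rfl⟩ := htr' b hb b' hb'
          exact ⟨g, (fixSyl_smul g b).symm⟩
        · intro c hc c' hc' e
          ext R
          rw [← hQP c hc R, ← hQP c' hc' R, e]
      rw [sum_wt_image s hne P]
      have e : ∀ c ∈ Q, ((s.filter fun x => fixSyl p G x = c).card : ℤ) * wt P c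
          = (M : ℤ) * wt P c := by
        intro c hc
        obtain ⟨b, hb, rfl⟩ := Finset.mem_image.mp hc
        obtain ⟨g, rfl⟩ := htr' b₀ hb₀ b hb
        rw [fixSyl_smul, card_fiber_smul s hs]
      rw [Finset.sum_congr rfl e, ← Finset.mul_sum]
      exact mul_nonneg (Int.natCast_nonneg _) key
    · push_neg at hf
      refine Finset.sum_nonneg fun b hb => ?_
      rw [wt, if_neg (hf b hb)]
      have := (Fact.out : p.Prime).two_le
      omega
  · push_neg at htr
    obtain ⟨b, hb, hb'⟩ := htr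
    rw [← Finset.sum_filter_add_sum_filter_not s (fun x => x ∈ MulAction.orbit G a)]
    apply add_nonneg
    · refine ihs _ (Finset.filter_ssubset.mpr ⟨b, hb, hb'⟩) ?_
        (fun x hx => hng x (Finset.mem_filter.mp hx).1) P
      intro g x hx
      obtain ⟨hx, h⟩ := Finset.mem_filter.mp hx
      exact Finset.mem_filter.mpr ⟨hs g x hx, by
        obtain ⟨k, rfl⟩ := h
        exact ⟨g * k, mul_smul g k a⟩⟩
    · refine ihs _ (Finset.filter_ssubset.mpr ⟨a, ha, not_not.mpr (MulAction.mem_orbit_self a)⟩) ?_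
        (fun x hx => hng x (Finset.mem_filter.mp hx).1) P
      intro g x hx
      obtain ⟨hx, h⟩ := Finset.mem_filter.mp hx
      refine Finset.mem_filter.mpr ⟨hs g x hx, fun ⟨k, hk⟩ => h ⟨g⁻¹ * k, ?_⟩⟩
      show (g⁻¹ * k) • a = x
      rw [mul_smul, show k • a = g • x from hk, inv_smul_smul]

/-- The fixed-point bound for an action in which no point is fixed by all Sylow subgroups. -/
theorem fixed_ratio [Finite Ω] (hng : ∀ a : Ω, ∃ P : Sylow p G, P ∉ fixSyl p G a)
    (P : Sylow p G) :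
    (2 * p - 1) * Nat.card {a : Ω // P ∈ fixSyl p G a} ≤ (p - 1) * Nat.card Ω := by
  classical
  haveI := Fintype.ofFinite Ω
  have h := hypA (p := p) (Nat.card G) G rfl Ω Finset.univ (fun g a _ => Finset.mem_univ _)
    (fun a _ => hng a) P
  have hsplit := Finset.sum_filter_add_sum_filter_not (Finset.univ : Finset Ω)
    (fun a => P ∈ fixSyl p G a) (fun a => wt P a)
  set F := (Finset.univ : Finset Ω).filter fun a => P ∈ fixSyl p G a with hF
  set M := (Finset.univ : Finset Ω).filter fun a => P ∉ fixSyl p G a with hM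
  have e1 : ∑ a ∈ F, wt P a = (F.card : ℤ) * (-(p : ℤ)) := by
    rw [Finset.sum_congr rfl fun a ha => show wt P a = -(p : ℤ) by
      rw [wt, if_pos (Finset.mem_filter.mp ha).2], Finset.sum_const, nsmul_eq_mul]
  have e2 : ∑ a ∈ M, wt P a = (M.card : ℤ) * ((p : ℤ) - 1) := by
    rw [Finset.sum_congr rfl fun a ha => show wt P a = (p : ℤ) - 1 by
      rw [wt, if_neg (Finset.mem_filter.mp ha).2], Finset.sum_const, nsmul_eq_mul]
  have e3 : F.card + M.card = Fintype.card Ω := by
    rw [hF, hM, Finset.card_filter_add_card_filter_not, Finset.card_univ]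
  rw [show Nat.card {a : Ω // P ∈ fixSyl p G a} = F.card by
    rw [Nat.card_eq_fintype_card, Fintype.card_subtype], Nat.card_eq_fintype_card, ← e3]
  have hp := (Fact.out : p.Prime).two_le
  zify [show 1 ≤ p by omega, show 1 ≤ 2 * p by omega]
  nlinarith

end Cfsg.Agent.SylowFixedRatio
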