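import Mathlib
import Cfsg.Prelude.Def_Local
import Cfsg.Agent.Lib.SubnormalizerFiber
import Cfsg.Agent.Lib.CoprimeFixedProduct

/-! The number of Sylow subgroups through the elements of a Sylow subgroup in a `p`-solvable group. -/

set_option autoImplicit false

namespace CfsgLib.SylowThrough

variable {p : ℕ} [Fact p.Prime]

/-- The number of Sylow `p`-subgroups through `x`. -/
noncomputable def numThrough (p : ℕ) {G : Type*} [Group G] (x : G) : ℕ :=
  Nat.card {Q : Sylow p G // x ∈ (Q : Subgroup G)}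

theorem numThrough_one (p : ℕ) {G : Type*} [Group G] : numThrough p (1 : G) = Nat.card (Sylow p G) :=
  Nat.card_congr (Equiv.subtypeUnivEquiv fun Q => one_mem _)

variable {A B : Type*} [Group A] [Group B]

theorem smul_coe (g : A) (P : Sylow p A) :
    ((g • P : Sylow p A) : Subgroup A) = (P : Subgroup A).map (MulAut.conj g).toMonoidHom := by
  rw [Sylow.coe_subgroup_smul, Subgroup.pointwise_smul_def]; rfl

theorem numThrough_conj (g x : A) : numThrough p (g * x * g⁻¹) = numThrough p x := by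
  refine (Nat.card_congr (Equiv.subtypeEquiv (MulAction.toPerm g) fun Q => ?_)).symm
  rw [MulAction.toPerm_apply, smul_coe]
  constructor
  · exact fun h => ⟨x, h, rfl⟩
  · rintro ⟨y, hy, e⟩
    have : y = x := (MulAut.conj g).injective e
    exact this ▸ hy

/-- The statement on products. -/
def Prop' (p : ℕ) (G : Type*) [Group G] : Prop :=
  ∀ (P : Sylow p G) [Fintype ↥(P : Subgroup G)],
    (∏ x : ↥(P : Subgroup G), numThrough p (x : G)) ^ p ≤ Nat.card (Sylow p G) ^ Nat.card (P : Subgroup G)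

variable [Finite A] [Finite B]

theorem mapSurjective_eq_iff {f : A →* B} (hf : Function.Surjective f) (P : Sylow p A) (Q : Sylow p B) :
    P.mapSurjective hf = Q ↔ (P : Subgroup A).map f = (Q : Subgroup B) := by
  rw [Sylow.ext_iff, Sylow.coe_mapSurjective]

theorem numThrough_step_pgroup (f : A →* B) (hf : Function.Surjective f) (hker : IsPGroup p f.ker)
    (x : A) : numThrough p x = numThrough p (f x) := by
  have hinj : Function.Injective (fun P : Sylow p A => P.mapSurjective hf) := by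
    intro P Q e
    apply Sylow.ext
    have key : ∀ R : Sylow p A, (R : Subgroup A) = ((R : Subgroup A).map f).comap f := fun R =>
      (R.3 ((R.2.map f).comap_of_ker_isPGroup f hker) (Subgroup.le_comap_map f _)).symm
    have he := congrArg (fun S : Sylow p B => (S : Subgroup B)) e
    simp only [Sylow.coe_mapSurjective] at he
    rw [key P, key Q, he]
  let e := Equiv.ofBijective _ ⟨hinj, Sylow.mapSurjective_surjective hf p⟩
  refine Nat.card_congr (Equiv.subtypeEquiv e fun P => ?_)
  have key : (P : Subgroup A) = ((P : Subgroup A).map f).comap f :=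
    (P.3 ((P.2.map f).comap_of_ker_isPGroup f hker) (Subgroup.le_comap_map f _)).symm
  change x ∈ (P : Subgroup A) ↔ f x ∈ ((P.mapSurjective hf : Sylow p B) : Subgroup B)
  rw [Sylow.coe_mapSurjective]
  conv_lhs => rw [key]
  rfl

theorem eq_one_of_ker {f : A →* B} (hker : (Nat.card f.ker).Coprime p) (Q : Sylow p A) {z : A}
    (hz : z ∈ (Q : Subgroup A)) (h : f z = 1) : z = 1 := by
  obtain ⟨k, hk⟩ := Q.2 ⟨z, hz⟩
  have hk' : z ^ p ^ k = 1 := by simpa using congrArg Subtype.val hk
  have h1 : orderOf z ∣ p ^ k := orderOf_dvd_of_pow_eq_one hk'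
  have h2 : orderOf z ∣ Nat.card f.ker := Subgroup.orderOf_dvd_natCard _ (MonoidHom.mem_ker.mpr h)
  exact orderOf_eq_one_iff.mp (Nat.eq_one_of_dvd_coprimes (hker.pow_right k).symm h1 h2)

theorem card_fiber (f : A →* B) (hf : Function.Surjective f) (hker : (Nat.card f.ker).Coprime p)
    (P : Sylow p A) (x : A) (Qb : Sylow p B) (hx : ∃ k : ℕ, x ^ p ^ k = 1)
    (hxQ : f x ∈ (Qb : Subgroup B)) :
    Nat.card {Q : Sylow p A // x ∈ (Q : Subgroup A) ∧ Q.mapSurjective hf = Qb} *
        Nat.card (f.ker ⊓ Subgroup.centralizer ((P : Subgroup A) : Set A) : Subgroup A) =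
      Nat.card (f.ker ⊓ Subgroup.centralizer ({x} : Set A) : Subgroup A) := by
  classical
  set Nx := f.ker ⊓ Subgroup.centralizer ({x} : Set A) with hNx
  set D := (Qb : Subgroup B).comap f with hD
  have hle : ∀ Q : Sylow p A, Q.mapSurjective hf = Qb → (Q : Subgroup A) ≤ D := fun Q hQ =>
    Subgroup.map_le_iff_le_comap.mp ((mapSurjective_eq_iff hf Q Qb).mp hQ).le
  have hDsmul : ∀ d ∈ D, ∀ Q : Sylow p A, Q.mapSurjective hf = Qb → (d • Q).mapSurjective hf = Qb := by
    intro d hd Q hQ
    rw [mapSurjective_eq_iff] at hQ ⊢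
    rw [smul_coe]
    refine (CfsgLib.SubnFiber.map_cj f d (Q : Subgroup A)).trans ?_
    rw [hQ, CfsgLib.SubnFiber.cj_eq_of_mem_normalizer (Subgroup.le_normalizer (show f d ∈ (Qb : Subgroup B) from hd))]
  obtain ⟨Q₀, hxQ₀, hQ₀⟩ : ∃ Q₀ : Sylow p A, x ∈ (Q₀ : Subgroup A) ∧ Q₀.mapSurjective hf = Qb := by
    obtain ⟨Q₁, hQ₁⟩ := Sylow.mapSurjective_surjective hf p Qb
    obtain ⟨k, hk⟩ := hx
    have hxp : IsPGroup p (Subgroup.zpowers (⟨x, hxQ⟩ : D)) := by
      obtain ⟨j, -, hj⟩ := (Nat.dvd_prime_pow (Fact.out : p.Prime)).mp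
        (orderOf_dvd_of_pow_eq_one (show (⟨x, hxQ⟩ : D) ^ p ^ k = 1 from Subtype.ext (by simpa using hk)))
      exact IsPGroup.of_card (n := j) (by rw [Nat.card_zpowers]; exact hj)
    obtain ⟨S, hS⟩ := hxp.exists_le_sylow
    obtain ⟨d, hd⟩ := MulAction.exists_smul_eq D (Q₁.subtype (hle Q₁ hQ₁)) S
    refine ⟨(d : A) • Q₁, ?_, hDsmul d d.2 Q₁ hQ₁⟩
    have := hS (Subgroup.mem_zpowers (⟨x, hxQ⟩ : D))
    rw [← hd, Sylow.coe_subgroup_smul, Subgroup.pointwise_smul_def] at this
    obtain ⟨y, hy, e⟩ := this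
    rw [smul_coe]
    exact ⟨(y : A), hy, congrArg Subtype.val e⟩
  have horb : MulAction.orbit Nx Q₀ = {Q : Sylow p A | x ∈ (Q : Subgroup A) ∧ Q.mapSurjective hf = Qb} := by
    ext Q
    constructor
    · rintro ⟨n, rfl⟩
      refine ⟨?_, hDsmul _ ?_ Q₀ hQ₀⟩
      · change x ∈ (((n : A) • Q₀ : Sylow p A) : Subgroup A)
        rw [smul_coe]
        refine ⟨x, hxQ₀, ?_⟩
        simp [← CfsgLib.FixProd.mem_centralizer_singleton_iff'.mp n.2.2]
      · rw [hD, Subgroup.mem_comap, MonoidHom.mem_ker.mp n.2.1]; exact one_mem _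
    · rintro ⟨hxQ', hQ⟩
      obtain ⟨d, hd⟩ := MulAction.exists_smul_eq D (Q₀.subtype (hle Q₀ hQ₀)) (Q.subtype (hle Q hQ))
      rw [Sylow.smul_subtype] at hd
      have hdQ : (d : A) • Q₀ = Q := Sylow.subtype_injective hd
      obtain ⟨c, hc, ec⟩ : f (d : A) ∈ (Q₀ : Subgroup A).map f := by
        rw [(mapSurjective_eq_iff hf Q₀ Qb).mp hQ₀]; exact d.2
      set n := (d : A) * c⁻¹ with hn
      have hnker : n ∈ f.ker := by rw [MonoidHom.mem_ker, hn, map_mul, map_inv, ec, mul_inv_cancel]
      have hnQ : n • Q₀ = Q := by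
        rw [hn, mul_smul, Sylow.smul_eq_iff_mem_normalizer.mpr (inv_mem (Subgroup.le_normalizer hc)), hdQ]
      refine ⟨⟨n, hnker, CfsgLib.FixProd.mem_centralizer_singleton_iff'.mpr ?_⟩, hnQ⟩
      rw [← hnQ, smul_coe] at hxQ'
      obtain ⟨y, hy, ey⟩ := hxQ'
      have hy' : y = n⁻¹ * x * n := by rw [← ey]; simp [mul_assoc]
      have h := eq_one_of_ker hker Q₀ (mul_mem (inv_mem hxQ₀) hy) (by
        rw [hy']; simp [MonoidHom.mem_ker.mp hnker])
      rw [inv_mul_eq_one] at h
      conv_rhs => rw [h, hy']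
      group
  have hstab : MulAction.stabilizer Nx Q₀ =
      (f.ker ⊓ Subgroup.centralizer ((Q₀ : Subgroup A) : Set A)).subgroupOf Nx := by
    ext n
    rw [MulAction.mem_stabilizer_iff, Subgroup.mem_subgroupOf]
    change (n : A) • Q₀ = Q₀ ↔ _
    rw [Sylow.smul_eq_iff_mem_normalizer]
    constructor
    · intro h
      refine ⟨n.2.1, Subgroup.mem_centralizer_iff.mpr fun q hq => ?_⟩
      have h' := eq_one_of_ker hker Q₀
        (mul_mem ((Subgroup.mem_normalizer_iff.mp h q).mp hq) (inv_mem hq))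
        (by simp [MonoidHom.mem_ker.mp n.2.1])
      rw [mul_inv_eq_one, mul_inv_eq_iff_eq_mul] at h'
      exact h'.symm
    · intro h
      refine Subgroup.mem_normalizer_iff.mpr fun q => ?_
      have key : ∀ q ∈ (Q₀ : Subgroup A), (n : A) * q * (n : A)⁻¹ = q := fun q hq => by
        rw [show (n : A) * q = q * n from (Subgroup.mem_centralizer_iff.mp h.2 q hq).symm, mul_inv_cancel_right]
      refine ⟨fun hq => (key q hq).symm ▸ hq, fun hq => ?_⟩
      have h2 := key _ hq
      have : (n : A) * q * (n : A)⁻¹ = q := mul_left_cancel (a := (n : A)) (mul_right_cancel (b := (n : A)⁻¹) h2)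
      exact this ▸ hq
  have hQ₀le : f.ker ⊓ Subgroup.centralizer ((Q₀ : Subgroup A) : Set A) ≤ Nx :=
    inf_le_inf_left _ (Subgroup.centralizer_le (Set.singleton_subset_iff.mpr hxQ₀))
  have hos := Nat.card_congr (MulAction.orbitProdStabilizerEquivGroup Nx Q₀)
  rw [Nat.card_prod, hstab, Nat.card_congr (Subgroup.subgroupOfEquivOfLe hQ₀le).toEquiv, horb] at hos
  obtain ⟨g, hg⟩ := MulAction.exists_smul_eq A P Q₀
  have hPQ : Nat.card (f.ker ⊓ Subgroup.centralizer ((Q₀ : Subgroup A) : Set A) : Subgroup A) =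
      Nat.card (f.ker ⊓ Subgroup.centralizer ((P : Subgroup A) : Set A) : Subgroup A) := by
    rw [← hg, smul_coe]
    refine (Nat.card_congr (?_ :
      (f.ker ⊓ Subgroup.centralizer ((P : Subgroup A) : Set A) : Subgroup A) ≃
      (f.ker ⊓ Subgroup.centralizer ((((P : Subgroup A).map (MulAut.conj g).toMonoidHom : Subgroup A)) : Set A) : Subgroup A))).symm
    refine
      { toFun := fun z => ⟨g * z.1 * g⁻¹, f.normal_ker.conj_mem _ z.2.1 g,
          Subgroup.mem_centralizer_iff.mpr ?_⟩
        invFun := fun z => ⟨g⁻¹ * z.1 * g, by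
            simpa using f.normal_ker.conj_mem _ z.2.1 g⁻¹,
          Subgroup.mem_centralizer_iff.mpr ?_⟩
        left_inv := fun z => Subtype.ext (by simp [mul_assoc])
        right_inv := fun z => Subtype.ext (by simp [mul_assoc]) }
    · rintro _ ⟨q, hq, rfl⟩
      have := Subgroup.mem_centralizer_iff.mp z.2.2 q hq
      simp only [MulEquiv.coe_toMonoidHom, MulAut.conj_apply]
      calc g * q * g⁻¹ * (g * (z : A) * g⁻¹) = g * (q * z) * g⁻¹ := by group
        _ = g * z * g⁻¹ * (g * q * g⁻¹) := by rw [this]; group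
    · intro q hq
      have := Subgroup.mem_centralizer_iff.mp z.2.2 (g * q * g⁻¹) ⟨q, hq, rfl⟩
      calc q * (g⁻¹ * (z : A) * g) = g⁻¹ * (g * q * g⁻¹ * z) * g := by group
        _ = g⁻¹ * z * g * q := by rw [this]; group
  rw [← hPQ]
  exact hos

theorem numThrough_step_coprime (f : A →* B) (hf : Function.Surjective f)
    (hker : (Nat.card f.ker).Coprime p) (P : Sylow p A) (x : A) (hx : x ∈ (P : Subgroup A)) :
    numThrough p x * Nat.card (f.ker ⊓ Subgroup.centralizer ((P : Subgroup A) : Set A) : Subgroup A) =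
      numThrough p (f x) * Nat.card (f.ker ⊓ Subgroup.centralizer ({x} : Set A) : Subgroup A) := by
  set c := Nat.card (f.ker ⊓ Subgroup.centralizer ((P : Subgroup A) : Set A) : Subgroup A) with hc
  set m := Nat.card (f.ker ⊓ Subgroup.centralizer ({x} : Set A) : Subgroup A) with hm
  have hdvd : c ∣ m :=
    Subgroup.card_dvd_of_le (inf_le_inf_left _ (Subgroup.centralizer_le (Set.singleton_subset_iff.mpr hx)))
  have hxp : ∃ k : ℕ, x ^ p ^ k = 1 := by
    obtain ⟨k, hk⟩ := P.2 ⟨x, hx⟩
    exact ⟨k, by simpa using congrArg Subtype.val hk⟩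
  unfold numThrough
  rw [CfsgLib.SubnFiber.card_subtype_fibers (fun Q : Sylow p A => Q.mapSurjective hf) _
    (fun Qb : Sylow p B => f x ∈ (Qb : Subgroup B)) (m / c) (fun Q hQ => by
      rw [Sylow.coe_mapSurjective]; exact ⟨x, hQ, rfl⟩) (fun Qb hQb => by
      rw [hm, ← card_fiber f hf hker P x Qb hxp hQb, Nat.mul_div_cancel _ Nat.card_pos]),
    mul_comm (m / c), mul_assoc, Nat.div_mul_cancel hdvd]

theorem step (f : A →* B) (hf : Function.Surjective f)
    (hker : IsPGroup p f.ker ∨ (Nat.card f.ker).Coprime p) (h : Prop' p B) : Prop' p A := by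
  classical
  intro P instP
  set Pb := P.mapSurjective hf with hPb
  have hmem : ∀ x ∈ (P : Subgroup A), f x ∈ (Pb : Subgroup B) := fun x hx => by
    rw [hPb, Sylow.coe_mapSurjective]; exact ⟨x, hx, rfl⟩
  letI := Fintype.ofFinite ↥(Pb : Subgroup B)
  have hB := h Pb
  let φ : ↥(P : Subgroup A) →* ↥(Pb : Subgroup B) :=
    { toFun := fun x => ⟨f x, hmem x x.2⟩
      map_one' := Subtype.ext (map_one f)
      map_mul' := fun x y => Subtype.ext (map_mul f _ _) }
  have hφ : Function.Surjective φ := by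
    rintro ⟨y, hy⟩
    rw [hPb, Sylow.coe_mapSurjective] at hy
    obtain ⟨x, hx, rfl⟩ := hy
    exact ⟨⟨x, hx⟩, rfl⟩
  rcases hker with hp | hc
  · have hn : Nat.card (Sylow p A) = Nat.card (Sylow p B) := by
      rw [← numThrough_one, ← numThrough_one, numThrough_step_pgroup f hf hp, map_one]
    have hfib : ∀ y : ↥(Pb : Subgroup B),
        (Finset.univ.filter fun x => φ x = y).card = Nat.card φ.ker := by
      intro y
      obtain ⟨x₀, rfl⟩ := hφ y
      rw [← Fintype.card_subtype, ← Nat.card_eq_fintype_card]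
      exact Nat.card_congr
        { toFun := fun x => ⟨x₀⁻¹ * x.1, by rw [MonoidHom.mem_ker, map_mul, map_inv, x.2, inv_mul_cancel]⟩
          invFun := fun k => ⟨x₀ * k, by rw [map_mul, k.2, mul_one]⟩
          left_inv := fun x => by simp
          right_inv := fun k => by simp }
    have hprod : (∏ x : ↥(P : Subgroup A), numThrough p (x : A)) =
        (∏ y : ↥(Pb : Subgroup B), numThrough p (y : B)) ^ Nat.card φ.ker := by
      rw [← Finset.prod_fiberwise_of_maps_to (g := φ) (fun x _ => Finset.mem_univ _), ← Finset.prod_pow]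
      refine Finset.prod_congr rfl fun y _ => ?_
      rw [← hfib y]
      refine Finset.prod_eq_pow_card fun x hx => ?_
      rw [numThrough_step_pgroup f hf hp]
      exact congrArg (fun z : ↥(Pb : Subgroup B) => numThrough p (z : B)) (Finset.mem_filter.mp hx).2
    have hcard : Nat.card (P : Subgroup A) = Nat.card (Pb : Subgroup B) * Nat.card φ.ker := by
      rw [Subgroup.card_eq_card_quotient_mul_card_subgroup φ.ker,
        Nat.card_congr (QuotientGroup.quotientKerEquivOfSurjective φ hφ).toEquiv]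
    rw [hn, hprod, hcard, ← pow_mul, mul_comm (Nat.card φ.ker) p, pow_mul, pow_mul]
    exact Nat.pow_le_pow_left hB _
  · have hφi : Function.Injective φ := (injective_iff_map_eq_one φ).mpr fun x hx =>
      Subtype.ext (eq_one_of_ker hc P x.2 (congrArg Subtype.val hx))
    have hcard : Nat.card (Pb : Subgroup B) = Nat.card (P : Subgroup A) :=
      (Nat.card_eq_of_bijective φ ⟨hφi, hφ⟩).symm
    have hprodB : ∏ x : ↥(P : Subgroup A), numThrough p (f x) = ∏ y : ↥(Pb : Subgroup B), numThrough p (y : B) :=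
      Fintype.prod_bijective φ ⟨hφi, hφ⟩ _ _ (fun x => rfl)
    set c := Nat.card (f.ker ⊓ Subgroup.centralizer ((P : Subgroup A) : Set A) : Subgroup A) with hcdef
    have hbound : CfsgLib.FixProd.Bound p (P : Subgroup A) f.ker :=
      CfsgLib.FixProd.bound (Nat.card A + 1) _ _ (Nat.lt_succ_self _) P.2
        (Subgroup.normalizer_eq_top (H := f.ker) ▸ le_top) hc
    have hpf : CfsgLib.FixProd.prodFix (P : Subgroup A) f.ker =
        ∏ x : ↥(P : Subgroup A), Nat.card (f.ker ⊓ Subgroup.centralizer ({(x : A)} : Set A) : Subgroup A) := by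
      unfold CfsgLib.FixProd.prodFix
      exact Finset.prod_subtype _ (fun x => by rw [Set.Finite.mem_toFinset]; rfl) _
    unfold CfsgLib.FixProd.Bound at hbound
    rw [hpf, ← hcdef] at hbound
    have hn : Nat.card (Sylow p A) * c = Nat.card (Sylow p B) * Nat.card f.ker := by
      have h1 := numThrough_step_coprime f hf hc P 1 (one_mem _)
      rw [numThrough_one, map_one, numThrough_one] at h1
      rw [hcdef, h1]
      congr 1
      rw [inf_eq_left.mpr fun z _ => CfsgLib.FixProd.mem_centralizer_singleton_iff'.mpr (by simp)]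
    refine Nat.le_of_mul_le_mul_right (?_ : _ * c ^ (p * Nat.card (P : Subgroup A)) ≤ _) (pow_pos Nat.card_pos _)
    calc (∏ x : ↥(P : Subgroup A), numThrough p (x : A)) ^ p * c ^ (p * Nat.card (P : Subgroup A))
        = (∏ x : ↥(P : Subgroup A), numThrough p (x : A) * c) ^ p := by
          rw [Finset.prod_mul_distrib, Finset.prod_const, Finset.card_univ, ← Nat.card_eq_fintype_card,
            mul_pow, ← pow_mul, mul_comm p]
      _ = (∏ y : ↥(Pb : Subgroup B), numThrough p (y : B)) ^ p *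
            (∏ x : ↥(P : Subgroup A),
              Nat.card (f.ker ⊓ Subgroup.centralizer ({(x : A)} : Set A) : Subgroup A)) ^ p := by
          rw [← hprodB, ← mul_pow, ← Finset.prod_mul_distrib]
          congr 1
          exact Finset.prod_congr rfl fun x _ => numThrough_step_coprime f hf hc P x x.2
      _ ≤ Nat.card (Sylow p B) ^ Nat.card (P : Subgroup A) *
            (c ^ ((p - 1) * Nat.card (P : Subgroup A)) * Nat.card f.ker ^ Nat.card (P : Subgroup A)) :=
          Nat.mul_le_mul (hcard ▸ hB) hbound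
      _ = Nat.card (Sylow p A) ^ Nat.card (P : Subgroup A) * c ^ (p * Nat.card (P : Subgroup A)) := by
          rw [mul_left_comm, ← mul_pow, ← hn, mul_pow, mul_left_comm, ← pow_add, ← add_one_mul,
            Nat.sub_add_cancel (Fact.out : p.Prime).one_lt.le]

theorem of_pSolvable {G : Type*} [Group G] [Finite G] (hG : Cfsg.IsPSolvable p G) : Prop' p G := by
  classical
  obtain ⟨n, M, h0, hn, hmono, hnorm, hfac⟩ := hG
  haveI := hnorm
  have key : ∀ i : Fin (n + 1), Prop' p (G ⧸ M i) := by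
    refine Fin.reverseInduction ?_ fun i ih => ?_
    · intro P _
      haveI : Subsingleton (G ⧸ M (Fin.last n)) := by rw [hn]; exact QuotientGroup.subsingleton_quotient_top
      have h1 : ∀ x : ↥(P : Subgroup (G ⧸ M (Fin.last n))), numThrough p (x : G ⧸ M (Fin.last n)) = 1 := by
        intro x
        unfold numThrough
        rw [Nat.card_eq_one_iff_unique]
        exact ⟨⟨fun a b => Subtype.ext (Sylow.ext (Subsingleton.elim _ _))⟩,
          ⟨⟨P, x.2⟩⟩⟩
      simp only [h1, Finset.prod_const_one, one_pow]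
      exact Nat.one_le_pow _ _ Nat.card_pos
    · have hle : M i.castSucc ≤ M i.succ := hmono (Fin.castSucc_lt_succ (i := i)).le
      let f : G ⧸ M i.castSucc →* G ⧸ M i.succ := QuotientGroup.map _ _ (MonoidHom.id G) hle
      have hf : Function.Surjective f := fun y => by
        obtain ⟨x, rfl⟩ := QuotientGroup.mk'_surjective _ y
        exact ⟨QuotientGroup.mk' _ x, rfl⟩
      refine step f hf ?_ ih
      have hcard : Nat.card f.ker = (M i.castSucc).relIndex (M i.succ) := by
        have h1 : Nat.card (G ⧸ M i.castSucc) = Nat.card f.ker * Nat.card (G ⧸ M i.succ) := by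
          rw [Subgroup.card_eq_card_quotient_mul_card_subgroup f.ker,
            Nat.card_congr (QuotientGroup.quotientKerEquivOfSurjective f hf).toEquiv, mul_comm]
        rw [← Subgroup.index_eq_card, ← Subgroup.index_eq_card, ← Subgroup.relIndex_mul_index hle] at h1
        exact (Nat.eq_of_mul_eq_mul_right (Nat.pos_of_ne_zero Subgroup.index_ne_zero_of_finite) h1).symm
      rcases hfac i with ⟨m, hm⟩ | hco
      · exact Or.inl (IsPGroup.of_card (hcard.trans hm))
      · exact Or.inr (hcard ▸ hco)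
  refine step (QuotientGroup.mk' (M 0)) (QuotientGroup.mk'_surjective _) (Or.inr ?_) (key 0)
  rw [QuotientGroup.ker_mk', h0, Subgroup.card_bot]
  exact Nat.coprime_one_left p

/-- Lower bound for the number of `p`-elements of a `p`-solvable group. -/
theorem card_pElements {G : Type*} [Group G] [Finite G] (hG : Cfsg.IsPSolvable p G) (P : Sylow p G) :
    Nat.card (P : Subgroup G) ^ p * Nat.card (Sylow p G) ^ (p - 1) ≤
      Nat.card {g : G // ∃ k : ℕ, orderOf g = p ^ k} ^ p := by
  classical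
  haveI := Fintype.ofFinite G
  haveI := Fintype.ofFinite (Sylow p G)
  haveI := Fintype.ofFinite ↥(P : Subgroup G)
  have hp : p.Prime := Fact.out
  set n := Nat.card (Sylow p G) with hn
  set m := Nat.card (P : Subgroup G) with hm
  have hprod := of_pSolvable hG P
  set S := Finset.univ.filter fun g : G => ∃ k : ℕ, orderOf g = p ^ k with hS
  have hu : Nat.card {g : G // ∃ k : ℕ, orderOf g = p ^ k} = S.card := by
    rw [Nat.card_eq_fintype_card, Fintype.card_subtype]
  rw [hu]
  set w : G → ℝ := fun g => ((numThrough p g : ℝ))⁻¹ with hw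
  have hpos : ∀ g ∈ S, 0 < numThrough p g := by
    intro g hg
    obtain ⟨k, hk⟩ := (Finset.mem_filter.mp hg).2
    obtain ⟨Q, hQ⟩ := (IsPGroup.of_card (p := p) (n := k) (by rw [Nat.card_zpowers]; exact hk) :
      IsPGroup p (Subgroup.zpowers g)).exists_le_sylow
    haveI : Nonempty {Q : Sylow p G // g ∈ (Q : Subgroup G)} := ⟨⟨Q, hQ (Subgroup.mem_zpowers g)⟩⟩
    exact Nat.card_pos
  have hmemS : ∀ (Q : Sylow p G), ∀ g ∈ (Q : Subgroup G), g ∈ S := fun Q g hg => by
    refine Finset.mem_filter.mpr ⟨Finset.mem_univ _, ?_⟩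
    obtain ⟨k, hk⟩ := IsPGroup.iff_orderOf.mp Q.2 ⟨g, hg⟩
    exact ⟨k, by rwa [Subgroup.orderOf_mk] at hk⟩
  set σ : ℝ := ∑ x : ↥(P : Subgroup G), w x with hσ
  have hcount : (S.card : ℝ) = n * σ := by
    calc (S.card : ℝ) = ∑ g ∈ S, ∑ Q : Sylow p G, if g ∈ (Q : Subgroup G) then w g else 0 := by
          rw [Finset.cast_card]
          refine Finset.sum_congr rfl fun g hg => ?_
          rw [← Finset.sum_filter, Finset.sum_const, ← Fintype.card_subtype, ← Nat.card_eq_fintype_card,
            nsmul_eq_mul]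
          exact (mul_inv_cancel₀ (Nat.cast_ne_zero.mpr (hpos g hg).ne')).symm
      _ = ∑ Q : Sylow p G, ∑ g ∈ S, if g ∈ (Q : Subgroup G) then w g else 0 := Finset.sum_comm
      _ = ∑ _Q : Sylow p G, σ := by
          refine Finset.sum_congr rfl fun Q _ => ?_
          obtain ⟨h, rfl⟩ := MulAction.exists_smul_eq G P Q
          rw [← Finset.sum_filter, hσ]
          refine (Finset.sum_bij (fun (x : ↥(P : Subgroup G)) _ => h * (x : G) * h⁻¹) ?_ ?_ ?_ ?_).symm
          · intro x _
            have hmem : h * (x : G) * h⁻¹ ∈ ((h • P : Sylow p G) : Subgroup G) := by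
              rw [smul_coe]; exact ⟨x, x.2, rfl⟩
            exact Finset.mem_filter.mpr ⟨hmemS _ _ hmem, hmem⟩
          · intro x _ y _ e
            exact Subtype.ext (mul_left_cancel (mul_right_cancel e))
          · intro g hg
            have hgQ := (Finset.mem_filter.mp hg).2
            rw [smul_coe] at hgQ
            obtain ⟨y, hy, rfl⟩ := hgQ
            exact ⟨⟨y, hy⟩, Finset.mem_univ _, rfl⟩
          · intro x _
            simp only [hw, numThrough_conj]
      _ = n * σ := by rw [Finset.sum_const, Finset.card_univ, hn, Nat.card_eq_fintype_card, nsmul_eq_mul]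
  have hwpos : ∀ x : ↥(P : Subgroup G), 0 < w x := fun x =>
    inv_pos.mpr (Nat.cast_pos.mpr (hpos _ (hmemS P _ x.2)))
  have hm0 : (0 : ℝ) < m := Nat.cast_pos.mpr Nat.card_pos
  have hgm : (∏ x : ↥(P : Subgroup G), w x) ≤ (σ / m) ^ m := by
    have h := Real.geom_mean_le_arith_mean Finset.univ (fun _ : ↥(P : Subgroup G) => (1 : ℝ))
      (fun x => w x) (fun _ _ => zero_le_one) (by simpa using Fintype.card_pos) (fun x _ => (hwpos x).le)
    simp only [Real.rpow_one, one_mul, Finset.sum_const, Finset.card_univ, nsmul_eq_mul, mul_one] at h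
    rw [← Nat.card_eq_fintype_card, ← hm] at h
    have h2 := pow_le_pow_left₀ (Real.rpow_nonneg (Finset.prod_nonneg fun x _ => (hwpos x).le) _) h m
    rwa [← Real.rpow_natCast _ m, ← Real.rpow_mul (Finset.prod_nonneg fun x _ => (hwpos x).le),
      inv_mul_cancel₀ hm0.ne', Real.rpow_one] at h2
  set PP := ∏ x : ↥(P : Subgroup G), numThrough p (x : G) with hPP
  have hPPinv : (∏ x : ↥(P : Subgroup G), w x) = (PP : ℝ)⁻¹ := by
    rw [hPP, Nat.cast_prod, ← Finset.prod_inv_distrib]
  have hPP0 : (0 : ℝ) < PP := Nat.cast_pos.mpr (Finset.prod_pos fun x _ => hpos _ (hmemS P _ x.2))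
  have hn0 : (0 : ℝ) < n := Nat.cast_pos.mpr Nat.card_pos
  have hσ0 : 0 ≤ σ := Finset.sum_nonneg fun x _ => (hwpos x).le
  have h1 : (m : ℝ) ^ m ≤ σ ^ m * PP := by
    rw [hPPinv, div_pow, le_div_iff₀ (pow_pos hm0 _), inv_mul_le_iff₀ hPP0] at hgm
    rwa [mul_comm]
  have h2 : ((m : ℝ) ^ p * (n : ℝ) ^ (p - 1)) ^ m ≤ ((S.card : ℝ) ^ p) ^ m := by
    have h3 : ((m : ℝ) ^ m) ^ p ≤ (σ ^ m * PP) ^ p := pow_le_pow_left₀ (by positivity) h1 p
    have h4 : (PP : ℝ) ^ p ≤ (n : ℝ) ^ m := by exact_mod_cast hprod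
    have h5 : ((m : ℝ) ^ m) ^ p ≤ (σ ^ m) ^ p * (n : ℝ) ^ m := by
      rw [mul_pow] at h3
      exact h3.trans (mul_le_mul_of_nonneg_left h4 (by positivity))
    have hnp : (n : ℝ) ^ p = (n : ℝ) ^ (p - 1) * n := by
      rw [← pow_succ, Nat.sub_add_cancel hp.one_lt.le]
    calc ((m : ℝ) ^ p * (n : ℝ) ^ (p - 1)) ^ m = ((m : ℝ) ^ m) ^ p * ((n : ℝ) ^ (p - 1)) ^ m := by
          rw [mul_pow, ← pow_mul, ← pow_mul, mul_comm p m, pow_mul]
      _ ≤ (σ ^ m) ^ p * (n : ℝ) ^ m * ((n : ℝ) ^ (p - 1)) ^ m :=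
          mul_le_mul_of_nonneg_right h5 (by positivity)
      _ = ((S.card : ℝ) ^ p) ^ m := by
          rw [hcount, mul_pow, hnp, mul_pow, mul_pow, ← pow_mul σ, ← pow_mul σ, mul_comm p m]
          ring
  have h6 := (pow_le_pow_iff_left₀ (by positivity) (by positivity) (Nat.card_pos (α := ↥(P : Subgroup G))).ne').mp h2
  exact_mod_cast h6

end CfsgLib.SylowThrough
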