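import Cfsg.Agent.Lib.SymSylow

/-!
Overgroups of Sylow 2-subgroups of symmetric and alternating groups: there is a unique maximal
one exactly in degree `2^k + 1`.
-/

set_option autoImplicit false

universe u

namespace CfsgLib.SymSylow

open Equiv

variable {α : Type u} [Fintype α] [DecidableEq α]

/-- The three-cycle `x ↦ y ↦ z`. -/
def tri (x y z : α) : Perm α := swap x y * swap y z

theorem tri_apply {x y z : α} (hxy : x ≠ y) (hxz : x ≠ z) (hyz : y ≠ z) :
    tri x y z x = y ∧ tri x y z y = z ∧ tri x y z z = x := by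
  refine ⟨?_, ?_, ?_⟩
  · rw [tri, Perm.mul_apply, swap_apply_of_ne_of_ne hxy hxz, swap_apply_left]
  · rw [tri, Perm.mul_apply, swap_apply_left, swap_apply_of_ne_of_ne hxz.symm hyz.symm]
  · rw [tri, Perm.mul_apply, swap_apply_right, swap_apply_right]

theorem tri_apply_of_ne {x y z a : α} (hx : a ≠ x) (hy : a ≠ y) (hz : a ≠ z) :
    tri x y z a = a := by
  rw [tri, Perm.mul_apply, swap_apply_of_ne_of_ne hy hz, swap_apply_of_ne_of_ne hx hy]

theorem tri_conj (g : Perm α) (x y z : α) : g * tri x y z * g⁻¹ = tri (g x) (g y) (g z) := by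
  rw [tri, tri, Equiv.swap_apply_apply, Equiv.swap_apply_apply]; group

theorem sign_tri {x y z : α} (hxy : x ≠ y) (hyz : y ≠ z) : Perm.sign (tri x y z) = 1 :=
  sign_swap_mul_swap hxy hyz

theorem tri_inv (x y z : α) : (tri x y z)⁻¹ = tri z y x := by
  rw [tri, tri, _root_.mul_inv_rev, swap_inv, swap_inv, swap_comm y z, swap_comm x y]

theorem tri_rot {x y z : α} (hxy : x ≠ y) (hxz : x ≠ z) (hyz : y ≠ z) :
    tri y z x = tri x y z := by
  obtain ⟨h1, h2, h3⟩ := tri_apply hxy hxz hyz
  obtain ⟨k1, k2, k3⟩ := tri_apply hyz hxy.symm hxz.symm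
  ext a
  rcases eq_or_ne a x with rfl | ha
  · rw [h1, k3]
  rcases eq_or_ne a y with rfl | hb
  · rw [h2, k1]
  rcases eq_or_ne a z with rfl | hc
  · rw [h3, k2]
  · rw [tri_apply_of_ne ha hb hc, tri_apply_of_ne hb hc ha]

theorem tri_mul_tri {o x y z : α} (hox : o ≠ x) (hoy : o ≠ y) (hoz : o ≠ z) (hxy : x ≠ y)
    (hxz : x ≠ z) (hyz : y ≠ z) : tri o x y * tri o y z = tri x y z := by
  obtain ⟨h1, h2, h3⟩ := tri_apply hox hoy hxy
  obtain ⟨k1, k2, k3⟩ := tri_apply hoy hoz hyz
  obtain ⟨e1, e2, e3⟩ := tri_apply hxy hxz hyz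
  ext a
  rw [Perm.mul_apply]
  rcases eq_or_ne a o with rfl | ho
  · rw [k1, h3, tri_apply_of_ne hox hoy hoz]
  rcases eq_or_ne a x with rfl | ha
  · rw [tri_apply_of_ne hox.symm hxy hxz, h2, e1]
  rcases eq_or_ne a y with rfl | hb
  · rw [k2, tri_apply_of_ne hoz.symm hxz.symm hyz.symm, e2]
  rcases eq_or_ne a z with rfl | hc
  · rw [k3, h1, e3]
  · rw [tri_apply_of_ne ho hb hc, tri_apply_of_ne ho ha hb, tri_apply_of_ne ha hb hc]

/-- `M` contains all three-cycles on `L`. -/
def TriFull (M : Subgroup (Perm α)) (L : Set α) : Prop :=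
  ∀ x ∈ L, ∀ y ∈ L, ∀ z ∈ L, x ≠ y → x ≠ z → y ≠ z → tri x y z ∈ M

theorem TriFull.image {M : Subgroup (Perm α)} {L : Set α} (h : TriFull M L) {g : Perm α}
    (hg : g ∈ M) : TriFull M (g '' L) := by
  rintro _ ⟨x, hx, rfl⟩ _ ⟨y, hy, rfl⟩ _ ⟨z, hz, rfl⟩ h1 h2 h3
  rw [← tri_conj]
  exact M.mul_mem (M.mul_mem hg (h x hx y hy z hz (fun e => h1 (e ▸ rfl)) (fun e => h2 (e ▸ rfl))
    (fun e => h3 (e ▸ rfl)))) (M.inv_mem hg)

theorem TriFull.union {M : Subgroup (Perm α)} {A B : Set α} (hA : TriFull M A) (hB : TriFull M B)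
    {o : α} (hoA : o ∈ A) (hoB : o ∈ B) (hA3 : 3 ≤ A.ncard) (hB3 : 3 ≤ B.ncard) :
    TriFull M (A ∪ B) := by
  have mixed : ∀ a ∈ A, ∀ b ∈ B, a ≠ o → b ≠ o → a ≠ b → tri o a b ∈ M := by
    intro a ha b hb hao hbo hab
    by_cases haB : a ∈ B
    · exact hB o hoB a haB b hb hao.symm hbo.symm hab
    by_cases hbA : b ∈ A
    · exact hA o hoA a ha b hbA hao.symm hbo.symm hab
    obtain ⟨a', ha', ha'n⟩ : ∃ a' ∈ A, a' ∉ ({o, a} : Set α) :=
      Set.exists_mem_notMem_of_ncard_lt_ncard (lt_of_le_of_lt (Set.ncard_pair hao.symm).le hA3)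
    obtain ⟨b', hb', hb'n⟩ : ∃ b' ∈ B, b' ∉ ({o, b} : Set α) :=
      Set.exists_mem_notMem_of_ncard_lt_ncard (lt_of_le_of_lt (Set.ncard_pair hbo.symm).le hB3)
    simp only [Set.mem_insert_iff, Set.mem_singleton_iff, not_or] at ha'n hb'n
    have ha'b : a' ≠ b := fun e => hbA (e ▸ ha')
    have hab' : a ≠ b' := fun e => haB (e ▸ hb')
    have t1 := hA o hoA a ha a' ha' hao.symm (Ne.symm ha'n.1) (Ne.symm ha'n.2)
    have h1 := hB o hoB b hb b' hb' hbo.symm (Ne.symm hb'n.1) (Ne.symm hb'n.2)
    obtain ⟨q1, q2, q3⟩ := tri_apply hbo.symm (Ne.symm hb'n.1) (Ne.symm hb'n.2)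
    have hc := M.mul_mem (M.mul_mem h1 t1) (M.inv_mem h1)
    rw [tri_conj, q1, tri_apply_of_ne hao hab hab'] at hc
    by_cases he : a' = b'
    · rw [he, q3] at hc
      rw [← tri_inv] at hc
      have := M.inv_mem hc
      rwa [inv_inv] at this
    · rw [tri_apply_of_ne ha'n.1 ha'b he] at hc
      have t2 := hA o hoA a' ha' a ha (Ne.symm ha'n.1) hao.symm ha'n.2
      obtain ⟨r1, r2, r3⟩ := tri_apply (Ne.symm ha'n.1) hao.symm ha'n.2
      have hd := M.mul_mem (M.mul_mem t2 hc) (M.inv_mem t2)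
      rw [tri_conj, r3, r2, tri_apply_of_ne hbo ha'b.symm hab.symm] at hd
      rw [tri_rot hbo hab.symm hao.symm]
      exact hd
  have ball : ∀ x ∈ A ∪ B, ∀ y ∈ A ∪ B, x ≠ o → y ≠ o → x ≠ y → tri o x y ∈ M := by
    rintro x (hx | hx) y (hy | hy) hxo hyo hxy
    · exact hA o hoA x hx y hy hxo.symm hyo.symm hxy
    · exact mixed x hx y hy hxo hyo hxy
    · have := M.inv_mem (mixed y hy x hx hyo hxo hxy.symm)
      rwa [tri_inv, tri_rot hxo.symm hyo.symm hxy] at this
    · exact hB o hoB x hx y hy hxo.symm hyo.symm hxy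
  intro x hx y hy z hz hxy hxz hyz
  rcases eq_or_ne x o with rfl | hxo
  · exact ball y hy z hz hxy.symm hxz.symm hyz
  rcases eq_or_ne y o with rfl | hyo
  · rw [← tri_rot hxy hxz hyz]
    exact ball z hz x hx hyz.symm hxy hxz.symm
  rcases eq_or_ne z o with rfl | hzo
  · rw [tri_rot hxz.symm hyz.symm hxy]
    exact ball x hx y hy hxo hyo hxy
  · rw [← tri_mul_tri hxo.symm hyo.symm hzo.symm hxy hxz hyz]
    exact M.mul_mem (ball x hx y hy hxo hyo hxy) (ball y hy z hz hyo hzo hyz)

theorem alternatingGroup_le_of_triFull {M : Subgroup (Perm α)} (h : TriFull M Set.univ) :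
    alternatingGroup α ≤ M := by
  rw [← Perm.closure_three_cycles_eq_alternating, Subgroup.closure_le]
  intro σ hσ
  rw [Set.mem_setOf_eq] at hσ
  obtain ⟨a, b, c, hab, hac, hbc, hs⟩ : ∃ a b c, a ≠ b ∧ a ≠ c ∧ b ≠ c ∧
      σ = tri a b c := by
    obtain ⟨a, b, c, hab, hac, hbc, hs⟩ := Finset.card_eq_three.mp hσ.card_support
    have mem : ∀ x, x = a ∨ x = b ∨ x = c ↔ σ x ≠ x := fun x => by
      rw [← Perm.mem_support, hs]; simp
    have ha1 : σ a ≠ a := (mem a).mp (Or.inl rfl)
    have ha2 : σ (σ a) ≠ σ a := fun e => ha1 (σ.injective e)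
    have ha3 : σ (σ a) ≠ a := by
      intro e
      have h3 : (σ ^ 3) a = a := by
        rw [← hσ.orderOf, pow_orderOf_eq_one]; rfl
      simp only [pow_succ, pow_zero, one_mul, Perm.mul_apply, e] at h3
      exact ha1 h3
    refine ⟨a, σ a, σ (σ a), ha1.symm, ha3.symm, ha2.symm, ?_⟩
    have h3 : σ (σ (σ a)) = a := by
      have h3 : (σ ^ 3) a = a := by
        rw [← hσ.orderOf, pow_orderOf_eq_one]; rfl
      simpa only [pow_succ, pow_zero, one_mul, Perm.mul_apply] using h3
    obtain ⟨t1, t2, t3⟩ := tri_apply ha1.symm ha3.symm ha2.symm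
    ext x
    rcases eq_or_ne x a with rfl | x1
    · rw [t1]
    rcases eq_or_ne x (σ a) with rfl | x2
    · rw [t2]
    rcases eq_or_ne x (σ (σ a)) with rfl | x3
    · rw [t3, h3]
    rw [tri_apply_of_ne x1 x2 x3]
    by_contra hx
    have hsub : ({x, a, σ a, σ (σ a)} : Finset α) ⊆ σ.support := by
      intro w hw
      simp only [Finset.mem_insert, Finset.mem_singleton] at hw
      rw [Perm.mem_support]
      rcases hw with rfl | rfl | rfl | rfl
      · exact hx
      · exact ha1
      · exact ha2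
      · exact fun e => ha2 (σ.injective e)
    have := Finset.card_le_card hsub
    rw [hσ.card_support, Finset.card_insert_of_notMem (by simp [x1, x2, x3]),
      Finset.card_eq_three.mpr ⟨a, σ a, σ (σ a), ha1.symm, ha3.symm, ha2.symm, rfl⟩] at this
    omega
  exact hs ▸ h a trivial b trivial c trivial hab hac hbc

/-- A property of growing full sets. -/
theorem triFull_univ_of_step {M : Subgroup (Perm α)} {L₀ : Set α} (h₀ : TriFull M L₀)
    (step : ∀ L, L₀ ⊆ L → TriFull M L → L ≠ Set.univ → ∃ L', L ⊂ L' ∧ TriFull M L') :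
    TriFull M Set.univ := by
  obtain ⟨L, hle, hmax⟩ := Finite.exists_le_maximal (p := fun L => L₀ ⊆ L ∧ TriFull M L)
    (⟨subset_rfl, h₀⟩ : L₀ ⊆ L₀ ∧ TriFull M L₀)
  by_contra hc
  have hne : L ≠ Set.univ := fun e => hc (e ▸ hmax.1.2)
  obtain ⟨L', hlt, hL'⟩ := step L hle hmax.1.2 hne
  exact hlt.2 (hmax.2 ⟨hle.trans hlt.1, hL'⟩ hlt.1)

/-- A subgroup two-transitive on the points with one three-cycle contains the alternating group. -/
theorem alternatingGroup_le_of_tri {M : Subgroup (Perm α)} {x y z : α} (hxy : x ≠ y)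
    (hxz : x ≠ z) (hyz : y ≠ z) (h : tri x y z ∈ M)
    (h2 : ∀ a b c, b ≠ a → c ≠ a → ∃ g ∈ M, g a = a ∧ g b = c) : alternatingGroup α ≤ M := by
  have h₀ : TriFull M {x, y, z} := by
    have h' := M.inv_mem h
    rw [tri_inv] at h'
    have e1 := tri_rot hxy hxz hyz
    have e2 := tri_rot hyz hxy.symm hxz.symm
    have e3 := tri_rot hyz.symm hxz.symm hxy.symm
    have e4 := tri_rot hxy.symm hyz hxz
    rintro a ha b hb c hc hab hac hbc
    simp only [Set.mem_insert_iff, Set.mem_singleton_iff] at ha hb hc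
    rcases ha with rfl | rfl | rfl <;> rcases hb with rfl | rfl | rfl <;>
      rcases hc with rfl | rfl | rfl <;>
      first
        | exact absurd rfl hab
        | exact absurd rfl hac
        | exact absurd rfl hbc
        | exact h
        | exact h'
        | exact e1 ▸ h
        | exact (e2.trans e1) ▸ h
        | exact e3 ▸ h'
        | exact (e4.trans e3) ▸ h'
  refine alternatingGroup_le_of_triFull (triFull_univ_of_step h₀ fun L hL hfull hne => ?_)
  obtain ⟨w, hw⟩ := (Set.ne_univ_iff_exists_notMem L).mp hne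
  have hx : x ∈ L := hL (by simp)
  have hy : y ∈ L := hL (by simp)
  obtain ⟨g, hg, gx, gy⟩ := h2 x y w hxy.symm (fun e => hw (e ▸ hx))
  have h3 : 3 ≤ L.ncard := by
    have e : ({x, y, z} : Set α).ncard = 3 := Set.ncard_eq_three.mpr ⟨x, y, z, hxy, hxz, hyz, rfl⟩
    exact e ▸ Set.ncard_le_ncard hL
  exact ⟨L ∪ g '' L, Set.ssubset_iff_subset_ne.mpr ⟨Set.subset_union_left,
    fun e => hw (e ▸ Or.inr ⟨y, hy, gy⟩)⟩,
    hfull.union (hfull.image hg) hx ⟨x, hx, gx⟩ h3
      (by rw [Set.ncard_image_of_injective _ g.injective]; exact h3)⟩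

/-- The stabilizer of a set. -/
def setStab (s : Set α) : Subgroup (Perm α) where
  carrier := {g | ∀ a, g a ∈ s ↔ a ∈ s}
  one_mem' := fun _ => Iff.rfl
  mul_mem' := fun {x y} hx hy a => (hx (y a)).trans (hy a)
  inv_mem' := fun {x} hx a => by
    have := hx (x⁻¹ a)
    simp only [Perm.coe_inv, apply_symm_apply] at this
    exact this.symm

/-- The permutations preserving the fibres of a map. -/
def fibreStab {β : Type*} (f : α → β) : Subgroup (Perm α) where
  carrier := {g | ∀ a b, f (g a) = f (g b) ↔ f a = f b}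
  one_mem' := fun _ _ => Iff.rfl
  mul_mem' := fun {x y} hx hy a b => (hx (y a) (y b)).trans (hy a b)
  inv_mem' := fun {x} hx a b => by
    have := hx (x⁻¹ a) (x⁻¹ b)
    simp only [Perm.coe_inv, apply_symm_apply] at this
    exact this.symm

theorem tri_mem_of_fibre {s : Set α} {x y z : α} (hxy : x ≠ y) (hxz : x ≠ z) (hyz : y ≠ z)
    (h1 : x ∈ s ↔ y ∈ s) (h2 : y ∈ s ↔ z ∈ s) : tri x y z ∈ setStab s := by
  obtain ⟨t1, t2, t3⟩ := tri_apply hxy hxz hyz
  intro a
  rcases eq_or_ne a x with rfl | ha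
  · rw [t1]; exact h1.symm
  rcases eq_or_ne a y with rfl | hb
  · rw [t2]; exact h2.symm
  rcases eq_or_ne a z with rfl | hc
  · rw [t3]; exact h1.trans h2
  · rw [tri_apply_of_ne ha hb hc]

theorem card_moved_eq {p : Perm α} (hp : IsPairing p) :
    (Finset.univ.filter fun a => p a ≠ a).card = 2 * Fintype.card (Pairs p) := by
  rw [← Finset.card_univ (α := Pairs p), mul_comm]
  let f : α → Option (Pairs p) := fun a =>
    if h : p a ≠ a then some ⟨s(a, p a), a, h, rfl⟩ else none
  rw [Finset.card_eq_sum_card_fiberwise (f := f) (t := Finset.univ.map ⟨some, Option.some_injective _⟩)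
    (fun a ha => by
      have h := (Finset.mem_filter.mp ha).2
      simp only [Finset.coe_map, Finset.coe_univ, Set.image_univ, Set.mem_range,
        Function.Embedding.coeFn_mk, f, dif_pos h]
      exact ⟨_, rfl⟩)]
  rw [Finset.sum_map, Finset.sum_const_nat]
  rintro ⟨_, a, ha, rfl⟩ -
  rw [Finset.card_eq_two]
  refine ⟨a, p a, Ne.symm ha, ?_⟩
  ext b
  simp only [Finset.mem_filter, Finset.mem_univ, true_and, Function.Embedding.coeFn_mk,
    Finset.mem_insert, Finset.mem_singleton, f]
  constructor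
  · rintro ⟨hb, h⟩
    rw [dif_pos hb, Option.some_inj] at h
    have := congrArg Subtype.val h
    rw [Sym2.eq_iff] at this
    exact this.imp And.left And.left
  · rintro (rfl | rfl)
    · exact ⟨ha, by rw [dif_pos ha]⟩
    · have hb : p (p a) ≠ p a := p.injective.ne ha
      refine ⟨hb, ?_⟩
      rw [dif_pos hb, Option.some_inj]
      apply Subtype.ext
      change s(p a, p (p a)) = s(a, p a)
      rw [hp.invol]; exact Sym2.eq_swap

theorem exists_fixed_iff_odd {p : Perm α} (hp : IsPairing p) :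
    (∃ u, p u = u) ↔ Odd (Fintype.card α) := by
  have h := card_moved_eq hp
  have hsum := Finset.card_filter_add_card_filter_not (s := (Finset.univ : Finset α))
    (fun a => p a = a)
  rw [Finset.card_univ] at hsum
  simp only [ne_eq] at h
  constructor
  · rintro ⟨u, hu⟩
    have h1 : (Finset.univ.filter fun a => p a = a).card = 1 := Finset.card_eq_one.mpr ⟨u, by
      ext b
      simp only [Finset.mem_filter, Finset.mem_univ, true_and, Finset.mem_singleton]
      exact ⟨fun hb => hp.fixed _ _ hb hu, fun e => e ▸ hu⟩⟩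
    exact ⟨Fintype.card (Pairs p), by omega⟩
  · rintro ⟨r, hr⟩
    obtain ⟨u, hu⟩ := Finset.card_pos.mp
      (show 0 < (Finset.univ.filter fun a => p a = a).card by omega)
    exact ⟨u, (Finset.mem_filter.mp hu).2⟩

theorem card_eq_of_fixed {p : Perm α} (hp : IsPairing p) :
    Fintype.card α = 2 * Fintype.card (Pairs p) + Fintype.card α % 2 := by
  have h := card_moved_eq hp
  have hsum := Finset.card_filter_add_card_filter_not (s := (Finset.univ : Finset α))
    (fun a => p a = a)
  rw [Finset.card_univ] at hsum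
  simp only [ne_eq] at h
  have h1 : (Finset.univ.filter fun a => p a = a).card ≤ 1 := Finset.card_le_one.mpr
    (fun x hx y hy => hp.fixed x y (Finset.mem_filter.mp hx).2 (Finset.mem_filter.mp hy).2)
  omega

theorem sylow_le_pairStab (T : Sylow 2 (Perm α)) {p : Perm α} (hp : IsPairing p)
    (hmem : ∀ a, swap a (p a) ∈ (T : Subgroup (Perm α))) :
    (T : Subgroup (Perm α)) ≤ pairStab p := fun _ hx a =>
  comm_of_normalizes T.2 hp hmem (fun _ hy => mul_mem (mul_mem hx hy) (inv_mem hx)) a

/-- In degree `2^k` a Sylow 2-subgroup is transitive. -/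
theorem sylow_transitive : ∀ (k : ℕ) {α : Type u} [Fintype α] [DecidableEq α],
    Fintype.card α = 2 ^ k → ∀ (T : Sylow 2 (Perm α)) (a b : α),
      ∃ x ∈ (T : Subgroup (Perm α)), x a = b := by
  intro k
  induction k with
  | zero =>
    intro α _ _ h T a b
    exact ⟨1, one_mem _, (Fintype.card_le_one_iff.mp h.le) _ _⟩
  | succ k ih =>
    intro α _ _ h T a b
    obtain ⟨p, hp, hmem⟩ := exists_pairing_mem T
    have hTC := sylow_le_pairStab T hp hmem
    have hmv : ∀ c, p c ≠ c := fun c hc => by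
      have := (exists_fixed_iff_odd hp).mp ⟨c, hc⟩
      rw [h] at this
      exact Nat.not_odd_iff_even.mpr (Nat.even_pow.mpr ⟨even_two, Nat.succ_ne_zero k⟩) this
    have hP : Fintype.card (Pairs p) = 2 ^ k := by
      have := card_eq_of_fixed hp
      rw [h, pow_succ] at this
      omega
    obtain ⟨y, hy, hab⟩ := ih hP ((T.subtype hTC).mapSurjective (pairHom_surjective hp))
      ⟨s(a, p a), a, hmv a, rfl⟩ ⟨s(b, p b), b, hmv b, rfl⟩
    obtain ⟨x, hx, rfl⟩ := hy
    have h' := congrArg Subtype.val hab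
    change Sym2.map x.1 s(a, p a) = s(b, p b) at h'
    rw [Sym2.map_mk, Sym2.eq_iff] at h'
    rcases h' with ⟨h1, -⟩ | ⟨h1, -⟩
    · exact ⟨x.1, hx, h1⟩
    · exact ⟨swap b (p b) * x.1, mul_mem (hmem b) hx, by rw [Perm.mul_apply, h1, swap_apply_right]⟩

/-- In degree `2^k + 1` a Sylow 2-subgroup is transitive on the moved points. -/
theorem sylow_transitive_moved (k : ℕ) (hk : 1 ≤ k) (h : Fintype.card α = 2 ^ k + 1)
    (T : Sylow 2 (Perm α)) {p : Perm α} (hp : IsPairing p)
    (hmem : ∀ a, swap a (p a) ∈ (T : Subgroup (Perm α))) {a b : α} (ha : p a ≠ a)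
    (hb : p b ≠ b) : ∃ x ∈ (T : Subgroup (Perm α)), x a = b := by
  have hTC := sylow_le_pairStab T hp hmem
  obtain ⟨k, rfl⟩ := Nat.exists_eq_add_of_le' hk
  have hP : Fintype.card (Pairs p) = 2 ^ k := by
    have := card_eq_of_fixed hp
    rw [h, pow_succ] at this
    omega
  obtain ⟨y, hy, hab⟩ := sylow_transitive k hP
    ((T.subtype hTC).mapSurjective (pairHom_surjective hp))
    ⟨s(a, p a), a, ha, rfl⟩ ⟨s(b, p b), b, hb, rfl⟩
  obtain ⟨x, hx, rfl⟩ := hy
  have h' := congrArg Subtype.val hab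
  change Sym2.map x.1 s(a, p a) = s(b, p b) at h'
  rw [Sym2.map_mk, Sym2.eq_iff] at h'
  rcases h' with ⟨h1, -⟩ | ⟨h1, -⟩
  · exact ⟨x.1, hx, h1⟩
  · exact ⟨swap b (p b) * x.1, mul_mem (hmem b) hx, by rw [Perm.mul_apply, h1, swap_apply_right]⟩

variable {p : Perm α}

/-- Exchanging two pairs. -/
theorem doubleSwap_mem_pairStab (hp : IsPairing p) {c z : α} (h1 : z ≠ c) (h2 : z ≠ p c)
    (hc : p c ≠ c) (hz : p z ≠ z) : swap c z * swap (p c) (p z) ∈ pairStab p := by
  have q1 : p c ≠ z := h2.symm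
  have q2 : p z ≠ c := fun e => h2 (by rw [← e, hp.invol])
  have e1 : (swap c z * swap (p c) (p z)) c = z := by
    rw [Perm.mul_apply, swap_apply_of_ne_of_ne (Ne.symm hc) (Ne.symm q2), swap_apply_left]
  have e2 : (swap c z * swap (p c) (p z)) z = c := by
    rw [Perm.mul_apply, swap_apply_of_ne_of_ne h2 (Ne.symm hz), swap_apply_right]
  have e3 : (swap c z * swap (p c) (p z)) (p c) = p z := by
    rw [Perm.mul_apply, swap_apply_left, swap_apply_of_ne_of_ne q2 hz]
  have e4 : (swap c z * swap (p c) (p z)) (p z) = p c := by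
    rw [Perm.mul_apply, swap_apply_right, swap_apply_of_ne_of_ne hc q1]
  intro a
  rcases eq_or_ne a c with rfl | a1
  · rw [e1, e3]
  rcases eq_or_ne a z with rfl | a2
  · rw [e2, e4]
  rcases eq_or_ne a (p c) with rfl | a3
  · rw [e3, hp.invol, hp.invol, e1]
  rcases eq_or_ne a (p z) with rfl | a4
  · rw [e4, hp.invol, hp.invol, e2]
  have b1 : p a ≠ p c := p.injective.ne a1
  have b2 : p a ≠ p z := p.injective.ne a2
  have b3 : p a ≠ c := fun e => a3 (by rw [← e, hp.invol])
  have b4 : p a ≠ z := fun e => a4 (by rw [← e, hp.invol])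
  rw [Perm.mul_apply, Perm.mul_apply, swap_apply_of_ne_of_ne a3 a4, swap_apply_of_ne_of_ne a1 a2,
    swap_apply_of_ne_of_ne b1 b2, swap_apply_of_ne_of_ne b3 b4]

section Uniqueness

variable {H : Type*} [Group H] (ι : H →* Perm α) (R : Subgroup H)

/-- What is needed of the ambient group: it is `S_n` or `A_n`. -/
structure Ambient (ι : H →* Perm α) (R : Subgroup H) (T : Sylow 2 (Perm α)) : Prop where
  range : alternatingGroup α ≤ ι.range
  le : R.map ι ≤ (T : Subgroup (Perm α))
  even : ∀ x ∈ (T : Subgroup (Perm α)), Perm.sign x = 1 → x ∈ R.map ι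
  full : ∀ M : Subgroup H, R ≤ M → alternatingGroup α ≤ M.map ι → M = ⊤

variable {ι R} {T : Sylow 2 (Perm α)}

theorem Ambient.ne_top (hA : Ambient ι R T) {K : Subgroup (Perm α)} {g : Perm α}
    (hg : Perm.sign g = 1) (hgK : g ∉ K) : K.comap ι ≠ ⊤ := by
  intro h
  obtain ⟨y, rfl⟩ := hA.range (Perm.mem_alternatingGroup.mpr hg)
  exact hgK (show y ∈ K.comap ι by rw [h]; trivial)

theorem Ambient.le_comap (hA : Ambient ι R T) {K : Subgroup (Perm α)}
    (h : (T : Subgroup (Perm α)) ≤ K) : R ≤ K.comap ι := fun x hx =>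
  h (hA.le ⟨x, hx, rfl⟩)

theorem Ambient.map_mem (hA : Ambient ι R T) {M : Subgroup H} {K : Subgroup (Perm α)}
    (h : K.comap ι ≤ M) {g : Perm α} (hg : Perm.sign g = 1) (hgK : g ∈ K) : g ∈ M.map ι := by
  obtain ⟨y, rfl⟩ := hA.range (Perm.mem_alternatingGroup.mpr hg)
  exact ⟨y, h hgK, rfl⟩

/-- Two proper overgroups that generate exclude a unique maximal overgroup. -/
theorem not_unique_of_generate [Finite H] (K₁ K₂ : Subgroup H) (h1 : R ≤ K₁) (h2 : R ≤ K₂)
    (h1' : K₁ ≠ ⊤) (h2' : K₂ ≠ ⊤) (hgen : ∀ M : Subgroup H, K₁ ≤ M → K₂ ≤ M → M = ⊤) :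
    ¬ ∃! M : Subgroup H, IsCoatom M ∧ R ≤ M := by
  rintro ⟨M, ⟨hM, -⟩, huniq⟩
  have key : ∀ K : Subgroup H, R ≤ K → K ≠ ⊤ → K ≤ M := by
    intro K hK hK'
    obtain ⟨N, hN, hKN⟩ := (eq_top_or_exists_le_coatom K).resolve_left hK'
    exact huniq N ⟨hN, hK.trans hKN⟩ ▸ hKN
  exact hM.1 (hgen M (key _ h1 h1') (key _ h2 h2'))

theorem unique_of_maximum [Finite H] (M₀ : Subgroup H) (h0 : R ≤ M₀) (h0' : M₀ ≠ ⊤)
    (hmax : ∀ M : Subgroup H, R ≤ M → M ≠ ⊤ → M ≤ M₀) :
    ∃! M : Subgroup H, IsCoatom M ∧ R ≤ M := by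
  refine ⟨M₀, ⟨⟨h0', fun M hM => ?_⟩, h0⟩, fun M ⟨hM, hRM⟩ => ?_⟩
  · by_contra h
    exact hM.not_ge (hmax M (h0.trans hM.le) h)
  · rcases eq_or_lt_of_le (hmax M hRM hM.1) with e | e
    · exact e
    · exact absurd (hM.2 _ e) h0'

/-- An orbit of `T` as a set, with size a power of two. -/
theorem exists_orbit_set (a : α) : ∃ s : Set α, a ∈ s ∧ (∃ j, s.ncard = 2 ^ j) ∧
    (T : Subgroup (Perm α)) ≤ setStab s ∧ (∀ b, (∀ x ∈ (T : Subgroup (Perm α)), x b = b) → b ≠ a →
      b ∉ s) := by
  refine ⟨MulAction.orbit (T : Subgroup (Perm α)) a, MulAction.mem_orbit_self a, ?_, ?_, ?_⟩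
  · obtain ⟨j, hj⟩ := T.2.card_orbit a
    exact ⟨j, by rw [← Nat.card_coe_set_eq]; exact hj⟩
  · intro x hx b
    have e : x b = (⟨x, hx⟩ : (T : Subgroup (Perm α))) • b := rfl
    rw [e]
    constructor
    · intro hb
      have := MulAction.mem_orbit_of_mem_orbit (⟨x, hx⟩ : (T : Subgroup (Perm α)))⁻¹ hb
      rwa [inv_smul_smul] at this
    · exact fun hb => MulAction.mem_orbit_of_mem_orbit _ hb
  · rintro b hb hba ⟨x, hx⟩
    change x.1 a = b at hx
    exact hba (x.1.injective (by rw [hb _ x.2, hx]))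

theorem not_unique_odd [Finite H] (hA : Ambient ι R T) (hn : 5 ≤ Fintype.card α)
    (hodd : Odd (Fintype.card α)) (hpow : ∀ j, Fintype.card α ≠ 2 ^ j + 1) :
    ¬ ∃! M : Subgroup H, IsCoatom M ∧ R ≤ M := by
  obtain ⟨p, hp, hmem⟩ := exists_pairing_mem T
  have hTC := sylow_le_pairStab T hp hmem
  obtain ⟨u, hu⟩ := (exists_fixed_iff_odd hp).mpr hodd
  have hTu : ∀ x ∈ (T : Subgroup (Perm α)), x u = u := fun x hx =>
    hp.fixed _ _ (by rw [hTC hx u, hu]) hu
  obtain ⟨b, hb⟩ := Fintype.exists_ne_of_one_lt_card (by omega) u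
  obtain ⟨s, hbs, ⟨j, hj⟩, hTs, hfix⟩ := exists_orbit_set (T := T) b
  have hus : u ∉ s := hfix u hTu hb.symm
  have hT1 : (T : Subgroup (Perm α)) ≤ setStab {u} := fun x hx a => by
    simp only [Set.mem_singleton_iff]
    exact ⟨fun e => x.injective (e.trans (hTu x hx).symm), fun e => e ▸ hTu x hx⟩
  have hc : s.ncard + sᶜ.ncard = Fintype.card α := by
    rw [Set.ncard_add_ncard_compl, Nat.card_eq_fintype_card]
  have hcu : ({u} : Set α)ᶜ.ncard = Fintype.card α - 1 := by
    have := Set.ncard_add_ncard_compl ({u} : Set α)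
    rw [Set.ncard_singleton, Nat.card_eq_fintype_card] at this
    omega
  have hsc : 3 ≤ sᶜ.ncard := by
    have hpos : 0 < sᶜ.ncard := (Set.ncard_pos).mpr ⟨u, hus⟩
    have h1 := hpow j
    by_cases h2 : sᶜ.ncard = 2
    · exfalso
      obtain ⟨r, hr⟩ := hodd
      rcases j with _ | j
      · exact hpow 1 (by rw [pow_zero] at hj; omega)
      · rw [pow_succ] at hj; omega
    omega
  obtain ⟨c, hc', hcu'⟩ : ∃ c ∈ sᶜ, c ≠ u := by
    obtain ⟨c, h1, h2⟩ := Set.exists_mem_notMem_of_ncard_lt_ncard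
      (show ({u} : Set α).ncard < sᶜ.ncard by rw [Set.ncard_singleton]; omega)
    exact ⟨c, h1, h2⟩
  obtain ⟨d, hd, hd'⟩ : ∃ d ∈ sᶜ, d ∉ ({u, c} : Set α) :=
    Set.exists_mem_notMem_of_ncard_lt_ncard
      (lt_of_le_of_lt (Set.ncard_pair (Ne.symm hcu')).le hsc)
  simp only [Set.mem_insert_iff, Set.mem_singleton_iff, not_or] at hd'
  refine not_unique_of_generate ((setStab {u}).comap ι) ((setStab s).comap ι)
    (hA.le_comap hT1) (hA.le_comap hTs)
    (hA.ne_top (g := tri u c d) (sign_tri (Ne.symm hcu') (Ne.symm hd'.2)) fun h => ?_)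
    (hA.ne_top (g := tri b u c) (sign_tri hb (Ne.symm hcu')) fun h => ?_) (fun M h1 h2 => ?_)
  · have := (h u).mpr rfl
    rw [(tri_apply (Ne.symm hcu') (Ne.symm hd'.1) (Ne.symm hd'.2)).1] at this
    exact hcu' this
  · have := (h b).mpr hbs
    rw [(tri_apply hb (fun e : b = c => hc' (e ▸ hbs)) (Ne.symm hcu')).1] at this
    exact hus this
  · refine hA.full M ((hA.le_comap hT1).trans h1) (alternatingGroup_le_of_triFull ?_)
    have f1 : TriFull (M.map ι) ({u} : Set α)ᶜ := fun x hx y hy z hz e1 e2 e3 =>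
      hA.map_mem h1 (sign_tri e1 e3) (tri_mem_of_fibre e1 e2 e3
        (iff_of_false hx hy) (iff_of_false hy hz))
    have f2 : TriFull (M.map ι) sᶜ := fun x hx y hy z hz e1 e2 e3 =>
      hA.map_mem h2 (sign_tri e1 e3) (tri_mem_of_fibre e1 e2 e3
        (iff_of_false hx hy) (iff_of_false hy hz))
    have := f1.union f2 (o := c) hcu' hc' (by omega) hsc
    have e : ({u} : Set α)ᶜ ∪ sᶜ = Set.univ := Set.eq_univ_of_forall fun x => by
      rcases eq_or_ne x u with rfl | hx
      · exact Or.inr hus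
      · exact Or.inl hx
    rwa [e] at this

theorem not_unique_even [Finite H] (hA : Ambient ι R T) (hn : 7 ≤ Fintype.card α)
    (hev : Even (Fintype.card α)) (hpow : ∀ j, Fintype.card α ≠ 2 ^ j) :
    ¬ ∃! M : Subgroup H, IsCoatom M ∧ R ≤ M := by
  obtain ⟨p, hp, hmem⟩ := exists_pairing_mem T
  have hTC := sylow_le_pairStab T hp hmem
  have hmv : ∀ c, p c ≠ c := fun c hc =>
    Nat.not_even_iff_odd.mpr ((exists_fixed_iff_odd hp).mp ⟨c, hc⟩) hev
  obtain ⟨a⟩ : Nonempty α := Fintype.card_pos_iff.mp (by omega)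
  obtain ⟨s, has, ⟨j, hj⟩, hTs, -⟩ := exists_orbit_set (T := T) a
  have hc : s.ncard + sᶜ.ncard = Fintype.card α := by
    rw [Set.ncard_add_ncard_compl, Nat.card_eq_fintype_card]
  have hne : s.ncard ≠ sᶜ.ncard := fun e => hpow (j + 1) (by rw [pow_succ]; omega)
  obtain ⟨b, hb⟩ : ∃ b, b ∉ s := by
    by_contra hall
    push Not at hall
    rw [Set.eq_univ_of_forall hall, Set.ncard_univ, Nat.card_eq_fintype_card] at hj
    exact hpow j hj
  obtain ⟨w, -, hwa, -⟩ : ∃ w, p w ≠ w ∧ w ≠ a ∧ w ≠ b := by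
    obtain ⟨w, hw, hw'⟩ := Set.exists_mem_notMem_of_ncard_lt_ncard
      (s := ({a, b} : Set α)) (t := Set.univ) (by
        have := Set.ncard_le_ncard (Set.subset_univ ({a, b} : Set α))
        have h2 : ({a, b} : Set α).ncard ≤ 2 :=
          (Set.ncard_insert_le _ _).trans (by rw [Set.ncard_singleton])
        rw [Set.ncard_univ, Nat.card_eq_fintype_card]; omega)
    simp only [Set.mem_insert_iff, Set.mem_singleton_iff, not_or] at hw'
    exact ⟨w, hmv w, hw'.1, hw'.2⟩
  have hab : a ≠ b := fun e => hb (e ▸ has)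
  obtain ⟨c, e, -, -, hca, hcpa, -⟩ := exists_distinct_moved hp (by omega) a
  refine not_unique_of_generate ((setStab s).comap ι) ((pairStab p).comap ι)
    (hA.le_comap hTs) (hA.le_comap hTC) ?_
    (hA.ne_top (g := tri a (p a) c) (sign_tri (Ne.symm (hmv a)) (Ne.symm hcpa)) fun h => ?_)
    (fun M h1 h2 => ?_)
  · obtain ⟨v, hv, hv'⟩ := Set.exists_mem_notMem_of_ncard_lt_ncard
      (s := ({a, b} : Set α)) (t := Set.univ) (by
        have h2 : ({a, b} : Set α).ncard ≤ 2 :=
          (Set.ncard_insert_le _ _).trans (by rw [Set.ncard_singleton])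
        rw [Set.ncard_univ, Nat.card_eq_fintype_card]; omega)
    simp only [Set.mem_insert_iff, Set.mem_singleton_iff, not_or] at hv'
    refine hA.ne_top (g := tri a b v) (sign_tri hab (Ne.symm hv'.2)) fun h => ?_
    have := (h a).mpr has
    rw [(tri_apply hab (Ne.symm hv'.1) (Ne.symm hv'.2)).1] at this
    exact hb this
  · have := h a
    obtain ⟨t1, t2, -⟩ := tri_apply (Ne.symm (hmv a)) (Ne.symm hca) (Ne.symm hcpa)
    rw [t1, t2, hp.invol] at this
    exact hca this.symm
  · refine hA.full M ((hA.le_comap hTs).trans h1) (alternatingGroup_le_of_triFull ?_)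
    -- the larger of `s` and its complement
    obtain ⟨L₀, hbig, hL₀⟩ : ∃ L : Set α, Fintype.card α < 2 * L.ncard ∧ TriFull (M.map ι) L := by
      rcases Nat.lt_or_ge s.ncard sᶜ.ncard with h | h
      · exact ⟨sᶜ, by omega, fun x hx y hy z hz e1 e2 e3 => hA.map_mem h1 (sign_tri e1 e3)
          (tri_mem_of_fibre e1 e2 e3 (iff_of_false hx hy) (iff_of_false hy hz))⟩
      · exact ⟨s, by omega, fun x hx y hy z hz e1 e2 e3 => hA.map_mem h1 (sign_tri e1 e3)
          (tri_mem_of_fibre e1 e2 e3 (iff_of_true hx hy) (iff_of_true hy hz))⟩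
    refine triFull_univ_of_step hL₀ fun L hL hfull hne' => ?_
    obtain ⟨z, hz⟩ := (Set.ne_univ_iff_exists_notMem L).mp hne'
    have hLn : Fintype.card α < 2 * L.ncard := by
      have := Set.ncard_le_ncard hL
      omega
    -- some point of `L` whose pair differs from that of `z`
    obtain ⟨y, hy, hy'⟩ := Set.exists_mem_notMem_of_ncard_lt_ncard
      (s := ({z, p z} : Set α)) (t := L) (lt_of_le_of_lt (Set.ncard_pair (Ne.symm (hmv z))).le (by omega))
    simp only [Set.mem_insert_iff, Set.mem_singleton_iff, not_or] at hy'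
    have hzy : z ≠ p y := fun e => hy'.2 (by rw [e, hp.invol])
    have hg : swap y z * swap (p y) (p z) ∈ pairStab p :=
      doubleSwap_mem_pairStab hp (Ne.symm hy'.1) hzy (hmv y) (hmv z)
    have hg' := hA.map_mem h2
      (sign_swap_mul_swap hy'.1 (p.injective.ne hy'.1)) hg
    have hgy : (swap y z * swap (p y) (p z)) y = z := by
      rw [Perm.mul_apply, swap_apply_of_ne_of_ne (Ne.symm (hmv y)) hy'.2, swap_apply_left]
    have h3 : 3 ≤ L.ncard := by omega
    have hcardim : ((swap y z * swap (p y) (p z)) '' L).ncard = L.ncard :=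
      Set.ncard_image_of_injective _ (Equiv.injective _)
    obtain ⟨o, ho1, ho2⟩ : (L ∩ (swap y z * swap (p y) (p z)) '' L).Nonempty := by
      rw [Set.nonempty_iff_ne_empty]
      intro he
      have h4 := Set.ncard_union_eq (Set.disjoint_iff_inter_eq_empty.mpr he)
      have h5 := Set.ncard_le_ncard
        (Set.subset_univ (L ∪ (swap y z * swap (p y) (p z)) '' L))
      rw [Set.ncard_univ, Nat.card_eq_fintype_card, h4, hcardim] at h5
      omega
    exact ⟨L ∪ (swap y z * swap (p y) (p z)) '' L, Set.ssubset_iff_subset_ne.mpr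
      ⟨Set.subset_union_left, fun e => hz (e ▸ Or.inr ⟨y, hy, hgy⟩)⟩,
      hfull.union (hfull.image hg') ho1 ho2 h3 (by omega)⟩

theorem not_unique_pow [Finite H] (hA : Ambient ι R T) (k : ℕ) (hk : 3 ≤ k)
    (hn : Fintype.card α = 2 ^ k) : ¬ ∃! M : Subgroup H, IsCoatom M ∧ R ≤ M := by
  obtain ⟨p, hp, hmem⟩ := exists_pairing_mem T
  have hTC := sylow_le_pairStab T hp hmem
  obtain ⟨k, rfl⟩ := Nat.exists_eq_add_of_le' hk
  have hn' : Fintype.card α = 8 * 2 ^ k := by rw [hn, pow_add]; ring
  have hpos : 0 < 2 ^ k := by positivity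
  have hmv : ∀ c, p c ≠ c := fun c hc => by
    obtain ⟨r, hr⟩ := (exists_fixed_iff_odd hp).mp ⟨c, hc⟩
    omega
  have hP : Fintype.card (Pairs p) = 4 * 2 ^ k := by
    have := card_eq_of_fixed hp
    omega
  let P : α → Pairs p := fun a => ⟨s(a, p a), a, hmv a, rfl⟩
  let U : Sylow 2 (Perm (Pairs p)) := (T.subtype hTC).mapSurjective (pairHom_surjective hp)
  obtain ⟨p', hp', hmem'⟩ := exists_pairing_mem U
  have hUC := sylow_le_pairStab U hp' hmem'
  have hmv' : ∀ c, p' c ≠ c := fun c hc => by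
    obtain ⟨r, hr⟩ := (exists_fixed_iff_odd hp').mp ⟨c, hc⟩
    omega
  let q : α → Sym2 (Pairs p) := fun a => s(P a, p' (P a))
  have hTq : (T : Subgroup (Perm α)) ≤ fibreStab q := by
    intro x hx a b
    have hP' : ∀ c, P (x c) = pairHom p ⟨x, hTC hx⟩ (P c) := fun c =>
      Subtype.ext (by
        change s(x c, p (x c)) = Sym2.map x s(c, p c)
        rw [Sym2.map_mk, hTC hx c])
    have hU : pairHom p ⟨x, hTC hx⟩ ∈ (U : Subgroup (Perm (Pairs p))) := ⟨_, hx, rfl⟩
    have e : ∀ c, q (x c) = Sym2.map (pairHom p ⟨x, hTC hx⟩) (q c) := fun c => by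
      simp only [q, Sym2.map_mk, hP', hUC hU (P c)]
    rw [e, e]
    exact (Sym2.map.injective (Equiv.injective _)).eq_iff
  -- two pairs in one block
  obtain ⟨a⟩ : Nonempty α := Fintype.card_pos_iff.mp (by omega)
  obtain ⟨c, hc⟩ : ∃ c, P c = p' (P a) := by
    obtain ⟨c, hc, e⟩ := (p' (P a)).2
    exact ⟨c, Subtype.ext e⟩
  have hqc : q c = q a := by simp only [q, hc, hp'.invol]; exact Sym2.eq_swap
  have hPp : ∀ b, P (p b) = P b := fun b => Subtype.ext (by
    change s(p b, p (p b)) = s(b, p b)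
    rw [hp.invol]; exact Sym2.eq_swap)
  have hqp : ∀ b, q (p b) = q b := fun b => by simp only [q, hPp]
  have hca : c ≠ a := fun e => hmv' (P a) (by rw [← hc, e])
  have hca' : c ≠ p a := fun e => hmv' (P a) (by rw [← hc, e, hPp])
  obtain ⟨d, hd⟩ : ∃ d, q d ≠ q a := by
    by_contra hall
    push Not at hall
    have : ∀ b : α, b ∈ ({a, p a, c, p c} : Finset α) := by
      intro b
      have hb := hall b
      simp only [q, Sym2.eq_iff] at hb
      have key : ∀ e, P b = P e → b = e ∨ b = p e := by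
        intro e he
        have := congrArg Subtype.val he
        simp only [P, Sym2.eq_iff] at this
        exact this.imp And.left And.left
      simp only [Finset.mem_insert, Finset.mem_singleton]
      rcases hb with ⟨h, -⟩ | ⟨h, -⟩
      · rcases key a h with e | e
        · exact Or.inl e
        · exact Or.inr (Or.inl e)
      · rcases key c (h.trans hc.symm) with e | e
        · exact Or.inr (Or.inr (Or.inl e))
        · exact Or.inr (Or.inr (Or.inr e))
    have h4 := Finset.card_le_card (fun b _ => this b : (Finset.univ : Finset α) ⊆ _)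
    have := Finset.card_le_four (a := a) (b := p a) (c := c) (d := p c)
    rw [Finset.card_univ] at h4
    omega
  have had : a ≠ d := fun e => hd (e ▸ rfl)
  have hcd : c ≠ d := fun e => hd (e ▸ hqc)
  have hpad : p a ≠ d := fun e => hd (e ▸ hqp a)
  refine not_unique_of_generate ((fibreStab q).comap ι) ((pairStab p).comap ι)
    (hA.le_comap hTq) (hA.le_comap hTC)
    (hA.ne_top (g := tri a d c) (sign_tri had (Ne.symm hcd)) fun h => ?_)
    (hA.ne_top (g := tri a (p a) c) (sign_tri (Ne.symm (hmv a)) (Ne.symm hca')) fun h => ?_)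
    (fun M h1 h2 => ?_)
  · have := (h a (p a)).mpr (hqp a).symm
    rw [(tri_apply had (Ne.symm hca) (Ne.symm hcd)).1,
      tri_apply_of_ne (hmv a) hpad (Ne.symm hca'), hqp] at this
    exact hd this
  · have := h a
    obtain ⟨t1, t2, -⟩ := tri_apply (Ne.symm (hmv a)) (Ne.symm hca) (Ne.symm hca')
    rw [t1, t2, hp.invol] at this
    exact hca this.symm
  · refine hA.full M ((hA.le_comap hTC).trans h2) (alternatingGroup_le_of_triFull ?_)
    have hL₀ : TriFull (M.map ι) {b | q b = q a} := by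
      intro x hx y hy z hz e1 e2 e3
      refine hA.map_mem h1 (sign_tri e1 e3) fun b b' => ?_
      have hsame : ∀ b, q (tri x y z b) = q b := by
        intro b
        obtain ⟨t1, t2, t3⟩ := tri_apply e1 e2 e3
        simp only [Set.mem_setOf_eq] at hx hy hz
        rcases eq_or_ne b x with rfl | bx
        · rw [t1, hy, hx]
        rcases eq_or_ne b y with rfl | by'
        · rw [t2, hy, hz]
        rcases eq_or_ne b z with rfl | bz
        · rw [t3, hz, hx]
        · rw [tri_apply_of_ne bx by' bz]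
      rw [hsame, hsame]
    have hsub : ({a, p a, c} : Set α) ⊆ {b | q b = q a} := by
      rintro b (rfl | rfl | rfl)
      exacts [rfl, hqp a, hqc]
    have h3 : 3 ≤ ({b | q b = q a} : Set α).ncard := by
      rw [← Set.ncard_eq_three.mpr ⟨a, p a, c, Ne.symm (hmv a), Ne.symm hca, Ne.symm hca', rfl⟩]
      exact Set.ncard_le_ncard hsub
    refine triFull_univ_of_step hL₀ fun L hL hfull hne' => ?_
    obtain ⟨z, hz⟩ := (Set.ne_univ_iff_exists_notMem L).mp hne'
    have haL : a ∈ L := hL rfl
    have hpaL : p a ∈ L := hL (hqp a)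
    have hcL : c ∈ L := hL hqc
    have hza : z ≠ a := fun e => hz (e ▸ haL)
    have hzpa : z ≠ p a := fun e => hz (e ▸ hpaL)
    have hzc : z ≠ c := fun e => hz (e ▸ hcL)
    have hzpc : z ≠ p c := fun e => hz (e ▸ hL (show q (p c) = q a by rw [hqp, hqc]))
    have hg := doubleSwap_mem_pairStab hp hzc hzpc (hmv c) (hmv z)
    have hg' := hA.map_mem h2 (sign_swap_mul_swap (Ne.symm hzc) (p.injective.ne (Ne.symm hzc))) hg
    have hga : (swap c z * swap (p c) (p z)) a = a := by
      have n1 : a ≠ p c := fun e => hca' (by rw [e, hp.invol])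
      have n2 : a ≠ p z := fun e => hzpa (by rw [e, hp.invol])
      rw [Perm.mul_apply, swap_apply_of_ne_of_ne n1 n2,
        swap_apply_of_ne_of_ne (Ne.symm hca) (Ne.symm hza)]
    have hgc : (swap c z * swap (p c) (p z)) c = z := by
      rw [Perm.mul_apply, swap_apply_of_ne_of_ne (Ne.symm (hmv c))
        (fun e => hzpc (by rw [e, hp.invol])), swap_apply_left]
    have hL3 : 3 ≤ L.ncard := h3.trans (Set.ncard_le_ncard hL)
    exact ⟨L ∪ (swap c z * swap (p c) (p z)) '' L, Set.ssubset_iff_subset_ne.mpr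
      ⟨Set.subset_union_left, fun e => hz (e ▸ Or.inr ⟨c, hcL, hgc⟩)⟩,
      hfull.union (hfull.image hg') haL ⟨a, haL, hga⟩ hL3
        (by rw [Set.ncard_image_of_injective _ (Equiv.injective _)]; exact hL3)⟩

theorem unique_pow_add_one [Finite H] (hA : Ambient ι R T) (k : ℕ) (hk : 2 ≤ k)
    (hn : Fintype.card α = 2 ^ k + 1) : ∃! M : Subgroup H, IsCoatom M ∧ R ≤ M := by
  obtain ⟨p, hp, hmem⟩ := exists_pairing_mem T
  have hTC := sylow_le_pairStab T hp hmem
  have h4 : 4 ≤ 2 ^ k := by
    calc 4 = 2 ^ 2 := by norm_num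
      _ ≤ 2 ^ k := Nat.pow_le_pow_right (by norm_num) hk
  obtain ⟨u, hu⟩ := (exists_fixed_iff_odd hp).mpr (by
    rw [hn]; exact ⟨2 ^ (k - 1), by rw [← pow_succ']; congr 1; rw [Nat.sub_add_cancel (by omega)]⟩)
  have hTu : ∀ x ∈ (T : Subgroup (Perm α)), x u = u := fun x hx =>
    hp.fixed _ _ (by rw [hTC hx u, hu]) hu
  have hmv : ∀ b, b ≠ u → p b ≠ b := fun b hb e => hb (hp.fixed _ _ e hu)
  have hcard : ∀ s : Finset α, s.card < Fintype.card α → ∃ b, b ∉ s := fun s hs => by
    obtain ⟨b, -, hb⟩ := Finset.exists_mem_notMem_of_card_lt_card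
      (hs.trans_eq Finset.card_univ.symm)
    exact ⟨b, hb⟩
  -- `R` is transitive on the moved points
  have htrans : ∀ M : Subgroup H, R ≤ M → ∀ a b, a ≠ u → b ≠ u →
      ∃ g ∈ M.map ι, g a = b ∧ g u = u := by
    intro M hRM a b ha hb
    obtain ⟨x, hx, hxa⟩ := sylow_transitive_moved k (by omega) hn T hp hmem (hmv a ha) (hmv b hb)
    rcases Int.units_eq_one_or (Perm.sign x) with hs | hs
    · exact ⟨x, Subgroup.map_mono hRM (hA.even x hx hs), hxa, hTu x hx⟩
    · obtain ⟨c, hc⟩ := hcard {a, p a, u} (by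
        have := Finset.card_le_three (a := a) (b := p a) (c := u); omega)
      simp only [Finset.mem_insert, Finset.mem_singleton, not_or] at hc
      have hs' : Perm.sign (x * swap c (p c)) = 1 := by
        rw [map_mul, hs, Perm.sign_swap (Ne.symm (hmv c hc.2.2))]; rfl
      refine ⟨x * swap c (p c), Subgroup.map_mono hRM (hA.even _ (mul_mem hx (hmem c)) hs'), ?_,
        hTu _ (mul_mem hx (hmem c))⟩
      rw [Perm.mul_apply, swap_apply_of_ne_of_ne (Ne.symm hc.1)
        (fun e => hc.2.1 (by rw [e, hp.invol]))]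
      exact hxa
  have hT1 : (T : Subgroup (Perm α)) ≤ setStab {u} := fun x hx a => by
    simp only [Set.mem_singleton_iff]
    exact ⟨fun e => x.injective (e.trans (hTu x hx).symm), fun e => e ▸ hTu x hx⟩
  obtain ⟨a, ha⟩ := hcard {u} (by rw [Finset.card_singleton]; omega)
  rw [Finset.mem_singleton] at ha
  refine unique_of_maximum ((setStab {u}).comap ι) (hA.le_comap hT1)
    (hA.ne_top (g := tri u a (p a)) (sign_tri (Ne.symm ha) (Ne.symm (hmv a ha))) fun h => ?_)
    (fun M hRM hM => ?_)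
  · have := (h u).mpr rfl
    rw [(tri_apply (Ne.symm ha) (fun e => ha (p.injective (hu.trans e).symm))
      (Ne.symm (hmv a ha))).1] at this
    exact ha this
  · by_contra hle
    apply hM
    refine hA.full M hRM ?_
    obtain ⟨y, hy, hyu⟩ : ∃ g ∈ M.map ι, g u ≠ u := by
      by_contra hall
      push Not at hall
      exact hle fun y hy b => by
        have e := hall _ ⟨y, hy, rfl⟩
        simp only [Set.mem_singleton_iff]
        exact ⟨fun h => (ι y).injective (h.trans e.symm), fun h => h ▸ e⟩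
    have trans : ∀ b, ∃ g ∈ M.map ι, g u = b := by
      intro b
      rcases eq_or_ne b u with rfl | hb
      · exact ⟨1, one_mem _, rfl⟩
      · obtain ⟨g, hg, hg1, -⟩ := htrans M hRM (y u) b hyu hb
        exact ⟨g * y, mul_mem hg hy, hg1⟩
    have h2 : ∀ x b c, b ≠ x → c ≠ x → ∃ g ∈ M.map ι, g x = x ∧ g b = c := by
      intro x b c hb hc
      obtain ⟨g, hg, rfl⟩ := trans x
      have hb' : g.symm b ≠ u := fun e => hb (by rw [← e, apply_symm_apply])
      have hc' : g.symm c ≠ u := fun e => hc (by rw [← e, apply_symm_apply])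
      obtain ⟨r, hr, hr1, hr2⟩ := htrans M hRM _ _ hb' hc'
      exact ⟨g * r * g⁻¹, mul_mem (mul_mem hg hr) (inv_mem hg), by simp [hr2], by simp [hr1]⟩
    -- a conjugate double transposition moving `u`
    obtain ⟨a₁, ha₁⟩ := y.surjective u
    have ha₁u : a₁ ≠ u := fun e => hyu (e ▸ ha₁)
    have hvu : y (p a₁) ≠ u := fun e => hmv a₁ ha₁u (y.injective (e.trans ha₁.symm))
    set v := y (p a₁) with hv
    have hpa₁u : p a₁ ≠ u := fun e => ha₁u (p.injective (e.trans hu.symm))
    have hpvu : p v ≠ u := fun e => hvu (p.injective (e.trans hu.symm))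
    have hvpv : v ≠ p v := Ne.symm (hmv v hvu)
    -- the conjugate double transposition
    have hD : ∀ c, c ≠ a₁ → c ≠ p a₁ → c ≠ u →
        swap u v * swap (y c) (y (p c)) ∈ M.map ι := by
      intro c h1 h2 h3
      have hs := hA.even _ (mul_mem (hmem a₁) (hmem c))
        (sign_swap_mul_swap (Ne.symm (hmv a₁ ha₁u)) (Ne.symm (hmv c h3)))
      have hd := mul_mem (mul_mem hy (Subgroup.map_mono hRM hs)) (inv_mem hy)
      rwa [show y * (swap a₁ (p a₁) * swap c (p c)) * y⁻¹ =
          (y * swap a₁ (p a₁) * y⁻¹) * (y * swap c (p c) * y⁻¹) by group,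
        ← Equiv.swap_apply_apply, ← Equiv.swap_apply_apply, ha₁, ← hv] at hd
    -- facts about the second transposition
    have hxy : ∀ c, c ≠ a₁ → c ≠ p a₁ → c ≠ u → y c ≠ u ∧ y c ≠ v ∧ y (p c) ≠ u ∧
        y (p c) ≠ v ∧ y c ≠ y (p c) := fun c h1 h2 h3 =>
      ⟨fun e => h1 (y.injective (e.trans ha₁.symm)), fun e => h2 (y.injective e),
        fun e => h2 (by rw [← y.injective (e.trans ha₁.symm), hp.invol]),
        fun e => h1 (p.injective (y.injective e)), fun e => hmv c h3 (y.injective e).symm⟩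
    by_cases hk3 : 3 ≤ k
    · have h8 : 2 ^ 3 ≤ 2 ^ k := Nat.pow_le_pow_right (by norm_num) hk3
      obtain ⟨c, hc⟩ := hcard {a₁, p a₁, u, y.symm (p v), p (y.symm (p v))} (by
        have := Finset.card_insert_le a₁ {p a₁, u, y.symm (p v), p (y.symm (p v))}
        have := Finset.card_le_four (a := p a₁) (b := u) (c := y.symm (p v))
          (d := p (y.symm (p v)))
        omega)
      simp only [Finset.mem_insert, Finset.mem_singleton, not_or] at hc
      obtain ⟨hc1, hc2, hc3, hc4, hc5⟩ := hc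
      obtain ⟨q1, q2, q3, q4, q5⟩ := hxy c hc1 hc2 hc3
      have w1 : p v ≠ y c := fun e => hc4 (by rw [e, symm_apply_apply])
      have w2 : p v ≠ y (p c) := fun e => hc5 (by rw [e, symm_apply_apply, hp.invol])
      obtain ⟨e, he⟩ := hcard {u, v, p v, y c, p (y c), y (p c), p (y (p c))} (by
        have := Finset.card_insert_le u {v, p v, y c, p (y c), y (p c), p (y (p c))}
        have := Finset.card_insert_le v {p v, y c, p (y c), y (p c), p (y (p c))}
        have := Finset.card_insert_le (p v) {y c, p (y c), y (p c), p (y (p c))}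
        have := Finset.card_le_four (a := y c) (b := p (y c)) (c := y (p c)) (d := p (y (p c)))
        omega)
      simp only [Finset.mem_insert, Finset.mem_singleton, not_or] at he
      obtain ⟨e0, e1, e2, e3, e4, e5, e6⟩ := he
      have f0 : p e ≠ u := fun h => e0 (p.injective (h.trans hu.symm))
      have f1 : p e ≠ v := fun h => e2 (by rw [← h, hp.invol])
      have f3 : p e ≠ y c := fun h => e4 (by rw [← h, hp.invol])
      have f5 : p e ≠ y (p c) := fun h => e6 (by rw [← h, hp.invol])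
      have hd' := hD c hc1 hc2 hc3
      have hd := Subgroup.map_mono hRM (hA.even _ (mul_mem (hmem v) (hmem e))
        (sign_swap_mul_swap hvpv (Ne.symm (hmv e e0))))
      have hkey := mul_mem (mul_mem (mul_mem hd' hd) (inv_mem hd')) hd
      set D := swap u v * swap (y c) (y (p c)) with hDdef
      have a1 : D v = u := by
        rw [hDdef, Perm.mul_apply, swap_apply_of_ne_of_ne (Ne.symm q2) (Ne.symm q4), swap_apply_right]
      have a2 : D (p v) = p v := by
        rw [hDdef, Perm.mul_apply, swap_apply_of_ne_of_ne w1 w2,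
          swap_apply_of_ne_of_ne hpvu (Ne.symm hvpv)]
      have a3 : D e = e := by
        rw [hDdef, Perm.mul_apply, swap_apply_of_ne_of_ne e3 e5, swap_apply_of_ne_of_ne e0 e1]
      have a4 : D (p e) = p e := by
        rw [hDdef, Perm.mul_apply, swap_apply_of_ne_of_ne f3 f5, swap_apply_of_ne_of_ne f0 f1]
      have comm : swap e (p e) * swap v (p v) = swap v (p v) * swap e (p e) := by
        refine (Perm.Disjoint.commute fun x => ?_).eq
        rcases eq_or_ne x e with rfl | x1
        · exact Or.inr (swap_apply_of_ne_of_ne e1 e2)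
        rcases eq_or_ne x (p e) with rfl | x2
        · exact Or.inr (swap_apply_of_ne_of_ne f1 (p.injective.ne e1))
        · exact Or.inl (swap_apply_of_ne_of_ne x1 x2)
      have htri : D * (swap v (p v) * swap e (p e)) * D⁻¹ * (swap v (p v) * swap e (p e)) =
          tri u (p v) v := by
        rw [show D * (swap v (p v) * swap e (p e)) * D⁻¹ =
            (D * swap v (p v) * D⁻¹) * (D * swap e (p e) * D⁻¹) by group,
          ← Equiv.swap_apply_apply, ← Equiv.swap_apply_apply, a1, a2, a3, a4, ← comm,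
          mul_assoc, ← mul_assoc (swap e (p e)) (swap e (p e)), swap_mul_self, one_mul, tri,
          swap_comm v (p v)]
      rw [htri] at hkey
      exact alternatingGroup_le_of_tri (Ne.symm hpvu) (Ne.symm hvu) (Ne.symm hvpv) hkey h2
    · -- degree five
      have hk2 : k = 2 := by omega
      have hn5 : Fintype.card α = 5 := by rw [hn, hk2]; norm_num
      obtain ⟨c, hc⟩ := hcard {a₁, p a₁, u} (by
        have := Finset.card_le_three (a := a₁) (b := p a₁) (c := u); omega)
      simp only [Finset.mem_insert, Finset.mem_singleton, not_or] at hc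
      obtain ⟨hc1, hc2, hc3⟩ := hc
      obtain ⟨q1, q2, q3, q4, q5⟩ := hxy c hc1 hc2 hc3
      have hd' := hD c hc1 hc2 hc3
      -- a double transposition agreeing with the second transposition
      obtain ⟨w, hwu, hwv, hwmem⟩ : ∃ w, w ≠ u ∧ w ≠ v ∧
          swap v w * swap (y c) (y (p c)) ∈ M.map ι := by
        have four : ∀ z, z ≠ u → z ≠ v → z ≠ p v → ∀ x, x ≠ u → x ≠ v → x ≠ p v → x = z ∨ x = p z := by
          intro z z1 z2 z3 x x1 x2 x3
          by_contra hx
          push Not at hx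
          have n1 : p z ≠ u := fun h => z1 (p.injective (h.trans hu.symm))
          have n2 : p z ≠ v := fun h => z3 (by rw [← h, hp.invol])
          have n3 : p z ≠ p v := p.injective.ne z2
          have : ({u, v, p v, z, p z, x} : Finset α).card = 6 := by
            simp [Ne.symm hvu, Ne.symm hpvu, Ne.symm z1, Ne.symm n1, Ne.symm x1, hvpv, Ne.symm z2,
              Ne.symm n2, Ne.symm x2, Ne.symm z3, Ne.symm n3, Ne.symm x3,
              Ne.symm (hmv z z1), Ne.symm hx.1, Ne.symm hx.2]
          have := Finset.card_le_univ ({u, v, p v, z, p z, x} : Finset α)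
          omega
        have other : ∀ z, z ≠ u → z ≠ v → z ≠ p v →
            swap v (p z) * swap (p v) z ∈ M.map ι := by
          intro z z1 z2 z3
          have n1 : p z ≠ u := fun h => z1 (p.injective (h.trans hu.symm))
          have n2 : p z ≠ v := fun h => z3 (by rw [← h, hp.invol])
          have n3 : p z ≠ p v := p.injective.ne z2
          have nz : p z ≠ z := hmv z z1
          obtain ⟨x, hx, hxv⟩ :=
            sylow_transitive_moved k (by omega) hn T hp hmem (hmv v hvu) (hmv _ n1)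
          have hxp : x (p v) = z := by rw [← hTC hx v, hxv, hp.invol]
          have main : ∀ x ∈ (T : Subgroup (Perm α)), x v = p z → x (p v) = z → x (p z) = v →
              swap v (p z) * swap (p v) z ∈ M.map ι := by
            intro x hx h1 h2 h3
            have h4 : x z = p v := by
              have := hTC hx (p z)
              rw [h3, hp.invol] at this
              exact this.symm
            have e : x = swap v (p z) * swap (p v) z := by
              ext b
              rw [Perm.mul_apply]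
              rcases eq_or_ne b u with rfl | b0
              · rw [hTu x hx, swap_apply_of_ne_of_ne (Ne.symm hpvu) (Ne.symm z1),
                  swap_apply_of_ne_of_ne (Ne.symm hvu) (Ne.symm n1)]
              rcases eq_or_ne b v with rfl | b1
              · rw [h1, swap_apply_of_ne_of_ne hvpv (Ne.symm z2), swap_apply_left]
              rcases eq_or_ne b (p v) with rfl | b2
              · rw [h2, swap_apply_left, swap_apply_of_ne_of_ne z2 (Ne.symm nz)]
              rcases four z z1 z2 z3 b b0 b1 b2 with rfl | rfl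
              · rw [h4, swap_apply_right, swap_apply_of_ne_of_ne (Ne.symm hvpv) (Ne.symm n3)]
              · rw [h3, swap_apply_of_ne_of_ne n3 nz, swap_apply_right]
            rw [← e]
            exact Subgroup.map_mono hRM (hA.even x hx (by
              rw [e]; exact sign_swap_mul_swap (Ne.symm n2) (Ne.symm z3)))
          have hxz : x (p z) = v ∨ x (p z) = p v := by
            by_contra h
            push Not at h
            have g1 : x (p z) ≠ u := fun h' => n1 (x.injective (h'.trans (hTu x hx).symm))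
            rcases four z z1 z2 z3 _ g1 h.1 h.2 with h' | h'
            · exact n3 (x.injective (h'.trans hxp.symm))
            · exact n2 (x.injective (h'.trans hxv.symm))
          rcases hxz with h | h
          · exact main x hx hxv hxp h
          · refine main (x * swap z (p z)) (mul_mem hx (hmem z)) ?_ ?_ ?_
            · rw [Perm.mul_apply, swap_apply_of_ne_of_ne (Ne.symm z2) (Ne.symm n2), hxv]
            · rw [Perm.mul_apply, swap_apply_of_ne_of_ne (Ne.symm z3) (Ne.symm n3), hxp]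
            · rw [Perm.mul_apply, swap_apply_right]
              have := hTC hx (p z)
              rw [h, hp.invol, hp.invol] at this
              exact this.symm
        by_cases w1 : y c = p v
        · have w2 : y (p c) ≠ p v := fun h => q5 (w1.trans h.symm)
          exact ⟨p (y (p c)), fun h => q3 (p.injective (h.trans hu.symm)),
            fun h => w2 (by rw [← h, hp.invol]), w1 ▸ other _ q3 q4 w2⟩
        by_cases w2 : y (p c) = p v
        · refine ⟨p (y c), fun h => q1 (p.injective (h.trans hu.symm)),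
            fun h => w1 (by rw [← h, hp.invol]), ?_⟩
          rw [swap_comm (y c), w2]
          exact other _ q1 q2 w1
        · have e : p (y c) = y (p c) := by
            rcases four (y c) q1 q2 w1 (y (p c)) q3 q4 w2 with h | h
            · exact absurd h.symm q5
            · exact h.symm
          refine ⟨p v, hpvu, Ne.symm hvpv, ?_⟩
          rw [← e]
          exact Subgroup.map_mono hRM (hA.even _ (mul_mem (hmem v) (hmem (y c)))
            (sign_swap_mul_swap hvpv (Ne.symm (hmv _ q1))))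
      have hkey := mul_mem hd' (inv_mem hwmem)
      rw [_root_.mul_inv_rev, swap_inv, swap_inv,
        show swap u v * swap (y c) (y (p c)) * (swap (y c) (y (p c)) * swap v w) =
          swap u v * (swap (y c) (y (p c)) * swap (y c) (y (p c))) * swap v w by group,
        swap_mul_self, mul_one] at hkey
      exact alternatingGroup_le_of_tri (Ne.symm hvu) (Ne.symm hwu) (Ne.symm hwv) hkey h2

end Uniqueness

end CfsgLib.SymSylow
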