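import Mathlib
import Cfsg.Agent.Lib.PSLnGraph.Forms

/-!
Regular unipotent elements of symplectic groups over finite fields of odd order, through the commutant of a
regular nilpotent skew element.
-/

set_option autoImplicit false
set_option linter.unusedSectionVars false

namespace CfsgLib.SympRegular

open Matrix

variable {F : Type*} [Field F] {k : ℕ}

local notation "N₂" => 2 * (k + 1)
local notation "Mat" => Matrix (Fin (k + 1) ⊕ Fin (k + 1)) (Fin (k + 1) ⊕ Fin (k + 1)) F
local notation "Jm" => Matrix.J (Fin (k + 1)) F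

/-- The adjoint for the standard alternating form. -/
def st (A : Mat) : Mat := -(Jm * Aᵀ * Jm)

theorem JJ : (Jm : Mat) * Jm = -1 := Matrix.J_squared _ _

theorem J_st (A : Mat) : Jm * st A = Aᵀ * Jm := by
  rw [st, Matrix.mul_neg, ← Matrix.mul_assoc, ← Matrix.mul_assoc, JJ, Matrix.neg_mul, Matrix.one_mul,
    Matrix.neg_mul, neg_neg]

theorem st_mul (A B : Mat) : st (A * B) = st B * st A := by
  have e : ∀ X Y : Mat, Jm * X * Jm * (Jm * Y * Jm) = Jm * X * (Jm * Jm) * Y * Jm := fun X Y => by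
    simp only [Matrix.mul_assoc]
  rw [st, st, st, Matrix.neg_mul, Matrix.mul_neg, neg_neg, e, JJ, Matrix.mul_neg, Matrix.mul_one,
    Matrix.neg_mul, Matrix.neg_mul, transpose_mul]
  simp only [Matrix.mul_assoc]

theorem st_st (A : Mat) : st (st A) = A := by
  have e : Jm * (Jm * A * Jm) * Jm = (Jm * Jm) * A * (Jm * Jm) := by simp only [Matrix.mul_assoc]
  simp only [st, transpose_neg, transpose_mul, transpose_transpose, Matrix.J_transpose, Matrix.neg_mul,
    Matrix.mul_neg, neg_neg]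
  rw [← Matrix.mul_assoc Jm A, e, JJ]
  simp

theorem st_one : st (1 : Mat) = 1 := by
  rw [st, transpose_one, Matrix.mul_one, JJ, neg_neg]

theorem st_smul (a : F) (A : Mat) : st (a • A) = a • st A := by
  simp [st]

theorem st_sum {α : Type*} (s : Finset α) (A : α → Mat) : st (∑ i ∈ s, A i) = ∑ i ∈ s, st (A i) := by
  simp [st, Matrix.transpose_sum, Matrix.mul_sum, Matrix.sum_mul]

theorem mem_iff (A : Mat) : A ∈ Matrix.symplecticGroup (Fin (k + 1)) F ↔ st A * A = 1 := by
  rw [SymplecticGroup.mem_iff']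
  constructor
  · intro h
    have : Jm * (st A * A) = Jm * 1 := by rw [← Matrix.mul_assoc, J_st, h, Matrix.mul_one]
    have e := congrArg (fun X => Jm * X) this
    simp only [← Matrix.mul_assoc, JJ, Matrix.neg_mul, Matrix.one_mul, neg_inj] at e
    simpa using e
  · intro h
    rw [← J_st, Matrix.mul_assoc, h, Matrix.mul_one]

/-- Regular nilpotent and skew. -/
structure RegSkew (M : Mat) : Prop where
  skew : st M = -M
  nil : M ^ N₂ = 0
  reg : M ^ (N₂ - 1) ≠ 0

variable {M : Matrix (Fin (k + 1) ⊕ Fin (k + 1)) (Fin (k + 1) ⊕ Fin (k + 1)) F}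

theorem st_pow (h : RegSkew M) (i : ℕ) : st (M ^ i) = (-1 : F) ^ i • M ^ i := by
  induction i with
  | zero => rw [pow_zero, pow_zero, one_smul, st_one]
  | succ i ih =>
    rw [pow_succ M, st_mul, ih, h.skew, Matrix.neg_mul, Matrix.mul_smul, ← pow_succ', ← pow_succ M,
      pow_succ (-1 : F), mul_neg_one, neg_smul]

/-- A cyclic vector with the basis of its images. -/
theorem exists_cyclic (h : RegSkew M) : ∃ v : Fin (k + 1) ⊕ Fin (k + 1) → F,
    M ^ (N₂ - 1) *ᵥ v ≠ 0 ∧ LinearIndependent F (fun i : Fin N₂ => M ^ (i : ℕ) *ᵥ v) ∧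
      Submodule.span F (Set.range fun i : Fin N₂ => M ^ (i : ℕ) *ᵥ v) = ⊤ := by
  obtain ⟨v, hv⟩ : ∃ v, M ^ (N₂ - 1) *ᵥ v ≠ 0 := by
    by_contra hh
    push Not at hh
    exact h.reg (Matrix.ext_of_mulVec_single fun i => by rw [hh, zero_mulVec])
  have hind : LinearIndependent F (fun i : Fin N₂ => M ^ (i : ℕ) *ᵥ v) := by
    rw [Fintype.linearIndependent_iff]
    intro c hc
    by_contra hh
    push Not at hh
    obtain ⟨j, hj, hmin⟩ : ∃ j, c j ≠ 0 ∧ ∀ i, i < j → c i = 0 := by
      obtain ⟨j₀, hj₀⟩ := hh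
      obtain ⟨j, hj, hmin⟩ := (Set.toFinite {i | c i ≠ 0}).exists_minimal ⟨j₀, hj₀⟩
      exact ⟨j, hj, fun i hi => by_contra fun hci => not_lt.mpr (hmin hci hi.le) hi⟩
    have e := congrArg (fun w => M ^ (N₂ - 1 - j) *ᵥ w) hc
    simp only [mulVec_sum, mulVec_smul, mulVec_mulVec, ← pow_add, mulVec_zero] at e
    rw [Finset.sum_eq_single j] at e
    · rw [show N₂ - 1 - j + (j : ℕ) = N₂ - 1 by omega] at e
      exact hv ((smul_eq_zero.mp e).resolve_left hj)
    · intro i _ hij
      rcases lt_or_gt_of_ne hij with hlt | hgt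
      · rw [hmin i hlt, zero_smul]
      · rw [pow_eq_zero_of_le (show N₂ ≤ N₂ - 1 - j + (i : ℕ) by
          have : (j : ℕ) < i := hgt
          omega) h.nil, zero_mulVec, smul_zero]
    · exact fun hji => absurd (Finset.mem_univ j) hji
  refine ⟨v, hv, hind, hind.span_eq_top_of_card_eq_finrank' ?_⟩
  simp [two_mul]

/-- Polynomials in `M`. -/
def Phi (M : Mat) (c : Fin N₂ → F) : Mat := ∑ i, c i • M ^ (i : ℕ)

theorem Phi_commute (c : Fin N₂ → F) : Phi M c * M = M * Phi M c := by
  rw [Phi, Finset.sum_mul, Finset.mul_sum]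
  refine Finset.sum_congr rfl fun i _ => ?_
  rw [Matrix.smul_mul, Matrix.mul_smul, ← pow_succ, ← pow_succ']

theorem Phi_inj (h : RegSkew M) : Function.Injective (Phi M) := by
  obtain ⟨v, -, hind, -⟩ := exists_cyclic h
  intro c d e
  have e2 := congrArg (fun A : Mat => A *ᵥ v) e
  simp only [Phi, sum_mulVec, smul_mulVec] at e2
  exact funext fun i => (Fintype.linearIndependent_iff.mp hind (c - d) (by
    simp only [Pi.sub_apply, sub_smul, Finset.sum_sub_distrib, e2, sub_self]) i) |> sub_eq_zero.mp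

theorem pow_comm {A : Mat} (hA : A * M = M * A) (i : ℕ) : A * M ^ i = M ^ i * A :=
  (Commute.pow_right hA i).eq

theorem exists_Phi (h : RegSkew M) {A : Mat} (hA : A * M = M * A) : ∃ c, A = Phi M c := by
  obtain ⟨v, -, hind, hspan⟩ := exists_cyclic h
  obtain ⟨c, hc⟩ := (Submodule.mem_span_range_iff_exists_fun F).mp
    (show A *ᵥ v ∈ Submodule.span F (Set.range fun i : Fin N₂ => M ^ (i : ℕ) *ᵥ v) by rw [hspan]; trivial)
  refine ⟨c, Matrix.ext_of_mulVec_single fun j => ?_⟩
  obtain ⟨a, ha⟩ := (Submodule.mem_span_range_iff_exists_fun F).mp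
    (show Pi.single j (1 : F) ∈ Submodule.span F (Set.range fun i : Fin N₂ => M ^ (i : ℕ) *ᵥ v) by
      rw [hspan]; trivial)
  rw [← ha, mulVec_sum, mulVec_sum]
  refine Finset.sum_congr rfl fun i _ => ?_
  rw [mulVec_smul, mulVec_smul, mulVec_mulVec, mulVec_mulVec, pow_comm hA, ← mulVec_mulVec,
    pow_comm (Phi_commute c), ← mulVec_mulVec]
  congr 2
  rw [← hc, Phi, sum_mulVec]
  exact Finset.sum_congr rfl fun l _ => (smul_mulVec _ _ _).symm

theorem st_Phi (h : RegSkew M) (c : Fin N₂ → F) : st (Phi M c) = Phi M fun i => (-1 : F) ^ (i : ℕ) * c i := by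
  simp only [Phi, st_sum, st_smul, st_pow h, smul_smul, mul_comm]

/-- The commutant. -/
def C (M : Mat) : Subgroup (GL (Fin (k + 1) ⊕ Fin (k + 1)) F) where
  carrier := {g | g.1 * M = M * g.1}
  one_mem' := by simp
  mul_mem' := by
    rintro a b (ha : _ = _) (hb : _ = _)
    show a.1 * b.1 * M = M * (a.1 * b.1)
    rw [Matrix.mul_assoc, hb, ← Matrix.mul_assoc, ha, Matrix.mul_assoc]
  inv_mem' := by
    rintro a (ha : _ = _)
    show (a⁻¹).1 * M = M * (a⁻¹).1
    calc (a⁻¹).1 * M = (a⁻¹).1 * (M * a.1) * (a⁻¹).1 := by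
          rw [Matrix.mul_assoc, Matrix.mul_assoc, Units.mul_inv, Matrix.mul_one]
      _ = _ := by rw [← ha, ← Matrix.mul_assoc, Units.inv_mul, Matrix.one_mul]

theorem C_comm (h : RegSkew M) (a b : C M) : a * b = b * a := by
  obtain ⟨c, hc⟩ := exists_Phi h a.2
  refine Subtype.ext (Units.ext ?_)
  show a.1.1 * b.1.1 = b.1.1 * a.1.1
  rw [hc, Phi, Finset.sum_mul, Finset.mul_sum]
  refine Finset.sum_congr rfl fun i _ => ?_
  rw [Matrix.smul_mul, Matrix.mul_smul, pow_comm b.2]

theorem st_comm (h : RegSkew M) {A : Mat} (hA : A * M = M * A) : st A * M = M * st A := by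
  have := congrArg st hA
  rw [st_mul, st_mul, h.skew, Matrix.neg_mul, Matrix.mul_neg, neg_inj] at this
  exact this.symm

/-- The adjoint on the commutant. -/
def stC (h : RegSkew M) (g : C M) : C M :=
  ⟨⟨st g.1.1, st (g.1⁻¹).1, by rw [← st_mul, Units.inv_mul, st_one], by rw [← st_mul, Units.mul_inv, st_one]⟩,
    st_comm h g.2⟩

theorem stC_mul (h : RegSkew M) (a b : C M) : stC h (a * b) = stC h a * stC h b := by
  rw [C_comm h (stC h a)]
  exact Subtype.ext (Units.ext (st_mul _ _))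

/-- The norm. -/
def nu (h : RegSkew M) : C M →* C M where
  toFun g := stC h g * g
  map_one' := Subtype.ext (Units.ext (by show st (1 : Mat) * 1 = 1; rw [st_one, Matrix.one_mul]))
  map_mul' a b := by
    rw [stC_mul, mul_assoc, ← mul_assoc (stC h b), C_comm h (stC h b) a, mul_assoc, ← mul_assoc]

theorem nu_val (h : RegSkew M) (g : C M) : (nu h g).1.1 = st g.1.1 * g.1.1 := rfl

/-- The self-adjoint units. -/
def S (h : RegSkew M) : Subgroup (C M) where
  carrier := {g | stC h g = g}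
  one_mem' := Subtype.ext (Units.ext st_one)
  mul_mem' := by
    rintro a b (ha : _ = _) (hb : _ = _)
    show stC h (a * b) = a * b
    rw [stC_mul, ha, hb]
  inv_mem' := by
    rintro a (ha : _ = _)
    show stC h a⁻¹ = a⁻¹
    have e : stC h a⁻¹ * stC h a = 1 := by
      rw [← stC_mul, inv_mul_cancel]; exact Subtype.ext (Units.ext st_one)
    rw [ha] at e
    exact eq_inv_of_mul_eq_one_left e

theorem mem_S {h : RegSkew M} {g : C M} : g ∈ S h ↔ st g.1.1 = g.1.1 :=
  ⟨fun e => congrArg (fun x : C M => x.1.1) e, fun e => Subtype.ext (Units.ext e)⟩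

theorem nu_mem_S (h : RegSkew M) (g : C M) : nu h g ∈ S h := by
  rw [mem_S, nu_val, st_mul, st_st]

/-- The constant term. -/
theorem exists_eps (h : RegSkew M) : ∃ w : Fin (k + 1) ⊕ Fin (k + 1) → F, w ≠ 0 ∧
    ∀ c : Fin N₂ → F, Phi M c *ᵥ w = c ⟨0, by omega⟩ • w := by
  obtain ⟨v, hv, -, -⟩ := exists_cyclic h
  refine ⟨_, hv, fun c => ?_⟩
  rw [Phi, sum_mulVec, Finset.sum_eq_single (⟨0, by omega⟩ : Fin N₂)]
  · rw [smul_mulVec]; simp
  · intro i _ hi
    have hi' : (i : ℕ) ≠ 0 := fun e => hi (Fin.ext e)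
    rw [smul_mulVec, mulVec_mulVec, ← pow_add, pow_eq_zero_of_le (show N₂ ≤ (i : ℕ) + (N₂ - 1) by omega) h.nil,
      zero_mulVec, smul_zero]
  · exact fun hh => absurd (Finset.mem_univ _) hh

theorem c0_ne (h : RegSkew M) {g : C M} {c : Fin N₂ → F} (hc : g.1.1 = Phi M c) : c ⟨0, by omega⟩ ≠ 0 := by
  obtain ⟨w, hw, hPhi⟩ := exists_eps h
  intro h0
  have e := hPhi c
  rw [h0, zero_smul, ← hc] at e
  apply hw
  have := congrArg (fun x => (g.1⁻¹).1 *ᵥ x) e
  simpa only [mulVec_mulVec, Units.inv_mul, one_mulVec, mulVec_zero] using this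

theorem isUnit_Phi (h : RegSkew M) {c : Fin N₂ → F} (hc : c ⟨0, by omega⟩ ≠ 0) : IsUnit (Phi M c) := by
  rw [Phi, ← Finset.add_sum_erase _ _ (Finset.mem_univ (⟨0, by omega⟩ : Fin N₂))]
  refine IsNilpotent.isUnit_add_left_of_commute ?_ ?_ ?_
  · have hM : IsNilpotent M := ⟨_, h.nil⟩
    refine Finset.sum_induction _ (fun A : Mat => ∃ B, A = M * B ∧ Commute M B) ?_ ?_ ?_ |> fun ⟨B, hB, hcB⟩ =>
      hB ▸ Commute.isNilpotent_mul_right hcB hM
    · rintro a b ⟨A, rfl, hA⟩ ⟨B, rfl, hB⟩
      exact ⟨A + B, (Matrix.mul_add _ _ _).symm, hA.add_right hB⟩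
    · exact ⟨0, by simp, Commute.zero_right _⟩
    · intro i hi
      obtain ⟨j, hj⟩ : ∃ j, (i : ℕ) = j + 1 := ⟨(i : ℕ) - 1, by
        have : (i : ℕ) ≠ 0 := fun e => (Finset.mem_erase.mp hi).1 (Fin.ext e)
        omega⟩
      exact ⟨c i • M ^ j, by rw [hj, pow_succ', Matrix.mul_smul], (Commute.self_pow M j).smul_right _⟩
  · rw [pow_zero]
    exact (isUnit_one).smul (Units.mk0 _ hc)
  · rw [pow_zero]
    exact (Commute.one_right _).smul_right _

/-- The eigenvalue on the socle. -/
noncomputable def eps (h : RegSkew M) : C M →* Fˣ where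
  toFun g := Units.mk0 ((exists_Phi h g.2).choose ⟨0, by omega⟩) (c0_ne h (exists_Phi h g.2).choose_spec)
  map_one' := by
    obtain ⟨w, hw, hPhi⟩ := exists_eps h
    refine Units.ext (smul_left_injective F hw ?_)
    show (exists_Phi h (one_mem (C M))).choose ⟨0, by omega⟩ • w = (1 : F) • w
    rw [← hPhi, ← (exists_Phi h (one_mem (C M))).choose_spec, one_smul]
    exact one_mulVec w
  map_mul' a b := by
    obtain ⟨w, hw, hPhi⟩ := exists_eps h
    refine Units.ext (smul_left_injective F hw ?_)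
    show (exists_Phi h (a * b).2).choose ⟨0, by omega⟩ • w =
      ((exists_Phi h a.2).choose ⟨0, by omega⟩ * (exists_Phi h b.2).choose ⟨0, by omega⟩) • w
    rw [← hPhi, ← (exists_Phi h (a * b).2).choose_spec, ← smul_smul, smul_comm,
      ← hPhi (exists_Phi h a.2).choose, ← (exists_Phi h a.2).choose_spec, ← mulVec_smul,
      ← hPhi (exists_Phi h b.2).choose, ← (exists_Phi h b.2).choose_spec, mulVec_mulVec]
    rfl

theorem eps_eq (h : RegSkew M) {g : C M} {c : Fin N₂ → F} (hc : g.1.1 = Phi M c) :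
    (eps h g : F) = c ⟨0, by omega⟩ :=
  congrFun (Phi_inj h ((exists_Phi h g.2).choose_spec.symm.trans hc)) _

theorem eps_stC (h : RegSkew M) (g : C M) : eps h (stC h g) = eps h g := by
  obtain ⟨c, hc⟩ := exists_Phi h g.2
  refine Units.ext ?_
  rw [eps_eq h hc, eps_eq h (show (stC h g).1.1 = _ by rw [show (stC h g).1.1 = st g.1.1 from rfl, hc, st_Phi h])]
  simp

/-- A scalar in the commutant. -/
def scalC (M : Mat) (t : Fˣ) : C M :=
  ⟨⟨(t : F) • 1, (t⁻¹ : Fˣ).1 • 1, by simp [smul_smul], by simp [smul_smul]⟩, by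
    show ((t : F) • (1 : Mat)) * M = M * ((t : F) • 1)
    simp⟩

theorem eps_scalC (h : RegSkew M) (t : Fˣ) : eps h (scalC M t) = t := by
  obtain ⟨w, hw, hPhi⟩ := exists_eps h
  obtain ⟨c, hc⟩ := exists_Phi h (scalC M t).2
  refine Units.ext (smul_left_injective F hw ?_)
  show (eps h (scalC M t) : F) • w = (t : F) • w
  rw [eps_eq h hc, ← hPhi, ← hc]
  show ((t : F) • (1 : Mat)) *ᵥ w = _
  rw [smul_mulVec, one_mulVec]

theorem scalC_mem (h : RegSkew M) (t : Fˣ) : scalC M t ∈ S h := by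
  rw [mem_S]
  show st ((t : F) • (1 : Mat)) = _
  rw [st_smul, st_one]
  rfl

variable [Fintype F] [DecidableEq F]

theorem card_C (h : RegSkew M) :
    Nat.card (C M) = (Fintype.card F - 1) * Fintype.card F ^ (N₂ - 1) := by
  have e : C M ≃ {c : Fin (2 * k + 1 + 1) → F // c 0 ≠ 0} :=
    { toFun := fun g => ⟨(exists_Phi h g.2).choose, c0_ne h (exists_Phi h g.2).choose_spec⟩
      invFun := fun c => ⟨(isUnit_Phi h c.2).unit, Phi_commute _⟩
      left_inv := fun g => Subtype.ext (Units.ext (exists_Phi h g.2).choose_spec.symm)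
      right_inv := fun c => Subtype.ext (Phi_inj h (exists_Phi h (Phi_commute (M := M) c.1)).choose_spec.symm) }
  rw [Nat.card_congr e, Nat.card_congr (show {c : Fin (2 * k + 1 + 1) → F // c 0 ≠ 0} ≃
      {a : F // a ≠ 0} × (Fin (2 * k + 1) → F) from
    { toFun := fun c => (⟨c.1 0, c.2⟩, Fin.tail c.1)
      invFun := fun p => ⟨Fin.cons p.1.1 p.2, by simpa using p.1.2⟩
      left_inv := fun c => Subtype.ext (Fin.cons_self_tail _)
      right_inv := fun p => by simp }), Nat.card_prod, Nat.card_fun]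
  simp [Nat.card_eq_fintype_card, Fintype.card_subtype_compl, show 2 * (k + 1) - 1 = 2 * k + 1 by omega]

theorem card_S (h2 : (2 : F) ≠ 0) (h : RegSkew M) :
    Nat.card (S h) = (Fintype.card F - 1) * Fintype.card F ^ k := by
  have hz : ∀ {g : C M}, g ∈ S h → ∀ {c : Fin N₂ → F}, g.1.1 = Phi M c → ∀ i : Fin N₂, Odd (i : ℕ) → c i = 0 := by
    intro g hg c hc i hi
    rw [mem_S, hc, st_Phi h] at hg
    have e := congrFun (Phi_inj h hg) i
    simp only [hi.neg_one_pow, neg_one_mul] at e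
    exact (mul_eq_zero.mp (show (2 : F) * c i = 0 by linear_combination -e)).resolve_left h2
  let ext : (Fin (k + 1) → F) → Fin N₂ → F := fun a i =>
    if Even (i : ℕ) then a ⟨(i : ℕ) / 2, by omega⟩ else 0
  have hext : ∀ a : Fin (k + 1) → F, a 0 ≠ 0 → ext a ⟨0, by omega⟩ ≠ 0 := fun a ha => by simpa [ext] using ha
  have e : S h ≃ {a : Fin (k + 1) → F // a 0 ≠ 0} :=
    { toFun := fun g => ⟨fun j => (exists_Phi h g.1.2).choose ⟨2 * (j : ℕ), by omega⟩,
        c0_ne h (exists_Phi h g.1.2).choose_spec⟩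
      invFun := fun a => ⟨⟨(isUnit_Phi h (hext a.1 a.2)).unit, Phi_commute _⟩, mem_S.mpr (by
        show st (Phi M (ext a.1)) = Phi M (ext a.1)
        rw [st_Phi h]
        congr 1
        funext i
        by_cases hi : Even (i : ℕ) <;> simp [ext, hi])⟩
      left_inv := fun g => by
        refine Subtype.ext (Subtype.ext (Units.ext ?_))
        simp only [IsUnit.unit_spec]
        refine Eq.trans ?_ (exists_Phi h g.1.2).choose_spec.symm
        congr 1
        funext i
        by_cases hi : Even (i : ℕ)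
        · simp only [ext, if_pos hi]
          congr 1
          refine congrArg _ (Fin.ext ?_)
          show 2 * ((i : ℕ) / 2) = (i : ℕ)
          exact Nat.two_mul_div_two_of_even hi
        · simp only [ext, if_neg hi]
          exact (hz g.2 (exists_Phi h g.1.2).choose_spec i (Nat.not_even_iff_odd.mp hi)).symm
      right_inv := fun a => Subtype.ext (funext fun j => by
        show (exists_Phi h (Phi_commute (M := M) (ext a.1))).choose ⟨2 * (j : ℕ), _⟩ = a.1 j
        rw [← Phi_inj h (exists_Phi h (Phi_commute (M := M) (ext a.1))).choose_spec]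
        simp [ext]) }
  rw [Nat.card_congr e, Nat.card_congr (show {c : Fin (k + 1) → F // c 0 ≠ 0} ≃
      {a : F // a ≠ 0} × (Fin k → F) from
    { toFun := fun c => (⟨c.1 0, c.2⟩, Fin.tail c.1)
      invFun := fun p => ⟨Fin.cons p.1.1 p.2, by simpa using p.1.2⟩
      left_inv := fun c => Subtype.ext (Fin.cons_self_tail _)
      right_inv := fun p => by simp }), Nat.card_prod, Nat.card_fun]
  simp [Nat.card_eq_fintype_card, Fintype.card_subtype_compl]

/-- The norms are the self-adjoint units with square constant term. -/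
theorem range_nu (h2 : (2 : F) ≠ 0) (h : RegSkew M) (g : C M) :
    g ∈ (nu h).range ↔ g ∈ S h ∧ IsSquare (eps h g) := by
  constructor
  · rintro ⟨x, rfl⟩
    refine ⟨nu_mem_S h x, eps h x, ?_⟩
    show eps h (stC h x * x) = _
    rw [map_mul, eps_stC]
  · rintro ⟨hg, a, ha⟩
    set K := (eps h).ker ⊓ S h
    have hodd : Odd (Nat.card K) := by
      have hsurj : ((eps h).comp (S h).subtype).range = ⊤ := by
        rw [eq_top_iff]
        exact fun t _ => ⟨⟨scalC M t, scalC_mem h t⟩, eps_scalC h t⟩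
      have hk := ((eps h).comp (S h).subtype).ker.card_mul_index
      rw [Subgroup.index_ker, hsurj, Subgroup.card_top, Nat.card_units, Nat.card_eq_fintype_card (α := F),
        card_S h2 h] at hk
      have hKc : Nat.card K = Fintype.card F ^ k := by
        refine Eq.trans ?_ (Nat.eq_of_mul_eq_mul_right (show 0 < Fintype.card F - 1 by
          have := Fintype.one_lt_card (α := F); omega) (hk.trans (mul_comm _ _)))
        exact Nat.card_congr
          { toFun := fun x => ⟨⟨x.1, x.2.2⟩, x.2.1⟩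
            invFun := fun x => ⟨x.1.1, x.2, x.1.2⟩
            left_inv := fun _ => rfl
            right_inv := fun _ => rfl }
      rw [hKc]
      refine Odd.pow ?_
      rw [← Nat.not_even_iff_odd, Nat.even_iff, ← FiniteField.even_card_iff_char_two]
      intro hc
      exact h2 (by haveI := ringChar.of_eq hc; exact CharTwo.two_eq_zero)
    obtain ⟨r, hr⟩ := hodd
    set s := scalC M a
    have hs : s ∈ S h := scalC_mem h a
    have hy : g * (s * s)⁻¹ ∈ K := by
      refine Subgroup.mem_inf.mpr ⟨MonoidHom.mem_ker.mpr ?_, mul_mem hg (inv_mem (mul_mem hs hs))⟩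
      rw [map_mul, map_inv, map_mul, eps_scalC, ha, mul_inv_cancel]
    set y : K := ⟨_, hy⟩
    refine ⟨s * (y ^ (r + 1) : K).1, ?_⟩
    show stC h (s * (y ^ (r + 1) : K).1) * (s * (y ^ (r + 1) : K).1) = g
    rw [show stC h (s * (y ^ (r + 1) : K).1) = s * (y ^ (r + 1) : K).1 from mul_mem hs (y ^ (r + 1) : K).2.2]
    have hy2 : (y ^ (r + 1) : K).1 * (y ^ (r + 1) : K).1 = y.1 := by
      rw [← Subgroup.coe_mul, ← pow_add, show r + 1 + (r + 1) = Nat.card K + 1 by omega, pow_succ,
        pow_card_eq_one', one_mul]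
    rw [mul_assoc, ← mul_assoc _ s, C_comm h _ s, mul_assoc, hy2, ← mul_assoc, C_comm h (s * s)]
    show g * (s * s)⁻¹ * (s * s) = g
    rw [inv_mul_cancel_right]

theorem card_units_sq (h2 : (2 : F) ≠ 0) :
    2 * Nat.card (powMonoidHom 2 : Fˣ →* Fˣ).range = Fintype.card F - 1 := by
  have h := (powMonoidHom 2 : Fˣ →* Fˣ).range.card_mul_index
  rw [IsCyclic.index_powMonoidHom_range, Nat.card_units, Nat.card_eq_fintype_card (α := F)] at h
  have hev : 2 ∣ Fintype.card F - 1 := by
    have : Fintype.card F % 2 ≠ 0 := fun hc => h2 (by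
      haveI := ringChar.of_eq (FiniteField.even_card_iff_char_two.mpr hc); exact CharTwo.two_eq_zero)
    omega
  rw [Nat.gcd_eq_right hev] at h
  rw [mul_comm]; exact h

theorem card_ker_nu (h2 : (2 : F) ≠ 0) (h : RegSkew M) :
    Nat.card (nu h).ker = 2 * Fintype.card F ^ (k + 1) := by
  have hr : Nat.card (nu h).range * 2 = Nat.card (S h) := by
    let ψ := (eps h).comp (S h).subtype
    have hsurj : Function.Surjective ψ := fun t => ⟨⟨scalC M t, scalC_mem h t⟩, eps_scalC h t⟩
    have hidx : ((powMonoidHom 2 : Fˣ →* Fˣ).range.comap ψ).index = 2 := by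
      rw [Subgroup.index_comap_of_surjective _ hsurj]
      have h1 := (powMonoidHom 2 : Fˣ →* Fˣ).range.card_mul_index
      have h2' := card_units_sq h2
      rw [Nat.card_units, Nat.card_eq_fintype_card (α := F)] at h1
      have hpos : 0 < Nat.card (powMonoidHom 2 : Fˣ →* Fˣ).range := Nat.card_pos
      rw [← h2', mul_comm 2] at h1
      exact Nat.eq_of_mul_eq_mul_left hpos h1
    rw [← ((powMonoidHom 2 : Fˣ →* Fˣ).range.comap ψ).card_mul_index, hidx]
    congr 1
    refine Nat.card_congr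
      { toFun := fun x => ⟨⟨x.1, ((range_nu h2 h x.1).mp x.2).1⟩, by
          obtain ⟨a, ha⟩ := ((range_nu h2 h x.1).mp x.2).2
          exact ⟨a, by show a ^ 2 = eps h x.1; rw [pow_two, ha]⟩⟩
        invFun := fun x => ⟨x.1.1, (range_nu h2 h x.1.1).mpr ⟨x.1.2, by
          obtain ⟨a, ha⟩ := x.2
          exact ⟨a, by rw [← pow_two]; exact ha.symm⟩⟩⟩
        left_inv := fun _ => rfl
        right_inv := fun _ => rfl }
  have hk := (nu h).ker.card_mul_index
  rw [Subgroup.index_ker, card_C h] at hk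
  rw [card_S h2 h] at hr
  have hF := Fintype.one_lt_card (α := F)
  refine Nat.eq_of_mul_eq_mul_right (show 0 < (Fintype.card F - 1) * Fintype.card F ^ k from
    Nat.mul_pos (by omega) (pow_pos (by omega) _)) ?_
  calc Nat.card (nu h).ker * ((Fintype.card F - 1) * Fintype.card F ^ k)
      = Nat.card (nu h).ker * Nat.card (nu h).range * 2 := by rw [← hr]; ring
    _ = _ := by
      rw [hk, show N₂ - 1 = 2 * k + 1 by omega]
      ring

end CfsgLib.SympRegular
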