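import Cfsg.Agent.Lib.SympRegular

/-!
Classes and centralisers of regular unipotent symplectic elements, `q` odd, through the Cayley transform.
-/

set_option autoImplicit false
set_option linter.unusedSectionVars false

namespace CfsgLib.SympRegular

open Matrix

variable {F : Type*} [Field F] {k : ℕ}

local notation "N₂" => 2 * (k + 1)
local notation "Mat" => Matrix (Fin (k + 1) ⊕ Fin (k + 1)) (Fin (k + 1) ⊕ Fin (k + 1)) F
local notation "Jm" => Matrix.J (Fin (k + 1)) F
/-- The symplectic group on `2 (k + 1)` points. -/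
abbrev SpG (F : Type*) [Field F] (k : ℕ) := ↥(Matrix.symplecticGroup (Fin (k + 1)) F)

local notation "Sp" => SpG F k

/-- The form for which the shift is skew. -/
def altForm (F : Type*) [Field F] (k : ℕ) : Matrix (Fin (2 * (k + 1))) (Fin (2 * (k + 1))) F :=
  Matrix.of fun i j => if (i : ℕ) + (j : ℕ) + 1 = 2 * (k + 1) then (-1) ^ (i : ℕ) else 0

/-- The lower shift. -/
def lowShift (F : Type*) [Field F] (n : ℕ) : Matrix (Fin n) (Fin n) F :=
  Matrix.of fun i j => if (i : ℕ) = (j : ℕ) + 1 then 1 else 0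

theorem lowShift_pow (n i : ℕ) (a b : Fin n) :
    (lowShift F n ^ i) a b = if (a : ℕ) = (b : ℕ) + i then 1 else 0 := by
  induction i generalizing a b with
  | zero => rw [pow_zero, Matrix.one_apply]; simp [Fin.ext_iff]
  | succ i ih =>
    rw [pow_succ', Matrix.mul_apply]
    by_cases ha : (a : ℕ) = 0
    · rw [if_neg (by omega), Finset.sum_eq_zero fun l _ => ?_]
      simp [lowShift, show ¬ (a : ℕ) = (l : ℕ) + 1 by omega]
    · rw [Finset.sum_eq_single (⟨(a : ℕ) - 1, by omega⟩ : Fin n)]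
      · rw [ih]
        simp only [lowShift, Matrix.of_apply, if_pos (show (a : ℕ) = (a : ℕ) - 1 + 1 by omega), one_mul]
        by_cases hab : (a : ℕ) = (b : ℕ) + (i + 1)
        · rw [if_pos hab, if_pos (by omega)]
        · rw [if_neg hab, if_neg (by omega)]
      · intro l _ hl
        have : ¬ (a : ℕ) = (l : ℕ) + 1 := fun h => hl (Fin.ext (by simp; omega))
        simp [lowShift, this]
      · simp

/-- A regular nilpotent skew element exists. -/
theorem exists_regSkew : ∃ M : Mat, RegSkew M := by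
  classical
  set G := altForm F k
  set N := lowShift F (2 * (k + 1))
  have hskew : Gᵀ = -G := by
    ext i j
    simp only [G, altForm, transpose_apply, Matrix.of_apply, Matrix.neg_apply]
    by_cases h : (i : ℕ) + (j : ℕ) + 1 = 2 * (k + 1)
    · rw [if_pos h, if_pos (by omega)]
      rcases Nat.even_or_odd (i : ℕ) with he | ho
      · have hj : Odd (j : ℕ) := by
          rw [Nat.odd_iff]; rw [Nat.even_iff] at he; omega
        rw [he.neg_one_pow, hj.neg_one_pow]
      · have hj : Even (j : ℕ) := by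
          rw [Nat.even_iff]; rw [Nat.odd_iff] at ho; omega
        rw [ho.neg_one_pow, hj.neg_one_pow, neg_neg]
    · rw [if_neg h, if_neg (by omega), neg_zero]
  have hdiag : ∀ i, G i i = 0 := fun i => by
    simp only [G, altForm, Matrix.of_apply]
    rw [if_neg (by omega)]
  have hdet : G.det ≠ 0 := by
    have hGG : G * G = -1 := by
      ext i j
      rw [Matrix.mul_apply, Finset.sum_eq_single (⟨2 * (k + 1) - 1 - (i : ℕ), by omega⟩ : Fin (2 * (k + 1)))]
      · simp only [G, altForm, Matrix.of_apply, Matrix.neg_apply, Matrix.one_apply]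
        rw [if_pos (by omega)]
        by_cases hij : i = j
        · subst hij
          rw [if_pos (by omega), if_pos rfl, ← pow_add]
          exact Odd.neg_one_pow (Nat.odd_iff.mpr (by omega))
        · rw [if_neg (fun h => hij (Fin.ext (by omega))), if_neg hij, mul_zero, neg_zero]
      · intro l _ hl
        simp only [G, altForm, Matrix.of_apply]
        rw [if_neg (fun h => hl (Fin.ext (by simp; omega))), zero_mul]
      · simp
    intro h
    have := congrArg Matrix.det hGG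
    rw [det_mul, h, mul_zero, det_neg, det_one, mul_one] at this
    exact pow_ne_zero _ (neg_ne_zero.mpr one_ne_zero) this.symm
  have hN : Nᵀ * G + G * N = 0 := by
    ext i j
    rw [Matrix.add_apply, Matrix.mul_apply, Matrix.mul_apply, Matrix.zero_apply]
    simp only [G, N, altForm, lowShift, transpose_apply, Matrix.of_apply]
    by_cases h : (i : ℕ) + (j : ℕ) + 2 = 2 * (k + 1)
    · rw [Finset.sum_eq_single (⟨(i : ℕ) + 1, by omega⟩ : Fin (2 * (k + 1))),
        Finset.sum_eq_single (⟨(j : ℕ) + 1, by omega⟩ : Fin (2 * (k + 1)))]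
      · rw [if_pos rfl, if_pos (by simp; omega), if_pos (by simp; omega), if_pos rfl, one_mul, mul_one, pow_succ]
        simp
      · intro l _ hl; rw [if_neg (fun e => hl (Fin.ext (by simp; omega))), zero_mul]
      · simp
      · intro l _ hl; rw [if_neg (fun e => hl (Fin.ext (by simp; omega))), zero_mul]
      · simp
    · rw [Finset.sum_eq_zero fun l _ => ?_, Finset.sum_eq_zero fun l _ => ?_, add_zero]
      · by_cases hl : (l : ℕ) = (j : ℕ) + 1
        · rw [if_neg (show ¬ (i : ℕ) + (l : ℕ) + 1 = 2 * (k + 1) by omega), zero_mul]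
        · rw [if_neg hl, mul_zero]
      · by_cases hl : (l : ℕ) = (i : ℕ) + 1
        · rw [if_neg (show ¬ (l : ℕ) + (j : ℕ) + 1 = 2 * (k + 1) by omega), mul_zero]
        · rw [if_neg hl, zero_mul]
  obtain ⟨m, hm, P, P', s, hP, hP', hJ⟩ := PSLnGraph.exists_symp hskew hdiag hdet
  rw [Fintype.card_fin] at hm
  obtain rfl : m = k + 1 := by omega
  have hpow : ∀ i, (P' * N * P) ^ i = P' * N ^ i * P := by
    intro i
    induction i with
    | zero => rw [pow_zero, pow_zero, Matrix.mul_one, hP']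
    | succ i ih =>
      rw [pow_succ, ih, pow_succ]
      calc _ = P' * N ^ i * (P * P') * N * P := by simp only [Matrix.mul_assoc]
        _ = _ := by rw [hP, Matrix.mul_one]; simp only [Matrix.mul_assoc]
  refine ⟨P' * N * P, ?_, ?_, ?_⟩
  · have key : (P' * N * P)ᵀ * Jm + Jm * (P' * N * P) = 0 := by
      rw [← hJ, Matrix.mul_smul, Matrix.smul_mul, ← smul_add]
      have e1 : (P' * N * P)ᵀ * (Pᵀ * G * P) = Pᵀ * (Nᵀ * G) * P := by
        calc _ = Pᵀ * Nᵀ * (P * P')ᵀ * G * P := by simp only [transpose_mul, Matrix.mul_assoc]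
          _ = _ := by rw [hP, transpose_one, Matrix.mul_one]; simp only [Matrix.mul_assoc]
      have e2 : Pᵀ * G * P * (P' * N * P) = Pᵀ * (G * N) * P := by
        calc _ = Pᵀ * G * (P * P') * N * P := by simp only [Matrix.mul_assoc]
          _ = _ := by rw [hP, Matrix.mul_one]; simp only [Matrix.mul_assoc]
      rw [e1, e2, ← Matrix.add_mul, ← Matrix.mul_add, hN, Matrix.mul_zero, Matrix.zero_mul, smul_zero]
    rw [st, Matrix.mul_assoc, eq_neg_of_add_eq_zero_left key, Matrix.mul_neg, ← Matrix.mul_assoc, JJ, Matrix.neg_mul,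
      Matrix.one_mul, neg_neg]
  · rw [hpow, show N ^ (2 * (k + 1)) = 0 from Matrix.ext fun a b => by
      rw [lowShift_pow, if_neg (by omega)]; rfl, Matrix.mul_zero, Matrix.zero_mul]
  · intro h0
    rw [hpow] at h0
    have : N ^ (2 * (k + 1) - 1) = 0 := by
      calc N ^ (2 * (k + 1) - 1) = (P * P') * N ^ (2 * (k + 1) - 1) * (P * P') := by
            rw [hP, Matrix.one_mul, Matrix.mul_one]
        _ = P * (P' * N ^ (2 * (k + 1) - 1) * P) * P' := by simp only [Matrix.mul_assoc]
        _ = 0 := by rw [h0, Matrix.mul_zero, Matrix.zero_mul]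
    have h1 := congrFun (congrFun this ⟨2 * (k + 1) - 1, by omega⟩) ⟨0, by omega⟩
    rw [lowShift_pow, if_pos (by simp)] at h1
    exact one_ne_zero h1

/-- A nilpotent endomorphism of corank one has maximal index. -/
theorem pow_ne_zero_of_rank {ι : Type} [Fintype ι] [DecidableEq ι] (N : Matrix ι ι F)
    (hr : Fintype.card ι ≤ N.rank + 1) : ∀ i, i < Fintype.card ι → N ^ i ≠ 0 := by
  have key : ∀ i, Module.finrank F (LinearMap.ker (N ^ i).mulVecLin) ≤ i := by
    have hker : Module.finrank F (LinearMap.ker N.mulVecLin) ≤ 1 := by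
      have := LinearMap.finrank_range_add_finrank_ker N.mulVecLin
      rw [Module.finrank_pi] at this
      change N.rank + _ = _ at this
      omega
    intro i
    induction i with
    | zero => rw [pow_zero, mulVecLin_one, LinearMap.ker_id, finrank_bot]
    | succ i ih =>
      let f := N.mulVecLin.restrict (p := LinearMap.ker (N ^ (i + 1)).mulVecLin)
        (q := LinearMap.ker (N ^ i).mulVecLin) (fun x hx => by
          rw [LinearMap.mem_ker, mulVecLin_apply] at hx ⊢
          rw [mulVecLin_apply, mulVec_mulVec, ← pow_succ]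
          exact hx)
      have h1 := LinearMap.finrank_range_add_finrank_ker f
      have h2 : Module.finrank F (LinearMap.range f) ≤ i := (Submodule.finrank_le _).trans ih
      have h3 : Module.finrank F (LinearMap.ker f) ≤ 1 := by
        refine le_trans ?_ hker
        let g : LinearMap.ker f →ₗ[F] LinearMap.ker N.mulVecLin :=
          { toFun := fun x => ⟨x.1.1, congrArg Subtype.val x.2⟩
            map_add' := fun _ _ => rfl
            map_smul' := fun _ _ => rfl }
        exact LinearMap.finrank_le_finrank_of_injective (f := g) fun a b e =>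
          Subtype.ext (Subtype.ext (congrArg (fun z : LinearMap.ker N.mulVecLin => z.1) e))
      omega
  intro i hi h0
  have := key i
  rw [h0, mulVecLin_zero, LinearMap.ker_zero, finrank_top, Module.finrank_pi] at this
  omega

theorem rank_of_regSkew {M : Mat} (h : RegSkew M) : M.rank + 1 = N₂ := by
  obtain ⟨v, hv, hind, hspan⟩ := exists_cyclic h
  have hker : Module.finrank F (LinearMap.ker M.mulVecLin) = 1 := by
    rw [finrank_eq_one_iff']
    refine ⟨⟨M ^ (N₂ - 1) *ᵥ v, ?_⟩, fun e => hv (congrArg Subtype.val e), ?_⟩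
    · rw [LinearMap.mem_ker, mulVecLin_apply, mulVec_mulVec, ← pow_succ', Nat.sub_add_cancel (by omega), h.nil,
        zero_mulVec]
    · rintro ⟨x, hx⟩
      rw [LinearMap.mem_ker, mulVecLin_apply] at hx
      obtain ⟨a, ha⟩ := (Submodule.mem_span_range_iff_exists_fun F).mp
        (show x ∈ Submodule.span F (Set.range fun i : Fin N₂ => M ^ (i : ℕ) *ᵥ v) by rw [hspan]; trivial)
      refine ⟨a ⟨N₂ - 1, by omega⟩, Subtype.ext ?_⟩
      show a ⟨N₂ - 1, by omega⟩ • (M ^ (N₂ - 1) *ᵥ v) = x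
      have hzero : ∀ i : Fin N₂, (i : ℕ) + 1 < N₂ → a i = 0 := by
        rw [← ha, mulVec_sum] at hx
        simp only [mulVec_smul, mulVec_mulVec, ← pow_succ'] at hx
        intro i hi
        have := Fintype.linearIndependent_iff.mp hind
          (fun j => if hj : 0 < (j : ℕ) then a ⟨(j : ℕ) - 1, by omega⟩ else 0) ?_ ⟨(i : ℕ) + 1, hi⟩
        · simpa using this
        refine Eq.trans ?_ hx
        show ∑ j : Fin (2 * k + 1 + 1), (if hj : 0 < (j : ℕ) then a ⟨(j : ℕ) - 1, by omega⟩ else 0) • (M ^ (j : ℕ) *ᵥ v) =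
          ∑ j : Fin (2 * k + 1 + 1), a j • (M ^ ((j : ℕ) + 1) *ᵥ v)
        conv_lhs => rw [Fin.sum_univ_succ]
        conv_rhs => rw [Fin.sum_univ_castSucc]
        rw [show M ^ ((Fin.last (2 * k + 1) : ℕ) + 1) = 0 from by
          rw [Fin.val_last, show 2 * k + 1 + 1 = N₂ by omega]; exact h.nil]
        simp
        rfl
      rw [← ha, Finset.sum_eq_single (⟨N₂ - 1, by omega⟩ : Fin N₂)]
      · intro i _ hi
        rw [hzero i (by
          have : (i : ℕ) ≠ N₂ - 1 := fun e => hi (Fin.ext e)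
          omega), zero_smul]
      · exact fun hh => absurd (Finset.mem_univ _) hh
  have := LinearMap.finrank_range_add_finrank_ker M.mulVecLin
  rw [hker, Module.finrank_pi] at this
  change M.rank + 1 = _ at this
  rw [this]; simp [two_mul]

/-- The regular unipotent elements. -/
def IsReg (u : Sp) : Prop := ((u : Mat) - 1) ^ N₂ = 0 ∧ ((u : Mat) - 1).rank = N₂ - 1

/-- Cayley transform: the defining relation. -/
def Cay (A M : Mat) : Prop := A * (1 - M) = 1 + M

theorem isUnit_one_sub {M : Mat} (h : RegSkew M) : IsUnit (1 - M) := IsNilpotent.isUnit_one_sub ⟨_, h.nil⟩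

theorem cay_comm {A M : Mat} (hc : Cay A M) (h : RegSkew M) : A * M = M * A := by
  obtain ⟨w, hw⟩ := isUnit_one_sub h
  have e : M * A * (1 - M) = A * M * (1 - M) := by
    rw [Matrix.mul_assoc, hc, Matrix.mul_assoc, show M * (1 - M) = (1 - M) * M by
      rw [Matrix.mul_sub, Matrix.sub_mul, Matrix.mul_one, Matrix.one_mul], ← Matrix.mul_assoc, hc,
      Matrix.mul_add, Matrix.add_mul, Matrix.mul_one, Matrix.one_mul]
  rw [← hw] at e
  exact ((Units.mul_left_inj w).mp e).symm

theorem cay_commute_iff (h2 : (2 : F) ≠ 0) {A M : Mat} (hc : Cay A M) (h : RegSkew M) (X : Mat) :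
    X * A = A * X ↔ X * M = M * X := by
  constructor
  · intro e
    -- `A - 1 = (A + 1) M`
    have e1 : (A + 1) * M = A - 1 := by
      have hc' : A - A * M = 1 + M := by
        have := hc
        rw [Cay, Matrix.mul_sub, Matrix.mul_one] at this
        exact this
      rw [Matrix.add_mul, Matrix.one_mul]
      linear_combination (norm := noncomm_ring) (-1 : ℤ) • hc'
    have hu : IsUnit (A + 1) := by
      obtain ⟨w, hw⟩ := isUnit_one_sub h
      have e2 : (A + 1) * (1 - M) = (2 : F) • 1 := by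
        rw [Matrix.add_mul, Matrix.one_mul, hc, two_smul]; abel
      refine isUnit_of_mul_isUnit_left (x := A + 1) (y := 1 - M) ?_
      rw [e2]
      exact (isUnit_one).smul (Units.mk0 _ h2)
    obtain ⟨z, hz⟩ := hu
    have e3 : (A + 1) * (X * M) = (A + 1) * (M * X) := by
      rw [← Matrix.mul_assoc (A + 1) M, e1, ← Matrix.mul_assoc, show (A + 1) * X = X * (A + 1) by
        rw [Matrix.add_mul, Matrix.mul_add, Matrix.one_mul, Matrix.mul_one, e], Matrix.mul_assoc, e1,
        Matrix.mul_sub, Matrix.sub_mul, Matrix.mul_one, Matrix.one_mul, e]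
    rw [← hz] at e3
    exact (Units.mul_right_inj z).mp e3
  · intro e
    obtain ⟨w, hw⟩ := isUnit_one_sub h
    have e2 : X * A * (1 - M) = A * X * (1 - M) := by
      rw [Matrix.mul_assoc, hc, Matrix.mul_assoc, show X * (1 - M) = (1 - M) * X by
        rw [Matrix.mul_sub, Matrix.sub_mul, Matrix.mul_one, Matrix.one_mul, e], ← Matrix.mul_assoc, hc,
        Matrix.mul_add, Matrix.add_mul, Matrix.mul_one, Matrix.one_mul, e]
    rw [← hw] at e2
    exact (Units.mul_left_inj w).mp e2

theorem st_add (A B : Mat) : st (A + B) = st A + st B := by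
  simp [st, Matrix.mul_add, Matrix.add_mul, add_comm]

theorem st_sub (A B : Mat) : st (A - B) = st A - st B := by
  rw [eq_sub_iff_add_eq, ← st_add, sub_add_cancel]

/-- Every regular unipotent element is a Cayley transform. -/
theorem exists_cay (h2 : (2 : F) ≠ 0) (u : Sp) (hu : IsReg u) : ∃ M : Mat, RegSkew M ∧ Cay (u : Mat) M := by
  obtain ⟨hnil, hr⟩ := hu
  set N := (u : Mat) - 1 with hN
  have hU : IsUnit ((u : Mat) + 1) := by
    rw [show (u : Mat) + 1 = N + (2 : F) • 1 by rw [hN, two_smul]; abel]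
    exact IsNilpotent.isUnit_add_right_of_commute ⟨_, hnil⟩ ((isUnit_one).smul (Units.mk0 _ h2))
      ((Commute.one_right N).smul_right _)
  obtain ⟨z, hz⟩ := hU
  set M := ((z⁻¹ : Matˣ) : Mat) * N with hM
  have hzN : Commute ((z⁻¹ : Matˣ) : Mat) N := by
    refine Commute.units_inv_left ?_
    rw [hz, hN]
    exact ((Commute.refl (u : Mat)).add_left (Commute.one_left _)).sub_right (Commute.one_right _)
  have hzM : ((u : Mat) + 1) * M = N := by rw [hM, ← hz, ← Matrix.mul_assoc, Units.mul_inv, Matrix.one_mul]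
  have hcay : Cay (u : Mat) M := by
    rw [Cay, Matrix.mul_sub, Matrix.mul_one, sub_eq_iff_eq_add]
    rw [Matrix.add_mul, Matrix.one_mul, hN] at hzM
    linear_combination (norm := noncomm_ring) (-1 : ℤ) • hzM
  have hMpow : ∀ i, M ^ i = ((z⁻¹ : Matˣ) : Mat) ^ i * N ^ i := fun i => by rw [hM, hzN.mul_pow]
  have hsk : st M = -M := by
    have hsu : st (u : Mat) * (u : Mat) = 1 := (mem_iff _).mp u.2
    -- take adjoints of `(u + 1) M = u - 1`
    have e := congrArg st hzM
    rw [st_mul, st_add, hN, st_sub, st_one] at e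
    have e2 : st M * ((st (u : Mat) + 1) * (u : Mat)) = (st (u : Mat) - 1) * (u : Mat) := by
      rw [← Matrix.mul_assoc, e]
    rw [Matrix.add_mul, Matrix.sub_mul, hsu, Matrix.one_mul, add_comm (1 : Mat) (u : Mat), ← hz] at e2
    have e3 : ((z : Matˣ) : Mat) * M = M * z := by
      rw [hM, ← Matrix.mul_assoc, Units.mul_inv, Matrix.one_mul, Matrix.mul_assoc]
      have : N * (z : Mat) = (z : Mat) * N := by
        rw [hz, hN, Matrix.mul_add, Matrix.add_mul, Matrix.mul_one, Matrix.one_mul, Matrix.sub_mul, Matrix.mul_sub,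
          Matrix.one_mul, Matrix.mul_one]
      rw [this, ← Matrix.mul_assoc, Units.inv_mul, Matrix.one_mul]
    have e4 : st M * (z : Mat) = -M * (z : Mat) := by
      rw [e2, Matrix.neg_mul, ← e3, hz, hzM, hN, neg_sub]
    exact (Units.mul_left_inj z).mp e4
  refine ⟨M, ⟨hsk, ?_, ?_⟩, hcay⟩
  · rw [hMpow, hnil, Matrix.mul_zero]
  · intro h0
    rw [hMpow] at h0
    refine pow_ne_zero_of_rank N (by rw [hr]; simp; omega) (N₂ - 1) (by simp; omega) ?_
    rw [← Units.val_pow_eq_pow_val] at h0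
    have := congrArg (fun X => (((z⁻¹ : Matˣ) ^ (N₂ - 1))⁻¹ : Matˣ).1 * X) h0
    simp only [← Matrix.mul_assoc, Units.inv_mul, Matrix.one_mul, Matrix.mul_zero] at this
    exact this

/-- Cayley transforms of regular nilpotent skew elements are regular unipotent. -/
theorem exists_of_regSkew (h2 : (2 : F) ≠ 0) {M : Mat} (h : RegSkew M) : ∃ u : Sp, IsReg u ∧ Cay (u : Mat) M := by
  obtain ⟨w, hw⟩ := isUnit_one_sub h
  set A := (1 + M) * ((w⁻¹ : Matˣ) : Mat) with hA
  have hc : Cay A M := by rw [Cay, hA, Matrix.mul_assoc, ← hw, Units.inv_mul, Matrix.mul_one]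
  have hsp : A ∈ Matrix.symplecticGroup (Fin (k + 1)) F := by
    rw [mem_iff]
    have e := congrArg st hc
    rw [st_mul, st_sub, st_add, st_one, h.skew, sub_neg_eq_add, ← sub_eq_add_neg] at e
    -- `(1 + M) st A = 1 - M`
    have hcomm := cay_comm hc h
    have e2 : (1 + M) * (st A * A) = (1 + M) * 1 := by
      rw [← Matrix.mul_assoc, e, show (1 - M) * A = A * (1 - M) by
        rw [Matrix.mul_sub, Matrix.sub_mul, Matrix.mul_one, Matrix.one_mul, hcomm], hc, Matrix.mul_one]
    obtain ⟨w', hw'⟩ := IsNilpotent.isUnit_one_add (r := M) ⟨_, h.nil⟩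
    rw [← hw'] at e2
    exact (Units.mul_right_inj w').mp e2
  refine ⟨⟨A, hsp⟩, ⟨?_, ?_⟩, hc⟩
  all_goals
    have e : A - 1 = (2 : F) • (M * ((w⁻¹ : Matˣ) : Mat)) := by
      have : (A - 1) * (w : Mat) = (2 : F) • M := by
        rw [hw, Matrix.sub_mul, hc, Matrix.one_mul, two_smul]; abel
      rw [← Matrix.smul_mul, ← this, Matrix.mul_assoc, Units.mul_inv, Matrix.mul_one]
  · have hcw : Commute M ((w⁻¹ : Matˣ) : Mat) := by
      refine (Commute.units_inv_left ?_).symm
      rw [hw]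
      exact (Commute.one_left M).sub_left (Commute.refl M)
    show (A - 1) ^ N₂ = 0
    rw [e, smul_pow, hcw.mul_pow, h.nil, Matrix.zero_mul, smul_zero]
  · show (A - 1).rank = N₂ - 1
    have hdet : IsUnit ((2 : F) • ((w⁻¹ : Matˣ) : Mat)).det := by
      rw [det_smul]
      exact ((isUnit_iff_ne_zero.mpr h2).pow _).mul ((Matrix.isUnit_iff_isUnit_det _).mp (Units.isUnit _))
    rw [e, ← Matrix.mul_smul, Matrix.rank_mul_eq_left_of_isUnit_det _ _ hdet]
    have := rank_of_regSkew h
    omega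

/-- The centraliser of a regular unipotent element. -/
noncomputable def centEquiv (h2 : (2 : F) ≠ 0) {M : Mat} (h : RegSkew M) {u : Sp} (hc : Cay (u : Mat) M) :
    ↥(Subgroup.centralizer ({u} : Set Sp)) ≃ (nu h).ker where
  toFun g := by
    have hst : st (g.1 : Mat) * (g.1 : Mat) = 1 := (mem_iff _).mp g.1.2
    refine ⟨⟨⟨g.1, st (g.1 : Mat), mul_eq_one_comm.mp hst, hst⟩, ?_⟩, MonoidHom.mem_ker.mpr ?_⟩
    · exact (cay_commute_iff h2 hc h _).mp (congrArg Subtype.val (Subgroup.mem_centralizer_singleton_iff.mp g.2))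
    · exact Subtype.ext (Units.ext hst)
  invFun g := ⟨⟨g.1.1.1, (mem_iff _).mpr
      (congrArg (fun x : C M => x.1.1) (MonoidHom.mem_ker.mp g.2))⟩,
    Subgroup.mem_centralizer_singleton_iff.mpr (Subtype.ext ((cay_commute_iff h2 hc h _).mpr g.1.2))⟩
  left_inv _ := rfl
  right_inv _ := Subtype.ext (Subtype.ext (Units.ext rfl))

theorem card_centralizer [Fintype F] [DecidableEq F] (h2 : (2 : F) ≠ 0) (u : Sp) (hu : IsReg u) :
    Nat.card ↥(Subgroup.centralizer ({u} : Set Sp)) = 2 * Fintype.card F ^ (k + 1) := by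
  obtain ⟨M, h, hc⟩ := exists_cay h2 u hu
  rw [Nat.card_congr (centEquiv h2 h hc), card_ker_nu h2 h]

/-- A change of cyclic basis. -/
theorem exists_intertwine {M₀ M : Mat} (h₀ : RegSkew M₀) (h : RegSkew M) :
    ∃ P : GL (Fin (k + 1) ⊕ Fin (k + 1)) F, M * P.1 = P.1 * M₀ := by
  classical
  obtain ⟨v₀, -, hi₀, hs₀⟩ := exists_cyclic h₀
  obtain ⟨v, -, hi, hs⟩ := exists_cyclic h
  let b₀ := Module.Basis.mk hi₀ hs₀.ge
  let b := Module.Basis.mk hi hs.ge
  let E := b₀.equiv b (Equiv.refl _)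
  have hE : ∀ i : Fin N₂, E (M₀ ^ (i : ℕ) *ᵥ v₀) = M ^ (i : ℕ) *ᵥ v := fun i => by
    have := b₀.equiv_apply i b (Equiv.refl _)
    simpa [b₀, b] using this
  have hE' : ∀ j, E (M₀ ^ j *ᵥ v₀) = M ^ j *ᵥ v := fun j => by
    rcases lt_or_ge j N₂ with hj | hj
    · exact hE ⟨j, hj⟩
    · rw [pow_eq_zero_of_le hj h₀.nil, pow_eq_zero_of_le hj h.nil, zero_mulVec, zero_mulVec, map_zero]
  let A := LinearMap.toMatrix' E.toLinearMap
  let B := LinearMap.toMatrix' E.symm.toLinearMap
  have hAB : A * B = 1 := by rw [← LinearMap.toMatrix'_comp]; simp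
  refine ⟨⟨A, B, hAB, mul_eq_one_comm.mp hAB⟩, ?_⟩
  have hA : ∀ x, A *ᵥ x = E x := fun x => by simp [A]
  refine Matrix.ext_of_mulVec_single fun j => ?_
  obtain ⟨a, ha⟩ := (Submodule.mem_span_range_iff_exists_fun F).mp
    (show Pi.single j (1 : F) ∈ Submodule.span F (Set.range fun i : Fin N₂ => M₀ ^ (i : ℕ) *ᵥ v₀) by
      rw [hs₀]; trivial)
  rw [← ha, mulVec_sum, mulVec_sum]
  refine Finset.sum_congr rfl fun i _ => ?_
  rw [mulVec_smul, mulVec_smul, ← mulVec_mulVec, ← mulVec_mulVec, hA, hA, hE', mulVec_mulVec, mulVec_mulVec,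
    ← pow_succ', ← pow_succ', hE']

/-- The similitude scaling half of the basis. -/
def dil (t : F) : Mat := fromBlocks (t • 1) 0 0 1

theorem st_dil (t : F) : st (dil (k := k) t) * dil t = t • 1 := by
  have e : st (dil (k := k) t) = fromBlocks 1 0 0 (t • 1) := by
    simp [st, dil, Matrix.J, fromBlocks_transpose, fromBlocks_multiply, fromBlocks_neg]
  rw [e, dil, fromBlocks_multiply, ← fromBlocks_one, fromBlocks_smul]
  simp

/-- Two classes of regular unipotent elements. -/
theorem card_classes [Fintype F] [DecidableEq F] (h2 : (2 : F) ≠ 0) :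
    Nat.card {C : ConjClasses Sp // ∃ u : Sp, ConjClasses.mk u = C ∧ IsReg u} = 2 := by
  classical
  obtain ⟨M₀, h₀⟩ := exists_regSkew (F := F) (k := k)
  obtain ⟨u₀, hu₀, hc₀⟩ := exists_of_regSkew h2 h₀
  obtain ⟨t, ht⟩ : ∃ t : F, ¬ IsSquare t := FiniteField.exists_nonsquare fun hc =>
    h2 (by haveI := ringChar.of_eq hc; exact CharTwo.two_eq_zero)
  have ht0 : t ≠ 0 := fun e => ht (e ▸ IsSquare.zero)
  let D : GL (Fin (k + 1) ⊕ Fin (k + 1)) F := ⟨dil t, dil t⁻¹,
    by simp [dil, fromBlocks_multiply, smul_smul, ht0], by simp [dil, fromBlocks_multiply, smul_smul, ht0]⟩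
  -- conjugates by similitudes stay symplectic
  have conj_mem : ∀ (P : GL (Fin (k + 1) ⊕ Fin (k + 1)) F) (c : F), c ≠ 0 → st P.1 * P.1 = c • 1 →
      ∀ u : Sp, P.1 * (u : Mat) * (P⁻¹).1 ∈ Matrix.symplecticGroup (Fin (k + 1)) F := by
    intro P c hc hP u
    have hinv : st (P⁻¹).1 = c⁻¹ • P.1 := by
      have e : c • (st (P⁻¹).1) = st (P⁻¹).1 * (st P.1 * P.1) := by rw [hP, Matrix.mul_smul, Matrix.mul_one]
      rw [← Matrix.mul_assoc, ← st_mul, Units.mul_inv, st_one, Matrix.one_mul] at e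
      rw [← e, smul_smul, inv_mul_cancel₀ hc, one_smul]
    rw [mem_iff, st_mul, st_mul, hinv]
    calc _ = c⁻¹ • (P.1 * (st (u : Mat) * (st P.1 * P.1) * (u : Mat)) * (P⁻¹).1) := by
          simp only [Matrix.smul_mul, Matrix.mul_assoc]
      _ = _ := by
          rw [hP, Matrix.mul_smul, Matrix.mul_one, Matrix.smul_mul, (mem_iff _).mp u.2, Matrix.mul_smul,
            Matrix.mul_one, Matrix.smul_mul, Units.mul_inv, smul_smul, inv_mul_cancel₀ hc, one_smul]
  set u₁ : Sp := ⟨D.1 * (u₀ : Mat) * (D⁻¹).1, conj_mem D t ht0 (st_dil t) u₀⟩ with hu₁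
  have hu₁r : IsReg u₁ := by
    have e : (u₁ : Mat) - 1 = D.1 * ((u₀ : Mat) - 1) * (D⁻¹).1 := by
      rw [hu₁, Matrix.mul_sub, Matrix.sub_mul, Matrix.mul_one, Units.mul_inv]
    refine ⟨?_, ?_⟩
    · rw [e, Units.conj_pow, hu₀.1, Matrix.mul_zero, Matrix.zero_mul]
    · rw [e, Matrix.rank_mul_eq_left_of_isUnit_det _ _ ((Matrix.isUnit_iff_isUnit_det _).mp (Units.isUnit _)),
        Matrix.rank_mul_eq_right_of_isUnit_det _ _ ((Matrix.isUnit_iff_isUnit_det _).mp (Units.isUnit _))]
      exact hu₀.2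
  have hne : ConjClasses.mk u₀ ≠ ConjClasses.mk u₁ := by
    rw [Ne, ConjClasses.mk_eq_mk_iff_isConj, isConj_iff]
    rintro ⟨g, hg⟩
    -- `g⁻¹ D` centralises `u₀` and has multiplier `t`
    have hgm : (g : Mat) * (u₀ : Mat) = (u₁ : Mat) * (g : Mat) :=
      congrArg Subtype.val (mul_inv_eq_iff_eq_mul.mp hg)
    have hst : st (g : Mat) * (g : Mat) = 1 := (mem_iff _).mp g.2
    have hgst : (g : Mat) * st (g : Mat) = 1 := mul_eq_one_comm.mp hst
    have hX : st (g : Mat) * D.1 * (u₀ : Mat) = (u₀ : Mat) * (st (g : Mat) * D.1) := by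
      calc _ = st (g : Mat) * ((u₁ : Mat) * (g : Mat)) * st (g : Mat) * D.1 := by
            rw [Matrix.mul_assoc (st (g : Mat)) ((u₁ : Mat) * (g : Mat)), Matrix.mul_assoc (u₁ : Mat), hgst,
              Matrix.mul_one, hu₁, Matrix.mul_assoc (st (g : Mat)) (D.1 * _ * _), Matrix.mul_assoc (D.1 * _),
              Units.inv_mul, Matrix.mul_one, Matrix.mul_assoc]
        _ = _ := by rw [← hgm, ← Matrix.mul_assoc, hst, Matrix.one_mul, Matrix.mul_assoc]
    have hXc : st (g : Mat) * D.1 * M₀ = M₀ * (st (g : Mat) * D.1) := (cay_commute_iff h2 hc₀ h₀ _).mp hX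
    let x : C M₀ := ⟨⟨st (g : Mat) * D.1, (D⁻¹).1 * (g : Mat),
      by rw [Matrix.mul_assoc, ← Matrix.mul_assoc D.1, Units.mul_inv, Matrix.one_mul, hst],
      by rw [Matrix.mul_assoc, ← Matrix.mul_assoc (g : Mat), hgst, Matrix.one_mul, Units.inv_mul]⟩, hXc⟩
    have hnu : nu h₀ x = scalC M₀ (Units.mk0 t ht0) := by
      refine Subtype.ext (Units.ext ?_)
      show st (st (g : Mat) * D.1) * (st (g : Mat) * D.1) = t • 1
      rw [st_mul, st_st, Matrix.mul_assoc, ← Matrix.mul_assoc (g : Mat), hgst, Matrix.one_mul, st_dil]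
    obtain ⟨-, a, ha⟩ := (range_nu h2 h₀ _).mp ⟨x, hnu⟩
    rw [eps_scalC] at ha
    exact ht ⟨a, congrArg Units.val ha⟩
  have huniv : ∀ c : {C : ConjClasses Sp // ∃ u : Sp, ConjClasses.mk u = C ∧ IsReg u},
      c.1 = ConjClasses.mk u₀ ∨ c.1 = ConjClasses.mk u₁ := by
    rintro ⟨_, u, rfl, hu⟩
    obtain ⟨M, h, hc⟩ := exists_cay h2 u hu
    obtain ⟨P, hP⟩ := exists_intertwine h₀ h
    have hPu : (u : Mat) * P.1 = P.1 * (u₀ : Mat) := by
      obtain ⟨w, hw⟩ := isUnit_one_sub h₀
      have e : (u : Mat) * P.1 * (1 - M₀) = P.1 * (u₀ : Mat) * (1 - M₀) := by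
        rw [Matrix.mul_assoc (u : Mat), show P.1 * (1 - M₀) = (1 - M) * P.1 by
          rw [Matrix.mul_sub, Matrix.sub_mul, Matrix.mul_one, Matrix.one_mul, hP], ← Matrix.mul_assoc, hc,
          Matrix.mul_assoc P.1, hc₀, Matrix.mul_add, Matrix.add_mul, Matrix.mul_one, Matrix.one_mul, hP]
      rw [← hw] at e
      exact (Units.mul_left_inj w).mp e
    have hsP : st P.1 * P.1 * M₀ = M₀ * (st P.1 * P.1) := by
      have e := congrArg st hP
      rw [st_mul, st_mul, h.skew, h₀.skew, Matrix.mul_neg, Matrix.neg_mul, neg_inj] at e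
      rw [Matrix.mul_assoc, ← hP, ← Matrix.mul_assoc, e, Matrix.mul_assoc]
    let a : C M₀ := ⟨⟨st P.1 * P.1, (P⁻¹).1 * st (P⁻¹).1,
      by rw [Matrix.mul_assoc, ← Matrix.mul_assoc P.1, Units.mul_inv, Matrix.one_mul, ← st_mul, Units.inv_mul, st_one],
      by rw [Matrix.mul_assoc, ← Matrix.mul_assoc (st (P⁻¹).1), ← st_mul, Units.mul_inv, st_one, Matrix.one_mul,
        Units.inv_mul]⟩, hsP⟩
    have ha : a ∈ S h₀ := mem_S.mpr (by show st (st P.1 * P.1) = st P.1 * P.1; rw [st_mul, st_st])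
    -- correcting by the commutant
    have key : ∀ x : C M₀, ∀ c : F, c ≠ 0 → st P.1 * P.1 = c • (st x.1.1 * x.1.1) →
        ∀ Q : GL (Fin (k + 1) ⊕ Fin (k + 1)) F, st Q.1 * Q.1 = c • 1 → ∀ v : Sp, (v : Mat) = Q.1 * (u₀ : Mat) * (Q⁻¹).1 →
        ConjClasses.mk u = ConjClasses.mk v := by
      intro x c hc0 hx Q hQ v hv
      set g := P.1 * (x.1⁻¹).1 * (Q⁻¹).1 with hg
      have hgs : g ∈ Matrix.symplecticGroup (Fin (k + 1)) F := by
        rw [mem_iff, hg, st_mul, st_mul]
        calc _ = st (Q⁻¹).1 * (st (x.1⁻¹).1 * (st P.1 * P.1) * (x.1⁻¹).1) * (Q⁻¹).1 := by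
              simp only [Matrix.mul_assoc]
          _ = st (Q⁻¹).1 * (c • (st (x.1⁻¹).1 * st x.1.1 * (x.1.1 * (x.1⁻¹).1))) * (Q⁻¹).1 := by
              rw [hx, Matrix.mul_smul, Matrix.smul_mul]; simp only [Matrix.mul_assoc]
          _ = st (Q⁻¹).1 * (st Q.1 * Q.1) * (Q⁻¹).1 := by
              rw [← st_mul, Units.mul_inv, st_one, Matrix.one_mul, hQ]
          _ = 1 := by
              rw [← Matrix.mul_assoc, ← st_mul, Units.mul_inv, st_one, Matrix.one_mul, Units.mul_inv]
      rw [ConjClasses.mk_eq_mk_iff_isConj]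
      refine (isConj_iff.mpr ⟨⟨g, hgs⟩, ?_⟩).symm
      rw [mul_inv_eq_iff_eq_mul]
      refine Subtype.ext ?_
      show g * (v : Mat) = (u : Mat) * g
      have hx' : (x.1⁻¹).1 * (u₀ : Mat) = (u₀ : Mat) * (x.1⁻¹).1 :=
        (cay_commute_iff h2 hc₀ h₀ _).mpr (x⁻¹).2
      calc g * (v : Mat) = P.1 * ((x.1⁻¹).1 * (((Q⁻¹).1 * Q.1) * (u₀ : Mat))) * (Q⁻¹).1 := by
            rw [hv, hg]; simp only [Matrix.mul_assoc]
        _ = P.1 * ((u₀ : Mat) * (x.1⁻¹).1) * (Q⁻¹).1 := by rw [Units.inv_mul, Matrix.one_mul, hx']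
        _ = (u : Mat) * g := by rw [← Matrix.mul_assoc P.1, ← hPu, hg]; simp only [Matrix.mul_assoc]
    by_cases hsq : IsSquare (eps h₀ a)
    · obtain ⟨x, hx⟩ := (range_nu h2 h₀ a).mpr ⟨ha, hsq⟩
      left
      refine key x 1 one_ne_zero ?_ 1 ?_ u₀ (by simp)
      · rw [one_smul, ← nu_val h₀ x, hx]
      · rw [one_smul, Units.val_one, st_one, Matrix.one_mul]
    · set s := scalC M₀ (Units.mk0 t ht0)
      have hsq' : IsSquare (eps h₀ (s⁻¹ * a)) := by
        rw [map_mul, map_inv, eps_scalC]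
        have h1 : ¬ IsSquare (eps h₀ a : F) := fun ⟨z, hz⟩ => hsq ⟨Units.mk0 z (fun e => by
          rw [e, mul_zero] at hz; exact (eps h₀ a).ne_zero hz), Units.ext hz⟩
        have h3 : IsSquare (t⁻¹ * (eps h₀ a : F)) := by
          have hti : ¬ IsSquare t⁻¹ := fun ⟨z, hz⟩ => ht ⟨z⁻¹, by rw [← mul_inv, ← hz, inv_inv]⟩
          have hq : quadraticChar F (t⁻¹ * (eps h₀ a : F)) = 1 := by
            rw [map_mul, quadraticChar_neg_one_iff_not_isSquare.mpr hti,
              quadraticChar_neg_one_iff_not_isSquare.mpr h1]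
            rfl
          exact (quadraticChar_one_iff_isSquare (mul_ne_zero (inv_ne_zero ht0) (eps h₀ a).ne_zero)).mp hq
        obtain ⟨z, hz⟩ := h3
        refine ⟨Units.mk0 z (fun e => ?_), Units.ext ?_⟩
        · rw [e, mul_zero] at hz
          exact mul_ne_zero (inv_ne_zero ht0) (eps h₀ a).ne_zero hz
        · simpa using hz
      obtain ⟨x, hx⟩ := (range_nu h2 h₀ _).mpr ⟨mul_mem (inv_mem (scalC_mem h₀ _)) ha, hsq'⟩
      right
      refine key x t ht0 ?_ D (st_dil t) u₁ rfl
      rw [← nu_val h₀ x, hx]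
      show st P.1 * P.1 = t • ((t⁻¹ • (1 : Mat)) * (st P.1 * P.1))
      rw [Matrix.smul_mul, Matrix.one_mul, smul_smul, mul_inv_cancel₀ ht0, one_smul]
  rw [Nat.card_eq_two_iff]
  refine ⟨⟨_, u₀, rfl, hu₀⟩, ⟨_, u₁, rfl, hu₁r⟩, fun e => hne (congrArg Subtype.val e), ?_⟩
  rw [Set.eq_univ_iff_forall]
  intro c
  rcases huniv c with e | e
  · exact Or.inl (Subtype.ext e)
  · exact Or.inr (Subtype.ext e)

end CfsgLib.SympRegular
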