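import Cfsg.Agent.Lib.BenderMax.TwoMaximal
import Cfsg.Agent.Lib.Comp.CharPType

/-!
The Thompson–Wielandt theorem on second cores of a pair of conjugate maximal subgroups.

If `O^p(B₂) ≠ 1` then `O_p(M₁) ≤ M₂` and `O_p(M₂) ∩ M₁ ≤ O_p(M₁)`; as `O_p(M₁)` is then
self-normalizing in the `p`-group `O_p(M₁)O_p(M₂)` this gives `O_p(M₁) = 1`.
-/

set_option autoImplicit false
set_option maxHeartbeats 1000000

open Cfsg

namespace CfsgLib.TWielandt

open CfsgLib.BenderMax
open scoped commutatorElement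

variable {G : Type*} [Group G]

/-- The data: two maximal subgroups and their first two cores. -/
structure Setup (M₁ M₂ A1 B1 A2 B2 : Subgroup G) : Prop where
  max1 : IsCoatom M₁
  max2 : IsCoatom M₂
  core1 : M₁.normalCore = ⊥
  core2 : M₂.normalCore = ⊥
  ne : M₁ ≠ M₂
  iso : Nonempty (M₁ ≃* M₂)
  a1le : A1 ≤ M₁ ⊓ M₂
  b1le : B1 ≤ M₁ ⊓ M₂
  a1n : M₁ ≤ Subgroup.normalizer (A1 : Set G)
  b1n : M₂ ≤ Subgroup.normalizer (B1 : Set G)
  a1max : ∀ X : Subgroup G, X ≤ M₁ ⊓ M₂ → M₁ ≤ Subgroup.normalizer (X : Set G) → X ≤ A1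
  b1max : ∀ X : Subgroup G, X ≤ M₁ ⊓ M₂ → M₂ ≤ Subgroup.normalizer (X : Set G) → X ≤ B1
  a2le : A2 ≤ A1 ⊓ B1
  b2le : B2 ≤ A1 ⊓ B1
  a2n : M₁ ≤ Subgroup.normalizer (A2 : Set G)
  b2n : M₂ ≤ Subgroup.normalizer (B2 : Set G)
  a2ne : A2 ≠ ⊥
  b2ne : B2 ≠ ⊥

variable {M₁ M₂ A1 B1 A2 B2 : Subgroup G}

theorem Setup.symm (h : Setup M₁ M₂ A1 B1 A2 B2) : Setup M₂ M₁ B1 A1 B2 A2 where
  max1 := h.max2
  max2 := h.max1
  core1 := h.core2
  core2 := h.core1
  ne := h.ne.symm
  iso := h.iso.map MulEquiv.symm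
  a1le := h.b1le.trans (le_of_eq (inf_comm _ _))
  b1le := h.a1le.trans (le_of_eq (inf_comm _ _))
  a1n := h.b1n
  b1n := h.a1n
  a1max := fun X hX => h.b1max X (hX.trans (le_of_eq (inf_comm _ _)))
  b1max := fun X hX => h.a1max X (hX.trans (le_of_eq (inf_comm _ _)))
  a2le := h.b2le.trans (le_of_eq (inf_comm _ _))
  b2le := h.a2le.trans (le_of_eq (inf_comm _ _))
  a2n := h.b2n
  b2n := h.a2n
  a2ne := h.b2ne
  b2ne := h.a2ne

/-- The normalizer of a nontrivial subgroup normalized by a core-free maximal subgroup containing it. -/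
theorem normalizer_le_of_coatom {M X : Subgroup G} (hM : IsCoatom M) (hc : M.normalCore = ⊥)
    (hXM : X ≤ M) (hX : X ≠ ⊥) (hn : M ≤ Subgroup.normalizer (X : Set G)) :
    Subgroup.normalizer (X : Set G) ≤ M := by
  rcases eq_or_lt_of_le hn with h | h
  · exact h.ge
  exfalso
  haveI : X.Normal := Subgroup.normalizer_eq_top_iff.1 (hM.2 _ h)
  exact hX (le_bot_iff.1 (hc ▸ Subgroup.normal_le_normalCore.2 hXM))

theorem conj_mem_of_le_normalizer {X K : Subgroup G} (h : K ≤ Subgroup.normalizer (X : Set G)) {k x : G}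
    (hk : k ∈ K) (hx : x ∈ X) : k * x * k⁻¹ ∈ X :=
  (Subgroup.mem_normalizer_iff.1 (h hk) x).1 hx

theorem commutator_mem {X : Subgroup G} {k x : G} (h : k * x * k⁻¹ ∈ X) (hx : x ∈ X) : ⁅k, x⁆ ∈ X :=
  X.mul_mem h (X.inv_mem hx)

theorem commutator_le_of_normalized {X K : Subgroup G} (h : K ≤ Subgroup.normalizer (X : Set G)) :
    ⁅K, X⁆ ≤ X :=
  Subgroup.commutator_le.2 fun _ hk _ hx => commutator_mem (conj_mem_of_le_normalizer h hk hx) hx

variable [Finite G]

theorem OO_le (r : ℕ) (A : Subgroup G) : OO r A ≤ A := Subgroup.map_subtype_le _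

theorem le_normalizer_OO (r : ℕ) (A : Subgroup G) : A ≤ Subgroup.normalizer (OO r A : Set G) :=
  fun _ ha => Subgroup.mem_normalizer_fintype fun _ hx => conj_OO ha hx

theorem le_normalizer_EE (A : Subgroup G) : A ≤ Subgroup.normalizer (EE A : Set G) :=
  fun _ ha => Subgroup.mem_normalizer_fintype fun _ hx => conj_EE ha hx

theorem card_OO_eq (h : Setup M₁ M₂ A1 B1 A2 B2) (r : ℕ) : Nat.card (OO r M₁) = Nat.card (OO r M₂) := by
  obtain ⟨e⟩ := h.iso
  rw [OO, OO, Subgroup.card_map_of_injective M₁.subtype_injective,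
    Subgroup.card_map_of_injective M₂.subtype_injective, ← CfsgLib.pCore_map_equiv (p := r) e,
    Subgroup.card_map_of_injective e.injective]

theorem OO_eq_bot_iff (h : Setup M₁ M₂ A1 B1 A2 B2) (r : ℕ) : OO r M₁ = ⊥ ↔ OO r M₂ = ⊥ := by
  rw [Subgroup.eq_bot_iff_card, Subgroup.eq_bot_iff_card, card_OO_eq h r]

/-- A subnormal `r`-subgroup of `A` lies in `O_r(A)`. -/
theorem le_OO {r : ℕ} {A X Y : Subgroup G} (hXY : X ≤ Y) (hYA : Y ≤ A) (hnX : Y ≤ Subgroup.normalizer (X : Set G))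
    (hnY : A ≤ Subgroup.normalizer (Y : Set G)) (hX : IsPGroup r X) : X ≤ OO r A := by
  haveI hn1 : (Y.subgroupOf A).Normal := Subgroup.normal_subgroupOf_of_le_normalizer hnY
  haveI hn2 : (X.subgroupOf Y).Normal := Subgroup.normal_subgroupOf_of_le_normalizer hnX
  have hsn : (X.subgroupOf A).IsSubnormal := by
    have h1 : ((X.subgroupOf A).subgroupOf (Y.subgroupOf A)).Normal := by
      refine Subgroup.normal_subgroupOf_of_le_normalizer (fun y hy => ?_)
      refine Subgroup.mem_normalizer_fintype fun x hx => ?_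
      exact conj_mem_of_le_normalizer hnX (show (y : G) ∈ Y from hy) hx
    have h2 := h1.isSubnormal.trans' hn1.isSubnormal
    rwa [Subgroup.map_subgroupOf_eq_of_le (show X.subgroupOf A ≤ Y.subgroupOf A from fun x hx => hXY hx)] at h2
  intro x hx
  have := CfsgLib.isSubnormal_isPGroup_le_pCore hsn
    (hX.of_equiv (Subgroup.subgroupOfEquivOfLe (hXY.trans hYA)).symm)
  exact ⟨⟨x, hYA (hXY hx)⟩, this hx, rfl⟩

omit [Finite G] in
/-- The elements of `B` of order prime to `p` generate a subgroup. -/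
def PP (p : ℕ) (B : Subgroup G) : Subgroup G :=
  Subgroup.closure {y : G | y ∈ B ∧ (orderOf y).Coprime p}

omit [Finite G] in
theorem PP_le (p : ℕ) (B : Subgroup G) : PP p B ≤ B := (Subgroup.closure_le _).2 fun _ h => h.1

theorem le_normalizer_PP (p : ℕ) {B K : Subgroup G} (h : K ≤ Subgroup.normalizer (B : Set G)) :
    K ≤ Subgroup.normalizer (PP p B : Set G) := fun k hk => Subgroup.mem_normalizer_fintype fun x hx => by
  induction hx using Subgroup.closure_induction with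
  | mem y hy =>
    refine Subgroup.subset_closure ⟨conj_mem_of_le_normalizer h hk hy.1, ?_⟩
    rw [show k * y * k⁻¹ = MulAut.conj k y from rfl, MulEquiv.orderOf_eq]
    exact hy.2
  | one => simp
  | mul a b _ _ ha hb =>
    have := (PP p B).mul_mem ha hb
    simpa [mul_assoc] using this
  | inv a _ ha =>
    have := (PP p B).inv_mem ha
    simpa [mul_assoc] using this

theorem PP_ne_bot {p : ℕ} [Fact p.Prime] {B : Subgroup G} (hB : ¬ IsPGroup p B) : PP p B ≠ ⊥ := by
  intro hbot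
  apply hB
  intro b
  obtain ⟨m, hm, hcop⟩ : ∃ m : ℕ, (∃ k, m = p ^ k) ∧ (orderOf ((b : G) ^ m)).Coprime p := by
    obtain ⟨k, m, hm, hkm⟩ := Nat.exists_eq_pow_mul_and_not_dvd (orderOf_pos (b : G)).ne' p
      (Fact.out : p.Prime).ne_one
    refine ⟨p ^ k, ⟨k, rfl⟩, ?_⟩
    rw [orderOf_pow_of_dvd (pow_ne_zero _ (Fact.out : p.Prime).ne_zero) ⟨m, hkm⟩, hkm,
      Nat.mul_div_cancel_left _ (pow_pos (Fact.out : p.Prime).pos _)]
    exact ((Fact.out : p.Prime).coprime_iff_not_dvd.2 hm).symm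
  obtain ⟨k, rfl⟩ := hm
  refine ⟨k, Subtype.ext ?_⟩
  have : (b : G) ^ p ^ k ∈ PP p B := Subgroup.subset_closure ⟨B.pow_mem b.2 _, hcop⟩
  rw [hbot, Subgroup.mem_bot] at this
  simpa using this

theorem cop_zpowers {p : ℕ} [Fact p.Prime] {K : Subgroup G} (hK : IsPGroup p K) {y : G}
    (hy : (orderOf y).Coprime p) : (Nat.card (Subgroup.zpowers y)).Coprime (Nat.card K) := by
  rw [Nat.card_zpowers]
  obtain ⟨k, hk⟩ := hK.exists_card_eq
  rw [hk]
  exact hy.pow_right _

/-- Coprime action: `[K, y] = [K, y, y]`. -/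
theorem comm_comm {p : ℕ} [Fact p.Prime] {K : Subgroup G} (hK : IsPGroup p K) {y : G}
    (hy : (orderOf y).Coprime p) (hn : y ∈ Subgroup.normalizer (K : Set G)) :
    ⁅⁅K, Subgroup.zpowers y⁆, Subgroup.zpowers y⁆ = ⁅K, Subgroup.zpowers y⁆ :=
  CfsgLib.coprime_commutator_commutator (Subgroup.zpowers_le.2 hn) (cop_zpowers hK hy)
    (Or.inr (isSolvable_of_isPGroup hK))

/-- `[O_p(M₁), y] ≤ B₂` for `y ∈ B₂` of order prime to `p`. -/
theorem comm_pcore_le (h : Setup M₁ M₂ A1 B1 A2 B2) {p : ℕ} [Fact p.Prime] {y : G} (hy : y ∈ B2)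
    (hyp : (orderOf y).Coprime p) : ⁅OO p M₁, Subgroup.zpowers y⁆ ≤ B2 := by
  have hyA : y ∈ A1 := (h.b2le hy).1
  have hyM : y ∈ M₁ := (h.a1le hyA).1
  have h1 : ⁅OO p M₁, A1⁆ ≤ A1 :=
    commutator_le_of_normalized (X := A1) (K := OO p M₁) ((OO_le p M₁).trans h.a1n)
  have h2 : ⁅A1, B2⁆ ≤ B2 :=
    commutator_le_of_normalized (X := B2) (K := A1) ((h.a1le.trans inf_le_right).trans h.b2n)
  have h3 : ⁅OO p M₁, Subgroup.zpowers y⁆ ≤ A1 :=
    (Subgroup.commutator_mono le_rfl (Subgroup.zpowers_le.2 hyA)).trans h1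
  rw [← comm_comm (OO_isPGroup p M₁) hyp (le_normalizer_OO p M₁ hyM)]
  exact (Subgroup.commutator_mono h3 (Subgroup.zpowers_le.2 hy)).trans h2

theorem pcore_le_inter (h : Setup M₁ M₂ A1 B1 A2 B2) {p : ℕ} [Fact p.Prime] (hB : ¬ IsPGroup p B2) :
    OO p M₁ ≤ M₁ ⊓ M₂ := by
  refine le_inf (OO_le p M₁) ?_
  refine le_trans ?_ (normalizer_le_of_coatom h.max2 h.core2
    ((PP_le p B2).trans (h.b2le.trans (inf_le_right.trans (h.b1le.trans inf_le_right))))
    (PP_ne_bot hB) (le_normalizer_PP p h.b2n))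
  intro x hx
  refine Subgroup.mem_normalizer_fintype fun z hz => ?_
  induction hz using Subgroup.closure_induction with
  | mem y hy =>
    refine Subgroup.subset_closure ⟨?_, ?_⟩
    · have := B2.mul_mem (comm_pcore_le h hy.1 hy.2
        (Subgroup.commutator_mem_commutator hx (Subgroup.mem_zpowers y))) hy.1
      simpa [commutatorElement_def] using this
    · rw [show x * y * x⁻¹ = MulAut.conj x y from rfl, MulEquiv.orderOf_eq]
      exact hy.2
  | one => simp
  | mul a b _ _ ha hb =>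
    have := (PP p B2).mul_mem ha hb
    simpa [mul_assoc] using this
  | inv a _ ha =>
    have := (PP p B2).inv_mem ha
    simpa [mul_assoc] using this

theorem other_inter_le (h : Setup M₁ M₂ A1 B1 A2 B2) {p : ℕ} [Fact p.Prime] (hB : ¬ IsPGroup p B2) :
    OO p M₂ ⊓ M₁ ≤ OO p M₁ := by
  set T := OO p M₂ ⊓ M₁ with hT
  have hTp : IsPGroup p T := (OO_isPGroup p M₂).to_le inf_le_left
  have hTA : OO p M₂ ⊓ A1 ≤ OO p M₁ := by
    refine le_OO inf_le_right (h.a1le.trans inf_le_left) (fun a ha => ?_) h.a1n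
      ((OO_isPGroup p M₂).to_le inf_le_left)
    exact Subgroup.mem_normalizer_fintype fun x hx => ⟨conj_OO ((h.a1le ha).2) hx.1,
      A1.mul_mem (A1.mul_mem ha hx.2) (A1.inv_mem ha)⟩
  have hY2 : PP p B2 ≤ M₂ := (PP_le p B2).trans (h.b2le.trans (inf_le_left.trans (h.a1le.trans inf_le_right)))
  -- every conjugate of `T` under `M₁` normalizes `O^p(B₂)`
  have key : ∀ m ∈ M₁, ∀ x ∈ T, m⁻¹ * x * m ∈ M₁ ⊓ M₂ := by
    intro m hm x hx
    refine ⟨M₁.mul_mem (M₁.mul_mem (M₁.inv_mem hm) hx.2) hm, ?_⟩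
    refine normalizer_le_of_coatom h.max2 h.core2 hY2 (PP_ne_bot hB) (le_normalizer_PP p h.b2n) ?_
    refine Subgroup.mem_normalizer_fintype fun z hz => ?_
    induction hz using Subgroup.closure_induction with
    | mem y hy =>
      set y' := m * y * m⁻¹ with hy'
      have hy'A : y' ∈ A1 := conj_mem_of_le_normalizer h.a1n hm (h.b2le hy.1).1
      have hy'p : (orderOf y').Coprime p := by
        rw [hy', show m * y * m⁻¹ = MulAut.conj m y from rfl, MulEquiv.orderOf_eq]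
        exact hy.2
      have hy'M := h.a1le hy'A
      have hnT : y' ∈ Subgroup.normalizer (T : Set G) := Subgroup.mem_normalizer_fintype fun t ht =>
        ⟨conj_OO hy'M.2 ht.1, M₁.mul_mem (M₁.mul_mem hy'M.1 ht.2) (M₁.inv_mem hy'M.1)⟩
      have h1 : ⁅T, Subgroup.zpowers y'⁆ ≤ OO p M₁ := by
        refine le_trans (le_inf ?_ ?_) hTA
        · exact (CfsgLib.commutator_le_of_le_normalizer (Subgroup.zpowers_le.2 hnT)).trans inf_le_left
        · exact (Subgroup.commutator_mono le_rfl (Subgroup.zpowers_le.2 hy'A)).trans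
            (commutator_le_of_normalized (inf_le_right.trans h.a1n))
      have h2 : ⁅OO p M₁, Subgroup.zpowers y'⁆ ≤ B2.comap (MulAut.conj m⁻¹).toMonoidHom := by
        rw [Subgroup.commutator_le]
        rintro q hq _ ⟨i, rfl⟩
        rw [Subgroup.mem_comap, map_commutatorElement]
        refine comm_pcore_le h hy.1 hy.2 (Subgroup.commutator_mem_commutator ?_ ⟨i, ?_⟩)
        · simpa using conj_OO (M₁.inv_mem hm) hq
        · show y ^ i = (MulAut.conj m⁻¹) (y' ^ i)
          rw [map_zpow, hy']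
          simp [mul_assoc]
      have h3 : ⁅x, y'⁆ ∈ B2.comap (MulAut.conj m⁻¹).toMonoidHom := by
        refine h2 ((Subgroup.commutator_mono h1 le_rfl) ?_)
        rw [comm_comm hTp hy'p hnT]
        exact Subgroup.commutator_mem_commutator hx (Subgroup.mem_zpowers y')
      refine Subgroup.subset_closure ⟨?_, ?_⟩
      · have := B2.mul_mem h3 hy.1
        simpa [commutatorElement_def, hy', mul_assoc] using this
      · rw [show m⁻¹ * x * m * y * (m⁻¹ * x * m)⁻¹ = MulAut.conj (m⁻¹ * x * m) y from rfl,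
          MulEquiv.orderOf_eq]
        exact hy.2
    | one => simp
    | mul a b _ _ ha hb =>
      have := (PP p B2).mul_mem ha hb
      simpa [mul_assoc] using this
    | inv a _ ha =>
      have := (PP p B2).inv_mem ha
      simpa [mul_assoc] using this
  set S := Subgroup.closure {z : G | ∃ m ∈ M₁, ∃ x ∈ T, z = m⁻¹ * x * m} with hS
  have hSA : S ≤ A1 := by
    refine h.a1max S ((Subgroup.closure_le _).2 ?_) fun a ha => Subgroup.mem_normalizer_fintype fun z hz => ?_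
    · rintro _ ⟨m, hm, x, hx, rfl⟩
      exact key m hm x hx
    · induction hz using Subgroup.closure_induction with
      | mem z hz =>
        obtain ⟨m, hm, x, hx, rfl⟩ := hz
        refine Subgroup.subset_closure ⟨m * a⁻¹, M₁.mul_mem hm (M₁.inv_mem ha), x, hx, ?_⟩
        simp [mul_assoc]
      | one => simp
      | mul u v _ _ hu hv =>
        have := S.mul_mem hu hv
        simpa [mul_assoc] using this
      | inv u _ hu =>
        have := S.inv_mem hu
        simpa [mul_assoc] using this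
  intro x hx
  refine hTA ⟨hx.1, hSA (Subgroup.subset_closure ⟨1, M₁.one_mem, x, hx, ?_⟩)⟩
  simp

/-- If `O^p(B₂) ≠ 1` then `O_p(M₁) = 1`. -/
theorem pcore_eq_bot (h : Setup M₁ M₂ A1 B1 A2 B2) {p : ℕ} [hp : Fact p.Prime] (hB : ¬ IsPGroup p B2) :
    OO p M₁ = ⊥ := by
  by_contra hne
  set Q1 := OO p M₁ with hQ1
  set Q2 := OO p M₂ with hQ2
  have hQ1M := pcore_le_inter h hB
  have hT := other_inter_le h hB
  set P := Q1 ⊔ Q2 with hP
  have hn : Q1 ≤ Subgroup.normalizer (Q2 : Set G) :=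
    (hQ1M.trans inf_le_right).trans (le_normalizer_OO p M₂)
  have hPp : IsPGroup p P :=
    IsPGroup.to_sup_of_normal_right' (OO_isPGroup p M₁) (OO_isPGroup p M₂) hn
  have hNP : P ⊓ Subgroup.normalizer (Q1 : Set G) ≤ Q1 := by
    rintro x ⟨hxP, hxN⟩
    have hxM : x ∈ M₁ := normalizer_le_of_coatom h.max1 h.core1 (OO_le p M₁) hne (le_normalizer_OO p M₁) hxN
    have hxP' : x ∈ ((Q1 ⊔ Q2 : Subgroup G) : Set G) := hxP
    rw [Subgroup.coe_mul_of_left_le_normalizer_right Q1 Q2 hn] at hxP'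
    obtain ⟨a, ha, b, hb, rfl⟩ := hxP'
    refine Q1.mul_mem ha (hT ⟨hb, ?_⟩)
    simpa using M₁.mul_mem (M₁.inv_mem (OO_le p M₁ ha)) hxM
  have hPQ : P ≤ Q1 := by
    by_contra hne'
    haveI := hPp.isNilpotent
    have hlt : Q1.subgroupOf P < ⊤ := by
      refine lt_top_iff_ne_top.2 fun htop => hne' ?_
      exact Subgroup.subgroupOf_eq_top.1 htop
    have h2 := normalizerCondition_of_isNilpotent (Q1.subgroupOf P) hlt
    obtain ⟨⟨x, hxP⟩, hxN, hxQ⟩ := SetLike.exists_of_lt h2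
    refine hxQ (hNP ⟨hxP, Subgroup.mem_normalizer_fintype fun z hz => ?_⟩)
    have := (Subgroup.mem_normalizer_iff.1 hxN ⟨z, le_sup_left (a := Q1) (b := Q2) hz⟩).1 hz
    simpa [Subgroup.mem_subgroupOf] using this
  have heq : Q2 = Q1 :=
    Subgroup.eq_of_le_of_card_ge (le_sup_right.trans hPQ) (card_OO_eq h p).le
  refine h.ne ?_
  have hle : M₂ ≤ M₁ := (show M₂ ≤ Subgroup.normalizer (Q1 : Set G) from by
    rw [← heq]; exact le_normalizer_OO p M₂).trans
    (normalizer_le_of_coatom h.max1 h.core1 (OO_le p M₁) hne (le_normalizer_OO p M₁))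
  rcases eq_or_lt_of_le hle with e | e
  · exact e.symm
  · exact absurd (h.max2.2 _ e) h.max1.1

/-- Both second cores are `p`-groups as soon as `O_p(M₁) ≠ 1`. -/
theorem both_pGroup (h : Setup M₁ M₂ A1 B1 A2 B2) {p : ℕ} [Fact p.Prime] (hne : OO p M₁ ≠ ⊥) :
    IsPGroup p A2 ∧ IsPGroup p B2 := by
  refine ⟨?_, not_not.1 fun hB => hne (pcore_eq_bot h hB)⟩
  by_contra hA
  exact hne ((OO_eq_bot_iff h p).2 (pcore_eq_bot h.symm hA))

theorem comp_subnormal (h : Setup M₁ M₂ A1 B1 A2 B2) : ((A1 ⊓ B1).subgroupOf M₁).IsSubnormal := by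
  haveI hn1 : (A1.subgroupOf M₁).Normal := Subgroup.normal_subgroupOf_of_le_normalizer h.a1n
  have hN : (((A1 ⊓ B1).subgroupOf M₁).subgroupOf (A1.subgroupOf M₁)).Normal := by
    refine Subgroup.normal_subgroupOf_of_le_normalizer fun a ha => Subgroup.mem_normalizer_fintype fun x hx => ?_
    exact ⟨A1.mul_mem (A1.mul_mem ha hx.1) (A1.inv_mem ha),
      conj_mem_of_le_normalizer h.b1n (h.a1le ha).2 hx.2⟩
  have h2 := hN.isSubnormal.trans' hn1.isSubnormal
  rwa [Subgroup.map_subgroupOf_eq_of_le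
    (show (A1 ⊓ B1).subgroupOf M₁ ≤ A1.subgroupOf M₁ from fun x hx => hx.1)] at h2

/-- `E(M₁) ≤ A₁`. -/
theorem EE_le_A1 (h : Setup M₁ M₂ A1 B1 A2 B2) : EE M₁ ≤ A1 := by
  refine h.a1max _ (le_inf EE_le ?_) (le_normalizer_EE M₁)
  have hB2M : B2 ≤ M₁ := h.b2le.trans (inf_le_left.trans (h.a1le.trans inf_le_left))
  have hB2M2 : B2 ≤ M₂ := h.b2le.trans (inf_le_left.trans (h.a1le.trans inf_le_right))
  have hsn : (B2.subgroupOf M₁).IsSubnormal := by
    haveI hn1 : (A1.subgroupOf M₁).Normal := Subgroup.normal_subgroupOf_of_le_normalizer h.a1n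
    have hN : ((B2.subgroupOf M₁).subgroupOf (A1.subgroupOf M₁)).Normal := by
      refine Subgroup.normal_subgroupOf_of_le_normalizer fun a ha => Subgroup.mem_normalizer_fintype fun x hx => ?_
      exact conj_mem_of_le_normalizer h.b2n (h.a1le ha).2 hx
    have h2 := hN.isSubnormal.trans' hn1.isSubnormal
    rwa [Subgroup.map_subgroupOf_eq_of_le
      (show B2.subgroupOf M₁ ≤ A1.subgroupOf M₁ from fun x hx => (h.b2le hx).1)] at h2
  rw [EE, Subgroup.map_le_iff_le_comap]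
  refine sSup_le fun L hL => ?_
  intro l hl
  show (l : G) ∈ M₂
  rcases CfsgLib.Comp.exists_split_of_subnormal hsn hL with hc | hc
  · exact hB2M2 (hc hl)
  · refine normalizer_le_of_coatom h.max2 h.core2 hB2M2 h.b2ne h.b2n ?_
    refine Subgroup.centralizer_le_normalizer _ fun b hb => ?_
    exact (congrArg Subtype.val (CfsgLib.Comp.comm_of_commutator_eq_bot hc hl
      (show (⟨b, hB2M hb⟩ : M₁) ∈ B2.subgroupOf M₁ from hb))).symm

/-- A component of `M₁` lies in `B₁`. -/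
theorem component_le (h : Setup M₁ M₂ A1 B1 A2 B2) {L : Subgroup M₁} (hL : Cfsg.IsComponent L) :
    L.map M₁.subtype ≤ A1 ⊓ B1 := by
  have hNM : A1 ⊓ B1 ≤ M₁ := inf_le_left.trans (h.a1le.trans inf_le_left)
  rcases CfsgLib.Comp.exists_split_of_subnormal (comp_subnormal h) hL with hc | hc
  · rintro _ ⟨l, hl, rfl⟩
    exact hc hl
  exfalso
  set K := L.map M₁.subtype with hK
  have hKE : K ≤ EE M₁ := Subgroup.map_mono (CfsgLib.le_layer hL)
  have hKA : K ≤ A1 := hKE.trans (EE_le_A1 h)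
  have hKK : ⁅K, K⁆ = K := by rw [hK, ← Subgroup.map_commutator, CfsgLib.isComponent_commutator_self hL]
  have hKne : K ≠ ⊥ := by
    rw [hK, Ne, Subgroup.map_eq_bot_iff_of_injective _ M₁.subtype_injective]
    exact CfsgLib.isComponent_ne_bot hL
  have hcN : ⁅K, A1 ⊓ B1⁆ = ⊥ := by
    have := congrArg (Subgroup.map M₁.subtype) hc
    rwa [Subgroup.map_commutator, Subgroup.map_subgroupOf_eq_of_le hNM, Subgroup.map_bot] at this
  -- `K` centralizes `B₁`
  have hKB : ⁅K, B1⁆ ≤ A1 ⊓ B1 := le_inf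
    ((Subgroup.commutator_mono hKA le_rfl).trans
      (CfsgLib.commutator_le_of_le_normalizer ((h.b1le.trans inf_le_left).trans h.a1n)))
    (commutator_le_of_normalized ((hKA.trans (h.a1le.trans inf_le_right)).trans h.b1n))
  have hcB : ⁅K, B1⁆ = ⊥ := by
    have h1 : ⁅⁅K, B1⁆, K⁆ = ⊥ := by
      rw [eq_bot_iff, ← hcN, Subgroup.commutator_comm]
      exact Subgroup.commutator_mono le_rfl hKB
    have h2 : ⁅⁅B1, K⁆, K⁆ = ⊥ := by rw [Subgroup.commutator_comm B1 K]; exact h1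
    have h3 := Subgroup.commutator_commutator_eq_bot_of_rotate h1 h2
    rwa [hKK] at h3
  have hcB' : ∀ k ∈ K, ∀ b ∈ B1, k * b = b * k := fun k hk b hb =>
    CfsgLib.Comp.comm_of_commutator_eq_bot hcB hk hb
  have hE2 : EE M₂ ≤ B1 := EE_le_A1 h.symm
  -- `K` centralizes every `O_s(M₂)`
  have hKO : ∀ s : ℕ, s.Prime → ∀ k ∈ K, ∀ u ∈ OO s M₂, k * u = u * k := by
    intro s hs
    haveI := Fact.mk hs
    rcases eq_or_ne (OO s M₂) ⊥ with h0 | h0
    · intro k _ u hu
      rw [h0, Subgroup.mem_bot] at hu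
      rw [hu, mul_one, one_mul]
    obtain ⟨hA2, -⟩ := both_pGroup h fun e => h0 ((OO_eq_bot_iff h s).1 e)
    have hA2M : A2 ≤ M₁ := h.a2le.trans (inf_le_left.trans (h.a1le.trans inf_le_left))
    have hA2M2 : A2 ≤ M₂ := h.a2le.trans (inf_le_left.trans (h.a1le.trans inf_le_right))
    have hEM2 : EE M₁ ≤ M₂ := (EE_le_A1 h).trans (h.a1le.trans inf_le_right)
    -- the layer centralizes the normalized `s`-subgroups of `M₁`
    have hcent : ∀ Q : Subgroup G, IsPGroup s Q → Q ≤ M₁ →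
        (∀ e ∈ EE M₁, ∀ u ∈ Q, e * u * e⁻¹ ∈ Q) → ∀ u ∈ Q, ∀ e ∈ EE M₁, u * e = e * u := by
      intro Q hQ hQA hnorm u hu
      set R := Q ⊓ EE M₁ with hR
      have hRF : R ≤ FF M₁ := le_FF_of_normalized inf_le_right ((hQ.to_le inf_le_left).isNilpotent)
        fun e he r hr => ⟨hnorm e he r hr.1, (EE M₁).mul_mem ((EE M₁).mul_mem he hr.2) ((EE M₁).inv_mem he)⟩
      refine EE_fixes_of_central (fun e he e' he' => ?_) (fun e he => conj_EE (hQA hu) he)
      have hmem : u * e * u⁻¹ * e⁻¹ ∈ R := by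
        refine ⟨?_, (EE M₁).mul_mem (conj_EE (hQA hu) he) ((EE M₁).inv_mem he)⟩
        have := Q.mul_mem hu (hnorm e he u⁻¹ (Q.inv_mem hu))
        simpa [mul_assoc] using this
      exact (comm_EE_FF he' (hRF hmem)).symm
    have hA2c := hcent A2 hA2 hA2M fun e he u hu => conj_mem_of_le_normalizer h.a2n (EE_le he) hu
    have hTc := hcent (OO s M₂ ⊓ M₁) ((OO_isPGroup s M₂).to_le inf_le_left) inf_le_right
      fun e he u hu => ⟨conj_OO (hEM2 he) hu.1, M₁.mul_mem (M₁.mul_mem (EE_le he) hu.2) (M₁.inv_mem (EE_le he))⟩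
    have hNA2 := normalizer_le_of_coatom h.max1 h.core1 hA2M h.a2ne h.a2n
    have hgen : ∀ y ∈ K, (orderOf y).Coprime s → ∀ u ∈ OO s M₂, y * u = u * y := by
      intro y hy hys u hu
      have hpq := CfsgLib.thompson_PxQ (P := A2) (Q := Subgroup.zpowers y) hA2
        (by rwa [Nat.card_zpowers])
        (fun a ha w hw => by
          obtain ⟨i, rfl⟩ := hw
          exact ((show Commute a y from hA2c a ha y (hKE hy)).zpow_right i).eq.symm)
        (OO s M₂) (OO_isPGroup s M₂) (hA2M2.trans (le_normalizer_OO s M₂))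
        (Subgroup.zpowers_le.2 (le_normalizer_OO s M₂ (hEM2 (hKE hy))))
        (fun x hx w hw => by
          obtain ⟨i, rfl⟩ := hw
          exact ((show Commute x y from hTc x ⟨hx.1, hNA2 (Subgroup.centralizer_le_normalizer _ hx.2)⟩ y
            (hKE hy)).zpow_right i).eq.symm)
      exact (hpq (Subgroup.mem_zpowers y) u hu).symm
    set C := (Subgroup.centralizer (OO s M₂ : Set G)).subgroupOf K with hC
    have hres : Cfsg.pResidual s K ≤ C := by
      rw [Cfsg.pResidual, Subgroup.closure_le]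
      intro e he u hu
      exact (hgen e e.2 (by rw [Subgroup.orderOf_coe]; exact he) u hu).symm
    have hperf : Cfsg.pResidual s K = ⊤ := by
      haveI : (Cfsg.pResidual s K).Normal := by infer_instance
      have hq := CfsgLib.Transfer.isPGroup_quotient_pResidual (G := K) (p := s)
      haveI : Group.IsNilpotent (K ⧸ Cfsg.pResidual s K) := hq.isNilpotent
      haveI : Group.IsPerfect K := ⟨by
        apply Subgroup.map_injective K.subtype_injective
        rw [_root_.commutator_def, Subgroup.map_commutator, ← MonoidHom.range_eq_map, Subgroup.range_subtype,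
          hKK]⟩
      haveI : Group.IsPerfect (K ⧸ Cfsg.pResidual s K) :=
        Group.IsPerfect.ofSurjective (f := QuotientGroup.mk' _) (QuotientGroup.mk'_surjective _)
      by_contra hne
      haveI : Nontrivial (K ⧸ Cfsg.pResidual s K) := (QuotientGroup.nontrivial_iff).2 hne
      exact Group.IsPerfect.not_isSolvable (K ⧸ Cfsg.pResidual s K) inferInstance
    intro k hk u hu
    exact ((hres (hperf ▸ Subgroup.mem_top (⟨k, hk⟩ : K))) u hu).symm
  -- so `K` lies in the centre of `F*(M₂)`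
  have hKM2 : K ≤ M₂ := hKA.trans (h.a1le.trans inf_le_right)
  have hcF : K.subgroupOf M₂ ≤ Subgroup.centralizer (Cfsg.generalizedFittingSubgroup M₂ : Set M₂) := by
    rw [Subgroup.le_centralizer_iff]
    refine sup_le ?_ ?_
    · intro e he k hk
      exact Subtype.ext (hcB' _ hk _ (hE2 ⟨e, he, rfl⟩))
    · rw [CfsgLib.fittingSubgroup_eq_iSup_pCore]
      refine iSup_le fun s e he k hk => ?_
      exact Subtype.ext (hKO s s.2 _ hk _ ⟨e, he, rfl⟩)
  have hab : ∀ a ∈ K, ∀ b ∈ K, a * b = b * a := fun a ha b hb => by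
    have h1 := CfsgLib.centralizer_generalizedFitting_le (hcF (show (⟨a, hKM2 ha⟩ : M₂) ∈ K.subgroupOf M₂ from ha))
    exact congrArg Subtype.val ((hcF (show (⟨b, hKM2 hb⟩ : M₂) ∈ K.subgroupOf M₂ from hb)) _ h1)
  apply hKne
  rw [← hKK, Subgroup.commutator_eq_bot_iff_le_centralizer]
  exact fun a ha b hb => (hab a ha b hb).symm

theorem EE_le_EE' (h : Setup M₁ M₂ A1 B1 A2 B2) : EE M₁ ≤ EE M₂ := by
  rw [EE, Subgroup.map_le_iff_le_comap]
  refine sSup_le fun L hL => ?_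
  rw [← Subgroup.map_le_iff_le_comap]
  have hK := component_le h hL
  set K := L.map M₁.subtype with hKdef
  have hKM2 : K ≤ M₂ := hK.trans (inf_le_right.trans (h.b1le.trans inf_le_right))
  have hcomp : Cfsg.IsComponent (K.subgroupOf M₂) := by
    have hN1 : A1 ⊓ B1 ≤ M₁ := inf_le_left.trans (h.a1le.trans inf_le_left)
    set N := A1 ⊓ B1 with hN
    have hLN : L ≤ N.subgroupOf M₁ := fun l hl => hK ⟨l, hl, rfl⟩
    have hLc := CfsgLib.isComponent_subgroupOf hL hLN
    have hc2 := CfsgLib.isComponent_map_equiv (Subgroup.subgroupOfEquivOfLe hN1) hLc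
    have hsn : (N.subgroupOf M₂).IsSubnormal := by
      have := comp_subnormal h.symm
      rwa [inf_comm] at this
    have hN2 : N ≤ M₂ := inf_le_right.trans (h.b1le.trans inf_le_right)
    have hc3 := CfsgLib.isComponent_map_subtype hsn
      (CfsgLib.isComponent_map_equiv (Subgroup.subgroupOfEquivOfLe hN2).symm hc2)
    convert hc3 using 1
    ext ⟨x, hx⟩
    simp only [Subgroup.mem_subgroupOf, Subgroup.mem_map, hKdef]
    constructor
    · rintro ⟨l, hl, hlx⟩
      subst hlx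
      refine ⟨⟨⟨l, hx⟩, hLN hl⟩, ⟨⟨(l : G), hLN hl⟩, ⟨⟨l, hLN hl⟩, hl, ?_⟩, ?_⟩, rfl⟩
      · exact Subtype.ext rfl
      · exact Subtype.ext (Subtype.ext rfl)
    · rintro ⟨y, ⟨z, ⟨w, hw, hwz⟩, hzy⟩, hyx⟩
      refine ⟨w, hw, ?_⟩
      subst hwz
      subst hzy
      exact congrArg Subtype.val hyx
  intro x hx
  exact ⟨⟨x, hKM2 hx⟩, CfsgLib.le_layer hcomp hx, rfl⟩

theorem EE_eq_bot (h : Setup M₁ M₂ A1 B1 A2 B2) : EE M₁ = ⊥ := by
  by_contra hne
  have he : EE M₁ = EE M₂ := le_antisymm (EE_le_EE' h) (EE_le_EE' h.symm)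
  have h1 := normalizer_le_of_coatom h.max1 h.core1 EE_le hne (le_normalizer_EE M₁)
  rw [he] at h1
  have hle : M₂ ≤ M₁ := (le_normalizer_EE M₂).trans h1
  rcases eq_or_lt_of_le hle with e | e
  · exact h.ne e.symm
  · exact absurd (h.max2.2 _ e) h.max1.1

/-- The Thompson–Wielandt theorem. -/
theorem main (h : Setup M₁ M₂ A1 B1 A2 B2) :
    ∃ p : ℕ, p.Prime ∧ IsPGroup p ↥(A2 ⊔ B2) ∧
      Cfsg.generalizedFittingSubgroup ↥M₁ = Cfsg.pCore p ↥M₁ ∧
      Cfsg.generalizedFittingSubgroup ↥A1 = Cfsg.pCore p ↥A1 := by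
  have hA2M : A2 ≤ M₁ := h.a2le.trans (inf_le_left.trans (h.a1le.trans inf_le_left))
  have hlayer : Cfsg.layer M₁ = ⊥ :=
    (Subgroup.map_eq_bot_iff_of_injective _ M₁.subtype_injective).1 (EE_eq_bot h)
  obtain ⟨p, hp, hne⟩ : ∃ p : ℕ, p.Prime ∧ OO p M₁ ≠ ⊥ := by
    by_contra hcon
    push Not at hcon
    have hF : Cfsg.generalizedFittingSubgroup M₁ = ⊥ := by
      rw [Cfsg.generalizedFittingSubgroup, hlayer, bot_sup_eq, CfsgLib.fittingSubgroup_eq_iSup_pCore,
        eq_bot_iff]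
      exact iSup_le fun q =>
        ((Subgroup.map_eq_bot_iff_of_injective _ M₁.subtype_injective).1 (hcon q q.2)).le
    have hC := CfsgLib.centralizer_generalizedFitting_le (G := M₁)
    rw [hF] at hC
    refine h.a2ne (eq_bot_iff.2 fun x hx => Subgroup.mem_bot.2 ?_)
    have : (⟨x, hA2M hx⟩ : M₁) ∈ (⊥ : Subgroup M₁) := hC (fun y hy => by
      rw [SetLike.mem_coe, Subgroup.mem_bot] at hy; subst hy; simp)
    exact congrArg Subtype.val (Subgroup.mem_bot.1 this)
  haveI := Fact.mk hp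
  obtain ⟨hA2, hB2⟩ := both_pGroup h hne
  have huniq : ∀ q : ℕ, q.Prime → q ≠ p → OO q M₁ = ⊥ := by
    intro q hq hqp
    by_contra hq'
    haveI := Fact.mk hq
    obtain ⟨hA2', -⟩ := both_pGroup h hq'
    exact h.a2ne (by
      have := (IsPGroup.disjoint_of_ne q p hqp _ _ hA2' hA2).eq_bot
      rwa [inf_idem] at this)
  have hgf : Cfsg.generalizedFittingSubgroup ↥M₁ = Cfsg.pCore p ↥M₁ := by
    rw [Cfsg.generalizedFittingSubgroup, hlayer, bot_sup_eq, CfsgLib.fittingSubgroup_eq_iSup_pCore]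
    refine le_antisymm (iSup_le fun q => ?_)
      (le_iSup (fun q : Nat.Primes => Cfsg.pCore (q : ℕ) M₁) ⟨p, hp⟩)
    rcases eq_or_ne (q : ℕ) p with e | e
    · rw [e]
    · rw [(Subgroup.map_eq_bot_iff_of_injective _ M₁.subtype_injective).1 (huniq q q.2 e)]
      exact bot_le
  refine ⟨p, hp, ?_, hgf, ?_⟩
  · have hn : A2 ≤ Subgroup.normalizer (B2 : Set G) :=
      (h.a2le.trans (inf_le_left.trans (h.a1le.trans inf_le_right))).trans h.b2n
    exact IsPGroup.to_sup_of_normal_right' hA2 hB2 hn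
  · haveI : (A1.subgroupOf M₁).Normal := Subgroup.normal_subgroupOf_of_le_normalizer h.a1n
    have h1 := CfsgLib.Comp.charP_normal p (A1.subgroupOf M₁) (hgf ▸ CfsgLib.isPGroup_pCore p)
    exact (CfsgLib.Comp.isPGroup_gfit_iff_eq p).1 (CfsgLib.Comp.gfit_pGroup_equiv p
      (Subgroup.subgroupOfEquivOfLe (h.a1le.trans inf_le_left)) h1)

/-- The prime is the same for both subgroups. -/
theorem prime_unique (h : Setup M₁ M₂ A1 B1 A2 B2) {p q : ℕ} (hp : p.Prime) (hq : q.Prime)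
    (hP : IsPGroup p ↥(A2 ⊔ B2)) (hQ : IsPGroup q ↥(B2 ⊔ A2)) : p = q := by
  haveI := Fact.mk hp
  haveI := Fact.mk hq
  by_contra hne
  refine h.a2ne ?_
  have := (IsPGroup.disjoint_of_ne p q hne A2 A2 (hP.to_le le_sup_left) (hQ.to_le le_sup_right)).eq_bot
  rwa [inf_idem] at this

end CfsgLib.TWielandt
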