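import Mathlib
import Cfsg.Agent.Lib.Coprime

/-!
Two conjugate tightly embedded subgroups: the Sylow `2`-subgroups of their mutual normalisers.
-/

set_option autoImplicit false

namespace CfsgLib.TightPair

universe u

variable {G : Type u} [Group G]

/-- Meets its other conjugates in subgroups of odd order. -/
def TI2 (Q : Subgroup G) : Prop :=
  ∀ s : G, s ∉ Subgroup.normalizer (Q : Set G) → ∀ x ∈ Q, s⁻¹ * x * s ∈ Q → (∃ k, orderOf x = 2 ^ k) → x = 1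

theorem mem_normalizer_of_normalizes [Finite G] {Q T : Subgroup G} (hQ : TI2 Q) (hT : IsPGroup 2 T) (hT1 : T ≠ ⊥)
    (hTQ : T ≤ Q) {u : G} (hu : u ∈ Subgroup.normalizer (T : Set G)) : u ∈ Subgroup.normalizer (Q : Set G) := by
  by_contra hn
  refine hT1 ((Subgroup.eq_bot_iff_forall _).mpr fun x hx => ?_)
  obtain ⟨k, hk⟩ := IsPGroup.iff_orderOf.mp hT ⟨x, hx⟩
  exact hQ u hn x (hTQ hx) (hTQ ((Subgroup.mem_normalizer_iff''.mp hu x).mp hx))
    ⟨k, by rw [← hk, Subgroup.orderOf_mk]⟩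

theorem inf_eq_bot [Finite G] {Q Q' T : Subgroup G}
    (hd : ∀ x ∈ Q, x ∈ Q' → (∃ k, orderOf x = 2 ^ k) → x = 1) (hT : IsPGroup 2 T) (hTQ : T ≤ Q') : T ⊓ Q = ⊥ := by
  rw [Subgroup.eq_bot_iff_forall]
  rintro x ⟨hxT, hxQ⟩
  obtain ⟨k, hk⟩ := IsPGroup.iff_orderOf.mp hT ⟨x, hxT⟩
  exact hd x hxQ (hTQ hxT) ⟨k, by rw [← hk, Subgroup.orderOf_mk]⟩

theorem commute_of {Q T R : Subgroup G} (hTQ : T ⊓ Q = ⊥) (hTN : T ≤ Subgroup.normalizer (Q : Set G))
    (hR : R ≤ Q) (hRN : R ≤ Subgroup.normalizer (T : Set G)) {t r : G} (ht : t ∈ T) (hr : r ∈ R) :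
    t * r = r * t := by
  have h1 : t * r * t⁻¹ * r⁻¹ ∈ T ⊓ Q :=
    ⟨by rw [show t * r * t⁻¹ * r⁻¹ = t * (r * t⁻¹ * r⁻¹) by group]
        exact T.mul_mem ht ((Subgroup.mem_normalizer_iff.mp (hRN hr) _).mp (T.inv_mem ht)),
     Q.mul_mem ((Subgroup.mem_normalizer_iff.mp (hTN ht) _).mp (hR hr)) (Q.inv_mem (hR hr))⟩
  rw [hTQ, Subgroup.mem_bot, mul_inv_eq_one, mul_inv_eq_iff_eq_mul] at h1
  exact h1

/-- Either `T` centralises the whole of `U`, or `T` embeds into `U ⊓ N(T)`. -/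
theorem full_or_embed [Finite G] {Q Q' T U : Subgroup G} (hQ' : TI2 Q')
    (hd : ∀ x ∈ Q, x ∈ Q' → (∃ k, orderOf x = 2 ^ k) → x = 1)
    (hT : IsPGroup 2 T) (hT1 : T ≠ ⊥) (hTQ' : T ≤ Q') (hTQ : T ≤ Subgroup.normalizer (Q : Set G))
    (hU : IsPGroup 2 U) (hUQ : U ≤ Q) (hTU : T ≤ Subgroup.normalizer (U : Set G)) :
    U ≤ Subgroup.normalizer (T : Set G) ∨
      ∃ f : T →* (U ⊓ Subgroup.normalizer (T : Set G) : Subgroup G), Function.Injective f := by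
  classical
  haveI : Fact (Nat.Prime 2) := ⟨Nat.prime_two⟩
  by_cases hfull : U ≤ Subgroup.normalizer (T : Set G)
  · exact Or.inl hfull
  right
  set R := U ⊓ Subgroup.normalizer (T : Set G) with hR
  have hbot : T ⊓ Q = ⊥ := inf_eq_bot hd hT hTQ'
  have hcomm : ∀ {t r : G}, t ∈ T → r ∈ R → t * r = r * t :=
    commute_of hbot hTQ (inf_le_left.trans hUQ) inf_le_right
  set W := T ⊔ R with hW
  have hmemW : ∀ w ∈ W, ∃ t ∈ T, ∃ r ∈ R, w = t * r := by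
    intro w hw
    obtain ⟨t, ht, r, hr, he⟩ := CfsgLib.mem_sup_of_le_normalizer (A := R) (W := T) inf_le_right hw
    exact ⟨t, ht, r, hr, he.symm⟩
  set P := U ⊔ T with hP
  have hPp : IsPGroup 2 P := IsPGroup.to_sup_of_normal_left' hU hT hTU
  have hWP : W ≤ P := sup_le le_sup_right (inf_le_left.trans le_sup_left)
  have hlt : W.subgroupOf P < ⊤ := by
    rw [lt_top_iff_ne_top, Ne, Subgroup.subgroupOf_eq_top]
    intro h
    refine hfull fun u hu => ?_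
    obtain ⟨t, ht, r, hr, he⟩ := hmemW u (h (Subgroup.mem_sup_left hu))
    rw [he]
    exact mul_mem (Subgroup.le_normalizer ht) hr.2
  obtain ⟨y, hy, hyW⟩ := SetLike.exists_of_lt
    (Group.normalizerCondition_of_isNilpotent (h := hPp.isNilpotent) _ hlt)
  obtain ⟨u, hu, t₀, ht₀, hyeq⟩ : ∃ u ∈ U, ∃ t ∈ T, (y : G) = u * t := by
    obtain ⟨u, hu, t, ht, he⟩ := CfsgLib.mem_sup_of_le_normalizer (A := T) (W := U) hTU y.2
    exact ⟨u, hu, t, ht, he.symm⟩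
  have huW : u ∉ Subgroup.normalizer (T : Set G) := fun h => hyW (by
    show (y : G) ∈ W
    rw [hyeq]
    exact W.mul_mem (Subgroup.mem_sup_right ⟨hu, h⟩) (Subgroup.mem_sup_left ht₀))
  have hconjW : ∀ w ∈ W, u * w * u⁻¹ ∈ W := by
    intro w hw
    have hw' : t₀⁻¹ * w * t₀ ∈ W :=
      W.mul_mem (W.mul_mem (W.inv_mem (Subgroup.mem_sup_left ht₀)) hw) (Subgroup.mem_sup_left ht₀)
    have h1 := (Subgroup.mem_normalizer_iff.mp hy ⟨t₀⁻¹ * w * t₀, hWP hw'⟩).mp hw'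
    have h2 : (y : G) * (t₀⁻¹ * w * t₀) * (y : G)⁻¹ ∈ W := h1
    rw [hyeq] at h2
    rwa [show u * t₀ * (t₀⁻¹ * w * t₀) * (u * t₀)⁻¹ = u * w * u⁻¹ by group] at h2
  have huQ' : u ∉ Subgroup.normalizer (Q' : Set G) := by
    intro hn
    refine huW (Subgroup.mem_normalizer_iff.mpr fun x => ?_)
    have key : ∀ x ∈ T, u * x * u⁻¹ ∈ T := by
      intro x hx
      obtain ⟨t, ht, r, hr, he⟩ := hmemW _ (hconjW x (Subgroup.mem_sup_left hx))
      have hrQ' : r ∈ Q' := by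
        rw [show r = t⁻¹ * (u * x * u⁻¹) by rw [he]; group]
        exact Q'.mul_mem (Q'.inv_mem (hTQ' ht)) ((Subgroup.mem_normalizer_iff.mp hn x).mp (hTQ' hx))
      obtain ⟨k, hk⟩ := IsPGroup.iff_orderOf.mp hU ⟨r, hr.1⟩
      rw [he, hd r (hUQ hr.1) hrQ' ⟨k, by rw [← hk, Subgroup.orderOf_mk]⟩, mul_one]
      exact ht
    refine ⟨key x, fun hx => ?_⟩
    obtain ⟨z, hz⟩ := (Finite.injective_iff_surjective
      (f := fun z : T => (⟨u * z * u⁻¹, key z z.2⟩ : T))).mp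
      (fun a b hab => Subtype.ext (by simpa using congrArg Subtype.val hab)) ⟨_, hx⟩
    have hzx : (z : G) = x := by simpa using congrArg Subtype.val hz
    rw [← hzx]
    exact z.2
  have hdec : ∀ x : T, ∃ t : T, ∃ r : R, u * (x : G) * u⁻¹ = t * r := fun x => by
    obtain ⟨t, ht, r, hr, he⟩ := hmemW _ (hconjW x (Subgroup.mem_sup_left x.2))
    exact ⟨⟨t, ht⟩, ⟨r, hr⟩, he⟩
  choose a b hab using hdec
  have huniq : ∀ {t t' : T} {r r' : R}, (t : G) * r = t' * r' → r = r' := by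
    intro t t' r r' h
    have h1 : (t' : G)⁻¹ * t ∈ T ⊓ Q :=
      ⟨T.mul_mem (T.inv_mem t'.2) t.2, by
        rw [show (t' : G)⁻¹ * t = r' * (r : G)⁻¹ from inv_mul_eq_iff_eq_mul.mpr (by
          rw [← mul_assoc, ← h, mul_inv_cancel_right])]
        exact Q.mul_mem (hUQ r'.2.1) (Q.inv_mem (hUQ r.2.1))⟩
    rw [hbot, Subgroup.mem_bot, inv_mul_eq_one] at h1
    rw [← h1] at h
    exact Subtype.ext (mul_left_cancel h)
  let f : T →* R := MonoidHom.mk' b fun x y => huniq (t := a (x * y)) (t' := a x * a y) (by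
    rw [← hab, Subgroup.coe_mul, show u * ((x : G) * y) * u⁻¹ = (u * x * u⁻¹) * (u * y * u⁻¹) by group, hab, hab,
      Subgroup.coe_mul, Subgroup.coe_mul]
    calc (a x : G) * b x * (a y * b y) = a x * ((b x : G) * a y) * b y := by group
      _ = a x * ((a y : G) * b x) * b y := by rw [hcomm (a y).2 (b x).2]
      _ = _ := by group)
  refine ⟨f, (injective_iff_map_eq_one f).mpr fun x hx => ?_⟩
  have hbx : b x = 1 := hx
  have h1 := hab x
  rw [hbx, Subgroup.coe_one, mul_one] at h1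
  obtain ⟨k, hk⟩ := IsPGroup.iff_orderOf.mp hT (a x)
  have h2 := hQ' u huQ' (a x) (hTQ' (a x).2) (by
    rw [← h1, show u⁻¹ * (u * (x : G) * u⁻¹) * u = x by group]; exact hTQ' x.2)
    ⟨k, by rw [Subgroup.orderOf_coe]; exact hk⟩
  rw [h2] at h1
  exact Subtype.ext (conj_eq_one_iff.mp h1)

end CfsgLib.TightPair
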