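import Mathlib

/-! Fixed points of a `2`-group on a module in characteristic two, counted by orbits on the characters
of a normal abelian subgroup of odd order. -/

set_option autoImplicit false

namespace CfsgLib.TwoFixedOrbits

open Module TensorProduct
open scoped TensorProduct

variable {S : Type*} [Group S] [Finite S] {E : Type*} [AddCommGroup E] [Module (ZMod 2) E] [Finite E]

/-- The algebraic closure of the field with two elements. -/
abbrev K : Type := AlgebraicClosure (ZMod 2)

instance : CharP K 2 := inferInstance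

/-- The representation over the algebraic closure. -/
noncomputable def ext (ρ : Representation (ZMod 2) S E) : Representation K S (K ⊗[ZMod 2] E) where
  toFun g := (ρ g).baseChange K
  map_one' := by rw [map_one]; exact LinearMap.baseChange_id
  map_mul' g h := by rw [map_mul]; exact LinearMap.baseChange_comp _ _

theorem ext_apply (ρ : Representation (ZMod 2) S E) (g : S) (k : K) (e : E) :
    ext ρ g (k ⊗ₜ[ZMod 2] e) = k ⊗ₜ[ZMod 2] ρ g e := rfl

/-- Fixed vectors. -/
def fixedSub {k V : Type*} [Field k] [AddCommGroup V] [Module k V] (τ : Representation k S V) (T : Set S) :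
    Submodule k V := ⨅ g ∈ T, LinearMap.ker (τ g - LinearMap.id)

omit [Finite S] [Finite E] in
theorem mem_fixedSub {k V : Type*} [Field k] [AddCommGroup V] [Module k V] {τ : Representation k S V} {T : Set S}
    {v : V} : v ∈ fixedSub τ T ↔ ∀ g ∈ T, τ g v = v := by
  simp [fixedSub, Submodule.mem_iInf, LinearMap.mem_ker, sub_eq_zero]

/-- The fixed vectors over the closure come from fixed vectors. -/
theorem fixed_le_range (ρ : Representation (ZMod 2) S E) (T : Set S) :
    fixedSub (ext ρ) T ≤ LinearMap.range ((fixedSub ρ T).subtype.baseChange K) := by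
  intro w hw
  let bK := Module.Free.chooseBasis (ZMod 2) K
  let Φ := TensorProduct.equivFinsuppOfBasisLeft (N := E) bK
  have hΦ : ∀ (g : S) (u : K ⊗[ZMod 2] E) i, Φ (ext ρ g u) i = ρ g (Φ u i) := by
    intro g u i
    induction u using TensorProduct.induction_on with
    | zero => simp
    | tmul k e => simp [Φ, ext_apply, TensorProduct.equivFinsuppOfBasisLeft_apply_tmul_apply]
    | add a b ha hb => simp [map_add, ha, hb]
  have hco : ∀ i, Φ w i ∈ fixedSub ρ T := fun i => mem_fixedSub.mpr fun g hg => by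
    rw [← hΦ, mem_fixedSub.mp hw g hg]
  rw [← Φ.symm_apply_apply w, TensorProduct.equivFinsuppOfBasisLeft_symm_apply]
  refine Submodule.sum_mem _ fun i _ => ?_
  exact ⟨bK i ⊗ₜ[ZMod 2] ⟨Φ w i, hco i⟩, rfl⟩

theorem finrank_fixed_le (ρ : Representation (ZMod 2) S E) (T : Set S) :
    finrank K (fixedSub (ext ρ) T) ≤ finrank (ZMod 2) (fixedSub ρ T) :=
  (Submodule.finrank_mono (fixed_le_range ρ T)).trans
    ((LinearMap.finrank_range_le _).trans Module.finrank_baseChange.le)

/-- A `2`-group fixes a nonzero vector in characteristic two. -/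
theorem exists_fixed {k V : Type*} [Field k] [CharP k 2] [AddCommGroup V] [Module k V] (τ : Representation k S V)
    (U : Subgroup S) (hU : IsPGroup 2 U) (X : Submodule k V) (hX : X ≠ ⊥) (hinv : ∀ g ∈ U, ∀ x ∈ X, τ g x ∈ X) :
    ∃ x ∈ X, x ≠ 0 ∧ ∀ g ∈ U, τ g x = x := by
  classical
  obtain ⟨x₀, hx₀, hne⟩ := Submodule.exists_mem_ne_zero_of_ne_bot hX
  let M : AddSubgroup V := AddSubgroup.closure (Set.range fun g : U => τ g x₀)
  have h2 : ∀ v : V, v + v = 0 := fun v => by rw [← two_smul k v, CharTwo.two_eq_zero, zero_smul]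
  haveI : Finite M := by
    haveI : AddGroup.FG M := (AddGroup.fg_iff_addSubgroup_fg _).mpr
      ((AddSubgroup.fg_iff _).mpr ⟨_, rfl, Set.finite_range _⟩)
    refine AddCommGroup.finite_of_fg_torsion M fun m => ?_
    rw [isOfFinAddOrder_iff_nsmul_eq_zero]
    exact ⟨2, two_pos, Subtype.ext (by rw [two_nsmul]; exact h2 m.1)⟩
  have hMinv : ∀ g : U, ∀ m ∈ M, τ g m ∈ M := by
    intro g m hm
    induction hm using AddSubgroup.closure_induction with
    | mem x hx =>
      obtain ⟨h, rfl⟩ := hx
      refine AddSubgroup.subset_closure ⟨g * h, ?_⟩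
      show τ ((g : S) * h) x₀ = _
      rw [map_mul]; rfl
    | zero => rw [map_zero]; exact M.zero_mem
    | add a b _ _ ha hb => rw [map_add]; exact M.add_mem ha hb
    | neg a _ ha => rw [map_neg]; exact M.neg_mem ha
  letI : MulAction U M :=
    { smul := fun g m => ⟨τ g m.1, hMinv g m.1 m.2⟩
      one_smul := fun m => Subtype.ext (show τ (1 : S) m.1 = m.1 by rw [map_one]; rfl)
      mul_smul := fun g h m => Subtype.ext (show τ ((g : S) * h) m.1 = τ g (τ h m.1) by rw [map_mul]; rfl) }
  have hMX : M ≤ X.toAddSubgroup := by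
    rw [AddSubgroup.closure_le]
    rintro _ ⟨g, rfl⟩
    exact hinv g g.2 _ hx₀
  have hx₀M : x₀ ∈ M := AddSubgroup.subset_closure ⟨1, by show τ (1 : S) x₀ = x₀; rw [map_one]; rfl⟩
  have hdvd : 2 ∣ Nat.card M := by
    have h := addOrderOf_dvd_natCard (⟨x₀, hx₀M⟩ : M)
    rwa [addOrderOf_eq_prime (p := 2) (Subtype.ext (by rw [two_nsmul]; exact h2 x₀))
      (fun h => hne (congrArg Subtype.val h))] at h
  have h0 : (0 : M) ∈ MulAction.fixedPoints U M := fun g => Subtype.ext (map_zero _)
  obtain ⟨m, hm, hm0⟩ := hU.exists_fixed_point_of_prime_dvd_card_of_fixed_point M hdvd h0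
  exact ⟨m.1, hMX m.2, fun h => hm0 (Subtype.ext h.symm), fun g hg => congrArg Subtype.val (hm ⟨g, hg⟩)⟩

/-- A subspace separated by maps of rank at most one. -/
theorem finrank_le_card {k V ι : Type*} [Field k] [AddCommGroup V] [Module k V] [FiniteDimensional k V] [Fintype ι]
    (X : Submodule k V) (P : ι → (V →ₗ[k] V)) (h1 : ∀ i, finrank k (LinearMap.range (P i)) ≤ 1)
    (hsep : ∀ v ∈ X, (∀ i, P i v = 0) → v = 0) : finrank k X ≤ Fintype.card ι := by
  let L : X →ₗ[k] ((i : ι) → LinearMap.range (P i)) :=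
    LinearMap.pi fun i => (P i).rangeRestrict ∘ₗ X.subtype
  have hL : Function.Injective L := by
    refine (injective_iff_map_eq_zero L).mpr fun v hv => Subtype.ext ?_
    exact hsep v.1 v.2 fun i => congrArg Subtype.val (congrFun hv i)
  refine (LinearMap.finrank_le_finrank_of_injective hL).trans ?_
  rw [Module.finrank_pi_fintype]
  refine (Finset.sum_le_sum fun i _ => h1 i).trans ?_
  simp

section Chars

variable (A : Subgroup S)

/-- The projection to a character of `A`. -/
noncomputable def proj (τ : Representation K S (K ⊗[ZMod 2] E)) (l : A →* Kˣ) :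
    Module.End K (K ⊗[ZMod 2] E) :=
  (Nat.card A : K)⁻¹ • ∑ᶠ a : A, ((l a : Kˣ) : K)⁻¹ • τ (a : S)

omit [Finite E] in
theorem proj_def [Fintype A] (τ : Representation K S (K ⊗[ZMod 2] E)) (l : A →* Kˣ) :
    proj A τ l = (Nat.card A : K)⁻¹ • ∑ a : A, ((l a : Kˣ) : K)⁻¹ • τ (a : S) := by
  rw [proj, finsum_eq_sum_of_fintype]

end Chars

set_option maxHeartbeats 1000000 in
/-- The fixed space of a `2`-subgroup against orbits on the characters of `A`. -/
theorem main (ρ : Representation (ZMod 2) S E) (A : Subgroup S) [A.Normal] (hAc : ∀ a ∈ A, ∀ b ∈ A, a * b = b * a)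
    (hodd : Odd (Nat.card A)) (hfix : ∀ v : E, (∀ a ∈ A, ρ a v = v) → v = 0) [Nontrivial E]
    (H S2 : Subgroup S) (hS2H : S2 ≤ H) (hS2 : IsPGroup 2 S2) (q : ℕ) (hq : q.Prime) (hq2 : q ≠ 2)
    (hqH : q ∣ Nat.card H) (Sq : Sylow q S) (hSq : Nat.card Sq = q)
    (hfpf : ∀ l : A →* Kˣ, (∀ x ∈ (Sq : Subgroup S), ∀ a : A,
      l ⟨x * a * x⁻¹, Subgroup.Normal.conj_mem inferInstance a.1 a.2 x⟩ = l a) → l = 1) :
    (2 ≤ finrank (ZMod 2) (fixedSub ρ (S2 : Set S))) ∧
    ((H ≤ Subgroup.normalizer (S2 : Set S)) → 3 ≤ finrank (ZMod 2) (fixedSub ρ (S2 : Set S))) ∧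
    (∀ v : E, Submodule.span (ZMod 2) (Set.range fun a : A => ρ a v) = ⊤ →
      finrank (ZMod 2) (fixedSub ρ (S2 : Set S)) ≤ finrank K (fixedSub (ext ρ) (H : Set S)) → False) := by
  classical
  haveI := Fact.mk hq
  set W := K ⊗[ZMod 2] E
  set τ := ext ρ with hτ
  haveI : Fintype A := Fintype.ofFinite A
  letI : CommGroup A := { (inferInstance : Group A) with mul_comm := fun a b => Subtype.ext (hAc a.1 a.2 b.1 b.2) }
  have hnA : (Nat.card A : K) ≠ 0 := by
    intro h
    rw [CharP.cast_eq_zero_iff K 2] at h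
    exact (Nat.not_even_iff_odd.mpr hodd) (even_iff_two_dvd.mpr h)
  haveI : NeZero ((Monoid.exponent A : ℕ) : K) := ⟨fun h => by
    rw [CharP.cast_eq_zero_iff K 2] at h
    exact (Nat.not_even_iff_odd.mpr hodd) (even_iff_two_dvd.mpr (h.trans (Group.exponent_dvd_nat_card)))⟩
  haveI : Finite (A →* Kˣ) := Nat.finite_of_card_ne_zero (by
    rw [CommGroup.card_monoidHom_of_hasEnoughRootsOfUnity]; exact Nat.card_pos.ne')
  haveI : Fintype (A →* Kˣ) := Fintype.ofFinite _
  set e := proj A τ with he
  have hedef : ∀ l, e l = (Nat.card A : K)⁻¹ • ∑ a : A, ((l a : Kˣ) : K)⁻¹ • τ (a : S) := proj_def A τ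
  have hτmul : ∀ (g h : S) (w : W), τ g (τ h w) = τ (g * h) w := fun g h w => by rw [map_mul]; rfl
  have heigen : ∀ l (b : A), τ (b : S) * e l = ((l b : Kˣ) : K) • e l := by
    intro l b
    rw [hedef, mul_smul_comm, Finset.mul_sum, smul_comm ((l b : Kˣ) : K), Finset.smul_sum (r := ((l b : Kˣ) : K))]
    congr 1
    rw [← Equiv.sum_comp (Equiv.mulLeft b) (fun a : A => ((l b : Kˣ) : K) • ((l a : Kˣ) : K)⁻¹ • τ (a : S))]
    refine Finset.sum_congr rfl fun a _ => ?_
    show τ (b : S) * (((l a : Kˣ) : K)⁻¹ • τ (a : S)) = ((l b : Kˣ) : K) • ((l (b * a) : Kˣ) : K)⁻¹ • τ ((b * a : A) : S)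
    rw [mul_smul_comm, smul_smul, map_mul l, Units.val_mul, mul_inv, ← mul_assoc,
      mul_inv_cancel₀ (Units.ne_zero _), one_mul, Subgroup.coe_mul, map_mul]
  have heigen' : ∀ l (b : A) w, τ (b : S) (e l w) = ((l b : Kˣ) : K) • e l w := fun l b w =>
    LinearMap.congr_fun (heigen l b) w
  have hsumchar : ∀ (m : A →* Kˣ), m ≠ 1 → ∑ a : A, ((m a : Kˣ) : K) = 0 := by
    intro m hm
    obtain ⟨a, ha⟩ : ∃ a, m a ≠ 1 := not_forall.mp fun h => hm (MonoidHom.ext h)
    have h : ∑ w, ((m w : Kˣ) : K) = ((m a : Kˣ) : K) * ∑ w, ((m w : Kˣ) : K) := by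
      rw [Finset.mul_sum, ← Equiv.sum_comp (Equiv.mulLeft a) (fun w : A => ((m w : Kˣ) : K))]
      exact Finset.sum_congr rfl fun w _ => by rw [Equiv.coe_mulLeft, map_mul, Units.val_mul]
    by_contra h0
    exact ha (Units.ext (mul_right_cancel₀ h0 ((one_mul _).trans h)).symm)
  have hee : ∀ l m, e l * e m = if l = m then e m else 0 := by
    intro l m
    rw [hedef l, smul_mul_assoc, Finset.sum_mul]
    simp only [smul_mul_assoc, heigen, smul_smul]
    rw [← Finset.sum_smul, smul_smul]
    split_ifs with h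
    · subst h
      simp only [inv_mul_cancel₀ (Units.ne_zero _), Finset.sum_const, Finset.card_univ, ← Nat.card_eq_fintype_card,
        nsmul_eq_mul, mul_one]
      rw [inv_mul_cancel₀ hnA, one_smul]
    · have hs := hsumchar (l⁻¹ * m) (fun h' => h (inv_mul_eq_one.mp h'))
      simp only [MonoidHom.mul_apply, MonoidHom.inv_apply, Units.val_mul, Units.val_inv_eq_inv_val] at hs
      rw [hs, mul_zero, zero_smul]
  have hsum : ∑ l, e l = 1 := by
    simp only [hedef]
    rw [← Finset.smul_sum, Finset.sum_comm]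
    simp only [← Finset.sum_smul]
    rw [Finset.sum_eq_single (1 : A)]
    · simp only [map_one, Units.val_one, inv_one, Finset.sum_const, Finset.card_univ, nsmul_eq_mul, mul_one]
      rw [← Nat.card_eq_fintype_card, CommGroup.card_monoidHom_of_hasEnoughRootsOfUnity, smul_smul,
        inv_mul_cancel₀ hnA, one_smul, OneMemClass.coe_one, map_one]
    · intro a _ ha
      obtain ⟨φ, hφ⟩ := CommGroup.exists_apply_ne_one_of_hasEnoughRootsOfUnity A K ha
      have h : ∑ l : A →* Kˣ, ((l a : Kˣ) : K)⁻¹ = ((φ a : Kˣ) : K)⁻¹ * ∑ l : A →* Kˣ, ((l a : Kˣ) : K)⁻¹ := by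
        rw [Finset.mul_sum, ← Equiv.sum_comp (Equiv.mulLeft φ) (fun l : A →* Kˣ => ((l a : Kˣ) : K)⁻¹)]
        exact Finset.sum_congr rfl fun l _ => by
          rw [Equiv.coe_mulLeft, MonoidHom.mul_apply, Units.val_mul, mul_inv]
      have h0 : ∑ l : A →* Kˣ, ((l a : Kˣ) : K)⁻¹ = 0 := by
        by_contra h0
        exact hφ (Units.ext (inv_eq_one.mp (mul_right_cancel₀ h0 ((one_mul _).trans h)).symm))
      rw [h0, zero_smul]
    · exact fun h => absurd (Finset.mem_univ _) h
  -- the action on the characters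
  let cj : S → A → A := fun g a => ⟨g * a * g⁻¹, Subgroup.Normal.conj_mem inferInstance a.1 a.2 g⟩
  have hcj : ∀ g a, ((cj g a : A) : S) = g * a * g⁻¹ := fun g a => rfl
  have hcjmul : ∀ g h a, cj (g * h) a = cj g (cj h a) := fun g h a => Subtype.ext (by simp [hcj, mul_assoc])
  have hcjhom : ∀ g a b, cj g (a * b) = cj g a * cj g b := fun g a b => Subtype.ext (by simp [hcj, mul_assoc])
  let act : S → (A →* Kˣ) → (A →* Kˣ) := fun g l =>
    MonoidHom.mk' (fun a => l (cj g⁻¹ a)) fun a b => by rw [hcjhom, map_mul]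
  have hact : ∀ g l a, act g l a = l (cj g⁻¹ a) := fun g l a => rfl
  have hτe : ∀ g l w, τ g (e l w) = e (act g l) (τ g w) := by
    intro g l w
    rw [hedef, hedef, LinearMap.smul_apply, LinearMap.smul_apply, LinearMap.sum_apply, LinearMap.sum_apply,
      map_smul, map_sum]
    congr 1
    let cjE : A ≃ A := ⟨cj g, cj g⁻¹, fun a => by rw [← hcjmul, inv_mul_cancel]; exact Subtype.ext (by simp [hcj]),
      fun a => by rw [← hcjmul, mul_inv_cancel]; exact Subtype.ext (by simp [hcj])⟩
    rw [← Equiv.sum_comp cjE (fun a : A => ((((act g l) a : Kˣ) : K)⁻¹ • τ (a : S)) (τ g w))]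
    refine Finset.sum_congr rfl fun a _ => ?_
    show τ g (((((l a : Kˣ) : K))⁻¹ • τ (a : S)) w) = ((((act g l) (cj g a) : Kˣ) : K)⁻¹ • τ ((cj g a : A) : S)) (τ g w)
    rw [hact, ← hcjmul, inv_mul_cancel, show cj 1 a = a from Subtype.ext (by simp [hcj]), LinearMap.smul_apply,
      LinearMap.smul_apply, map_smul, hτmul, hτmul, hcj, inv_mul_cancel_right]
  letI : MulAction S (A →* Kˣ) :=
    { smul := act
      one_smul := fun l => MonoidHom.ext fun a => by
        show act 1 l a = l a
        rw [hact, inv_one, show cj 1 a = a from Subtype.ext (by simp [hcj])]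
      mul_smul := fun g h l => MonoidHom.ext fun a => by
        show act (g * h) l a = act g (act h l) a
        rw [hact, hact, hact, mul_inv_rev, hcjmul] }
  have hsmul : ∀ (g : S) (l : A →* Kˣ) (w : W), τ g (e l w) = e (g • l) (τ g w) := hτe
  have hne_act : ∀ (g : S) (l : A →* Kˣ), e (g • l) ≠ 0 → e l ≠ 0 := by
    intro g l h h0
    refine h (LinearMap.ext fun w => ?_)
    have h1 := hsmul g l (τ g⁻¹ w)
    rw [hτmul, mul_inv_cancel, map_one] at h1
    show e (g • l) w = 0
    rw [show e (g • l) w = e (g • l) ((1 : Module.End K W) w) from rfl, ← h1, h0, LinearMap.zero_apply, map_zero]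
  let Λ : SubMulAction S (A →* Kˣ) :=
    { carrier := {l | e l ≠ 0}
      smul_mem' := fun g l hl => by
        refine hne_act g⁻¹ (g • l) ?_
        rwa [inv_smul_smul] }
  haveI : Fintype Λ := Fintype.ofFinite _
  -- no element of order `q` fixes a character that occurs
  have hone : ∀ l : Λ, (l : A →* Kˣ) ≠ 1 := by
    rintro ⟨l, hl⟩ (rfl : l = 1)
    refine hl (LinearMap.ext fun w => ?_)
    have hw : e 1 w ∈ fixedSub τ (A : Set S) := mem_fixedSub.mpr fun g hg => by
      rw [heigen' 1 ⟨g, hg⟩ w, MonoidHom.one_apply, Units.val_one, one_smul]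
    obtain ⟨u, hu⟩ := fixed_le_range ρ _ hw
    rw [← hu, LinearMap.zero_apply]
    clear hu hw
    induction u using TensorProduct.induction_on with
    | zero => simp
    | tmul k v =>
      have hv : v = 0 := Subtype.ext (hfix v.1 (mem_fixedSub.mp v.2))
      simp [hv]
    | add a b ha hb => rw [map_add, ha, hb, add_zero]
  have hqfix : ∀ (l : Λ) (y : S), orderOf y = q → y • l ≠ l := by
    intro l y hy hyl
    haveI : Finite (Sylow q S) := inferInstance
    obtain ⟨Q, hQ⟩ := (IsPGroup.of_card (p := q) (n := 1) (G := Subgroup.zpowers y)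
      (by rw [Nat.card_zpowers, hy, pow_one])).exists_le_sylow
    obtain ⟨g, rfl⟩ := MulAction.exists_smul_eq S Sq Q
    refine hone (g⁻¹ • l) (hfpf _ fun x hx a => ?_)
    have hQy : (g • Sq : Sylow q S).1 = Subgroup.zpowers y := by
      refine (Subgroup.eq_of_le_of_card_ge hQ ?_).symm
      rw [Nat.card_zpowers, hy]
      exact le_of_eq ((Nat.card_congr (Sylow.equiv _ Sq).toEquiv).trans hSq)
    have hgx : g * x * g⁻¹ ∈ Subgroup.zpowers y := by
      rw [← hQy, Sylow.coe_subgroup_smul]
      exact ⟨x, hx, by simp [MulAut.conj_apply]⟩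
    have hfixl : (g * x⁻¹ * g⁻¹) • l = l := by
      obtain ⟨i, hi⟩ := hgx
      have : g * x⁻¹ * g⁻¹ = y ^ (-i) := by rw [zpow_neg, show y ^ i = g * x * g⁻¹ from hi]; group
      rw [this]
      exact MulAction.mem_stabilizer_iff.mp (zpow_mem (show y ∈ MulAction.stabilizer S l from hyl) _)
    have h2 : x⁻¹ • (g⁻¹ • l) = g⁻¹ • l := by
      conv_rhs => rw [← hfixl]
      rw [← mul_smul, ← mul_smul]
      congr 1
      group
    have h3 := congrArg (fun m : Λ => (m : A →* Kˣ) a) h2
    simp only [SubMulAction.val_smul] at h3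
    rw [show ((x⁻¹ • (g⁻¹ • (l : A →* Kˣ))) a) = (g⁻¹ • (l : A →* Kˣ)) (cj x⁻¹⁻¹ a) from rfl, inv_inv] at h3
    exact h3
  -- lower bound by orbits
  set U2 := fixedSub τ (S2 : Set S)
  have hlower : ∀ (ι : Type) [Fintype ι] (r : ι → Λ),
      (∀ i j, r j ∈ MulAction.orbit S2 (r i) → i = j) → Fintype.card ι ≤ finrank (ZMod 2) (fixedSub ρ (S2 : Set S)) := by
    intro ι _ r hr
    refine le_trans ?_ (finrank_fixed_le ρ (S2 : Set S))
    have hx : ∀ i, ∃ w : W, e (r i : A →* Kˣ) w = w ∧ w ≠ 0 ∧
        ∀ g ∈ (MulAction.stabilizer S (r i)) ⊓ S2, τ g w = w := by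
      intro i
      have hXne : LinearMap.range (e (r i : A →* Kˣ)) ≠ ⊥ := fun h => (r i).2 (LinearMap.range_eq_bot.mp h)
      obtain ⟨w, hw, hw0, hwf⟩ := exists_fixed τ (MulAction.stabilizer S (r i) ⊓ S2) (hS2.to_le inf_le_right)
        (LinearMap.range (e (r i : A →* Kˣ))) hXne (by
          rintro g ⟨hg, -⟩ _ ⟨u, rfl⟩
          refine ⟨τ g u, ?_⟩
          rw [hsmul, ← SubMulAction.val_smul, MulAction.mem_stabilizer_iff.mp hg])
      obtain ⟨u, rfl⟩ := hw
      exact ⟨_, by rw [← Module.End.mul_apply, hee, if_pos rfl], hw0, hwf⟩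
    choose w hw1 hw0 hwf using hx
    let U : ι → Subgroup S2 := fun i => MulAction.stabilizer S2 (r i)
    let v : ι → W := fun i => ∑ᶠ c : S2 ⧸ U i, τ ((c.out : S2) : S) (w i)
    have hv : ∀ i, ∀ g ∈ (S2 : Set S), τ g (v i) = v i := by
      intro i g hg
      haveI : Fintype (S2 ⧸ U i) := Fintype.ofFinite _
      simp only [v, finsum_eq_sum_of_fintype, map_sum, hτmul]
      rw [← Equiv.sum_comp (MulAction.toPerm (⟨g, hg⟩ : S2)) (fun c : S2 ⧸ U i => τ ((c.out : S2) : S) (w i))]
      refine Finset.sum_congr rfl fun c _ => ?_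
      set c' := MulAction.toPerm (⟨g, hg⟩ : S2) c with hc'
      have hu : c'.out⁻¹ * (⟨g, hg⟩ * c.out) ∈ U i := by
        refine QuotientGroup.eq.mp ?_
        rw [QuotientGroup.out_eq', hc']
        conv_lhs => rw [← QuotientGroup.out_eq' c]
        rfl
      have hfixw : τ ((c'.out⁻¹ * (⟨g, hg⟩ * c.out) : S2) : S) (w i) = w i :=
        hwf i _ ⟨MulAction.mem_stabilizer_iff.mpr (MulAction.mem_stabilizer_iff.mp hu), SetLike.coe_mem _⟩
      conv_rhs => rw [← hfixw, hτmul]
      congr 1
      simp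
    have hproj : ∀ i j, e (r i : A →* Kˣ) (v j) = if i = j then w i else 0 := by
      intro i j
      haveI : Fintype (S2 ⧸ U j) := Fintype.ofFinite _
      simp only [v, finsum_eq_sum_of_fintype, map_sum]
      have hterm : ∀ c : S2 ⧸ U j, e (r i : A →* Kˣ) (τ ((c.out : S2) : S) (w j)) =
          if c.out • r j = r i then τ ((c.out : S2) : S) (w j) else 0 := by
        intro c
        rw [← hw1 j, hsmul, ← Module.End.mul_apply, hee]
        have hiff : (r i : A →* Kˣ) = ((c.out : S2) : S) • (r j : A →* Kˣ) ↔ c.out • r j = r i :=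
          ⟨fun h => Subtype.ext h.symm, fun h => (congrArg Subtype.val h).symm⟩
        by_cases h : c.out • r j = r i
        · rw [if_pos h, if_pos (hiff.mpr h)]
        · rw [if_neg h, if_neg (mt hiff.mp h), LinearMap.zero_apply]
      simp only [hterm]
      split_ifs with hij
      · subst hij
        rw [Finset.sum_eq_single (((1 : S2)) : S2 ⧸ U i)]
        · have hu : ((1 : S2) : S2 ⧸ U i).out ∈ U i := by
            have h := QuotientGroup.out_eq' (((1 : S2)) : S2 ⧸ U i)
            rw [QuotientGroup.eq, mul_one] at h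
            exact inv_mem_iff.mp h
          rw [if_pos (MulAction.mem_stabilizer_iff.mp hu)]
          exact hwf i _ ⟨MulAction.mem_stabilizer_iff.mpr (MulAction.mem_stabilizer_iff.mp hu :), SetLike.coe_mem _⟩
        · intro c _ hc
          rw [if_neg]
          intro h
          apply hc
          rw [← QuotientGroup.out_eq' c, QuotientGroup.eq, mul_one]
          exact inv_mem (MulAction.mem_stabilizer_iff.mpr h)
        · exact fun h => absurd (Finset.mem_univ _) h
      · refine Finset.sum_eq_zero fun c _ => if_neg fun h => hij ?_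
        exact (hr j i ⟨c.out, h⟩).symm
    have hlin : LinearIndependent K (fun i => (⟨v i, mem_fixedSub.mpr (hv i)⟩ : U2)) := by
      refine LinearIndependent.of_comp U2.subtype ?_
      rw [Fintype.linearIndependent_iff]
      intro g hg i
      have h := congrArg (e (r i : A →* Kˣ)) hg
      simp only [Function.comp_apply, Submodule.subtype_apply, map_sum, map_smul, hproj, map_zero, smul_ite,
        smul_zero, Finset.sum_ite_eq, Finset.mem_univ, if_true] at h
      exact (smul_eq_zero.mp h).resolve_right (hw0 i)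
    exact hlin.fintype_card_le_finrank
  obtain ⟨y, hy⟩ := exists_prime_orderOf_dvd_card' (G := H) q hqH
  have hy' : orderOf (y : S) = q := by rw [Subgroup.orderOf_coe, hy]
  have hsplit : ∀ l : Λ, ∃ m : Λ, m ∈ MulAction.orbit H l ∧ m ∉ MulAction.orbit S2 l := by
    intro l
    by_contra hno
    simp only [not_exists, not_and, not_not] at hno
    have horb : MulAction.orbit H l = MulAction.orbit S2 l :=
      Set.Subset.antisymm (fun m hm => hno m hm) (by rintro _ ⟨g, rfl⟩; exact ⟨⟨g, hS2H g.2⟩, rfl⟩)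
    obtain ⟨n, hn⟩ := hS2.card_orbit l
    have hstab : (MulAction.stabilizer H l).index = 2 ^ n := by
      rw [MulAction.index_stabilizer, horb, ← hn, Nat.card_coe_set_eq]
    have hdvd : q ∣ Nat.card (MulAction.stabilizer H l) := by
      have h := (MulAction.stabilizer H l).card_mul_index
      rw [hstab] at h
      have hcop : Nat.Coprime q (2 ^ n) := Nat.Coprime.pow_right _ ((Nat.coprime_primes hq Nat.prime_two).mpr hq2)
      exact hcop.dvd_of_dvd_mul_right (h ▸ hqH)
    obtain ⟨z, hz⟩ := exists_prime_orderOf_dvd_card' (G := MulAction.stabilizer H l) q hdvd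
    exact hqfix l ((z : H) : S) (by rw [Subgroup.orderOf_coe, Subgroup.orderOf_coe, hz]) z.2
  obtain ⟨l₀⟩ : Nonempty Λ := by
    by_contra h
    have h0 : ∀ l, e l = 0 := fun l => by
      by_contra hl
      exact h ⟨⟨l, hl⟩⟩
    have h10 : (1 : Module.End K W) = 0 := by rw [← hsum]; exact Finset.sum_eq_zero fun l _ => h0 l
    haveI : Nontrivial W := Module.nontrivial_of_finrank_pos (R := K) (by
      rw [Module.finrank_baseChange]; exact Module.finrank_pos)
    exact one_ne_zero h10
  refine ⟨?_, ?_, ?_⟩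
  · obtain ⟨m, -, hm⟩ := hsplit l₀
    refine le_of_eq_of_le (Fintype.card_fin 2).symm (hlower (Fin 2) ![l₀, m] fun i j hij => ?_)
    fin_cases i <;> fin_cases j <;> simp at hij ⊢
    · exact hm hij
    · exact hm (MulAction.mem_orbit_symm.mp hij)
  · intro hN
    refine le_of_eq_of_le (Fintype.card_fin 3).symm (hlower (Fin 3) (fun i => ((y : S) ^ (i : ℕ)) • l₀) fun i j hij => ?_)
    by_contra hne
    obtain ⟨s, hs⟩ := hij
    obtain ⟨d, hd, hd0, hd3⟩ : ∃ d : ℕ, ((y : S) ^ d) • l₀ ∈ MulAction.orbit S2 l₀ ∧ 0 < d ∧ d < 3 := by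
      have key : ∀ a b : ℕ, a < b → ∀ t ∈ S2, t • ((y : S) ^ a) • l₀ = ((y : S) ^ b) • l₀ →
          ((y : S) ^ (b - a)) • l₀ ∈ MulAction.orbit S2 l₀ := by
        intro a b hab t ht h
        have hn : ((y : S) ^ a)⁻¹ * t * ((y : S) ^ a) ∈ S2 := by
          have := (Subgroup.mem_normalizer_iff.mp (hN (inv_mem (pow_mem y.2 a))) t).mp ht
          simpa [mul_assoc] using this
        refine ⟨⟨_, hn⟩, ?_⟩
        show ((((y : S) ^ a)⁻¹ * t * ((y : S) ^ a))) • l₀ = ((y : S) ^ (b - a)) • l₀
        rw [mul_smul, mul_smul, h, ← mul_smul]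
        congr 1
        rw [inv_mul_eq_iff_eq_mul, ← pow_add, Nat.add_sub_cancel' hab.le]
      rcases lt_or_gt_of_ne (fun h => hne (Fin.ext h)) with h | h
      · exact ⟨j - i, key i j h s s.2 hs, by omega, by omega⟩
      · refine ⟨i - j, key j i h s⁻¹ (inv_mem s.2) ?_, by omega, by omega⟩
        rw [inv_smul_eq_iff]
        exact hs.symm
    -- the orbit of `S2` is invariant under an element of order `q`
    have hzq : orderOf ((y : S) ^ d) = q := by
      rw [Nat.Coprime.orderOf_pow (by
        rw [hy', hq.coprime_iff_not_dvd]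
        intro h
        have := Nat.le_of_dvd hd0 h
        have := hq.two_le
        omega), hy']
    set z := (y : S) ^ d with hz
    have hzH : z ∈ H := pow_mem y.2 d
    have hinv : ∀ m ∈ MulAction.orbit S2 l₀, z • m ∈ MulAction.orbit S2 l₀ := by
      rintro _ ⟨t, rfl⟩
      obtain ⟨t', ht'⟩ := hd
      have hn : z * t * z⁻¹ ∈ S2 := (Subgroup.mem_normalizer_iff.mp (hN hzH) t).mp t.2
      refine ⟨⟨z * t * z⁻¹, hn⟩ * t', ?_⟩
      show ((z * t * z⁻¹) * (t' : S)) • l₀ = z • ((t : S) • l₀)
      rw [mul_smul, show (t' : S) • l₀ = z • l₀ from ht', ← mul_smul, ← mul_smul, inv_mul_cancel_right]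
    let Z := Subgroup.zpowers z
    have hinvZ : ∀ g ∈ Z, ∀ m ∈ MulAction.orbit S2 l₀, g • m ∈ MulAction.orbit S2 l₀ := by
      intro g hg m hm
      obtain ⟨i, rfl⟩ := (Submonoid.mem_powers_iff _ _).mp
        (mem_powers_iff_mem_zpowers.mpr hg)
      clear hg
      induction i with
      | zero => simpa using hm
      | succ i ih => rw [pow_succ', mul_smul]; exact hinv _ ih
    letI : MulAction Z (MulAction.orbit S2 l₀) :=
      { smul := fun g m => ⟨(g : S) • m.1, hinvZ g g.2 m.1 m.2⟩
        one_smul := fun m => Subtype.ext (one_smul S m.1)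
        mul_smul := fun g h m => Subtype.ext (mul_smul (g : S) (h : S) m.1) }
    have hZq : IsPGroup q Z := IsPGroup.of_card (n := 1) (by rw [Nat.card_zpowers, hzq, pow_one])
    obtain ⟨n, hn⟩ := hS2.card_orbit l₀
    have hnd : ¬ q ∣ Nat.card (MulAction.orbit S2 l₀) := by
      rw [hn]
      intro h
      exact hq2 ((Nat.prime_dvd_prime_iff_eq hq Nat.prime_two).mp (hq.dvd_of_dvd_pow h))
    obtain ⟨m, hm⟩ := hZq.nonempty_fixed_point_of_prime_not_dvd_card _ hnd
    exact hqfix m.1 z hzq (congrArg Subtype.val (hm ⟨z, Subgroup.mem_zpowers z⟩))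
  · intro v₀ hspan hle
    -- upper bound by the orbits of `H`
    let Q := MulAction.orbitRel.Quotient H Λ
    haveI : Fintype Q := Fintype.ofFinite _
    have h1 : ∀ l : A →* Kˣ, finrank K (LinearMap.range (e l)) ≤ 1 := by
      intro l
      have hle : LinearMap.range (e l) ≤ Submodule.span K {e l (1 ⊗ₜ[ZMod 2] v₀)} := by
        rintro _ ⟨u, rfl⟩
        induction u using TensorProduct.induction_on with
        | zero => simp
        | add a b ha hb => rw [map_add]; exact Submodule.add_mem _ ha hb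
        | tmul k x =>
          have hx : x ∈ Submodule.span (ZMod 2) (Set.range fun a : A => ρ a v₀) := hspan ▸ Submodule.mem_top
          induction hx using Submodule.span_induction with
          | mem x hx =>
            obtain ⟨a, rfl⟩ := hx
            refine Submodule.mem_span_singleton.mpr ⟨k * ((l a : Kˣ) : K), ?_⟩
            rw [mul_smul, ← heigen' l a, ← Module.End.mul_apply]
            have hcomm : τ (a : S) * e l = e l * τ (a : S) := by
              rw [hedef, smul_mul_assoc, mul_smul_comm, Finset.mul_sum, Finset.sum_mul]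
              congr 1
              refine Finset.sum_congr rfl fun b _ => ?_
              rw [mul_smul_comm, smul_mul_assoc, ← map_mul, ← map_mul, hAc a.1 a.2 b.1 b.2]
            rw [hcomm, Module.End.mul_apply, ext_apply, ← map_smul, TensorProduct.smul_tmul', smul_eq_mul, mul_one]
          | zero => simp
          | add a b _ _ ha hb => rw [TensorProduct.tmul_add, map_add]; exact Submodule.add_mem _ ha hb
          | smul c a _ ha =>
            rw [TensorProduct.tmul_smul, ← algebraMap_smul K c (k ⊗ₜ[ZMod 2] a), map_smul]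
            exact Submodule.smul_mem _ _ ha
      exact (Submodule.finrank_mono hle).trans ((finrank_span_le_card _).trans (by simp))
    have hup : finrank K (fixedSub τ (H : Set S)) ≤ Fintype.card Q := by
      refine finrank_le_card _ (fun o : Q => e (o.out : A →* Kˣ)) (fun o => h1 _) ?_
      intro w hwX hw
      have hz : ∀ l, e l w = 0 := by
        intro l
        by_cases hl : e l = 0
        · rw [hl, LinearMap.zero_apply]
        let o : Q := Quotient.mk'' (⟨l, hl⟩ : Λ)
        have ho : e (o.out : A →* Kˣ) w = 0 := hw o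
        have hmem : o.out ∈ MulAction.orbit H (⟨l, hl⟩ : Λ) :=
          MulAction.orbitRel_apply.mp (Quotient.mk_out' (⟨l, hl⟩ : Λ))
        obtain ⟨g, hg⟩ := hmem
        rw [← hg] at ho
        have h2 := hsmul (g : S) l w
        rw [mem_fixedSub.mp hwX _ g.2] at h2
        have h3 : τ (g : S) (e l w) = 0 := h2.trans ho
        have h4 := congrArg (τ (g : S)⁻¹) h3
        rwa [hτmul, inv_mul_cancel, map_one, map_zero] at h4
      have : (∑ l, e l) w = w := by rw [hsum]; rfl
      rw [← this, LinearMap.sum_apply]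
      exact Finset.sum_eq_zero fun l _ => hz l
    choose f hf1 hf2 using fun o : Q => hsplit o.out
    obtain ⟨φ⟩ : Nonempty (Fin (2 * Fintype.card Q) ≃ Q × Bool) :=
      ⟨(Fintype.equivFinOfCardEq (by rw [Fintype.card_prod, Fintype.card_bool, mul_comm])).symm⟩
    have hr := hlower (Fin (2 * Fintype.card Q)) (fun i => if (φ i).2 then f (φ i).1 else (φ i).1.out) ?_
    · rw [Fintype.card_fin] at hr
      have hQ : 0 < Fintype.card Q := Fintype.card_pos_iff.mpr ⟨Quotient.mk'' l₀⟩
      omega
    intro i j hij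
    refine φ.injective ?_
    generalize φ i = a at hij
    generalize φ j = b at hij
    obtain ⟨o, b1⟩ := a
    obtain ⟨o', b2⟩ := b
    have hH : ∀ (c : Q) (b : Bool), (if b then f c else c.out) ∈ MulAction.orbit H c.out := by
      intro c b
      cases b
      · exact MulAction.mem_orbit_self _
      · exact hf1 c
    have hoo : o = o' := by
      have h1' := hH o b1
      have h2' := hH o' b2
      simp only at hij
      obtain ⟨s, hs⟩ := hij
      have h3 : (if b2 then f o' else o'.out) ∈ MulAction.orbit H o.out := by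
        rw [← hs]
        exact MulAction.mem_orbit_of_mem_orbit (⟨s, hS2H s.2⟩ : H) h1'
      have h4 : o'.out ∈ MulAction.orbit H o.out := by
        rw [← MulAction.orbit_eq_iff.mpr h3]
        exact MulAction.mem_orbit_symm.mp h2'
      rw [← Quotient.out_eq' o, ← Quotient.out_eq' o']
      exact (Quotient.sound' (MulAction.orbitRel_apply.mpr h4)).symm
    subst hoo
    cases b1 <;> cases b2 <;> simp only [Bool.false_eq_true, if_true, if_false] at hij ⊢
    · exact absurd hij (hf2 o)
    · exact absurd (MulAction.mem_orbit_symm.mp hij) (hf2 o)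

end CfsgLib.TwoFixedOrbits
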