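/-
Permutation groups generated by two elements of large prime order.
-/
import Mathlib
import Cfsg.Agent.S0713

set_option autoImplicit false

namespace CfsgLib.TwoPrimesAlt

open Equiv Finset

variable {α : Type*} [Fintype α] [DecidableEq α]

/-- A permutation of prime order moves a multiple of that prime, and is a cycle if it moves exactly that many. -/
theorem supp_info (σ : Perm α) {p : ℕ} (hp : p.Prime) (h : orderOf σ = p) :
    ∃ n, σ.support.card = (n + 1) * p ∧ (n = 0 → σ.IsCycle) ∧
      (Perm.sign σ = 1 ↔ Even ((n + 1) * p + (n + 1))) := by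
  obtain ⟨n, hn⟩ := Perm.cycleType_prime_order (σ := σ) (h ▸ hp)
  refine ⟨n, ?_, ?_, ?_⟩
  · rw [← Perm.sum_cycleType, hn, Multiset.sum_replicate, smul_eq_mul, h]
  · rintro rfl
    rw [← Perm.card_cycleType_eq_one, hn]
    simp
  · rw [Perm.sign_of_cycleType, hn, Multiset.sum_replicate, Multiset.card_replicate, smul_eq_mul, h]
    constructor
    · intro h1
      by_contra h2
      rw [(Nat.not_even_iff_odd.mp h2).neg_one_pow] at h1
      exact absurd h1 (by decide)
    · exact fun h1 => h1.neg_one_pow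

/-- A subgroup of small index in a simple group is everything. -/
theorem eq_top_of_index_lt {A : Type*} [Group A] [Finite A] [IsSimpleGroup A] (K : Subgroup A) {q : ℕ}
    (hq : q.Prime) (hqA : q ∣ Nat.card A) (hK : K.index < q) : K = ⊤ := by
  rcases (MulAction.toPermHom A (A ⧸ K)).normal_ker.eq_bot_or_eq_top with h | h
  · exfalso
    have h1 := Subgroup.card_dvd_of_injective _ ((MonoidHom.ker_eq_bot_iff _).mp h)
    rw [Nat.card_perm, ← Subgroup.index] at h1
    have h2 := hq.dvd_factorial.mp (hqA.trans h1)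
    omega
  · rw [← Subgroup.normalCore_eq_ker] at h
    exact top_unique (h ▸ K.normalCore_le)

/-- The elements of `G` fixing `s` pointwise. -/
def fixS (G : Subgroup (Perm α)) (s : Finset α) : Subgroup (Perm α) := G ⊓ fixingSubgroup (Perm α) (s : Set α)

theorem mem_fixS {G : Subgroup (Perm α)} {s : Finset α} {g : Perm α} :
    g ∈ fixS G s ↔ g ∈ G ∧ ∀ x ∈ s, g x = x := by
  simp [fixS, mem_fixingSubgroup_iff, Perm.smul_def]

/-- Orbit-stabiliser for pointwise stabilisers. -/
theorem card_fixS (G : Subgroup (Perm α)) (s : Finset α) (t : α) (ht : t ∉ s)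
    (htr : ∀ u, u ∉ s → ∃ g ∈ fixS G s, g t = u) :
    Nat.card (fixS G s) = (Fintype.card α - s.card) * Nat.card (fixS G (insert t s)) := by
  classical
  set K := fixS G s
  have horb : Nat.card (MulAction.orbit K t) = Fintype.card α - s.card := by
    rw [← Finset.card_compl, ← Nat.card_eq_finsetCard]
    refine Nat.card_congr (Equiv.subtypeEquivRight fun u => ?_)
    rw [Finset.mem_compl]
    constructor
    · rintro ⟨g, rfl⟩ hu
      have h1 : (g : Perm α) t = t := by
        have h2 := (mem_fixS.mp g.2).2 _ hu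
        exact (g : Perm α).injective h2
      exact ht (by rw [← h1]; exact hu)
    · intro hu
      obtain ⟨g, hg, hgu⟩ := htr u hu
      exact ⟨⟨g, hg⟩, hgu⟩
  have hstab : Nat.card (MulAction.stabilizer K t) = Nat.card (fixS G (insert t s)) := by
    refine Nat.card_congr
      { toFun := fun g => ⟨((g : K) : Perm α), mem_fixS.mpr ⟨(mem_fixS.mp (g : K).2).1, fun x hx => by
          rcases Finset.mem_insert.mp hx with rfl | h
          · exact g.2
          · exact (mem_fixS.mp (g : K).2).2 x h⟩⟩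
        invFun := fun g => ⟨⟨g, mem_fixS.mpr ⟨(mem_fixS.mp g.2).1, fun x hx =>
          (mem_fixS.mp g.2).2 x (Finset.mem_insert_of_mem hx)⟩⟩, (mem_fixS.mp g.2).2 t (Finset.mem_insert_self _ _)⟩
        left_inv := fun _ => rfl
        right_inv := fun _ => rfl }
  rw [← horb, ← hstab, Nat.card_congr (MulAction.orbitEquivQuotientStabilizer K t), ← Subgroup.index,
    mul_comm, Subgroup.card_mul_index]

/-- No group is sharply 2-transitive on `p + 1` points with `p` prime and `p + 1` not a prime power. -/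
theorem no_sharp (H : Subgroup (Perm α)) (Ω : Finset α) {p r₁ r₂ : ℕ} (hp : p.Prime) (hr₁ : r₁.Prime)
    (hr₂ : r₂.Prime) (hr : r₁ ≠ r₂) (hd₁ : r₁ ∣ p + 1) (hd₂ : r₂ ∣ p + 1) (hΩ : Ω.card = p + 1)
    (hcard : Nat.card H = (p + 1) * p) (hout : ∀ g ∈ H, ∀ t, t ∉ Ω → g t = t)
    (htr : ∀ c ∈ Ω, ∀ d ∈ Ω, ∃ g ∈ H, g c = d) {x : Perm α} (hx : x ∈ H) (hxo : orderOf x = p)
    (hxs : x.support.card = p) : False := by
  classical
  have := Fact.mk hp
  set O : Finset α := Ωᶜ
  -- stabilisers of points have order `p`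
  have hmaps : ∀ g ∈ H, ∀ t ∈ Ω, g t ∈ Ω := fun g hg t ht => by
    by_contra h
    exact h (by rw [g.injective (hout g hg _ h)]; exact ht)
  have hstab : ∀ a ∈ Ω, Nat.card (MulAction.stabilizer H a) = p := by
    intro a ha
    have horb : Nat.card (MulAction.orbit H a) = p + 1 := by
      rw [← hΩ, ← Nat.card_eq_finsetCard]
      refine Nat.card_congr (Equiv.subtypeEquivRight fun u => ⟨?_, ?_⟩)
      · rintro ⟨g, rfl⟩; exact hmaps _ g.2 a ha
      · intro hu; obtain ⟨g, hg, hgu⟩ := htr a ha u hu; exact ⟨⟨g, hg⟩, hgu⟩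
    have h1 := (MulAction.stabilizer H a).card_mul_index
    rw [Subgroup.index, ← Nat.card_congr (MulAction.orbitEquivQuotientStabilizer H a), horb, hcard,
      mul_comm] at h1
    exact Nat.eq_of_mul_eq_mul_left (by omega) h1
  have hxsub : x.support ⊆ Ω := fun t ht => by
    by_contra h
    exact Perm.mem_support.mp ht (hout x hx t h)
  obtain ⟨a₀, ha₀⟩ : ∃ a₀, Ω \ x.support = {a₀} := Finset.card_eq_one.mp (by
    rw [Finset.card_sdiff_of_subset hxsub, hΩ, hxs]; omega)
  have ha₀Ω : a₀ ∈ Ω := (Finset.mem_sdiff.mp (ha₀ ▸ Finset.mem_singleton_self a₀)).1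
  have hxa₀ : x a₀ = a₀ :=
    Perm.notMem_support.mp (Finset.mem_sdiff.mp (ha₀ ▸ Finset.mem_singleton_self a₀)).2
  have hxfix : ∀ t ∈ Ω, x t = t → t = a₀ := fun t ht h =>
    Finset.mem_singleton.mp (ha₀ ▸ Finset.mem_sdiff.mpr ⟨ht, Perm.notMem_support.mpr h⟩)
  -- a non-identity element fixes at most one point
  have hone : ∀ g ∈ H, g ≠ 1 → ∀ a ∈ Ω, ∀ b ∈ Ω, g a = a → g b = b → a = b := by
    intro g hg hg1 a ha b hb hga hgb
    obtain ⟨u, hu, hua⟩ := htr a₀ ha₀Ω a ha
    have hc : u * x * u⁻¹ ∈ H := H.mul_mem (H.mul_mem hu hx) (H.inv_mem hu)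
    have hcfix : (u * x * u⁻¹) a = a := by
      rw [Perm.mul_apply, Perm.mul_apply, Perm.inv_eq_iff_eq.mpr hua.symm, hxa₀, hua]
    have hgen : Subgroup.zpowers (⟨⟨g, hg⟩, hga⟩ : MulAction.stabilizer H a) = ⊤ :=
      zpowers_eq_top_of_prime_card (hstab a ha) (fun h => hg1 (congrArg (fun v : MulAction.stabilizer H a => ((v : H) : Perm α)) h))
    obtain ⟨i, hi⟩ := Subgroup.mem_zpowers_iff.mp (hgen.ge (Subgroup.mem_top ⟨⟨_, hc⟩, hcfix⟩))
    have hi' : g ^ i = u * x * u⁻¹ := by
      have := congrArg (fun v : MulAction.stabilizer H a => ((v : H) : Perm α)) hi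
      simpa using this
    have hcb : (u * x * u⁻¹) b = b := by
      rw [← hi']; exact Perm.zpow_apply_eq_self_of_apply_eq_self hgb i
    have h2 : x (u⁻¹ b) = u⁻¹ b := by
      have := congrArg (u⁻¹ : Perm α) hcb
      simpa [Perm.mul_apply] using this
    have hub : u⁻¹ b ∈ Ω := hmaps _ (H.inv_mem hu) b hb
    have h3 := hxfix _ hub h2
    rw [Perm.inv_eq_iff_eq, hua] at h3
    exact h3.symm
  -- count the derangements
  let Fx : α → Finset H := fun a => ((Finset.univ : Finset H).filter fun g : H => (g : Perm α) a = a).erase 1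
  have hFx : ∀ a ∈ Ω, (Fx a).card = p - 1 := by
    intro a ha
    have h1 : Nat.card (MulAction.stabilizer H a) =
        ((Finset.univ : Finset H).filter fun g : H => (g : Perm α) a = a).card := by
      rw [← Nat.card_eq_finsetCard]
      exact Nat.card_congr (Equiv.subtypeEquivRight fun g => by simp [MulAction.mem_stabilizer_iff, Subgroup.smul_def, Perm.smul_def])
    rw [Finset.card_erase_of_mem (by simp), ← h1, hstab a ha]
  set D : Finset H := (Finset.univ : Finset H).filter fun g : H => ∀ a ∈ Ω, (g : Perm α) a ≠ a with hD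
  have hdisj : Disjoint D (Ω.biUnion Fx) := by
    rw [Finset.disjoint_left]
    intro g h1 h2
    obtain ⟨a, ha, hga⟩ := Finset.mem_biUnion.mp h2
    exact (Finset.mem_filter.mp h1).2 a ha (Finset.mem_filter.mp (Finset.mem_of_mem_erase hga)).2
  have hDc : D.card + (p + 1) * (p - 1) + 1 ≤ (p + 1) * p := by
    have h1 : (Ω.biUnion Fx).card = (p + 1) * (p - 1) := by
      rw [Finset.card_biUnion, Finset.sum_const_nat hFx, hΩ]
      intro a ha b hb hab
      rw [Function.onFun, Finset.disjoint_left]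
      intro g h1 h2
      simp only [Fx, Finset.mem_erase, Finset.mem_filter, Finset.mem_univ, true_and] at h1 h2
      exact hab (hone g g.2 (fun e => h1.1 (Subtype.ext e)) a ha b hb h1.2 h2.2)
    have h2 : (1 : H) ∉ D ∪ Ω.biUnion Fx := by
      simp only [Finset.mem_union, hD, Finset.mem_filter, Finset.mem_biUnion, Fx, Finset.mem_erase,
        OneMemClass.coe_one, Perm.one_apply, not_or]
      exact ⟨fun h => h.2 a₀ ha₀Ω rfl, fun ⟨_, _, h, _⟩ => h rfl⟩
    have h3 : (insert (1 : H) (D ∪ Ω.biUnion Fx)).card ≤ Nat.card H := by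
      rw [Nat.card_eq_fintype_card]; exact Finset.card_le_univ _
    rw [Finset.card_insert_of_notMem h2, Finset.card_union_of_disjoint hdisj, h1, hcard] at h3
    omega
  -- each such prime gives `p` derangements
  have hmany : ∀ r : ℕ, r.Prime → r ∣ p + 1 → ∃ E : Finset H, E ⊆ D ∧ E.card = p ∧ ∀ g ∈ E, orderOf g = r := by
    intro r hr hd
    have := Fact.mk hr
    obtain ⟨z, hz⟩ := exists_prime_orderOf_dvd_card' (G := H) r (hcard ▸ hd.mul_right p)
    have hrp : r ≠ p := fun e => by
      rw [e, Nat.dvd_add_right (dvd_refl p), Nat.dvd_one] at hd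
      exact hp.one_lt.ne' hd
    have hzD : ∀ v : H, orderOf v = r → v ∈ D := by
      intro v hv
      simp only [hD, Finset.mem_filter, Finset.mem_univ, true_and]
      intro a ha hva
      have h1 : r ∣ p := by
        rw [← hv, ← hstab a ha, ← Subgroup.orderOf_mk (a := v) (show v ∈ MulAction.stabilizer H a from hva)]
        exact orderOf_dvd_natCard _
      exact hrp ((Nat.prime_dvd_prime_iff_eq hr hp).mp h1)
    let xH : H := ⟨x, hx⟩
    let e : Fin p → H := fun i => MulAut.conj (xH ^ (i : ℕ)) z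
    have he : ∀ i, orderOf (e i) = r := fun i => (MulEquiv.orderOf_eq _ _).trans hz
    have hinj : Function.Injective e := by
      have key : ∀ i j : Fin p, (i : ℕ) < j → e i ≠ e j := by
        intro i j hij hcontra
        obtain ⟨k, hk⟩ := Nat.exists_eq_add_of_le hij.le
        simp only [e, hk, pow_add, map_mul, MulAut.mul_apply] at hcontra
        have h1 := (MulAut.conj (xH ^ (i : ℕ))).injective hcontra
        simp only [MulAut.conj_apply] at h1
        have h2 : (x ^ k) * (z : Perm α) = (z : Perm α) * x ^ k := by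
          have := congrArg (fun v : H => (v : Perm α)) h1
          simp only [Subgroup.coe_mul, Subgroup.coe_inv, Subgroup.coe_pow, xH] at this
          exact (eq_mul_inv_iff_mul_eq.mp this).symm
        have hk1 : x ^ k ≠ 1 := fun h => by
          have h3 := Nat.le_of_dvd (by omega) (hxo ▸ orderOf_dvd_of_pow_eq_one h)
          omega
        have h4 : (x ^ k) ((z : Perm α) a₀) = (z : Perm α) a₀ := by
          rw [← Perm.mul_apply, h2, Perm.mul_apply, Perm.pow_apply_eq_self_of_apply_eq_self hxa₀]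
        have h5 := hone _ (H.pow_mem hx k) hk1 _ (hmaps _ z.2 a₀ ha₀Ω) a₀ ha₀Ω h4
          (Perm.pow_apply_eq_self_of_apply_eq_self hxa₀ k)
        exact (Finset.mem_filter.mp (hzD z hz)).2 a₀ ha₀Ω h5
      intro i j h
      rcases lt_trichotomy (i : ℕ) j with h' | h' | h'
      · exact absurd h (key i j h')
      · exact Fin.ext h'
      · exact absurd h.symm (key j i h')
    refine ⟨Finset.univ.image e, ?_, ?_, ?_⟩
    · intro g hg; obtain ⟨i, -, rfl⟩ := Finset.mem_image.mp hg; exact hzD _ (he i)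
    · rw [Finset.card_image_of_injective _ hinj, Finset.card_univ, Fintype.card_fin]
    · intro g hg; obtain ⟨i, -, rfl⟩ := Finset.mem_image.mp hg; exact he i
  obtain ⟨E₁, h11, h12, h13⟩ := hmany r₁ hr₁ hd₁
  obtain ⟨E₂, h21, h22, h23⟩ := hmany r₂ hr₂ hd₂
  have hE : Disjoint E₁ E₂ := Finset.disjoint_left.mpr fun g h1 h2 => hr ((h13 g h1).symm.trans (h23 g h2))
  have := Finset.card_le_card (Finset.union_subset h11 h21)
  rw [Finset.card_union_of_disjoint hE, h12, h22] at this
  obtain ⟨q, rfl⟩ := Nat.exists_eq_add_of_le' hp.one_le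
  have h5 : (q + 1 + 1) * (q + 1) = (q + 1 + 1) * (q + 1 - 1) + (q + 1 + 1) := by
    rw [Nat.add_sub_cancel]; ring
  have := hp.two_le
  omega

/-- A transitive group on `p + 2` points with a `p`-cycle is triply transitive. -/
theorem three_trans (G : Subgroup (Perm α)) {p : ℕ} (hp : p.Prime) (hp3 : 2 < p)
    (hcard : Fintype.card α = p + 2) (hprim : MulAction.IsPreprimitive G α)
    {x : Perm α} (hx : x ∈ G) (hxc : x.IsCycle) (hxs : x.support.card = p) :
    ∀ f g : Fin 3 ↪ α, ∃ u ∈ G, ∀ i, u (f i) = g i := by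
  classical
  set s : Set α := ((x.support : Set α))ᶜ with hs
  have hscard : s.ncard = 1 + 1 := by
    rw [hs, Set.ncard_compl, Set.ncard_coe_finset, hxs, Nat.card_eq_fintype_card, hcard]; omega
  have htr := Perm.isPretransitive_of_isCycle_mem (G := G) hxc hx
  have hprim' : MulAction.IsPreprimitive (fixingSubgroup G s) (SubMulAction.ofFixingSubgroup G s) := by
    have := htr
    refine MulAction.IsPreprimitive.of_prime_card ?_
    have h : Nat.card (SubMulAction.ofFixingSubgroup G s) = p := by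
      rw [← hxs, ← Nat.card_eq_finsetCard]
      refine Nat.card_congr (Equiv.subtypeEquivRight fun t => ?_)
      simp [SubMulAction.mem_ofFixingSubgroup_iff, hs]
    rw [h]; exact hp
  have hmp := (hprim.isMultiplyPreprimitive (s := s) (n := 1) hscard
    (by rw [Nat.card_eq_fintype_card]; omega) hprim').isMultiplyPretransitive
  intro f g
  obtain ⟨⟨u, hu⟩, h⟩ := MulAction.isMultiplyPretransitive_iff.mp hmp f g
  exact ⟨u, hu, fun i => congrArg (fun e : Fin 3 ↪ α => e i) h⟩

/-- An embedding of `Fin 3` given by three distinct points. -/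
def emb3 {a b c : α} (hab : a ≠ b) (hac : a ≠ c) (hbc : b ≠ c) : Fin 3 ↪ α :=
  ⟨![a, b, c], by
    intro i j h
    fin_cases i <;> fin_cases j <;> first | rfl | simp_all⟩

/-- The orders of two stabilisers in a triply transitive group. -/
theorem card_three_trans (G : Subgroup (Perm α)) (h3 : ∀ f g : Fin 3 ↪ α, ∃ u ∈ G, ∀ i, u (f i) = g i)
    {a b : α} (hab : a ≠ b) (hn : 3 ≤ Fintype.card α) :
    Nat.card G = Fintype.card α * Nat.card (fixS G {a}) ∧
      Nat.card (fixS G {a}) = (Fintype.card α - 1) * Nat.card (fixS G {b, a}) ∧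
      ∀ c ∈ Finset.univ.erase a, ∀ d ∈ Finset.univ.erase a, ∃ g ∈ fixS G {a}, g c = d := by
  classical
  have third : ∀ u v : α, ∃ w, w ≠ u ∧ w ≠ v := fun u v => by
    obtain ⟨w, hw, hw'⟩ := Finset.exists_mem_notMem_of_card_lt_card (s := ({u, v} : Finset α)) (t := Finset.univ)
      (lt_of_le_of_lt Finset.card_le_two (by rw [Finset.card_univ]; omega))
    simp only [Finset.mem_insert, Finset.mem_singleton, not_or] at hw'
    exact ⟨w, hw'⟩
  have h2 : ∀ c d : α, c ≠ a → d ≠ a → ∃ g ∈ fixS G {a}, g c = d := by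
    intro c d hc hd
    obtain ⟨w, hw1, hw2⟩ := third a c
    obtain ⟨w', hw1', hw2'⟩ := third a d
    obtain ⟨u, hu, h⟩ := h3 (emb3 hc.symm hw1.symm hw2.symm) (emb3 hd.symm hw1'.symm hw2'.symm)
    exact ⟨u, mem_fixS.mpr ⟨hu, fun t ht => by rw [Finset.mem_singleton.mp ht]; exact h 0⟩,
      h 1⟩
  refine ⟨?_, ?_, fun c hc d hd => h2 c d (Finset.ne_of_mem_erase hc) (Finset.ne_of_mem_erase hd)⟩
  · have h0 : fixS G ∅ = G := le_antisymm inf_le_left fun g hg => mem_fixS.mpr ⟨hg, by simp⟩
    have := card_fixS G ∅ a (by simp) (fun u _ => by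
      obtain ⟨c, hc1, hc2⟩ := third a b
      obtain ⟨v, hv1, hv2⟩ := third u a
      obtain ⟨w, hw1, hw2⟩ := third u v
      obtain ⟨g, hg, h⟩ := h3 (emb3 hab hc1.symm hc2.symm) (emb3 hv1.symm hw1.symm hw2.symm)
      exact ⟨g, mem_fixS.mpr ⟨hg, by simp⟩, h 0⟩)
    rwa [h0, Finset.card_empty, Nat.sub_zero, show insert a (∅ : Finset α) = {a} from rfl] at this
  · have := card_fixS G {a} b (by simpa using hab.symm) (fun u hu => h2 b u hab.symm (by simpa using hu))
    rwa [Finset.card_singleton] at this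

theorem fixS_le {G : Subgroup (Perm α)} {s : Finset α} : fixS G s ≤ G := inf_le_left

end CfsgLib.TwoPrimesAlt
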