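/-
Transitive even groups of degree 13 with an 11-cycle contain the alternating group.
-/
import Mathlib
import Cfsg.Agent.Lib.TwoPrimesAlt

set_option autoImplicit false

namespace CfsgLib.TwoPrimesAlt

open Equiv Finset

variable {α : Type*} [Fintype α] [DecidableEq α]

/-- Commuting with an element normalising a cyclic group. -/
theorem comm_commutator {M : Type*} [Group M] {y₁ y₂ z : M} {i j : ℤ} (h₁ : y₁ * z * y₁⁻¹ = z ^ i)
    (h₂ : y₂ * z * y₂⁻¹ = z ^ j) : ((y₂ * y₁)⁻¹ * (y₁ * y₂)) * z = z * ((y₂ * y₁)⁻¹ * (y₁ * y₂)) := by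
  have h : (y₁ * y₂) * z * (y₁ * y₂)⁻¹ = (y₂ * y₁) * z * (y₂ * y₁)⁻¹ := by
    calc (y₁ * y₂) * z * (y₁ * y₂)⁻¹ = y₁ * (y₂ * z * y₂⁻¹) * y₁⁻¹ := by group
      _ = z ^ (i * j) := by rw [h₂, ← conj_zpow, h₁, ← zpow_mul]
      _ = z ^ (j * i) := by rw [mul_comm]
      _ = y₂ * (y₁ * z * y₁⁻¹) * y₂⁻¹ := by rw [h₁, ← conj_zpow, h₂, ← zpow_mul]
      _ = _ := by group
  calc ((y₂ * y₁)⁻¹ * (y₁ * y₂)) * z = (y₂ * y₁)⁻¹ * ((y₁ * y₂) * z * (y₁ * y₂)⁻¹) * (y₁ * y₂) := by group
    _ = z * ((y₂ * y₁)⁻¹ * (y₁ * y₂)) := by rw [h]; group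

/-- A nontrivial power of an element of prime order moves the points that the element moves. -/
theorem free_pow {z : Perm α} {p : ℕ} (hp : p.Prime) (hz : orderOf z = p) {t : α} (ht : z t ≠ t) {i j : ℕ}
    (hi : i < p) (hj : j < p) (h : (z ^ i) t = (z ^ j) t) : i = j := by
  have := Fact.mk hp
  suffices key : ∀ a b : ℕ, a < b → b < p → (z ^ a) t ≠ (z ^ b) t by
    rcases lt_trichotomy i j with h' | h' | h'
    · exact absurd h (key i j h' hj)
    · exact h'
    · exact absurd h.symm (key j i h' hi)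
  intro a b hab hb hcontra
  obtain ⟨k, rfl⟩ := Nat.exists_eq_add_of_le hab.le
  rw [pow_add, Perm.mul_apply] at hcontra
  have h1 : (z ^ k) t = t := ((z ^ a).injective hcontra).symm
  have hk : ¬ p ∣ k := fun hd => by have := Nat.le_of_dvd (by omega) hd; omega
  obtain ⟨c, hc⟩ := exists_pow_eq_self_of_coprime (x := z) (n := k) (by
    rw [hz]; exact (hp.coprime_iff_not_dvd.mpr hk).symm)
  have := Perm.pow_apply_eq_self_of_apply_eq_self h1 c
  rw [hc] at this
  exact ht this

/-- The degree 13 case. -/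
theorem degree13 (G : Subgroup (Perm α)) (hα : Fintype.card α = 13) (hG : G ≤ alternatingGroup α)
    (hprim : MulAction.IsPreprimitive G α) {x : Perm α} (hx : x ∈ G) (hxo : orderOf x = 11)
    (hxc : x.IsCycle) : alternatingGroup α ≤ G := by
  classical
  have : Fact (Nat.Prime 11) := ⟨by norm_num⟩
  have : Fact (Nat.Prime 5) := ⟨by norm_num⟩
  have hxs : x.support.card = 11 := by rw [← hxc.orderOf]; exact hxo
  have h3 := three_trans G (by norm_num : Nat.Prime 11) (by norm_num) hα hprim hx hxc hxs
  obtain ⟨a, b, hab, habc⟩ := Finset.card_eq_two.mp (show (x.supportᶜ).card = 2 by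
    rw [Finset.card_compl, hxs, hα])
  obtain ⟨hGc, hac, htra⟩ := card_three_trans G h3 hab (by omega)
  set F := fixS G {b, a} with hF
  have hFs : ∀ g ∈ F, g.support ⊆ x.support := fun g hg t ht => by
    by_contra h
    have h1 : t ∈ ({a, b} : Finset α) := habc ▸ Finset.mem_compl.mpr h
    exact Perm.mem_support.mp ht ((mem_fixS.mp hg).2 t (by simpa [or_comm] using h1))
  have hxF : x ∈ F := mem_fixS.mpr ⟨hx, fun t ht => Perm.notMem_support.mp (Finset.mem_compl.mp
    (habc ▸ (by simpa [or_comm] using ht : t ∈ ({a, b} : Finset α))))⟩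
  set xF : F := ⟨x, hxF⟩ with hxFdef
  have hxFo : orderOf xF = 11 := by rw [← Subgroup.orderOf_coe]; exact hxo
  -- the centraliser of `x` in `F`
  obtain ⟨c₀, hc₀⟩ : ∃ c₀, c₀ ∈ x.support := Finset.card_pos.mp (by omega)
  have hcent : ∀ w : F, Commute (w : Perm α) x → w ∈ Subgroup.zpowers xF := by
    intro w hw
    have hw1 : (w : Perm α) c₀ ∈ x.support := by
      rw [Perm.mem_support]
      intro h
      rw [← Perm.mul_apply, ← hw.eq, Perm.mul_apply] at h
      exact Perm.mem_support.mp hc₀ ((w : Perm α).injective h)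
    obtain ⟨i, hi⟩ := hxc.sameCycle (Perm.mem_support.mp hc₀) (Perm.mem_support.mp hw1)
    refine Subgroup.mem_zpowers_iff.mpr ⟨i, Subtype.ext (Equiv.ext fun t => ?_)⟩
    rw [Subgroup.coe_zpow]
    show (x ^ i) t = (w : Perm α) t
    by_cases ht : t ∈ x.support
    · obtain ⟨l, rfl⟩ := hxc.sameCycle (Perm.mem_support.mp hc₀) (Perm.mem_support.mp ht)
      rw [← Perm.mul_apply (w : Perm α), (hw.zpow_right l).eq, Perm.mul_apply, ← hi, ← Perm.mul_apply,
        ← Perm.mul_apply, ← zpow_add, ← zpow_add, add_comm]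
    · rw [Perm.zpow_apply_eq_self_of_apply_eq_self (Perm.notMem_support.mp ht),
        Perm.notMem_support.mp (fun h => ht (hFs _ w.2 h))]
  have hF11 : ¬ 11 ^ 2 ∣ Nat.card F := fun h => by
    have h1 := h.trans (Subgroup.card_subgroup_dvd_card F)
    rw [Nat.card_perm, Nat.card_eq_fintype_card, hα] at h1
    exact absurd h1 (by norm_num [Nat.factorial])
  -- an element of order five normalising the cycle
  obtain ⟨z, hzG, hzo, hza, hzb⟩ : ∃ z ∈ G, orderOf z = 5 ∧ z a = a ∧ z b = b := by
    by_contra hno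
    push Not at hno
    set Nn := Subgroup.normalizer ((Subgroup.zpowers xF : Subgroup F) : Set F) with hNn
    have hN5 : ¬ 5 ∣ Nat.card Nn := fun h => by
      obtain ⟨z, hz⟩ := exists_prime_orderOf_dvd_card' (G := Nn) 5 h
      obtain ⟨hz1, hz2⟩ := mem_fixS.mp ((z : F)).2
      exact hno ((z : F) : Perm α) hz1 (by rw [Subgroup.orderOf_coe, Subgroup.orderOf_coe, hz])
        (hz2 a (by simp)) (hz2 b (by simp))
    set Z := Subgroup.zpowers xF
    have hZc : Nat.card Z = 11 := by rw [Nat.card_zpowers, hxFo]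
    have hcent' : ∀ w : F, w ∈ Subgroup.centralizer (Z : Set F) → w ∈ Z := fun w hw =>
      hcent w (congrArg Subtype.val (Subgroup.mem_centralizer_iff.mp hw xF (Subgroup.mem_zpowers _))).symm
    -- the normaliser is the centraliser
    have hker : Nat.card (Subgroup.normalizerMonoidHom Z).ker = 11 := by
      rw [Subgroup.normalizerMonoidHom_ker, ← hZc]
      refine Nat.card_congr ((Subgroup.subgroupOfEquivOfLe ?_).toEquiv.trans ?_)
      · exact Subgroup.centralizer_le_normalizer _
      · exact Equiv.subtypeEquivRight fun w => ⟨hcent' w, fun h => Subgroup.mem_centralizer_iff.mpr fun v hv => by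
          obtain ⟨i, rfl⟩ := Subgroup.mem_zpowers_iff.mp hv
          obtain ⟨j, rfl⟩ := Subgroup.mem_zpowers_iff.mp h
          exact ((Commute.refl xF).zpow_zpow i j).eq⟩
    have hrange : Nat.card (Subgroup.normalizerMonoidHom Z).range ∣ 2 := by
      have h1 : Nat.card (Subgroup.normalizerMonoidHom Z).range ∣ 10 := by
        refine (Subgroup.card_subgroup_dvd_card _).trans (dvd_of_eq ?_)
        have := isCyclic_of_prime_card (p := 11) hZc
        rw [IsCyclic.card_mulAut, hZc, Nat.totient_prime (by norm_num)]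
      have h2 : ¬ 5 ∣ Nat.card (Subgroup.normalizerMonoidHom Z).range := fun h =>
        hN5 (h.trans (Subgroup.card_range_dvd _))
      exact (((by norm_num : Nat.Prime 5).coprime_iff_not_dvd.mpr h2).symm).dvd_of_dvd_mul_left (by simpa using h1)
    have hNle : Nn ≤ Subgroup.centralizer (Z : Set F) := by
      intro u hu
      by_contra hucent
      have hNc : Nat.card Nn = 11 * Nat.card (Subgroup.normalizerMonoidHom Z).range := by
        rw [← Subgroup.index_ker, ← hker, Subgroup.card_mul_index]
      rcases (Nat.dvd_prime Nat.prime_two).mp hrange with h1 | h2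
      · apply hucent
        have hb1 := (Subgroup.normalizerMonoidHom Z).range.eq_bot_of_card_eq h1
        have := (MonoidHom.range_eq_bot_iff.mp hb1)
        have h4 : (⟨u, hu⟩ : Nn) ∈ (Subgroup.normalizerMonoidHom Z).ker := by rw [MonoidHom.mem_ker, this]; rfl
        rw [Subgroup.normalizerMonoidHom_ker, Subgroup.mem_subgroupOf] at h4
        exact h4
      · obtain ⟨v, hv⟩ := exists_prime_orderOf_dvd_card' (G := Nn) 2 (by rw [hNc, h2]; norm_num)
        set vp : Perm α := ((v : F) : Perm α) with hvp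
        have hvo : orderOf vp = 2 := by rw [hvp, Subgroup.orderOf_coe, Subgroup.orderOf_coe, hv]
        obtain ⟨n, hn, -, hsgn⟩ := supp_info vp Nat.prime_two hvo
        have heven := hsgn.mp (Perm.mem_alternatingGroup.mp (hG (mem_fixS.mp (v : F).2).1))
        have hnc : ¬ Commute vp x := fun h => by
          have h5 : 2 ∣ Nat.card Z := by
            rw [← hv, ← Subgroup.orderOf_coe, ← Subgroup.orderOf_mk (a := (v : F)) (hcent _ h)]
            exact orderOf_dvd_natCard _
          rw [hZc] at h5
          norm_num at h5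
        obtain ⟨j, hj⟩ : ∃ j : ℤ, vp * x * vp⁻¹ = x ^ j := by
          have h6 := (Subgroup.mem_normalizer_iff.mp v.2 xF).mp (Subgroup.mem_zpowers _)
          obtain ⟨j, hj⟩ := Subgroup.mem_zpowers_iff.mp h6
          exact ⟨j, by have := congrArg Subtype.val hj.symm; simpa using this⟩
        have hone : (x.support \ vp.support).card ≤ 1 := by
          refine Finset.card_le_one.mpr fun c hc d hd => ?_
          obtain ⟨hc1, hc2⟩ := Finset.mem_sdiff.mp hc
          obtain ⟨hd1, hd2⟩ := Finset.mem_sdiff.mp hd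
          rw [Perm.notMem_support] at hc2 hd2
          obtain ⟨k, rfl⟩ := hxc.sameCycle (Perm.mem_support.mp hc1) (Perm.mem_support.mp hd1)
          by_contra hne
          have hconj : vp * x ^ k * vp⁻¹ = x ^ (j * k) := by rw [← conj_zpow, hj, ← zpow_mul]
          have h7 : (x ^ (j * k)) c = (x ^ k) c := by
            rw [← hconj, Perm.mul_apply, Perm.mul_apply, Perm.inv_eq_iff_eq.mpr hc2.symm, hd2]
          have h8 : x ^ (j * k) = x ^ k := by
            refine Equiv.ext fun t => ?_
            by_cases ht : t ∈ x.support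
            · obtain ⟨l, rfl⟩ := hxc.sameCycle (Perm.mem_support.mp hc1) (Perm.mem_support.mp ht)
              rw [← Perm.mul_apply, ← Perm.mul_apply, ← zpow_add, ← zpow_add, add_comm (j * k), add_comm k, zpow_add,
                zpow_add, Perm.mul_apply, Perm.mul_apply, h7]
            · rw [Perm.zpow_apply_eq_self_of_apply_eq_self (Perm.notMem_support.mp ht),
                Perm.zpow_apply_eq_self_of_apply_eq_self (Perm.notMem_support.mp ht)]
          have hk : ¬ (11 : ℤ) ∣ k := fun ⟨m, hm⟩ => hne (by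
            rw [hm, zpow_mul, show (11 : ℤ) = ((11 : ℕ) : ℤ) by norm_num, zpow_natCast,
              orderOf_dvd_iff_pow_eq_one.mp hxo.dvd, one_zpow, Perm.one_apply])
          have hck : Commute vp (x ^ k) := by
            exact mul_inv_eq_iff_eq_mul.mp (hconj.trans h8)
          obtain ⟨u, w, huw⟩ : IsCoprime k (11 : ℤ) :=
            ((Nat.prime_iff_prime_int.mp (by norm_num : Nat.Prime 11)).coprime_iff_not_dvd.mpr hk).symm
          apply hnc
          have h9 : x = (x ^ k) ^ u := by
            rw [← zpow_mul]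
            conv_lhs => rw [← zpow_one x, ← huw]
            rw [zpow_add, mul_comm w, zpow_mul x 11, show (11 : ℤ) = ((11 : ℕ) : ℤ) by norm_num, zpow_natCast,
              orderOf_dvd_iff_pow_eq_one.mp hxo.dvd, one_zpow, mul_one, mul_comm u]
          rw [h9]
          exact hck.zpow_right u
        have hsub : vp.support.card ≤ 11 := hxs ▸ Finset.card_le_card (hFs _ (v : F).2)
        rw [Finset.card_sdiff_of_subset (hFs _ (v : F).2), hxs, ← hvp] at hone
        obtain ⟨m, hm⟩ := heven
        omega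
    -- so the cycle group is everything
    have hZS : ¬ 11 ∣ Z.index := fun h => hF11 (by
      rw [← Z.card_mul_index, hZc, pow_two]; exact Nat.mul_dvd_mul_left 11 h)
    let S : Sylow 11 F := (IsPGroup.of_card (n := 1) (by rw [hZc, pow_one])).toSylow hZS
    have hcomp := MonoidHom.ker_transferSylow_isComplement' S hNle
    have hK11 := MonoidHom.not_dvd_card_ker_transferSylow S hNle
    set K := (MonoidHom.transferSylow S hNle).ker
    have hKbot : K = ⊥ := by
      let Ω := {t : α // t ∈ x.support}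
      have hmaps : ∀ (g : F) (t : α), t ∈ x.support → (g : Perm α) t ∈ x.support := fun g t ht => by
        by_cases h : t ∈ (g : Perm α).support
        · exact hFs _ g.2 (Perm.apply_mem_support.mpr h)
        · rwa [Perm.notMem_support.mp h]
      letI : MulAction F Ω :=
        { smul := fun g t => ⟨(g : Perm α) t.1, hmaps g t.1 t.2⟩
          one_smul := fun t => Subtype.ext rfl
          mul_smul := fun g h t => Subtype.ext rfl }
      have htrans : MulAction.IsPretransitive F Ω := ⟨fun c d => by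
        obtain ⟨i, hi⟩ := hxc.sameCycle (Perm.mem_support.mp c.2) (Perm.mem_support.mp d.2)
        exact ⟨xF ^ i, Subtype.ext (show ((xF ^ i : F) : Perm α) c.1 = d.1 by rw [Subgroup.coe_zpow]; exact hi)⟩⟩
      have hΩc : Nat.card Ω = 11 := by rw [← hxs, ← Nat.card_eq_finsetCard]
      have hpr : MulAction.IsPreprimitive F Ω := MulAction.IsPreprimitive.of_prime_card (by rw [hΩc]; norm_num)
      by_contra hK
      have hfix : MulAction.fixedPoints K Ω ≠ Set.univ := by
        intro h
        refine hK (Subgroup.eq_bot_iff_forall _ |>.mpr fun g hg => Subtype.ext (Equiv.ext fun t => ?_))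
        by_cases ht : t ∈ x.support
        · exact congrArg Subtype.val ((h.ge (Set.mem_univ (⟨t, ht⟩ : Ω))) ⟨g, hg⟩)
        · exact Perm.notMem_support.mp fun h' => ht (hFs _ g.2 h')
      have := MulAction.IsQuasiPreprimitive.isPretransitive_of_normal (G := F) (X := Ω) (N := K) hfix
      apply hK11
      have e := Nat.card_congr (MulAction.orbitEquivQuotientStabilizer K (⟨c₀, hc₀⟩ : Ω))
      rw [MulAction.orbit_eq_univ, Nat.card_univ, hΩc] at e
      rw [e]
      exact Subgroup.index_dvd_card _
    have hFc : Nat.card F = 11 := by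
      rw [← hcomp.card_mul_card, hKbot, Subgroup.card_bot, one_mul]
      exact hZc
    rw [hFc, hα] at hac
    exact no_sharp (fixS G {a}) (Finset.univ.erase a) (p := 11) (r₁ := 2) (r₂ := 3) (by norm_num) (by norm_num)
      (by norm_num) (by norm_num) (by norm_num) (by norm_num) (by simp [hα]) hac
      (fun g hg t ht => (mem_fixS.mp hg).2 t (by simpa using ht)) htra
      (mem_fixS.mpr ⟨hx, fun t ht => (mem_fixS.mp hxF).2 t (by simp_all)⟩) hxo hxs
  -- the element of order five
  obtain ⟨n, hn, hnc, -⟩ := supp_info z (by norm_num : Nat.Prime 5) hzo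
  have hzle : z.support.card ≤ 11 := by
    have h1 : z.support ⊆ (({a, b} : Finset α))ᶜ := fun t ht => by
      rw [Finset.mem_compl, Finset.mem_insert, Finset.mem_singleton]
      rintro (rfl | rfl)
      · exact Perm.mem_support.mp ht hza
      · exact Perm.mem_support.mp ht hzb
    refine (Finset.card_le_card h1).trans ?_
    rw [Finset.card_compl, hα, Finset.card_pair hab]
  by_cases hn0 : n = 0
  · exact Cfsg.Agent.S0713.result G hprim (p := 5) (by norm_num) (by omega) (by omega) (hnc hn0) (by rw [hn, hn0]) hzG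
  have hn1 : n = 1 := by omega
  subst hn1
  set U := z.supportᶜ with hU
  have hUc : U.card = 3 := by rw [hU, Finset.card_compl, hn, hα]
  obtain ⟨u₁, u₂, u₃, h12, h13, h23, hUeq⟩ := Finset.card_eq_three.mp hUc
  set K := fixS G U with hK
  have hzK : z ∈ K := mem_fixS.mpr ⟨hzG, fun t ht => Perm.notMem_support.mp (Finset.mem_compl.mp ht)⟩
  set zK : K := ⟨z, hzK⟩
  have hzKo : orderOf zK = 5 := by rw [← Subgroup.orderOf_coe]; exact hzo
  obtain ⟨t₀, ht₀⟩ : ∃ t₀, t₀ ∈ z.support := Finset.card_pos.mp (by omega)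
  have horb5 : ∀ t, z t ≠ t → ((Finset.range 5).image fun i => (z ^ i) t).card = 5 := fun t ht => by
    rw [Finset.card_image_of_injOn, Finset.card_range]
    intro i hi j hj h
    exact free_pow (by norm_num : Nat.Prime 5) hzo ht (Finset.mem_range.mp hi) (Finset.mem_range.mp hj) h
  by_cases h25 : 5 ^ 2 ∣ Nat.card K
  · -- a five-cycle
    obtain ⟨P, hPc, hzP⟩ := Sylow.exists_subgroup_card_pow_prime_le 5 h25 (Subgroup.zpowers zK)
      (show Nat.card (Subgroup.zpowers zK) = 5 ^ 1 by rw [Nat.card_zpowers, hzKo, pow_one]) one_le_two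
    have hcommP : IsMulCommutative P := IsPGroup.isMulCommutative_of_card_eq_prime_sq hPc
    have horb : Nat.card (MulAction.orbit P t₀) ≤ 5 := by
      obtain ⟨k, hk⟩ := (IsPGroup.of_card hPc).card_orbit t₀
      have h1 : Nat.card (MulAction.orbit P t₀) ≤ 13 := by
        rw [Nat.card_coe_set_eq]; exact (Set.ncard_le_card _).trans (by rw [Nat.card_eq_fintype_card, hα])
      rw [hk] at h1 ⊢
      rcases k with _ | _ | k
      · norm_num
      · norm_num
      · have := Nat.pow_le_pow_right (show 0 < 5 by norm_num) (show 2 ≤ k + 1 + 1 by omega)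
        omega
    have hstab : 1 < Nat.card (MulAction.stabilizer P t₀) := by
      have h1 := (MulAction.stabilizer P t₀).card_mul_index
      rw [Subgroup.index, ← Nat.card_congr (MulAction.orbitEquivQuotientStabilizer P t₀), hPc] at h1
      by_contra h
      have := Nat.mul_le_mul (not_lt.mp h) horb
      omega
    have : Nontrivial (MulAction.stabilizer P t₀) := Finite.one_lt_card_iff_nontrivial.mp hstab
    obtain ⟨⟨v, hvt⟩, hv1⟩ := exists_ne (1 : MulAction.stabilizer P t₀)
    set vp : Perm α := (((v : P) : K) : Perm α) with hvp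
    have hv1' : vp ≠ 1 := fun h => hv1 (Subtype.ext (Subtype.ext (Subtype.ext h)))
    have hvo : orderOf vp = 5 := by
      have h1 : orderOf vp ∣ 5 ^ 2 := by
        rw [hvp, Subgroup.orderOf_coe, Subgroup.orderOf_coe, ← hPc]; exact orderOf_dvd_natCard _
      obtain ⟨k, hk, hk'⟩ := (Nat.dvd_prime_pow (by norm_num : Nat.Prime 5)).mp h1
      interval_cases k
      · exact absurd (orderOf_eq_one_iff.mp hk') hv1'
      · simpa using hk'
      · exfalso
        have h2 : Subgroup.zpowers v = ⊤ := Subgroup.eq_top_of_card_eq _ (by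
          rw [Nat.card_zpowers, hPc, ← Subgroup.orderOf_coe, ← Subgroup.orderOf_coe, ← hvp, hk'])
        obtain ⟨i, hi⟩ := Subgroup.mem_zpowers_iff.mp (h2.ge (Subgroup.mem_top (⟨zK, hzP (Subgroup.mem_zpowers _)⟩ : P)))
        have h3 : vp ^ i = z := by
          have := congrArg (fun g : P => ((g : K) : Perm α)) hi
          simpa using this
        have hvfix : vp t₀ = t₀ := hvt
        exact Perm.mem_support.mp ht₀ (h3 ▸ Perm.zpow_apply_eq_self_of_apply_eq_self hvfix i)
    have hcz : Commute vp z :=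
      congrArg (fun g : P => ((g : K) : Perm α)) (mul_comm' v ⟨zK, hzP (Subgroup.mem_zpowers _)⟩)
    have hfix5 : Disjoint vp.support (U ∪ (Finset.range 5).image fun i => (z ^ i) t₀) := by
      rw [Finset.disjoint_left]
      intro t ht htU
      rcases Finset.mem_union.mp htU with h | h
      · exact Perm.mem_support.mp ht ((mem_fixS.mp ((v : P) : K).2).2 t h)
      · obtain ⟨i, -, rfl⟩ := Finset.mem_image.mp h
        refine Perm.mem_support.mp ht ?_
        rw [← Perm.mul_apply, (hcz.pow_right i).eq, Perm.mul_apply, show vp t₀ = t₀ from hvt]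
    have hd2 : Disjoint U ((Finset.range 5).image fun i => (z ^ i) t₀) := by
      rw [Finset.disjoint_left]
      intro t ht h
      obtain ⟨i, -, rfl⟩ := Finset.mem_image.mp h
      exact (Finset.mem_compl.mp ht) (Perm.pow_apply_mem_support.mpr ht₀)
    have hle := (vp.support ∪ (U ∪ (Finset.range 5).image fun i => (z ^ i) t₀)).card_le_univ
    rw [Finset.card_union_of_disjoint hfix5, Finset.card_union_of_disjoint hd2, hUc,
      horb5 t₀ (Perm.mem_support.mp ht₀), hα] at hle
    obtain ⟨k, hk, hkc, -⟩ := supp_info vp (by norm_num : Nat.Prime 5) hvo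
    have hk0 : k = 0 := by omega
    exact Cfsg.Agent.S0713.result G hprim (p := 5) (by norm_num) (by omega) (by omega) (hkc hk0) (by rw [hk, hk0])
      (mem_fixS.mp ((v : P) : K).2).1
  · -- a three-cycle
    have hidx : ¬ 5 ∣ (Subgroup.zpowers zK).index := fun h => h25 (by
      rw [← (Subgroup.zpowers zK).card_mul_index, Nat.card_zpowers, hzKo, pow_two]
      exact Nat.mul_dvd_mul_left 5 h)
    let P : Sylow 5 K := (IsPGroup.of_card (n := 1) (by rw [Nat.card_zpowers, hzKo, pow_one])).toSylow hidx
    have hreal : ∀ f f' : Fin 3 ↪ α, (∀ i, f i ∈ U) → (∀ i, f' i ∈ U) → (∀ t ∈ U, ∃ i, f i = t) →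
        ∃ y ∈ G, (∀ i, y (f i) = f' i) ∧ ∃ j : ℤ, y * z * y⁻¹ = z ^ j := by
      intro f f' hf hf' hsurj
      obtain ⟨g, hg, hgf⟩ := h3 f f'
      have hmap : ∀ t ∈ U, g t ∈ U := fun t ht => by
        obtain ⟨i, rfl⟩ := hsurj t ht
        rw [hgf i]; exact hf' i
      have himg : U.image g = U := Finset.eq_of_subset_of_card_le
        (fun t ht => by obtain ⟨s, hs, rfl⟩ := Finset.mem_image.mp ht; exact hmap s hs)
        (by rw [Finset.card_image_of_injective _ g.injective])
      have hconj : g * z * g⁻¹ ∈ K := mem_fixS.mpr ⟨G.mul_mem (G.mul_mem hg hzG) (G.inv_mem hg), fun t ht => by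
        rw [← himg] at ht
        obtain ⟨s, hs, rfl⟩ := Finset.mem_image.mp ht
        rw [Perm.mul_apply, Perm.mul_apply, Perm.inv_eq_iff_eq.mpr rfl, (mem_fixS.mp hzK).2 s hs]⟩
      set cK : K := ⟨g * z * g⁻¹, hconj⟩
      have hco : orderOf cK = 5 := by
        rw [← Subgroup.orderOf_coe]
        show orderOf (g * z * g⁻¹) = 5
        rw [← MulAut.conj_apply, MulEquiv.orderOf_eq, hzo]
      obtain ⟨Q, hQ⟩ := (IsPGroup.of_card (p := 5) (n := 1) (G := Subgroup.zpowers cK)
        (by rw [Nat.card_zpowers, hco, pow_one])).exists_le_sylow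
      obtain ⟨h, hh⟩ := MulAction.exists_smul_eq K Q P
      have hmem : h * cK * h⁻¹ ∈ Subgroup.zpowers zK := by
        have h1 : h * cK * h⁻¹ ∈ ((h • Q : Sylow 5 K) : Subgroup K) := ⟨cK, hQ (Subgroup.mem_zpowers cK), by simp⟩
        rw [hh] at h1
        exact h1
      obtain ⟨j, hj⟩ := Subgroup.mem_zpowers_iff.mp hmem
      refine ⟨(h : Perm α) * g, G.mul_mem (mem_fixS.mp h.2).1 hg, fun i => ?_, j, ?_⟩
      · rw [Perm.mul_apply, hgf i, (mem_fixS.mp h.2).2 _ (hf' i)]
      · have := congrArg Subtype.val hj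
        simp only [Subgroup.coe_zpow, Subgroup.coe_mul, Subgroup.coe_inv, zK, cK] at this
        rw [this]; group
    have hm1 : u₁ ∈ U := by simp [hUeq]
    have hm2 : u₂ ∈ U := by simp [hUeq]
    have hm3 : u₃ ∈ U := by simp [hUeq]
    have hsurj : ∀ t ∈ U, ∃ i, emb3 h12 h13 h23 i = t := fun t ht => by
      rw [hUeq] at ht
      simp only [Finset.mem_insert, Finset.mem_singleton] at ht
      rcases ht with rfl | rfl | rfl
      · exact ⟨0, rfl⟩
      · exact ⟨1, rfl⟩
      · exact ⟨2, rfl⟩
    obtain ⟨y₁, hy₁, hy₁f, i, hi⟩ := hreal (emb3 h12 h13 h23) (emb3 h12.symm h23 h13)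
      (fun i => by fin_cases i <;> assumption) (fun i => by fin_cases i <;> assumption) hsurj
    obtain ⟨y₂, hy₂, hy₂f, j, hj⟩ := hreal (emb3 h12 h13 h23) (emb3 h13 h12 h23.symm)
      (fun i => by fin_cases i <;> assumption) (fun i => by fin_cases i <;> assumption) hsurj
    have a1 : y₁ u₁ = u₂ := hy₁f 0
    have a2 : y₁ u₂ = u₁ := hy₁f 1
    have a3 : y₁ u₃ = u₃ := hy₁f 2
    have b1 : y₂ u₁ = u₁ := hy₂f 0
    have b2 : y₂ u₂ = u₃ := hy₂f 1
    have b3 : y₂ u₃ = u₂ := hy₂f 2
    set w := (y₂ * y₁)⁻¹ * (y₁ * y₂) with hw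
    have hwz : Commute w z := comm_commutator hi hj
    have hwG : w ∈ G := G.mul_mem (G.inv_mem (G.mul_mem hy₂ hy₁)) (G.mul_mem hy₁ hy₂)
    have w1 : w u₁ = u₃ := by
      rw [hw, Perm.mul_apply, Perm.inv_eq_iff_eq]; simp [Perm.mul_apply, a1, a2, a3, b1, b2, b3]
    have w2 : w u₂ = u₁ := by
      rw [hw, Perm.mul_apply, Perm.inv_eq_iff_eq]; simp [Perm.mul_apply, a1, a2, a3, b1, b2, b3]
    have w3 : w u₃ = u₂ := by
      rw [hw, Perm.mul_apply, Perm.inv_eq_iff_eq]; simp [Perm.mul_apply, a1, a2, a3, b1, b2, b3]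
    have hwU : ∀ t ∈ U, w t ∈ U := fun t ht => by
      rw [hUeq] at ht
      simp only [Finset.mem_insert, Finset.mem_singleton] at ht
      rcases ht with rfl | rfl | rfl
      · rw [w1]; exact hm3
      · rw [w2]; exact hm1
      · rw [w3]; exact hm2
    have hwS : ∀ t, t ∈ z.support → w t ∈ z.support := fun t ht => by
      rw [Perm.mem_support]
      intro h
      rw [← Perm.mul_apply, ← hwz.eq, Perm.mul_apply] at h
      exact Perm.mem_support.mp ht (w.injective h)
    set O : α → Finset α := fun t => (Finset.range 5).image fun i => (z ^ i) t with hO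
    have hsame : ∀ t s, t ∈ z.support → (¬ Disjoint (O t) (O s)) → ∃ k : ℤ, (z ^ k) t = s := by
      intro t s _ h
      obtain ⟨r, hr1, hr2⟩ := Finset.not_disjoint_iff.mp h
      obtain ⟨i, -, rfl⟩ := Finset.mem_image.mp hr1
      obtain ⟨l, -, hl⟩ := Finset.mem_image.mp hr2
      refine ⟨(i : ℤ) - l, ?_⟩
      rw [sub_eq_neg_add, zpow_add, Perm.mul_apply, zpow_natCast, ← hl, zpow_neg, zpow_natCast]
      exact Equiv.symm_apply_apply _ _
    have hsq : ∀ t, t ∈ z.support → ∃ k : ℤ, (z ^ k) t = w (w t) := by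
      intro t ht
      by_contra hno
      push Not at hno
      have d1 : ∀ k : ℤ, (z ^ k) t ≠ w t := fun k hk => by
        apply hno (k + k)
        rw [zpow_add, Perm.mul_apply, hk, ← Perm.mul_apply, ← (hwz.zpow_right k).eq, Perm.mul_apply, hk]
      have d2 : ∀ k : ℤ, (z ^ k) (w t) ≠ w (w t) := fun k hk => by
        apply d1 k
        apply w.injective
        rw [← hk, ← Perm.mul_apply, (hwz.zpow_right k).eq, Perm.mul_apply]
      have e1 : Disjoint (O t) (O (w t)) := by
        by_contra h; obtain ⟨k, hk⟩ := hsame _ _ ht h; exact d1 k hk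
      have e2 : Disjoint (O (w t)) (O (w (w t))) := by
        by_contra h; obtain ⟨k, hk⟩ := hsame _ _ (hwS t ht) h; exact d2 k hk
      have e3 : Disjoint (O t) (O (w (w t))) := by
        by_contra h; obtain ⟨k, hk⟩ := hsame _ _ ht h; exact hno k hk
      have hle := (O t ∪ O (w t) ∪ O (w (w t))).card_le_univ
      rw [Finset.card_union_of_disjoint (Finset.disjoint_union_left.mpr ⟨e3, e2⟩), Finset.card_union_of_disjoint e1,
        horb5 t (Perm.mem_support.mp ht), horb5 _ (Perm.mem_support.mp (hwS t ht)),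
        horb5 _ (Perm.mem_support.mp (hwS _ (hwS t ht))), hα] at hle
      omega
    set v := w ^ 10 with hv
    have hvS : ∀ t, t ∈ z.support → v t = t := by
      intro t ht
      obtain ⟨k, hk⟩ := hsq t ht
      have h1 : ∀ n : ℕ, ((w ^ 2) ^ n) t = ((z ^ k) ^ n) t := by
        intro n
        induction n with
        | zero => rfl
        | succ n ih =>
          rw [pow_succ, Perm.mul_apply, pow_two, Perm.mul_apply, ← hk, ← Perm.mul_apply, ← pow_two,
            (((hwz.zpow_right k).pow_left 2).pow_left n).eq, Perm.mul_apply, ih, ← Perm.mul_apply, ← pow_succ']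
      rw [hv, show (10 : ℕ) = 2 * 5 from rfl, pow_mul, h1 5, ← zpow_natCast (z ^ k), ← zpow_mul, mul_comm, zpow_mul,
        zpow_natCast, orderOf_dvd_iff_pow_eq_one.mp hzo.dvd, one_zpow, Perm.one_apply]
    have hvU : ∀ t ∈ U, v t = w t := fun t ht => by
      have h9 : ∀ s ∈ U, (w ^ 3) s = s := fun s hs => by
        rw [hUeq] at hs
        simp only [Finset.mem_insert, Finset.mem_singleton] at hs
        rcases hs with rfl | rfl | rfl <;> simp [pow_succ, Perm.mul_apply, w1, w2, w3]
      rw [hv, show (10 : ℕ) = 3 * 3 + 1 from rfl, pow_succ, Perm.mul_apply, pow_mul,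
        Perm.pow_apply_eq_self_of_apply_eq_self (h9 _ (hwU t ht))]
    have hvsupp : v.support = U := by
      ext t
      rw [Perm.mem_support]
      constructor
      · intro h
        rw [hU, Finset.mem_compl]
        exact fun ht => h (hvS t ht)
      · intro ht
        rw [hvU t ht]
        rw [hUeq] at ht
        simp only [Finset.mem_insert, Finset.mem_singleton] at ht
        rcases ht with rfl | rfl | rfl
        · rw [w1]; exact h13.symm
        · rw [w2]; exact h12
        · rw [w3]; exact h23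
    exact Perm.alternatingGroup_le_of_isPreprimitive_of_isThreeCycle_mem hprim
      (card_support_eq_three_iff.mp (by rw [hvsupp, hUc])) (G.pow_mem hwG 10)

end CfsgLib.TwoPrimesAlt
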