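/-!
Tables for the double cover of the symmetric group of degree five inside the four-dimensional
linear group over the field with seven elements.
-/

set_option autoImplicit false

namespace CfsgLib.TwoS5

/-- Rows of four entries. -/
abbrev Row : Type := Nat × Nat × Nat × Nat

/-- Four rows. -/
abbrev Mat : Type := Row × Row × Row × Row

def genG : Mat := ((0, 0, 2, 3), (0, 0, 3, 5), (2, 3, 3, 1), (3, 5, 1, 4))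

def genH : Mat := ((0, 6, 0, 2), (1, 0, 5, 0), (3, 0, 1, 1), (0, 3, 6, 1))

def els : List Mat := [
  ((1, 0, 0, 0), (0, 1, 0, 0), (0, 0, 1, 0), (0, 0, 0, 1)),
  ((0, 0, 2, 3), (0, 0, 3, 5), (2, 3, 3, 1), (3, 5, 1, 4)),
  ((0, 6, 0, 2), (1, 0, 5, 0), (3, 0, 1, 1), (0, 3, 6, 1)),
  ((6, 0, 2, 0), (0, 6, 0, 2), (2, 0, 2, 0), (0, 2, 0, 2)),
  ((6, 2, 6, 5), (2, 1, 5, 1), (5, 1, 3, 1), (1, 2, 1, 4)),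
  ((6, 3, 6, 3), (3, 1, 3, 1), (5, 1, 3, 0), (1, 2, 0, 4)),
  ((6, 6, 0, 2), (1, 6, 5, 0), (3, 0, 0, 1), (0, 3, 6, 0)),
  ((4, 6, 4, 6), (6, 3, 6, 3), (4, 6, 3, 1), (6, 3, 1, 4)),
  ((6, 1, 2, 0), (6, 6, 0, 2), (6, 5, 2, 6), (2, 6, 1, 2)),
  ((6, 1, 6, 5), (6, 6, 2, 6), (2, 0, 2, 6), (0, 2, 1, 2)),
  ((6, 2, 4, 2), (2, 1, 2, 3), (3, 5, 0, 0), (5, 4, 0, 0)),
  ((0, 5, 0, 2), (2, 0, 5, 0), (6, 2, 1, 2), (5, 6, 5, 1)),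
  ((0, 3, 4, 0), (3, 0, 0, 3), (3, 2, 1, 6), (2, 4, 6, 6)),
  ((6, 3, 4, 0), (3, 1, 0, 3), (3, 5, 0, 6), (5, 4, 6, 0)),
  ((6, 0, 0, 0), (0, 6, 0, 0), (0, 0, 6, 0), (0, 0, 0, 6)),
  ((5, 0, 2, 0), (0, 5, 0, 2), (2, 0, 1, 0), (0, 2, 0, 1)),
  ((4, 0, 0, 4), (0, 3, 4, 0), (1, 6, 4, 5), (6, 6, 5, 3)),
  ((4, 6, 0, 4), (6, 3, 4, 0), (1, 1, 4, 6), (1, 6, 6, 3)),
  ((0, 1, 0, 0), (6, 0, 0, 0), (4, 5, 0, 6), (2, 4, 1, 0)),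
  ((6, 1, 3, 0), (1, 1, 0, 4), (1, 1, 2, 4), (1, 6, 4, 5)),
  ((5, 2, 6, 2), (5, 5, 5, 6), (6, 2, 3, 5), (5, 6, 2, 3)),
  ((0, 1, 4, 5), (6, 0, 2, 4), (0, 0, 0, 6), (0, 0, 1, 0)),
  ((0, 0, 5, 4), (0, 0, 4, 2), (5, 4, 4, 6), (4, 2, 6, 3)),
  ((6, 3, 3, 5), (3, 1, 5, 4), (1, 6, 2, 2), (6, 6, 2, 5)),
  ((5, 6, 2, 2), (1, 5, 5, 2), (5, 0, 2, 1), (0, 5, 6, 2)),
  ((1, 5, 0, 5), (2, 1, 2, 0), (6, 5, 0, 2), (2, 6, 5, 0)),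
  ((1, 0, 5, 4), (0, 6, 4, 2), (5, 1, 5, 6), (1, 2, 6, 2)),
  ((1, 5, 5, 2), (2, 1, 5, 5), (4, 2, 6, 2), (5, 4, 5, 6)),
  ((1, 1, 5, 2), (1, 6, 2, 2), (5, 1, 5, 5), (1, 2, 5, 2)),
  ((0, 1, 0, 5), (6, 0, 2, 0), (4, 0, 6, 6), (0, 4, 1, 6)),
  ((4, 6, 2, 3), (6, 3, 3, 5), (2, 3, 0, 0), (3, 5, 0, 0)),
  ((6, 2, 2, 5), (5, 6, 2, 2), (3, 5, 1, 5), (2, 3, 2, 1)),
  ((5, 6, 5, 0), (1, 5, 0, 5), (2, 2, 2, 1), (5, 2, 6, 2)),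
  ((0, 1, 3, 5), (1, 0, 5, 4), (4, 0, 1, 4), (0, 3, 4, 6)),
  ((6, 1, 5, 5), (1, 1, 5, 2), (6, 3, 3, 5), (3, 1, 5, 4)),
  ((0, 0, 3, 5), (0, 0, 5, 4), (4, 2, 1, 5), (2, 3, 5, 6)),
  ((1, 0, 5, 0), (0, 1, 0, 5), (5, 0, 5, 0), (0, 5, 0, 5)),
  ((6, 2, 3, 5), (5, 6, 2, 3), (2, 5, 1, 5), (2, 2, 2, 1)),
  ((3, 1, 1, 1), (1, 4, 1, 6), (0, 4, 3, 1), (4, 0, 1, 4)),
  ((4, 0, 1, 4), (0, 3, 4, 6), (0, 6, 4, 2), (6, 0, 2, 3)),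
  ((6, 1, 0, 4), (6, 6, 3, 0), (4, 2, 1, 6), (5, 4, 1, 1)),
  ((2, 2, 6, 1), (2, 5, 1, 1), (4, 2, 6, 3), (2, 3, 3, 1)),
  ((6, 1, 4, 2), (6, 6, 5, 4), (0, 4, 1, 6), (3, 0, 1, 1)),
  ((1, 5, 1, 2), (5, 6, 2, 6), (2, 6, 4, 6), (6, 5, 6, 3)),
  ((0, 6, 0, 0), (1, 0, 0, 0), (3, 2, 0, 1), (5, 3, 6, 0)),
  ((5, 2, 6, 6), (2, 2, 6, 1), (5, 5, 2, 6), (5, 2, 6, 5)),
  ((3, 2, 1, 6), (2, 4, 6, 6), (0, 4, 3, 0), (4, 0, 0, 4)),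
  ((5, 1, 2, 0), (6, 5, 0, 2), (6, 5, 1, 6), (2, 6, 1, 1)),
  ((1, 4, 1, 6), (4, 6, 6, 6), (6, 3, 1, 2), (3, 1, 2, 6)),
  ((5, 0, 6, 0), (0, 5, 0, 6), (5, 0, 2, 0), (0, 5, 0, 2)),
  ((1, 0, 0, 3), (0, 1, 4, 0), (0, 3, 6, 0), (4, 0, 0, 6)),
  ((1, 4, 1, 4), (4, 6, 4, 6), (2, 6, 4, 0), (6, 5, 0, 3)),
  ((2, 4, 6, 6), (4, 5, 6, 1), (4, 0, 6, 1), (0, 3, 1, 1)),
  ((6, 5, 0, 2), (2, 6, 5, 0), (6, 2, 0, 2), (5, 6, 5, 0)),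
  ((2, 4, 1, 0), (3, 2, 0, 1), (4, 5, 5, 3), (2, 4, 4, 5)),
  ((2, 5, 1, 2), (5, 5, 2, 6), (2, 3, 5, 6), (3, 5, 6, 2)),
  ((1, 1, 0, 5), (6, 1, 2, 0), (4, 0, 0, 6), (0, 4, 1, 0)),
  ((5, 5, 1, 6), (5, 2, 6, 6), (3, 5, 1, 4), (5, 4, 4, 6)),
  ((5, 3, 1, 1), (3, 2, 1, 6), (3, 0, 1, 6), (0, 4, 6, 6)),
  ((1, 2, 0, 5), (5, 1, 2, 0), (1, 5, 0, 5), (2, 1, 2, 0)),
  ((0, 2, 0, 1), (5, 0, 6, 0), (1, 1, 4, 0), (6, 1, 0, 4)),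
  ((0, 6, 3, 0), (1, 0, 0, 3), (0, 2, 1, 1), (5, 0, 6, 1)),
  ((3, 1, 3, 1), (1, 4, 1, 4), (3, 1, 4, 6), (1, 4, 6, 3)),
  ((4, 5, 0, 6), (2, 4, 1, 0), (0, 6, 0, 0), (1, 0, 0, 0)),
  ((2, 2, 5, 1), (2, 5, 1, 2), (5, 2, 6, 6), (2, 2, 6, 1)),
  ((2, 1, 5, 1), (1, 5, 1, 2), (5, 4, 6, 0), (4, 2, 0, 1)),
  ((1, 6, 5, 0), (1, 1, 0, 5), (1, 2, 5, 1), (5, 1, 6, 5)),
  ((0, 6, 4, 2), (6, 0, 2, 3), (3, 0, 6, 3), (0, 4, 3, 1)),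
  ((4, 2, 1, 6), (5, 4, 1, 1), (1, 6, 0, 3), (1, 1, 4, 0)),
  ((5, 1, 6, 5), (6, 5, 2, 6), (2, 0, 1, 6), (0, 2, 1, 1)),
  ((4, 0, 5, 1), (0, 3, 1, 2), (6, 3, 1, 4), (3, 1, 4, 6)),
  ((0, 2, 1, 1), (5, 0, 6, 1), (0, 1, 4, 0), (6, 0, 0, 4)),
  ((3, 1, 4, 6), (1, 4, 6, 3), (4, 6, 4, 6), (6, 3, 6, 3)),
  ((5, 6, 5, 4), (6, 2, 4, 2), (6, 5, 2, 5), (5, 1, 5, 5)),
  ((1, 6, 1, 2), (1, 1, 5, 1), (5, 0, 5, 1), (0, 5, 6, 5)),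
  ((1, 2, 1, 5), (5, 1, 2, 1), (0, 5, 0, 5), (2, 0, 2, 0)),
  ((6, 1, 1, 4), (1, 1, 4, 6), (6, 5, 6, 3), (5, 1, 3, 1)),
  ((0, 1, 1, 0), (1, 0, 0, 6), (6, 5, 0, 3), (5, 1, 3, 0)),
  ((6, 0, 0, 4), (0, 6, 3, 0), (0, 4, 1, 0), (3, 0, 0, 1)),
  ((1, 5, 3, 5), (5, 6, 5, 4), (4, 2, 0, 0), (2, 3, 0, 0)),
  ((0, 0, 4, 2), (0, 0, 2, 3), (3, 5, 6, 2), (5, 4, 2, 1)),
  ((2, 6, 5, 6), (1, 2, 1, 5), (1, 1, 2, 3), (6, 1, 4, 2)),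
  ((6, 6, 3, 1), (6, 1, 1, 4), (4, 6, 0, 4), (6, 3, 4, 0)),
  ((5, 1, 5, 6), (1, 2, 6, 2), (6, 0, 2, 3), (0, 1, 3, 5)),
  ((4, 6, 5, 1), (6, 3, 1, 2), (6, 5, 1, 5), (5, 1, 5, 6)),
  ((0, 2, 0, 5), (5, 0, 2, 0), (1, 5, 6, 5), (2, 1, 2, 6)),
  ((6, 5, 2, 6), (2, 6, 1, 2), (1, 6, 5, 0), (1, 1, 0, 5)),
  ((0, 3, 1, 2), (3, 0, 2, 6), (6, 0, 0, 1), (0, 1, 1, 0)),
  ((5, 4, 0, 0), (4, 2, 0, 0), (4, 6, 2, 3), (6, 3, 3, 5)),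
  ((4, 2, 6, 2), (5, 4, 5, 6), (6, 2, 2, 5), (5, 6, 2, 2)),
  ((0, 4, 3, 0), (4, 0, 0, 4), (4, 5, 6, 1), (5, 3, 1, 1)),
  ((2, 6, 5, 0), (1, 2, 0, 5), (1, 2, 6, 1), (5, 1, 6, 6)),
  ((1, 2, 6, 2), (2, 6, 2, 1), (4, 6, 5, 1), (6, 3, 1, 2)),
  ((6, 3, 1, 2), (3, 1, 2, 6), (6, 3, 6, 1), (3, 1, 1, 1)),
  ((2, 3, 5, 6), (3, 5, 6, 2), (5, 2, 6, 5), (2, 2, 5, 1)),
  ((0, 5, 0, 5), (2, 0, 2, 0), (6, 5, 6, 2), (2, 6, 5, 6)),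
  ((1, 6, 3, 5), (1, 1, 2, 3), (0, 3, 6, 1), (4, 0, 6, 6)),
  ((1, 4, 3, 0), (4, 6, 0, 4), (4, 2, 0, 1), (2, 3, 1, 0)),
  ((6, 5, 6, 2), (2, 6, 5, 6), (0, 2, 0, 2), (5, 0, 5, 0)),
  ((1, 6, 6, 3), (6, 6, 3, 1), (1, 2, 1, 4), (2, 6, 4, 6)),
  ((6, 5, 1, 5), (5, 1, 5, 6), (3, 1, 2, 6), (1, 4, 6, 5)),
  ((1, 4, 6, 5), (4, 6, 5, 1), (1, 4, 1, 6), (4, 6, 6, 6)),
  ((2, 0, 5, 0), (0, 2, 0, 5), (5, 0, 6, 0), (0, 5, 0, 6)),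
  ((3, 5, 0, 0), (5, 4, 0, 0), (1, 5, 3, 5), (5, 6, 5, 4)),
  ((2, 3, 2, 1), (4, 2, 6, 2), (6, 6, 2, 6), (1, 6, 1, 2)),
  ((1, 0, 5, 3), (0, 1, 4, 5), (5, 3, 3, 2), (4, 5, 5, 3)),
  ((3, 0, 0, 3), (0, 4, 3, 0), (6, 1, 3, 2), (1, 1, 2, 4)),
  ((4, 2, 1, 5), (2, 3, 5, 6), (0, 0, 4, 2), (0, 0, 2, 3)),
  ((5, 0, 5, 0), (0, 5, 0, 5), (6, 0, 2, 0), (0, 6, 0, 2)),
  ((6, 6, 5, 4), (1, 6, 3, 5), (2, 6, 5, 6), (1, 2, 1, 5)),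
  ((3, 1, 0, 3), (1, 4, 3, 0), (6, 6, 3, 1), (6, 1, 1, 4)),
  ((6, 6, 2, 6), (1, 6, 1, 2), (5, 4, 5, 6), (3, 5, 1, 5)),
  ((2, 1, 2, 3), (1, 5, 3, 5), (1, 2, 5, 2), (2, 6, 2, 2)),
  ((0, 1, 4, 0), (6, 0, 0, 4), (0, 5, 6, 6), (2, 0, 1, 6)),
  ((6, 5, 2, 5), (5, 1, 5, 5), (2, 1, 2, 3), (1, 5, 3, 5)),
  ((5, 0, 5, 1), (0, 5, 6, 5), (6, 1, 6, 5), (6, 6, 2, 6)),
  ((5, 3, 6, 0), (4, 5, 0, 6), (3, 2, 2, 4), (5, 3, 3, 2)),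
  ((6, 6, 3, 0), (1, 6, 0, 3), (0, 2, 0, 1), (5, 0, 6, 0)),
  ((1, 6, 4, 0), (6, 6, 0, 3), (6, 6, 5, 3), (6, 1, 3, 2)),
  ((5, 1, 3, 1), (1, 2, 1, 4), (1, 5, 1, 2), (5, 6, 2, 6)),
  ((5, 3, 3, 2), (4, 5, 5, 3), (6, 0, 2, 4), (0, 6, 3, 2)),
  ((6, 1, 3, 2), (1, 1, 2, 4), (4, 0, 0, 4), (0, 3, 4, 0)),
  ((2, 5, 1, 5), (2, 2, 2, 1), (1, 5, 4, 2), (2, 1, 5, 4)),
  ((3, 0, 2, 6), (0, 4, 6, 5), (1, 4, 6, 3), (4, 6, 3, 1)),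
  ((5, 0, 6, 1), (0, 5, 6, 6), (5, 1, 6, 5), (6, 5, 2, 6)),
  ((0, 2, 1, 5), (5, 0, 2, 1), (0, 5, 6, 5), (2, 0, 2, 6)),
  ((2, 3, 6, 6), (4, 2, 1, 6), (2, 1, 2, 6), (6, 2, 1, 2)),
  ((4, 0, 6, 1), (0, 3, 1, 1), (5, 3, 1, 1), (3, 2, 1, 6)),
  ((5, 6, 2, 6), (6, 2, 6, 5), (2, 3, 1, 0), (3, 5, 0, 6)),
  ((0, 6, 3, 2), (1, 0, 5, 3), (0, 0, 0, 1), (0, 0, 6, 0)),
  ((2, 0, 5, 6), (0, 2, 1, 5), (5, 6, 2, 2), (1, 5, 5, 2)),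
  ((1, 4, 4, 2), (4, 6, 2, 3), (6, 1, 5, 5), (1, 1, 5, 2)),
  ((0, 3, 6, 0), (4, 0, 0, 6), (6, 0, 0, 4), (0, 6, 3, 0)),
  ((2, 6, 4, 0), (6, 5, 0, 3), (6, 3, 6, 3), (3, 1, 3, 1)),
  ((0, 6, 6, 0), (6, 0, 0, 1), (1, 2, 0, 4), (2, 6, 4, 0)),
  ((2, 1, 5, 5), (6, 2, 2, 5), (2, 0, 5, 6), (0, 2, 1, 5)),
  ((1, 1, 4, 6), (1, 6, 6, 3), (3, 1, 0, 3), (1, 4, 3, 0)),
  ((1, 6, 0, 3), (1, 1, 4, 0), (3, 5, 6, 1), (2, 3, 6, 6)),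
  ((6, 6, 0, 3), (6, 1, 3, 0), (0, 4, 6, 6), (4, 0, 6, 1)),
  ((0, 0, 1, 0), (0, 0, 0, 1), (6, 0, 0, 0), (0, 6, 0, 0)),
  ((4, 2, 6, 3), (2, 3, 3, 1), (5, 5, 1, 6), (5, 2, 6, 6)),
  ((6, 2, 0, 2), (5, 6, 5, 0), (1, 2, 0, 5), (5, 1, 2, 0)),
  ((6, 0, 2, 3), (0, 1, 3, 5), (2, 6, 2, 1), (6, 5, 1, 5)),
  ((3, 1, 2, 6), (1, 4, 6, 5), (1, 2, 6, 2), (2, 6, 2, 1)),
  ((4, 0, 0, 6), (0, 4, 1, 0), (6, 6, 0, 2), (1, 6, 5, 0)),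
  ((6, 5, 0, 3), (5, 1, 3, 0), (0, 6, 6, 0), (6, 0, 0, 1)),
  ((6, 0, 0, 1), (0, 1, 1, 0), (0, 4, 6, 5), (4, 0, 5, 1)),
  ((0, 3, 6, 1), (4, 0, 6, 6), (6, 1, 4, 2), (6, 6, 5, 4)),
  ((4, 2, 0, 1), (2, 3, 1, 0), (6, 3, 4, 0), (3, 1, 0, 3)),
  ((1, 4, 6, 3), (4, 6, 3, 1), (4, 0, 5, 1), (0, 3, 1, 2)),
  ((6, 6, 2, 5), (6, 1, 5, 5), (2, 6, 2, 2), (6, 5, 2, 5)),
  ((2, 0, 1, 6), (0, 2, 1, 1), (2, 6, 1, 2), (1, 2, 5, 1)),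
  ((0, 5, 6, 2), (2, 0, 5, 6), (0, 2, 1, 2), (5, 0, 5, 1)),
  ((3, 1, 5, 4), (1, 4, 4, 2), (5, 4, 0, 0), (4, 2, 0, 0)),
  ((3, 0, 0, 1), (0, 3, 6, 0), (1, 1, 0, 5), (6, 1, 2, 0)),
  ((1, 2, 0, 4), (2, 6, 4, 0), (0, 1, 1, 0), (1, 0, 0, 6)),
  ((1, 0, 0, 6), (0, 6, 6, 0), (0, 3, 1, 2), (3, 0, 2, 6)),
  ((0, 0, 0, 6), (0, 0, 1, 0), (0, 6, 3, 2), (1, 0, 5, 3)),
  ((5, 4, 4, 6), (4, 2, 6, 3), (0, 0, 2, 3), (0, 0, 3, 5)),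
  ((0, 4, 6, 6), (4, 0, 6, 1), (1, 1, 0, 4), (1, 6, 4, 0)),
  ((2, 1, 2, 0), (6, 2, 0, 2), (5, 5, 5, 6), (2, 5, 1, 5)),
  ((1, 1, 2, 3), (6, 1, 4, 2), (5, 1, 2, 1), (6, 5, 6, 2)),
  ((3, 0, 1, 1), (0, 3, 6, 1), (0, 1, 0, 5), (6, 0, 2, 0)),
  ((5, 4, 6, 0), (4, 2, 0, 1), (5, 6, 2, 6), (6, 2, 6, 5)),
  ((1, 2, 5, 1), (5, 1, 6, 5), (6, 1, 2, 0), (6, 6, 0, 2)),
  ((1, 6, 2, 2), (6, 6, 2, 5), (1, 4, 4, 2), (4, 6, 2, 3)),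
  ((1, 1, 0, 4), (1, 6, 4, 0), (0, 3, 1, 1), (3, 0, 1, 6)),
  ((5, 5, 5, 6), (2, 5, 1, 5), (5, 6, 5, 0), (1, 5, 0, 5)),
  ((6, 0, 2, 4), (0, 6, 3, 2), (2, 4, 4, 5), (3, 2, 2, 4)),
  ((6, 6, 5, 3), (6, 1, 3, 2), (6, 1, 3, 0), (1, 1, 0, 4)),
  ((1, 5, 4, 2), (2, 1, 5, 4), (5, 2, 6, 2), (5, 5, 5, 6)),
  ((5, 4, 2, 1), (4, 2, 1, 5), (2, 5, 1, 2), (5, 5, 2, 6)),
  ((0, 2, 0, 2), (5, 0, 5, 0), (1, 2, 1, 5), (5, 1, 2, 1)),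
  ((1, 1, 5, 1), (6, 1, 6, 5), (2, 3, 2, 1), (4, 2, 6, 2)),
  ((4, 6, 6, 6), (6, 3, 6, 1), (0, 3, 4, 6), (3, 0, 6, 3)),
  ((2, 0, 2, 6), (0, 2, 1, 2), (1, 6, 1, 2), (1, 1, 5, 1)),
  ((5, 5, 2, 6), (5, 2, 6, 5), (2, 5, 1, 1), (5, 5, 1, 6)),
  ((5, 1, 2, 1), (6, 5, 6, 2), (6, 6, 5, 4), (1, 6, 3, 5)),
  ((3, 0, 6, 3), (0, 4, 3, 1), (0, 1, 3, 5), (1, 0, 5, 4)),
  ((1, 1, 4, 0), (6, 1, 0, 4), (0, 5, 0, 6), (2, 0, 1, 0)),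
  ((1, 2, 1, 4), (2, 6, 4, 6), (6, 1, 1, 4), (1, 1, 4, 6)),
  ((4, 5, 5, 3), (2, 4, 4, 5), (5, 3, 6, 0), (4, 5, 0, 6)),
  ((5, 1, 6, 6), (6, 5, 1, 6), (2, 1, 5, 4), (6, 2, 3, 5)),
  ((2, 6, 2, 2), (6, 5, 2, 5), (1, 1, 5, 2), (1, 6, 2, 2)),
  ((0, 2, 1, 2), (5, 0, 5, 1), (0, 2, 1, 5), (5, 0, 2, 1)),
  ((1, 2, 6, 1), (5, 1, 6, 6), (5, 1, 2, 0), (6, 5, 0, 2)),
  ((2, 5, 1, 1), (5, 5, 1, 6), (2, 2, 5, 1), (2, 5, 1, 2)),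
  ((1, 5, 6, 5), (2, 1, 2, 6), (0, 5, 0, 2), (2, 0, 5, 0)),
  ((4, 5, 6, 1), (5, 3, 1, 1), (0, 3, 4, 0), (3, 0, 0, 3)),
  ((5, 4, 1, 1), (3, 5, 6, 1), (5, 6, 5, 1), (1, 5, 6, 5)),
  ((3, 0, 1, 6), (0, 4, 6, 6), (2, 4, 6, 6), (4, 5, 6, 1)),
  ((5, 0, 2, 1), (0, 5, 6, 2), (2, 1, 5, 5), (6, 2, 2, 5)),
  ((2, 1, 5, 4), (6, 2, 3, 5), (2, 6, 1, 1), (1, 2, 6, 1)),
  ((6, 3, 6, 1), (3, 1, 1, 1), (1, 4, 6, 5), (4, 6, 5, 1)),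
  ((2, 3, 3, 1), (3, 5, 1, 4), (0, 0, 5, 4), (0, 0, 4, 2)),
  ((6, 5, 6, 3), (5, 1, 3, 1), (1, 6, 6, 3), (6, 6, 3, 1)),
  ((2, 0, 1, 0), (0, 2, 0, 1), (2, 0, 5, 0), (0, 2, 0, 5)),
  ((2, 1, 2, 6), (6, 2, 1, 2), (5, 4, 1, 1), (3, 5, 6, 1)),
  ((3, 5, 6, 1), (2, 3, 6, 6), (6, 1, 0, 4), (6, 6, 3, 0)),
  ((3, 5, 1, 5), (2, 3, 2, 1), (1, 5, 5, 2), (2, 1, 5, 5)),
  ((0, 5, 0, 6), (2, 0, 1, 0), (6, 6, 3, 0), (1, 6, 0, 3)),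
  ((1, 1, 2, 4), (1, 6, 4, 5), (1, 6, 4, 0), (6, 6, 0, 3)),
  ((5, 2, 6, 5), (2, 2, 5, 1), (5, 4, 2, 1), (4, 2, 1, 5)),
  ((3, 2, 2, 4), (5, 3, 3, 2), (2, 4, 1, 0), (3, 2, 0, 1)),
  ((2, 6, 1, 1), (1, 2, 6, 1), (5, 6, 2, 3), (1, 5, 4, 2)),
  ((3, 5, 0, 6), (5, 4, 6, 0), (1, 4, 3, 0), (4, 6, 0, 4)),
  ((0, 0, 6, 0), (0, 0, 0, 6), (1, 0, 0, 0), (0, 1, 0, 0)),
  ((5, 6, 5, 1), (1, 5, 6, 5), (2, 3, 6, 6), (4, 2, 1, 6)),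
  ((0, 3, 1, 1), (3, 0, 1, 6), (6, 6, 0, 3), (6, 1, 3, 0)),
  ((0, 4, 1, 6), (3, 0, 1, 1), (1, 6, 3, 5), (1, 1, 2, 3)),
  ((2, 6, 4, 6), (6, 5, 6, 3), (6, 2, 6, 5), (2, 1, 5, 1)),
  ((5, 1, 3, 0), (1, 2, 0, 4), (1, 4, 1, 4), (4, 6, 4, 6)),
  ((5, 4, 5, 6), (3, 5, 1, 5), (1, 1, 5, 1), (6, 1, 6, 5)),
  ((1, 2, 5, 2), (2, 6, 2, 2), (5, 6, 5, 4), (6, 2, 4, 2)),
  ((3, 2, 0, 1), (5, 3, 6, 0), (0, 1, 0, 0), (6, 0, 0, 0)),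
  ((5, 6, 2, 3), (1, 5, 4, 2), (5, 1, 6, 6), (6, 5, 1, 6)),
  ((0, 3, 4, 6), (3, 0, 6, 3), (3, 1, 1, 1), (1, 4, 1, 6)),
  ((6, 3, 1, 4), (3, 1, 4, 6), (3, 0, 2, 6), (0, 4, 6, 5)),
  ((2, 6, 1, 2), (1, 2, 5, 1), (5, 0, 6, 1), (0, 5, 6, 6)),
  ((2, 2, 2, 1), (5, 2, 6, 2), (2, 1, 2, 0), (6, 2, 0, 2)),
  ((0, 4, 6, 5), (4, 0, 5, 1), (1, 0, 0, 6), (0, 6, 6, 0)),
  ((0, 5, 6, 6), (2, 0, 1, 6), (0, 6, 3, 0), (1, 0, 0, 3)),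
  ((4, 6, 3, 1), (6, 3, 1, 4), (3, 1, 3, 1), (1, 4, 1, 4)),
  ((2, 6, 2, 1), (6, 5, 1, 5), (1, 0, 5, 4), (0, 6, 4, 2)),
  ((1, 6, 4, 5), (6, 6, 5, 3), (3, 0, 0, 3), (0, 4, 3, 0)),
  ((6, 2, 1, 2), (5, 6, 5, 1), (0, 2, 0, 5), (5, 0, 2, 0)),
  ((5, 1, 5, 5), (1, 2, 5, 2), (6, 6, 2, 5), (6, 1, 5, 5)),
  ((0, 5, 6, 5), (2, 0, 2, 6), (0, 5, 6, 2), (2, 0, 5, 6)),
  ((6, 5, 1, 6), (2, 6, 1, 1), (2, 6, 5, 0), (1, 2, 0, 5)),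
  ((2, 0, 2, 0), (0, 2, 0, 2), (1, 0, 5, 0), (0, 1, 0, 5)),
  ((2, 3, 0, 0), (3, 5, 0, 0), (3, 1, 5, 4), (1, 4, 4, 2)),
  ((4, 2, 0, 0), (2, 3, 0, 0), (6, 2, 4, 2), (2, 1, 2, 3)),
  ((0, 4, 3, 1), (4, 0, 1, 4), (4, 6, 6, 6), (6, 3, 6, 1)),
  ((4, 0, 6, 6), (0, 4, 1, 6), (0, 6, 0, 2), (1, 0, 5, 0)),
  ((0, 4, 1, 0), (3, 0, 0, 1), (1, 0, 0, 3), (0, 1, 4, 0)),
  ((2, 4, 4, 5), (3, 2, 2, 4), (1, 0, 5, 3), (0, 1, 4, 5)),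
  ((3, 5, 6, 2), (5, 4, 2, 1), (0, 0, 3, 5), (0, 0, 5, 4)),
  ((3, 5, 1, 4), (5, 4, 4, 6), (2, 2, 6, 1), (2, 5, 1, 1)),
  ((0, 0, 0, 1), (0, 0, 6, 0), (0, 1, 4, 5), (6, 0, 2, 4)),
  ((2, 3, 1, 0), (3, 5, 0, 6), (2, 1, 5, 1), (1, 5, 1, 2))]

def nextG : List Nat := [
  1, 3, 5, 7, 9, 11, 13, 15, 17, 19, 21, 23, 25, 27, 22, 30, 32, 24, 35, 37,
  39, 41, 36, 44, 46, 48, 50, 52, 54, 51, 14, 58, 38, 61, 63, 2, 62, 67, 69, 71,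
  73, 75, 77, 74, 80, 81, 53, 84, 86, 88, 65, 85, 91, 93, 94, 96, 97, 98, 47, 101,
  103, 4, 102, 107, 109, 111, 110, 113, 114, 76, 117, 119, 49, 105, 118, 123, 125, 126, 128, 129,
  29, 87, 130, 132, 6, 131, 136, 137, 139, 127, 141, 143, 144, 66, 147, 149, 134, 31, 70, 152,
  154, 8, 153, 157, 159, 45, 160, 162, 72, 156, 135, 166, 168, 43, 120, 169, 171, 10, 170, 175,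
  176, 167, 178, 179, 180, 106, 183, 185, 173, 57, 12, 18, 163, 187, 189, 188, 191, 112, 192, 194,
  95, 193, 78, 56, 148, 197, 198, 155, 199, 200, 116, 195, 16, 0, 205, 207, 68, 140, 108, 204,
  174, 146, 211, 212, 82, 214, 215, 216, 186, 20, 33, 209, 217, 138, 218, 201, 161, 220, 221, 79,
  184, 202, 223, 203, 224, 92, 177, 34, 59, 226, 228, 90, 26, 164, 229, 227, 230, 28, 213, 190,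
  231, 122, 42, 55, 83, 89, 158, 150, 182, 145, 115, 225, 208, 235, 236, 142, 124, 60, 99, 232,
  40, 210, 196, 234, 219, 165, 181, 121, 100, 222, 206, 238, 151, 133, 239, 64, 233, 172, 237, 104]

def nextH : List Nat := [
  2, 4, 6, 8, 10, 12, 14, 16, 18, 20, 22, 24, 26, 28, 29, 31, 33, 34, 36, 38,
  40, 42, 43, 45, 47, 49, 51, 53, 55, 56, 57, 59, 60, 62, 64, 65, 66, 68, 70, 72,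
  74, 76, 78, 79, 3, 82, 83, 85, 87, 89, 21, 90, 92, 15, 95, 97, 0, 99, 100, 102,
  104, 105, 106, 108, 110, 112, 44, 7, 115, 116, 118, 120, 121, 35, 122, 124, 30, 127, 129, 1,
  128, 71, 131, 133, 134, 135, 63, 138, 140, 141, 142, 11, 145, 146, 148, 69, 50, 150, 151, 153,
  155, 156, 27, 158, 160, 161, 67, 163, 164, 61, 165, 167, 80, 168, 107, 170, 172, 173, 174, 103,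
  177, 178, 137, 19, 181, 182, 184, 84, 73, 96, 185, 186, 157, 188, 190, 91, 23, 9, 193, 162,
  195, 196, 5, 77, 139, 58, 159, 132, 183, 201, 202, 203, 204, 41, 206, 52, 208, 209, 210, 101,
  200, 113, 154, 213, 214, 176, 48, 117, 109, 216, 198, 205, 218, 219, 123, 37, 17, 221, 222, 111,
  88, 98, 207, 171, 215, 225, 136, 130, 223, 227, 143, 228, 126, 220, 119, 230, 199, 125, 175, 25,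
  212, 232, 13, 75, 197, 226, 233, 152, 93, 234, 231, 46, 32, 236, 229, 189, 149, 169, 54, 179,
  166, 235, 224, 211, 39, 191, 94, 192, 187, 86, 237, 194, 217, 144, 238, 81, 239, 180, 147, 114]

def ords : List Nat := [
  1, 12, 6, 6, 12, 12, 3, 4, 6, 6, 8, 6, 8, 8, 2, 3, 8, 8, 4, 8,
  6, 4, 12, 8, 4, 6, 12, 4, 12, 3, 12, 4, 4, 8, 8, 8, 3, 4, 8, 8,
  4, 8, 4, 12, 4, 8, 8, 3, 8, 4, 4, 12, 8, 3, 4, 12, 6, 8, 8, 6,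
  10, 6, 4, 10, 12, 12, 3, 8, 10, 3, 12, 10, 4, 12, 3, 6, 12, 12, 4, 8,
  8, 10, 4, 12, 12, 3, 10, 12, 4, 3, 8, 6, 4, 12, 12, 3, 4, 8, 3, 12,
  4, 12, 6, 4, 10, 10, 8, 4, 4, 10, 8, 10, 12, 3, 12, 10, 4, 3, 8, 4,
  4, 8, 3, 12, 10, 3, 10, 8, 12, 4, 10, 8, 4, 8, 12, 4, 4, 4, 8, 4,
  8, 3, 12, 12, 10, 8, 8, 10, 8, 8, 12, 5, 6, 12, 5, 8, 8, 5, 4, 8,
  4, 5, 5, 12, 5, 8, 8, 5, 5, 8, 4, 12, 6, 5, 8, 5, 12, 5, 8, 6,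
  8, 5, 5, 8, 6, 5, 8, 6, 8, 5, 8, 5, 5, 8, 4, 8, 4, 5, 5, 6,
  5, 8, 12, 10, 10, 8, 4, 10, 8, 5, 4, 8, 5, 12, 5, 10, 4, 8, 6, 10,
  12, 5, 4, 12, 8, 3, 8, 3, 10, 4, 4, 4, 4, 10, 4, 4, 4, 8, 10, 12]

end CfsgLib.TwoS5
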