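import Mathlib
import Cfsg.Agent.Lib.TwoS5Data

/-!
A group of order 240 inside the four-dimensional linear group over the field with seven elements
all whose non-trivial elements act without fixed points.
-/

set_option autoImplicit false
set_option maxRecDepth 20000

namespace CfsgLib.TwoS5

def rowMul (r : Row) (B : Mat) : Row := ((r.1 * B.1.1 + r.2.1 * B.2.1.1 + r.2.2.1 * B.2.2.1.1 + r.2.2.2 * B.2.2.2.1) % 7,
    (r.1 * B.1.2.1 + r.2.1 * B.2.1.2.1 + r.2.2.1 * B.2.2.1.2.1 + r.2.2.2 * B.2.2.2.2.1) % 7,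
    (r.1 * B.1.2.2.1 + r.2.1 * B.2.1.2.2.1 + r.2.2.1 * B.2.2.1.2.2.1 + r.2.2.2 * B.2.2.2.2.2.1) % 7,
    (r.1 * B.1.2.2.2 + r.2.1 * B.2.1.2.2.2 + r.2.2.1 * B.2.2.1.2.2.2 + r.2.2.2 * B.2.2.2.2.2.2) % 7)

def mul (A B : Mat) : Mat := (rowMul A.1 B, rowMul A.2.1 B, rowMul A.2.2.1 B, rowMul A.2.2.2 B)

def one : Mat := ((1, 0, 0, 0), (0, 1, 0, 0), (0, 0, 1, 0), (0, 0, 0, 1))

def negOne : Mat := ((6, 0, 0, 0), (0, 6, 0, 0), (0, 0, 6, 0), (0, 0, 0, 6))

/-- Determinant of `M - 1` modulo 7. -/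
def detSubOne (M : Mat) : Nat := ((M.1.1 + 6 * 1) * ((M.2.1.2.1 + 6 * 1) * ((M.2.2.1.2.2.1 + 6 * 1) * ((M.2.2.2.2.2.2 + 6 * 1)) + 6 * M.2.2.1.2.2.2 * (M.2.2.2.2.2.1)) + 6 * M.2.1.2.2.1 * (M.2.2.1.2.1 * ((M.2.2.2.2.2.2 + 6 * 1)) + 6 * M.2.2.1.2.2.2 * (M.2.2.2.2.1)) + M.2.1.2.2.2 * (M.2.2.1.2.1 * (M.2.2.2.2.2.1) + 6 * (M.2.2.1.2.2.1 + 6 * 1) * (M.2.2.2.2.1))) + 6 * M.1.2.1 * (M.2.1.1 * ((M.2.2.1.2.2.1 + 6 * 1) * ((M.2.2.2.2.2.2 + 6 * 1)) + 6 * M.2.2.1.2.2.2 * (M.2.2.2.2.2.1)) + 6 * M.2.1.2.2.1 * (M.2.2.1.1 * ((M.2.2.2.2.2.2 + 6 * 1)) + 6 * M.2.2.1.2.2.2 * (M.2.2.2.1)) + M.2.1.2.2.2 * (M.2.2.1.1 * (M.2.2.2.2.2.1) + 6 * (M.2.2.1.2.2.1 + 6 * 1) * (M.2.2.2.1))) + M.1.2.2.1 * (M.2.1.1 * (M.2.2.1.2.1 * ((M.2.2.2.2.2.2 + 6 * 1)) + 6 * M.2.2.1.2.2.2 * (M.2.2.2.2.1)) + 6 * (M.2.1.2.1 + 6 * 1) * (M.2.2.1.1 * ((M.2.2.2.2.2.2 + 6 * 1)) + 6 * M.2.2.1.2.2.2 * (M.2.2.2.1)) + M.2.1.2.2.2 * (M.2.2.1.1 * (M.2.2.2.2.1) + 6 * M.2.2.1.2.1 * (M.2.2.2.1))) +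 6 * M.1.2.2.2 * (M.2.1.1 * (M.2.2.1.2.1 * (M.2.2.2.2.2.1) + 6 * (M.2.2.1.2.2.1 + 6 * 1) * (M.2.2.2.2.1)) + 6 * (M.2.1.2.1 + 6 * 1) * (M.2.2.1.1 * (M.2.2.2.2.2.1) + 6 * (M.2.2.1.2.2.1 + 6 * 1) * (M.2.2.2.1)) + M.2.1.2.2.1 * (M.2.2.1.1 * (M.2.2.2.2.1) + 6 * M.2.2.1.2.1 * (M.2.2.2.1)))) % 7

def pow (A : Mat) : Nat → Mat
  | 0 => one
  | n + 1 => mul (pow A n) A

def check (i : Nat) : Bool :=
  let x := els.getD i one
  mul x genG == els.getD (nextG.getD i 240) one && mul x genH == els.getD (nextH.getD i 240) one &&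
    decide (nextG.getD i 240 < 240) && decide (nextH.getD i 240 < 240) &&
    (i == 0 || detSubOne x != 0) &&
    ([1, 2, 3, 4, 5, 6, 8, 10, 12].contains (ords.getD i 0)) && pow x (ords.getD i 0) == one

theorem check_all : ((List.range 240).all check) = true := by decide +kernel

theorem els_zero : els.getD 0 one = one := by decide +kernel

theorem gen_orders :
    (pow genG 12 == one && pow genG 6 == negOne && pow genG 4 != one && pow genG 3 != one &&
      pow genG 2 != one &&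
      pow (mul (mul genG genH) genH) 8 == one && pow (mul (mul genG genH) genH) 4 != one &&
      pow (mul (mul (mul (mul (mul genG genG) genG) genH) genG) genH) 10 == one &&
      pow (mul (mul (mul (mul (mul genG genG) genG) genH) genG) genH) 5 != one &&
      pow (mul (mul (mul (mul (mul genG genG) genG) genH) genG) genH) 2 != one) = true := by
  decide +kernel

/-- The rows of a tuple. -/
def rget (r : Row) : Fin 4 → Nat := ![r.1, r.2.1, r.2.2.1, r.2.2.2]

/-- The matrix over `ZMod 7` of a tuple. -/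
def toMatrix (M : Mat) : Matrix (Fin 4) (Fin 4) (ZMod 7) :=
  Matrix.of fun i j => (rget (![M.1, M.2.1, M.2.2.1, M.2.2.2] i) j : ZMod 7)

theorem cast_mod7 (n : ℕ) : ((n % 7 : ℕ) : ZMod 7) = (n : ZMod 7) := ZMod.natCast_mod n 7

theorem toMatrix_mul (A B : Mat) : toMatrix (mul A B) = toMatrix A * toMatrix B := by
  ext i j
  fin_cases i <;> fin_cases j <;>
    simp [toMatrix, rget, mul, rowMul, Matrix.mul_apply, Fin.sum_univ_four, cast_mod7]

theorem toMatrix_one : toMatrix one = 1 := by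
  ext i j
  fin_cases i <;> fin_cases j <;> simp [toMatrix, rget, one, Matrix.one_apply]

theorem toMatrix_negOne : toMatrix negOne = -1 := by
  ext i j
  fin_cases i <;> fin_cases j <;> simp [toMatrix, rget, negOne, Matrix.one_apply] <;> rfl

theorem toMatrix_pow (A : Mat) (n : ℕ) : toMatrix (pow A n) = toMatrix A ^ n := by
  induction n with
  | zero => rw [pow_zero]; exact toMatrix_one
  | succ n ih => rw [pow_succ, ← ih, ← toMatrix_mul]; rfl

theorem det_sub_one (M : Mat) :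
    (toMatrix M - 1).det = (detSubOne M : ZMod 7) := by
  have h6 : (6 : ZMod 7) = -1 := by decide
  simp [toMatrix, rget, detSubOne, cast_mod7, Matrix.det_succ_row_zero, Fin.sum_univ_succ,
    Fin.succAbove, Matrix.one_apply, h6]
  ring

theorem check_spec {i : ℕ} (hi : i < 240) :
    mul (els.getD i one) genG = els.getD (nextG.getD i 240) one ∧
    mul (els.getD i one) genH = els.getD (nextH.getD i 240) one ∧
    nextG.getD i 240 < 240 ∧ nextH.getD i 240 < 240 ∧
    (i = 0 ∨ detSubOne (els.getD i one) ≠ 0) ∧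
    ords.getD i 0 ∈ [1, 2, 3, 4, 5, 6, 8, 10, 12] ∧
    pow (els.getD i one) (ords.getD i 0) = one := by
  have h : check i = true := List.all_eq_true.1 check_all i (List.mem_range.2 hi)
  simpa [check, and_assoc] using h

theorem gen_orders_spec :
    pow genG 12 = one ∧ pow genG 6 = negOne ∧ pow genG 4 ≠ one ∧ pow genG 3 ≠ one ∧
      pow genG 2 ≠ one ∧
      pow (mul (mul genG genH) genH) 8 = one ∧ pow (mul (mul genG genH) genH) 4 ≠ one ∧
      pow (mul (mul (mul (mul (mul genG genG) genG) genH) genG) genH) 10 = one ∧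
      pow (mul (mul (mul (mul (mul genG genG) genG) genH) genG) genH) 5 ≠ one ∧
      pow (mul (mul (mul (mul (mul genG genG) genG) genH) genG) genH) 2 ≠ one := by
  have h := gen_orders
  simpa [and_assoc] using h

/-- Tuples with entries below seven are determined by their matrices. -/
def Small (A : Mat) : Prop := ∀ i j, rget (![A.1, A.2.1, A.2.2.1, A.2.2.2] i) j < 7

theorem small_mul (A B : Mat) : Small (mul A B) := by
  intro i j
  fin_cases i <;> fin_cases j <;>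
    simp [rget, mul, rowMul] <;> exact Nat.mod_lt _ (by norm_num)

theorem small_one : Small one := by
  intro i j
  fin_cases i <;> fin_cases j <;> simp [rget, one]

theorem small_pow (A : Mat) : ∀ n, Small (pow A n)
  | 0 => small_one
  | _ + 1 => small_mul _ _

theorem eq_of_toMatrix {A B : Mat} (hA : Small A) (hB : Small B) (h : toMatrix A = toMatrix B) :
    A = B := by
  have e : ∀ i j, rget (![A.1, A.2.1, A.2.2.1, A.2.2.2] i) j =
      rget (![B.1, B.2.1, B.2.2.1, B.2.2.2] i) j := by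
    intro i j
    have h' := congrArg ZMod.val (congrFun (congrFun h i) j)
    simp only [toMatrix, Matrix.of_apply, ZMod.val_natCast] at h'
    rwa [Nat.mod_eq_of_lt (hA i j), Nat.mod_eq_of_lt (hB i j)] at h'
  obtain ⟨⟨a1, a2, a3, a4⟩, ⟨b1, b2, b3, b4⟩, ⟨c1, c2, c3, c4⟩, d1, d2, d3, d4⟩ := A
  obtain ⟨⟨a1', a2', a3', a4'⟩, ⟨b1', b2', b3', b4'⟩, ⟨c1', c2', c3', c4'⟩, d1', d2', d3', d4'⟩ := B
  have e00 := e 0 0; have e01 := e 0 1; have e02 := e 0 2; have e03 := e 0 3
  have e10 := e 1 0; have e11 := e 1 1; have e12 := e 1 2; have e13 := e 1 3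
  have e20 := e 2 0; have e21 := e 2 1; have e22 := e 2 2; have e23 := e 2 3
  have e30 := e 3 0; have e31 := e 3 1; have e32 := e 3 2; have e33 := e 3 3
  simp [rget] at e00 e01 e02 e03 e10 e11 e12 e13 e20 e21 e22 e23 e30 e31 e32 e33
  subst_vars
  rfl

local notation "GL4" => GL (Fin 4) (ZMod 7)

/-- The first generator. -/
def gG : GL4 :=
  ⟨toMatrix genG, toMatrix (pow genG 11),
    by rw [toMatrix_pow, ← pow_succ', ← toMatrix_pow, gen_orders_spec.1, toMatrix_one],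
    by rw [toMatrix_pow, ← pow_succ, ← toMatrix_pow, gen_orders_spec.1, toMatrix_one]⟩

theorem genH_six : pow genH 6 = one := by decide +kernel

/-- The second generator. -/
def gH : GL4 :=
  ⟨toMatrix genH, toMatrix (pow genH 5),
    by rw [toMatrix_pow, ← pow_succ', ← toMatrix_pow, genH_six, toMatrix_one],
    by rw [toMatrix_pow, ← pow_succ, ← toMatrix_pow, genH_six, toMatrix_one]⟩

/-- The group. -/
def C : Subgroup GL4 := Subgroup.closure {gG, gH}

theorem exists_index {x : GL4} (hx : x ∈ C) : ∃ i < 240, x.1 = toMatrix (els.getD i one) := by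
  suffices key : ∀ i < 240, ∃ k < 240, toMatrix (els.getD i one) * x.1 = toMatrix (els.getD k one) by
    obtain ⟨k, hk, h⟩ := key 0 (by norm_num)
    rw [els_zero, toMatrix_one, Matrix.one_mul] at h
    exact ⟨k, hk, h⟩
  induction hx using Subgroup.closure_induction with
  | mem y hy =>
    intro i hi
    obtain ⟨h1, h2, l1, l2, -⟩ := check_spec hi
    rcases hy with rfl | rfl
    · exact ⟨_, l1, by rw [← h1, toMatrix_mul]; rfl⟩
    · exact ⟨_, l2, by rw [← h2, toMatrix_mul]; rfl⟩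
  | one => exact fun i hi => ⟨i, hi, by rw [Units.val_one, Matrix.mul_one]⟩
  | mul y z _ _ iy iz =>
    intro i hi
    obtain ⟨k, hk, h⟩ := iy i hi
    obtain ⟨l, hl, h'⟩ := iz k hk
    exact ⟨l, hl, by rw [Units.val_mul, ← Matrix.mul_assoc, h, h']⟩
  | inv y _ iy =>
    have hp : ∀ n : ℕ, ∀ i < 240, ∃ k < 240,
        toMatrix (els.getD i one) * (y ^ n).1 = toMatrix (els.getD k one) := by
      intro n
      induction n with
      | zero => exact fun i hi => ⟨i, hi, by rw [pow_zero, Units.val_one, Matrix.mul_one]⟩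
      | succ n ih =>
        intro i hi
        obtain ⟨k, hk, h⟩ := ih i hi
        obtain ⟨l, hl, h'⟩ := iy k hk
        exact ⟨l, hl, by rw [pow_succ, Units.val_mul, ← Matrix.mul_assoc, h, h']⟩
    rw [show y⁻¹ = y ^ (orderOf y - 1) from inv_eq_of_mul_eq_one_right (by
      rw [← pow_succ', Nat.sub_add_cancel (orderOf_pos y), pow_orderOf_eq_one])]
    exact hp _

/-- Non-trivial elements of `C` have no nonzero fixed vector. -/
theorem fixed_point_free {x : GL4} (hx : x ∈ C) (hx1 : x ≠ 1) {v : Fin 4 → ZMod 7}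
    (hv : x.1.mulVec v = v) : v = 0 := by
  obtain ⟨i, hi, h⟩ := exists_index hx
  obtain ⟨-, -, -, -, h0, -⟩ := check_spec hi
  rcases h0 with rfl | h0
  · rw [els_zero, toMatrix_one] at h
    exact absurd (Units.ext h) hx1
  · by_contra hne
    haveI : Fact (Nat.Prime 7) := ⟨by norm_num⟩
    have hd : (x.1 - 1).det = 0 :=
      Matrix.exists_mulVec_eq_zero_iff.1 ⟨v, hne, by
        rw [Matrix.sub_mulVec, hv, Matrix.one_mulVec, sub_self]⟩
    rw [h, det_sub_one, ZMod.natCast_eq_zero_iff] at hd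
    refine h0 (Nat.eq_zero_of_dvd_of_lt hd ?_)
    exact Nat.mod_lt _ (by norm_num)

theorem orders {x : GL4} (hx : x ∈ C) : orderOf x ∈ ({1, 2, 3, 4, 5, 6, 8, 10, 12} : Set ℕ) := by
  obtain ⟨i, hi, h⟩ := exists_index hx
  obtain ⟨-, -, -, -, -, hmem, hp⟩ := check_spec hi
  have hd : orderOf x ∣ ords.getD i 0 := orderOf_dvd_of_pow_eq_one (Units.ext (by
    rw [Units.val_pow_eq_pow_val, h, ← toMatrix_pow, hp, toMatrix_one, Units.val_one]))
  generalize ords.getD i 0 = d at hmem hd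
  simp only [List.mem_cons, List.not_mem_nil, or_false] at hmem
  simp only [Set.mem_insert_iff, Set.mem_singleton_iff]
  have hpos := orderOf_pos x
  rcases hmem with rfl | rfl | rfl | rfl | rfl | rfl | rfl | rfl | rfl <;>
    (have := Nat.le_of_dvd (by norm_num) hd; interval_cases (orderOf x) <;> omega)

theorem pow_ne {A : Mat} {x : GL4} (hx : x.1 = toMatrix A) {n : ℕ} (h : pow A n ≠ one) :
    x ^ n ≠ 1 := fun e => h (eq_of_toMatrix (small_pow A n) small_one (by
      rw [toMatrix_pow, ← hx, ← Units.val_pow_eq_pow_val, e, Units.val_one, toMatrix_one]))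

theorem gG_mem : gG ∈ C := Subgroup.subset_closure (Or.inl rfl)
theorem gH_mem : gH ∈ C := Subgroup.subset_closure (Or.inr rfl)

theorem gG_six : (gG ^ 6).1 = -1 := by
  rw [Units.val_pow_eq_pow_val, show gG.1 = toMatrix genG from rfl, ← toMatrix_pow,
    gen_orders_spec.2.1, toMatrix_negOne]

theorem orderOf_gG : orderOf gG = 12 := by
  obtain ⟨h12, h6, h4, -⟩ := gen_orders_spec
  have e12 : gG ^ 12 = 1 := Units.ext (by
    rw [Units.val_pow_eq_pow_val, show gG.1 = toMatrix genG from rfl, ← toMatrix_pow, h12,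
      toMatrix_one, Units.val_one])
  have e4 : gG ^ 4 ≠ 1 := pow_ne rfl h4
  have e6 : gG ^ 6 ≠ 1 := fun e => by
    have := gG_six
    rw [e, Units.val_one] at this
    have := congrFun (congrFun this 0) 0
    simp [Matrix.one_apply] at this
    exact absurd this (by decide)
  have hd := orderOf_dvd_of_pow_eq_one e12
  have hne4 : ¬ orderOf gG ∣ 4 := fun h => e4 (orderOf_dvd_iff_pow_eq_one.1 h)
  have hne6 : ¬ orderOf gG ∣ 6 := fun h => e6 (orderOf_dvd_iff_pow_eq_one.1 h)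
  have := Nat.le_of_dvd (by norm_num) hd
  have hpos := orderOf_pos gG
  interval_cases (orderOf gG) <;> omega

/-- An element of order eight. -/
def g8 : GL4 := gG * gH * gH

theorem g8_mem : g8 ∈ C := mul_mem (mul_mem gG_mem gH_mem) gH_mem

theorem g8_val : g8.1 = toMatrix (mul (mul genG genH) genH) := by
  rw [toMatrix_mul, toMatrix_mul]; rfl

theorem orderOf_g8 : orderOf g8 = 8 := by
  obtain ⟨-, -, -, -, -, h8, h4, -⟩ := gen_orders_spec
  have e8 : g8 ^ 8 = 1 := Units.ext (by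
    rw [Units.val_pow_eq_pow_val, g8_val, ← toMatrix_pow, h8, toMatrix_one, Units.val_one])
  haveI : Fact (Nat.Prime 2) := ⟨Nat.prime_two⟩
  exact orderOf_eq_prime_pow (p := 2) (n := 2) (pow_ne g8_val h4) e8

/-- An element of order ten. -/
def g10 : GL4 := gG * gG * gG * gH * gG * gH

theorem g10_mem : g10 ∈ C :=
  mul_mem (mul_mem (mul_mem (mul_mem (mul_mem gG_mem gG_mem) gG_mem) gH_mem) gG_mem) gH_mem

theorem g10_val :
    g10.1 = toMatrix (mul (mul (mul (mul (mul genG genG) genG) genH) genG) genH) := by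
  rw [toMatrix_mul, toMatrix_mul, toMatrix_mul, toMatrix_mul, toMatrix_mul]; rfl

theorem orderOf_g10 : orderOf g10 = 10 := by
  obtain ⟨-, -, -, -, -, -, -, h10, h5, h2⟩ := gen_orders_spec
  have hd := orderOf_dvd_of_pow_eq_one (show g10 ^ 10 = 1 from Units.ext (by
    rw [Units.val_pow_eq_pow_val, g10_val, ← toMatrix_pow, h10, toMatrix_one, Units.val_one]))
  have hne5 : ¬ orderOf g10 ∣ 5 := fun h => pow_ne g10_val h5 (orderOf_dvd_iff_pow_eq_one.1 h)
  have hne2 : ¬ orderOf g10 ∣ 2 := fun h => pow_ne g10_val h2 (orderOf_dvd_iff_pow_eq_one.1 h)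
  have := Nat.le_of_dvd (by norm_num) hd
  have hpos := orderOf_pos g10
  interval_cases (orderOf g10) <;> omega

end CfsgLib.TwoS5
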