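import Mathlib

/-!
2-elements of a finite symmetric group lying in a unique Sylow 2-subgroup.
-/

set_option autoImplicit false

namespace CfsgLib.UniqSylowSym

open Equiv Equiv.Perm

variable {α : Type*} [Fintype α] [DecidableEq α]

/-- The period of a point. -/
noncomputable def per (x : Perm α) (i : α) : ℕ := Function.minimalPeriod x i

theorem pow_apply_eq_iff (x : Perm α) (i : α) (k : ℕ) : (x ^ k) i = i ↔ per x i ∣ k := by
  rw [per, ← Function.isPeriodicPt_iff_minimalPeriod_dvd, Function.IsPeriodicPt, Function.IsFixedPt,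
    ← coe_pow]

/-- At most two fixed points; distinct orbits of moved points have distinct lengths. -/
def Cond (x : Perm α) : Prop :=
  (∀ a b c : α, x a = a → x b = b → x c = c → a = b ∨ a = c ∨ b = c) ∧
    ∀ i j : α, x i ≠ i → x j ≠ j → per x i = per x j → x.SameCycle i j

/-- An involution commuting with `x` and with at most one fixed point. -/
def Pairing (x z : Perm α) : Prop :=
  z * z = 1 ∧ Commute x z ∧ ∀ a b : α, z a = a → z b = b → a = b

theorem Pairing.apply_apply {x z : Perm α} (h : Pairing x z) (i : α) : z (z i) = i := by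
  rw [← Perm.mul_apply, h.1, Perm.one_apply]

theorem Pairing.comm {x z : Perm α} (h : Pairing x z) (k : ℕ) (i : α) : (x ^ k) (z i) = z ((x ^ k) i) := by
  rw [← Perm.mul_apply, (h.2.1.pow_left k).eq, Perm.mul_apply]

theorem Pairing.moved {x z : Perm α} (h : Pairing x z) (hx : Cond x) {i : α} (hi : x i ≠ i) :
    ∃ k : ℕ, (x ^ k) i = z i ∧ per x i ∣ 2 * k ∧ ¬ per x i ∣ k := by
  have hzi : x (z i) ≠ z i := fun e => hi (by
    apply z.injective
    have := h.comm 1 i
    rw [pow_one] at this
    rw [← this, e])
  have hper : per x i = per x (z i) := by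
    refine Nat.dvd_antisymm ?_ ?_
    · rw [← pow_apply_eq_iff]
      apply z.injective
      rw [← h.comm, (pow_apply_eq_iff x (z i) _).mpr dvd_rfl]
    · rw [← pow_apply_eq_iff, h.comm, (pow_apply_eq_iff x i _).mpr dvd_rfl]
  obtain ⟨k, hk⟩ := (hx.2 i (z i) hi hzi hper).exists_pow_eq'
  refine ⟨k, hk.2, ?_, ?_⟩
  · rw [← pow_apply_eq_iff, two_mul, pow_add, Perm.mul_apply, hk.2, h.comm, hk.2, h.apply_apply]
  · intro hd
    rw [← pow_apply_eq_iff, hk.2] at hd
    exact hi (h.2.2 (x i) i (by
      have := h.comm 1 i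
      rw [pow_one, hd] at this
      exact this.symm) hd)

theorem Pairing.unique {x z z' : Perm α} (h : Pairing x z) (h' : Pairing x z') (hx : Cond x) : z = z' := by
  refine Equiv.ext fun i => ?_
  by_cases hi : x i = i
  · have key : ∀ w : Perm α, Pairing x w → x (w i) = w i := fun w hw => by
      have := hw.comm 1 i
      rw [pow_one, hi] at this; exact this
    rcases hx.1 i (z i) (z' i) hi (key z h) (key z' h') with e | e | e
    · -- `z` fixes `i`
      by_contra hne
      have h1 : z (z' i) ≠ z' i := fun e1 => hne (e.symm.trans (h.2.2 i (z' i) e.symm e1))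
      have hxz : x (z (z' i)) = z (z' i) := by
        have := h.comm 1 (z' i)
        rw [pow_one, key z' h'] at this; exact this
      rcases hx.1 i (z' i) (z (z' i)) hi (key z' h') hxz with e1 | e1 | e1
      · exact hne (e.symm.trans e1)
      · have := congrArg z e1
        rw [h.apply_apply, ← e] at this
        exact hne (e.symm.trans this)
      · exact h1 e1.symm
    · by_contra hne
      have h1 : z' (z i) ≠ z i := fun e1 => hne ((h'.2.2 (z i) i e1 e.symm).trans e)
      have hxz : x (z' (z i)) = z' (z i) := by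
        have := h'.comm 1 (z i)
        rw [pow_one, key z h] at this; exact this
      rcases hx.1 i (z i) (z' (z i)) hi (key z h) hxz with e1 | e1 | e1
      · exact hne (e1.symm.trans e)
      · have := congrArg z' e1
        rw [h'.apply_apply, ← e] at this
        exact hne (this.symm.trans e)
      · exact h1 e1.symm
    · exact e
  · obtain ⟨k, hk, hk2, hk1⟩ := h.moved hx hi
    obtain ⟨l, hl, hl2, hl1⟩ := h'.moved hx hi
    have hd : per x i ∣ k + l := by
      obtain ⟨a, ha⟩ := hk2
      obtain ⟨b, hb⟩ := hl2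
      have hao : a % 2 = 1 := by
        by_contra hao
        exact hk1 ⟨a / 2, by
          have h2 : a = 2 * (a / 2) := by omega
          rw [h2] at ha
          exact Nat.eq_of_mul_eq_mul_left two_pos (ha.trans (by ring))⟩
      have hbo : b % 2 = 1 := by
        by_contra hbo
        exact hl1 ⟨b / 2, by
          have h2 : b = 2 * (b / 2) := by omega
          rw [h2] at hb
          exact Nat.eq_of_mul_eq_mul_left two_pos (hb.trans (by ring))⟩
      refine ⟨(a + b) / 2, Nat.eq_of_mul_eq_mul_left two_pos ?_⟩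
      have h2 : a + b = 2 * ((a + b) / 2) := by omega
      calc 2 * (k + l) = per x i * (a + b) := by rw [mul_add 2, ha, hb, ← mul_add]
        _ = per x i * (2 * ((a + b) / 2)) := by rw [← h2]
        _ = 2 * (per x i * ((a + b) / 2)) := by ring
    rw [← hk, ← hl]
    apply z'.injective
    rw [← h'.comm k i, ← hl, ← Perm.mul_apply, ← pow_add, (pow_apply_eq_iff x i _).mpr hd,
      hl, h'.apply_apply]

/-- A 2-group of permutations centralises an involution with at most one fixed point, if it is maximal. -/
theorem exists_pairing (P : Sylow 2 (Perm α)) :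
    ∃ z : Perm α, z * z = 1 ∧ (∀ g ∈ P, Commute g z) ∧ ∀ a b : α, z a = a → z b = b → a = b := by
  classical
  set S : Set (Perm α) := {z | z * z = 1 ∧ ∀ g ∈ P, Commute g z} with hS
  obtain ⟨z, ⟨hz, hzP⟩, hmax⟩ := Set.exists_max_image S (fun z => z.support.card) (Set.toFinite _)
    ⟨1, one_mul 1, fun g _ => Commute.one_right g⟩
  refine ⟨z, hz, hzP, ?_⟩
  have hmove : ∀ w ∈ S, Perm.Disjoint z w → w = 1 := by
    rintro w ⟨hw, hwP⟩ hd
    have hzw := hd.commute
    have h1 := hmax (z * w) ⟨by rw [hzw.symm.mul_mul_mul_comm, hz, hw, one_mul],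
      fun g hg => (hzP g hg).mul_right (hwP g hg)⟩
    replace h1 : (z * w).support.card ≤ z.support.card := h1
    rw [hd.card_support_mul] at h1
    exact card_support_eq_zero.mp (by omega)
  have hinv : ∀ g ∈ P, ∀ i, z i = i → z (g i) = g i := fun g hg i hi => by
    conv_rhs => rw [← hi]
    rw [← Perm.mul_apply, ← (hzP g hg).eq, Perm.mul_apply]
  -- the fixed points of `z` are fixed by `P`
  have horb : ∀ i, z i = i → ∀ g ∈ P, g i = i := by
    intro i hi g hg
    by_contra hgi
    set O : Set α := MulAction.orbit (P : Subgroup (Perm α)) i with hO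
    have hOi : i ∈ O := MulAction.mem_orbit_self i
    have hOz : ∀ j ∈ O, z j = j := by
      rintro _ ⟨⟨h, hh⟩, rfl⟩
      exact hinv h hh i hi
    have hPO : ∀ h ∈ P, ∀ j, j ∈ O ↔ h j ∈ O := fun h hh j => by
      constructor
      · rintro ⟨⟨k, hk⟩, rfl⟩
        exact ⟨⟨h * k, mul_mem hh hk⟩, rfl⟩
      · rintro ⟨⟨k, hk⟩, e⟩
        refine ⟨⟨h⁻¹ * k, mul_mem (inv_mem hh) hk⟩, ?_⟩
        show (h⁻¹ * k) i = j
        rw [Perm.mul_apply, show k i = h j from e, ← Perm.mul_apply, inv_mul_cancel, Perm.one_apply]
    set p : α → Prop := fun j => j ∈ O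
    let ρ : (P : Subgroup (Perm α)) →* Perm {j // p j} :=
      MonoidHom.mk' (fun h => (h : Perm α).subtypePerm (fun j => (hPO h h.2 j).symm))
        (fun a b => Equiv.ext fun j => Subtype.ext rfl)
    have hR : IsPGroup 2 ρ.range := by
      rintro ⟨_, h, rfl⟩
      obtain ⟨k, hk⟩ := P.2 h
      exact ⟨k, Subtype.ext (by show ρ h ^ 2 ^ k = 1; rw [← map_pow, hk, map_one])⟩
    haveI : Nontrivial ρ.range := by
      refine ⟨⟨⟨ρ ⟨g, hg⟩, _, rfl⟩, 1, fun e => hgi ?_⟩⟩
      exact congrArg Subtype.val (Equiv.ext_iff.mp (congrArg Subtype.val e) ⟨i, hOi⟩)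
    haveI : Fact (Nat.Prime 2) := ⟨Nat.prime_two⟩
    haveI := hR.center_nontrivial
    obtain ⟨m, hm⟩ := IsPGroup.iff_card.mp (hR.to_subgroup (Subgroup.center ρ.range))
    obtain ⟨c, hc⟩ := exists_prime_orderOf_dvd_card' (G := Subgroup.center ρ.range) 2 (by
      rw [hm]; refine dvd_pow_self 2 fun h0 => ?_
      rw [h0, pow_zero] at hm
      exact (Finite.one_lt_card (α := Subgroup.center ρ.range)).ne' hm)
    set c' : Perm {j // p j} := ((c : ρ.range) : Perm {j // p j}) with hc'
    set w : Perm α := ofSubtype c' with hw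
    have hwS : w ∈ S := by
      refine ⟨?_, fun h hh => ?_⟩
      · have h2 : c' * c' = 1 := by
          have := pow_orderOf_eq_one c
          rw [hc, pow_two] at this
          exact congrArg (fun t : Subgroup.center ρ.range => ((t : ρ.range) : Perm {j // p j})) this
        rw [hw, ← map_mul, h2, map_one]
      · refine Equiv.ext fun j => ?_
        rw [Perm.mul_apply, Perm.mul_apply]
        by_cases hj : p j
        · have hcc : ρ ⟨h, hh⟩ * c' = c' * ρ ⟨h, hh⟩ :=
            congrArg Subtype.val (Subgroup.mem_center_iff.mp c.2 ⟨ρ ⟨h, hh⟩, _, rfl⟩)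
          have h3 := congrArg Subtype.val (Equiv.ext_iff.mp hcc ⟨j, hj⟩)
          rw [hw, ofSubtype_apply_of_mem _ hj, ofSubtype_apply_of_mem _ ((hPO h hh j).mp hj)]
          exact h3
        · rw [hw, ofSubtype_apply_of_not_mem _ hj,
            ofSubtype_apply_of_not_mem _ (fun h' => hj ((hPO h hh j).mpr h'))]
    have hd : Perm.Disjoint z w := fun j => by
      by_cases hj : p j
      · exact Or.inl (hOz j hj)
      · exact Or.inr (ofSubtype_apply_of_not_mem _ hj)
    have hw1 : c' = 1 := ofSubtype_injective ((hmove w hwS hd).trans (map_one _).symm)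
    have : c = 1 := Subtype.ext (Subtype.ext hw1)
    rw [this, orderOf_one] at hc
    exact absurd hc (by norm_num)
  intro a b ha hb
  by_contra hab
  have hd : Perm.Disjoint z (swap a b) := fun j => by
    by_cases hj : j = a ∨ j = b
    · rcases hj with rfl | rfl
      · exact Or.inl ha
      · exact Or.inl hb
    · push Not at hj
      exact Or.inr (swap_apply_of_ne_of_ne hj.1 hj.2)
  have hS' : swap a b ∈ S := ⟨swap_mul_self a b, fun g hg => by
    show g * swap a b = swap a b * g
    rw [mul_swap_eq_swap_mul, horb a ha g hg, horb b hb g hg]⟩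
  exact hab (swap_eq_one_iff.mp (hmove _ hS' hd))

/-- The setoid of an involution. -/
def pairSetoid (z : Perm α) (hz : z * z = 1) : Setoid α where
  r i j := j = i ∨ j = z i
  iseqv := by
    have hzz : ∀ i, z (z i) = i := fun i => by rw [← Perm.mul_apply, hz, Perm.one_apply]
    refine ⟨fun i => Or.inl rfl, ?_, ?_⟩
    · rintro i j (rfl | rfl)
      · exact Or.inl rfl
      · exact Or.inr (hzz i).symm
    · rintro i j k (rfl | rfl) (rfl | rfl)
      · exact Or.inl rfl
      · exact Or.inr rfl
      · exact Or.inr rfl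
      · exact Or.inl (hzz i)

theorem eq_of_mem {P Q : Sylow 2 (Perm α)} {x : Perm α} (hP : x ∈ P) (hQ : x ∈ Q) (hx : Cond x) :
    P = Q := by
  induction hn : Fintype.card α using Nat.strong_induction_on generalizing α with
  | h n ih =>
    subst hn
    classical
    rcases le_or_gt (Fintype.card α) 1 with hc | hc
    · haveI : Subsingleton α := Fintype.card_le_one_iff_subsingleton.mp hc
      exact Sylow.ext (Subgroup.ext fun g => by
        rw [Subsingleton.elim g 1]; exact ⟨fun _ => one_mem _, fun _ => one_mem _⟩)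
    obtain ⟨z, hz, hzP, hzfix⟩ := exists_pairing P
    obtain ⟨z', hz', hzQ, hzfix'⟩ := exists_pairing Q
    have hpz : Pairing x z := ⟨hz, hzP x hP, hzfix⟩
    have heq : z = z' := hpz.unique ⟨hz', hzQ x hQ, hzfix'⟩ hx
    subst heq
    haveI : Fintype (Quotient (pairSetoid z hz)) := Fintype.ofFinite _
    set β := Quotient (pairSetoid z hz) with hβ
    let C : Subgroup (Perm α) := Subgroup.centralizer {z}
    have hCz : ∀ g ∈ C, ∀ i, g (z i) = z (g i) := fun g hg i => by
      rw [← Perm.mul_apply, Subgroup.mem_centralizer_singleton_iff.mp hg, Perm.mul_apply]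
    have hresp : ∀ g ∈ C, ∀ i j, (pairSetoid z hz).r i j → (pairSetoid z hz).r (g i) (g j) := by
      rintro g hg i j (rfl | rfl)
      · exact Or.inl rfl
      · exact Or.inr (hCz g hg i)
    let φ : C →* Perm β := MonoidHom.mk' (fun g =>
      { toFun := Quotient.map (g : Perm α) (hresp g g.2)
        invFun := Quotient.map ((g⁻¹ : C) : Perm α) (hresp _ (g⁻¹).2)
        left_inv := fun q => Quotient.inductionOn q fun i => by simp
        right_inv := fun q => Quotient.inductionOn q fun i => by simp })
      (fun a b => Equiv.ext fun q => Quotient.inductionOn q fun i => rfl)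
    have hφ : ∀ (g : C) (i : α), φ g ⟦i⟧ = ⟦(g : Perm α) i⟧ := fun g i => rfl
    have hker : IsPGroup 2 φ.ker := by
      rintro ⟨g, hg⟩
      refine ⟨1, Subtype.ext (Subtype.ext (Equiv.ext fun i => ?_))⟩
      have h1 : (g : Perm α) i = i ∨ (g : Perm α) i = z i := by
        have := Equiv.ext_iff.mp (MonoidHom.mem_ker.mp hg) ⟦i⟧
        rw [hφ, Perm.one_apply] at this
        exact Quotient.exact this.symm
      show ((g : Perm α) ^ 2 ^ 1) i = i
      rw [pow_one, pow_two, Perm.mul_apply]
      rcases h1 with e | e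
      · rw [e, e]
      · rw [e, hCz g g.2, e, hpz.apply_apply]
    -- strictly fewer classes
    have hlt : Fintype.card β < Fintype.card α := by
      refine Fintype.card_lt_of_surjective_not_injective (Quotient.mk _) Quotient.mk_surjective ?_
      intro hinj
      obtain ⟨a, b, hab⟩ := Fintype.exists_pair_of_one_lt_card hc
      refine hab (hzfix a b ?_ ?_) <;> exact (hinj (Quotient.sound (Or.inr rfl))).symm
    set x' : C := ⟨x, Subgroup.mem_centralizer_singleton_iff.mpr (hzP x hP).eq⟩ with hx'
    have hpow : ∀ (k : ℕ) (i : α), (φ x' ^ k) ⟦i⟧ = ⟦(x ^ k) i⟧ := fun k i => by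
      rw [← map_pow, hφ]; rfl
    -- the image satisfies the condition
    have hcond : Cond (φ x') := by
      constructor
      · intro a b c
        induction a using Quotient.inductionOn with
        | h i =>
        induction b using Quotient.inductionOn with
        | h j =>
        induction c using Quotient.inductionOn with
        | h l =>
        intro h1 h2 h3
        have key : ∀ i, φ x' ⟦i⟧ = ⟦i⟧ → x i = i ∨ (x i ≠ i ∧ x i = z i) := fun i h => by
          rw [hφ] at h
          rcases (Quotient.exact h.symm : (pairSetoid z hz).r i (x i)) with e | e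
          · exact Or.inl e
          · by_cases e' : x i = i
            · exact Or.inl e'
            · exact Or.inr ⟨e', e⟩
        have hfixfix : ∀ i j, x i = i → x j = j → (⟦i⟧ : β) = ⟦j⟧ := by
          intro i j hi hj
          apply Quotient.sound
          show j = i ∨ j = z i
          by_contra hne
          push Not at hne
          have hzi : x (z i) = z i := by
            have := hpz.comm 1 i; rw [pow_one, hi] at this; exact this
          rcases hx.1 i j (z i) hi hj hzi with e | e | e
          · exact hne.1 e.symm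
          · -- `z` fixes `i`
            have hzj : z j ≠ j := fun e' => hne.1 (hzfix j i e' e.symm)
            have hxzj : x (z j) = z j := by
              have := hpz.comm 1 j; rw [pow_one, hj] at this; exact this
            rcases hx.1 i j (z j) hi hj hxzj with e1 | e1 | e1
            · exact hne.1 e1.symm
            · have := congrArg z e1
              rw [hpz.apply_apply, ← e] at this
              exact hne.1 this.symm
            · exact hzj e1.symm
          · exact hne.2 e
        have htwotwo : ∀ i j, x i ≠ i → x i = z i → x j ≠ j → x j = z j → (⟦i⟧ : β) = ⟦j⟧ := by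
          intro i j hi hi' hj hj'
          have hp2 : ∀ i, x i ≠ i → x i = z i → per x i = 2 := fun i hi hi' => by
            refine (Nat.Prime.eq_one_or_self_of_dvd Nat.prime_two _ ?_).resolve_left fun e => hi ?_
            · rw [← pow_apply_eq_iff, pow_two, Perm.mul_apply, hi']
              have := hpz.comm 1 i; rw [pow_one, hi', hpz.apply_apply] at this; exact this
            · have := (pow_apply_eq_iff x i 1).mpr (e ▸ dvd_rfl)
              rwa [pow_one] at this
          obtain ⟨k, hk⟩ := (hx.2 i j hi hj ((hp2 i hi hi').trans (hp2 j hj hj').symm)).exists_pow_eq'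
          apply Quotient.sound
          show j = i ∨ j = z i
          have h2 : (x ^ 2) i = i := (pow_apply_eq_iff x i 2).mpr (hp2 i hi hi' ▸ dvd_rfl)
          rw [← hk.2]
          rcases Nat.even_or_odd' k with ⟨m, rfl | rfl⟩
          · left
            rw [pow_mul]
            exact pow_apply_eq_self_of_apply_eq_self h2 m
          · right
            rw [pow_succ', Perm.mul_apply, pow_mul, pow_apply_eq_self_of_apply_eq_self h2 m, hi']
        rcases key i h1 with a1 | ⟨a1, a2⟩ <;> rcases key j h2 with b1 | ⟨b1, b2⟩ <;>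
          rcases key l h3 with c1 | ⟨c1, c2⟩
        all_goals first
          | exact Or.inl (hfixfix _ _ a1 b1)
          | exact Or.inl (htwotwo _ _ a1 a2 b1 b2)
          | exact Or.inr (Or.inl (hfixfix _ _ a1 c1))
          | exact Or.inr (Or.inl (htwotwo _ _ a1 a2 c1 c2))
          | exact Or.inr (Or.inr (hfixfix _ _ b1 c1))
          | exact Or.inr (Or.inr (htwotwo _ _ b1 b2 c1 c2))
      · intro a b
        induction a using Quotient.inductionOn with
        | h i =>
        induction b using Quotient.inductionOn with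
        | h j =>
        intro h1 h2 hper
        have hmv : ∀ i, φ x' ⟦i⟧ ≠ ⟦i⟧ → x i ≠ i := fun i h e => h (by rw [hφ]; exact congrArg _ e)
        have hhalf : ∀ i, φ x' ⟦i⟧ ≠ ⟦i⟧ → per x i = 2 * per (φ x') ⟦i⟧ := by
          intro i h
          obtain ⟨k, hk, hk2, hk1⟩ := hpz.moved hx (hmv i h)
          set d := per (φ x') ⟦i⟧ with hd
          have hd1 : ∀ m : ℕ, d ∣ m ↔ (x ^ m) i = i ∨ (x ^ m) i = z i := fun m => by
            rw [hd, ← pow_apply_eq_iff, hpow]
            exact ⟨fun e => Quotient.exact e.symm, fun e => (Quotient.sound e).symm⟩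
          have hLd : per x i ∣ 2 * d := by
            rw [← pow_apply_eq_iff, two_mul, pow_add, Perm.mul_apply]
            rcases (hd1 d).mp dvd_rfl with e | e
            · rw [e, e]
            · rw [e, hpz.comm, e, hpz.apply_apply]
          have hdL : d ∣ per x i := (hd1 _).mpr (Or.inl ((pow_apply_eq_iff x i _).mpr dvd_rfl))
          have hdk : d ∣ k := (hd1 k).mpr (Or.inr hk)
          obtain ⟨t, ht⟩ := hdL
          have hd0 : 0 < d := Nat.pos_of_ne_zero fun e => hk1 (by
            rw [e, Nat.zero_dvd] at hdk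
            exact hdk ▸ dvd_zero _)
          rw [ht] at hLd hk1 ⊢
          rw [mul_comm 2 d] at hLd
          rcases (Nat.dvd_prime Nat.prime_two).mp (Nat.dvd_of_mul_dvd_mul_left hd0 hLd) with e | e
          · subst e
            exact absurd (by rwa [mul_one]) hk1
          · rw [e, mul_comm]
        obtain ⟨k, hk⟩ := hx.2 i j (hmv i h1) (hmv j h2) (by rw [hhalf i h1, hhalf j h2, hper])
        refine ⟨k, ?_⟩
        rw [← map_zpow, hφ]
        exact congrArg _ (by rw [← hk]; rfl)
    have himg : ∀ R : Sylow 2 (Perm α), ∀ hRC : (R : Subgroup (Perm α)) ≤ C,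
        IsPGroup 2 (((R : Subgroup (Perm α)).subgroupOf C).map φ) := fun R hRC =>
      (R.2.of_equiv (Subgroup.subgroupOfEquivOfLe hRC).symm).map φ
    have hPC : (P : Subgroup (Perm α)) ≤ C := fun g hg =>
      Subgroup.mem_centralizer_singleton_iff.mpr (hzP g hg).eq
    have hQC : (Q : Subgroup (Perm α)) ≤ C := fun g hg =>
      Subgroup.mem_centralizer_singleton_iff.mpr (hzQ g hg).eq
    obtain ⟨P', hP'⟩ := (himg P hPC).exists_le_sylow
    obtain ⟨Q', hQ'⟩ := (himg Q hQC).exists_le_sylow
    have hPQ : P' = Q' := ih _ hlt (hP' (Subgroup.mem_map_of_mem φ (x := x') hP))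
      (hQ' (Subgroup.mem_map_of_mem φ (x := x') hQ)) hcond rfl
    set W := ((P' : Subgroup (Perm β)).comap φ).map C.subtype with hW
    have hWp : IsPGroup 2 W := (P'.2.comap_of_ker_isPGroup φ hker).map C.subtype
    have hPW : (P : Subgroup (Perm α)) ≤ W := fun g hg =>
      ⟨⟨g, hPC hg⟩, hP' (Subgroup.mem_map_of_mem φ (x := (⟨g, hPC hg⟩ : C)) hg), rfl⟩
    have hQW : (Q : Subgroup (Perm α)) ≤ W := fun g hg =>
      ⟨⟨g, hQC hg⟩, hPQ ▸ hQ' (Subgroup.mem_map_of_mem φ (x := (⟨g, hQC hg⟩ : C)) hg), rfl⟩
    exact Sylow.ext ((P.3 hWp hPW).symm.trans (Q.3 hWp hQW))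

/-- Two-element closure in a unique Sylow subgroup. -/
theorem mem_of_unique {x y : Perm α} (h : ∃! P : Sylow 2 (Perm α), x ∈ P) {P : Sylow 2 (Perm α)} (hP : x ∈ P)
    {H : Subgroup (Perm α)} (hH : IsPGroup 2 H) (hx : x ∈ H) (hy : y ∈ H) : y ∈ P := by
  obtain ⟨R, hR⟩ := hH.exists_le_sylow
  rw [h.unique hP (hR hx)]
  exact hR hy

theorem two_pow {P : Sylow 2 (Perm α)} {y : Perm α} (hy : y ∈ P) : ∃ k : ℕ, orderOf y = 2 ^ k := by
  obtain ⟨k, hk⟩ := P.2 ⟨y, hy⟩
  obtain ⟨i, -, hi⟩ := (Nat.dvd_prime_pow Nat.prime_two).mp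
    (orderOf_dvd_of_pow_eq_one (congrArg Subtype.val hk : y ^ 2 ^ k = 1))
  exact ⟨i, hi⟩

/-- A swap of two points with the same period in different orbits. -/
theorem swap_mem {x : Perm α} (h : ∃! P : Sylow 2 (Perm α), x ∈ P) {P : Sylow 2 (Perm α)} (hP : x ∈ P)
    {u v : α} (huv : ¬ x.SameCycle u v) (hper : per x u = per x v) : swap u v ∈ P := by
  classical
  set S : Set (Perm α) := Set.range fun i : ℕ => swap ((x ^ i) u) ((x ^ i) v) with hS
  set E := Subgroup.closure S with hE
  have hne : ∀ i j : ℕ, (x ^ i) u ≠ (x ^ j) v := fun i j e => huv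
    ((sameCycle_pow_left (n := i)).mp (e ▸ (sameCycle_pow_left (n := j)).mpr (SameCycle.refl x v)))
  have hiff : ∀ i j : ℕ, (x ^ i) u = (x ^ j) u ↔ (x ^ i) v = (x ^ j) v := by
    intro i j
    wlog hij : i ≤ j generalizing i j with H
    · rw [eq_comm, H j i (by omega), eq_comm]
    obtain ⟨d, rfl⟩ := Nat.exists_eq_add_of_le hij
    rw [pow_add, Perm.mul_apply, Perm.mul_apply, EmbeddingLike.apply_eq_iff_eq, EmbeddingLike.apply_eq_iff_eq,
      eq_comm, pow_apply_eq_iff, eq_comm (a := v), pow_apply_eq_iff, hper]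
  have hcomm : ∀ a ∈ S, ∀ b ∈ S, a * b = b * a := by
    rintro _ ⟨i, rfl⟩ _ ⟨j, rfl⟩
    by_cases e : (x ^ i) u = (x ^ j) u
    · simp only
      rw [e, (hiff i j).mp e]
    · exact ((Equiv.Perm.disjoint_iff_disjoint_support.mpr (by
        rw [support_swap (hne i i), support_swap (hne j j)]
        simp only [Finset.disjoint_insert_left, Finset.mem_insert, Finset.mem_singleton,
          Finset.disjoint_singleton_left, not_or]
        exact ⟨⟨e, hne i j⟩, (hne j i).symm, fun e' => e ((hiff i j).mpr e')⟩)).commute).eq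
  haveI : IsMulCommutative E := Subgroup.isMulCommutative_closure hcomm
  have hEp : IsPGroup 2 E := by
    rintro ⟨g, hg⟩
    refine ⟨1, Subtype.ext ?_⟩
    show g ^ 2 ^ 1 = 1
    rw [pow_one]
    induction hg using Subgroup.closure_induction with
    | mem a ha => obtain ⟨i, rfl⟩ := ha; rw [pow_two]; exact swap_mul_self _ _
    | one => exact one_pow 2
    | mul a b ha hb iha ihb =>
      rw [(show Commute a b from congrArg Subtype.val
        (IsMulCommutative.is_comm.comm (⟨a, ha⟩ : E) ⟨b, hb⟩)).mul_pow, iha, ihb, one_mul]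
    | inv a _ iha => rw [inv_pow, iha, inv_one]
  have hnorm : Subgroup.zpowers x ≤ Subgroup.normalizer (E : Set (Perm α)) := by
    rw [Subgroup.zpowers_le]
    have hle : E.map (MulAut.conj x).toMonoidHom ≤ E := by
      rw [hE, MonoidHom.map_closure, Subgroup.closure_le]
      rintro _ ⟨_, ⟨i, rfl⟩, rfl⟩
      refine Subgroup.subset_closure ⟨i + 1, ?_⟩
      simp only [MulEquiv.coe_toMonoidHom, MulAut.conj_apply]
      rw [pow_succ', Perm.mul_apply, Perm.mul_apply, mul_swap_eq_swap_mul, mul_inv_cancel_right]
    have heq := Subgroup.eq_of_le_of_card_ge hle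
      (Subgroup.card_map_of_injective (MulAut.conj x).injective).ge
    refine Subgroup.mem_normalizer_iff.mpr fun c => ⟨fun hc => hle ⟨c, hc, rfl⟩, fun hc => ?_⟩
    obtain ⟨d, hd, hde⟩ := heq.ge hc
    have : d = c := (MulAut.conj x).injective (show MulAut.conj x d = MulAut.conj x c from hde)
    exact this ▸ hd
  have hxp : IsPGroup 2 (Subgroup.zpowers x) := P.2.to_le (Subgroup.zpowers_le.mpr hP)
  refine mem_of_unique h hP (hxp.to_sup_of_normal_right' hEp hnorm)
    (Subgroup.mem_sup_left (Subgroup.mem_zpowers x)) (Subgroup.mem_sup_right (Subgroup.subset_closure ⟨0, ?_⟩))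
  simp

theorem cond_of_unique {x : Perm α} (h : ∃! P : Sylow 2 (Perm α), x ∈ P) : Cond x := by
  classical
  have hU : ∃! P : Sylow 2 (Perm α), x ∈ P := h
  obtain ⟨P, hP, -⟩ := h
  have hne : ∀ {u v : α}, x u = u → u ≠ v → ¬ x.SameCycle u v := fun {u v} hu huv ⟨k, hk⟩ =>
    huv (by rwa [zpow_apply_eq_self_of_apply_eq_self hu] at hk)
  have hper1 : ∀ {u : α}, x u = u → per x u = 1 := fun {u} hu => by
    have := (pow_apply_eq_iff x u 1).mp (by rwa [pow_one])
    exact Nat.dvd_one.mp this
  constructor
  · intro a b c ha hb hc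
    by_contra hne'
    push Not at hne'
    obtain ⟨hab, hac, hbc⟩ := hne'
    have h1 := swap_mem hU hP (hne ha hab) ((hper1 ha).trans (hper1 hb).symm)
    have h2 := swap_mem hU hP (hne ha hac) ((hper1 ha).trans (hper1 hc).symm)
    obtain ⟨k, hk⟩ := two_pow (mul_mem h1 h2)
    have h3 := (isThreeCycle_swap_mul_swap_same hab hac hbc).orderOf
    rw [h3] at hk
    have := (Nat.prime_dvd_prime_iff_eq Nat.prime_three Nat.prime_two).mp
      (Nat.prime_three.dvd_of_dvd_pow (hk.symm ▸ dvd_rfl : 3 ∣ 2 ^ k))
    omega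
  · intro u v hu hv hper
    by_contra huv
    set c := x.cycleOf u with hcdef
    have hcy : c.IsCycle := isCycle_cycleOf x hu
    have hcP : c ∈ P := by
      have hcx : Commute x c := (cycleOf_mem_cycleFactorsFinset_iff.mpr (mem_support.mpr hu)) |>
        self_mem_cycle_factors_commute |>.symm
      have hc2 : IsPGroup 2 (Subgroup.zpowers c) := by
        obtain ⟨k, hk⟩ := P.2 ⟨x, hP⟩
        have hk' : x ^ 2 ^ k = 1 := congrArg Subtype.val hk
        have hck : c ^ 2 ^ k = 1 := hcy.pow_eq_one_iff.mpr ⟨u, by rw [hcdef, cycleOf_apply_self]; exact hu,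
          by rw [hcdef, cycleOf_pow_apply_self, hk', Perm.one_apply]⟩
        rintro ⟨_, i, rfl⟩
        refine ⟨k, Subtype.ext ?_⟩
        show (c ^ i) ^ 2 ^ k = 1
        rw [← zpow_natCast, ← zpow_mul, mul_comm, zpow_mul, zpow_natCast, hck, one_zpow]
      have hxp : IsPGroup 2 (Subgroup.zpowers x) := P.2.to_le (Subgroup.zpowers_le.mpr hP)
      refine mem_of_unique hU hP (hxp.to_sup_of_normal_right' hc2 ?_)
        (Subgroup.mem_sup_left (Subgroup.mem_zpowers x)) (Subgroup.mem_sup_right (Subgroup.mem_zpowers c))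
      rw [Subgroup.zpowers_le, Subgroup.mem_normalizer_iff]
      intro y
      constructor
      · rintro ⟨i, rfl⟩
        exact ⟨i, by simp only; rw [(hcx.zpow_right i).eq, mul_inv_cancel_right]⟩
      · rintro ⟨i, hi⟩
        refine ⟨i, ?_⟩
        simp only at hi ⊢
        calc c ^ i = x⁻¹ * (x * c ^ i) := by group
          _ = x⁻¹ * (c ^ i * x) := by rw [(hcx.zpow_right i).eq]
          _ = y := by rw [hi]; group
    have hsP := swap_mem hU hP (fun h' => huv h'.symm) hper.symm
    obtain ⟨k, hk⟩ := two_pow (mul_mem hsP hcP)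
    obtain ⟨j, hj⟩ := two_pow hcP
    rw [hcy.orderOf] at hj
    set l := x.toList u with hl
    have hl2 : 2 ≤ l.length := two_le_length_toList_iff_mem_support.mpr (mem_support.mpr hu)
    have hlc : l.formPerm = c := formPerm_toList x u
    have hvl : v ∉ l := fun h' => huv (mem_toList_iff.mp h').1
    have hnd : (v :: l).Nodup := List.nodup_cons.mpr ⟨hvl, nodup_toList x u⟩
    have h0 : 0 < l.length := by omega
    obtain ⟨w, l', hlw⟩ := List.exists_cons_of_ne_nil (List.ne_nil_of_length_pos h0)
    have hwu : w = u := by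
      have := toList_getElem_zero x u (mem_support.mpr hu)
      simp only [hlw, List.getElem_cons_zero, ← hl] at this
      exact this
    subst hwu
    have hform : (v :: l).formPerm = swap v w * c := by
      rw [hlw, List.formPerm_cons_cons, ← hlw, hlc]
    have hcy' : (v :: l).formPerm.IsCycle := List.isCycle_formPerm hnd (by simp; omega)
    have hcard : (v :: l).formPerm.support.card = l.length + 1 := by
      rw [List.support_formPerm_of_nodup _ hnd (fun z hz => by
        have := congrArg List.length hz; simp only [List.length_cons, List.length_nil] at this; omega),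
        List.toFinset_card_of_nodup hnd, List.length_cons]
    have hlen : l.length = c.support.card := length_toList x w
    rw [← hform, hcy'.orderOf, hcard, hlen, hj] at hk
    have hj1 : 1 ≤ j := Nat.one_le_iff_ne_zero.mpr fun e => by
      rw [e, pow_zero, ← hlen] at hj; omega
    have h2j : 2 ∣ 2 ^ j := dvd_pow_self 2 (by omega)
    rcases Nat.eq_zero_or_pos k with rfl | hk0
    · have := Nat.one_le_two_pow (n := j); omega
    · have := dvd_pow_self 2 (n := k) (by omega); omega

theorem cond_iff (x : Perm α) :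
    Cond x ↔ (Fintype.card α ≤ x.support.card + 2 ∧ x.cycleType.Nodup) := by
  classical
  have hfix : (∀ a b c : α, x a = a → x b = b → x c = c → a = b ∨ a = c ∨ b = c) ↔
      Fintype.card α ≤ x.support.card + 2 := by
    rw [show (Fintype.card α ≤ x.support.card + 2) ↔ (x.supportᶜ.card ≤ 2) by
      rw [Finset.card_compl]; omega]
    constructor
    · intro h
      by_contra hlt
      obtain ⟨a, b, c, ha, hb, hc, hab, hac, hbc⟩ := Finset.two_lt_card_iff.mp (by omega : 2 < x.supportᶜ.card)
      simp only [Finset.mem_compl, mem_support, not_not] at ha hb hc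
      rcases h a b c ha hb hc with e | e | e
      · exact hab e
      · exact hac e
      · exact hbc e
    · intro h a b c ha hb hc
      by_contra hne
      push Not at hne
      have : 2 < x.supportᶜ.card := Finset.two_lt_card_iff.mpr ⟨a, b, c, by simpa using ha, by simpa using hb,
        by simpa using hc, hne.1, hne.2.1, hne.2.2⟩
      omega
  have hperL : ∀ i, x i ≠ i → (x.cycleOf i).support.card = per x i := by
    intro i hi
    have hc := isCycle_cycleOf x hi
    rw [← hc.orderOf]
    refine Nat.dvd_antisymm (orderOf_dvd_of_pow_eq_one (hc.pow_eq_one_iff.mpr ⟨i, ?_, ?_⟩)) ?_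
    · rw [cycleOf_apply_self]; exact hi
    · rw [cycleOf_pow_apply_self]; exact (pow_apply_eq_iff x i _).mpr dvd_rfl
    · rw [← pow_apply_eq_iff, ← cycleOf_pow_apply_self, pow_orderOf_eq_one, Perm.one_apply]
  have hnd : x.cycleType.Nodup ↔ ∀ i j : α, x i ≠ i → x j ≠ j → per x i = per x j → x.SameCycle i j := by
    rw [cycleType_def, Multiset.nodup_map_iff_inj_on x.cycleFactorsFinset.nodup]
    constructor
    · intro h i j hi hj hper
      have e := h _ (cycleOf_mem_cycleFactorsFinset_iff.mpr (mem_support.mpr hi)) _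
        (cycleOf_mem_cycleFactorsFinset_iff.mpr (mem_support.mpr hj))
        (by simp only [Function.comp_apply]; rw [hperL i hi, hperL j hj, hper])
      have h1 : i ∈ (x.cycleOf j).support := by
        rw [← e, mem_support, cycleOf_apply_self]; exact hi
      exact (mem_support_cycleOf_iff.mp h1).1.symm
    · intro h c hc d hd hcd
      simp only [Function.comp_apply] at hcd
      obtain ⟨i, hi⟩ := (mem_cycleFactorsFinset_iff.mp hc).1.nonempty_support
      obtain ⟨j, hj⟩ := (mem_cycleFactorsFinset_iff.mp hd).1.nonempty_support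
      have ec := cycle_is_cycleOf hi hc
      have ed := cycle_is_cycleOf hj hd
      have hxi : x i ≠ i := mem_support.mp (mem_cycleFactorsFinset_support_le hc hi)
      have hxj : x j ≠ j := mem_support.mp (mem_cycleFactorsFinset_support_le hd hj)
      rw [ec, ed]
      refine ((h i j hxi hxj ?_).cycleOf_eq)
      rw [← hperL i hxi, ← hperL j hxj, ← ec, ← ed, hcd]
  exact and_congr hfix hnd.symm

theorem unique_iff (x : Perm α) (hx : ∃ k : ℕ, orderOf x = 2 ^ k) :
    (∃! P : Sylow 2 (Perm α), x ∈ P) ↔ (Fintype.card α ≤ x.support.card + 2 ∧ x.cycleType.Nodup) := by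
  rw [← cond_iff]
  refine ⟨cond_of_unique, fun h => ?_⟩
  obtain ⟨k, hk⟩ := hx
  obtain ⟨P, hP⟩ := (IsPGroup.of_card (G := Subgroup.zpowers x) (p := 2) (n := k)
    (by rw [Nat.card_zpowers, hk])).exists_le_sylow
  exact ⟨P, hP (Subgroup.mem_zpowers x), fun Q hQ => eq_of_mem hQ (hP (Subgroup.mem_zpowers x)) h⟩

end CfsgLib.UniqSylowSym
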