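import Cfsg.Agent.Lib.UnitarySuzuki

/-!
A group containing the unitary Heisenberg `2`-group with index two centralizes its centre.
-/

set_option autoImplicit false
set_option linter.unusedSectionVars false

namespace CfsgLib.UnitaryInvolution

open CfsgLib.PSUBorel

variable {F : Type*} [Field F] [Fintype F] [CharP F 2]

/-- An additive involution compatible with the norm form preserves every norm, given a fixed point `1`. -/
theorem norm_fixed_of_one (σ : F →+* F) (q : ℕ) (hcard : Fintype.card F = q ^ 2) (hσ : ∀ x, σ x = x ^ q)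
    (hinv : ∀ x, σ (σ x) = x) (htr : ∃ e : F, e + σ e = 1)
    (φ : F →+ F) (hφ : ∀ x, φ (φ x) = x) (h1 : φ 1 = 1)
    (hN : ∀ a b c, a * σ a + b * σ b = c * σ c → φ a * σ (φ a) + φ b * σ (φ b) = φ c * σ (φ c)) :
    ∀ a, φ a * σ (φ a) = a * σ a := by
  classical
  have h2 : (2 : F) = 0 := CharTwo.two_eq_zero
  have hnorm : ∀ a, σ (a * σ a) = a * σ a := fun a => by rw [map_mul, hinv, mul_comm]
  have hinj : Function.Injective σ := σ.injective
  -- square roots in the fixed field
  have hsqrt : ∀ b, σ b = b → ∃ s, σ s = s ∧ s * σ s = b := by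
    intro b hb
    obtain ⟨s, hs⟩ : ∃ s, s * s = b := by
      have hi : Function.Injective (fun s : F => s * s) := fun s t h => by
        have : (s - t) * (s - t) = 0 := by
          have h' : s * s = t * t := h
          linear_combination h' + (t * t - s * t) * h2
        exact sub_eq_zero.mp (mul_self_eq_zero.mp this)
      exact Finite.surjective_of_injective hi b
    have hss : σ s = s := by
      have h' : (σ s - s) * (σ s - s) = 0 := by
        have h'' : σ s * σ s = b := by rw [← map_mul, hs, hb]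
        linear_combination h'' - hs + (s * s - σ s * s) * h2
      exact sub_eq_zero.mp (mul_self_eq_zero.mp h')
    exact ⟨s, hss, by rw [hss, hs]⟩
  have htwo : ∀ a b, a * σ a = b * σ b → φ a * σ (φ a) = φ b * σ (φ b) := fun a b h => by
    have := hN a 0 b (by rw [zero_mul, add_zero, h])
    rwa [map_zero, zero_mul, add_zero] at this
  -- the polar form
  have hpolar : ∀ x y, ∀ c, c * σ c = x * σ y + σ (x * σ y) →
      φ x * σ (φ y) + σ (φ x * σ (φ y)) = φ c * σ (φ c) := by
    intro x y c hc
    obtain ⟨d, -, hd⟩ := hsqrt (x * σ x + y * σ y) (by rw [map_add, hnorm, hnorm])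
    have h3 := hN x y d hd.symm
    have h4 := hN d c (x + y) (by
      rw [hd, hc, map_mul, hinv, map_add]; ring)
    rw [map_add φ, map_add σ] at h4
    rw [map_mul, hinv]
    linear_combination -h4 + h3 + ((φ d * σ (φ d)) - (φ x * σ (φ x)) - σ (φ y) * φ y) * h2
  -- the fixed field is preserved
  have hfix : ∀ a, σ a = a → σ (φ a) = φ a := by
    intro a ha
    have h := hpolar a 1 0 (by rw [map_one, mul_one, ha, CharTwo.add_self_eq_zero, zero_mul])
    rw [h1, map_one, mul_one, map_zero, zero_mul] at h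
    linear_combination h - φ a * h2
  -- norms commute with the map
  obtain ⟨e, he⟩ := htr
  have hNφ : ∀ g, φ g * σ (φ g) = φ (g * σ g) := by
    intro g
    have ha := hnorm g
    generalize hga : g * σ g = a at ha ⊢
    have h5 := hpolar e a g (by rw [ha, map_mul, ha, ← add_mul, he, one_mul, hga])
    have h6 := hpolar e 1 1 (by rw [map_one, mul_one, mul_one, he])
    rw [h1, map_one, mul_one, mul_one] at h6
    rw [hfix a ha, map_mul, hfix a ha, ← add_mul, h6, one_mul] at h5
    exact h5.symm
  have hTφ : ∀ x y, φ x * σ (φ y) + σ (φ x * σ (φ y)) = φ (x * σ y + σ (x * σ y)) := by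
    intro x y
    obtain ⟨c, -, hc⟩ := hsqrt (x * σ y + σ (x * σ y)) (by rw [map_add, hinv, add_comm])
    rw [hpolar x y c hc, hNφ, hc]
  have hmulK : ∀ a b, σ a = a → σ b = b → φ (a * b) = φ a * φ b := by
    intro a b ha hb
    have h7 := hTφ (b * e) a
    have h8 := hTφ (b * e) 1
    rw [h1, map_one, mul_one, mul_one, map_mul σ b, hb, ← mul_add, he, mul_one] at h8
    rw [hfix a ha, map_mul σ (φ (b * e)), hfix a ha, ← add_mul, h8, ha, map_mul σ (b * e), map_mul σ b, hb, ha,
      ← add_mul, ← mul_add, he, mul_one, mul_comm b] at h7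
    rw [← h7, mul_comm]
  have hsemi : ∀ a x, σ a = a → φ (a * x) = φ a * φ x := by
    intro a x ha
    by_contra hne
    have hu : φ (a * x) - φ a * φ x ≠ 0 := sub_ne_zero.mpr hne
    obtain ⟨y, hy⟩ : ∃ y, σ (φ y) = e / (φ (a * x) - φ a * φ x) :=
      ⟨φ (σ (e / (φ (a * x) - φ a * φ x))), by rw [hφ, hinv]⟩
    have hfx : σ (x * σ y + σ (x * σ y)) = x * σ y + σ (x * σ y) := by rw [map_add, hinv, add_comm]
    have h7 := hTφ (a * x) y
    rw [show a * x * σ y + σ (a * x * σ y) = a * (x * σ y + σ (x * σ y)) by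
      rw [mul_assoc, map_mul, ha]; ring, hmulK _ _ ha hfx, ← hTφ] at h7
    have h9 : (φ (a * x) - φ a * φ x) * σ (φ y) + σ ((φ (a * x) - φ a * φ x) * σ (φ y)) = 0 := by
      rw [sub_mul, map_sub, mul_assoc (φ a), map_mul σ (φ a), hfix a ha]
      linear_combination h7
    rw [hy, mul_div_cancel₀ _ hu, he] at h9
    exact one_ne_zero h9
  -- multiplicativity
  have hdecomp : ∀ x, ∃ u v, σ u = u ∧ σ v = v ∧ x = u + v * e := fun x => by
    refine ⟨x + (x + σ x) * e, x + σ x, ?_, by rw [map_add, hinv, add_comm], ?_⟩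
    · rw [map_add, map_mul, map_add, hinv]
      linear_combination (x + σ x) * he + (-x - (x + σ x) * e + σ x + x) * h2
    · linear_combination -((x + σ x) * e) * h2
  have hee : φ (e * e) = φ e * φ e := by
    have h3 := hTφ e 1
    rw [h1, map_one, mul_one, mul_one, he, h1] at h3
    rw [show e * e = e + e * σ e by linear_combination e * he - (e * σ e) * h2, map_add, ← hNφ]
    linear_combination -(φ e) * h3 + (φ e * σ (φ e)) * h2
  have hmulφ : ∀ x y, φ (x * y) = φ x * φ y := by
    intro x y
    obtain ⟨u, v, hu, hv, rfl⟩ := hdecomp x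
    obtain ⟨u', v', hu', hv', rfl⟩ := hdecomp y
    rw [show (u + v * e) * (u' + v' * e) = u * u' + u * (v' * e) + v * (u' * e) + v * (v' * (e * e)) by ring]
    simp only [map_add, hsemi u _ hu, hsemi v _ hv, hsemi u' _ hu', hsemi v' _ hv', hee]
    ring
  let Φ : F →+* F := { φ with map_one' := h1, map_mul' := hmulφ }
  suffices hK : ∀ b, σ b = b → φ b = b by
    intro a
    obtain ⟨s, hs, hsa⟩ := hsqrt (a * σ a) (hnorm a)
    rw [← htwo s a hsa, hK s hs, hsa]
  by_cases hid : ∀ x, φ x = x
  · exact fun b _ => hid b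
  push Not at hid
  obtain ⟨t, ht⟩ := hid
  -- both fixed fields have `q` elements
  set k : Subfield F := RingHom.eqLocusField Φ (RingHom.id F) with hk
  have hmem : ∀ x, x ∈ k ↔ φ x = x := fun x => Iff.rfl
  let tr : F →+ F := AddMonoidHom.mk' (fun b => b + φ b) fun a b => by rw [map_add]; ring
  have hkq : q ≤ Nat.card k := by
    have hc := AddSubgroup.card_mul_index tr.ker
    rw [AddSubgroup.index_ker, Nat.card_eq_fintype_card (α := F), hcard] at hc
    have e1 : Nat.card tr.ker ≤ Nat.card k := Nat.card_le_card_of_injective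
      (fun x => ⟨x.1, (hmem _).mpr (by
        have : x.1 + φ x.1 = 0 := x.2
        linear_combination this - x.1 * h2)⟩) (fun x y h => Subtype.ext (congrArg (fun z : k => (z : F)) h :))
    have e2 : Nat.card tr.range ≤ Nat.card k := Nat.card_le_card_of_injective
      (fun x => ⟨x.1, (hmem _).mpr (by
        obtain ⟨y, hy⟩ := x.2
        rw [← hy]
        show φ (y + φ y) = y + φ y
        rw [map_add, hφ, add_comm])⟩) (fun x y h => Subtype.ext (congrArg (fun z : k => (z : F)) h :))
    have e3 : q ^ 2 ≤ Nat.card k ^ 2 := by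
      rw [← hc, pow_two]; exact Nat.mul_le_mul e1 e2
    exact (Nat.pow_le_pow_iff_left two_ne_zero).mp e3
  have hkq' : Nat.card k = q := by
    refine le_antisymm ?_ hkq
    have hinj' : Function.Injective (fun p : k × k => (p.1 : F) + p.2 * t) := by
      intro p p' h
      simp only at h
      by_cases hz : p.2 = p'.2
      · rw [hz] at h
        exact Prod.ext (Subtype.ext (add_right_cancel h)) hz
      · exfalso
        have hd : (p.2 : F) - p'.2 ≠ 0 := sub_ne_zero.mpr fun h' => hz (Subtype.ext h')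
        have htk : t = ((p'.1 : F) - p.1) / ((p.2 : F) - p'.2) := by
          rw [eq_div_iff hd]; linear_combination h
        exact ht ((hmem t).mp (htk ▸ k.div_mem (k.sub_mem p'.1.2 p.1.2) (k.sub_mem p.2.2 p'.2.2)))
    have := Nat.card_le_card_of_injective _ hinj'
    rw [Nat.card_prod, Nat.card_eq_fintype_card (α := F), hcard, ← pow_two] at this
    exact (Nat.pow_le_pow_iff_left two_ne_zero).mp this
  have hsub : (k : Set F) ⊆ {b | σ b = b} := fun x hx => by
    haveI : Fintype k := Fintype.ofFinite _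
    have := FiniteField.pow_card (⟨x, hx⟩ : k)
    rw [← Nat.card_eq_fintype_card, hkq'] at this
    show σ x = x
    rw [hσ]
    exact congrArg Subtype.val this
  intro b hb
  have heq : (k : Set F) = {b | σ b = b} := by
    refine Set.eq_of_subset_of_ncard_le hsub ?_ (Set.toFinite _)
    let tr' : F →+ F := AddMonoidHom.mk' (fun b => b + σ b) fun a b => by rw [map_add]; ring
    have hc := AddSubgroup.card_mul_index tr'.ker
    rw [AddSubgroup.index_ker, Nat.card_eq_fintype_card (α := F), hcard] at hc
    have e1 : ({b | σ b = b} : Set F) = (tr'.ker : Set F) := Set.ext fun x => by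
      show σ x = x ↔ x + σ x = 0
      exact ⟨fun h => by rw [h, CharTwo.add_self_eq_zero], fun h => by linear_combination h - x * h2⟩
    have e2 : ({b | σ b = b} : Set F) = (tr'.range : Set F) := Set.ext fun x => by
      constructor
      · intro (hx : σ x = x)
        exact ⟨e * x, by show e * x + σ (e * x) = x; rw [map_mul, hx, ← add_mul, he, one_mul]⟩
      · rintro ⟨y, rfl⟩
        show σ (y + σ y) = y + σ y
        rw [map_add, hinv, add_comm]
    have h3 : ({b | σ b = b} : Set F).ncard ^ 2 = q ^ 2 := by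
      rw [← hc, pow_two]
      nth_rw 1 [e1]
      rw [e2]
      rfl
    rw [Nat.pow_left_injective two_ne_zero h3, ← Nat.card_coe_set_eq, ← hkq']
    rfl
  exact (hmem b).mp (heq.ge hb)

/-- An additive involution compatible with the norm form preserves every norm. -/
theorem norm_fixed (σ : F →+* F) (q : ℕ) (hcard : Fintype.card F = q ^ 2) (hσ : ∀ x, σ x = x ^ q)
    (hinv : ∀ x, σ (σ x) = x) (htr : ∃ e : F, e + σ e = 1)
    (φ : F →+ F) (hφ : ∀ x, φ (φ x) = x)
    (hN : ∀ a b c, a * σ a + b * σ b = c * σ c → φ a * σ (φ a) + φ b * σ (φ b) = φ c * σ (φ c)) :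
    ∀ a, φ a * σ (φ a) = a * σ a := by
  obtain ⟨c, hc0, hc⟩ : ∃ c, c ≠ 0 ∧ φ c = c := by
    by_cases h : φ 1 = 1
    · exact ⟨1, one_ne_zero, h⟩
    · refine ⟨1 + φ 1, fun h' => h ?_, by rw [map_add, hφ, add_comm]⟩
      linear_combination h' - (1 : F) * CharTwo.two_eq_zero (R := F)
  let ψ : F →+ F := AddMonoidHom.mk' (fun x => φ (c * x) / c) fun a b => by rw [mul_add, map_add, add_div]
  have hψ : ∀ x, ψ x = φ (c * x) / c := fun _ => rfl
  have hNc : ∀ x, c * x * σ (c * x) = c * σ c * (x * σ x) := fun x => by rw [map_mul]; ring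
  have hNc0 : c * σ c ≠ 0 := mul_ne_zero hc0 (by simpa using hc0)
  have hψN : ∀ x, c * σ c * (ψ x * σ (ψ x)) = φ (c * x) * σ (φ (c * x)) := fun x => by
    rw [← hNc, hψ, mul_div_cancel₀ _ hc0]
  have key := norm_fixed_of_one σ q hcard hσ hinv htr ψ
    (fun x => by rw [hψ, hψ, mul_div_cancel₀ _ hc0, hφ, mul_div_cancel_left₀ _ hc0])
    (by rw [hψ, mul_one, hc, div_self hc0])
    (fun a b d h => by
      refine mul_left_cancel₀ hNc0 ?_
      rw [mul_add, hψN, hψN, hψN]
      exact hN _ _ _ (by rw [hNc, hNc, hNc, ← mul_add, h]))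
  intro a
  have h := hψN (a / c)
  rw [key, ← hNc, mul_div_cancel₀ _ hc0] at h
  exact h.symm

end CfsgLib.UnitaryInvolution
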