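import Cfsg.Agent.Lib.UnitaryInvolution

/-!
Coordinates on a Sylow `2`-subgroup of `SU(3, 2ⁿ)` and involutory automorphisms.
-/

set_option autoImplicit false
set_option linter.unusedSectionVars false

namespace CfsgLib.UnitaryInvolution

open Matrix CfsgLib.PSUBorel

variable {F : Type*} [Field F] [Fintype F]

theorem exists_coords {n : ℕ} (hn : 2 ≤ n) (hF : Fintype.card F = (2 ^ n) ^ 2) (S : Sylow 2 (Cfsg.PSU 3 F (2 ^ n))) :
    ∃ (σ : F →+* F) (κ : ↥(S : Subgroup (Cfsg.PSU 3 F (2 ^ n))) → F × F), CharP F 2 ∧ (∀ x, σ x = x ^ (2 ^ n)) ∧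
      (∀ x, σ (σ x) = x) ∧ (∃ t, σ t ≠ t) ∧ (∃ e : F, e + σ e = 1) ∧ Function.Injective κ ∧
      (∀ x y, κ (x * y) = ((κ x).1 + (κ y).1, (κ y).2 - (κ x).1 * σ (κ y).1 + (κ x).2)) ∧
      (∀ a b : F, (∃ x, κ x = (a, b)) ↔ b + σ b + a * σ a = 0) := by
  classical
  haveI : Fact (Nat.Prime 2) := ⟨Nat.prime_two⟩
  haveI : CharP F 2 := charP_of_card_eq_prime_pow (f := n * 2) (by rw [hF, ← pow_mul])
  have hK : Fintype.card F = (2 ^ n) ^ 2 := hF
  obtain ⟨-, σ, hσ⟩ := CfsgLib.UnitaryBasic.frob_exists hK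
  let c : Conj F := ⟨2 ^ n, σ, hK, hσ⟩
  obtain ⟨E⟩ := exists_iso c (n := 3)
  let φ : SUs c 3 →* Cfsg.PSU 3 F (2 ^ n) := (QuotientGroup.mk' (Subgroup.center (Cfsg.SU 3 F (2 ^ n)))).comp E.toMonoidHom
  have hker : ∀ z ∈ φ.ker, E z ∈ Subgroup.center (Cfsg.SU 3 F (2 ^ n)) := fun z hz => (QuotientGroup.eq_one_iff (E z)).mp hz
  have hc : Cover c 2 φ := by
    refine ⟨(QuotientGroup.mk'_surjective _).comp E.surjective, fun z hz => ?_, Nat.gcd 3 (2 ^ n + 1),
      Nat.Coprime.coprime_dvd_left (Nat.gcd_dvd_left _ _) (by norm_num), fun z hz => ?_⟩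
    · exact Subgroup.mem_center_iff.mpr fun x => E.injective (by
        rw [map_mul, map_mul]; exact Subgroup.mem_center_iff.mp (hker z hz) (E x))
    · apply E.injective
      rw [map_pow, map_one, ← Cfsg.Agent.S0280.center_card hK 3 (by norm_num)]
      exact congrArg Subtype.val (pow_card_eq_one' (x := (⟨E z, hker z hz⟩ : Subgroup.center (Cfsg.SU 3 F (2 ^ n)))))
  obtain ⟨U, hU⟩ := exists_sylow c 2 hc
  have hinj : Function.Injective (φ.comp (UU c 3).subtype) := fun a b h => by
    obtain ⟨j, hj⟩ := isPGroup_UU c 2 a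
    exact Subtype.ext (eq_of_map c 2 hc b.2 (congrArg Subtype.val hj) h)
  have hrng : (φ.comp (UU c 3).subtype).range = (U : Subgroup (Cfsg.PSU 3 F (2 ^ n))) := by
    rw [hU, MonoidHom.range_comp, Subgroup.range_subtype]
  let e : (S : Subgroup (Cfsg.PSU 3 F (2 ^ n))) ≃* UU c 3 :=
    (Sylow.equiv S U).trans ((MulEquiv.subgroupCongr hrng.symm).trans (MonoidHom.ofInjective hinj).symm)
  have hform : ∀ A : UU c 3, A.1.1.1 1 2 = -σ (A.1.1.1 0 1) ∧
      A.1.1.1 0 2 + σ (A.1.1.1 0 2) + A.1.1.1 0 1 * σ (A.1.1.1 0 1) = 0 := by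
    intro A
    have h00 := UU_diag c A.2 (0 : Fin 3)
    have h11 := UU_diag c A.2 (1 : Fin 3)
    have h10 : A.1.1.1 1 0 = 0 := UU_below c A.2 (show (0 : Fin 3) < 1 by decide)
    have h01 := cond_apply c A.1.2 (0 : Fin 3) 1
    have h0 := cond_apply c A.1.2 (0 : Fin 3) 0
    rw [Fin.sum_univ_three, if_neg (by decide)] at h01 h0
    rw [show (0 : Fin 3).rev = 2 from rfl, show (1 : Fin 3).rev = 1 from rfl, show (2 : Fin 3).rev = 0 from rfl] at h01 h0
    change _ + _ * σ _ + _ * σ _ = _ at h01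
    change _ * σ _ + _ * σ _ + _ * σ _ = _ at h01 h0
    rw [h00, h11, h10, map_zero, map_one, one_mul, mul_one, mul_zero, add_zero] at h01
    rw [h00, map_one, one_mul, mul_one] at h0
    refine ⟨?_, by linear_combination h0⟩
    have h3 := congrArg σ h01
    rw [map_add, c.invol, map_zero] at h3
    linear_combination h3
  let κ : UU c 3 → F × F := fun A => (A.1.1.1 0 1, A.1.1.1 0 2)
  refine ⟨σ, fun x => κ (e x), inferInstance, hσ, c.invol, c.exists_moved, c.exists_trace_one, ?_,
    fun x y => ?_, fun a b => ?_⟩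
  · intro x y h
    refine e.injective (Subtype.ext (SUs_ext c ?_))
    have h1 : (e x).1.1.1 0 1 = (e y).1.1.1 0 1 := congrArg Prod.fst h
    have h2 : (e x).1.1.1 0 2 = (e y).1.1.1 0 2 := congrArg Prod.snd h
    ext i j
    fin_cases i <;> fin_cases j
    · exact (UU_diag c (e x).2 0).trans (UU_diag c (e y).2 0).symm
    · exact h1
    · exact h2
    · exact (UU_below c (e x).2 (show (0 : Fin 3) < 1 by decide)).trans
        (UU_below c (e y).2 (show (0 : Fin 3) < 1 by decide)).symm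
    · exact (UU_diag c (e x).2 1).trans (UU_diag c (e y).2 1).symm
    · exact ((hform _).1.trans (congrArg (fun t => -σ t) h1)).trans (hform _).1.symm
    · exact (UU_below c (e x).2 (show (0 : Fin 3) < 2 by decide)).trans
        (UU_below c (e y).2 (show (0 : Fin 3) < 2 by decide)).symm
    · exact (UU_below c (e x).2 (show (1 : Fin 3) < 2 by decide)).trans
        (UU_below c (e y).2 (show (1 : Fin 3) < 2 by decide)).symm
    · exact (UU_diag c (e x).2 2).trans (UU_diag c (e y).2 2).symm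
  · show κ (e (x * y)) = _
    rw [map_mul]
    refine Prod.ext ?_ ?_
    · show ((e x).1.1.1 * (e y).1.1.1) 0 1 = _
      rw [Matrix.mul_apply, Fin.sum_univ_three, UU_diag c (e x).2, UU_diag c (e y).2,
        UU_below c (e y).2 (show (1 : Fin 3) < 2 by decide)]
      show _ = (e x).1.1.1 0 1 + (e y).1.1.1 0 1
      ring
    · show ((e x).1.1.1 * (e y).1.1.1) 0 2 = _
      rw [Matrix.mul_apply, Fin.sum_univ_three, UU_diag c (e x).2, UU_diag c (e y).2, (hform (e y)).1]
      show _ = (e y).1.1.1 0 2 - (e x).1.1.1 0 1 * σ ((e y).1.1.1 0 1) + (e x).1.1.1 0 2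
      ring
  · constructor
    · rintro ⟨x, hx⟩
      have h1 : (e x).1.1.1 0 1 = a := congrArg Prod.fst hx
      have h2 : (e x).1.1.1 0 2 = b := congrArg Prod.snd hx
      rw [← h1, ← h2]
      exact (hform _).2
    · intro hb
      refine ⟨e.symm ⟨r3 c a b hb, ?_⟩, ?_⟩
      · refine ⟨fun i j hij => ?_, fun i j hij => ?_⟩
        · show m3 σ a b i j = 0
          fin_cases i <;> fin_cases j <;> first | rfl | (exfalso; simp at hij)
        · show m3 σ a b i j = (1 : Matrix (Fin 3) (Fin 3) F) i j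
          fin_cases i <;> fin_cases j <;> first | rfl | (exfalso; simp at hij) | simp [m3]
      · show κ (e (e.symm _)) = _
        rw [MulEquiv.apply_symm_apply]
        rfl

/-- A group with such coordinates and index two in a group has centre central in the overgroup. -/
theorem central_of_index_two {W : Type*} [Group W] [CharP F 2] (σ : F →+* F) (q : ℕ)
    (hcard : Fintype.card F = q ^ 2) (hσ : ∀ x, σ x = x ^ q) (hinv : ∀ x, σ (σ x) = x) (hmoved : ∃ t, σ t ≠ t)
    (htr : ∃ e : F, e + σ e = 1) (κ : W → F × F) (hinj : Function.Injective κ)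
    (hmul : ∀ x y, κ (x * y) = ((κ x).1 + (κ y).1, (κ y).2 - (κ x).1 * σ (κ y).1 + (κ x).2))
    (hrange : ∀ a b : F, (∃ x, κ x = (a, b)) ↔ b + σ b + a * σ a = 0)
    (α : MulAut W) (w₀ : W) (hαα : ∀ x, α (α x) = w₀ * x * w₀⁻¹) (z : W) (hz : z ∈ Subgroup.center W) : α z = z := by
  classical
  have h2 : (2 : F) = 0 := CharTwo.two_eq_zero
  have hmem : ∀ x, (κ x).2 + σ (κ x).2 + (κ x).1 * σ (κ x).1 = 0 := fun x => (hrange _ _).mp ⟨x, rfl⟩
  obtain ⟨e, he⟩ := htr
  have hnorm : ∀ a, σ (a * σ a) = a * σ a := fun a => by rw [map_mul, hinv, mul_comm]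
  have hlift : ∀ a, ∃ x, κ x = (a, e * (a * σ a)) := fun a => (hrange _ _).mpr (by
    rw [map_mul, hnorm]
    linear_combination (a * σ a) * he + (a * σ a) * h2)
  have hcen : ∀ x, x ∈ Subgroup.center W ↔ (κ x).1 = 0 := by
    intro x
    constructor
    · intro hx
      have key : ∀ a, (κ x).1 * σ a = a * σ (κ x).1 := fun a => by
        obtain ⟨y, hy⟩ := hlift a
        have h := congrArg Prod.snd (congrArg κ (Subgroup.mem_center_iff.mp hx y))
        rw [hmul, hmul, hy] at h
        linear_combination h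
      have h1 := key 1
      rw [map_one, mul_one, one_mul] at h1
      obtain ⟨t, ht⟩ := hmoved
      have h3 := key t
      rw [← h1] at h3
      by_contra hne
      exact ht (mul_left_cancel₀ hne (h3.trans (mul_comm _ _)))
    · intro hx
      refine Subgroup.mem_center_iff.mpr fun y => hinj ?_
      rw [hmul, hmul, hx]
      refine Prod.ext (by simp) ?_
      simp [add_comm]
  have hfst : ∀ x y, (κ x).1 = (κ y).1 → (κ (α x)).1 = (κ (α y)).1 := by
    intro x y h
    have hd : x⁻¹ * y ∈ Subgroup.center W := by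
      rw [hcen]
      have := congrArg Prod.fst (hmul x (x⁻¹ * y))
      rw [mul_inv_cancel_left] at this
      simp only at this
      rw [← h] at this
      linear_combination -this
    have hd' : α (x⁻¹ * y) ∈ Subgroup.center W := Subgroup.mem_center_iff.mpr fun u => by
      obtain ⟨v, rfl⟩ := α.surjective u
      rw [← map_mul, ← map_mul, Subgroup.mem_center_iff.mp hd v]
    rw [← mul_inv_cancel_left x y, map_mul, hmul, (hcen _).mp hd', add_zero]
  choose ℓ hℓ using hlift
  have hℓ1 : ∀ a, (κ (ℓ a)).1 = a := fun a => by rw [hℓ]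
  let φ : F →+ F := AddMonoidHom.mk' (fun a => (κ (α (ℓ a))).1) (fun a b => by
    rw [hfst (ℓ (a + b)) (ℓ a * ℓ b) (by rw [hmul, hℓ1, hℓ1, hℓ1]), map_mul, hmul])
  have hφ : ∀ x, φ ((κ x).1) = (κ (α x)).1 := fun x => hfst _ _ (hℓ1 _)
  have hone : κ 1 = (0, 0) := by
    have h := hmul 1 1
    rw [mul_one] at h
    have h1 : (κ 1).1 = 0 := by simpa using congrArg Prod.fst h
    have h2 := congrArg Prod.snd h
    simp [h1] at h2
    exact Prod.ext h1 h2
  have hinvol : ∀ a, φ (φ a) = a := by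
    intro a
    show φ ((κ (α (ℓ a))).1) = a
    rw [hφ, hαα, hmul, hmul, hℓ1]
    have h3 := congrArg Prod.fst (hmul w₀ w₀⁻¹)
    rw [mul_inv_cancel, hone] at h3
    simp only at h3 ⊢
    linear_combination -h3
  -- squares
  have hsq : ∀ x, κ (x * x) = (0, -((κ x).1 * σ (κ x).1)) := fun x => by
    rw [hmul]
    exact Prod.ext (CharTwo.add_self_eq_zero _) (by show _ = -((κ x).1 * σ (κ x).1); linear_combination (κ x).2 * h2)
  have key : ∀ a, φ a * σ (φ a) = a * σ a := by
    refine norm_fixed σ q hcard hσ hinv ⟨e, he⟩ φ hinvol fun a b c h => ?_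
    have hW : ℓ a * ℓ a * (ℓ b * ℓ b) = ℓ c * ℓ c := hinj (by
      rw [hmul, hsq, hsq, hsq, hℓ1, hℓ1, hℓ1]
      exact Prod.ext (add_zero _) (by show _ = -(c * σ c); simp only; rw [zero_mul]; linear_combination -h))
    have h' := congrArg Prod.snd (congrArg κ (congrArg α hW))
    rw [map_mul α (ℓ a * ℓ a), map_mul α (ℓ a), map_mul α (ℓ b), map_mul α (ℓ c), hmul, hsq, hsq, hsq] at h'
    simp only [zero_mul] at h'
    show (κ (α (ℓ a))).1 * σ (κ (α (ℓ a))).1 + (κ (α (ℓ b))).1 * σ (κ (α (ℓ b))).1 =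
      (κ (α (ℓ c))).1 * σ (κ (α (ℓ c))).1
    linear_combination -h'
  -- central elements are squares
  obtain ⟨s, hs⟩ : ∃ s, s * s = (κ z).2 := by
    have hi : Function.Injective (fun s : F => s * s) := fun s t h => by
      have : (s - t) * (s - t) = 0 := by
        have h' : s * s = t * t := h
        linear_combination h' + (t * t - s * t) * h2
      exact sub_eq_zero.mp (mul_self_eq_zero.mp this)
    exact Finite.surjective_of_injective hi _
  have hz1 := (hcen z).mp hz
  have hz2 : σ (κ z).2 = (κ z).2 := by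
    have h := hmem z
    rw [hz1, zero_mul, add_zero] at h
    linear_combination h - (κ z).2 * h2
  have hss : σ s = s := by
    have h' : (σ s - s) * (σ s - s) = 0 := by
      have h'' : σ s * σ s = (κ z).2 := by rw [← map_mul, hs, hz2]
      linear_combination h'' - hs + (s * s - σ s * s) * h2
    exact sub_eq_zero.mp (mul_self_eq_zero.mp h')
  have hzs : z = ℓ s * ℓ s := hinj (by
    rw [hsq, hℓ1, hss, hs]
    exact Prod.ext hz1 (by show (κ z).2 = -(κ z).2; linear_combination (κ z).2 * h2))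
  apply hinj
  rw [hzs, map_mul, hsq, hsq, ← hφ, hℓ1, key]

end CfsgLib.UnitaryInvolution
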