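import Cfsg.Agent.Lib.WeakClosureJ

/-!
`J(S)` controls weak closure of elements.
-/

set_option autoImplicit false
set_option linter.unusedVariables false

namespace CfsgLib.WeakClosureJ

open CfsgLib CfsgLib.Local Cfsg
open CfsgLib.ThompsonComplement (J_map normalizer_le_normalizer_J)
open scoped Pointwise

universe u
variable {G : Type u} [Group G] [Finite G] {p : ℕ} [Fact p.Prime]

/-- `T` is the conjugate of `S` matching the conjugate `w` of `x`. -/
def Pair (S : Sylow p G) (x : G) (T : Sylow p G) (w : G) : Prop := ∃ g : G, g • S = T ∧ g * x * g⁻¹ = w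

theorem exists_maximal_local {Q N : Subgroup G} (hQ : IsPGroup p Q) (hQN : Q ≤ N) :
    ∃ T : Sylow p G, Q ≤ (T : Subgroup G) ∧
      ∀ P : Subgroup G, IsPGroup p P → (T : Subgroup G) ⊓ N ≤ P → P ≤ N → P = (T : Subgroup G) ⊓ N := by
  obtain ⟨P₀, ⟨hP₀, hQP, hPN⟩, hmax⟩ := Set.exists_max_image
    {P : Subgroup G | IsPGroup p P ∧ Q ≤ P ∧ P ≤ N} (fun P => Nat.card P) (Set.toFinite _)
    ⟨Q, hQ, le_rfl, hQN⟩
  obtain ⟨T, hT⟩ := hP₀.exists_le_sylow
  refine ⟨T, hQP.trans hT, fun P hP hle hPN' => (Subgroup.eq_of_le_of_card_ge hle ?_).symm⟩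
  exact (hmax P ⟨hP, hQP.trans ((le_inf hT hPN).trans hle), hPN'⟩).trans
    (Subgroup.card_le_of_le (le_inf hT hPN))

theorem weakly_closed (S : Sylow p G) {x : G} (hxS : x ∈ (S : Subgroup G))
    (hxJ : ∀ n ∈ Subgroup.normalizer ((ZJ.thompsonJ 0 (S : Subgroup G)) : Set G), n * x = x * n)
    (h : Hyp p (S : Subgroup G) x) (g : G) (hg : g * x * g⁻¹ ∈ (S : Subgroup G)) : g * x * g⁻¹ = x := by
  have hNS : ∀ n : G, n • S = S → n * x * n⁻¹ = x := fun n hn => by
    rw [hxJ n (normalizer_le_normalizer_J _ (Sylow.smul_eq_iff_mem_normalizer.1 hn)), mul_inv_cancel_right]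
  have uniq : ∀ {T : Sylow p G} {w w' : G}, Pair S x T w → Pair S x T w' → w = w' := by
    rintro T w w' ⟨a, ha, rfl⟩ ⟨b, hb, rfl⟩
    have h1 := hNS (a⁻¹ * b) (by rw [mul_smul, hb, ← ha, inv_smul_smul])
    conv_lhs => rw [← h1]
    group
  have hcoe : ∀ (a : G) (T : Sylow p G), a • S = T →
      (T : Subgroup G) = (S : Subgroup G).map (MulAut.conj a).toMonoidHom := by
    rintro a T rfl
    rw [Sylow.coe_subgroup_smul, Subgroup.pointwise_smul_def]
    rfl
  have hxc : ∀ s ∈ (S : Subgroup G), s * x = x * s := fun s hs =>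
    hxJ s (normalizer_le_normalizer_J _ (Subgroup.le_normalizer hs))
  have prop : ∀ {T : Sylow p G} {w : G}, Pair S x T w → w ∈ (T : Subgroup G) ∧
      (∀ t ∈ (T : Subgroup G), t * w = w * t) ∧
      (∀ n ∈ Subgroup.normalizer ((ZJ.thompsonJ 0 (T : Subgroup G)) : Set G), n * w = w * n) ∧
      Hyp p (T : Subgroup G) w := by
    rintro T w ⟨a, ha, rfl⟩
    have key : ∀ {H : Subgroup G}, (∀ t ∈ H, t * x = x * t) →
        ∀ t ∈ H.map (MulAut.conj a).toMonoidHom, t * (a * x * a⁻¹) = a * x * a⁻¹ * t := by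
      rintro H hH _ ⟨t, ht, rfl⟩
      have := congrArg (fun u => a * u * a⁻¹) (hH t ht)
      simpa [mul_assoc] using this
    rw [hcoe a T ha]
    refine ⟨⟨x, hxS, rfl⟩, key hxc, ?_, ?_⟩
    · rw [J_map _ _ (MulAut.conj a).injective.injOn]
      intro n hn
      refine key hxJ n ?_
      rwa [show ((MulAut.conj a).toMonoidHom : G →* G) = (MulAut.conj a : G ≃* G).toMonoidHom from rfl,
        Subgroup.map_equiv_normalizer_eq]
    · rcases h with h | ⟨z, hz, hc, rfl⟩ | h
      · exact Or.inl h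
      · refine Or.inr (Or.inl ⟨a * z * a⁻¹, ⟨z, hz, rfl⟩, ?_, by rw [conj_pow]⟩)
        rintro _ ⟨t, ht, rfl⟩
        have := congrArg (fun u => a * u * a⁻¹) (hc t ht)
        simpa [mul_assoc] using this
      · exact Or.inr (Or.inr h)
  have memJ : ∀ {T : Sylow p G} {w : G} {P : Subgroup G}, Pair S x T w → P ≤ (T : Subgroup G) → w ∈ P →
      w ∈ ZJ.thompsonJ 0 P := by
    intro T w P hP hPT hw
    obtain ⟨A, hA⟩ := ZJ.goodMax_nonempty 0 P
    have hc := (prop hP).2.1
    set B := Subgroup.closure ((A : Set G) ∪ {w})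
    have hB : ZJ.IsGood 0 B := ZJ.isGood_closure (e := 0) (by
      rintro c (hc' | rfl) d (hd | rfl)
      · exact hA.2.1.1 c hc' d hd
      · exact hc c (hPT (hA.1 hc'))
      · exact (hc d (hPT (hA.1 hd))).symm
      · rfl) fun _ _ => pow_zero _
    have hBP : B ≤ P := (Subgroup.closure_le _).2 (Set.union_subset hA.1 (Set.singleton_subset_iff.2 hw))
    have hAB : A ≤ B := fun c hc => Subgroup.subset_closure (Or.inl hc)
    have e : A = B := Subgroup.eq_of_le_of_card_ge hAB (hA.2.2 B hBP hB)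
    exact ZJ.le_thompsonJ hA (e ▸ Subgroup.subset_closure (Or.inr rfl))
  suffices key : ∀ k m : ℕ, Nat.card G < m + k →
      (∀ (T T' : Sylow p G) (w w' : G), Pair S x T w → Pair S x T' w' → w ∈ (T' : Subgroup G) →
        m ≤ Nat.card ↥((T : Subgroup G) ⊓ (T' : Subgroup G)) → w' = w) ∧
      (∀ (T : Sylow p G) (w : G) (X : Subgroup G), Pair S x T w → w ∈ X → X ≤ (T : Subgroup G) →
        (∀ P : Subgroup G, IsPGroup p P → (T : Subgroup G) ⊓ Subgroup.normalizer (X : Set G) ≤ P →
          P ≤ Subgroup.normalizer (X : Set G) → P = (T : Subgroup G) ⊓ Subgroup.normalizer (X : Set G)) →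
        m ≤ Nat.card ↥((T : Subgroup G) ⊓ Subgroup.normalizer (X : Set G)) →
        ∀ n ∈ Subgroup.normalizer (X : Set G), n * w = w * n) from
    ((key (Nat.card G + 1) 0 (by omega)).1 (g • S) S _ x ⟨g, rfl, rfl⟩ ⟨1, one_smul G S, by group⟩ hg
      (Nat.zero_le _)).symm
  intro k
  induction k with
  | zero =>
    intro m hm
    exact ⟨fun T T' w w' _ _ _ h => absurd (h.trans (Subgroup.card_le_card_group _)) (by omega),
      fun T w X _ _ _ _ h => absurd (h.trans (Subgroup.card_le_card_group _)) (by omega)⟩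
  | succ k ih =>
    intro m hm
    obtain ⟨ihA, ihB⟩ := ih (m + 1) (by omega)
    have strict : ∀ {H K : Subgroup G}, H < K → Nat.card H < Nat.card K := fun {H K} hlt =>
      lt_of_le_of_ne (Subgroup.card_le_of_le hlt.le) fun e =>
        hlt.ne (Subgroup.eq_of_le_of_card_ge hlt.le e.ge)
    constructor
    · intro T T' w w' hw hw' hwT' hle
      set R := (T : Subgroup G) ⊓ (T' : Subgroup G) with hR
      by_cases hTT : T = T'
      · subst hTT
        exact uniq hw' hw
      have hRT : R ≠ (T : Subgroup G) := fun e =>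
        hTT (Sylow.ext (T.3 T'.2 (e.ge.trans inf_le_right)).symm)
      have hRT' : R ≠ (T' : Subgroup G) := fun e =>
        hTT (Sylow.ext (T'.3 T.2 (e.ge.trans inf_le_left)))
      have hwR : w ∈ R := ⟨(prop hw).1, hwT'⟩
      have hRp : IsPGroup p R := isPGroup_of_le inf_le_left T.2
      have h1 := strict (CfsgLib.inf_normalizer_lt T inf_le_left hRT)
      have h2 := strict (CfsgLib.inf_normalizer_lt T' inf_le_right hRT')
      set N := Subgroup.normalizer (R : Set G) with hN
      replace h1 : Nat.card R < Nat.card ↥((T : Subgroup G) ⊓ N) := h1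
      replace h2 : Nat.card R < Nat.card ↥((T' : Subgroup G) ⊓ N) := h2
      obtain ⟨T₁, hQT₁, hmax⟩ := exists_maximal_local (N := N)
        (isPGroup_of_le (inf_le_left (b := N)) T.2) inf_le_right
      obtain ⟨a, ha⟩ := MulAction.exists_smul_eq G S T₁
      have hw₁ : Pair S x T₁ (a * x * a⁻¹) := ⟨a, ha, rfl⟩
      have hQ1 : R ≤ (T : Subgroup G) ⊓ N := le_inf inf_le_left Subgroup.le_normalizer
      have e1 : a * x * a⁻¹ = w := ihA T T₁ w _ hw hw₁ (hQT₁ (hQ1 hwR))
        (le_trans (by omega) (Subgroup.card_le_of_le (le_inf inf_le_left hQT₁)))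
      rw [e1] at hw₁
      obtain ⟨c, hcN, P, hP, hPN, hTP, hQP⟩ := exists_conj_isPGroup (C := N)
        (isPGroup_of_le (inf_le_left (b := N)) T₁.2) (isPGroup_of_le (inf_le_left (b := N)) T'.2)
        inf_le_right (inf_le_right : (T' : Subgroup G) ⊓ N ≤ N)
      rw [hmax P hP hTP hPN] at hQP
      have hcard : m + 1 ≤ Nat.card ↥((T₁ : Subgroup G) ⊓ N) := by
        refine le_trans ?_ (Subgroup.card_le_of_le (le_inf hQT₁ (inf_le_right : (T : Subgroup G) ⊓ N ≤ N)))
        omega
      have hcw : c * w = w * c := ihB T₁ w R hw₁ hwR (hQ1.trans hQT₁) hmax hcard c hcN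
      -- the conjugate containing the normalizer part of `T'`
      set T₂ := c⁻¹ • T₁
      have hw₂ : Pair S x T₂ w := by
        obtain ⟨b, hb, hbw⟩ := hw₁
        refine ⟨c⁻¹ * b, by rw [mul_smul, hb], ?_⟩
        calc c⁻¹ * b * x * (c⁻¹ * b)⁻¹ = c⁻¹ * (b * x * b⁻¹) * c := by group
          _ = c⁻¹ * (c * w) := by rw [hbw, hcw]; group
          _ = w := by group
      refine ihA T₂ T' w w' hw₂ hw' hwT' (le_trans (by omega)
        (Subgroup.card_le_of_le (le_inf ?_ (inf_le_left : (T' : Subgroup G) ⊓ N ≤ (T' : Subgroup G)))))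
      intro y hy
      have h3 := hQP ⟨y, hy, rfl⟩
      rw [Sylow.coe_subgroup_smul, Subgroup.pointwise_smul_def]
      refine ⟨c * y * c⁻¹, h3.1, ?_⟩
      show c⁻¹ * (c * y * c⁻¹) * c⁻¹⁻¹ = y
      group
    · intro T w X hw hwX hXT hmaxX hle
      set N := Subgroup.normalizer (X : Set G) with hN
      set P₁ := (T : Subgroup G) ⊓ N with hP₁
      have hwP : w ∈ P₁ := ⟨(prop hw).1, Subgroup.le_normalizer hwX⟩
      have hP₁p : IsPGroup p P₁ := isPGroup_of_le inf_le_left T.2
      have hJ : ∀ n ∈ Subgroup.normalizer ((ZJ.thompsonJ 0 P₁) : Set G), n * w = w * n := by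
        by_cases hT : P₁ = (T : Subgroup G)
        · rw [hT]; exact (prop hw).2.2.1
        have h1 := strict (CfsgLib.inf_normalizer_lt T inf_le_left hT)
        set X' := ZJ.thompsonJ 0 P₁
        have hwX' : w ∈ X' := memJ hw inf_le_left hwP
        set Q := (T : Subgroup G) ⊓ Subgroup.normalizer (P₁ : Set G)
        replace h1 : Nat.card P₁ < Nat.card Q := h1
        have hQN : Q ≤ Subgroup.normalizer (X' : Set G) := inf_le_right.trans (normalizer_le_normalizer_J _)
        obtain ⟨T', hQT', hmax⟩ := exists_maximal_local (isPGroup_of_le inf_le_left T.2) hQN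
        obtain ⟨a, ha⟩ := MulAction.exists_smul_eq G S T'
        have hw' : Pair S x T' (a * x * a⁻¹) := ⟨a, ha, rfl⟩
        have hP1Q : P₁ ≤ Q := le_inf inf_le_left Subgroup.le_normalizer
        have e1 : a * x * a⁻¹ = w := ihA T T' w _ hw hw' (hQT' (hP1Q hwP))
          (le_trans (show m + 1 ≤ Nat.card Q by omega) (Subgroup.card_le_of_le (le_inf inf_le_left hQT')))
        rw [e1] at hw'
        exact ihB T' w X' hw' hwX' ((ZJ.thompsonJ_le _ _).trans (hP1Q.trans hQT')) hmax
          (le_trans (show m + 1 ≤ Nat.card Q by omega) (Subgroup.card_le_of_le (le_inf hQT' hQN)))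
      -- work inside the normalizer of `X`
      have hmapP : (P₁.subgroupOf N).map N.subtype = P₁ := by
        rw [Subgroup.subgroupOf_map_subtype, inf_eq_left.2 inf_le_right]
      let S' : Sylow p N :=
        { toSubgroup := P₁.subgroupOf N
          isPGroup' := hP₁p.comap_subtype
          is_maximal' := fun {P} hP hle => by
            have := hmaxX (P.map N.subtype) (hP.map _) (hmapP.ge.trans (Subgroup.map_mono hle))
              (Subgroup.map_subtype_le P)
            exact Subgroup.map_injective N.subtype_injective (this.trans hmapP.symm) }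
      intro n hn
      have hwN : w ∈ N := Subgroup.le_normalizer hwX
      refine congrArg Subtype.val (commute_of_normalizer_J S' (x := ⟨w, hwN⟩) ?_ ?_ ?_ ⟨n, hn⟩)
      · haveI : (X.subgroupOf N).Normal := Subgroup.normal_in_normalizer
        exact CfsgLib.le_pCore (N := X.subgroupOf N) (isPGroup_of_le hXT T.2).comap_subtype
          (Subgroup.mem_subgroupOf.2 hwX)
      · intro u hu
        refine Subtype.ext (hJ _ ?_)
        rw [← hmapP, J_map _ _ N.subtype_injective.injOn]
        exact Subgroup.le_normalizer_map _ ⟨u, hu, rfl⟩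
      · refine Hyp.sub ?_ inf_le_right
        rcases (prop hw).2.2.2 with h | ⟨z, hz, hc, he⟩ | h
        · exact Or.inl h
        · refine Or.inr (Or.inl ⟨z, ⟨hz, mem_normalizer_of_map_conj_eq (Subgroup.eq_of_le_of_card_ge
            (map_conj_le fun y hy => ?_) (Subgroup.card_map_of_injective (MulAut.conj z).injective).ge)⟩,
            fun t ht => hc t ht.1, he⟩)
          rwa [← hc y (hXT hy), mul_inv_cancel_right]
        · exact Or.inr (Or.inr h)

end CfsgLib.WeakClosureJ
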