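/-
Goldschmidt's non-simplicity criterion for a weakly closed central 2-subgroup `W` and a coset `W t`: the
principal block columns at the involutions of `W t` are carried into one another by multiplication with
`χ(w)/χ(1)`, against the orthogonality with the column of the identity.
-/
import Cfsg.Agent.Lib.ZStar.Fusion
import Cfsg.Agent.Lib.Involutions

set_option autoImplicit false
set_option maxHeartbeats 800000
set_option linter.unusedSectionVars false
set_option linter.style.haveILetI false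

namespace CfsgLib.WeakCoset

open Cfsg CfsgLib.Blocks CfsgLib.CharTheory

universe u

variable {G : Type u} [Group G]

/-- An element of odd order inverted by an element of `O_{2',2}` lies in `O_{2'}`. -/
theorem mem_core_of_inverted {C : Type*} [Group C] [Finite C] {q d : C} (hq : q ∈ pPrimePCore 2 C)
    (hd : Odd (orderOf d)) (hinv : q * d * q⁻¹ = d⁻¹) : d ∈ pPrimeCore 2 C := by
  haveI : Fact (Nat.Prime 2) := ⟨Nat.prime_two⟩
  set π := QuotientGroup.mk' (pPrimeCore 2 C) with hπ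
  have hq' : π q ∈ pCore 2 (C ⧸ pPrimeCore 2 C) := hq
  have h1 : π q * (π d * (π q)⁻¹ * (π d)⁻¹) ∈ pCore 2 (C ⧸ pPrimeCore 2 C) :=
    mul_mem hq' ((inferInstance : (pCore 2 (C ⧸ pPrimeCore 2 C)).Normal).conj_mem _ (inv_mem hq') _)
  rw [show π q * (π d * (π q)⁻¹ * (π d)⁻¹) = (π q * π d * (π q)⁻¹) * (π d)⁻¹ by group, ← map_inv π q, ← map_mul,
    ← map_mul, hinv, ← map_inv, ← map_mul] at h1
  obtain ⟨j, hj⟩ := CfsgLib.isPGroup_pCore (G := C ⧸ pPrimeCore 2 C) 2 ⟨_, h1⟩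
  have hj' : (π (d⁻¹ * d⁻¹)) ^ 2 ^ j = 1 := congrArg Subtype.val hj
  rw [← map_pow, show d⁻¹ * d⁻¹ = (d⁻¹) ^ 2 from (pow_two _).symm, ← pow_mul, inv_pow, map_inv, inv_eq_one,
    show 2 * 2 ^ j = 2 ^ (j + 1) by ring, map_pow] at hj'
  have h2 : orderOf (π d) = 1 := by
    refine Nat.eq_one_of_dvd_coprimes (a := orderOf d) (b := 2 ^ (j + 1)) ?_ (orderOf_map_dvd π d)
      (orderOf_dvd_of_pow_eq_one hj')
    exact ((Nat.coprime_two_right.2 hd).pow_right _)
  rw [orderOf_eq_one_iff] at h2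
  exact (QuotientGroup.eq_one_iff _).1 h2

/-- Simultaneous conjugation of a 2-subgroup into a Sylow subgroup. -/
theorem exists_conj_le [Finite G] (T : Sylow 2 G) {A : Subgroup G} (hA : IsPGroup 2 A) :
    ∃ k : G, ∀ a ∈ A, k * a * k⁻¹ ∈ (T : Subgroup G) := by
  haveI : Fact (Nat.Prime 2) := ⟨Nat.prime_two⟩
  obtain ⟨S, hS⟩ := hA.exists_le_sylow
  obtain ⟨k, rfl⟩ := MulAction.exists_smul_eq G S T
  refine ⟨k, fun a ha => ?_⟩
  rw [Sylow.coe_subgroup_smul]
  exact Subgroup.smul_mem_pointwise_smul _ (MulAut.conj k) _ (hS ha)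

variable [Finite G] (T : Sylow 2 G) (W : Subgroup G)

/-- An element of `W` commuting with a conjugate of `W` lies in it. -/
theorem mem_of_commute (hWT : W ≤ (T : Subgroup G)) (hWc : ∀ a ∈ W, ∀ x ∈ (T : Subgroup G), a * x = x * a)
    (hwc : IsWeaklyClosed W (T : Subgroup G)) {w k : G} (hw : w ∈ W)
    (hk : ∀ a ∈ W, k * a * k⁻¹ * w = w * (k * a * k⁻¹)) : ∃ a ∈ W, k * a * k⁻¹ = w := by
  haveI : Fact (Nat.Prime 2) := ⟨Nat.prime_two⟩
  set D := Subgroup.centralizer ({w} : Set G) with hD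
  have hTD : (T : Subgroup G) ≤ D := fun x hx => Subgroup.mem_centralizer_singleton_iff.2 (hWc w hw x hx).symm
  set A := W.map (MulAut.conj k).toMonoidHom with hA
  have hAD : A ≤ D := by
    rintro _ ⟨a, ha, rfl⟩
    exact Subgroup.mem_centralizer_singleton_iff.2 (hk a ha)
  obtain ⟨c, hc⟩ := exists_conj_le (T.subtype hTD)
    (((T.2.to_le hWT).map (MulAut.conj k).toMonoidHom).of_equiv (Subgroup.subgroupOfEquivOfLe hAD).symm)
  have hle : W.map (MulAut.conj ((c : G) * k)).toMonoidHom ≤ (T : Subgroup G) := by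
    rintro _ ⟨a, ha, rfl⟩
    have := hc ⟨_, hAD ⟨a, ha, rfl⟩⟩ (Subgroup.mem_subgroupOf.2 ⟨a, ha, rfl⟩)
    rw [Sylow.coe_subtype, Subgroup.mem_subgroupOf] at this
    simpa [mul_assoc] using this
  have hwW : w ∈ W.map (MulAut.conj ((c : G) * k)).toMonoidHom := by rw [hwc.2 _ hle]; exact hw
  obtain ⟨a, ha, e⟩ := hwW
  refine ⟨a, ha, ?_⟩
  have hcw : (c : G) * w = w * c := Subgroup.mem_centralizer_singleton_iff.1 c.2
  rw [MulEquiv.coe_toMonoidHom, MulAut.conj_apply] at e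
  calc k * a * k⁻¹ = (c : G)⁻¹ * ((c : G) * k * a * ((c : G) * k)⁻¹) * c := by group
    _ = w := by rw [e, mul_assoc, ← hcw, inv_mul_cancel_left]

/-- The key reduction: a product of `w` with a conjugate of an involution of `W t`. -/
theorem exists_section (M : Ideal AlgInt) (hM : IsPModular 2 M)
    (hWT : W ≤ (T : Subgroup G)) (hWc : ∀ a ∈ W, ∀ x ∈ (T : Subgroup G), a * x = x * a)
    (hwc : IsWeaklyClosed W (T : Subgroup G)) {t : G} (htT : t ∈ (T : Subgroup G)) (htW : t ∉ W)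
    (hcos : ∀ w ∈ W, orderOf (w * t) = 2 →
      W.subgroupOf (Subgroup.centralizer ({w * t} : Set G)) ≤ pPrimePCore 2 ↥(Subgroup.centralizer ({w * t} : Set G)))
    {w v g : G} (hw : w ∈ W) (hwo : orderOf w = 2) (hv : v ∈ W) (hvo : orderOf (v * t) = 2) :
    ∃ v' ∈ W, orderOf (v' * t) = 2 ∧ ∀ χ ∈ principalBlock M G,
      (χ : G → ℂ) (w * (g * (v * t) * g⁻¹)) = (χ : G → ℂ) (v' * t) := by
  haveI : Fact (Nat.Prime 2) := ⟨Nat.prime_two⟩
  haveI := Fintype.ofFinite G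
  set x₀ := v * t with hx₀
  have hx₀T : x₀ ∈ (T : Subgroup G) := mul_mem (hWT hv) htT
  -- no conjugate of `x₀` is `w`
  have hne : ∀ h : G, h * x₀ * h⁻¹ ≠ w := by
    intro h e
    obtain ⟨a, ha, ea⟩ := mem_of_commute T W hWT hWc hwc hw (k := h) fun a ha => by
      rw [← e, conj_mul, conj_mul, hWc a ha x₀ hx₀T]
    have e2 : a = v * t := mul_left_cancel (mul_right_cancel (ea.trans e.symm))
    exact htW ((Subgroup.mul_mem_cancel_left W hv).1 (e2 ▸ ha))
  set u := g * x₀ * g⁻¹ with hu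
  have huo : orderOf u = 2 := by rw [hu, CfsgLib.Involutions.orderOf_conj, hvo]
  have w2 := CfsgLib.Involutions.mul_self_eq_one_of_orderOf hwo
  have u2 := CfsgLib.Involutions.mul_self_eq_one_of_orderOf huo
  set d := w * u with hd
  obtain ⟨e, m, hm2, hN⟩ := Nat.exists_eq_pow_mul_and_not_dvd (orderOf_pos d).ne' 2 (by norm_num)
  obtain ⟨i, hi⟩ := Nat.odd_iff.2 (Nat.two_dvd_ne_zero.1 hm2)
  -- the conjugate of `u` commuting with `w`
  set h := d ^ ((i : ℤ) + 1) * g with hh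
  set u' := h * x₀ * h⁻¹ with hu'
  have hu'o : orderOf u' = 2 := by rw [hu', CfsgLib.Involutions.orderOf_conj, hvo]
  have hu'2 := CfsgLib.Involutions.mul_self_eq_one_of_orderOf hu'o
  have hzw : ∀ k : ℤ, w * d ^ k = d ^ (-k) * w := fun k => by
    rw [hd, CfsgLib.Involutions.zpow_mul_eq w2 u2, neg_neg]
  have hud : u = w * d := by rw [hd, ← mul_assoc, w2, one_mul]
  have hu'w : u' = d ^ (m : ℤ) * w := by
    calc u' = d ^ ((i : ℤ) + 1) * u * d ^ (-((i : ℤ) + 1)) := by rw [hu', hh, hu, zpow_neg]; group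
      _ = d ^ ((i : ℤ) + 1) * (w * d ^ (1 + -((i : ℤ) + 1))) := by
          rw [hud, zpow_add d 1, zpow_one]; simp only [mul_assoc]
      _ = d ^ (m : ℤ) * w := by
          rw [hzw, ← mul_assoc, ← zpow_add]
          congr 2
          rw [hi]; push_cast; ring
  set s := w * u' with hs
  have hsd : s = d ^ (-(m : ℤ)) := by rw [hs, hu'w, ← mul_assoc, hzw, mul_assoc, w2, mul_one]
  have hs2 : IsPGroup 2 ↥(Subgroup.zpowers s) := by
    have hsp : s ^ 2 ^ e = 1 := by
      rw [hsd, ← zpow_natCast, ← zpow_mul, show (-(m : ℤ)) * ((2 ^ e : ℕ) : ℤ) = -((2 ^ e * m : ℕ) : ℤ) by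
        push_cast; ring, zpow_neg, zpow_natCast, ← hN, pow_orderOf_eq_one, inv_one]
    obtain ⟨j, -, hj⟩ := (Nat.dvd_prime_pow Nat.prime_two).1 (orderOf_dvd_of_pow_eq_one hsp)
    exact IsPGroup.of_card (n := j) (by rw [Nat.card_zpowers, hj])
  have hw2g : IsPGroup 2 ↥(Subgroup.zpowers w) := IsPGroup.of_card (n := 1) (by rw [Nat.card_zpowers, hwo, pow_one])
  have hnorm : Subgroup.zpowers w ≤ Subgroup.normalizer ((Subgroup.zpowers s : Subgroup G) : Set G) := by
    rw [Subgroup.zpowers_le]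
    have key : ∀ y ∈ Subgroup.zpowers s, w * y * w⁻¹ ∈ Subgroup.zpowers s := by
      rintro y ⟨k, rfl⟩
      rw [show s = w * u' from hs]
      show w * (w * u') ^ k * w⁻¹ ∈ _
      rw [CfsgLib.Involutions.conj_zpow_eq_inv w2 hu'2]
      exact ⟨-k, rfl⟩
    refine Subgroup.mem_normalizer_iff.2 fun y => ⟨key y, fun hy => ?_⟩
    have := key _ hy
    rw [inv_eq_of_mul_eq_one_right w2] at this
    rwa [show w * (w * y * w) * w = (w * w) * y * (w * w) by group, w2, one_mul, mul_one] at this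
  obtain ⟨k, hk⟩ := exists_conj_le T (IsPGroup.to_sup_of_normal_left' hs2 hw2g hnorm)
  have hkw : k * w * k⁻¹ ∈ (T : Subgroup G) :=
    hk w (Subgroup.mem_sup_right (Subgroup.mem_zpowers w))
  have hku : k * u' * k⁻¹ ∈ (T : Subgroup G) := by
    refine hk u' ?_
    rw [show u' = w * s by rw [hs, ← mul_assoc, w2, one_mul]]
    exact mul_mem (Subgroup.mem_sup_right (Subgroup.mem_zpowers w)) (Subgroup.mem_sup_left (Subgroup.mem_zpowers s))
  have comm_back : ∀ (y : G), k * y * k⁻¹ ∈ (T : Subgroup G) → ∀ a ∈ W,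
      k⁻¹ * a * k * y = y * (k⁻¹ * a * k) := fun y hy a ha => by
    have := hWc a ha _ hy
    calc k⁻¹ * a * k * y = k⁻¹ * (a * (k * y * k⁻¹)) * k := by group
      _ = y * (k⁻¹ * a * k) := by rw [this]; group
  obtain ⟨a₀, ha₀, ea₀⟩ := mem_of_commute T W hWT hWc hwc hw (k := k⁻¹) fun a ha => by
    rw [inv_inv]; exact comm_back w hkw a ha
  rw [inv_inv] at ea₀
  have hwu : w * u' = u' * w := by rw [← ea₀]; exact comm_back u' hku a₀ ha₀
  -- move the two conjugates of `W` in `C(u')` onto `W`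
  set D := Subgroup.centralizer ({u'} : Set G) with hD
  set A := W.map (MulAut.conj h).toMonoidHom with hA
  set B := W.map (MulAut.conj k⁻¹).toMonoidHom with hB
  have hAD : A ≤ D := by
    rintro _ ⟨a, ha, rfl⟩
    rw [Subgroup.mem_centralizer_singleton_iff, MulEquiv.coe_toMonoidHom, MulAut.conj_apply, hu', conj_mul,
      conj_mul, hWc a ha x₀ hx₀T]
  have hBD : B ≤ D := by
    rintro _ ⟨a, ha, rfl⟩
    rw [Subgroup.mem_centralizer_singleton_iff, MulEquiv.coe_toMonoidHom, MulAut.conj_apply, inv_inv]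
    exact comm_back u' hku a ha
  obtain ⟨R, hR⟩ := (((T.2.to_le hWT).map (MulAut.conj h).toMonoidHom).of_equiv
    (Subgroup.subgroupOfEquivOfLe hAD).symm).exists_le_sylow
  obtain ⟨c, hc⟩ := exists_conj_le R (((T.2.to_le hWT).map (MulAut.conj k⁻¹).toMonoidHom).of_equiv
    (Subgroup.subgroupOfEquivOfLe hBD).symm)
  obtain ⟨l, hl⟩ := exists_conj_le T (R.2.map D.subtype)
  have hlA : W.map (MulAut.conj (l * h)).toMonoidHom = W := hwc.2 _ (by
    rintro _ ⟨a, ha, rfl⟩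
    have := hl _ ⟨⟨_, hAD ⟨a, ha, rfl⟩⟩, hR (Subgroup.mem_subgroupOf.2 ⟨a, ha, rfl⟩), rfl⟩
    simpa [mul_assoc] using this)
  have hlB : W.map (MulAut.conj (l * c * k⁻¹)).toMonoidHom = W := hwc.2 _ (by
    rintro _ ⟨a, ha, rfl⟩
    have := hl _ ⟨_, hc ⟨_, hBD ⟨a, ha, rfl⟩⟩ (Subgroup.mem_subgroupOf.2 ⟨a, ha, rfl⟩), rfl⟩
    simpa [mul_assoc] using this)
  -- the conjugating element
  set q := (l * h)⁻¹ * (l * c) with hq
  have hqu : q * u' * q⁻¹ = x₀ := by
    have hcu : (c : G) * u' = u' * c := Subgroup.mem_centralizer_singleton_iff.1 c.2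
    calc q * u' * q⁻¹ = h⁻¹ * ((c : G) * u' * (c : G)⁻¹) * h := by rw [hq]; group
      _ = x₀ := by rw [hcu, mul_inv_cancel_right, hu']; group
  have hqw : q * w * q⁻¹ ∈ W := by
    have h1 : l * c * w * (l * c)⁻¹ ∈ W := by
      have hh : l * c * w * (l * c)⁻¹ ∈ W.map (MulAut.conj (l * c * k⁻¹)).toMonoidHom := by
        refine ⟨a₀, ha₀, ?_⟩
        rw [MulEquiv.coe_toMonoidHom, MulAut.conj_apply, ← ea₀]
        group
      rwa [hlB] at hh
    obtain ⟨a, ha, e1⟩ : l * c * w * (l * c)⁻¹ ∈ W.map (MulAut.conj (l * h)).toMonoidHom := by rwa [hlA]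
    rw [MulEquiv.coe_toMonoidHom, MulAut.conj_apply] at e1
    have : q * w * q⁻¹ = a := by
      calc q * w * q⁻¹ = (l * h)⁻¹ * (l * c * w * (l * c)⁻¹) * (l * h) := by rw [hq]; group
        _ = a := by rw [← e1]; group
    rwa [this]
  have hs1 : s ≠ 1 := fun e1 => hne h (by
    rw [← hu']
    exact (mul_eq_one_iff_inv_eq.1 e1).symm.trans (inv_eq_of_mul_eq_one_right w2))
  have hso : orderOf s = 2 := orderOf_eq_prime (by
    rw [pow_two, hs, show w * u' * (w * u') = w * (u' * w) * u' by group, ← hwu,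
      show w * (w * u') * u' = (w * w) * (u' * u') by group, w2, hu'2, one_mul]) hs1
  have hqs : q * s * q⁻¹ = q * w * q⁻¹ * v * t := by
    rw [hs, ← conj_mul, hqu, hx₀, ← mul_assoc]
  refine ⟨q * w * q⁻¹ * v, mul_mem hqw hv, by rw [← hqs, CfsgLib.Involutions.orderOf_conj, hso], fun χ hχ => ?_⟩
  -- the part of odd order
  set d' := d ^ ((m : ℤ) + 1) with hd'
  have hsm : d ^ (2 * (m : ℤ)) = 1 := by
    have := CfsgLib.Involutions.mul_self_eq_one_of_orderOf hso
    rw [hsd, ← zpow_add, show -(m : ℤ) + -(m : ℤ) = -(2 * (m : ℤ)) by ring, zpow_neg, inv_eq_one] at this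
    exact this
  have hdd : d = s * d' := by
    rw [hsd, hd', ← zpow_add, show -(m : ℤ) + ((m : ℤ) + 1) = 1 by ring, zpow_one]
  have hd'o : Odd (orderOf d') := by
    refine Odd.of_dvd_nat ⟨i, hi⟩ (orderOf_dvd_of_pow_eq_one ?_)
    rw [hd', ← zpow_natCast, ← zpow_mul, show ((m : ℤ) + 1) * (m : ℤ) = 2 * (m : ℤ) * ((i : ℤ) + 1) by
      rw [hi]; push_cast; ring, zpow_mul, hsm, one_zpow]
  set y := q * w * q⁻¹ * v * t with hy
  set D' := q * d' * q⁻¹ with hD'
  have hD'y : D' * y = y * D' := by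
    rw [← hqs, hD', conj_mul, conj_mul, hsd, hd', ← zpow_add, ← zpow_add, add_comm]
  have hWy : q * w * q⁻¹ * y = y * (q * w * q⁻¹) :=
    hWc _ hqw _ (mul_mem (mul_mem (hWT hqw) (hWT hv)) htT)
  have hyo : orderOf y = 2 := by rw [← hqs, CfsgLib.Involutions.orderOf_conj, hso]
  have hmem : D' ∈ centralizerPPrimeCore 2 y := by
    refine ⟨⟨D', Subgroup.mem_centralizer_singleton_iff.2 hD'y⟩, ?_, rfl⟩
    refine mem_core_of_inverted
      (q := ⟨q * w * q⁻¹, Subgroup.mem_centralizer_singleton_iff.2 hWy⟩) ?_ ?_ ?_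
    · exact hcos (q * w * q⁻¹ * v) (mul_mem hqw hv) hyo (Subgroup.mem_subgroupOf.2 hqw)
    · rw [← Subgroup.orderOf_coe, CfsgLib.Involutions.orderOf_conj]; exact hd'o
    · refine Subtype.ext ?_
      show q * w * q⁻¹ * (q * d' * q⁻¹) * (q * w * q⁻¹)⁻¹ = (q * d' * q⁻¹)⁻¹
      rw [show q * w * q⁻¹ * (q * d' * q⁻¹) * (q * w * q⁻¹)⁻¹ = q * (w * d' * w⁻¹) * q⁻¹ by group, hd', hd,
        CfsgLib.Involutions.conj_zpow_eq_inv w2 u2, zpow_neg, conj_inv]
  have h942 := Cfsg.Agent.S0942.result 2 M hM y ⟨1, by rw [hyo, pow_one]⟩ D' hmem χ hχ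
  rw [← h942, ← hqs, hD', conj_mul, ← hdd]
  exact (irr_isClassFun χ d q).symm

/-- The criterion. -/
theorem not_simple (hW1 : W ≠ ⊥) (hWT : W ≤ (T : Subgroup G))
    (hWc : ∀ a ∈ W, ∀ x ∈ (T : Subgroup G), a * x = x * a)
    (hwc : IsWeaklyClosed W (T : Subgroup G)) {t : G} (ht : orderOf t = 2) (htT : t ∈ (T : Subgroup G)) (htW : t ∉ W)
    (hcos : ∀ w ∈ W, orderOf (w * t) = 2 →
      W.subgroupOf (Subgroup.centralizer ({w * t} : Set G)) ≤ pPrimePCore 2 ↥(Subgroup.centralizer ({w * t} : Set G))) :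
    ¬ IsSimpleGroup G := by
  classical
  intro hsimp
  haveI : Fact (Nat.Prime 2) := ⟨Nat.prime_two⟩
  haveI := Fintype.ofFinite G
  -- an involution of `W`
  obtain ⟨w, hwW, hwo⟩ : ∃ w ∈ W, orderOf w = 2 := by
    haveI : Nontrivial ↥W := (Subgroup.nontrivial_iff_ne_bot W).2 hW1
    obtain ⟨n, hn⟩ := IsPGroup.iff_card.1 (T.2.to_le hWT)
    have hn0 : n ≠ 0 := fun e => by
      rw [e, pow_zero] at hn
      exact absurd hn (Finite.one_lt_card (α := ↥W)).ne'
    obtain ⟨a, ha⟩ := exists_prime_orderOf_dvd_card' 2 (show 2 ∣ Nat.card ↥W from hn ▸ dvd_pow_self 2 hn0)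
    exact ⟨a, a.2, by rw [Subgroup.orderOf_coe]; exact ha⟩
  have hw1 : w ≠ 1 := fun e => by rw [e, orderOf_one] at hwo; omega
  have hgen : Subgroup.normalClosure ({w} : Set G) = ⊤ :=
    (Subgroup.Normal.eq_bot_or_eq_top Subgroup.normalClosure_normal).resolve_left fun e =>
      hw1 (Subgroup.mem_bot.1 (e ▸ Subgroup.subset_normalClosure (Set.mem_singleton w)))
  obtain ⟨M, hM⟩ := CfsgLib.ZStar.exists_isPModular Nat.prime_two
  set B := principalBlock M G with hBdef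
  have hB : IsPBlock M B := principalBlock_isPBlock
  set a : IrrCharacter G → ℂ := fun χ => (χ : G → ℂ) w / (χ : G → ℂ) 1 with ha
  have hG0 : (Nat.card G : ℂ) ≠ 0 := Nat.cast_ne_zero.2 Nat.card_pos.ne'
  have hT : ∀ S : Finset ℂ, ∀ v ∈ W, orderOf (v * t) = 2 →
      ∑ χ ∈ bset B, (χ : G → ℂ) 1 * (∏ c ∈ S, (a χ - c)) * (χ : G → ℂ) (v * t) = 0 := by
    intro S
    induction S using Finset.induction_on with
    | empty =>
      intro v _ hv
      have h := block_orth hM hB (g := v * t) (h := 1) (x := v * t) (y := 1)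
        ⟨1, mul_one _, Commute.one_right _, ⟨1, by rw [hv, pow_one]⟩,
          by rw [orderOf_one]; norm_num⟩
        ⟨1, mul_one 1, Commute.one_right 1, ⟨0, by rw [orderOf_one, pow_zero]⟩,
          by rw [orderOf_one]; norm_num⟩
        (fun hc => by
          rw [isConj_one_left] at hc
          rw [hc, orderOf_one] at hv
          exact absurd hv (by norm_num))
      rw [← h]
      refine Finset.sum_congr rfl fun χ _ => ?_
      rw [Finset.prod_empty, mul_one, inv_one, mul_comm]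
    | @insert c S hcS ih =>
      intro v hvW hv
      choose v' hv' using fun g : G => exists_section T W M hM hWT hWc hwc htT htW hcos (g := g) hwW hwo hvW hv
      have hexp : ∀ χ ∈ bset B, a χ * (χ : G → ℂ) (v * t) =
          (Nat.card G : ℂ)⁻¹ * ∑ g, (χ : G → ℂ) (v' g⁻¹ * t) := by
        intro χ hχ
        have hterm : ∀ g : G, (χ : G → ℂ) (v' g⁻¹ * t) = (χ : G → ℂ) (g * w * g⁻¹ * (v * t)) := fun g => by
          rw [← (hv' g⁻¹).2.2 χ (mem_bset.1 hχ),
            show g * w * g⁻¹ * (v * t) = g * (w * (g⁻¹ * (v * t) * g⁻¹⁻¹)) * g⁻¹ by group]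
          exact (irr_isClassFun χ _ g).symm
        rw [Finset.sum_congr rfl fun g _ => hterm g, CfsgLib.ZStar.sum_conj_shift, ← mul_assoc,
          ← mul_assoc, inv_mul_cancel₀ hG0, one_mul]
      have hterm2 : ∀ χ ∈ bset B,
          (χ : G → ℂ) 1 * (∏ e ∈ insert c S, (a χ - e)) * (χ : G → ℂ) (v * t) =
          (Nat.card G : ℂ)⁻¹ * ∑ g, (χ : G → ℂ) 1 * (∏ e ∈ S, (a χ - e)) * (χ : G → ℂ) (v' g⁻¹ * t) -
            c * ((χ : G → ℂ) 1 * (∏ e ∈ S, (a χ - e)) * (χ : G → ℂ) (v * t)) := by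
        intro χ hχ
        rw [Finset.prod_insert hcS, ← Finset.mul_sum]
        have := hexp χ hχ
        linear_combination ((χ : G → ℂ) 1 * (∏ e ∈ S, (a χ - e))) * this
      rw [Finset.sum_congr rfl hterm2, Finset.sum_sub_distrib, ← Finset.mul_sum, ← Finset.mul_sum,
        ih v hvW hv, mul_zero, sub_zero, Finset.sum_comm,
        Finset.sum_eq_zero fun g _ => ih (v' g⁻¹) (hv' g⁻¹).1 (hv' g⁻¹).2.1, mul_zero]
  have h1 := hT (((bset B).image a).erase 1) 1 (one_mem W) (by rw [one_mul]; exact ht)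
  have hone : (oneIrr G : IrrCharacter G) ∈ bset B := mem_bset.2 (oneIrr_mem hM)
  rw [Finset.sum_eq_single_of_mem _ hone] at h1
  · simp only [ha, oneIrr, div_one, one_mul, mul_one] at h1
    obtain ⟨c, hc, hc0⟩ := Finset.prod_eq_zero_iff.1 h1
    exact (Finset.mem_erase.1 hc).1 (sub_eq_zero.1 hc0).symm
  · intro χ hχ hne
    rcases eq_or_ne (a χ) 1 with h | h
    · exfalso
      refine hne (Subtype.ext (CfsgLib.ZStar.eq_one_of_apply_eq χ ?_ hgen))
      exact (div_eq_one_iff_eq (irr_one_ne_zero χ)).1 h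
    · rw [Finset.prod_eq_zero (Finset.mem_erase.2 ⟨h, Finset.mem_image_of_mem a hχ⟩) (sub_self _),
        mul_zero, zero_mul]

end CfsgLib.WeakCoset
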