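import Mathlib
import Cfsg.Agent.Lib.ThompsonWielandt

/-!
Wielandt's bound for a point stabiliser of a primitive group with a suborbit of length `d`:
the second kernels are trivial or `p`-groups (Thompson–Wielandt), and have index dividing
`d! ((d-1)!)^d`.
-/

set_option autoImplicit false

open MulAction
open CfsgLib.BenderMax CfsgLib.TWielandt

namespace CfsgLib.WielandtSuborbit

variable (G : Type*) [Group G] {Ω : Type*} [MulAction G Ω] (a b : Ω)

/-- The kernel on the suborbit of `b`. -/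
def K1 : Subgroup G :=
  stabilizer G a ⊓ fixingSubgroup G (orbit (stabilizer G a) b)

/-- The points behind `c`. -/
def inS (c : Ω) : Set Ω := {x | ∃ g : G, g • b = c ∧ g • a = x}

/-- The kernel on the suborbit and on the points behind it. -/
def K2 : Subgroup G :=
  K1 G a b ⊓ fixingSubgroup G (⋃ c ∈ orbit (stabilizer G a) b, inS G a b c)

variable {G} {a b}

theorem conj_mem_fixing {H : Subgroup G} {S : Set Ω} (hS : ∀ h ∈ H, ∀ y ∈ S, h • y ∈ S) {h x : G}
    (hh : h ∈ H) (hx : x ∈ fixingSubgroup G S) : h * x * h⁻¹ ∈ fixingSubgroup G S := by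
  rw [mem_fixingSubgroup_iff] at hx ⊢
  intro y hy
  rw [mul_smul, mul_smul, hx _ (hS _ (H.inv_mem hh) y hy), smul_inv_smul]

theorem orbit_stable {k : G} (hk : k ∈ stabilizer G a) {y : Ω} (hy : y ∈ orbit (stabilizer G a) b) :
    k • y ∈ orbit (stabilizer G a) b := by
  obtain ⟨u, rfl⟩ := hy
  exact ⟨⟨k, hk⟩ * u, mul_smul _ _ _⟩

theorem union_stable {k : G} (hk : k ∈ stabilizer G a) {y : Ω}
    (hy : y ∈ ⋃ c ∈ orbit (stabilizer G a) b, inS G a b c) :
    k • y ∈ ⋃ c ∈ orbit (stabilizer G a) b, inS G a b c := by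
  simp only [Set.mem_iUnion] at hy ⊢
  obtain ⟨c, hc, g, hg, rfl⟩ := hy
  exact ⟨k • c, orbit_stable hk hc, k * g, by rw [mul_smul, hg], mul_smul _ _ _⟩

theorem K1_le : K1 G a b ≤ stabilizer G a ⊓ stabilizer G b := fun g hg =>
  ⟨hg.1, (mem_fixingSubgroup_iff G).1 hg.2 b (mem_orbit_self b)⟩

theorem K2_le : K2 G a b ≤ K1 G a b ⊓ K1 G b a := by
  rintro g ⟨hg, hg'⟩
  refine ⟨hg, (K1_le hg).2, (mem_fixingSubgroup_iff G).2 ?_⟩
  rintro _ ⟨u, rfl⟩
  refine (mem_fixingSubgroup_iff G).1 hg' _ ?_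
  simp only [Set.mem_iUnion]
  exact ⟨b, mem_orbit_self b, u, u.2, rfl⟩

theorem le_normalizer_K1 [Finite G] :
    stabilizer G a ≤ Subgroup.normalizer (K1 G a b : Set G) := fun k hk =>
  Subgroup.mem_normalizer_fintype fun _ hx =>
    ⟨(stabilizer G a).mul_mem ((stabilizer G a).mul_mem hk hx.1) ((stabilizer G a).inv_mem hk),
      conj_mem_fixing (fun _ h _ hy => orbit_stable h hy) hk hx.2⟩

theorem le_normalizer_K2 [Finite G] :
    stabilizer G a ≤ Subgroup.normalizer (K2 G a b : Set G) := fun k hk =>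
  Subgroup.mem_normalizer_fintype fun _ hx =>
    ⟨conj_mem_of_le_normalizer le_normalizer_K1 hk hx.1,
      conj_mem_fixing (fun _ h _ hy => union_stable h hy) hk hx.2⟩

theorem le_K1 (X : Subgroup G) (hX : X ≤ stabilizer G a ⊓ stabilizer G b)
    (hn : stabilizer G a ≤ Subgroup.normalizer (X : Set G)) : X ≤ K1 G a b := by
  intro x hx
  refine ⟨(hX hx).1, (mem_fixingSubgroup_iff G).2 ?_⟩
  rintro _ ⟨⟨k, hk⟩, rfl⟩
  have h : k⁻¹ * x * k⁻¹⁻¹ ∈ X := conj_mem_of_le_normalizer hn ((stabilizer G a).inv_mem hk) hx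
  have e : (k⁻¹ * x * k⁻¹⁻¹) • b = b := (hX h).2
  rw [inv_inv, mul_smul, mul_smul, inv_smul_eq_iff] at e
  exact e

/-- A primitive group with a suborbit which is not a point. -/
structure Data (G : Type*) [Group G] {Ω : Type*} [MulAction G Ω] (a b : Ω) (d : ℕ) : Prop where
  fin : Finite G
  finΩ : Finite Ω
  faith : FaithfulSMul G Ω
  prim : IsPreprimitive G Ω
  card : Nat.card (orbit (stabilizer G a) b) = d
  two : 2 ≤ d

variable {d : ℕ}

theorem Data.ne (h : Data G a b d) : stabilizer G a ≠ stabilizer G b := by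
  intro e
  have he : orbit (stabilizer G a) b = {b} := by
    ext x
    refine ⟨?_, fun hx => by rw [Set.mem_singleton_iff] at hx; rw [hx]; exact mem_orbit_self _⟩
    rintro ⟨k, rfl⟩
    exact e.le k.2
  have := h.card
  rw [Nat.card_coe_set_eq, he, Set.ncard_singleton] at this
  have := h.two
  omega

theorem Data.coatom (h : Data G a b d) (x : Ω) : IsCoatom (stabilizer G x) := by
  haveI := h.prim
  haveI : Nontrivial Ω := ⟨a, b, fun e => h.ne (by rw [e])⟩
  exact IsPreprimitive.isCoatom_stabilizer_of_isPreprimitive G x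

theorem Data.core_bot (h : Data G a b d) (x : Ω) : (stabilizer G x).normalCore = ⊥ := by
  haveI := h.faith
  haveI := h.prim
  rw [Subgroup.eq_bot_iff_forall]
  intro n hn
  refine FaithfulSMul.eq_of_smul_eq_smul (α := Ω) fun y => ?_
  obtain ⟨g, rfl⟩ := exists_smul_eq G x y
  have e : (g⁻¹ * n * g⁻¹⁻¹) • x = x := hn g⁻¹
  rw [inv_inv, mul_smul, mul_smul, inv_smul_eq_iff] at e
  rw [e, one_smul]

theorem Data.iso (h : Data G a b d) : Nonempty (stabilizer G a ≃* stabilizer G b) := by
  haveI := h.prim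
  obtain ⟨g, rfl⟩ := exists_smul_eq G a b
  rw [stabilizer_smul_eq_stabilizer_map_conj]
  exact ⟨(MulAut.conj g).subgroupMap _⟩

theorem Data.symm (h : Data G a b d) : Data G b a d := by
  refine ⟨h.fin, h.finΩ, h.faith, h.prim, ?_, h.two⟩
  haveI := h.fin
  obtain ⟨e⟩ := h.iso
  have h1 := Subgroup.card_mul_index (stabilizer (stabilizer G a) b)
  rw [MulAction.index_stabilizer, ← Nat.card_coe_set_eq, h.card] at h1
  have h2 := Subgroup.card_mul_index (stabilizer (stabilizer G b) a)
  rw [MulAction.index_stabilizer, ← Nat.card_coe_set_eq] at h2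
  have h3 : Nat.card (stabilizer (stabilizer G b) a) = Nat.card (stabilizer (stabilizer G a) b) := Nat.card_congr
    { toFun := fun g => ⟨⟨(g : stabilizer G b), g.2⟩, (g : stabilizer G b).2⟩
      invFun := fun g => ⟨⟨(g : stabilizer G a), g.2⟩, (g : stabilizer G a).2⟩
      left_inv := fun g => rfl
      right_inv := fun g => rfl }
  rw [h3, ← Nat.card_congr e.toEquiv, ← h1] at h2
  exact Nat.eq_of_mul_eq_mul_left Nat.card_pos h2

theorem Data.card_dvd (h : Data G a b d) :
    Nat.card (stabilizer G a) ∣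
      d.factorial * (d - 1).factorial ^ d * Nat.card (K2 G a b) := by
  classical
  haveI := h.fin
  haveI := h.finΩ
  haveI := Fintype.ofFinite Ω
  let φ := toPermHom (stabilizer G a) (orbit (stabilizer G a) b)
  have hker : Nat.card φ.ker = Nat.card (K1 G a b) := Nat.card_congr
    { toFun := fun g => ⟨((g : stabilizer G a) : G), (g : stabilizer G a).2, (mem_fixingSubgroup_iff G).2
        fun y hy => by
          have := congrArg (fun e : Equiv.Perm (orbit (stabilizer G a) b) => (e ⟨y, hy⟩ : Ω))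
            (MonoidHom.mem_ker.1 g.2)
          exact this⟩
      invFun := fun g => ⟨⟨(g : G), g.2.1⟩, MonoidHom.mem_ker.2 (Equiv.ext fun y =>
        Subtype.ext ((mem_fixingSubgroup_iff G).1 g.2.2 y y.2))⟩
      left_inv := fun g => rfl
      right_inv := fun g => rfl }
  have h1 : Nat.card (stabilizer G a) ∣ d.factorial * Nat.card (K1 G a b) := by
    rw [← Subgroup.card_mul_index φ.ker, hker, Subgroup.index_ker, mul_comm]
    refine Nat.mul_dvd_mul_right ?_ _
    have := Subgroup.card_subgroup_dvd_card φ.range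
    rwa [Nat.card_perm, h.card] at this
  let O := orbit (stabilizer G a) b
  let Y : O → Set Ω := fun c => inS G a b c \ {a}
  have hst : ∀ (u : K1 G a b) (c : O) (x : Ω), (u : G) • x ∈ Y c ↔ x ∈ Y c := by
    intro u c x
    have hc : ∀ v ∈ K1 G a b, v • (c : Ω) = c := fun v hv => (mem_fixingSubgroup_iff G).1 hv.2 c c.2
    have hmv : ∀ v ∈ K1 G a b, ∀ y, y ∈ Y c → v • y ∈ Y c := by
      rintro v hv y ⟨⟨g, hg, rfl⟩, hne⟩
      refine ⟨⟨v * g, by rw [mul_smul, hg, hc v hv], mul_smul _ _ _⟩, fun e => hne ?_⟩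
      rw [Set.mem_singleton_iff] at e ⊢
      exact smul_left_cancel v (e.trans (show v • a = a from hv.1).symm)
    refine ⟨fun hx => ?_, hmv u u.2 x⟩
    have := hmv _ ((K1 G a b).inv_mem u.2) _ hx
    rwa [inv_smul_smul] at this
  let ψ : K1 G a b →* (∀ c : O, Equiv.Perm {x // x ∈ Y c}) :=
    { toFun := fun u c => (MulAction.toPerm (u : G)).subtypePerm (p := fun x => x ∈ Y c) (fun x => hst u c x)
      map_one' := by
        funext c; ext x
        simp
      map_mul' := fun u v => by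
        funext c; ext x
        exact mul_smul _ _ _ }
  have hYc : ∀ c : O, Nat.card {x // x ∈ Y c} = d - 1 := by
    rintro ⟨_, ⟨k, hk⟩, rfl⟩
    have ha : a ∈ inS G a b (k • b) := ⟨k, rfl, hk⟩
    have he : inS G a b (k • b) = (fun x => k • x) '' orbit (stabilizer G b) a := by
      ext x
      constructor
      · rintro ⟨g, hg, rfl⟩
        refine ⟨(k⁻¹ * g) • a, ⟨⟨k⁻¹ * g, ?_⟩, rfl⟩, ?_⟩
        · show (k⁻¹ * g) • b = b
          rw [mul_smul, hg, inv_smul_smul]
        · show k • (k⁻¹ * g) • a = g • a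
          rw [mul_smul, smul_inv_smul]
      · rintro ⟨_, ⟨⟨g, hg⟩, rfl⟩, rfl⟩
        refine ⟨k * g, ?_, mul_smul _ _ _⟩
        rw [mul_smul, (show g • b = b from hg)]
    show Nat.card ↥(inS G a b (k • b) \ {a}) = d - 1
    rw [Nat.card_coe_set_eq, Set.ncard_sdiff_singleton_of_mem ha, he,
      Set.ncard_image_of_injective _ (MulAction.injective k), ← Nat.card_coe_set_eq, h.symm.card]
  have hpi : Nat.card (∀ c : O, Equiv.Perm {x // x ∈ Y c}) = (d - 1).factorial ^ d := by
    rw [Nat.card_pi]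
    simp only [Nat.card_perm, hYc]
    rw [Finset.prod_const, Finset.card_univ, ← Nat.card_eq_fintype_card, h.card]
  have hker2 : Nat.card ψ.ker = Nat.card (K2 G a b) := Nat.card_congr
    { toFun := fun u => ⟨((u : K1 G a b) : G), (u : K1 G a b).2, (mem_fixingSubgroup_iff G).2 fun x hx => by
        simp only [Set.mem_iUnion] at hx
        obtain ⟨c, hc, hxc⟩ := hx
        rcases eq_or_ne x a with rfl | hne
        · exact (u : K1 G x b).2.1
        · exact congrArg Subtype.val (DFunLike.congr_fun (congrFun (MonoidHom.mem_ker.1 u.2) ⟨c, hc⟩)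
            ⟨x, hxc, hne⟩)⟩
      invFun := fun u => ⟨⟨(u : G), u.2.1⟩, MonoidHom.mem_ker.2 (funext fun c => Equiv.ext fun x =>
        Subtype.ext ((mem_fixingSubgroup_iff G).1 u.2.2 x (Set.mem_biUnion c.2 x.2.1)))⟩
      left_inv := fun u => rfl
      right_inv := fun u => rfl }
  have h2 : Nat.card (K1 G a b) ∣ (d - 1).factorial ^ d * Nat.card (K2 G a b) := by
    rw [← Subgroup.card_mul_index ψ.ker, hker2, Subgroup.index_ker, mul_comm]
    refine Nat.mul_dvd_mul_right ?_ _
    exact hpi ▸ Subgroup.card_subgroup_dvd_card ψ.range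
  refine h1.trans ?_
  rw [mul_assoc]
  exact Nat.mul_dvd_mul_left _ h2

theorem Data.setup (h : Data G a b d) (hA : K2 G a b ≠ ⊥) (hB : K2 G b a ≠ ⊥) :
    CfsgLib.TWielandt.Setup (stabilizer G a) (stabilizer G b) (K1 G a b) (K1 G b a) (K2 G a b) (K2 G b a) where
  max1 := h.coatom a
  max2 := h.coatom b
  core1 := h.core_bot a
  core2 := h.core_bot b
  ne := h.ne
  iso := h.iso
  a1le := K1_le
  b1le := K1_le.trans (le_of_eq (inf_comm _ _))
  a1n := haveI := h.fin; le_normalizer_K1
  b1n := haveI := h.fin; le_normalizer_K1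
  a1max := fun X hX hn => le_K1 X hX hn
  b1max := fun X hX hn => le_K1 X (hX.trans (le_of_eq (inf_comm _ _))) hn
  a2le := K2_le
  b2le := K2_le.trans (le_of_eq (inf_comm _ _))
  a2n := haveI := h.fin; le_normalizer_K2
  b2n := haveI := h.fin; le_normalizer_K2
  a2ne := hA
  b2ne := hB

theorem Data.main (h : Data G a b d) :
    Nat.card (stabilizer G a) ∣ d.factorial * (d - 1).factorial ^ d ∨
      ∃ p : ℕ, p.Prime ∧ IsPGroup p (K2 G a b) ∧ K2 G a b ≠ ⊥ ∧
        Cfsg.generalizedFittingSubgroup (stabilizer G a) = Cfsg.pCore p (stabilizer G a) := by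
  haveI := h.fin
  by_cases hA : K2 G a b = ⊥
  · left
    have := h.card_dvd
    rwa [hA, Subgroup.card_bot, mul_one] at this
  by_cases hB : K2 G b a = ⊥
  · left
    obtain ⟨e⟩ := h.iso
    have := h.symm.card_dvd
    rwa [hB, Subgroup.card_bot, mul_one, ← Nat.card_congr e.toEquiv] at this
  obtain ⟨p, hp, hpg, hgf, -⟩ := CfsgLib.TWielandt.main (h.setup hA hB)
  exact Or.inr ⟨p, hp, hpg.to_le le_sup_left, hA, hgf⟩

/-- The action of a two-point stabiliser on the suborbit is faithful on the Fitting subgroup. -/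
theorem Data.fitting_bot (h : Data G a b d)
    (hF : Cfsg.fittingSubgroup ↥(((stabilizer G b).subgroupOf (stabilizer G a)).map
      (toPermHom (stabilizer G a) (orbit (stabilizer G a) b))) = ⊥) :
    Cfsg.fittingSubgroup ↥(stabilizer G a ⊓ stabilizer G b) = ⊥ := by
  haveI := h.fin
  set I := stabilizer G a ⊓ stabilizer G b with hI
  let f : I →* ↥(((stabilizer G b).subgroupOf (stabilizer G a)).map
      (toPermHom (stabilizer G a) (orbit (stabilizer G a) b))) :=
    ((toPermHom (stabilizer G a) (orbit (stabilizer G a) b)).comp (Subgroup.inclusion inf_le_left)).codRestrict _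
      fun i => ⟨Subgroup.inclusion inf_le_left i, i.2.2, rfl⟩
  have hsurj : Function.Surjective f := by
    rintro ⟨_, u, hu, rfl⟩
    exact ⟨⟨u, u.2, hu⟩, rfl⟩
  have hle : Cfsg.fittingSubgroup I ≤ f.ker := by
    refine sSup_le fun N hN => ?_
    haveI := hN.1
    haveI : (N.map f).Normal := Subgroup.Normal.map hN.1 f hsurj
    haveI := hN.2
    have hnil : Group.IsNilpotent (N.map f) :=
      Group.nilpotent_of_surjective (f.subgroupMap N) (f.subgroupMap_surjective N)
    have := (CfsgLib.le_fittingSubgroup hnil).trans hF.le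
    rwa [le_bot_iff, Subgroup.map_eq_bot_iff] at this
  rw [CfsgLib.fittingSubgroup_eq_iSup_pCore, iSup_eq_bot]
  rintro ⟨p, hp⟩
  haveI := Fact.mk hp
  show Cfsg.pCore p I = ⊥
  by_contra hne
  set R := OO p I with hR
  have hRne : R ≠ ⊥ := fun e => hne ((Subgroup.map_eq_bot_iff_of_injective _ I.subtype_injective).1 e)
  have hRK : R ≤ K1 G a b := by
    rintro _ ⟨x, hx, rfl⟩
    have hk : x ∈ f.ker := hle (CfsgLib.pCore_le_fittingSubgroup hp hx)
    refine ⟨x.2.1, (mem_fixingSubgroup_iff G).2 fun y hy => ?_⟩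
    exact congrArg Subtype.val (DFunLike.congr_fun (congrArg Subtype.val (MonoidHom.mem_ker.1 hk)) ⟨y, hy⟩)
  -- normal `p`-subgroups of the two point stabiliser
  have hinI : ∀ M : Subgroup G, I ≤ M → OO p M ⊓ I ≤ R := fun M hM => by
    refine le_OO inf_le_right le_rfl (fun i hi => Subgroup.mem_normalizer_fintype fun x hx =>
      ⟨conj_OO (hM hi) hx.1, I.mul_mem (I.mul_mem hi hx.2) (I.inv_mem hi)⟩) Subgroup.le_normalizer
      ((OO_isPGroup p M).to_le inf_le_left)
  have hRA : R ≤ OO p (stabilizer G a) := le_OO hRK (K1_le.trans inf_le_left)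
    (K1_le.trans (le_normalizer_OO p I)) le_normalizer_K1 (OO_isPGroup p I)
  have hReq : R = OO p (stabilizer G a) ⊓ K1 G a b :=
    le_antisymm (le_inf hRA hRK) ((inf_le_inf_left _ K1_le).trans (hinI _ inf_le_left))
  have hRn : stabilizer G a ≤ Subgroup.normalizer (R : Set G) := fun k hk =>
    Subgroup.mem_normalizer_fintype fun x hx => by
      rw [hReq] at hx ⊢
      exact ⟨conj_OO hk hx.1, conj_mem_of_le_normalizer le_normalizer_K1 hk hx.2⟩
  have hNR := normalizer_le_of_coatom (h.coatom a) (h.core_bot a) ((OO_le p I).trans inf_le_left) hRne hRn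
  set Q := OO p (stabilizer G b) with hQ
  have hn : R ≤ Subgroup.normalizer (Q : Set G) :=
    (OO_le p I).trans (inf_le_right.trans (le_normalizer_OO p _))
  have hPp : IsPGroup p ↥(R ⊔ Q) := IsPGroup.to_sup_of_normal_right' (OO_isPGroup p I) (OO_isPGroup p _) hn
  have hNP : (R ⊔ Q) ⊓ Subgroup.normalizer (R : Set G) ≤ R := by
    rintro x ⟨hxP, hxN⟩
    have hxA : x ∈ stabilizer G a := hNR hxN
    have hxP' : x ∈ ((R ⊔ Q : Subgroup G) : Set G) := hxP
    rw [Subgroup.coe_mul_of_left_le_normalizer_right R Q hn] at hxP'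
    obtain ⟨r, hr, q, hq, rfl⟩ := hxP'
    have hqA : q ∈ stabilizer G a := by
      simpa using (stabilizer G a).mul_mem ((stabilizer G a).inv_mem (OO_le p I hr).1) hxA
    exact R.mul_mem hr (hinI _ inf_le_right ⟨hq, hqA, OO_le p _ hq⟩)
  have hPR : R ⊔ Q ≤ R := by
    by_contra hne'
    haveI := hPp.isNilpotent
    have hlt : R.subgroupOf (R ⊔ Q) < ⊤ :=
      lt_top_iff_ne_top.2 fun htop => hne' (Subgroup.subgroupOf_eq_top.1 htop)
    obtain ⟨⟨x, hxP⟩, hxN, hxR⟩ := SetLike.exists_of_lt (normalizerCondition_of_isNilpotent _ hlt)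
    refine hxR (hNP ⟨hxP, Subgroup.mem_normalizer_fintype fun z hz => ?_⟩)
    have := (Subgroup.mem_normalizer_iff.1 hxN ⟨z, le_sup_left (a := R) (b := Q) hz⟩).1 hz
    simpa [Subgroup.mem_subgroupOf] using this
  have hcard : Nat.card (OO p (stabilizer G a)) = Nat.card Q := by
    obtain ⟨e⟩ := h.iso
    rw [hQ, OO, OO, Subgroup.card_map_of_injective (stabilizer G a).subtype_injective,
      Subgroup.card_map_of_injective (stabilizer G b).subtype_injective, ← CfsgLib.pCore_map_equiv (p := p) e,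
      Subgroup.card_map_of_injective e.injective]
  have hQA : Q = OO p (stabilizer G a) :=
    Subgroup.eq_of_le_of_card_ge ((le_sup_right.trans hPR).trans hRA) hcard.le
  have hOne : OO p (stabilizer G a) ≠ ⊥ := fun e => hRne (le_bot_iff.1 (hRA.trans e.le))
  have hba : stabilizer G b ≤ stabilizer G a :=
    (le_normalizer_OO p (stabilizer G b)).trans (by
      rw [← hQ, hQA]
      exact normalizer_le_of_coatom (h.coatom a) (h.core_bot a) (OO_le p _) hOne (le_normalizer_OO p _))
  rcases eq_or_lt_of_le hba with e | e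
  · exact h.ne e.symm
  · exact (h.coatom a).1 ((h.coatom b).2 _ e)

theorem Data.bound_of_fitting (h : Data G a b d)
    (hF : Cfsg.fittingSubgroup ↥(stabilizer G a ⊓ stabilizer G b) = ⊥) :
    Nat.card (stabilizer G a) ∣ d.factorial * (d - 1).factorial ^ d := by
  haveI := h.fin
  refine h.main.resolve_right ?_
  rintro ⟨p, hp, hpg, hne, -⟩
  haveI := Fact.mk hp
  have hle : K2 G a b ≤ stabilizer G a ⊓ stabilizer G b := (K2_le.trans inf_le_left).trans K1_le
  haveI : ((K2 G a b).subgroupOf (stabilizer G a ⊓ stabilizer G b)).Normal :=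
    Subgroup.normal_subgroupOf_of_le_normalizer (inf_le_left.trans le_normalizer_K2)
  have hnil : Group.IsNilpotent ((K2 G a b).subgroupOf (stabilizer G a ⊓ stabilizer G b)) :=
    (hpg.of_equiv (Subgroup.subgroupOfEquivOfLe hle).symm).isNilpotent
  have := (CfsgLib.le_fittingSubgroup hnil).trans hF.le
  rw [le_bot_iff, Subgroup.subgroupOf_eq_bot, disjoint_iff, inf_eq_left.2 hle] at this
  exact hne this

end CfsgLib.WielandtSuborbit
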