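import Mathlib
import Cfsg.Agent.Lib.WielandtSuborbit

/-!
Knapp's theorem: a primitive group with a suborbit of length `d ≥ 6` on which a point stabiliser
induces at least the alternating group, unfaithfully, has point stabiliser one of
`A_d × A_{d-1}`, `S_d × S_{d-1}`, `S_d × A_{d-1}`, or the pairs of equal sign.
-/

set_option autoImplicit false
set_option linter.style.haveILetI false

open MulAction
open CfsgLib.BenderMax CfsgLib.TWielandt CfsgLib.WielandtSuborbit
open scoped commutatorElement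

namespace CfsgLib.WielandtAlternating

section Perm

open Equiv

variable {α : Type*} [Fintype α] [DecidableEq α]

theorem centralizer_eq_one (h4 : 4 ≤ Fintype.card α) {H : Subgroup (Perm α)} (hH : alternatingGroup α ≤ H)
    {n : Perm α} (hn : ∀ h ∈ H, n * h = h * n) : n = 1 := by
  by_contra hne
  obtain ⟨x, hx⟩ : ∃ x, n x ≠ x := by
    by_contra hall
    push Not at hall
    exact hne (Equiv.ext hall)
  obtain ⟨z, -, hz⟩ := Finset.exists_mem_notMem_of_card_lt_card (s := ({x, n x} : Finset α)) (t := Finset.univ)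
    (lt_of_le_of_lt Finset.card_le_two (by rw [Finset.card_univ]; omega))
  obtain ⟨w, -, hw⟩ := Finset.exists_mem_notMem_of_card_lt_card (s := ({x, n x, z} : Finset α))
    (t := Finset.univ) (lt_of_le_of_lt Finset.card_le_three (by rw [Finset.card_univ]; omega))
  simp only [Finset.mem_insert, Finset.mem_singleton, not_or] at hz hw
  have hσ : (swap (n x) z * swap (n x) w : Perm α) ∈ H :=
    hH (Equiv.Perm.mul_mem_alternatingGroup_of_isSwap ⟨_, _, Ne.symm hz.2, rfl⟩ ⟨_, _, Ne.symm hw.2.1, rfl⟩)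
  have e := congrArg (fun g : Perm α => g x) (hn _ hσ)
  simp only [Perm.mul_apply] at e
  rw [swap_apply_of_ne_of_ne (Ne.symm hx) (Ne.symm hw.1), swap_apply_of_ne_of_ne (Ne.symm hx) (Ne.symm hz.1),
    swap_apply_left, swap_apply_of_ne_of_ne hw.2.1 hw.2.2] at e
  exact hw.2.1 e.symm

theorem normal_cases (h5 : 5 ≤ Fintype.card α) {H N : Subgroup (Perm α)} (hH : alternatingGroup α ≤ H)
    (hn : ∀ h ∈ H, ∀ x ∈ N, h * x * h⁻¹ ∈ N) : N = ⊥ ∨ alternatingGroup α ≤ N := by
  haveI := alternatingGroup.isSimpleGroup (α := α) (by rwa [Nat.card_eq_fintype_card])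
  haveI hN' : (N.subgroupOf (alternatingGroup α)).Normal := ⟨fun x hx g => hn g (hH g.2) x hx⟩
  rcases hN'.eq_bot_or_eq_top with e | e
  · left
    rw [Subgroup.eq_bot_iff_forall]
    intro n hnN
    refine centralizer_eq_one (H := alternatingGroup α) (by omega) le_rfl fun h hh => ?_
    have hAn : (alternatingGroup α).Normal := inferInstance
    have h1 : n * h * n⁻¹ * h⁻¹ ∈ alternatingGroup α :=
      (alternatingGroup α).mul_mem (hAn.conj_mem h hh n) (inv_mem hh)
    have h2 : n * h * n⁻¹ * h⁻¹ ∈ N := by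
      rw [mul_assoc n, mul_assoc n]
      exact N.mul_mem hnN (hn h (hH hh) _ (inv_mem hnN))
    have h3 : (⟨_, h1⟩ : alternatingGroup α) ∈ N.subgroupOf (alternatingGroup α) := h2
    rw [e, Subgroup.mem_bot] at h3
    have h4 : n * h * n⁻¹ * h⁻¹ = 1 := congrArg Subtype.val h3
    rwa [mul_inv_eq_one, mul_inv_eq_iff_eq_mul] at h4
  · exact Or.inr (Subgroup.subgroupOf_eq_top.1 e)

theorem not_comm (h5 : 5 ≤ Fintype.card α) : ∃ x ∈ alternatingGroup α, ∃ y ∈ alternatingGroup α, x * y ≠ y * x := by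
  by_contra hall
  push Not at hall
  have : IsMulCommutative (alternatingGroup α) := ⟨⟨fun x y => Subtype.ext (hall x x.2 y y.2)⟩⟩
  have := alternatingGroup.isMulCommutative_iff_card_le_three.1 this
  rw [Nat.card_eq_fintype_card] at this
  omega

theorem not_nilpotent (h5 : 5 ≤ Fintype.card α) {N : Subgroup (Perm α)} (hN : alternatingGroup α ≤ N)
    (hnil : Group.IsNilpotent N) : False := by
  haveI := hnil
  haveI := alternatingGroup.isSimpleGroup (α := α) (by rwa [Nat.card_eq_fintype_card])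
  haveI : Group.IsNilpotent (alternatingGroup α) :=
    Group.nilpotent_of_mulEquiv (Subgroup.subgroupOfEquivOfLe hN)
  have hc := (IsSimpleGroup.comm_iff_isSolvable (G := alternatingGroup α)).2 inferInstance
  obtain ⟨x, hx, y, hy, hne⟩ := not_comm h5
  exact hne (congrArg Subtype.val (hc ⟨x, hx⟩ ⟨y, hy⟩))

theorem alt_transitive (h3 : 3 ≤ Fintype.card α) (x y : α) : ∃ g ∈ alternatingGroup α, g x = y := by
  rcases eq_or_ne x y with rfl | hne
  · exact ⟨1, one_mem _, rfl⟩
  obtain ⟨z, -, hz⟩ := Finset.exists_mem_notMem_of_card_lt_card (s := ({x, y} : Finset α)) (t := Finset.univ)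
    (lt_of_le_of_lt Finset.card_le_two (by rw [Finset.card_univ]; omega))
  simp only [Finset.mem_insert, Finset.mem_singleton, not_or] at hz
  refine ⟨swap y z * swap x z, Equiv.Perm.mul_mem_alternatingGroup_of_isSwap ⟨_, _, Ne.symm hz.2, rfl⟩
    ⟨_, _, Ne.symm hz.1, rfl⟩, ?_⟩
  rw [Perm.mul_apply, swap_apply_left, swap_apply_right]

end Perm

/-! ### Subgroups without large sections -/

variable {G : Type*} [Group G]

/-- No subgroup of `U` maps onto `T`. -/
def Small (T : Type*) [Group T] (U : Subgroup G) : Prop :=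
  ∀ V : Subgroup G, V ≤ U → ∀ f : V →* T, ¬ Function.Surjective f

theorem small_bot {T : Type*} [Group T] [Nontrivial T] : Small T (⊥ : Subgroup G) := by
  intro V hV f hf
  obtain ⟨t, ht⟩ := exists_ne (1 : T)
  obtain ⟨v, rfl⟩ := hf t
  refine ht ?_
  rw [show v = 1 from Subtype.ext (Subgroup.mem_bot.1 (hV v.2)), map_one]

theorem small_step {T : Type*} [Group T] [IsSimpleGroup T] [Finite T] {U U' : Subgroup G} {P : Type*} [Group P]
    [Finite P] (ψ : U →* P) (hP : Nat.card P < Nat.card T)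
    (hk : ∀ u : U, ψ u = 1 → (u : G) ∈ U') (hs : Small T U') : Small T U := by
  intro V hV f hf
  set ψV := ψ.comp (Subgroup.inclusion hV)
  set W := ψV.ker
  haveI : (W.map f).Normal := Subgroup.Normal.map inferInstance f hf
  rcases (inferInstance : (W.map f).Normal).eq_bot_or_eq_top with e | e
  · rw [Subgroup.map_eq_bot_iff] at e
    have h1 := Subgroup.index_dvd_of_le e
    rw [Subgroup.index_ker, Subgroup.index_ker, MonoidHom.range_eq_top.2 hf, Subgroup.card_top] at h1
    have := Nat.le_of_dvd Nat.card_pos h1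
    have := Subgroup.card_le_card_group ψV.range
    omega
  · let V' : Subgroup G := W.map V.subtype
    have hV' : V' ≤ U' := by
      rintro _ ⟨v, hv, rfl⟩
      exact hk _ (MonoidHom.mem_ker.1 hv)
    refine hs V' hV' (f.comp (Subgroup.inclusion (Subgroup.map_subtype_le W))) fun t => ?_
    obtain ⟨w, hw, rfl⟩ := e.ge (Subgroup.mem_top t)
    exact ⟨⟨w, w, hw, rfl⟩, rfl⟩

/-! ### The action on an invariant set -/

variable {Ω : Type*} [MulAction G Ω]

/-- The permutations induced on an invariant set. -/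
def resHom {H : Subgroup G} {S : Set Ω} (hS : ∀ h ∈ H, ∀ x ∈ S, h • x ∈ S) : H →* Equiv.Perm S where
  toFun u :=
    { toFun := fun x => ⟨(u : G) • (x : Ω), hS u u.2 x x.2⟩
      invFun := fun x => ⟨(u : G)⁻¹ • (x : Ω), hS _ (H.inv_mem u.2) x x.2⟩
      left_inv := fun x => Subtype.ext (inv_smul_smul _ _)
      right_inv := fun x => Subtype.ext (smul_inv_smul _ _) }
  map_one' := Equiv.ext fun x => Subtype.ext (one_smul _ _)
  map_mul' u v := Equiv.ext fun x => Subtype.ext (mul_smul _ _ _)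

theorem resHom_apply {H : Subgroup G} {S : Set Ω} (hS : ∀ h ∈ H, ∀ x ∈ S, h • x ∈ S) (u : H) (x : S) :
    ((resHom hS u x : S) : Ω) = (u : G) • (x : Ω) := rfl

theorem resHom_eq_one {H : Subgroup G} {S : Set Ω} (hS : ∀ h ∈ H, ∀ x ∈ S, h • x ∈ S) (u : H) :
    resHom hS u = 1 ↔ (u : G) ∈ fixingSubgroup G S := by
  rw [mem_fixingSubgroup_iff]
  exact ⟨fun h y hy => congrArg (fun f : Equiv.Perm S => ((f ⟨y, hy⟩ : S) : Ω)) h,
    fun h => Equiv.ext fun x => Subtype.ext (h x x.2)⟩

variable {a b : Ω} {d : ℕ}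

theorem orb_stable (a b : Ω) : ∀ h ∈ stabilizer G a, ∀ x ∈ orbit (stabilizer G a) b, h • x ∈ orbit (stabilizer G a) b :=
  fun _ hh _ hx => orbit_stable hh hx

theorem cut_stable (a b : Ω) : ∀ h ∈ stabilizer G a ⊓ stabilizer G b,
    ∀ x ∈ orbit (stabilizer G a) b \ {b}, h • x ∈ orbit (stabilizer G a) b \ {b} := by
  rintro h hh x ⟨hx, hne⟩
  refine ⟨orbit_stable hh.1 hx, fun e => hne ?_⟩
  rw [Set.mem_singleton_iff] at e ⊢
  exact smul_left_cancel h (e.trans (show h • b = b from hh.2).symm)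

variable (G) (a b)

/-- The action of a point stabiliser on a suborbit. -/
def phi : stabilizer G a →* Equiv.Perm (orbit (stabilizer G a) b) := resHom (orb_stable a b)

/-- The action of a two point stabiliser on the other points of the suborbit. -/
def theta : ↥(stabilizer G a ⊓ stabilizer G b) →* Equiv.Perm ↥(orbit (stabilizer G a) b \ {b}) :=
  resHom (cut_stable a b)

variable {G} {a b}

theorem phi_eq_one (u : stabilizer G a) : phi G a b u = 1 ↔ (u : G) ∈ K1 G a b := by
  rw [phi, resHom_eq_one]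
  exact ⟨fun h => ⟨u.2, h⟩, fun h => h.2⟩

theorem theta_eq_one (u : ↥(stabilizer G a ⊓ stabilizer G b)) : theta G a b u = 1 ↔ (u : G) ∈ K1 G a b := by
  rw [theta, resHom_eq_one]
  refine ⟨fun h => ⟨u.2.1, (mem_fixingSubgroup_iff G).2 fun y hy => ?_⟩,
    fun h => (mem_fixingSubgroup_iff G).2 fun y hy => (mem_fixingSubgroup_iff G).1 h.2 y hy.1⟩
  rcases eq_or_ne y b with rfl | hne
  · exact u.2.2
  · exact (mem_fixingSubgroup_iff G).1 h y ⟨hy, hne⟩

/-- The hypotheses. -/
structure Big (G : Type*) [Group G] {Ω : Type*} [MulAction G Ω] (a b : Ω) (d : ℕ) : Prop where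
  data : Data G a b d
  six : 6 ≤ d
  range : (phi G a b).range.index ≤ 2
  ne : K1 G a b ≠ ⊥

variable [Fintype Ω] [DecidableEq Ω]

theorem card_cut (h : Data G a b d) : Nat.card ↥(orbit (stabilizer G a) b \ {b}) = d - 1 := by
  rw [Nat.card_coe_set_eq, Set.ncard_sdiff_singleton_of_mem (mem_orbit_self b), ← Nat.card_coe_set_eq, h.card]

open scoped Classical in
theorem Big.five (h : Big G a b d) : 5 ≤ Fintype.card ↥(orbit (stabilizer G a) b \ {b}) := by
  have := h.six
  rw [← Nat.card_eq_fintype_card, card_cut h.data]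
  omega

open scoped Classical in
theorem Big.phi_alt (h : Big G a b d) :
    alternatingGroup (orbit (stabilizer G a) b) ≤ (phi G a b).range :=
  Equiv.Perm.alternatingGroup_le_of_index_le_two h.range

open scoped Classical in
theorem Big.theta_alt (h : Big G a b d) :
    alternatingGroup ↥(orbit (stabilizer G a) b \ {b}) ≤ (theta G a b).range := by
  refine Equiv.Perm.alternatingGroup_le_of_index_le_two ?_
  let ι : ↥(orbit (stabilizer G a) b \ {b}) → orbit (stabilizer G a) b := fun x => ⟨x, x.2.1⟩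
  let e : ↥(orbit (stabilizer G a) b \ {b}) ≃ {y : orbit (stabilizer G a) b // (y : Ω) ≠ b} :=
    { toFun := fun x => ⟨ι x, x.2.2⟩
      invFun := fun y => ⟨y.1, y.1.2, y.2⟩
      left_inv := fun x => rfl
      right_inv := fun y => rfl }
  let ext : Equiv.Perm ↥(orbit (stabilizer G a) b \ {b}) →* Equiv.Perm (orbit (stabilizer G a) b) :=
    (Equiv.Perm.ofSubtype (p := fun y : orbit (stabilizer G a) b => (y : Ω) ≠ b)).comp e.permCongrHom.toMonoidHom
  have hle : (phi G a b).range.comap ext ≤ (theta G a b).range := by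
    rintro π ⟨u, hu⟩
    have hb : ext π ⟨b, mem_orbit_self b⟩ = ⟨b, mem_orbit_self b⟩ :=
      Equiv.Perm.ofSubtype_apply_of_not_mem _ (by simp)
    have hub : (u : G) • b = b := by
      rw [← hu] at hb
      exact congrArg Subtype.val hb
    refine ⟨⟨u, u.2, hub⟩, Equiv.ext fun x => Subtype.ext ?_⟩
    have hx := congrArg (fun f : Equiv.Perm (orbit (stabilizer G a) b) => (f (ι x) : Ω)) hu
    rw [theta, resHom_apply]
    refine hx.trans ?_
    exact congrArg Subtype.val
      (Equiv.Perm.ofSubtype_apply_of_mem (e.permCongr π) (show ((ι x : orbit (stabilizer G a) b) : Ω) ≠ b from x.2.2))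
  refine le_trans (Subgroup.index_antitone hle) ?_
  rw [Subgroup.index_comap]
  refine le_trans (Subgroup.relIndex_le_of_le_right le_top ?_) ((Subgroup.relIndex_top_right _).trans_le h.range)
  rw [Subgroup.relIndex_top_right]
  exact Subgroup.index_ne_zero_of_finite

/-- The invariant points of the first suborbit. -/
theorem fix_base (u : ↥(((stabilizer G b).subgroupOf (stabilizer G a)).map (phi G a b))) :
    (u : Equiv.Perm (orbit (stabilizer G a) b)) ⟨b, mem_orbit_self b⟩ = ⟨b, mem_orbit_self b⟩ := by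
  obtain ⟨_, v, hv, rfl⟩ := u
  exact Subtype.ext hv

open scoped Classical in
theorem Big.fitting (h : Big G a b d) : Cfsg.fittingSubgroup ↥(stabilizer G a ⊓ stabilizer G b) = ⊥ := by
  refine h.data.fitting_bot ?_
  rw [show toPermHom (stabilizer G a) (orbit (stabilizer G a) b) = phi G a b from
    MonoidHom.ext fun u => Equiv.ext fun x => Subtype.ext rfl]
  set P := ((stabilizer G b).subgroupOf (stabilizer G a)).map (phi G a b) with hP
  let b0 : orbit (stabilizer G a) b := ⟨b, mem_orbit_self b⟩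
  have hne : ∀ (u : P) (x : ↥(orbit (stabilizer G a) b \ {b})),
      ((u : Equiv.Perm (orbit (stabilizer G a) b)) ⟨x, x.2.1⟩ : Ω) ≠ b := fun u x e =>
    x.2.2 (congrArg Subtype.val ((u : Equiv.Perm (orbit (stabilizer G a) b)).injective
      ((Subtype.ext e : _ = b0).trans (fix_base u).symm)))
  let r : P → ↥(orbit (stabilizer G a) b \ {b}) → ↥(orbit (stabilizer G a) b \ {b}) := fun u x =>
    ⟨((u : Equiv.Perm (orbit (stabilizer G a) b)) ⟨x, x.2.1⟩ : Ω), Subtype.coe_prop _, hne u x⟩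
  have hr1 : ∀ x, r 1 x = x := fun x => Subtype.ext rfl
  have hrm : ∀ u v x, r (u * v) x = r u (r v x) := fun u v x => Subtype.ext rfl
  let g : P →* Equiv.Perm ↥(orbit (stabilizer G a) b \ {b}) := MonoidHom.mk' (fun u =>
    { toFun := r u
      invFun := r u⁻¹
      left_inv := fun x => by rw [← hrm, inv_mul_cancel, hr1]
      right_inv := fun x => by rw [← hrm, mul_inv_cancel, hr1] }) fun u v => Equiv.ext fun x => hrm u v x
  have hinj : Function.Injective g := by
    rw [injective_iff_map_eq_one]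
    intro u hu
    refine Subtype.ext (Equiv.ext fun y => ?_)
    by_cases hy : (y : Ω) = b
    · rw [show y = b0 from Subtype.ext hy, fix_base u]; rfl
    · exact Subtype.ext (congrArg (fun f : Equiv.Perm ↥(orbit (stabilizer G a) b \ {b}) => (f ⟨y, y.2, hy⟩ : Ω)) hu)
  have halt : alternatingGroup ↥(orbit (stabilizer G a) b \ {b}) ≤ g.range := by
    refine h.theta_alt.trans ?_
    rintro _ ⟨i, rfl⟩
    exact ⟨⟨phi G a b ⟨i, i.2.1⟩, ⟨i, i.2.1⟩, i.2.2, rfl⟩, Equiv.ext fun x => Subtype.ext rfl⟩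
  refine le_bot_iff.1 (sSup_le fun N hN => ?_)
  haveI := hN.1
  haveI := hN.2
  have hn : ∀ x ∈ g.range, ∀ y ∈ N.map g, x * y * x⁻¹ ∈ N.map g := by
    rintro _ ⟨x, rfl⟩ _ ⟨y, hy, rfl⟩
    exact ⟨x * y * x⁻¹, hN.1.conj_mem y hy x, by rw [map_mul, map_mul, map_inv]⟩
  rcases normal_cases h.five halt hn with e | e
  · rw [Subgroup.map_eq_bot_iff_of_injective _ hinj] at e
    exact e.le
  · exact (not_nilpotent h.five e
      (Group.nilpotent_of_surjective (g.subgroupMap N) (g.subgroupMap_surjective N))).elim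

/-- Nilpotent normal subgroups of the two point stabiliser are trivial. -/
theorem Big.normal_bot (h : Big G a b d) {N : Subgroup G} (hN : N ≤ stabilizer G a ⊓ stabilizer G b)
    (hn : stabilizer G a ⊓ stabilizer G b ≤ Subgroup.normalizer (N : Set G)) (hnil : Group.IsNilpotent N) :
    N = ⊥ := by
  haveI : (N.subgroupOf (stabilizer G a ⊓ stabilizer G b)).Normal :=
    Subgroup.normal_subgroupOf_of_le_normalizer hn
  haveI := hnil
  have h1 : Group.IsNilpotent (N.subgroupOf (stabilizer G a ⊓ stabilizer G b)) :=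
    Group.nilpotent_of_mulEquiv (Subgroup.subgroupOfEquivOfLe hN).symm
  have := (CfsgLib.le_fittingSubgroup h1).trans h.fitting.le
  rwa [le_bot_iff, Subgroup.subgroupOf_eq_bot, disjoint_iff, inf_eq_left.2 hN] at this

theorem Big.second_bot (h : Big G a b d) : K2 G a b = ⊥ ∨ K2 G b a = ⊥ := by
  haveI := h.data.fin
  by_contra hc
  push Not at hc
  obtain ⟨p, hp, hpg, -, -⟩ := CfsgLib.TWielandt.main (h.data.setup hc.1 hc.2)
  haveI := Fact.mk hp
  exact hc.1 (h.normal_bot ((K2_le.trans inf_le_left).trans K1_le) (inf_le_left.trans le_normalizer_K2)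
    (hpg.to_le le_sup_left).isNilpotent)

theorem K1_eq_map (a b : Ω) : (phi G a b).ker.map (stabilizer G a).subtype = K1 G a b := by
  ext x
  exact ⟨fun ⟨u, hu, e⟩ => e ▸ (phi_eq_one u).1 hu, fun hx => ⟨⟨x, hx.1⟩, (phi_eq_one _).2 hx, rfl⟩⟩

theorem card_eq_mul (a b : Ω) :
    Nat.card (stabilizer G a) = Nat.card (K1 G a b) * Nat.card (phi G a b).range := by
  rw [← Subgroup.card_mul_index (phi G a b).ker, Subgroup.index_ker, ← K1_eq_map a b,
    Subgroup.card_map_of_injective (stabilizer G a).subtype_injective]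

theorem card_range (h : Data G a b d) :
    Nat.card (phi G a b).range * (phi G a b).range.index = d.factorial := by
  classical
  rw [Subgroup.card_mul_index, Nat.card_perm, h.card]

theorem Big.K1_symm_ne (h : Big G a b d) : K1 G b a ≠ ⊥ := by
  haveI := h.data.fin
  intro e
  obtain ⟨f⟩ := h.data.iso
  have h1 := card_eq_mul (G := G) b a
  rw [e, Subgroup.card_bot, one_mul, ← Nat.card_congr f.toEquiv, card_eq_mul a b] at h1
  have h2 : Nat.card (phi G b a).range ≤ d.factorial := by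
    rw [← card_range h.data.symm]
    exact Nat.le_mul_of_pos_right _ (Nat.pos_of_ne_zero Subgroup.index_ne_zero_of_finite)
  have h3 : d.factorial ≤ Nat.card (phi G a b).range * 2 :=
    (card_range h.data).symm.trans_le (Nat.mul_le_mul_left _ h.range)
  have h4 : Nat.card (K1 G a b) ≤ 2 :=
    Nat.le_of_mul_le_mul_right (by rw [h1, mul_comm 2]; exact h2.trans h3) Nat.card_pos
  have h5 : Nat.card (K1 G a b) = 2 := by
    have := mt (Subgroup.eq_bot_of_card_eq _) h.ne
    have := Nat.card_pos (α := K1 G a b)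
    omega
  haveI : Fact (Nat.Prime 2) := ⟨Nat.prime_two⟩
  exact h.ne (h.normal_bot K1_le (inf_le_left.trans le_normalizer_K1)
    (IsPGroup.of_card (p := 2) (n := 1) (by rw [h5, pow_one])).isNilpotent)

theorem inS_eq (a b : Ω) {k : G} (hk : k ∈ stabilizer G a) :
    inS G a b (k • b) = (fun x => k • x) '' orbit (stabilizer G b) a := by
  ext x
  constructor
  · rintro ⟨g, hg, rfl⟩
    exact ⟨(k⁻¹ * g) • a, ⟨⟨k⁻¹ * g, show (k⁻¹ * g) • b = b by rw [mul_smul, hg, inv_smul_smul]⟩, rfl⟩,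
      show k • (k⁻¹ * g) • a = g • a by rw [mul_smul, smul_inv_smul]⟩
  · rintro ⟨_, ⟨⟨g, hg⟩, rfl⟩, rfl⟩
    exact ⟨k * g, by rw [mul_smul, (show g • b = b from hg)], mul_smul _ _ _⟩

theorem inS_base (a b : Ω) : inS G a b b = orbit (stabilizer G b) a := by
  have := inS_eq (G := G) a b (k := 1) (one_mem _)
  rw [one_smul] at this
  rw [this]
  simp

theorem card_inS (h : Data G a b d) {c : Ω} (hc : c ∈ orbit (stabilizer G a) b) :
    Nat.card ↥(inS G a b c \ {a}) = d - 1 := by
  obtain ⟨⟨k, hk⟩, rfl⟩ := hc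
  show Nat.card ↥(inS G a b (k • b) \ {a}) = d - 1
  rw [Nat.card_coe_set_eq, Set.ncard_sdiff_singleton_of_mem (show a ∈ inS G a b (k • b) from ⟨k, rfl, hk⟩),
    inS_eq a b hk, Set.ncard_image_of_injective _ (MulAction.injective k), ← Nat.card_coe_set_eq, h.symm.card]

theorem inS_stable (a b c : Ω) : ∀ u ∈ stabilizer G a ⊓ stabilizer G c,
    ∀ x ∈ inS G a b c \ {a}, u • x ∈ inS G a b c \ {a} := by
  rintro u hu x ⟨⟨g, hg, rfl⟩, hne⟩
  refine ⟨⟨u * g, by rw [mul_smul, hg]; exact hu.2, mul_smul _ _ _⟩, fun e => hne ?_⟩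
  rw [Set.mem_singleton_iff] at e ⊢
  exact smul_left_cancel u (e.trans (show u • a = a from hu.1).symm)

theorem K1_fix {c : Ω} (hc : c ∈ orbit (stabilizer G a) b) : K1 G a b ≤ stabilizer G a ⊓ stabilizer G c :=
  fun _ hu => ⟨hu.1, (mem_fixingSubgroup_iff G).1 hu.2 c hc⟩

variable (G) (a b) in
/-- The kernel on the suborbit and on the points behind the members of `s`. -/
def XK (s : Set Ω) : Subgroup G := K1 G a b ⊓ fixingSubgroup G (⋃ c ∈ s, inS G a b c)

theorem mem_XK {s : Set Ω} {x : G} :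
    x ∈ XK G a b s ↔ x ∈ K1 G a b ∧ ∀ c ∈ s, ∀ y ∈ inS G a b c, x • y = y := by
  simp only [XK, Subgroup.mem_inf, mem_fixingSubgroup_iff, Set.mem_iUnion]
  exact ⟨fun ⟨h1, h2⟩ => ⟨h1, fun c hc y hy => h2 y ⟨c, hc, hy⟩⟩,
    fun ⟨h1, h2⟩ => ⟨h1, fun y ⟨c, hc, hy⟩ => h2 c hc y hy⟩⟩

theorem XK_orbit : XK G a b (orbit (stabilizer G a) b) = K2 G a b := rfl

theorem small_K1 {T : Type*} [Group T] [IsSimpleGroup T] [Finite T] (h : Data G a b d) (hK : K2 G a b = ⊥)
    (hT : (d - 1).factorial < Nat.card T) : Small T (K1 G a b) := by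
  classical
  suffices hs : ∀ s : Finset Ω, ↑s ⊆ orbit (stabilizer G a) b →
      Small T (XK G a b (orbit (stabilizer G a) b \ ↑s)) by
    have := hs (orbit (stabilizer G a) b).toFinset (by simp)
    rwa [Set.coe_toFinset, Set.sdiff_self, show XK G a b (∅ : Set Ω) = K1 G a b from
      Subgroup.ext fun x => mem_XK.trans ⟨And.left, fun h => ⟨h, fun c hc => absurd hc (Set.notMem_empty c)⟩⟩] at this
  intro s
  induction s using Finset.induction with
  | empty =>
      intro _
      rw [Finset.coe_empty, Set.sdiff_empty, XK_orbit, hK]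
      exact small_bot
  | @insert c s hcs ih =>
      intro hsub
      rw [Finset.coe_insert, Set.insert_subset_iff] at hsub
      refine small_step ((resHom (inS_stable a b c)).comp
        (Subgroup.inclusion ((inf_le_left).trans (K1_fix hsub.1)))) ?_ ?_ (ih hsub.2)
      · rw [Nat.card_perm, card_inS h hsub.1]; exact hT
      intro u hu
      refine mem_XK.2 ⟨(mem_XK.1 u.2).1, fun e he y hy => ?_⟩
      rw [MonoidHom.comp_apply, resHom_eq_one, mem_fixingSubgroup_iff] at hu
      by_cases hec : e = c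
      · subst hec
        by_cases hya : y = a
        · subst hya; exact (mem_XK.1 u.2).1.1
        · exact hu y ⟨hy, hya⟩
      · exact (mem_XK.1 u.2).2 e ⟨he.1, by simp [hec]; exact he.2⟩ y hy

theorem small_mono {T : Type*} [Group T] {U U' : Subgroup G} (hle : U' ≤ U) (hs : Small T U) : Small T U' :=
  fun V hV => hs V (hV.trans hle)

theorem Big.small_symm {T : Type*} [Group T] [IsSimpleGroup T] [Finite T] (h : Big G a b d)
    (hT : (d - 1).factorial < Nat.card T) : Small T (K1 G b a) := by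
  classical
  rcases h.second_bot with e | e
  · refine small_step ((theta G a b).comp (Subgroup.inclusion (K1_le.trans (le_of_eq (inf_comm _ _))))) ?_ ?_
      (small_mono inf_le_left (U := K1 G a b) (U' := K1 G a b ⊓ K1 G b a) (small_K1 h.data e hT))
    · rw [Nat.card_perm, card_cut h.data]; exact hT
    intro u hu
    rw [MonoidHom.comp_apply, theta_eq_one] at hu
    exact ⟨hu, u.2⟩
  · exact small_K1 h.data.symm e hT

open scoped Classical in
theorem Big.symm (h : Big G a b d) : Big G b a d := by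
  haveI := h.data.fin
  refine ⟨h.data.symm, h.six, ?_, h.K1_symm_ne⟩
  obtain ⟨e⟩ := h.data.symm.iso
  set T := alternatingGroup (orbit (stabilizer G a) b) with hTdef
  have hcT : 2 * Nat.card T = d.factorial := by
    haveI : Nontrivial (orbit (stabilizer G a) b) := by
      rw [← Finite.one_lt_card_iff_nontrivial, h.data.card]; have := h.six; omega
    rw [hTdef, two_mul_nat_card_alternatingGroup, Nat.card_perm, h.data.card]
  have hsmall : (d - 1).factorial < Nat.card T := by
    have := Nat.mul_factorial_pred (n := d) (by have := h.six; omega)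
    have := Nat.mul_le_mul_right (d - 1).factorial h.six
    have := (d - 1).factorial_pos
    omega
  haveI : IsSimpleGroup T := alternatingGroup.isSimpleGroup (by rw [h.data.card]; have := h.six; omega)
  set V := T.comap ((phi G a b).comp e.toMonoidHom) with hV
  let f : V →* T := ((phi G a b).comp e.toMonoidHom).subgroupComap T
  have hf : Function.Surjective f := by
    rintro ⟨t, ht⟩
    obtain ⟨u, rfl⟩ := h.phi_alt ht
    refine ⟨⟨e.symm u, by simpa [hV] using ht⟩, Subtype.ext ?_⟩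
    show phi G a b (e (e.symm u)) = phi G a b u
    rw [MulEquiv.apply_symm_apply]
  set ψ := (phi G b a).comp V.subtype
  haveI : (ψ.ker.map f).Normal := Subgroup.Normal.map inferInstance f hf
  rcases (inferInstance : (ψ.ker.map f).Normal).eq_bot_or_eq_top with e' | e'
  · rw [Subgroup.map_eq_bot_iff] at e'
    have h1 := Subgroup.index_dvd_of_le e'
    rw [Subgroup.index_ker, Subgroup.index_ker, MonoidHom.range_eq_top.2 hf, Subgroup.card_top] at h1
    have h2 := Nat.le_of_dvd Nat.card_pos h1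
    have h3 : Nat.card ψ.range ≤ Nat.card (phi G b a).range := by
      refine Subgroup.card_le_of_le ?_
      rintro _ ⟨v, rfl⟩
      exact ⟨_, rfl⟩
    have h4 := card_range h.data.symm
    by_contra hi
    have : Nat.card (phi G b a).range * 3 ≤ d.factorial := h4 ▸ Nat.mul_le_mul_left _ (by omega)
    omega
  · exfalso
    let W : Subgroup G := (ψ.ker.map V.subtype).map (stabilizer G b).subtype
    have hW : W ≤ K1 G b a := by
      rintro _ ⟨_, ⟨v, hv, rfl⟩, rfl⟩
      exact (phi_eq_one _).1 hv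
    have hsurj : ∀ t : T, ∃ v : V, v ∈ ψ.ker ∧ f v = t := fun t => e'.ge (Subgroup.mem_top t)
    let i : W ≃* ψ.ker :=
      ((ψ.ker.map V.subtype).equivMapOfInjective _ (stabilizer G b).subtype_injective).symm.trans
        (ψ.ker.equivMapOfInjective _ V.subtype_injective).symm
    refine h.small_symm hsmall W hW ((f.comp ψ.ker.subtype).comp i.toMonoidHom) fun t => ?_
    obtain ⟨v, hv, rfl⟩ := hsurj t
    exact ⟨i.symm ⟨v, hv⟩, by simp⟩

/-- The odd part of a subgroup. -/
theorem conj_closure_odd {M K : Subgroup G} (hn : ∀ k ∈ M, ∀ x ∈ K, k * x * k⁻¹ ∈ K) {k : G} (hk : k ∈ M)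
    {x : G} (hx : x ∈ Subgroup.closure {y : G | y ∈ K ∧ Odd (orderOf y)}) :
    k * x * k⁻¹ ∈ Subgroup.closure {y : G | y ∈ K ∧ Odd (orderOf y)} := by
  have h1 : (Subgroup.closure {y : G | y ∈ K ∧ Odd (orderOf y)}).map (MulAut.conj k).toMonoidHom ≤
      Subgroup.closure {y : G | y ∈ K ∧ Odd (orderOf y)} := by
    rw [MonoidHom.map_closure, Subgroup.closure_le]
    rintro _ ⟨y, ⟨hy, ho⟩, rfl⟩
    exact Subgroup.subset_closure ⟨hn k hk y hy, by rwa [MulEquiv.toMonoidHom_eq_coe, MonoidHom.coe_coe, MulEquiv.orderOf_eq]⟩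
  exact h1 ⟨x, hx, rfl⟩

theorem Big.not_le (h : Big G a b d) : ¬ K1 G a b ≤ K1 G b a := by
  haveI := h.data.fin
  intro hle
  obtain ⟨f⟩ := h.data.iso
  have h1 := card_eq_mul (G := G) b a
  rw [← Nat.card_congr f.toEquiv, card_eq_mul a b] at h1
  have h3 : Nat.card (phi G a b).range ≤ Nat.card (phi G b a).range * 2 := by
    refine le_trans ?_ (Nat.mul_le_mul_left _ h.symm.range)
    rw [card_range h.data.symm, ← card_range h.data]
    exact Nat.le_mul_of_pos_right _ (Nat.pos_of_ne_zero Subgroup.index_ne_zero_of_finite)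
  have h4 : Nat.card (K1 G b a) ≤ Nat.card (K1 G a b) * 2 := by
    refine Nat.le_of_mul_le_mul_right ?_ (Nat.card_pos (α := (phi G b a).range))
    rw [← h1, mul_assoc, mul_comm 2]
    exact Nat.mul_le_mul_left _ h3
  set J := (K1 G a b).subgroupOf (K1 G b a)
  have h5 : J.index ≤ 2 := by
    have := J.card_mul_index
    rw [Nat.card_congr (Subgroup.subgroupOfEquivOfLe hle).toEquiv] at this
    exact Nat.le_of_mul_le_mul_left (this.trans_le h4) Nat.card_pos
  have hodd : ∀ y : G, y ∈ K1 G b a → Odd (orderOf y) → y ∈ K1 G a b := by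
    intro y hy ⟨j, hj⟩
    have hsq : ∀ z : K1 G b a, z ^ 2 ∈ J := by
      intro z
      rcases Nat.lt_or_ge J.index 2 with h6 | h6
      · have : J = ⊤ := Subgroup.index_eq_one.1 (by
          have := Nat.pos_of_ne_zero (Subgroup.index_ne_zero_of_finite (H := J))
          omega)
        rw [this]; trivial
      · exact Subgroup.sq_mem_of_index_two (le_antisymm h5 h6) z
    have h7 : (y ^ (j + 1)) ^ 2 ∈ K1 G a b := hsq ⟨y ^ (j + 1), (K1 G b a).pow_mem hy _⟩
    rwa [← pow_mul, show (j + 1) * 2 = orderOf y + 1 by omega, pow_succ, pow_orderOf_eq_one, one_mul] at h7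
  set R := Subgroup.closure {y : G | y ∈ K1 G a b ∧ Odd (orderOf y)} with hR
  have hR' : R = Subgroup.closure {y : G | y ∈ K1 G b a ∧ Odd (orderOf y)} := by
    rw [hR]; congr 1; ext y
    exact ⟨fun hy => ⟨hle hy.1, hy.2⟩, fun hy => ⟨hodd y hy.1 hy.2, hy.2⟩⟩
  have hRA : R ≤ stabilizer G a := (Subgroup.closure_le _).2 fun y hy => (K1_le hy.1).1
  have hnA : stabilizer G a ≤ Subgroup.normalizer (R : Set G) := fun k hk =>
    Subgroup.mem_normalizer_fintype fun x hx =>
      conj_closure_odd (fun _ hk _ hx => conj_mem_of_le_normalizer le_normalizer_K1 hk hx) hk hx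
  have hnB : stabilizer G b ≤ Subgroup.normalizer (R : Set G) := fun k hk =>
    Subgroup.mem_normalizer_fintype fun x hx => by
      rw [hR'] at hx ⊢
      exact conj_closure_odd (fun _ hk _ hx => conj_mem_of_le_normalizer le_normalizer_K1 hk hx) hk hx
  have hbot : R = ⊥ := by
    by_contra hne
    have hba := hnB.trans (normalizer_le_of_coatom (h.data.coatom a) (h.data.core_bot a) hRA hne hnA)
    rcases eq_or_lt_of_le hba with e | e
    · exact h.data.ne e.symm
    · exact (h.data.coatom a).1 ((h.data.coatom b).2 _ e)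
  haveI : Fact (Nat.Prime 2) := ⟨Nat.prime_two⟩
  have hp : IsPGroup 2 (K1 G a b) := by
    intro y
    obtain ⟨k, m, hm, hkm⟩ := Nat.exists_eq_two_pow_mul_odd (orderOf_pos (y : G)).ne'
    refine ⟨k, Subtype.ext ?_⟩
    have hmem : (y : G) ^ 2 ^ k ∈ R := Subgroup.subset_closure ⟨(K1 G a b).pow_mem y.2 _, by
      rw [orderOf_pow' _ (pow_ne_zero _ two_ne_zero), hkm, Nat.gcd_mul_right_left,
        Nat.mul_div_cancel_left _ (pow_pos two_pos _)]
      exact hm⟩
    rw [hbot, Subgroup.mem_bot] at hmem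
    simpa using hmem
  exact h.ne (h.normal_bot K1_le (inf_le_left.trans le_normalizer_K1) hp.isNilpotent)

/-- The image of a normal subgroup of a group with large image. -/
theorem image_cases {α : Type*} [Fintype α] [DecidableEq α] {H : Subgroup G} (ρ : H →* Equiv.Perm α)
    (h5 : 5 ≤ Fintype.card α) {M N : Subgroup G} (hM : alternatingGroup α ≤ (M.subgroupOf H).map ρ)
    (hn : ∀ m ∈ M, ∀ x ∈ N, m * x * m⁻¹ ∈ N) :
    (∀ u : H, (u : G) ∈ N → ρ u = 1) ∨ alternatingGroup α ≤ (N.subgroupOf H).map ρ := by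
  rcases normal_cases h5 hM (N := (N.subgroupOf H).map ρ) (by
    rintro _ ⟨m, hm, rfl⟩ _ ⟨x, hx, rfl⟩
    exact ⟨m * x * m⁻¹, hn m hm x hx, by rw [map_mul, map_mul, map_inv]⟩) with e | e
  · exact Or.inl fun u hu => Subgroup.mem_bot.1 (e ▸ Subgroup.mem_map_of_mem ρ (show u ∈ N.subgroupOf H from hu))
  · exact Or.inr e

theorem K1_le_I (a b : Ω) : K1 G a b ≤ stabilizer G b ⊓ stabilizer G a :=
  K1_le.trans (le_of_eq (inf_comm _ _))

open scoped Classical in
theorem Big.K1_image (h : Big G a b d) : alternatingGroup ↥(orbit (stabilizer G b) a \ {a}) ≤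
    ((K1 G a b).subgroupOf (stabilizer G b ⊓ stabilizer G a)).map (theta G b a) := by
  haveI := h.data.fin
  refine (image_cases (theta G b a) h.symm.five (M := stabilizer G b ⊓ stabilizer G a) ?_ ?_).resolve_left ?_
  · rw [Subgroup.subgroupOf_self, ← MonoidHom.range_eq_map]; exact h.symm.theta_alt
  · exact fun m hm x hx => conj_mem_of_le_normalizer le_normalizer_K1 hm.2 hx
  · exact fun e => h.not_le fun x hx => (theta_eq_one ⟨x, K1_le_I a b hx⟩).1 (e _ hx)

theorem XK_base (a b : Ω) : XK G a b ({b} : Set Ω) = K1 G a b ⊓ K1 G b a := by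
  ext x
  rw [mem_XK]
  simp only [Set.mem_singleton_iff, forall_eq, inS_base, Subgroup.mem_inf]
  exact ⟨fun ⟨h1, h2⟩ => ⟨h1, (K1_le h1).2, (mem_fixingSubgroup_iff G).2 h2⟩,
    fun ⟨h1, h2⟩ => ⟨h1, (mem_fixingSubgroup_iff G).1 h2.2⟩⟩

theorem XK_conj [Finite G] {k x : G} (hk : k ∈ stabilizer G a) {s t : Set Ω} (hst : ∀ c ∈ t, k⁻¹ • c ∈ s)
    (hx : x ∈ XK G a b s) : k * x * k⁻¹ ∈ XK G a b t := by
  rw [mem_XK] at hx ⊢
  refine ⟨conj_mem_of_le_normalizer le_normalizer_K1 hk hx.1, fun c hc y hy => ?_⟩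
  obtain ⟨g, hg, rfl⟩ := hy
  rw [mul_smul, mul_smul, hx.2 _ (hst c hc) _ ⟨k⁻¹ * g, by rw [mul_smul, hg], mul_smul _ _ _⟩, smul_inv_smul]

theorem XK_singleton_conj [Finite G] {k x : G} (hk : k ∈ stabilizer G a) {c : Ω}
    (hx : x ∈ XK G a b ({c} : Set Ω)) : k * x * k⁻¹ ∈ XK G a b ({k • c} : Set Ω) :=
  XK_conj hk (fun e he => by rw [Set.mem_singleton_iff] at he; rw [he, inv_smul_smul]; rfl) hx

open scoped Classical in
theorem Big.image_big (h : Big G a b d) {N : Subgroup G} (hN : N ≤ K1 G a b)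
    (hn : ∀ m ∈ K1 G a b, ∀ x ∈ N, m * x * m⁻¹ ∈ N) (hne : ¬ N ≤ XK G a b ({b} : Set Ω)) :
    alternatingGroup ↥(orbit (stabilizer G b) a \ {a}) ≤
      (N.subgroupOf (stabilizer G b ⊓ stabilizer G a)).map (theta G b a) := by
  refine (image_cases (theta G b a) h.symm.five h.K1_image hn).resolve_left fun e => hne fun x hx => ?_
  rw [XK_base]
  exact ⟨hN hx, (theta_eq_one ⟨x, K1_le_I a b (hN hx)⟩).1 (e _ hx)⟩

/-- Transport to the base point. -/
theorem transport [Finite G] {k : G} (hk : k ∈ stabilizer G a) {U : Subgroup G} (hU : U ≤ K1 G a b)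
    (hn : ∀ m ∈ K1 G a b, ∀ x ∈ U, m * x * m⁻¹ ∈ U) :
    let U' := U.map (MulAut.conj k⁻¹).toMonoidHom
    U' ≤ K1 G a b ∧ (∀ m ∈ K1 G a b, ∀ x ∈ U', m * x * m⁻¹ ∈ U') ∧
      ∀ x ∈ U, (k⁻¹ * x * k⁻¹⁻¹ ∈ XK G a b ({b} : Set Ω) ↔ x ∈ XK G a b ({k • b} : Set Ω)) := by
  intro U'
  refine ⟨?_, ?_, fun x hx => ⟨fun h1 => ?_, fun h1 => ?_⟩⟩
  · rintro _ ⟨x, hx, rfl⟩
    exact conj_mem_of_le_normalizer le_normalizer_K1 ((stabilizer G a).inv_mem hk) (hU hx)
  · rintro m hm _ ⟨x, hx, rfl⟩
    refine ⟨(k * m * k⁻¹) * x * (k * m * k⁻¹)⁻¹,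
      hn _ (conj_mem_of_le_normalizer le_normalizer_K1 hk hm) x hx, ?_⟩
    simp [MulAut.conj_apply, mul_assoc]
  · have := XK_singleton_conj hk h1
    simpa [mul_assoc] using this
  · have := XK_singleton_conj ((stabilizer G a).inv_mem hk) h1
    rwa [inv_smul_smul] at this

theorem Big.inter_not_le (h : Big G a b d) {c : Ω} (hc : c ∈ orbit (stabilizer G a) b) {U V : Subgroup G}
    (hU : U ≤ K1 G a b) (hnU : ∀ m ∈ K1 G a b, ∀ x ∈ U, m * x * m⁻¹ ∈ U)
    (hV : V ≤ K1 G a b) (hnV : ∀ m ∈ K1 G a b, ∀ x ∈ V, m * x * m⁻¹ ∈ V)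
    (hUc : ¬ U ≤ XK G a b ({c} : Set Ω)) (hVc : ¬ V ≤ XK G a b ({c} : Set Ω)) :
    ¬ U ⊓ V ≤ XK G a b ({c} : Set Ω) := by
  classical
  haveI := h.data.fin
  obtain ⟨⟨k, hk⟩, rfl⟩ := hc
  change ¬ U ≤ XK G a b ({k • b} : Set Ω) at hUc
  change ¬ V ≤ XK G a b ({k • b} : Set Ω) at hVc
  intro hle
  change U ⊓ V ≤ XK G a b ({k • b} : Set Ω) at hle
  obtain ⟨u1, u2, u3⟩ := transport hk hU hnU
  obtain ⟨v1, v2, v3⟩ := transport hk hV hnV
  obtain ⟨x, hx, y, hy, hne⟩ := not_comm h.symm.five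
  obtain ⟨⟨_, hu⟩, ⟨u, hu', rfl⟩, rfl⟩ := h.image_big u1 u2 (fun hle' => hUc fun x hx =>
    (u3 x hx).1 (hle' ⟨x, hx, rfl⟩)) hx
  obtain ⟨⟨_, hv⟩, ⟨v, hv', rfl⟩, rfl⟩ := h.image_big v1 v2 (fun hle' => hVc fun x hx =>
    (v3 x hx).1 (hle' ⟨x, hx, rfl⟩)) hy
  refine hne ?_
  have h1 : u * v * u⁻¹ * v⁻¹ ∈ U ⊓ V := by
    refine ⟨?_, V.mul_mem (hnV u (hU hu') v hv') (V.inv_mem hv')⟩
    rw [mul_assoc u, mul_assoc u]
    exact U.mul_mem hu' (hnU v (hV hv') _ (U.inv_mem hu'))
  have h2 := (u3 _ h1.1).2 (hle h1)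
  rw [XK_base] at h2
  have h3 := (theta_eq_one
    ((⟨_, hu⟩ : ↥(stabilizer G b ⊓ stabilizer G a)) * ⟨_, hv⟩ * (⟨_, hu⟩ : ↥(stabilizer G b ⊓ stabilizer G a))⁻¹ *
      (⟨_, hv⟩ : ↥(stabilizer G b ⊓ stabilizer G a))⁻¹)).2 (by
        convert h2.2 using 1
        simp [MulAut.conj_apply, mul_assoc])
  rw [map_mul, map_mul, map_mul, map_inv (theta G b a), map_inv (theta G b a)] at h3
  exact mul_inv_eq_iff_eq_mul.1 (mul_inv_eq_one.1 h3)

/-- Either the kernel of the two suborbits is the second kernel or the kernels behind distinct points are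
incomparable. -/
theorem Big.all_or_distinct (h : Big G a b d) : K1 G a b ⊓ K1 G b a = K2 G a b ∨
    ∀ c ∈ orbit (stabilizer G a) b, ∀ e ∈ orbit (stabilizer G a) b, c ≠ e →
      ¬ XK G a b ({c} : Set Ω) ≤ XK G a b ({e} : Set Ω) := by
  classical
  haveI := h.data.fin
  by_cases hex : ∀ c ∈ orbit (stabilizer G a) b, ∀ e ∈ orbit (stabilizer G a) b, c ≠ e →
      ¬ XK G a b ({c} : Set Ω) ≤ XK G a b ({e} : Set Ω)
  · exact Or.inr hex
  push Not at hex
  obtain ⟨c, hc, _, ⟨⟨k, hk⟩, rfl⟩, hce, hle⟩ := hex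
  change c ≠ k • b at hce
  change XK G a b ({c} : Set Ω) ≤ XK G a b ({k • b} : Set Ω) at hle
  have hc' : k⁻¹ • c ∈ orbit (stabilizer G a) b := orbit_stable ((stabilizer G a).inv_mem hk) hc
  have hle' : XK G a b ({k⁻¹ • c} : Set Ω) ≤ XK G a b ({b} : Set Ω) := fun x hx => by
    have h1 := XK_singleton_conj hk hx
    rw [smul_inv_smul] at h1
    have h2 := XK_singleton_conj ((stabilizer G a).inv_mem hk) (hle h1)
    rw [inv_smul_smul] at h2
    simpa [mul_assoc] using h2
  obtain ⟨⟨j, hj⟩, hjb⟩ := hc'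
  change j • b = k⁻¹ • c at hjb
  have hmap : (XK G a b ({b} : Set Ω)).map (MulAut.conj j).toMonoidHom ≤ XK G a b ({k⁻¹ • c} : Set Ω) := by
    rintro _ ⟨x, hx, rfl⟩
    rw [← hjb]
    exact XK_singleton_conj hj hx
  have heq : XK G a b ({k⁻¹ • c} : Set Ω) = XK G a b ({b} : Set Ω) := by
    refine Subgroup.eq_of_le_of_card_ge hle' ?_
    refine le_trans (le_of_eq ?_) (Subgroup.card_le_of_le hmap)
    exact (Subgroup.card_map_of_injective (MulAut.conj j).injective).symm
  left
  refine le_antisymm (fun x hx => ?_) K2_le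
  rw [← XK_orbit, mem_XK]
  refine ⟨hx.1, fun e he y hy => ?_⟩
  rcases eq_or_ne e b with rfl | hne
  · exact ((mem_XK.1 (XK_base (G := G) a e ▸ hx : x ∈ XK G a e ({e} : Set Ω))).2 e rfl y hy)
  · have hne' : k⁻¹ • c ≠ b := fun e' => hce (by rw [← e', smul_inv_smul])
    obtain ⟨π, hπ, hπe⟩ := alt_transitive
      ((show 3 ≤ d - 1 by have := h.six; omega).trans_eq ((card_cut h.data).symm.trans Nat.card_eq_fintype_card))
      (⟨k⁻¹ • c, orbit_stable ((stabilizer G a).inv_mem hk) hc, hne'⟩ : ↥(orbit (stabilizer G a) b \ {b}))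
      ⟨e, he, hne⟩
    obtain ⟨i, rfl⟩ := h.theta_alt hπ
    have hie : (i : G) • k⁻¹ • c = e := congrArg Subtype.val hπe
    have h1 : (i : G)⁻¹ * x * (i : G) ∈ XK G a b ({b} : Set Ω) := by
      rw [XK_base]
      refine ⟨?_, ?_⟩
      · simpa using conj_mem_of_le_normalizer le_normalizer_K1 ((stabilizer G a).inv_mem i.2.1) hx.1
      · simpa using conj_mem_of_le_normalizer le_normalizer_K1 ((stabilizer G b).inv_mem i.2.2) hx.2
    rw [← heq] at h1
    have h2 := XK_singleton_conj i.2.1 h1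
    rw [hie] at h2
    have h3 := (mem_XK.1 h2).2 e rfl y hy
    simpa [mul_assoc] using h3

theorem XK_normal [Finite G] {s : Set Ω} {m x : G} (hm : m ∈ K1 G a b) (hs : s ⊆ orbit (stabilizer G a) b)
    (hx : x ∈ XK G a b s) : m * x * m⁻¹ ∈ XK G a b s :=
  XK_conj (K1_le hm).1 (fun c hc => by rwa [(mem_fixingSubgroup_iff G).1 ((K1 G a b).inv_mem hm).2 c (hs hc)]) hx

theorem mem_XK_insert {s : Set Ω} {c : Ω} {x : G} :
    x ∈ XK G a b (insert c s) ↔ x ∈ XK G a b s ∧ x ∈ XK G a b ({c} : Set Ω) := by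
  simp only [mem_XK, Set.mem_insert_iff, Set.mem_singleton_iff, forall_eq_or_imp, forall_eq]
  tauto

theorem XK_empty : XK G a b (∅ : Set Ω) = K1 G a b :=
  Subgroup.ext fun _ => mem_XK.trans ⟨And.left, fun h => ⟨h, fun c hc => absurd hc (Set.notMem_empty c)⟩⟩

theorem Big.chain (h : Big G a b d) (hK : K2 G a b = ⊥) (hdist : ∀ c ∈ orbit (stabilizer G a) b,
      ∀ e ∈ orbit (stabilizer G a) b, c ≠ e → ¬ XK G a b ({c} : Set Ω) ≤ XK G a b ({e} : Set Ω))
    {N : Subgroup G} (hN : N ≤ K1 G a b) (hn : ∀ m ∈ stabilizer G a, ∀ x ∈ N, m * x * m⁻¹ ∈ N) (hne : N ≠ ⊥)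
    (s : Finset Ω) : ↑s ⊆ orbit (stabilizer G a) b →
      ∀ c ∈ orbit (stabilizer G a) b, c ∉ s → ¬ N ⊓ XK G a b ↑s ≤ XK G a b ({c} : Set Ω) := by
  classical
  haveI := h.data.fin
  induction s using Finset.induction with
  | empty =>
      intro _ c hc _ hle
      rw [Finset.coe_empty, XK_empty, inf_eq_left.2 hN] at hle
      refine hne (le_bot_iff.1 fun x hx => ?_)
      rw [← hK, ← XK_orbit, mem_XK]
      refine ⟨hN hx, fun e he y hy => ?_⟩
      obtain ⟨⟨j, hj⟩, rfl⟩ := hc
      obtain ⟨⟨k, hk⟩, rfl⟩ := he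
      have h1 : (j * k⁻¹) * x * (j * k⁻¹)⁻¹ ∈ N :=
        hn _ ((stabilizer G a).mul_mem hj ((stabilizer G a).inv_mem hk)) x hx
      have h2 := XK_conj (a := a) (b := b) (t := ({k • b} : Set Ω))
        ((stabilizer G a).mul_mem hk ((stabilizer G a).inv_mem hj))
        (fun e he => by
          rw [Set.mem_singleton_iff] at he
          subst he
          show (k * j⁻¹)⁻¹ • k • b ∈ ({j • b} : Set Ω)
          rw [Set.mem_singleton_iff, mul_inv_rev, inv_inv, mul_smul, inv_smul_smul]) (hle h1)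
      have h3 := (mem_XK.1 h2).2 (k • b) rfl y hy
      simpa [mul_assoc] using h3
  | @insert e s hes ih =>
      intro hsub c hc hcs
      rw [Finset.coe_insert, Set.insert_subset_iff] at hsub
      rw [Finset.mem_insert, not_or] at hcs
      intro hle
      refine h.inter_not_le hc (U := N ⊓ XK G a b ↑s) (inf_le_left.trans hN)
        (fun m hm x hx => ⟨hn m (K1_le hm).1 x hx.1, XK_normal hm hsub.2 hx.2⟩) (V := XK G a b ({e} : Set Ω))
        inf_le_left (fun m hm x hx => XK_normal hm (Set.singleton_subset_iff.2 hsub.1) hx)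
        (ih hsub.2 c hc hcs.2) (hdist e hsub.1 c hc (Ne.symm hcs.1)) fun x hx => hle ⟨hx.1.1, ?_⟩
      rw [Finset.coe_insert]
      exact mem_XK_insert.2 ⟨hx.1.2, hx.2⟩

open scoped Classical in
theorem Big.card_step (h : Big G a b d) {c : Ω} (hc : c ∈ orbit (stabilizer G a) b) {U : Subgroup G}
    (hU : U ≤ K1 G a b) (hnU : ∀ m ∈ K1 G a b, ∀ x ∈ U, m * x * m⁻¹ ∈ U)
    (hUc : ¬ U ≤ XK G a b ({c} : Set Ω)) :
    Nat.card ↥(U ⊓ XK G a b ({c} : Set Ω)) * Nat.card (alternatingGroup ↥(orbit (stabilizer G b) a \ {a})) ≤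
      Nat.card U := by
  haveI := h.data.fin
  obtain ⟨⟨k, hk⟩, rfl⟩ := hc
  change ¬ U ≤ XK G a b ({k • b} : Set Ω) at hUc
  obtain ⟨u1, u2, u3⟩ := transport hk hU hnU
  have himg := h.image_big u1 u2 (fun hle => hUc fun x hx => (u3 x hx).1 (hle ⟨x, hx, rfl⟩))
  set U' := U.map (MulAut.conj k⁻¹).toMonoidHom
  let ψ := (theta G b a).comp (Subgroup.inclusion (u1.trans (K1_le_I a b)))
  have h1 := ψ.ker.card_mul_index
  rw [Subgroup.index_ker, show Nat.card U' = Nat.card U from
    Subgroup.card_map_of_injective (MulAut.conj k⁻¹).injective] at h1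
  refine le_of_le_of_eq (Nat.mul_le_mul ?_ (Subgroup.card_le_of_le (fun π hπ => ?_))) h1
  · change Nat.card ↥(U ⊓ XK G a b ({k • b} : Set Ω)) ≤ _
    refine Nat.card_le_card_of_injective (fun x => ⟨⟨_, x, x.2.1, rfl⟩, ?_⟩) fun x y e => ?_
    · have := (u3 x x.2.1).2 x.2.2
      rw [XK_base] at this
      exact (theta_eq_one _).2 this.2
    · exact Subtype.ext ((MulAut.conj k⁻¹).injective (congrArg (fun t : ψ.ker => ((t.1 : U') : G)) e))
  · obtain ⟨u, hu, rfl⟩ := himg hπ
    exact ⟨⟨u, hu⟩, rfl⟩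

open scoped Classical in
theorem Big.lower (h : Big G a b d) (hK : K2 G a b = ⊥) (hdist : ∀ c ∈ orbit (stabilizer G a) b,
      ∀ e ∈ orbit (stabilizer G a) b, c ≠ e → ¬ XK G a b ({c} : Set Ω) ≤ XK G a b ({e} : Set Ω))
    {N : Subgroup G} (hN : N ≤ K1 G a b) (hn : ∀ m ∈ stabilizer G a, ∀ x ∈ N, m * x * m⁻¹ ∈ N) (hne : N ≠ ⊥) :
    Nat.card (alternatingGroup ↥(orbit (stabilizer G b) a \ {a})) ^ d ≤ Nat.card N := by
  haveI := h.data.fin
  suffices hs : ∀ s : Finset Ω, ↑s ⊆ orbit (stabilizer G a) b → Nat.card ↥(N ⊓ XK G a b ↑s) *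
      Nat.card (alternatingGroup ↥(orbit (stabilizer G b) a \ {a})) ^ s.card ≤ Nat.card N by
    have h1 := hs (orbit (stabilizer G a) b).toFinset (by simp)
    rw [Set.coe_toFinset, XK_orbit, hK, inf_bot_eq, Subgroup.card_bot, one_mul,
      ← Set.ncard_eq_toFinset_card', ← Nat.card_coe_set_eq, h.data.card] at h1
    exact h1
  intro s
  induction s using Finset.induction with
  | empty =>
      intro _
      rw [Finset.card_empty, pow_zero, mul_one]
      exact Subgroup.card_le_of_le inf_le_left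
  | @insert c s hcs ih =>
      intro hsub
      rw [Finset.coe_insert, Set.insert_subset_iff] at hsub
      have h1 := h.card_step hsub.1 (U := N ⊓ XK G a b ↑s) (inf_le_left.trans hN)
        (fun m hm x hx => ⟨hn m (K1_le hm).1 x hx.1, XK_normal hm hsub.2 hx.2⟩)
        (h.chain hK hdist hN hn hne s hsub.2 c hsub.1 hcs)
      rw [show (N ⊓ XK G a b ↑s) ⊓ XK G a b ({c} : Set Ω) = N ⊓ XK G a b ↑(insert c s) from
        Subgroup.ext fun x => by rw [Finset.coe_insert, Subgroup.mem_inf, Subgroup.mem_inf, Subgroup.mem_inf,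
          mem_XK_insert, and_assoc]] at h1
      rw [Finset.card_insert_of_notMem hcs, pow_succ', ← mul_assoc]
      exact (Nat.mul_le_mul_right _ h1).trans (ih hsub.2)

theorem upper (h : Data G a b d) {U : Subgroup G} (hU : U ≤ K1 G a b) (s : Finset Ω) :
    ↑s ⊆ orbit (stabilizer G a) b →
      Nat.card U ≤ Nat.card ↥(U ⊓ XK G a b ↑s) * (d - 1).factorial ^ s.card := by
  classical
  haveI := h.fin
  induction s using Finset.induction with
  | empty =>
      intro _
      rw [Finset.coe_empty, XK_empty, inf_eq_left.2 hU, Finset.card_empty, pow_zero, mul_one]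
  | @insert c s hcs ih =>
      intro hsub
      rw [Finset.coe_insert, Set.insert_subset_iff] at hsub
      refine (ih hsub.2).trans ?_
      rw [Finset.card_insert_of_notMem hcs, pow_succ', ← mul_assoc]
      refine Nat.mul_le_mul_right _ ?_
      let ψ := (resHom (inS_stable a b c)).comp
        (Subgroup.inclusion ((inf_le_left.trans hU).trans (K1_fix hsub.1)) : ↥(U ⊓ XK G a b ↑s) →* _)
      rw [← ψ.ker.card_mul_index, Subgroup.index_ker]
      refine Nat.mul_le_mul ?_ ?_
      · refine Nat.card_le_card_of_injective (fun x => ⟨(x.1 : G), ?_⟩) fun x y e => ?_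
        · have hx := x.1.2
          have hk := MonoidHom.mem_ker.1 x.2
          rw [MonoidHom.comp_apply, resHom_eq_one, mem_fixingSubgroup_iff] at hk
          refine ⟨hx.1, ?_⟩
          rw [Finset.coe_insert]
          refine mem_XK_insert.2 ⟨hx.2, mem_XK.2 ⟨hU hx.1, fun e he y hy => ?_⟩⟩
          rw [Set.mem_singleton_iff] at he
          subst he
          by_cases hya : y = a
          · subst hya; exact (hU hx.1).1
          · exact hk y ⟨hy, hya⟩
        · exact Subtype.ext (Subtype.ext (congrArg Subtype.val e :))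
      · refine (Subgroup.card_le_card_group _).trans_eq ?_
        rw [Nat.card_perm, card_inS h hsub.1]

theorem arith {h f d : ℕ} (hd : 6 ≤ d) (hf : f = (d - 1).factorial) (hh : 2 * h = f) :
    f ^ (d - 1) < h ^ d ∧ d.factorial * f < h ^ d := by
  have hpow : ∀ m, 6 ≤ m → 8 * m < (m - 1).factorial ∧ 2 ^ m < (m - 1).factorial := by
    intro m hm
    induction m, hm using Nat.le_induction with
    | base => decide
    | succ m hm ih =>
        have : (m + 1 - 1).factorial = m * (m - 1).factorial := by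
          rw [Nat.add_sub_cancel, ← Nat.mul_factorial_pred (by omega : m ≠ 0)]
        rw [this]
        constructor
        · nlinarith [ih.1]
        · rw [pow_succ]; nlinarith [ih.2]
  obtain ⟨h1, h2⟩ := hpow d hd
  obtain ⟨e, rfl⟩ : ∃ e, d = e + 1 := ⟨d - 1, by omega⟩
  simp only [Nat.add_sub_cancel] at *
  subst hf
  constructor
  · have h3 : 2 ^ e < h := by rw [pow_succ] at h2; omega
    rw [← hh, mul_pow, pow_succ, mul_comm (h ^ e)]
    exact Nat.mul_lt_mul_of_pos_right h3 (pow_pos (by omega) _)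
  · have h3 : h ^ 3 ≤ h ^ (e + 1) := Nat.pow_le_pow_right (by omega) (by omega)
    refine lt_of_lt_of_le ?_ h3
    rw [Nat.factorial_succ, ← hh]
    have h4 : 4 * (e + 1) < h := by omega
    have : h ^ 3 = h * (h * h) := by ring
    rw [this, show (e + 1) * (2 * h) * (2 * h) = 4 * (e + 1) * (h * h) by ring]
    exact Nat.mul_lt_mul_of_pos_right h4 (Nat.mul_pos (by omega) (by omega))

theorem Big.inf_bot_aux (h : Big G a b d) (hK : K2 G a b = ⊥) : K1 G a b ⊓ K1 G b a = ⊥ := by
  classical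
  haveI := h.data.fin
  rcases h.all_or_distinct with e | hdist
  · rw [e, hK]
  set O := orbit (stabilizer G a) b with hO
  set M := K1 G a b ⊓ XK G a b (O \ {b}) with hM
  have hfin : ↑(O.toFinset.erase b) = O \ {b} := by simp
  have hMnot : ¬ M ≤ XK G a b ({b} : Set Ω) := by
    have := h.chain hK hdist le_rfl (fun m hm x hx => conj_mem_of_le_normalizer le_normalizer_K1 hm hx) h.ne
      (O.toFinset.erase b) (by rw [hfin]; exact Set.sdiff_subset) b (mem_orbit_self b) (Finset.notMem_erase _ _)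
    rwa [hfin] at this
  have hcomm : ∀ m ∈ M, ∀ u ∈ K1 G b a, m * u = u * m := by
    intro m hm u hu
    have hmI := K1_le_I a b hm.1
    have h1 : m * u * m⁻¹ * u⁻¹ ∈ K1 G b a :=
      (K1 G b a).mul_mem (conj_mem_of_le_normalizer le_normalizer_K1 hmI.1 hu) (inv_mem hu)
    have h2 : m * u * m⁻¹ * u⁻¹ ∈ M := by
      have huI := K1_le hu
      have h3 : u * m⁻¹ * u⁻¹ ∈ M := ⟨conj_mem_of_le_normalizer le_normalizer_K1 huI.2 (inv_mem hm.1),
        XK_conj (s := O \ {b}) (t := O \ {b}) huI.2 (fun c hc => ⟨orbit_stable ((stabilizer G a).inv_mem huI.2) hc.1, fun e => hc.2 (by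
          rw [Set.mem_singleton_iff] at e ⊢
          exact (inv_smul_eq_iff.1 e).trans huI.1)⟩) (inv_mem hm.2)⟩
      rw [mul_assoc m, mul_assoc m]
      exact M.mul_mem hm h3
    have h4 : m * u * m⁻¹ * u⁻¹ ∈ K2 G a b := by
      rw [← XK_orbit, mem_XK]
      refine ⟨h2.1, fun c hc y hy => ?_⟩
      by_cases hcb : c = b
      · subst hcb
        rw [inS_base] at hy
        exact (mem_fixingSubgroup_iff G).1 h1.2 y hy
      · exact (mem_XK.1 h2.2).2 c ⟨hc, hcb⟩ y hy
    rw [hK, Subgroup.mem_bot, mul_inv_eq_one, mul_inv_eq_iff_eq_mul] at h4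
    exact h4
  have hall : K1 G b a ⊓ K1 G a b = K2 G b a := by
    refine h.symm.all_or_distinct.resolve_right fun hd' => ?_
    obtain ⟨m, hm, hmb⟩ := SetLike.not_le_iff_exists.1 hMnot
    have hmB := K1_le_I a b hm.1
    obtain ⟨x, hx, hmx⟩ : ∃ x ∈ orbit (stabilizer G b) a, m • x ≠ x := by
      by_contra hc
      push Not at hc
      refine hmb ?_
      rw [XK_base]
      exact ⟨hm.1, hmB.1, (mem_fixingSubgroup_iff G).2 hc⟩
    refine hd' x hx (m • x) (orbit_stable hmB.1 hx) (Ne.symm hmx) fun u hu => ?_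
    have h1 := XK_singleton_conj hmB.1 hu
    rwa [hcomm m hm u hu.1, mul_inv_cancel_right] at h1
  by_contra hne
  set X := K1 G a b ⊓ K1 G b a with hX
  have hXn : ∀ m ∈ stabilizer G b, ∀ x ∈ X, m * x * m⁻¹ ∈ X := fun m hm x hx => by
    have hx' : x ∈ K2 G b a := hall.le ⟨hx.2, hx.1⟩
    exact (K2_le.trans (le_of_eq (inf_comm _ _))) (conj_mem_of_le_normalizer le_normalizer_K2 hm hx')
  obtain ⟨e⟩ := h.data.symm.iso
  set W := ((X.subgroupOf (stabilizer G b)).map e.toMonoidHom).map (stabilizer G a).subtype with hW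
  have hXB : X ≤ stabilizer G b := inf_le_right.trans inf_le_left
  have hcW : Nat.card W = Nat.card X := by
    rw [hW, Subgroup.card_map_of_injective (stabilizer G a).subtype_injective,
      Subgroup.card_map_of_injective e.injective, Nat.card_congr (Subgroup.subgroupOfEquivOfLe hXB).toEquiv]
  have hWn : ∀ m ∈ stabilizer G a, ∀ x ∈ W, m * x * m⁻¹ ∈ W := by
    rintro m hm _ ⟨_, ⟨x, hx, rfl⟩, rfl⟩
    obtain ⟨m', hm'⟩ := e.surjective ⟨m, hm⟩
    refine ⟨_, ⟨m' * x * m'⁻¹, hXn _ m'.2 _ hx, rfl⟩, ?_⟩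
    simp [hm']
  have hfull := upper h.data (U := X) inf_le_left (O.toFinset.erase b) (by rw [hfin]; exact Set.sdiff_subset)
  rw [show X ⊓ XK G a b ↑(O.toFinset.erase b) = ⊥ by
      rw [hfin, eq_bot_iff, ← hK, ← XK_orbit]
      intro x hx
      rw [mem_XK]
      refine ⟨hx.1.1, fun c hc y hy => ?_⟩
      by_cases hcb : c = b
      · subst hcb
        rw [inS_base] at hy
        exact (mem_fixingSubgroup_iff G).1 hx.1.2.2 y hy
      · exact (mem_XK.1 hx.2).2 c ⟨hc, hcb⟩ y hy,
    Subgroup.card_bot, one_mul, Finset.card_erase_of_mem (Set.mem_toFinset.2 (mem_orbit_self b)),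
    ← Set.ncard_eq_toFinset_card', ← Nat.card_coe_set_eq, h.data.card] at hfull
  have hhalf : 2 * Nat.card (alternatingGroup ↥(orbit (stabilizer G b) a \ {a})) = (d - 1).factorial := by
    haveI : Nontrivial ↥(orbit (stabilizer G b) a \ {a}) := by
      rw [← Finite.one_lt_card_iff_nontrivial, card_cut h.data.symm]; have := h.six; omega
    rw [two_mul_nat_card_alternatingGroup, Nat.card_perm, card_cut h.data.symm]
  obtain ⟨hA, hB⟩ := arith h.six rfl hhalf
  by_cases hWK : W ⊓ K1 G a b = ⊥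
  · have hKa : Nat.card (K1 G a b) ≤ Nat.card X * (d - 1).factorial := by
      have := upper h.data (U := K1 G a b) le_rfl {b} (by simp)
      rwa [Finset.card_singleton, pow_one, Finset.coe_singleton, XK_base,
        show K1 G a b ⊓ (K1 G a b ⊓ K1 G b a) = X from inf_eq_right.2 inf_le_left] at this
    have hWd : Nat.card W ≤ d.factorial := by
      have hWA : W ≤ stabilizer G a := Subgroup.map_subtype_le _
      refine le_trans (Nat.card_le_card_of_injective
        ((phi G a b).comp (Subgroup.inclusion hWA) : W → _) ?_) (le_of_eq (by rw [Nat.card_perm, h.data.card]))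
      rw [injective_iff_map_eq_one]
      intro w hw
      rw [MonoidHom.comp_apply, phi_eq_one] at hw
      exact Subtype.ext (Subgroup.mem_bot.1 (hWK.le ⟨w.2, hw⟩))
    have h1 := h.lower hK hdist le_rfl (fun m hm x hx => conj_mem_of_le_normalizer le_normalizer_K1 hm hx) h.ne
    have h2 := Nat.mul_le_mul_right (d - 1).factorial (hcW ▸ hWd)
    omega
  · have h1 := h.lower hK hdist (N := W ⊓ K1 G a b) inf_le_right
      (fun m hm x hx => ⟨hWn m hm x hx.1, conj_mem_of_le_normalizer le_normalizer_K1 hm hx.2⟩) hWK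
    have h2 := Subgroup.card_le_of_le (inf_le_left : W ⊓ K1 G a b ≤ W)
    omega

theorem Big.inf_bot (h : Big G a b d) : K1 G a b ⊓ K1 G b a = ⊥ := by
  rcases h.second_bot with e | e
  · exact h.inf_bot_aux e
  · rw [inf_comm]; exact h.symm.inf_bot_aux e

variable (G) (a b) in
/-- The action of the first kernel on the second suborbit. -/
def kappa :
    K1 G a b →* Equiv.Perm ↥(orbit (stabilizer G b) a \ {a}) :=
  (theta G b a).comp (Subgroup.inclusion (K1_le_I a b))

theorem Big.kappa_inj (h : Big G a b d) : Function.Injective (kappa G a b) := by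
  rw [injective_iff_map_eq_one]
  intro k hk
  rw [kappa, MonoidHom.comp_apply, theta_eq_one] at hk
  exact Subtype.ext (Subgroup.mem_bot.1 (h.inf_bot.le ⟨k.2, hk⟩))

theorem Big.comm (h : Big G a b d) {k u : G} (hk : k ∈ K1 G a b) (hu : u ∈ K1 G b a) : k * u = u * k := by
  haveI := h.data.fin
  have h1 : k * u * k⁻¹ * u⁻¹ ∈ K1 G a b ⊓ K1 G b a := by
    refine ⟨?_, (K1 G b a).mul_mem (conj_mem_of_le_normalizer le_normalizer_K1 (K1_le hk).2 hu) (inv_mem hu)⟩
    rw [mul_assoc k, mul_assoc k]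
    exact (K1 G a b).mul_mem hk (conj_mem_of_le_normalizer le_normalizer_K1 (K1_le hu).2 (inv_mem hk))
  rwa [h.inf_bot, Subgroup.mem_bot, mul_inv_eq_one, mul_inv_eq_iff_eq_mul] at h1

/-- The elements of the point stabiliser centralising the first kernel. -/
def cent (G : Type*) [Group G] {Ω : Type*} [MulAction G Ω] (a b : Ω) : Subgroup (stabilizer G a) :=
  (Subgroup.centralizer (K1 G a b : Set G)).subgroupOf (stabilizer G a)

theorem mem_cent {g : stabilizer G a} :
    g ∈ cent G a b ↔ ∀ k ∈ K1 G a b, k * (g : G) = (g : G) * k := by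
  rw [cent, Subgroup.mem_subgroupOf, Subgroup.mem_centralizer_iff]
  rfl

open scoped Classical in
theorem Big.cent_alt (h : Big G a b d) :
    alternatingGroup (orbit (stabilizer G a) b) ≤ (cent G a b).map (phi G a b) := by
  haveI := h.data.fin
  have h5 : 5 ≤ Fintype.card (orbit (stabilizer G a) b) := by
    rw [← Nat.card_eq_fintype_card, h.data.card]; have := h.six; omega
  refine (normal_cases h5 h.phi_alt ?_).resolve_left fun e => ?_
  · rintro _ ⟨g, rfl⟩ _ ⟨c, hc, rfl⟩
    refine ⟨g * c * g⁻¹, mem_cent.2 fun k hk => ?_, by rw [map_mul, map_mul, map_inv]⟩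
    have h1 := mem_cent.1 hc _ (conj_mem_of_le_normalizer le_normalizer_K1 ((stabilizer G a).inv_mem g.2) hk)
    simp only [Subgroup.coe_mul, Subgroup.coe_inv]
    calc k * ((g : G) * c * (g : G)⁻¹) = g * (((g : G)⁻¹ * k * (g : G)⁻¹⁻¹) * c) * (g : G)⁻¹ := by group
      _ = g * (c * ((g : G)⁻¹ * k * (g : G)⁻¹⁻¹)) * (g : G)⁻¹ := by rw [h1]
      _ = g * c * (g : G)⁻¹ * k := by group
  · refine h.K1_symm_ne (le_bot_iff.1 fun u hu => h.inf_bot.le ⟨?_, hu⟩)
    have h1 : phi G a b ⟨u, (K1_le hu).2⟩ ∈ (cent G a b).map (phi G a b) :=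
      ⟨_, mem_cent.2 fun k hk => h.comm hk hu, rfl⟩
    rw [e, Subgroup.mem_bot, phi_eq_one] at h1
    exact h1

/-- The conjugation action on the image of the first kernel is given by a permutation. -/
theorem Big.conj_perm (h : Big G a b d) (g : stabilizer G a) :
    ∃ π : Equiv.Perm ↥(orbit (stabilizer G b) a \ {a}), ∀ k : K1 G a b, ∀ k' : K1 G a b,
      (k' : G) = g * k * (g : G)⁻¹ → kappa G a b k' = π * kappa G a b k * π⁻¹ := by
  classical
  haveI := h.data.fin
  obtain ⟨σ, hσ, hσb⟩ := alt_transitive ((show 3 ≤ d by have := h.six; omega).trans_eq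
    (h.data.card.symm.trans Nat.card_eq_fintype_card)) (⟨b, mem_orbit_self b⟩ : orbit (stabilizer G a) b)
    ⟨(g : G) • b, orbit_stable g.2 (mem_orbit_self b)⟩
  obtain ⟨c, hc, rfl⟩ := h.cent_alt hσ
  have hcb : (c : G) • b = (g : G) • b := congrArg Subtype.val hσb
  have hi : (c : G)⁻¹ * g ∈ stabilizer G b ⊓ stabilizer G a :=
    ⟨show ((c : G)⁻¹ * g) • b = b by rw [mul_smul, ← hcb, inv_smul_smul],
      (stabilizer G a).mul_mem ((stabilizer G a).inv_mem c.2) g.2⟩
  refine ⟨theta G b a ⟨_, hi⟩, fun k k' e => ?_⟩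
  have hk : (c : G)⁻¹ * g * k * ((c : G)⁻¹ * g)⁻¹ = k' := by
    have := mem_cent.1 hc k' k'.2
    calc (c : G)⁻¹ * g * k * ((c : G)⁻¹ * g)⁻¹ = (c : G)⁻¹ * ((g : G) * k * (g : G)⁻¹) * c := by group
      _ = (c : G)⁻¹ * ((k' : G) * c) := by rw [← e, mul_assoc]
      _ = k' := by rw [this]; group
  rw [kappa, MonoidHom.comp_apply, MonoidHom.comp_apply, ← map_inv (theta G b a), ← map_mul, ← map_mul]
  exact congrArg _ (Subtype.ext hk.symm)

theorem Big.conj_unique (h : Big G a b d) (g : stabilizer G a)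
    {π π' : Equiv.Perm ↥(orbit (stabilizer G b) a \ {a})}
    (hπ : ∀ k : K1 G a b, ∀ k' : K1 G a b,
      (k' : G) = g * k * (g : G)⁻¹ → kappa G a b k' = π * kappa G a b k * π⁻¹)
    (hπ' : ∀ k : K1 G a b, ∀ k' : K1 G a b,
      (k' : G) = g * k * (g : G)⁻¹ → kappa G a b k' = π' * kappa G a b k * π'⁻¹) : π = π' := by
  classical
  haveI := h.data.fin
  refine (inv_mul_eq_one.1 (centralizer_eq_one (H := (kappa G a b).range) (le_trans (by omega) h.symm.five) ?_
    (n := π'⁻¹ * π) ?_)).symm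
  · intro x hx
    obtain ⟨u, hu, rfl⟩ := h.K1_image hx
    exact ⟨⟨u, hu⟩, rfl⟩
  · rintro _ ⟨k, rfl⟩
    let k' : K1 G a b := ⟨g * k * (g : G)⁻¹, conj_mem_of_le_normalizer le_normalizer_K1 g.2 k.2⟩
    have e := (hπ k k' rfl).symm.trans (hπ' k k' rfl)
    calc π'⁻¹ * π * kappa G a b k = π'⁻¹ * (π * kappa G a b k * π⁻¹) * π := by group
      _ = π'⁻¹ * (π' * kappa G a b k * π'⁻¹) * π := by rw [e]
      _ = kappa G a b k * (π'⁻¹ * π) := by group

/-- The conjugation action on the image of the first kernel. -/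
theorem Big.exists_hom (h : Big G a b d) :
    ∃ ρ : stabilizer G a →* Equiv.Perm ↥(orbit (stabilizer G b) a \ {a}),
      (∀ g ∈ cent G a b, ρ g = 1) ∧ ∀ k : K1 G a b, ρ ⟨k, (K1_le k.2).1⟩ = kappa G a b k := by
  haveI := h.data.fin
  choose r hr using h.conj_perm
  refine ⟨MonoidHom.mk' r fun x y => h.conj_unique (x * y) (hr _) fun k k'' e => ?_, ?_, ?_⟩
  · let k' : K1 G a b := ⟨y * k * (y : G)⁻¹, conj_mem_of_le_normalizer le_normalizer_K1 y.2 k.2⟩
    rw [hr x k' k'' (by rw [e]; simp only [Subgroup.coe_mul, k']; group), hr y k k' rfl]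
    group
  · intro g hg
    refine h.conj_unique g (hr g) fun k k' e => ?_
    rw [show k' = k from Subtype.ext (by rw [e, ← mem_cent.1 hg k k.2, mul_inv_cancel_right]), one_mul, inv_one,
      mul_one]
  · intro k
    refine h.conj_unique ⟨k, (K1_le k.2).1⟩ (hr _) fun k₁ k₂ e => ?_
    rw [show k₂ = k * k₁ * k⁻¹ from Subtype.ext e, map_mul, map_mul, map_inv]

section Signs

variable {α β : Type*} [Fintype α] [DecidableEq α] [Fintype β] [DecidableEq β]

theorem signs_determine {H : Subgroup (Equiv.Perm α × Equiv.Perm β)}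
    (hα : ∀ π ∈ alternatingGroup α, (π, 1) ∈ H) (hβ : ∀ π ∈ alternatingGroup β, (1, π) ∈ H)
    {x y : Equiv.Perm α × Equiv.Perm β} (hx : x ∈ H) (h1 : Equiv.Perm.sign y.1 = Equiv.Perm.sign x.1)
    (h2 : Equiv.Perm.sign y.2 = Equiv.Perm.sign x.2) : y ∈ H := by
  have e1 : y.1 * x.1⁻¹ ∈ alternatingGroup α := by
    rw [Equiv.Perm.mem_alternatingGroup, map_mul, map_inv, h1, mul_inv_cancel]
  have e2 : y.2 * x.2⁻¹ ∈ alternatingGroup β := by
    rw [Equiv.Perm.mem_alternatingGroup, map_mul, map_inv, h2, mul_inv_cancel]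
  have := H.mul_mem (H.mul_mem (hα _ e1) (hβ _ e2)) hx
  convert this using 1
  simp [Prod.ext_iff]

theorem classify {H : Subgroup (Equiv.Perm α × Equiv.Perm β)}
    (hα : ∀ π ∈ alternatingGroup α, (π, 1) ∈ H) (hβ : ∀ π ∈ alternatingGroup β, (1, π) ∈ H) :
    ((∀ x ∈ H, Equiv.Perm.sign x.1 = 1) ∧
      (H = (alternatingGroup α).prod (alternatingGroup β) ∨ H = (alternatingGroup α).prod ⊤)) ∨
    ((∃ x ∈ H, Equiv.Perm.sign x.1 = -1) ∧
      (H = ⊤ ∨ H = (⊤ : Subgroup (Equiv.Perm α)).prod (alternatingGroup β) ∨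
        H = ((Equiv.Perm.sign.comp (MonoidHom.fst (Equiv.Perm α) (Equiv.Perm β))) *
          (Equiv.Perm.sign.comp (MonoidHom.snd (Equiv.Perm α) (Equiv.Perm β)))).ker)) := by
  have key := fun {x y : Equiv.Perm α × Equiv.Perm β} => signs_determine hα hβ (x := x) (y := y)
  by_cases hA : ∀ x ∈ H, Equiv.Perm.sign x.1 = 1
  · refine Or.inl ⟨hA, ?_⟩
    by_cases hB : ∀ x ∈ H, Equiv.Perm.sign x.2 = 1
    · left
      ext y
      simp only [Subgroup.mem_prod, Equiv.Perm.mem_alternatingGroup]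
      exact ⟨fun hy => ⟨hA y hy, hB y hy⟩,
        fun ⟨h1, h2⟩ => key H.one_mem (by simpa using h1) (by simpa using h2)⟩
    · right
      push Not at hB
      obtain ⟨x, hx, hx2⟩ := hB
      replace hx2 := (Int.units_eq_one_or _).resolve_left hx2
      ext y
      simp only [Subgroup.mem_prod, Equiv.Perm.mem_alternatingGroup, Subgroup.mem_top, and_true]
      refine ⟨hA y, fun h1 => ?_⟩
      rcases Int.units_eq_one_or (Equiv.Perm.sign y.2) with h2 | h2
      · exact key H.one_mem (by simpa using h1) (by simpa using h2)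
      · exact key hx (h1.trans (hA x hx).symm) (h2.trans hx2.symm)
  · push Not at hA
    obtain ⟨x, hx, hx1⟩ := hA
    replace hx1 := (Int.units_eq_one_or _).resolve_left hx1
    refine Or.inr ⟨⟨x, hx, hx1⟩, ?_⟩
    by_cases hC : ∃ z ∈ H, Equiv.Perm.sign z.1 = 1 ∧ Equiv.Perm.sign z.2 = -1
    · left
      obtain ⟨z, hz, hz1, hz2⟩ := hC
      refine eq_top_iff.2 fun y _ => ?_
      rcases Int.units_eq_one_or (Equiv.Perm.sign y.1) with h1 | h1 <;>
        rcases Int.units_eq_one_or (Equiv.Perm.sign y.2) with h2 | h2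
      · exact key H.one_mem (by simpa using h1) (by simpa using h2)
      · exact key hz (h1.trans hz1.symm) (h2.trans hz2.symm)
      · rcases Int.units_eq_one_or (Equiv.Perm.sign x.2) with h3 | h3
        · exact key hx (h1.trans hx1.symm) (h2.trans h3.symm)
        · exact key (H.mul_mem hx hz) (by simp [hx1, hz1, h1]) (by simp [h3, hz2, h2])
      · rcases Int.units_eq_one_or (Equiv.Perm.sign x.2) with h3 | h3
        · exact key (H.mul_mem hx hz) (by simp [hx1, hz1, h1]) (by simp [h3, hz2, h2])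
        · exact key hx (h1.trans hx1.symm) (h2.trans h3.symm)
    · right
      push Not at hC
      by_cases hD : ∀ z ∈ H, Equiv.Perm.sign z.2 = 1
      · left
        ext y
        simp only [Subgroup.mem_prod, Equiv.Perm.mem_alternatingGroup, Subgroup.mem_top, true_and]
        refine ⟨hD y, fun h2 => ?_⟩
        rcases Int.units_eq_one_or (Equiv.Perm.sign y.1) with h1 | h1
        · exact key H.one_mem (by simpa using h1) (by simpa using h2)
        · exact key hx (h1.trans hx1.symm) (h2.trans (hD x hx).symm)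
      · right
        push Not at hD
        obtain ⟨w, hw, hw2⟩ := hD
        replace hw2 := (Int.units_eq_one_or _).resolve_left hw2
        have hw1 : Equiv.Perm.sign w.1 = -1 :=
          (Int.units_eq_one_or _).resolve_left fun e => hC w hw e hw2
        ext y
        simp only [MonoidHom.mem_ker, MonoidHom.mul_apply, MonoidHom.comp_apply, MonoidHom.coe_fst, MonoidHom.coe_snd]
        constructor
        · intro hy
          rcases Int.units_eq_one_or (Equiv.Perm.sign y.1) with h1 | h1 <;>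
            rcases Int.units_eq_one_or (Equiv.Perm.sign y.2) with h2 | h2
          · rw [h1, h2]; rfl
          · exact absurd h2 (hC y hy h1)
          · exact absurd (show Equiv.Perm.sign (w * y).2 = -1 by simp [hw2, h2])
              (hC _ (H.mul_mem hw hy) (by simp [hw1, h1]))
          · rw [h1, h2]; rfl
        · intro hy
          rcases Int.units_eq_one_or (Equiv.Perm.sign y.1) with h1 | h1 <;>
            rcases Int.units_eq_one_or (Equiv.Perm.sign y.2) with h2 | h2
          · exact key H.one_mem (by simpa using h1) (by simpa using h2)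
          · rw [h1, h2] at hy; exact absurd hy (by decide)
          · rw [h1, h2] at hy; exact absurd hy (by decide)
          · exact key hw (h1.trans hw1.symm) (h2.trans hw2.symm)

/-- `A_n × S_m` does not map onto `S_n` for `m < n`. -/
theorem no_surjection {γ : Type*} [Fintype γ] [DecidableEq γ] (h5 : 5 ≤ Fintype.card α)
    (hαγ : Fintype.card α = Fintype.card γ) (hlt : Fintype.card β < Fintype.card α)
    (g : (alternatingGroup α) × Equiv.Perm β →* Equiv.Perm γ) (hg : Function.Surjective g) : False := by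
  set g1 := g.comp (MonoidHom.inl _ _) with hg1
  set g2 := g.comp (MonoidHom.inr _ _) with hg2
  have hsplit : ∀ x, g x = g1 x.1 * g2 x.2 := fun x => by
    rw [hg1, hg2, MonoidHom.comp_apply, MonoidHom.comp_apply, ← map_mul]
    simp
  rcases normal_cases (N := g1.range) (by omega) (le_top : alternatingGroup γ ≤ ⊤) (by
    rintro σ - _ ⟨u, rfl⟩
    obtain ⟨v, rfl⟩ := hg σ
    refine ⟨v.1 * u * v.1⁻¹, ?_⟩
    rw [hg1, MonoidHom.comp_apply, MonoidHom.comp_apply, ← map_inv, ← map_mul, ← map_mul]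
    refine congrArg g ?_
    simp [Prod.ext_iff]) with e | e
  · have hs : Function.Surjective g2 := fun σ => by
      obtain ⟨v, rfl⟩ := hg σ
      refine ⟨v.2, ?_⟩
      have : g1 v.1 = 1 := Subgroup.mem_bot.1 (e.le ⟨v.1, rfl⟩)
      rw [hsplit, this, one_mul]
    have := Nat.card_le_card_of_surjective g2 hs
    rw [Nat.card_perm, Nat.card_perm, Nat.card_eq_fintype_card, Nat.card_eq_fintype_card] at this
    have h6 := Nat.factorial_le (show Fintype.card β ≤ Fintype.card γ - 1 by omega)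
    have h7 := Nat.mul_factorial_pred (n := Fintype.card γ) (by omega)
    have h8 := (Fintype.card γ - 1).factorial_pos
    have h9 := Nat.mul_le_mul_right (Fintype.card γ - 1).factorial (show 5 ≤ Fintype.card γ by omega)
    omega
  · have h2 : ∀ v, g2 v = 1 := fun v => by
      refine centralizer_eq_one (by omega) e ?_
      rintro _ ⟨u, rfl⟩
      rw [hg1, hg2, MonoidHom.comp_apply, MonoidHom.comp_apply, ← map_mul, ← map_mul]
      simp
    have hs : Function.Surjective g1 := fun σ => by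
      obtain ⟨v, rfl⟩ := hg σ
      exact ⟨v.1, by rw [hsplit, h2, mul_one]⟩
    have hle := Nat.card_le_card_of_surjective g1 hs
    haveI : Nontrivial α := Fintype.one_lt_card_iff_nontrivial.1 (by omega)
    have h3 := two_mul_nat_card_alternatingGroup (α := α)
    rw [Nat.card_perm, Nat.card_eq_fintype_card (α := α)] at h3
    rw [Nat.card_perm, Nat.card_eq_fintype_card (α := γ), ← hαγ] at hle
    have := (Fintype.card α).factorial_pos
    omega

end Signs

open scoped Classical in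
/-- Knapp's theorem. -/
theorem Big.knapp (h : Big G a b d) :
    ((phi G a b).range.index = 2 ∧
      Nonempty (stabilizer G a ≃* alternatingGroup (Fin d) × alternatingGroup (Fin (d - 1)))) ∨
    ((phi G a b).range = ⊤ ∧
      (Nonempty (stabilizer G a ≃* Equiv.Perm (Fin d) × Equiv.Perm (Fin (d - 1))) ∨
       Nonempty (stabilizer G a ≃* Equiv.Perm (Fin d) × alternatingGroup (Fin (d - 1))) ∨
       Nonempty (stabilizer G a ≃* ((Equiv.Perm.sign.comp (MonoidHom.fst (Equiv.Perm (Fin d)) (Equiv.Perm (Fin (d - 1))))) *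
         (Equiv.Perm.sign.comp (MonoidHom.snd (Equiv.Perm (Fin d)) (Equiv.Perm (Fin (d - 1)))))).ker))) := by
  haveI := h.data.fin
  obtain ⟨ρ, hρC, hρK⟩ := h.exists_hom
  let eΔ : orbit (stabilizer G a) b ≃ Fin d := (Finite.equivFinOfCardEq h.data.card)
  let eΓ : ↥(orbit (stabilizer G b) a \ {a}) ≃ Fin (d - 1) := Finite.equivFinOfCardEq (card_cut h.data.symm)
  set Φ : stabilizer G a →* Equiv.Perm (Fin d) × Equiv.Perm (Fin (d - 1)) :=
    (eΔ.permCongrHom.toMonoidHom.comp (phi G a b)).prod (eΓ.permCongrHom.toMonoidHom.comp ρ) with hΦ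
  have hinj : Function.Injective Φ := by
    rw [injective_iff_map_eq_one]
    intro g hg
    have h1 : phi G a b g = 1 := eΔ.permCongrHom.injective ((congrArg Prod.fst hg).trans (map_one _).symm)
    have h2 : ρ g = 1 := eΓ.permCongrHom.injective ((congrArg Prod.snd hg).trans (map_one _).symm)
    have h3 := (phi_eq_one g).1 h1
    have h4 : kappa G a b ⟨g, h3⟩ = 1 := (hρK ⟨g, h3⟩).symm.trans h2
    rw [← map_one (kappa G a b)] at h4
    exact Subtype.ext (congrArg Subtype.val (h.kappa_inj h4) :)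
  have hα : ∀ π ∈ alternatingGroup (Fin d), (π, 1) ∈ Φ.range := by
    intro π hπ
    obtain ⟨c, hc, e⟩ := h.cent_alt (show eΔ.symm.permCongr π ∈ alternatingGroup _ by
      rw [Equiv.Perm.mem_alternatingGroup, Equiv.Perm.sign_permCongr]; exact Equiv.Perm.mem_alternatingGroup.1 hπ)
    refine ⟨c, Prod.ext ?_ ?_⟩
    · show eΔ.permCongr (phi G a b c) = π
      rw [e]; ext x; simp
    · show eΓ.permCongrHom (ρ c) = 1
      rw [hρC c hc, map_one]
  have hβ : ∀ π ∈ alternatingGroup (Fin (d - 1)), (1, π) ∈ Φ.range := by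
    intro π hπ
    obtain ⟨u, hu, e⟩ := h.K1_image (show eΓ.symm.permCongr π ∈ alternatingGroup _ by
      rw [Equiv.Perm.mem_alternatingGroup, Equiv.Perm.sign_permCongr]; exact Equiv.Perm.mem_alternatingGroup.1 hπ)
    refine ⟨⟨u, (K1_le hu).1⟩, Prod.ext ?_ ?_⟩
    · show eΔ.permCongrHom (phi G a b ⟨u, _⟩) = 1
      rw [(phi_eq_one (⟨(u : G), (K1_le hu).1⟩ : stabilizer G a)).2 hu, map_one]
    · show eΓ.permCongr (ρ ⟨u, _⟩) = π
      rw [show ρ ⟨(u : G), (K1_le hu).1⟩ = eΓ.symm.permCongr π from (hρK ⟨u, hu⟩).trans e]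
      ext x; simp
  let eA : stabilizer G a ≃* Φ.range := MonoidHom.ofInjective hinj
  haveI : Nontrivial (orbit (stabilizer G a) b) := by
    rw [← Finite.one_lt_card_iff_nontrivial, h.data.card]; have := h.six; omega
  have hsgn : ∀ g, Equiv.Perm.sign (Φ g).1 = Equiv.Perm.sign (phi G a b g) := fun g =>
    Equiv.Perm.sign_permCongr eΔ (phi G a b g)
  rcases classify hα hβ with ⟨hA, hcase⟩ | ⟨⟨x, ⟨g, rfl⟩, hg⟩, hcase⟩
  · have halt : (phi G a b).range = alternatingGroup (orbit (stabilizer G a) b) := by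
      refine le_antisymm ?_ h.phi_alt
      rintro _ ⟨g, rfl⟩
      rw [Equiv.Perm.mem_alternatingGroup, ← hsgn]
      exact hA _ ⟨g, rfl⟩
    refine Or.inl ⟨?_, ?_⟩
    · rw [halt, alternatingGroup.index_eq_two]
    rcases hcase with e | e
    · exact ⟨eA.trans ((MulEquiv.subgroupCongr e).trans (Subgroup.prodEquiv _ _))⟩
    exfalso
    let eB : stabilizer G a ≃* alternatingGroup (Fin d) × Equiv.Perm (Fin (d - 1)) :=
      eA.trans ((MulEquiv.subgroupCongr e).trans ((Subgroup.prodEquiv _ _).trans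
        (MulEquiv.prodCongr (MulEquiv.refl _) Subgroup.topEquiv)))
    obtain ⟨f⟩ := h.data.iso
    haveI : Nontrivial (Fin d) := Fin.nontrivial_iff_two_le.2 h.data.two
    have hd := h.six
    have hcA : 2 * Nat.card (stabilizer G a) = d.factorial * (d - 1).factorial := by
      rw [Nat.card_congr eB.toEquiv, Nat.card_prod, ← mul_assoc, two_mul_nat_card_alternatingGroup, Nat.card_perm,
        Nat.card_perm, Nat.card_fin, Nat.card_fin]
    have hK1 : 2 * Nat.card (stabilizer G a) = Nat.card (K1 G a b) * d.factorial := by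
      rw [card_eq_mul a b, halt, mul_left_comm, two_mul_nat_card_alternatingGroup, Nat.card_perm, h.data.card]
    have hKa : Nat.card (K1 G a b) = (d - 1).factorial := by
      have := d.factorial_pos
      exact Nat.eq_of_mul_eq_mul_right this (by rw [← hK1, hcA, mul_comm])
    have hI : Nat.card (K1 G a b) * Nat.card (K1 G b a) * d ≤ Nat.card (stabilizer G a) := by
      have h1 := Subgroup.card_mul_index (stabilizer (stabilizer G a) b)
      rw [MulAction.index_stabilizer, ← Nat.card_coe_set_eq, h.data.card] at h1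
      rw [← h1, ← Nat.card_prod]
      refine Nat.mul_le_mul_right _ (Nat.card_le_card_of_injective
        (fun x : K1 G a b × K1 G b a => (⟨⟨(x.1 : G) * x.2,
          (stabilizer G a).mul_mem (K1_le x.1.2).1 (K1_le x.2.2).2⟩,
          (stabilizer G b).mul_mem (K1_le x.1.2).2 (K1_le x.2.2).1⟩ : stabilizer (stabilizer G a) b)) ?_)
      intro x y e'
      have e2 : (x.1 : G) * x.2 = y.1 * y.2 := congrArg (fun t => ((t : stabilizer G a) : G)) (congrArg Subtype.val e')
      have h2 : (y.1 : G)⁻¹ * x.1 = y.2 * (x.2 : G)⁻¹ := by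
        rw [eq_mul_inv_iff_mul_eq, mul_assoc, e2, inv_mul_cancel_left]
      have h3 : (y.1 : G)⁻¹ * x.1 = 1 := Subgroup.mem_bot.1 (h.inf_bot.le
        ⟨(K1 G a b).mul_mem (inv_mem y.1.2) x.1.2, h2 ▸ (K1 G b a).mul_mem y.2.2 (inv_mem x.2.2)⟩)
      rw [inv_mul_eq_one] at h3
      rw [h3, mul_right_inj] at e2
      exact Prod.ext (Subtype.ext h3.symm) (Subtype.ext e2)
    have hrange : (phi G b a).range = ⊤ := by
      refine Subgroup.eq_top_of_le_card _ ?_
      rw [Nat.card_perm, h.data.symm.card]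
      have h2 := card_eq_mul (G := G) b a
      rw [← Nat.card_congr f.toEquiv] at h2
      rw [h2, hKa] at hI
      have h3 : (d - 1).factorial * d = d.factorial := by rw [mul_comm]; exact Nat.mul_factorial_pred (by omega)
      rw [mul_right_comm, h3, mul_comm] at hI
      exact Nat.le_of_mul_le_mul_left hI Nat.card_pos
    refine no_surjection (α := Fin d) (β := Fin (d - 1)) (by simp; omega) ?_ (by simp; omega)
      ((phi G b a).comp (f.toMonoidHom.comp eB.symm.toMonoidHom)) ?_
    · rw [Fintype.card_fin, ← h.data.symm.card, Nat.card_eq_fintype_card]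
    · exact (MonoidHom.range_eq_top.1 hrange).comp (f.surjective.comp eB.symm.surjective)
  · refine Or.inr ⟨eq_top_iff.2 fun σ _ => ?_, ?_⟩
    · rcases Int.units_eq_one_or (Equiv.Perm.sign σ) with h1 | h1
      · exact h.phi_alt (Equiv.Perm.mem_alternatingGroup.2 h1)
      · have h2 := h.phi_alt (show σ * (phi G a b g)⁻¹ ∈ alternatingGroup _ by
          rw [Equiv.Perm.mem_alternatingGroup, map_mul, map_inv, h1, ← hsgn, hg]; rfl)
        simpa using (phi G a b).range.mul_mem h2 ⟨g, rfl⟩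
    rcases hcase with e | e | e
    · exact Or.inl ⟨eA.trans ((MulEquiv.subgroupCongr e).trans Subgroup.topEquiv)⟩
    · exact Or.inr (Or.inl ⟨eA.trans ((MulEquiv.subgroupCongr e).trans ((Subgroup.prodEquiv _ _).trans
        (MulEquiv.prodCongr Subgroup.topEquiv (MulEquiv.refl _))))⟩)
    · exact Or.inr (Or.inr ⟨eA.trans (MulEquiv.subgroupCongr e)⟩)

end CfsgLib.WielandtAlternating
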