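import Mathlib
import Cfsg.Agent.Lib.Large
import Cfsg.Agent.Lib.PResidual
import Cfsg.Agent.Lib.Elementary

/-!
`Y`-minimal groups: the unique maximal subgroup over `Y`.
-/

set_option autoImplicit false
set_option linter.unusedVariables false

namespace CfsgLib.YMax

open Cfsg CfsgLib

variable {L : Type*} [Group L] [Finite L] {p : ℕ} [Fact p.Prime] {L₀ Y : Subgroup L}

omit [Finite L] [Fact p.Prime] in
theorem le_of_ne_top [Finite L] (hL₀ : IsCoatom L₀) (hY : Y ≤ L₀) (hmin : IsMinimalOver Y) {X : Subgroup L}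
    (hYX : Y ≤ X) (hX : X ≠ ⊤) : X ≤ L₀ := by
  obtain ⟨M, -, huniq⟩ := hmin.2
  obtain ⟨K, hK, hle⟩ := (eq_top_or_exists_le_coatom X).resolve_left hX
  exact hle.trans (le_of_eq ((huniq K ⟨hK, hYX.trans hle⟩).trans (huniq L₀ ⟨hL₀, hY⟩).symm))

omit [Finite L] [Fact p.Prime] in
theorem not_normal_le (hL₀ : IsCoatom L₀) (hmin : IsMinimalOver Y) {N : Subgroup L} [N.Normal] (hYN : Y ≤ N) :
    ¬ N ≤ L₀ := fun h => hL₀.1 (top_le_iff.mp (hmin.1.ge.trans ((Subgroup.normalClosure_le_normal hYN).trans h)))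

omit [Fact p.Prime] in
theorem normalizer_eq (hL₀ : IsCoatom L₀) (hY : Y ≤ L₀) (hmin : IsMinimalOver Y) :
    Subgroup.normalizer (L₀ : Set L) = L₀ := by
  refine le_antisymm (le_of_ne_top hL₀ hY hmin (hY.trans Subgroup.le_normalizer) fun h => ?_) Subgroup.le_normalizer
  haveI : L₀.Normal := Subgroup.normalizer_eq_top_iff.mp h
  exact not_normal_le hL₀ hmin hY le_rfl

omit [Fact p.Prime] in
theorem sup_conj (hL₀ : IsCoatom L₀) (hY : Y ≤ L₀) (hmin : IsMinimalOver Y) {g : L} (hg : g ∉ L₀) :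
    Y ⊔ Y.map (MulAut.conj g).toMonoidHom = ⊤ := by
  by_contra h
  have h1 := le_of_ne_top hL₀ hY hmin le_sup_left h
  set X := L₀.map (MulAut.conj g⁻¹).toMonoidHom with hX
  have hcard : Nat.card ↥X = Nat.card ↥L₀ := Subgroup.card_map_of_injective (MulEquiv.injective (MulAut.conj g⁻¹))
  have h2 : X ≤ L₀ := by
    refine le_of_ne_top hL₀ hY hmin (fun y hy => Local.mem_map_conj.mpr ?_) fun e => hL₀.1 ?_
    · rw [inv_inv]
      exact h1 (Subgroup.mem_sup_right ⟨y, hy, by simp⟩)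
    · exact Subgroup.eq_top_of_card_eq L₀ (by rw [← hcard, e, Subgroup.card_top])
  have h3 : g⁻¹ ∈ Subgroup.normalizer (L₀ : Set L) :=
    Local.mem_normalizer_of_map_conj_eq (Subgroup.eq_of_le_of_card_ge h2 hcard.ge)
  rw [normalizer_eq hL₀ hY hmin] at h3
  exact hg (by simpa using L₀.inv_mem h3)

theorem sup_pGroup_le (hL₀ : IsCoatom L₀) (hY : Y ≤ L₀) (hmin : IsMinimalOver Y) {X : Subgroup L}
    (hX : IsPGroup p ↥X) (hYX : Y ≤ X) : X ≤ L₀ := by
  refine le_of_ne_top hL₀ hY hmin hYX fun h => ?_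
  have htop : IsPGroup p L := fun x => by
    obtain ⟨k, hk⟩ := hX ⟨x, h ▸ Subgroup.mem_top x⟩
    exact ⟨k, congrArg Subtype.val hk⟩
  haveI := (index_coatom_pGroup htop hL₀).1
  exact not_normal_le hL₀ hmin hY le_rfl

theorem core_le (hL₀ : IsCoatom L₀) (hY : Y ≤ L₀) (hmin : IsMinimalOver Y) (hYp : IsPGroup p ↥Y) :
    Cfsg.pCore p L ≤ L₀ :=
  le_sup_right.trans (sup_pGroup_le hL₀ hY hmin (hYp.to_sup_of_normal_right (isPGroup_pCore p)) le_sup_left)

/-- A Sylow subgroup of `L₀` over `Y` is a Sylow subgroup of `L`, with normalizer in `L₀`. -/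
theorem sylow_facts (hL₀ : IsCoatom L₀) (hmin : IsMinimalOver Y) {T : Subgroup L} (hTp : IsPGroup p ↥T) (hTL : T ≤ L₀)
    (hYT : Y ≤ T) (hmax : ∀ U : Subgroup L, U ≤ L₀ → IsPGroup p ↥U → T ≤ U → U = T) :
    Subgroup.normalizer (T : Set L) ≤ L₀ ∧ ∃ P : Sylow p L, (P : Subgroup L) = T := by
  have hY := hYT.trans hTL
  have hN : Subgroup.normalizer (T : Set L) ≤ L₀ := by
    refine le_of_ne_top hL₀ hY hmin (hYT.trans Subgroup.le_normalizer) fun h => ?_
    haveI : T.Normal := Subgroup.normalizer_eq_top_iff.mp h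
    exact not_normal_le hL₀ hmin hYT hTL
  refine ⟨hN, ?_⟩
  obtain ⟨P, hP⟩ := hTp.exists_le_sylow
  refine ⟨P, le_antisymm ?_ hP⟩
  have h1 : (P : Subgroup L) ⊓ Subgroup.normalizer (T : Set L) = T :=
    hmax _ (inf_le_right.trans hN) (P.2.to_le inf_le_left) (le_inf hP Subgroup.le_normalizer)
  haveI : Group.IsNilpotent ↥(P : Subgroup L) := P.2.isNilpotent
  by_contra hne
  have hlt : T.subgroupOf (P : Subgroup L) < ⊤ := lt_top_iff_ne_top.mpr fun e => hne (Subgroup.subgroupOf_eq_top.mp e)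
  obtain ⟨x, hx, hxT⟩ := SetLike.exists_of_lt (normalizerCondition_of_isNilpotent (T.subgroupOf (P : Subgroup L)) hlt)
  refine hxT (h1.le ⟨x.2, ?_⟩)
  exact Subgroup.mem_normalizer_iff.mpr fun y => by
    constructor
    · intro hy
      exact (Subgroup.mem_normalizer_iff.mp hx ⟨y, hP hy⟩).mp hy
    · intro hy
      have hyP : y ∈ (P : Subgroup L) := by
        have := (P : Subgroup L).mul_mem ((P : Subgroup L).mul_mem ((P : Subgroup L).inv_mem x.2) (hP hy)) x.2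
        simpa [mul_assoc] using this
      exact (Subgroup.mem_normalizer_iff.mp hx ⟨y, hyP⟩).mpr hy

/-- A subgroup of index prime to `p` other than `L` lies in a conjugate of `L₀`. -/
theorem le_conj (hL₀ : IsCoatom L₀) (hY : Y ≤ L₀) (hmin : IsMinimalOver Y) (hYp : IsPGroup p ↥Y) {M : Subgroup L}
    (hidx : ¬ p ∣ M.index) (hM : M ≠ ⊤) : ∃ g : L, M ≤ L₀.map (MulAut.conj g).toMonoidHom := by
  obtain ⟨S⟩ : Nonempty (Sylow p ↥M) := inferInstance
  obtain ⟨P, hP⟩ := (S.2.map M.subtype).exists_le_sylow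
  obtain ⟨k, hk⟩ := IsPGroup.iff_card.mp P.2
  have hPM : (P : Subgroup L) ≤ M := by
    refine le_trans (Subgroup.eq_of_le_of_card_ge hP ?_).ge (Subgroup.map_subtype_le _)
    rw [Subgroup.card_map_of_injective M.subtype_injective, Sylow.card_eq_multiplicity P, Sylow.card_eq_multiplicity S]
    refine le_of_eq ?_
    rw [← M.card_mul_index, Nat.factorization_mul Nat.card_pos.ne' M.index_ne_zero_of_finite, Finsupp.add_apply,
      Nat.factorization_eq_zero_of_not_dvd hidx, add_zero]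
  obtain ⟨Q, hQ⟩ := hYp.exists_le_sylow
  obtain ⟨g, hg⟩ := MulAction.exists_smul_eq L Q P
  rw [← hg, Sylow.coe_subgroup_smul, Subgroup.pointwise_smul_def] at hPM
  refine ⟨g, fun m hm => ?_⟩
  set X := M.map (MulAut.conj g⁻¹).toMonoidHom
  have h1 : X ≤ L₀ := by
    refine le_of_ne_top hL₀ hY hmin (fun y hy => ?_) fun e => hM (Subgroup.eq_top_of_card_eq M ?_)
    · refine ⟨g * y * g⁻¹, hPM ⟨y, hQ hy, rfl⟩, ?_⟩
      show g⁻¹ * (g * y * g⁻¹) * g⁻¹⁻¹ = y
      group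
    · rw [← Subgroup.card_map_of_injective (f := (MulAut.conj g⁻¹).toMonoidHom) (K := M)
        (MulEquiv.injective (MulAut.conj g⁻¹))]
      show Nat.card ↥X = _
      rw [e, Subgroup.card_top]
  refine ⟨g⁻¹ * m * g⁻¹⁻¹, h1 ⟨m, hm, rfl⟩, ?_⟩
  show g * (g⁻¹ * m * g⁻¹⁻¹) * g⁻¹ = m
  group

/-- A normal subgroup of `L` inside `L₀` is `p`-closed. -/
theorem isPClosed_of_normal_le (hL₀ : IsCoatom L₀) (hY : Y ≤ L₀) (hmin : IsMinimalOver Y) (hYp : IsPGroup p ↥Y)
    {N : Subgroup L} [hN : N.Normal] (hNL : N ≤ L₀) : Cfsg.IsPClosed p ↥N := by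
  intro R
  obtain ⟨P, hP⟩ := (R.2.map N.subtype).exists_le_sylow
  obtain ⟨Q, hQ⟩ := hYp.exists_le_sylow
  obtain ⟨g, hg⟩ := MulAction.exists_smul_eq L Q P
  set R' := (R : Subgroup ↥N).map N.subtype
  have hRN : Subgroup.normalizer (R' : Set L) ⊔ N = ⊤ := Sylow.normalizer_sup_eq_top R
  have hPN : (P : Subgroup L) ≤ Subgroup.normalizer (R' : Set L) := Large.le_normalizer_of fun x hx a ha => by
    obtain ⟨a, ha', rfl⟩ := ha
    have h1 : x * a * x⁻¹ ∈ N := hN.conj_mem a a.2 x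
    have h2 : x * a * x⁻¹ ∈ (P : Subgroup L) :=
      (P : Subgroup L).mul_mem ((P : Subgroup L).mul_mem hx (hP ⟨a, ha', rfl⟩)) ((P : Subgroup L).inv_mem hx)
    have h3 : ((P : Subgroup L).subgroupOf N) = (R : Subgroup ↥N) :=
      R.3 (P.2.comap_of_injective N.subtype N.subtype_injective) fun r hr => hP ⟨r, hr, rfl⟩
    exact ⟨⟨_, h1⟩, h3 ▸ h2, rfl⟩
  have htop : Subgroup.normalizer (R' : Set L) = ⊤ := by
    by_contra hne
    have hidx : ¬ p ∣ (Subgroup.normalizer (R' : Set L)).index :=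
      fun h => P.not_dvd_index (h.trans (Subgroup.index_dvd_of_le hPN))
    obtain ⟨x, hx⟩ := le_conj hL₀ hY hmin hYp hidx hne
    have hNx : N ≤ L₀.map (MulAut.conj x).toMonoidHom := fun n hn => ⟨x⁻¹ * n * x⁻¹⁻¹, hNL (hN.conj_mem n hn _), by
      show x * (x⁻¹ * n * x⁻¹⁻¹) * x⁻¹ = n
      group⟩
    refine hL₀.1 (Subgroup.eq_top_of_card_eq L₀ ?_)
    rw [← Subgroup.card_map_of_injective (f := (MulAut.conj x).toMonoidHom) (K := L₀) (MulEquiv.injective (MulAut.conj x)),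
      top_le_iff.mp (hRN.ge.trans (sup_le hx hNx)), Subgroup.card_top]
  haveI : R'.Normal := Subgroup.normalizer_eq_top_iff.mp htop
  have : (R : Subgroup ↥N) = R'.subgroupOf N := (Subgroup.comap_map_eq_self_of_injective N.subtype_injective _).symm
  rw [this]
  infer_instance

omit [Fact p.Prime] in
theorem index_eq_relIndex {X N : Subgroup L} [N.Normal] (h : X ⊔ N = ⊤) : X.index = X.relIndex N := by
  have h1 : N.relIndex X = N.index := by rw [← Subgroup.relIndex_sup_right (H := X) (K := N), h, Subgroup.relIndex_top_right]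
  have h2 := Subgroup.relIndex_mul_index (inf_le_left : X ⊓ N ≤ X)
  have h3 := Subgroup.relIndex_mul_index (inf_le_right : X ⊓ N ≤ N)
  rw [Subgroup.inf_relIndex_left, h1] at h2
  rw [Subgroup.inf_relIndex_right, ← h2, mul_comm N.index] at h3
  exact (Nat.eq_of_mul_eq_mul_right (Nat.pos_of_ne_zero N.index_ne_zero_of_finite) h3).symm

end CfsgLib.YMax
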