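import Mathlib
import Cfsg.Agent.Lib.LLemma
import Cfsg.Agent.Lib.SL2Sylow
import Cfsg.Agent.Lib.Suzuki.Lie

/-!
Elementary abelian `p`-subgroups normalised by `N(Y)` in a group which is generated by any two distinct conjugates of `Y`.
-/

set_option autoImplicit false
set_option linter.unusedVariables false

namespace CfsgLib.YMinimal

open Cfsg CfsgLib

/-- Every nontrivial elementary abelian `p`-subgroup of `N(Y)` normalised by `N(Y)` is `Y`. -/
def OnlyY (p : ℕ) {X : Type*} [Group X] (Y : Subgroup X) : Prop :=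
  ∀ V : Subgroup X, V ≤ Subgroup.normalizer (Y : Set X) → Subgroup.normalizer (Y : Set X) ≤ Subgroup.normalizer (V : Set X) →
    IsElementaryAbelian p V → V ≠ ⊥ → V = Y

theorem elem_map {X X' : Type*} [Group X] [Group X'] (f : X →* X') {p : ℕ} {V : Subgroup X}
    (h : IsElementaryAbelian p V) : IsElementaryAbelian p (V.map f) := by
  refine ⟨⟨⟨fun a b => Subtype.ext ?_⟩⟩, ?_⟩
  · obtain ⟨a', ha, ea⟩ := a.2
    obtain ⟨b', hb, eb⟩ := b.2
    show (a : X') * b = b * a
    rw [← ea, ← eb, ← map_mul, ← map_mul]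
    exact congrArg (fun z : ↥V => f z) (h.1.is_comm.comm ⟨a', ha⟩ ⟨b', hb⟩)
  · rintro _ ⟨v, hv, rfl⟩
    rw [← map_pow, h.2 v hv, map_one]

theorem onlyY_of_equiv {p : ℕ} {X X' : Type*} [Group X] [Group X'] (e : X ≃* X') {Y : Subgroup X}
    (h : OnlyY p (Y.map e.toMonoidHom)) : OnlyY p Y := by
  intro V h1 h2 h3 h4
  have hN : ∀ W : Subgroup X, (Subgroup.normalizer (W : Set X)).map e.toMonoidHom =
      Subgroup.normalizer ((W.map e.toMonoidHom : Subgroup X') : Set X') := fun W =>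
    Subgroup.map_equiv_normalizer_eq W e
  refine Subgroup.map_injective e.injective (h _ ?_ ?_ (elem_map _ h3) ?_)
  · rw [← hN]; exact Subgroup.map_mono h1
  · rw [← hN, ← hN]; exact Subgroup.map_mono h2
  · rwa [ne_eq, Subgroup.map_eq_bot_iff_of_injective _ e.injective]

theorem elem_isPGroup {p : ℕ} {X : Type*} [Group X] {V : Subgroup X} (h : IsElementaryAbelian p V) : IsPGroup p ↥V :=
  fun v => ⟨1, Subtype.ext (by simpa using h.2 v v.2)⟩

/-- A group generated by two conjugate involutions and without normal `2`-subgroup. -/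
theorem onlyY_card_two {X : Type*} [Group X] [Finite X] {Y : Subgroup X} {g : X} (hY : Nat.card ↥Y = 2)
    (hgen : Y ⊔ Y.map (MulAut.conj g).toMonoidHom = ⊤) (hcore : Cfsg.pCore 2 X = ⊥) : OnlyY 2 Y := by
  obtain ⟨⟨t, ht⟩, ht1, hall⟩ : ∃ t : ↥Y, t ≠ 1 ∧ ∀ y : ↥Y, y = 1 ∨ y = t := by
    obtain ⟨t, ht⟩ := (Nat.card_eq_two_iff' (1 : ↥Y)).mp hY
    exact ⟨t, ht.1, fun y => (em (y = 1)).imp id fun h => ht.2 y h⟩
  have ht1' : t ≠ 1 := fun h => ht1 (Subtype.ext h)
  have htt : t * t = 1 := by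
    rcases hall ⟨t * t, Y.mul_mem ht ht⟩ with h | h
    · exact congrArg Subtype.val h
    · exact absurd (mul_eq_left.mp (congrArg Subtype.val h : t * t = t)) ht1'
  have htinv : t⁻¹ = t := inv_eq_of_mul_eq_one_right htt
  set s := g * t * g⁻¹ with hs
  have hss : s * s = 1 := by rw [hs, show g * t * g⁻¹ * (g * t * g⁻¹) = g * (t * t) * g⁻¹ by group, htt]; group
  have hgen' : ∀ K : Subgroup X, t ∈ K → s ∈ K → K = ⊤ := fun K h1 h2 => top_le_iff.mp (hgen.symm.le.trans (sup_le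
    (fun y hy => by
      rcases hall ⟨y, hy⟩ with h | h
      · rw [show y = 1 from congrArg Subtype.val h]; exact K.one_mem
      · rwa [show y = t from congrArg Subtype.val h])
    (by
      rintro _ ⟨y, hy, rfl⟩
      rcases hall ⟨y, hy⟩ with h | h
      · rw [show y = 1 from congrArg Subtype.val h, map_one]; exact K.one_mem
      · rw [show y = t from congrArg Subtype.val h]; exact h2)))
  set r := t * s with hr
  have htr : t * r * t⁻¹ = r⁻¹ := by
    rw [hr, htinv, mul_inv_rev, htinv, inv_eq_of_mul_eq_one_right hss, ← mul_assoc t t, htt, one_mul]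
  set R := Subgroup.zpowers r
  have htR : t ∈ Subgroup.normalizer (R : Set X) := by
    refine Local.mem_normalizer_of_map_conj_eq ?_
    rw [MonoidHom.map_zpowers]
    show Subgroup.zpowers (t * r * t⁻¹) = _
    rw [htr, Subgroup.zpowers_inv]
  have hRT : R ⊔ Subgroup.zpowers t = ⊤ := hgen' _ (Subgroup.mem_sup_right (Subgroup.mem_zpowers t)) (by
    rw [show s = t * r by rw [hr, ← mul_assoc, htt, one_mul]]
    exact Subgroup.mul_mem _ (Subgroup.mem_sup_right (Subgroup.mem_zpowers t)) (Subgroup.mem_sup_left (Subgroup.mem_zpowers r)))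
  have hNY : ∀ x : X, x ∈ Subgroup.normalizer (Y : Set X) → x ∈ Y := by
    intro x hx
    have hxt : x * t = t * x := by
      rcases hall ⟨x * t * x⁻¹, (Subgroup.mem_normalizer_iff.mp hx t).mp ht⟩ with h | h
      · exact absurd (conj_eq_one_iff.mp (congrArg Subtype.val h : x * t * x⁻¹ = 1)) ht1'
      · exact mul_inv_eq_iff_eq_mul.mp (congrArg Subtype.val h : x * t * x⁻¹ = t)
    have hxtop : x ∈ ((R ⊔ Subgroup.zpowers t : Subgroup X) : Set X) := by rw [hRT]; trivial
    rw [Subgroup.coe_mul_of_right_le_normalizer_left R _ (Subgroup.zpowers_le.mpr htR)] at hxtop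
    obtain ⟨y, hy, z, hz, rfl⟩ := hxtop
    have hzY : z ∈ Y := Subgroup.zpowers_le.mpr ht hz
    have hzt : z * t = t * z := by
      obtain ⟨j, rfl⟩ := hz
      exact ((Commute.refl t).zpow_left j).eq
    dsimp only at hxt ⊢
    have hyt : y * t = t * y := by
      rw [mul_assoc, hzt, ← mul_assoc, ← mul_assoc] at hxt
      exact mul_right_cancel hxt
    refine Y.mul_mem ?_ hzY
    obtain ⟨i, rfl⟩ := hy
    have h2 : r ^ i * r ^ i = 1 := by
      have e : t * r ^ i * t⁻¹ = (r ^ i)⁻¹ := by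
        rw [← conj_zpow, htr, inv_zpow]
      rw [← hyt, mul_inv_cancel_right] at e
      exact mul_eq_one_iff_eq_inv.mpr e
    suffices r ^ i = 1 by dsimp only; rw [this]; exact Y.one_mem
    have hcent : Subgroup.centralizer ({r ^ i} : Set X) = ⊤ := hgen' _ (Subgroup.mem_centralizer_singleton_iff.mpr hyt.symm) (by
      rw [show s = t * r by rw [hr, ← mul_assoc, htt, one_mul]]
      exact Subgroup.mul_mem _ (Subgroup.mem_centralizer_singleton_iff.mpr hyt.symm)
        (Subgroup.mem_centralizer_singleton_iff.mpr ((Commute.refl r).zpow_right i).eq))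
    set W := Subgroup.zpowers (r ^ i)
    haveI : W.Normal := ⟨fun w hw x => by
      obtain ⟨j, rfl⟩ := hw
      have hc : Commute x (r ^ i) := Subgroup.mem_centralizer_singleton_iff.mp (hcent ▸ Subgroup.mem_top x)
      rw [(hc.zpow_right j).eq, mul_inv_cancel_right]
      exact ⟨j, rfl⟩⟩
    have hW : IsPGroup 2 ↥W := by
      rintro ⟨w, j, rfl⟩
      refine ⟨1, Subtype.ext ?_⟩
      show ((r ^ i) ^ j) ^ (2 ^ 1 : ℕ) = 1
      rw [pow_one, pow_two, ← Commute.mul_zpow (Commute.refl _), h2, one_zpow]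
    have := le_pCore (N := W) hW
    rw [hcore, le_bot_iff, Subgroup.zpowers_eq_bot] at this
    exact this
  intro V h1 _ h3 h4
  refine Subgroup.eq_of_le_of_card_ge (fun v hv => hNY v (h1 hv)) ?_
  rw [hY]
  exact (Subgroup.one_lt_card_iff_ne_bot V).mpr h4

theorem onlyY_SL2 {p : ℕ} [Fact p.Prime] {F : Type*} [Field F] [Fintype F] [CharP F p]
    {Y : Subgroup (Matrix.SpecialLinearGroup (Fin 2) F)} (hY : IsPGroup p ↥Y) (hcard : Nat.card ↥Y = Fintype.card F) :
    OnlyY p Y := by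
  obtain ⟨P, hP⟩ := hY.exists_le_sylow
  obtain ⟨g, hg⟩ := SL2Sylow.sylow_SL p P
  have hUS : Nat.card ↥(SL2Sylow.US (F := F)) = Fintype.card F := by
    rw [SL2Sylow.US, ← Nat.card_congr (MonoidHom.ofInjective SL2Sylow.us_injective).toEquiv,
      Nat.card_congr Multiplicative.toAdd, Nat.card_eq_fintype_card]
  have hYP : Y = (P : Subgroup _) := Subgroup.eq_of_le_of_card_ge hP (by
    rw [hcard, hg, Subgroup.card_map_of_injective (MulEquiv.injective (MulAut.conj g)), hUS])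
  refine onlyY_of_equiv (MulAut.conj g⁻¹) ?_
  have hY' : Y.map (MulAut.conj g⁻¹).toMonoidHom = SL2Sylow.US := by
    rw [hYP, hg, Subgroup.map_map, SL2Sylow.conj_comp, inv_mul_cancel]
    ext x; simp
  rw [hY']
  intro V h1 h2 h3 h4
  have hVp := elem_isPGroup h3
  have hUp : IsPGroup p ↥(SL2Sylow.US (F := F)) := by
    rw [← hY']; exact hY.map _
  have hVU : V ≤ SL2Sylow.US := by
    have hJ := hVp.to_sup_of_normal_right' hUp h1
    obtain ⟨Q, hQ⟩ := hJ.exists_le_sylow
    have : SL2Sylow.US = (Q : Subgroup (Matrix.SpecialLinearGroup (Fin 2) F)) := Subgroup.eq_of_le_of_card_ge (le_sup_right.trans hQ) (by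
      obtain ⟨g', hg'⟩ := SL2Sylow.sylow_SL p Q
      rw [hg', Subgroup.card_map_of_injective (MulEquiv.injective (MulAut.conj g'))])
    rw [this]; exact le_sup_left.trans hQ
  refine le_antisymm hVU ?_
  rintro _ ⟨x, rfl⟩
  obtain ⟨v, hv, hv1⟩ := (Subgroup.bot_or_exists_ne_one V).resolve_left h4
  obtain ⟨t, rfl⟩ := hVU hv
  set T : AddSubgroup F :=
    { carrier := {a | SL2Sylow.us (Multiplicative.ofAdd a) ∈ V}
      add_mem' := fun {a b} ha hb => by
        show SL2Sylow.us (Multiplicative.ofAdd (a + b)) ∈ V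
        rw [ofAdd_add, map_mul]; exact V.mul_mem ha hb
      zero_mem' := by show SL2Sylow.us 1 ∈ V; rw [map_one]; exact V.one_mem
      neg_mem' := fun {a} ha => by
        show SL2Sylow.us (Multiplicative.ofAdd (-a)) ∈ V
        rw [ofAdd_neg, map_inv]; exact V.inv_mem ha } with hT
  have hsq : ∀ a : F, ∀ b ∈ T, a * a * b ∈ T := by
    intro a b hb
    rcases eq_or_ne a 0 with rfl | ha
    · simp only [mul_zero, zero_mul]; exact T.zero_mem
    let d : Matrix.SpecialLinearGroup (Fin 2) F := ⟨!![a, 0; 0, a⁻¹], by simp [Matrix.det_fin_two_of, ha]⟩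
    have hd : ∀ c : F, d * SL2Sylow.us (Multiplicative.ofAdd c) = SL2Sylow.us (Multiplicative.ofAdd (a * a * c)) * d := fun c => by
      apply Subtype.ext
      show !![a, 0; 0, a⁻¹] * !![1, c; 0, 1] = !![1, a * a * c; 0, 1] * !![a, 0; 0, a⁻¹]
      simp only [Matrix.mul_fin_two]
      ext i j
      fin_cases i <;> fin_cases j <;> simp
      field_simp
    have hdN : d ∈ Subgroup.normalizer ((SL2Sylow.US (F := F)) : Set (Matrix.SpecialLinearGroup (Fin 2) F)) := by
      refine Local.mem_normalizer_of_map_conj_eq (Subgroup.eq_of_le_of_card_ge ?_ ?_)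
      · rintro _ ⟨_, ⟨c, rfl⟩, rfl⟩
        refine ⟨Multiplicative.ofAdd (a * a * c.toAdd), ?_⟩
        show _ = d * SL2Sylow.us c * d⁻¹
        rw [show SL2Sylow.us c = SL2Sylow.us (Multiplicative.ofAdd c.toAdd) from rfl, hd, mul_inv_cancel_right]
      · rw [Subgroup.card_map_of_injective (MulEquiv.injective (MulAut.conj d))]
    have := Large.conj_mem le_rfl (h2 hdN) (show SL2Sylow.us (Multiplicative.ofAdd b) ∈ V from hb)
    rw [hd, mul_inv_cancel_right] at this
    exact this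
  have ht : t.toAdd ∈ T := hv
  have ht0 : t.toAdd ≠ 0 := fun h => hv1 (by rw [show t = 1 from Multiplicative.toAdd.injective h, map_one])
  suffices x.toAdd ∈ T from this
  obtain ⟨c, hc⟩ : ∃ c : F, x.toAdd = c * t.toAdd := ⟨x.toAdd / t.toAdd, (div_mul_cancel₀ _ ht0).symm⟩
  rw [hc]
  by_cases h2' : (2 : F) = 0
  · obtain ⟨a, ha⟩ : IsSquare c :=
      FiniteField.isSquare_of_char_two (CharP.ringChar_of_prime_eq_zero Nat.prime_two (by exact_mod_cast h2')) c
    rw [ha]; exact hsq a _ ht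
  · rw [show c * t.toAdd = (c + 1) / 2 * ((c + 1) / 2) * t.toAdd - (c - 1) / 2 * ((c - 1) / 2) * t.toAdd by field_simp; ring]
    exact T.sub_mem (hsq _ _ ht) (hsq _ _ ht)

theorem onlyY_Sz {F : Type*} [Field F] [Fintype F] {m : ℕ} (hF : Fintype.card F = 2 ^ (2 * m + 1)) (hm : 1 ≤ m)
    {Y : Subgroup ↥(Cfsg.Sz F m)} (hY : IsElementaryAbelian 2 Y) (hcard : Nat.card ↥Y = Fintype.card F) : OnlyY 2 Y := by
  haveI : Fact (Nat.Prime 2) := ⟨Nat.prime_two⟩
  obtain ⟨P, hP⟩ := (elem_isPGroup hY).exists_le_sylow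
  obtain ⟨g, hg⟩ := Suzuki.exists_conj_eq hF hm P
  have hinv : ∀ x ∈ Suzuki.U hF, x ^ 2 = 1 → x ∈ Suzuki.Z hF := by
    rintro x ⟨a, b, rfl⟩ h
    rw [sq, Suzuki.uS_mul, ← Suzuki.uS_zero hF] at h
    have := (Suzuki.uS_inj hF h).2
    have h2 : (2 : F) = 0 := Suzuki.two_eq_zero hF
    have ha : Suzuki.th m a * a = 0 := by linear_combination this - b * h2
    refine ⟨b, ?_⟩
    rcases mul_eq_zero.mp ha with h3 | h3
    · rw [Suzuki.th_eq_zero_iff.mp h3]
    · rw [h3]
  refine onlyY_of_equiv (MulAut.conj g⁻¹) ?_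
  have hY' : Y.map (MulAut.conj g⁻¹).toMonoidHom = Suzuki.Z hF := by
    refine Subgroup.eq_of_le_of_card_ge ?_ (by
      rw [Subgroup.card_map_of_injective (MulEquiv.injective (MulAut.conj g⁻¹)), hcard, Suzuki.card_Z, hF])
    rintro _ ⟨y, hy, rfl⟩
    refine hinv _ ?_ (by rw [← map_pow, hY.2 y hy, map_one])
    obtain ⟨u, hu, rfl⟩ := (hg ▸ hP) hy
    simpa [mul_assoc] using hu
  rw [hY']
  intro V h1 h2 h3 h4
  have hZU : Suzuki.U hF ≤ Subgroup.normalizer ((Suzuki.Z hF) : Set ↥(Cfsg.Sz F m)) := Large.le_normalizer_of fun u hu z hz => by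
    obtain ⟨a, b, rfl⟩ := hu
    obtain ⟨c, rfl⟩ := hz
    refine ⟨c, ?_⟩
    rw [mul_inv_eq_iff_eq_mul, Suzuki.uS_mul, Suzuki.uS_mul]
    simp [add_comm]
  have hVU : V ≤ Suzuki.U hF := by
    have hJ := (elem_isPGroup h3).to_sup_of_normal_left' (Suzuki.U_isPGroup hF) (hZU.trans h2)
    obtain ⟨Q, hQ⟩ := hJ.exists_le_sylow
    have : Suzuki.U hF = (Q : Subgroup _) := Subgroup.eq_of_le_of_card_ge (le_sup_right.trans hQ) (by
      obtain ⟨g', hg'⟩ := Suzuki.exists_conj_eq hF hm Q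
      rw [hg', Subgroup.card_map_of_injective (MulEquiv.injective (MulAut.conj g'))])
    rw [this]; exact le_sup_left.trans hQ
  have hVZ : V ≤ Suzuki.Z hF := fun v hv => hinv v (hVU hv) (h3.2 v hv)
  refine le_antisymm hVZ ?_
  rintro _ ⟨c, rfl⟩
  rcases eq_or_ne c 0 with rfl | hc
  · rw [Suzuki.uS_zero]; exact V.one_mem
  obtain ⟨v, hv, hv1⟩ := (Subgroup.bot_or_exists_ne_one V).resolve_left h4
  obtain ⟨b, rfl⟩ := hVZ hv
  have hb : b ≠ 0 := fun h => hv1 (by rw [h, Suzuki.uS_zero])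
  have hdN : ∀ t : Fˣ, Suzuki.dS hF t ∈ Subgroup.normalizer ((Suzuki.Z hF) : Set ↥(Cfsg.Sz F m)) := fun t => by
    refine Local.mem_normalizer_of_map_conj_eq (Subgroup.eq_of_le_of_card_ge ?_ ?_)
    · rintro _ ⟨_, ⟨a, rfl⟩, rfl⟩
      exact ⟨_, (Suzuki.dS_uS hF t 0 a).trans (by rw [mul_zero])⟩
    · rw [Subgroup.card_map_of_injective (MulEquiv.injective (MulAut.conj (Suzuki.dS hF t)))]
  obtain ⟨u, hu⟩ := Suzuki.th_mul_surj hF (b := c / b) (div_ne_zero hc hb)
  haveI := Suzuki.charTwo hF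
  obtain ⟨w, hw⟩ := (Suzuki.th_bijective hF).2 (u : F)
  have hw0 : w ≠ 0 := fun h => u.ne_zero (by rw [← hw, h, Suzuki.th_zero])
  have := Large.conj_mem le_rfl (h2 (hdN (Units.mk0 w hw0))) hv
  rw [Suzuki.dS_uS, mul_zero] at this
  rwa [show Suzuki.th m ((Units.mk0 w hw0 : Fˣ) : F) * ((Units.mk0 w hw0 : Fˣ) : F) ^ 2 * b = c by
    rw [Units.val_mk0, hw, ← Suzuki.th_th hF w, hw]
    field_simp at hu
    linear_combination hu] at this

end CfsgLib.YMinimal
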